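import Cfsg.Statements.S4143
import Mathlib.GroupTheory.Nilpotent
import Mathlib.GroupTheory.Sylow

set_option autoImplicit false
open Cfsg

namespace Cfsg.Agent.S4143

open Subgroup
open scoped commutatorElement

variable {X : Type*} [Group X]

theorem comm_of_card {p k : ℕ} [Fact p.Prime] (H : Subgroup X) (hH : Nat.card H = p ^ k) (hk : k ≤ 2) :
    ∀ a b : H, a * b = b * a := by
  interval_cases k
  · haveI : Subsingleton H := (Nat.card_eq_one_iff_unique.mp (hH.trans (pow_zero p))).1
    exact fun a b => Subsingleton.elim _ _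
  · haveI : IsCyclic H := isCyclic_of_prime_card (by simpa using hH)
    letI := IsCyclic.commGroup (α := H)
    exact fun a b => mul_comm a b
  · exact IsPGroup.commutative_of_card_eq_prime_sq hH

theorem step [Finite X] {p n : ℕ} [hp : Fact p.Prime] (hX : Nat.card X = p ^ (n + 1))
    (B : Subgroup X) (hB : Nat.card B = p ^ 3) (hna : ¬ IsMulCommutative B)
    (hC : centralizer (B : Set X) ≤ B)
    (ih : ∀ A : Subgroup (X ⧸ center X), Nat.card (X ⧸ center X) = p ^ n → Nat.card A = p ^ 2 →
      centralizer (A : Set (X ⧸ center X)) ≤ A → Group.nilpotencyClass (X ⧸ center X) = n - 1) :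
    Group.nilpotencyClass X = n := by
  have hXp : IsPGroup p X := IsPGroup.of_card hX
  obtain ⟨a, b, hab⟩ : ∃ a b : B, a * b ≠ b * a := by
    by_contra h
    push Not at h
    exact hna ⟨⟨h⟩⟩
  -- the centraliser of `B`
  obtain ⟨k, hk3, hk⟩ := (Nat.dvd_prime_pow hp.out).mp (hB ▸ card_dvd_of_le hC)
  have hk1 : k ≤ 1 := by
    by_contra hk2
    have hd : ∀ x : B, ∀ y ∈ B, (x : X) * y = y * x := by
      intro x y hy
      by_cases hx : (x : X) ∈ centralizer (B : Set X)
      · exact (mem_centralizer_iff.mp hx y hy).symm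
      · set C := centralizer ({(x : X)} : Set X) ⊓ B with hCdef
        have hle : centralizer (B : Set X) ≤ C :=
          le_inf (centralizer_le (by simpa using x.2)) hC
        have hlt : centralizer (B : Set X) < C := lt_of_le_of_ne hle fun e => hx
          (e ▸ mem_inf.mpr ⟨mem_centralizer_singleton_iff.mpr rfl, x.2⟩)
        obtain ⟨j, hj3, hj⟩ := (Nat.dvd_prime_pow hp.out).mp (hB ▸ card_dvd_of_le (inf_le_right : C ≤ B))
        have h1 := Set.Finite.card_lt_card (Set.toFinite _) hlt
        rw [SetLike.coe_sort_coe, SetLike.coe_sort_coe, hk, hj, Nat.pow_lt_pow_iff_right hp.out.one_lt] at h1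
        have hCB : C = B := Subgroup.eq_of_le_of_card_ge inf_le_right (by rw [hB, hj, show j = 3 by omega])
        have := (hCB.symm ▸ hy : y ∈ C)
        exact (mem_centralizer_singleton_iff.mp (mem_inf.mp this).1).symm
    exact hab (Subtype.ext (hd a b b.2))
  haveI : Nontrivial X := Finite.one_lt_card_iff_nontrivial.mp (hX ▸ Nat.one_lt_pow (by omega) hp.out.one_lt)
  haveI := hXp.center_nontrivial
  have hZle : center X ≤ centralizer (B : Set X) := center_le_centralizer _
  have hZge : p ≤ Nat.card (center X) := by
    rcases (hXp.to_subgroup (center X)).card_eq_or_dvd with h | h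
    · exact absurd h (Finite.one_lt_card).ne'
    · exact Nat.le_of_dvd Nat.card_pos h
  have hCp : Nat.card (centralizer (B : Set X)) ≤ p := by
    rw [hk]
    exact (Nat.pow_le_pow_right hp.out.pos hk1).trans (pow_one p).le
  have hCZ : center X = centralizer (B : Set X) := eq_of_le_of_card_ge hZle (hCp.trans hZge)
  have hZcard : Nat.card (center X) = p := le_antisymm (hCZ ▸ hCp) hZge
  have hZB : center X ≤ B := hCZ ▸ hC
  -- the quotient
  have hQcard : Nat.card (X ⧸ center X) = p ^ n := by
    have := Subgroup.card_eq_card_quotient_mul_card_subgroup (center X)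
    rw [hX, hZcard, pow_succ] at this
    exact Nat.eq_of_mul_eq_mul_right hp.out.pos this.symm
  set f := QuotientGroup.mk' (center X)
  set B' := B.map f with hB'
  have hB'card : Nat.card B' = p ^ 2 := by
    have h1 : (center X).relIndex B = Nat.card B' := by
      have h0 := relIndex_ker B f
      rw [QuotientGroup.ker_mk'] at h0
      exact h0
    have h2 := relIndex_mul_index (show (center X).subgroupOf B ≤ ⊤ from le_top)
    have h3 := ((center X).subgroupOf B).card_mul_index
    rw [Nat.card_congr (subgroupOfEquivOfLe hZB).toEquiv, hZcard, hB] at h3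
    rw [← h1]
    exact Nat.eq_of_mul_eq_mul_left hp.out.pos (h3.trans (by ring))
  have hcomm' : ∀ u v : B', u * v = v * u := comm_of_card B' hB'card le_rfl
  have hgen : closure ({(a : X), (b : X)} : Set X) = B := by
    have hle : closure ({(a : X), (b : X)} : Set X) ≤ B := by
      rw [closure_le]; rintro u (rfl | rfl) <;> simp
    obtain ⟨j, hj3, hj⟩ := (Nat.dvd_prime_pow hp.out).mp (hB ▸ card_dvd_of_le hle)
    refine eq_of_le_of_card_ge hle ?_
    rw [hB, hj]
    by_contra hlt
    have hj2 : j ≤ 2 := by
      by_contra; exact hlt (Nat.pow_le_pow_right hp.out.pos (by omega))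
    exact hab (Subtype.ext (congrArg Subtype.val (comm_of_card _ hj hj2
      ⟨(a : X), subset_closure (by simp)⟩ ⟨(b : X), subset_closure (by simp)⟩) :))
  -- elements centralising `B` modulo the centre
  set K := (centralizer (B' : Set (X ⧸ center X))).comap f with hK
  have hKmem : ∀ y ∈ K, ∀ c ∈ B, ⁅y, c⁆ ∈ center X := by
    intro y hy c hc
    rw [← QuotientGroup.eq_one_iff]
    show f ⁅y, c⁆ = 1
    rw [map_commutatorElement, commutatorElement_eq_one_iff_mul_comm]
    exact (mem_centralizer_iff.mp hy (f c) ⟨c, hc, rfl⟩).symm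
  have hBK : B ≤ K := by
    intro y hy
    rw [hK, mem_comap, mem_centralizer_iff]
    rintro _ ⟨c, hc, rfl⟩
    exact congrArg Subtype.val (hcomm' ⟨f c, c, hc, rfl⟩ ⟨f y, y, hy, rfl⟩)
  have hZK : center X ≤ K := hZB.trans hBK
  have hidx : ((center X).subgroupOf K).index ≤ p * p := by
    rw [← hZcard, ← Nat.card_prod]
    refine Nat.card_le_card_of_injective
      (fun q : K ⧸ (center X).subgroupOf K => ((⟨_, hKmem _ q.out.2 _ a.2⟩ : center X),
        (⟨_, hKmem _ q.out.2 _ b.2⟩ : center X))) ?_
    intro q r hqr
    simp only [Prod.mk.injEq, Subtype.mk.injEq] at hqr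
    have key : ∀ c : X, ⁅(q.out : X), c⁆ = ⁅(r.out : X), c⁆ →
        c * ((r.out : X)⁻¹ * q.out) = ((r.out : X)⁻¹ * q.out) * c := by
      intro c h
      rw [commutatorElement_def, commutatorElement_def, mul_left_inj] at h
      calc c * ((r.out : X)⁻¹ * q.out) = (r.out : X)⁻¹ * ((r.out : X) * c * (r.out : X)⁻¹) * q.out := by group
        _ = (r.out : X)⁻¹ * ((q.out : X) * c * (q.out : X)⁻¹) * q.out := by rw [h]
        _ = ((r.out : X)⁻¹ * q.out) * c := by group
    have hmem : (r.out : X)⁻¹ * q.out ∈ centralizer (B : Set X) := by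
      rw [← hgen, centralizer_closure, mem_centralizer_iff]
      rintro c (rfl | rfl)
      · exact key _ hqr.1
      · exact key _ hqr.2
    rw [← hCZ] at hmem
    have : ((r.out : K ) : K ⧸ (center X).subgroupOf K) = (q.out : K ⧸ (center X).subgroupOf K) :=
      QuotientGroup.eq.mpr (by simpa [mem_subgroupOf] using hmem)
    simpa using this.symm
  have hKB : K = B := by
    refine (eq_of_le_of_card_ge hBK ?_).symm
    have h1 := ((center X).subgroupOf K).card_mul_index
    rw [Nat.card_congr (subgroupOfEquivOfLe hZK).toEquiv, hZcard] at h1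
    rw [← h1, hB]
    exact (Nat.mul_le_mul_left p hidx).trans (le_of_eq (by ring))
  have hC' : centralizer (B' : Set (X ⧸ center X)) ≤ B' := by
    intro u hu
    obtain ⟨y, rfl⟩ := QuotientGroup.mk'_surjective (center X) u
    exact ⟨y, hKB ▸ (show y ∈ K from hu), rfl⟩
  haveI := hXp.isNilpotent
  rw [Group.nilpotencyClass_eq_quotient_center_plus_one, ih B' hQcard hB'card hC']
  have hn : 2 ≤ n := by
    have := card_dvd_of_le (le_top : B ≤ ⊤)
    rw [card_top, hB, hX, Nat.pow_dvd_pow_iff_le_right hp.out.one_lt] at this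
    omega
  omega

theorem suzuki {p : ℕ} [hp : Fact p.Prime] : ∀ (n : ℕ) {X : Type*} [Group X] [Finite X]
    (A : Subgroup X), Nat.card X = p ^ n → Nat.card A = p ^ 2 →
    centralizer (A : Set X) ≤ A → Group.nilpotencyClass X = n - 1 := by
  intro n
  induction n with
  | zero =>
    intro X _ _ A hX hA hC
    have := card_dvd_of_le (le_top : A ≤ ⊤)
    rw [card_top, hA, hX, Nat.pow_dvd_pow_iff_le_right hp.out.one_lt] at this
    omega
  | succ n ih =>
    intro X _ _ A hX hA hC
    have hXp : IsPGroup p X := IsPGroup.of_card hX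
    haveI := hXp.isNilpotent
    haveI : Nontrivial X := Finite.one_lt_card_iff_nontrivial.mp (hX ▸ Nat.one_lt_pow (by omega) hp.out.one_lt)
    have hAc : ∀ u v : A, u * v = v * u := comm_of_card A hA le_rfl
    have hACle : A ≤ centralizer (A : Set X) := by
      intro u hu
      rw [mem_centralizer_iff]
      intro v hv
      exact congrArg Subtype.val (hAc ⟨v, hv⟩ ⟨u, hu⟩)
    by_cases hAtop : A = ⊤
    · rw [hAtop, card_top, hX] at hA
      have hn : n = 1 := by have := Nat.pow_right_injective hp.out.two_le hA; omega
      subst hn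
      have hcen : center X = ⊤ := by
        rw [eq_top_iff]
        intro u _
        rw [mem_center_iff]
        intro v
        exact mem_centralizer_iff.mp (hACle (hAtop ▸ mem_top u : u ∈ A)) v (hAtop ▸ mem_top v : v ∈ A)
      rw [Group.nilpotencyClass_eq_quotient_center_plus_one]
      haveI : Subsingleton (X ⧸ center X) := by
        rw [hcen]; exact QuotientGroup.subsingleton_quotient_top
      rw [Group.nilpotencyClass_zero_iff_subsingleton.mpr inferInstance]
    · have hZA : center X ≤ A := (center_le_centralizer _).trans hC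
      obtain ⟨a, haA, haZ⟩ : ∃ a ∈ A, a ∉ center X := by
        by_contra h
        push Not at h
        refine hAtop (top_le_iff.mp fun y _ => hC (mem_centralizer_iff.mpr fun v hv => ?_))
        exact ((mem_center_iff.mp (h v hv)) y).symm
      haveI := hXp.center_nontrivial
      have hZge : p ≤ Nat.card (center X) := by
        rcases (hXp.to_subgroup (center X)).card_eq_or_dvd with h | h
        · exact absurd h (Finite.one_lt_card).ne'
        · exact Nat.le_of_dvd Nat.card_pos h
      have hCa : centralizer ({a} : Set X) ≤ A := by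
        intro y hy
        apply hC
        set D := centralizer ({y} : Set X) ⊓ A with hD
        have hlt : center X < D := lt_of_le_of_ne (le_inf (center_le_centralizer _) hZA) fun e => haZ
          (e ▸ mem_inf.mpr ⟨mem_centralizer_singleton_iff.mpr (mem_centralizer_singleton_iff.mp hy).symm, haA⟩)
        have hDA : D = A := by
          refine eq_of_le_of_card_ge inf_le_right ?_
          obtain ⟨j, hj2, hj⟩ := (Nat.dvd_prime_pow hp.out).mp (hA ▸ card_dvd_of_le (inf_le_right : D ≤ A))
          have h1 := Set.Finite.card_lt_card (Set.toFinite _) hlt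
          rw [SetLike.coe_sort_coe, SetLike.coe_sort_coe] at h1
          have h2 : p ^ 1 < p ^ j := by rw [pow_one]; exact hj ▸ hZge.trans_lt h1
          rw [Nat.pow_lt_pow_iff_right hp.out.one_lt] at h2
          rw [hA, hj, show j = 2 by omega]
        rw [mem_centralizer_iff]
        intro v hv
        exact mem_centralizer_singleton_iff.mp (mem_inf.mp (hDA.symm ▸ hv : v ∈ D)).1
      set N := normalizer (A : Set X) with hN
      have hAN : A ≤ N := le_normalizer
      have hlt : A < N := normalizerCondition_of_isNilpotent A (lt_top_iff_ne_top.mpr hAtop)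
      have hidx : (A.subgroupOf N).index < p ^ 2 := by
        rw [← hA]
        let g : N ⧸ A.subgroupOf N → A := fun q =>
          ⟨(q.out : X) * a * (q.out : X)⁻¹, (mem_normalizer_iff.mp q.out.2 a).mp haA⟩
        have hinj : Function.Injective g := by
          intro q r h
          simp only [g, Subtype.mk.injEq] at h
          have hmem : (r.out : X)⁻¹ * q.out ∈ A := hCa (mem_centralizer_singleton_iff.mpr (by
            calc (r.out : X)⁻¹ * q.out * a = (r.out : X)⁻¹ * ((q.out : X) * a * (q.out : X)⁻¹) * q.out := by group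
              _ = (r.out : X)⁻¹ * ((r.out : X) * a * (r.out : X)⁻¹) * q.out := by rw [h]
              _ = a * ((r.out : X)⁻¹ * q.out) := by group))
          have : ((r.out : N) : N ⧸ A.subgroupOf N) = (q.out : N ⧸ A.subgroupOf N) :=
            QuotientGroup.eq.mpr (by simpa [mem_subgroupOf] using hmem)
          simpa using this.symm
        rcases lt_or_eq_of_le (Nat.card_le_card_of_injective g hinj) with h | h
        · exact h
        · obtain ⟨q, hq⟩ := (hinj.bijective_of_nat_card_le h.ge).2 1
          simp only [g, Subtype.ext_iff, coe_one, conj_eq_one_iff] at hq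
          exact absurd (hq ▸ one_mem (center X)) haZ
      have hNcard : Nat.card N = p ^ 3 := by
        obtain ⟨j, hj⟩ := IsPGroup.iff_card.mp (hXp.to_subgroup N)
        have h1 := (A.subgroupOf N).card_mul_index
        rw [Nat.card_congr (subgroupOfEquivOfLe hAN).toEquiv, hA, hj] at h1
        have h2 := Set.Finite.card_lt_card (Set.toFinite _) hlt
        rw [SetLike.coe_sort_coe, SetLike.coe_sort_coe, hA, hj, Nat.pow_lt_pow_iff_right hp.out.one_lt] at h2
        have h3 : p ^ j < p ^ 4 := by
          rw [← h1, show p ^ 4 = p ^ 2 * p ^ 2 by ring]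
          exact Nat.mul_lt_mul_of_pos_left hidx (pow_pos hp.out.pos _)
        rw [Nat.pow_lt_pow_iff_right hp.out.one_lt] at h3
        rw [hj, show j = 3 by omega]
      refine (step hX N hNcard ?_ ((centralizer_le hAN).trans (hC.trans hAN)) fun A' h1 h2 h3 => ih A' h1 h2 h3).trans (by omega)
      intro hcomm
      exact hlt.not_ge fun y hy => hC (mem_centralizer_iff.mpr fun v hv =>
        congrArg Subtype.val (hcomm.is_comm.comm (⟨v, hAN hv⟩ : N) ⟨y, hy⟩))

/-- Let X be a finite p-group of order p^n containing a non-abelian subgroup B of order p³ with C_X(B) ≤ B. Then X has nilpotency class n − 1 (maximal class). -/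
theorem result {X : Type*} [Group X] [Finite X] {p : ℕ} [Fact p.Prime] (n : ℕ) (hX : Nat.card X = p ^ n)
    (B : Subgroup X) (hB : Nat.card B = p ^ 3) (hBna : ¬ IsMulCommutative B) (hC : Subgroup.centralizer (B : Set X) ≤ B) :
    Group.nilpotencyClass X = n - 1 := by
  obtain ⟨m, rfl⟩ : ∃ m, n = m + 1 := by
    refine ⟨n - 1, ?_⟩
    have := card_dvd_of_le (le_top : B ≤ ⊤)
    rw [card_top, hB, hX, Nat.pow_dvd_pow_iff_le_right (Fact.out : p.Prime).one_lt] at this
    omega
  rw [step hX B hB hBna hC fun A h1 h2 h3 => suzuki m A h1 h2 h3]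
  omega

end Cfsg.Agent.S4143
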