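import Cfsg.Statements.S4144
import Cfsg.Agent.PMaxClass.PowerIndex

set_option autoImplicit false
open Cfsg

namespace Cfsg.Agent.S4144

/-- Let X be a finite p-group of order p^n, n ≥ 2, of nilpotency class n − 1 (maximal class), and H any subgroup of X. Then the index in H of the subgroup generated by the p-th powers of elements of H is at most p^p. -/
theorem result {X : Type*} [Group X] [Finite X] {p : ℕ} [Fact p.Prime] (n : ℕ) (hn : 2 ≤ n) (hX : Nat.card X = p ^ n)
    (hmax : Group.nilpotencyClass X = n - 1) (H : Subgroup X) :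
    (Subgroup.closure {y : X | ∃ h ∈ H, y = h ^ p}).relIndex H ≤ p ^ p := by
  show (CfsgLib.PMaxClass.powSub p H).relIndex H ≤ p ^ p
  have hp := (Fact.out : p.Prime)
  rcases eq_or_lt_of_le hn with rfl | hn3
  · calc (CfsgLib.PMaxClass.powSub p H).relIndex H
        ≤ Nat.card H := Nat.le_of_dvd Nat.card_pos (Subgroup.relIndex_dvd_card _ _)
      _ ≤ Nat.card X := Nat.card_le_card_of_injective _ Subtype.val_injective
      _ ≤ p ^ p := hX ▸ Nat.pow_le_pow_right hp.pos hp.two_le
  have hnil : Group.IsNilpotent X := (IsPGroup.of_card hX).isNilpotent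
  have hM : CfsgLib.PMaxClass.MaxClass X p n := ⟨hp, hX, fun h => by
    have h1 := Subgroup.upperCentralSeries_eq_top_iff_nilpotencyClass_le.1 h
    omega⟩
  exact hM.relIndex_powSub_le (by omega) H

end Cfsg.Agent.S4144
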