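import Cfsg.Statements.S4145
import Cfsg.Agent.PiClasses69.PTools
import Cfsg.Agent.Transfer.NormalPComplement
import Cfsg.Agent.PLocal.PSolvable

set_option autoImplicit false
open Cfsg

namespace Cfsg.Agent.S4145

open scoped Pointwise
open CfsgLib.PTools69

/-- Burnside's criterion with `p`-power twisting. -/
theorem npc_of_twist {X : Type*} [Group X] [Finite X] {p : ℕ} [Fact p.Prime] (T : Sylow p X)
    (hab : IsMulCommutative (T : Subgroup X))
    (h : ∀ n ∈ Subgroup.normalizer ((T : Subgroup X) : Set X),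
      ∃ k : ℕ, n ^ p ^ k ∈ Subgroup.centralizer ((T : Subgroup X) : Set X)) :
    Cfsg.HasNormalPComplement p X := by
  have hT : Subgroup.normalizer ((T : Subgroup X) : Set X) ≤
      Subgroup.centralizer ((T : Subgroup X) : Set X) := by
    intro n hn
    obtain ⟨e, f, hef, hk, hf⟩ := exists_parts (p := p) n
    obtain ⟨k, hkc⟩ := h n hn
    rw [hef]
    refine Subgroup.mul_mem _ ?_ ?_
    · have hm := mem_sylow_of_normalizes T (Subgroup.pow_mem _ hn e) hk
      rw [Subgroup.mem_centralizer_iff]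
      intro t ht
      exact congrArg Subtype.val (hab.is_comm.comm ⟨t, ht⟩ ⟨n ^ e, hm⟩)
    · refine mem_of_pow_mem (n := p ^ k) (((Fact.out : p.Prime).coprime_iff_not_dvd.mpr hf).pow_left k) ?_
      rw [← pow_mul, mul_comm, pow_mul]
      exact Subgroup.pow_mem _ hkc f
  exact ⟨T, _, inferInstance, MonoidHom.ker_transferSylow_isComplement' T hT⟩

/-- Let G be a finite group with a cyclic Sylow p-subgroup and H a normal subgroup such that p divides both the order of H and the index of H. Then H has a normal p-complement and G is p-solvable. -/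
theorem result {G : Type*} [Group G] [Finite G] (p : ℕ) [Fact p.Prime]
    (P : Sylow p G) (hP : IsCyclic (P : Subgroup G)) (H : Subgroup G) [H.Normal] (h1 : p ∣ Nat.card H) (h2 : p ∣ H.index) :
    Cfsg.HasNormalPComplement p H ∧ Cfsg.IsPSolvable p G := by
  have hp : p.Prime := Fact.out
  set P1 := (P : Subgroup G) ⊓ H with hP1def
  haveI hPcyc : IsCyclic ↥(P : Subgroup G) := hP
  have hPcomm : ∀ a ∈ (P : Subgroup G), ∀ b ∈ (P : Subgroup G), a * b = b * a := by
    intro a ha b hb
    letI := IsCyclic.commGroup (α := (P : Subgroup G))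
    exact congrArg Subtype.val (mul_comm (⟨a, ha⟩ : (P : Subgroup G)) ⟨b, hb⟩)
  -- the Sylow subgroup of `H`
  have hidx : ¬ p ∣ (P1.subgroupOf H).index := by
    have := CfsgLib.Transfer.not_dvd_relIndex_of_normal P H
    rwa [show (P1.subgroupOf H).index = ((P : Subgroup G) ⊓ H).relIndex H from rfl,
      Subgroup.inf_relIndex_right]
  have hP1p : IsPGroup p (P1.subgroupOf H) :=
    (P.isPGroup'.to_le inf_le_left).of_equiv (Subgroup.subgroupOfEquivOfLe inf_le_right).symm
  let T : Sylow p H := hP1p.toSylow hidx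
  have hlt : P1 < (P : Subgroup G) := by
    refine lt_of_le_of_ne inf_le_left (fun he => P.not_dvd_index ?_)
    exact h2.trans (Subgroup.index_dvd_of_le (inf_eq_left.mp he))
  have hP1ne : P1 ≠ ⊥ := by
    intro he
    have hbot : P1.subgroupOf H = ⊥ := by rw [he, Subgroup.bot_subgroupOf]
    rw [hbot, Subgroup.index_bot] at hidx
    exact hidx h1
  have hH : Cfsg.HasNormalPComplement p H := by
    refine npc_of_twist T ⟨⟨fun a b => Subtype.ext (Subtype.ext
      (hPcomm _ (Subgroup.mem_inf.mp a.2).1 _ (Subgroup.mem_inf.mp b.2).1))⟩⟩ (fun x hx => ?_)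
    have hx1 : (x : G) ∈ Subgroup.normalizer (P1 : Set G) := by
      rw [Subgroup.mem_normalizer_iff]
      intro g
      constructor
      · intro hg
        exact (Subgroup.mem_normalizer_iff.mp hx ⟨g, (Subgroup.mem_inf.mp hg).2⟩).mp hg
      · intro hg
        have hgH : g ∈ H := by
          have := H.mul_mem (H.mul_mem (H.inv_mem x.2) (Subgroup.mem_inf.mp hg).2) x.2
          rwa [show (x : G)⁻¹ * ((x : G) * g * (x : G)⁻¹) * x = g by group] at this
        exact (Subgroup.mem_normalizer_iff.mp hx ⟨g, hgH⟩).mpr hg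
    have hPN : (P : Subgroup G) ≤ Subgroup.normalizer (P1 : Set G) := by
      intro t ht
      rw [Subgroup.mem_normalizer_iff]
      intro g
      constructor
      · intro hg
        show t * g * t⁻¹ ∈ P1
        rw [hPcomm t ht g (Subgroup.mem_inf.mp hg).1, mul_inv_cancel_right]; exact hg
      · intro hg
        have hc : t⁻¹ * (t * g * t⁻¹) * t = t * g * t⁻¹ := by
          rw [mul_assoc, ← hPcomm t ht _ (Subgroup.mem_inf.mp hg).1, inv_mul_cancel_left]
        rw [show t⁻¹ * (t * g * t⁻¹) * t = g by group] at hc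
        rw [hc]; exact hg
    -- the group `N_H(P1) P` and its centraliser of `P1`
    set N := H ⊓ Subgroup.normalizer (P1 : Set G) with hN
    set M := N ⊔ (P : Subgroup G) with hM
    set C := M ⊓ Subgroup.centralizer (P1 : Set G) with hC
    have hPC : (P : Subgroup G) ≤ C := le_inf le_sup_right (fun t ht => by
      rw [Subgroup.mem_centralizer_iff]
      exact fun g hg => hPcomm g (Subgroup.mem_inf.mp hg).1 t ht)
    have hPnN : (P : Subgroup G) ≤ Subgroup.normalizer (N : Set G) := by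
      intro t ht
      rw [Subgroup.mem_normalizer_iff]
      intro g
      show g ∈ N ↔ t * g * t⁻¹ ∈ N
      rw [hN, Subgroup.mem_inf, Subgroup.mem_inf]
      refine and_congr ⟨fun h => Subgroup.Normal.conj_mem inferInstance g h t, fun h => ?_⟩
        ⟨fun h => Subgroup.mul_mem _ (Subgroup.mul_mem _ (hPN ht) h) (Subgroup.inv_mem _ (hPN ht)),
         fun h => ?_⟩
      · have := Subgroup.Normal.conj_mem (inferInstance : H.Normal) _ h t⁻¹
        rwa [show t⁻¹ * (t * g * t⁻¹) * t⁻¹⁻¹ = g by group] at this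
      · have := Subgroup.mul_mem _ (Subgroup.mul_mem _ (Subgroup.inv_mem _ (hPN ht)) h) (hPN ht)
        rwa [show t⁻¹ * (t * g * t⁻¹) * t = g by group] at this
    have hMnorm : M ≤ Subgroup.normalizer (P1 : Set G) := sup_le inf_le_right hPN
    have hxM : (x : G) ∈ M := Subgroup.mem_sup_left ⟨x.2, hx1⟩
    -- conjugate `x P x⁻¹` back to `P` inside `C`
    have hCn : ∀ y ∈ M, ∀ c ∈ C, y * c * y⁻¹ ∈ C := by
      intro y hy c hc
      obtain ⟨hc1, hc2⟩ := Subgroup.mem_inf.mp hc
      refine Subgroup.mem_inf.mpr ⟨M.mul_mem (M.mul_mem hy hc1) (M.inv_mem hy), ?_⟩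
      rw [Subgroup.mem_centralizer_iff]
      intro g hg
      have hg' : y⁻¹ * g * y ∈ P1 := by
        have := (Subgroup.mem_normalizer_iff.mp ((Subgroup.normalizer (P1 : Set G)).inv_mem (hMnorm hy)) g).mp hg
        simpa using this
      have e := Subgroup.mem_centralizer_iff.mp hc2 _ hg'
      calc g * (y * c * y⁻¹) = y * (y⁻¹ * g * y * c) * y⁻¹ := by group
        _ = y * c * y⁻¹ * g := by rw [e]; group
    have hxinv : ((x : G))⁻¹ ∈ M := M.inv_mem hxM
    have hle' : ((((x : G)⁻¹ • P : Sylow p G)) : Subgroup G) ≤ C := by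
      rw [Sylow.coe_subgroup_smul]
      rintro _ ⟨t, ht, rfl⟩
      have := hCn _ hxinv _ (hPC ht)
      simpa [MulAut.smul_def, MulAut.conj_apply] using this
    obtain ⟨c, hc⟩ := MulAction.exists_smul_eq C (P.subtype hPC) ((((x : G)⁻¹ • P).subtype hle'))
    have hn : (x : G) * c ∈ Subgroup.normalizer ((P : Subgroup G) : Set G) := by
      refine Sylow.smul_eq_iff_mem_normalizer.mp ?_
      have he : ((c : G) • P) = (x : G)⁻¹ • P := by
        apply Sylow.ext
        have h1 := congrArg (fun S : Sylow p C => ((S : Subgroup C).map C.subtype)) hc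
        simp only [Sylow.coe_subtype] at h1
        rw [Subgroup.subgroupOf_map_subtype, inf_eq_left.mpr hle'] at h1
        rw [← h1]
        rw [Sylow.coe_subgroup_smul, Sylow.coe_subgroup_smul]
        ext g
        constructor
        · rintro ⟨t, ht, rfl⟩
          exact ⟨c * ⟨t, hPC ht⟩ * c⁻¹, ⟨⟨t, hPC ht⟩, ht,
            by simp [MulAut.smul_def, MulAut.conj_apply]⟩, by simp [MulAut.smul_def, MulAut.conj_apply]⟩
        · rintro ⟨_, ⟨t, ht, rfl⟩, rfl⟩
          exact ⟨(t : G), ht, by simp [MulAut.smul_def, MulAut.conj_apply]⟩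
      rw [mul_smul, he, smul_inv_smul]
    have hcC : (c : G) ∈ Subgroup.centralizer (P1 : Set G) := (Subgroup.mem_inf.mp c.2).2
    obtain ⟨h, hh, u, hu, hhu⟩ : ∃ h ∈ N, ∃ u ∈ (P : Subgroup G), (x : G) * c = h * u := by
      have hmem : (x : G) * c ∈ M := M.mul_mem hxM (Subgroup.mem_inf.mp c.2).1
      rw [hM, ← SetLike.mem_coe, Subgroup.coe_mul_of_right_le_normalizer_left N (P : Subgroup G) ?_] at hmem
      · obtain ⟨h, hh, u, hu, e⟩ := hmem
        exact ⟨h, hh, u, hu, e.symm⟩
      · exact hPnN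
    have hhn : h ∈ Subgroup.normalizer ((P : Subgroup G) : Set G) := by
      have : h = (x : G) * c * u⁻¹ := by rw [hhu, mul_inv_cancel_right]
      rw [this]; exact Subgroup.mul_mem _ hn (Subgroup.le_normalizer ((P : Subgroup G).inv_mem hu))
    obtain ⟨k, hk⟩ := exists_pow_mem_centralizer P.isPGroup' hP hhn (Or.inr ⟨P1, hlt, fun a ha => by
      refine Subgroup.mem_inf.mpr ⟨(P : Subgroup G).mul_mem
        ((Subgroup.mem_normalizer_iff.mp hhn a).mp ha) ((P : Subgroup G).inv_mem ha), ?_⟩
      have hhH : h ∈ H := (Subgroup.mem_inf.mp hh).1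
      have := H.mul_mem hhH (Subgroup.Normal.conj_mem inferInstance _ (H.inv_mem hhH) a)
      rwa [show h * (a * h⁻¹ * a⁻¹) = h * a * h⁻¹ * a⁻¹ by group] at this⟩)
    refine ⟨k, ?_⟩
    -- `x` and `h` induce the same automorphism of `P1`
    have hact : ∀ m : ℕ, ∀ g ∈ P1, (x : G) ^ m * g * ((x : G) ^ m)⁻¹ = h ^ m * g * (h ^ m)⁻¹ := by
      intro m
      induction m with
      | zero => intro g _; simp
      | succ m ih =>
        intro g hg
        have hxg : (x : G) * g * (x : G)⁻¹ ∈ P1 := (Subgroup.mem_normalizer_iff.mp hx1 g).mp hg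
        have e1 : (x : G) * g * (x : G)⁻¹ = h * g * h⁻¹ := by
          have hx' : (x : G) = h * u * (c : G)⁻¹ := by rw [← hhu, mul_inv_cancel_right]
          have ec : (c : G)⁻¹ * g * c = g := by
            rw [mul_assoc, Subgroup.mem_centralizer_iff.mp hcC g hg, inv_mul_cancel_left]
          have eu : u * g * u⁻¹ = g := by
            rw [hPcomm u hu g (Subgroup.mem_inf.mp hg).1, mul_inv_cancel_right]
          calc (x : G) * g * (x : G)⁻¹ = h * (u * ((c : G)⁻¹ * g * c) * u⁻¹) * h⁻¹ := by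
                rw [hx']; group
            _ = h * g * h⁻¹ := by rw [ec, eu]
        calc (x : G) ^ (m + 1) * g * ((x : G) ^ (m + 1))⁻¹
            = (x : G) ^ m * ((x : G) * g * (x : G)⁻¹) * ((x : G) ^ m)⁻¹ := by rw [pow_succ]; group
          _ = h ^ m * (h * g * h⁻¹) * (h ^ m)⁻¹ := by rw [ih _ hxg, e1]
          _ = h ^ (m + 1) * g * (h ^ (m + 1))⁻¹ := by rw [pow_succ]; group
    rw [Subgroup.mem_centralizer_iff]
    intro t ht
    apply Subtype.ext
    have h1 := hact (p ^ k) _ ht
    have h2 := Subgroup.mem_centralizer_iff.mp hk (t : G) (Subgroup.mem_inf.mp ht).1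
    simp only [Subgroup.coe_mul, SubgroupClass.coe_pow]
    simp only [Subgroup.coe_subtype] at h1 h2 ⊢
    calc (t : G) * (x : G) ^ p ^ k = h ^ p ^ k * (t : G) * (h ^ p ^ k)⁻¹ * (x : G) ^ p ^ k := by
          rw [← h2, mul_inv_cancel_right]
      _ = (x : G) ^ p ^ k * t := by rw [← h1]; group
  refine ⟨hH, ?_⟩
  -- the quotient by the normal `p`-complement of `H`
  set K := (Cfsg.pResidual p H).map H.subtype with hK
  haveI hKn : K.Normal := CfsgLib.PLocal.normal_map_subtype H _
  have hKcard : ¬ p ∣ Nat.card K := by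
    rw [hK, Subgroup.card_map_of_injective H.subtype_injective]
    exact CfsgLib.Transfer.hasNormalPComplement_iff.mp hH
  refine CfsgLib.PLocal.isPSolvable_of_extension K
    (CfsgLib.PLocal.isPSolvable_of_coprime ((CfsgLib.Transfer.coprime_prime_iff).mpr hKcard)) ?_
  set π := QuotientGroup.mk' K with hπ
  let Q : Sylow p (G ⧸ K) := P.mapSurjective (QuotientGroup.mk'_surjective K)
  have hQ : ((Q : Subgroup (G ⧸ K))) = (P : Subgroup G).map π := rfl
  haveI hQcyc : IsCyclic (Q : Subgroup (G ⧸ K)) := by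
    rw [hQ]
    exact isCyclic_of_surjective (π.subgroupMap (P : Subgroup G)) (π.subgroupMap_surjective _)
  have hQcomm : ∀ a ∈ (Q : Subgroup (G ⧸ K)), ∀ b ∈ (Q : Subgroup (G ⧸ K)), a * b = b * a := by
    rintro _ ⟨a, ha, rfl⟩ _ ⟨b, hb, rfl⟩
    rw [← map_mul, ← map_mul, hPcomm a ha b hb]
  set Hb := H.map π with hHb
  haveI : Hb.Normal := Subgroup.Normal.map inferInstance π (QuotientGroup.mk'_surjective K)
  have hHQ : Hb ≤ (Q : Subgroup (G ⧸ K)) := by
    rintro _ ⟨g, hg, rfl⟩
    have hgT : (⟨g, hg⟩ : H) ∈ (T : Subgroup H) ⊔ Cfsg.pResidual p H := by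
      rw [CfsgLib.Transfer.sylow_sup_pResidual]; trivial
    have hle : (T : Subgroup H) ⊔ Cfsg.pResidual p H ≤
        (((P : Subgroup G).map π).comap π).subgroupOf H := by
      refine sup_le ?_ ?_
      · intro t ht; exact ⟨t, (Subgroup.mem_inf.mp ht).1, rfl⟩
      · intro t ht
        rw [Subgroup.mem_subgroupOf, Subgroup.mem_comap,
          show π (t : G) = 1 from (QuotientGroup.eq_one_iff _).mpr ⟨t, ht, rfl⟩]
        exact Subgroup.one_mem _
    exact hle hgT
  set C := Subgroup.centralizer (Hb : Set (G ⧸ K)) with hC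
  haveI : C.Normal := inferInstance
  have hQC : (Q : Subgroup (G ⧸ K)) ≤ C := fun t ht => by
    rw [Subgroup.mem_centralizer_iff]
    exact fun g hg => hQcomm g (hHQ hg) t ht
  have hCidx : ¬ p ∣ C.index := fun hd => Q.not_dvd_index (hd.trans (Subgroup.index_dvd_of_le hQC))
  refine CfsgLib.PLocal.isPSolvable_of_extension C ?_
    (CfsgLib.PLocal.isPSolvable_of_coprime (by
      rw [← Subgroup.index_eq_card]; exact CfsgLib.Transfer.coprime_prime_iff.mpr hCidx))
  have hnpc : Cfsg.HasNormalPComplement p C := by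
    refine npc_of_twist (Q.subtype hQC) ⟨⟨fun a b => Subtype.ext (Subtype.ext (hQcomm _ a.2 _ b.2))⟩⟩
      (fun n hn => ?_)
    obtain ⟨a, ha, ha1⟩ := (Subgroup.bot_or_exists_ne_one P1).resolve_left hP1ne
    have hne : π a ≠ 1 := by
      intro e
      have : a ∈ K ⊓ (P : Subgroup G) := ⟨(QuotientGroup.eq_one_iff a).mp e, (Subgroup.mem_inf.mp ha).1⟩
      rw [CfsgLib.Transfer.inf_eq_bot_of_not_dvd_card hKcard P.isPGroup'] at this
      exact ha1 this
    have hn' : (n : G ⧸ K) ∈ Subgroup.normalizer ((Q : Subgroup (G ⧸ K)) : Set (G ⧸ K)) := by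
      rw [Subgroup.mem_normalizer_iff]
      intro g
      constructor
      · intro hg
        exact (Subgroup.mem_normalizer_iff.mp hn ⟨g, hQC hg⟩).mp hg
      · intro hg
        have hgC : g ∈ C := by
          have := C.mul_mem (C.mul_mem (C.inv_mem n.2) (hQC hg)) n.2
          rwa [show (n : G ⧸ K)⁻¹ * ((n : G ⧸ K) * g * (n : G ⧸ K)⁻¹) * n = g by group] at this
        exact (Subgroup.mem_normalizer_iff.mp hn ⟨g, hgC⟩).mpr hg
    obtain ⟨k, hk⟩ := exists_pow_mem_centralizer Q.isPGroup' hQcyc hn'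
      (Or.inl ⟨π a, hHQ ⟨a, (Subgroup.mem_inf.mp ha).2, rfl⟩, hne,
        (Subgroup.mem_centralizer_iff.mp n.2 _ ⟨a, (Subgroup.mem_inf.mp ha).2, rfl⟩).symm⟩)
    refine ⟨k, ?_⟩
    rw [Subgroup.mem_centralizer_iff]
    intro t ht
    exact Subtype.ext (by simpa using Subgroup.mem_centralizer_iff.mp hk (t : G ⧸ K) ht)
  exact CfsgLib.PLocal.isPSolvable_of_extension (Cfsg.pResidual p C)
    (CfsgLib.PLocal.isPSolvable_of_coprime
      (CfsgLib.Transfer.coprime_prime_iff.mpr (CfsgLib.Transfer.hasNormalPComplement_iff.mp hnpc)))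
    (CfsgLib.PLocal.isPSolvable_of_isPGroup CfsgLib.Transfer.isPGroup_quotient_pResidual)

end Cfsg.Agent.S4145
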