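import Cfsg.Statements.S4149
import Cfsg.Agent.S4160

set_option autoImplicit false
open Cfsg

namespace Cfsg.Agent.S4149

open Subgroup Cfsg.Agent.S4160

/-- The non-identity elements centralising some Sylow `p`-subgroup are few unless `p` has a normal
complement. -/
theorem two_mul_card_le {G : Type*} [Group G] [Finite G] {p : ℕ} [Fact p.Prime]
    (hn : ¬ Cfsg.HasNormalPComplement p G) :
    2 * Nat.card {x : G // x ≠ 1 ∧ ¬ p ∣ (centralizer ({x} : Set G)).index} + 2 ≤ Nat.card G := by
  classical
  obtain ⟨P⟩ := (inferInstance : Nonempty (Sylow p G))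
  have h1 := two_mul_le P fun e => hn (hasNormalPComplement_of_central P e)
  obtain ⟨g, hg⟩ := exists_code P
  set C := centralizer ((P : Subgroup G) : Set G)
  have hcov : ∀ x : {x : G // x ≠ 1 ∧ ¬ p ∣ (centralizer ({x} : Set G)).index},
      ∃ P' : Sylow p G, (x : G) ∈ centralizer ((P' : Subgroup G) : Set G) := fun x => by
    obtain ⟨R, hR⟩ := exists_sylow_le_of_not_dvd x.2.2
    exact ⟨R, mem_centralizer_iff.mpr fun y hy => mem_centralizer_singleton_iff.mp (hR hy)⟩
  choose f hf using hcov
  let φ : {x : G // x ≠ 1 ∧ ¬ p ∣ (centralizer ({x} : Set G)).index} →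
      Sylow p G × {c : C // c ≠ 1} := fun x =>
    (f x, ⟨⟨_, hg _ _ (hf x)⟩, fun e => x.2.1 (eq_one_of_conj (congrArg Subtype.val e :))⟩)
  have hφ : Function.Injective φ := by
    intro x y e
    simp only [φ, Prod.mk.injEq, Subtype.mk.injEq] at e
    obtain ⟨e1, e2⟩ := e
    rw [e1] at e2
    exact Subtype.ext (mul_left_cancel (mul_right_cancel e2))
  have hC : Nat.card {c : C // c ≠ 1} + 1 = Nat.card C := by
    haveI := Fintype.ofFinite C
    rw [Nat.card_eq_fintype_card, Nat.card_eq_fintype_card, Fintype.card_subtype_compl,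
      Fintype.card_subtype_eq, Nat.sub_add_cancel Fintype.card_pos]
  have h2 := Nat.card_le_card_of_injective φ hφ
  rw [Nat.card_prod] at h2
  rw [← hC, Nat.mul_add, Nat.mul_add] at h1
  have hnp : 0 < Nat.card (Sylow p G) := Nat.card_pos
  omega

/-- Let G be a finite group that has a normal p-complement for at most one prime p dividing its order, and let σ be a natural number such that every conjugacy class size of G has at most σ distinct prime divisors. Then the number of primes dividing at least one conjugacy class size of G is at most 2σ. -/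
theorem result {G : Type*} [Group G] [Finite G] (σ : ℕ)
    (hσ : ∀ x : G, ((Subgroup.centralizer ({x} : Set G)).index).primeFactors.card ≤ σ)
    (hnil : ∀ p q : ℕ, p.Prime → q.Prime → p ∣ Nat.card G → q ∣ Nat.card G →
      Cfsg.HasNormalPComplement p G → Cfsg.HasNormalPComplement q G → p = q) :
    Nat.card {p : ℕ | p.Prime ∧ ∃ x : G, p ∣ (Subgroup.centralizer ({x} : Set G)).index} ≤ 2 * σ := by
  classical
  haveI := Fintype.ofFinite G
  let π : Finset ℕ := ((Nat.card G).divisors).filter
    (fun p => p.Prime ∧ ∃ x : G, p ∣ (Subgroup.centralizer ({x} : Set G)).index)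
  have hmemπ : ∀ p, p ∈ π ↔ p.Prime ∧ ∃ x : G, p ∣ (Subgroup.centralizer ({x} : Set G)).index := by
    intro p
    refine ⟨fun h => (Finset.mem_filter.mp h).2, fun h => Finset.mem_filter.mpr ⟨?_, h⟩⟩
    obtain ⟨x, hx⟩ := h.2
    exact Nat.mem_divisors.mpr ⟨hx.trans (Subgroup.index_dvd_card _), Nat.card_pos.ne'⟩
  have hset : Nat.card {p : ℕ | p.Prime ∧ ∃ x : G, p ∣ (Subgroup.centralizer ({x} : Set G)).index}
      = π.card := by
    rw [show {p : ℕ | p.Prime ∧ ∃ x : G, p ∣ (Subgroup.centralizer ({x} : Set G)).index}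
      = (↑π : Set ℕ) from Set.ext fun p => (hmemπ p).symm, Nat.card_coe_set_eq, Set.ncard_coe_finset]
  rw [hset]
  let E : Finset G := Finset.univ.erase 1
  have hE : E.card + 1 = Nat.card G := by
    rw [Nat.card_eq_fintype_card, ← Finset.card_univ]
    exact Finset.card_erase_add_one (Finset.mem_univ 1)
  let A : ℕ → Finset G := fun p => E.filter
    (fun x => ¬ p ∣ (Subgroup.centralizer ({x} : Set G)).index)
  have hlow : ∀ x ∈ E, π.card ≤ (π.filter
      (fun p => ¬ p ∣ (Subgroup.centralizer ({x} : Set G)).index)).card + σ := by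
    intro x _
    have h := Finset.card_filter_add_card_filter_not
      (s := π) (fun p => ¬ p ∣ (Subgroup.centralizer ({x} : Set G)).index)
    have h' : (π.filter (fun p => ¬¬ p ∣ (Subgroup.centralizer ({x} : Set G)).index)).card ≤ σ := by
      refine le_trans (Finset.card_le_card fun p hp => ?_) (hσ x)
      rw [Finset.mem_filter, not_not] at hp
      exact Nat.mem_primeFactors.mpr ⟨((hmemπ p).mp hp.1).1, hp.2, Subgroup.index_ne_zero_of_finite⟩
    omega
  have hdouble : ∑ x ∈ E, (π.filter
      (fun p => ¬ p ∣ (Subgroup.centralizer ({x} : Set G)).index)).card = ∑ p ∈ π, (A p).card := by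
    simp only [A, Finset.card_filter]
    exact Finset.sum_comm
  have hsum : E.card * π.card ≤ ∑ p ∈ π, (A p).card + E.card * σ := by
    rw [← hdouble]
    calc E.card * π.card = ∑ _x ∈ E, π.card := by rw [Finset.sum_const, smul_eq_mul]
      _ ≤ ∑ x ∈ E, ((π.filter
          (fun p => ¬ p ∣ (Subgroup.centralizer ({x} : Set G)).index)).card + σ) :=
        Finset.sum_le_sum hlow
      _ = _ := by rw [Finset.sum_add_distrib, Finset.sum_const, smul_eq_mul]
  -- the bound for a single prime
  have hA1 : ∀ p, (A p).card ≤ E.card := fun p => Finset.card_filter_le _ _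
  have hA2 : ∀ p, p.Prime → ¬ Cfsg.HasNormalPComplement p G → 2 * (A p).card + 1 ≤ E.card := by
    intro p hp hn
    haveI := Fact.mk hp
    have h := two_mul_card_le hn
    have e : (A p).card =
        Nat.card {x : G // x ≠ 1 ∧ ¬ p ∣ (Subgroup.centralizer ({x} : Set G)).index} := by
      rw [Nat.card_eq_fintype_card, Fintype.card_subtype]
      congr 1
      ext x
      simp [A, E]
    omega
  let B := π.filter (fun p => Cfsg.HasNormalPComplement p G)
  have hB : B.card ≤ 1 := by
    refine Finset.card_le_one.mpr fun p hp q hq => ?_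
    rw [Finset.mem_filter] at hp hq
    have hdvd : ∀ r ∈ π, r ∣ Nat.card G := fun r hr => by
      obtain ⟨x, hx⟩ := ((hmemπ r).mp hr).2
      exact hx.trans (Subgroup.index_dvd_card _)
    exact hnil p q ((hmemπ p).mp hp.1).1 ((hmemπ q).mp hq.1).1 (hdvd p hp.1) (hdvd q hq.1) hp.2 hq.2
  let D := π.filter (fun p => ¬ Cfsg.HasNormalPComplement p G)
  have hBD : B.card + D.card = π.card := Finset.card_filter_add_card_filter_not _
  have hup : 2 * ∑ p ∈ π, (A p).card + D.card ≤ (2 * B.card + D.card) * E.card := by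
    rw [← Finset.sum_filter_add_sum_filter_not π (fun p => Cfsg.HasNormalPComplement p G)]
    have u1 : ∑ p ∈ B, (A p).card ≤ B.card * E.card := by
      calc _ ≤ ∑ _p ∈ B, E.card := Finset.sum_le_sum fun p _ => hA1 p
        _ = _ := by rw [Finset.sum_const, smul_eq_mul]
    have u2 : ∑ p ∈ D, (2 * (A p).card + 1) ≤ D.card * E.card := by
      calc _ ≤ ∑ _p ∈ D, E.card := Finset.sum_le_sum fun p hp =>
            hA2 p ((hmemπ p).mp (Finset.mem_filter.mp hp).1).1 (Finset.mem_filter.mp hp).2
        _ = _ := by rw [Finset.sum_const, smul_eq_mul]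
    rw [Finset.sum_add_distrib, ← Finset.mul_sum, Finset.sum_const, smul_eq_mul, mul_one] at u2
    linarith
  by_contra hk
  rcases Nat.eq_zero_or_pos D.card with hD | hD
  · obtain ⟨p, hp⟩ := Finset.card_pos.mp (show 0 < π.card by omega)
    obtain ⟨x, hx⟩ := ((hmemπ p).mp hp).2
    have hs : 1 ≤ σ := le_trans (Finset.card_pos.mpr
      ⟨p, Nat.mem_primeFactors.mpr ⟨((hmemπ p).mp hp).1, hx, Subgroup.index_ne_zero_of_finite⟩⟩) (hσ x)
    omega
  · nlinarith

end Cfsg.Agent.S4149
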