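import Cfsg.Statements.S4150
import Cfsg.Agent.Perm69.TwoPrimeCycles
import Cfsg.Agent.Perm69.PrimesHalf

set_option autoImplicit false
open Cfsg

namespace Cfsg.Agent.S4150

open Equiv Equiv.Perm

theorem card_support_eq {α : Type*} [Fintype α] [DecidableEq α] {σ : Perm α} {p : ℕ} (hp : p.Prime)
    (h : orderOf σ = p) : ∃ n, σ.support.card = (n + 1) * p := by
  obtain ⟨n, hn⟩ := cycleType_prime_order (σ := σ) (h ▸ hp)
  exact ⟨n, by rw [← σ.sum_cycleType, hn, Multiset.sum_replicate, smul_eq_mul, h]⟩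

theorem main (m : ℕ) (p q : ℕ) (hp : p.Prime) (hq : q.Prime) (h2p : m ≤ 2 * p) (hpq : p < q)
    (hpqm : m < p + q) (hqm : q ≤ m)
    (hcase : (p = 3 ∧ q = 5 ∧ m ≤ 6) ∨ (p + 3 ≤ q ∧ m < 2 * p) ∨ (q + 3 ≤ m ∧ m = 2 * p ∧ p + 3 ≤ q) ∨
      (p = 5 ∧ q = 7 ∧ m ≤ 10) ∨ (p = 11 ∧ q = 13 ∧ m < 22))
    (x y : alternatingGroup (Fin m)) (hx : orderOf x = p) (hy : orderOf y = q) :
    ∃ d : ℕ, 5 ≤ d ∧ Nonempty (Subgroup.closure ({x, y} : Set (alternatingGroup (Fin m))) ≃*
      alternatingGroup (Fin d)) := by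
  classical
  set X : Perm (Fin m) := (x : Perm (Fin m)) with hXdef
  set Y : Perm (Fin m) := (y : Perm (Fin m)) with hYdef
  have hX : orderOf X = p := by rw [hXdef, Subgroup.orderOf_coe, hx]
  have hY : orderOf Y = q := by rw [hYdef, Subgroup.orderOf_coe, hy]
  have hYc : Y.IsCycle := isCycle_of_prime_order' (hY ▸ hq) (by rw [hY, Fintype.card_fin]; omega)
  have hYs : Y.support.card = q := by rw [← hYc.orderOf, hY]
  obtain ⟨n, hn⟩ := card_support_eq hp hX
  let P : Fin m → Prop := fun z => z ∈ X.support ∨ z ∈ Y.support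
  have hd1 : Fintype.card {z // P z} ≤ m := le_trans (Fintype.card_subtype_le P) (Fintype.card_fin m).le
  have hd2 : q ≤ Fintype.card {z // P z} := by
    rw [← hYs, ← Fintype.card_coe]
    exact Fintype.card_le_of_injective (fun z => (⟨z.1, Or.inr z.2⟩ : {z // P z}))
      (fun a b h => Subtype.ext (congrArg (fun w : {z // P z} => w.1) h))
  have hd3 : X.support.card ≤ Fintype.card {z // P z} := by
    rw [← Fintype.card_coe]
    exact Fintype.card_le_of_injective (fun z => (⟨z.1, Or.inl z.2⟩ : {z // P z}))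
      (fun a b h => Subtype.ext (congrArg (fun w : {z // P z} => w.1) h))
  have pres : ∀ (σ : Perm (Fin m)), (∀ z, σ z ≠ z → P z) → ∀ z, P (σ z) ↔ P z := by
    intro σ h z
    by_cases e : σ z = z
    · rw [e]
    · exact ⟨fun _ => h z e, fun _ => h (σ z) (fun h' => e (σ.injective h'))⟩
  have hXm : ∀ z, X z ≠ z → P z := fun z h => Or.inl (Perm.mem_support.mpr h)
  have hYm : ∀ z, Y z ≠ z → P z := fun z h => Or.inr (Perm.mem_support.mpr h)
  let x' : Perm {z // P z} := X.subtypePerm (pres X hXm)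
  let y' : Perm {z // P z} := Y.subtypePerm (pres Y hYm)
  have ex : Perm.ofSubtype x' = X := Perm.ofSubtype_subtypePerm _ hXm
  have ey : Perm.ofSubtype y' = Y := Perm.ofSubtype_subtypePerm _ hYm
  have hx' : orderOf x' = p := by rw [← hX, ← ex, orderOf_injective _ Perm.ofSubtype_injective]
  have hy' : orderOf y' = q := by rw [← hY, ← ey, orderOf_injective _ Perm.ofSubtype_injective]
  have hxs : Perm.sign x' = 1 := by rw [← Perm.sign_ofSubtype, ex]; exact x.2
  have hys : Perm.sign y' = 1 := by rw [← Perm.sign_ofSubtype, ey]; exact y.2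
  have hyc : y'.IsCycle := isCycle_of_prime_order' (hy' ▸ hq) (by rw [hy']; omega)
  have hcyc : n = 0 → x'.IsCycle := by
    intro h0
    apply isCycle_of_prime_order (hx' ▸ hp)
    have : (Perm.ofSubtype x').support.card = x'.support.card := by
      rw [← Perm.sum_cycleType, Perm.cycleType_ofSubtype, Perm.sum_cycleType]
    rw [← this, ex, hn, h0, hx']; have := hp.pos; omega
  have hn1 : n = 0 ∨ (n = 1 ∧ m = 2 * p) := by
    rcases n with _ | _ | n
    · exact Or.inl rfl
    · exact Or.inr ⟨rfl, by rw [hn] at hd3; omega⟩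
    · exfalso
      rw [hn] at hd3
      have : 3 * p ≤ (n + 1 + 1 + 1) * p := Nat.mul_le_mul_right _ (by omega)
      have := hp.two_le
      omega
  have hd3' : (n + 1) * p ≤ Fintype.card {z // P z} := hn ▸ hd3
  obtain ⟨d, hd⟩ := CfsgLib.TwoPrimeCycles.core (x := x') (y := y') hp hq hx' hxs hys hyc
    (by rw [← hyc.orderOf, hy']) (by omega) (by omega)
    (fun a ha e => by
      have h := a.2
      rcases h with h | h
      · exact Perm.mem_support.mp h (congrArg Subtype.val ha)
      · exact Perm.mem_support.mp h (congrArg Subtype.val e))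
    (by
      rcases hn1 with h0 | ⟨h1, hm⟩
      · have hc := hcyc h0
        rcases hcase with ⟨a, -, -⟩ | ⟨a, -⟩ | ⟨-, -, a⟩ | ⟨a, b, -⟩ | ⟨a, b, -⟩
        · exact Or.inl ⟨a, hc⟩
        · exact Or.inr (Or.inl ⟨hc, a⟩)
        · exact Or.inr (Or.inl ⟨hc, a⟩)
        · exact Or.inr (Or.inr (Or.inr (Or.inl ⟨a, b, hc⟩)))
        · exact Or.inr (Or.inr (Or.inr (Or.inr (Or.inl ⟨a, b, hc⟩))))
      · subst h1
        rcases hcase with ⟨a, b, c⟩ | ⟨-, b⟩ | ⟨a, b, c⟩ | ⟨a, b, c⟩ | ⟨a, b, c⟩
        · exact Or.inr (Or.inr (Or.inr (Or.inr (Or.inr ⟨b, by omega⟩))))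
        · omega
        · exact Or.inr (Or.inr (Or.inl (by omega)))
        · exact Or.inr (Or.inr (Or.inl (by omega)))
        · omega)
  rcases hd with ⟨h5, ⟨e⟩⟩ | hlt
  · refine ⟨d, h5, ⟨?_⟩⟩
    have h1 : (Subgroup.closure ({x, y} : Set (alternatingGroup (Fin m)))).map
        (alternatingGroup (Fin m)).subtype =
        (Subgroup.closure ({x', y'} : Set (Perm {z // P z}))).map Perm.ofSubtype := by
      rw [MonoidHom.map_closure, MonoidHom.map_closure, Set.image_pair, Set.image_pair, ex, ey]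
      rfl
    exact ((Subgroup.equivMapOfInjective _ _ (alternatingGroup (Fin m)).subtype_injective).trans
      (MulEquiv.subgroupCongr h1)).trans
      ((Subgroup.equivMapOfInjective _ _ Perm.ofSubtype_injective).symm.trans e)
  · have := hq.two_le; have := hp.two_le
    omega

/-- Let m ≥ 5. Then there are primes p < q with m/2 ≤ p and q ≤ m such that any two elements x, y of the alternating group of degree m with x of order p and y of order q generate a subgroup isomorphic to an alternating group of some degree d ≥ 5. -/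
theorem result (m : ℕ) (hm : 5 ≤ m) :
    ∃ p q : ℕ, p.Prime ∧ q.Prime ∧ m ≤ 2 * p ∧ p < q ∧ q ≤ m ∧
      ∀ x y : alternatingGroup (Fin m), orderOf x = p → orderOf y = q →
        ∃ d : ℕ, 5 ≤ d ∧ Nonempty (Subgroup.closure ({x, y} : Set (alternatingGroup (Fin m))) ≃* alternatingGroup (Fin d)) := by
  by_cases h1 : m ≤ 6
  · exact ⟨3, 5, by norm_num, by norm_num, by omega, by omega, by omega,
      main m 3 5 (by norm_num) (by norm_num) (by omega) (by omega) (by omega) (by omega)
        (Or.inl ⟨rfl, rfl, h1⟩)⟩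
  by_cases h2 : m ≤ 10
  · exact ⟨5, 7, by norm_num, by norm_num, by omega, by omega, by omega,
      main m 5 7 (by norm_num) (by norm_num) (by omega) (by omega) (by omega) (by omega)
        (Or.inr (Or.inr (Or.inr (Or.inl ⟨rfl, rfl, h2⟩))))⟩
  by_cases h3 : m ≤ 14
  · refine ⟨7, 11, by norm_num, by norm_num, by omega, by omega, by omega,
      main m 7 11 (by norm_num) (by norm_num) (by omega) (by omega) (by omega) (by omega) ?_⟩
    by_cases h : m = 14
    · exact Or.inr (Or.inr (Or.inl ⟨by omega, by omega, by omega⟩))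
    · exact Or.inr (Or.inl ⟨by omega, by omega⟩)
  by_cases h4 : m ≤ 16
  · exact ⟨11, 13, by norm_num, by norm_num, by omega, by omega, by omega,
      main m 11 13 (by norm_num) (by norm_num) (by omega) (by omega) (by omega) (by omega)
        (Or.inr (Or.inr (Or.inr (Or.inr ⟨rfl, rfl, by omega⟩))))⟩
  obtain ⟨p, q, hp, hq, hmp, hpq, hqm⟩ := CfsgLib.PrimesHalf.exists_primes (m := m) (by omega)
  exact ⟨p, q, hp, hq, by omega, by omega, hqm,
    main m p q hp hq (by omega) (by omega) (by omega) hqm (Or.inr (Or.inl ⟨hpq, hmp⟩))⟩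

end Cfsg.Agent.S4150
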