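import Cfsg.Statements.S4151
import Cfsg.Agent.PiClasses69.PTools
import Cfsg.Agent.Coprime.Action
import Cfsg.Agent.Coprime.Abelian
import Cfsg.Agent.Coprime.Generation
import Cfsg.Agent.Coprime.SchurZassenhaus
import Cfsg.Agent.Transfer.NormalPComplement
import Cfsg.Agent.PLocal.Cores
import Cfsg.Agent.SylowCount.Basic
import Cfsg.Agent.TwoGroupsQ.UniqueInvolution
import Mathlib.GroupTheory.SpecificGroups.ZGroup

set_option autoImplicit false
open Cfsg

namespace Cfsg.Agent.S4151

open scoped Pointwise commutatorElement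
open CfsgLib.PTools69

variable {G : Type*} [Group G] [Finite G]

theorem mem_conj_smul_iff (H : Subgroup G) (g x : G) :
    x ∈ MulAut.conj g • H ↔ g⁻¹ * x * g ∈ H := by
  rw [Subgroup.mem_pointwise_smul_iff_inv_smul_mem]
  simp [MulAut.smul_def, MulAut.inv_def, MulAut.conj_symm_apply]

theorem conj_smul_eq_iff (H : Subgroup G) (g : G) :
    MulAut.conj g • H = H ↔ g ∈ Subgroup.normalizer (H : Set G) := by
  rw [Subgroup.mem_normalizer_iff]
  constructor
  · intro h x
    conv_rhs => rw [← h]
    rw [mem_conj_smul_iff, show g⁻¹ * (g * x * g⁻¹) * g = x by group]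
  · intro h
    ext x
    rw [mem_conj_smul_iff, h (g⁻¹ * x * g), show g * (g⁻¹ * x * g) * g⁻¹ = x by group]

theorem card_sup_dvd {A B : Subgroup G} (h : A ≤ Subgroup.normalizer (B : Set G)) :
    Nat.card ↥(A ⊔ B) ∣ Nat.card A * Nat.card B := by
  set N := Subgroup.normalizer (B : Set G) with hN
  have hB : B ≤ N := Subgroup.le_normalizer
  haveI : (B.subgroupOf N).Normal := Subgroup.normal_in_normalizer
  have := CfsgLib.PLocal.card_sup_dvd_mul (A.subgroupOf N) (B.subgroupOf N)
  rwa [← Subgroup.subgroupOf_sup h hB, Nat.card_congr (Subgroup.subgroupOfEquivOfLe h).toEquiv,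
    Nat.card_congr (Subgroup.subgroupOfEquivOfLe hB).toEquiv,
    Nat.card_congr (Subgroup.subgroupOfEquivOfLe (sup_le h hB)).toEquiv] at this

/-- A TI subgroup that is Hall in its normaliser is a Hall subgroup. -/
theorem hall_of_ti {H : Subgroup G} (hTI : Cfsg.IsTISubset (H : Set G))
    (hHall : (Nat.card H).Coprime (H.subgroupOf (Subgroup.normalizer (H : Set G))).index) :
    (Nat.card H).Coprime H.index := by
  refine Nat.coprime_of_dvd fun q hq hqH hqi => ?_
  haveI := Fact.mk hq
  obtain ⟨Q⟩ := (inferInstance : Nonempty (Sylow q H))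
  have hQmp : IsPGroup q ((Q : Subgroup H).map H.subtype) := Q.isPGroup'.map _
  obtain ⟨T, hT⟩ := hQmp.exists_le_sylow
  have hQne : (Q : Subgroup H).map H.subtype ≠ ⊥ := by
    intro h
    rw [Subgroup.map_eq_bot_iff_of_injective _ H.subtype_injective] at h
    exact Sylow.ne_bot_of_dvd_card Q hqH h
  -- elements of `T` normalising the Sylow subgroup of `H` lie in it
  have hstep : ∀ g ∈ (T : Subgroup G), g ∈ Subgroup.normalizer
      (((Q : Subgroup H).map H.subtype : Subgroup G) : Set G) → g ∈ (Q : Subgroup H).map H.subtype := by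
    intro g hgT hgN
    have hgH : g ∈ Subgroup.normalizer (H : Set G) := by
      by_contra hg
      apply hQne
      rw [Subgroup.eq_bot_iff_forall]
      intro x hx
      exact hTI g hg x (Subgroup.map_subtype_le _ hx)
        (Subgroup.map_subtype_le _ ((Subgroup.mem_normalizer_iff.mp hgN x).mp hx))
    obtain ⟨k, hk⟩ := T.isPGroup' ⟨g, hgT⟩
    have hk' : g ^ q ^ k = 1 := by simpa using congrArg Subtype.val hk
    have hgH' : g ∈ H := by
      set N := Subgroup.normalizer (H : Set G)
      haveI : (H.subgroupOf N).Normal := Subgroup.normal_in_normalizer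
      have h1 : (⟨g, hgH⟩ : N) ∈ H.subgroupOf N := by
        refine mem_of_pow_mem (n := (H.subgroupOf N).index) ?_ (Subgroup.pow_index_mem _ _)
        rw [Subgroup.orderOf_mk]
        obtain ⟨j, -, hj⟩ := (Nat.dvd_prime_pow hq).mp (orderOf_dvd_of_pow_eq_one hk')
        rw [hj]
        exact ((hHall.symm.coprime_dvd_right hqH)).pow_right j
      exact h1
    refine ⟨⟨g, hgH'⟩, mem_sylow_of_normalizes Q ?_ ⟨k, Subtype.ext (by simpa using hk')⟩, rfl⟩
    rw [Subgroup.mem_normalizer_iff]
    intro x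
    have := Subgroup.mem_normalizer_iff.mp hgN (x : G)
    constructor
    · intro hx
      obtain ⟨y, hy, he⟩ := this.mp ⟨x, hx, rfl⟩
      have : y = ⟨g, hgH'⟩ * x * ⟨g, hgH'⟩⁻¹ := Subtype.ext he
      rwa [← this]
    · intro hx
      obtain ⟨y, hy, he⟩ := this.mpr ⟨⟨g, hgH'⟩ * x * ⟨g, hgH'⟩⁻¹, hx, rfl⟩
      have : y = x := Subtype.ext he
      rwa [← this]
  set U := ((Q : Subgroup H).map H.subtype).subgroupOf (T : Subgroup G) with hU
  have hUtop : U = ⊤ := by
    by_contra hne
    haveI : Group.IsNilpotent ↥(T : Subgroup G) := T.isPGroup'.isNilpotent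
    have hlt := normalizerCondition_of_isNilpotent (G := ↥(T : Subgroup G)) U (lt_top_iff_ne_top.mpr hne)
    apply hlt.not_ge
    intro g hg
    refine hstep g g.2 ?_
    rw [Subgroup.mem_normalizer_iff]
    intro x
    constructor
    · intro hx
      have hxT : x ∈ (T : Subgroup G) := hT hx
      exact (Subgroup.mem_normalizer_iff.mp hg ⟨x, hxT⟩).mp hx
    · intro hx
      have hxT : x ∈ (T : Subgroup G) := by
        have := (T : Subgroup G).mul_mem ((T : Subgroup G).mul_mem ((T : Subgroup G).inv_mem g.2) (hT hx)) g.2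
        rwa [show (g : G)⁻¹ * ((g : G) * x * (g : G)⁻¹) * g = x by group] at this
      exact (Subgroup.mem_normalizer_iff.mp hg ⟨x, hxT⟩).mpr hx
  have hTle : (T : Subgroup G) ≤ H := (Subgroup.subgroupOf_eq_top.mp hUtop).trans (Subgroup.map_subtype_le _)
  exact T.not_dvd_index (hqi.trans (Subgroup.index_dvd_of_le hTle))

/-- An abelian non-cyclic subgroup exists in a `p`-group with two subgroups of order `p`. -/
theorem exists_noncyclic {p : ℕ} [hp : Fact p.Prime] {P : Subgroup G} (hP : IsPGroup p P)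
    (hu : ¬ CfsgLib.TwoGroupsQ.HasUniqueOrderP P p) :
    ∃ A : Subgroup G, A ≤ P ∧ IsMulCommutative A ∧ ¬ IsCyclic A := by
  simp only [CfsgLib.TwoGroupsQ.HasUniqueOrderP, not_forall] at hu
  obtain ⟨x, y, hx, hy, hy1, hxy⟩ := hu
  haveI : Nontrivial P := ⟨⟨y, 1, hy1⟩⟩
  haveI := hP.center_nontrivial
  obtain ⟨z0, hz0⟩ := exists_ne (1 : Subgroup.center P)
  obtain ⟨k, hk⟩ := IsPGroup.iff_orderOf.mp hP (z0 : P)
  have hk0 : k ≠ 0 := by
    rintro rfl
    apply hz0
    rw [pow_zero, orderOf_eq_one_iff] at hk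
    exact Subtype.ext hk
  set z : P := (z0 : P) ^ p ^ (k - 1) with hz
  have hzp : z ^ p = 1 := by
    rw [hz, ← pow_mul, ← pow_succ, Nat.sub_add_cancel (by omega), ← hk, pow_orderOf_eq_one]
  have hz1 : z ≠ 1 := by
    intro h
    have := Nat.le_of_dvd (pow_pos hp.out.pos _) (orderOf_dvd_of_pow_eq_one h)
    rw [hk] at this
    exact absurd this (Nat.not_le.mpr (Nat.pow_lt_pow_right hp.out.one_lt (by omega)))
  have hzc : ∀ w : P, Commute z w := fun w =>
    ((show Commute (z0 : P) w from (Subgroup.mem_center_iff.mp z0.2 w).symm)).pow_left _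
  obtain ⟨w, hw, hwz⟩ : ∃ w : P, w ^ p = 1 ∧ w ∉ Subgroup.zpowers z := by
    by_cases h : x ∈ Subgroup.zpowers z
    · refine ⟨y, hy, fun h' => hxy ?_⟩
      have e : Subgroup.zpowers y = Subgroup.zpowers z := by
        apply Subgroup.eq_of_le_of_card_ge (Subgroup.zpowers_le.mpr h')
        rw [Nat.card_zpowers, Nat.card_zpowers, orderOf_eq_prime hy hy1, orderOf_eq_prime hzp hz1]
      rwa [e]
    · exact ⟨x, hx, h⟩
  set A := Subgroup.closure ({(z : G), (w : G)} : Set G) with hA
  have hAP : A ≤ P := by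
    rw [hA, Subgroup.closure_le]
    rintro u (rfl | rfl)
    · exact z.2
    · exact w.2
  have hcomm : IsMulCommutative A := by
    refine Subgroup.isMulCommutative_closure ?_
    have hzw : (z : G) * w = w * z := congrArg Subtype.val (hzc w)
    rintro a (rfl | rfl) b (rfl | rfl)
    · rfl
    · exact hzw
    · exact hzw.symm
    · rfl
  refine ⟨A, hAP, hcomm, fun hcyc => hwz ?_⟩
  classical
  haveI : Fintype A := Fintype.ofFinite A
  haveI := hcyc
  let z' : A := ⟨(z : G), Subgroup.subset_closure (by simp)⟩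
  let w' : A := ⟨(w : G), Subgroup.subset_closure (by simp)⟩
  have hz' : z' ^ p = 1 := Subtype.ext (by simpa using congrArg Subtype.val hzp)
  have hw' : w' ^ p = 1 := Subtype.ext (by simpa using congrArg Subtype.val hw)
  have hzne : z' ≠ 1 := fun h => hz1 (Subtype.ext (by simpa [z'] using congrArg Subtype.val h))
  by_contra hnot
  have hsub : insert w' ((Subgroup.zpowers z' : Set A).toFinset) ⊆
      Finset.univ.filter (fun a : A => a ^ p = 1) := by
    intro a ha
    simp only [Finset.mem_insert, Set.mem_toFinset, SetLike.mem_coe] at ha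
    rw [Finset.mem_filter]
    refine ⟨Finset.mem_univ _, ?_⟩
    rcases ha with rfl | ha
    · exact hw'
    · obtain ⟨i, rfl⟩ := Subgroup.mem_zpowers_iff.mp ha
      rw [← zpow_natCast, ← zpow_mul, mul_comm, zpow_mul, zpow_natCast, hz', one_zpow]
  have hni : w' ∉ ((Subgroup.zpowers z' : Set A).toFinset) := by
    simp only [Set.mem_toFinset, SetLike.mem_coe]
    intro h
    obtain ⟨i, hi⟩ := Subgroup.mem_zpowers_iff.mp h
    exact hnot ⟨i, Subtype.ext (by simpa [z', w'] using congrArg Subtype.val hi)⟩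
  have := (Finset.card_le_card hsub).trans (IsCyclic.card_pow_eq_one_le hp.out.pos)
  rw [Finset.card_insert_of_notMem hni, Set.toFinset_card, ← Nat.card_eq_fintype_card,
    SetLike.coe_sort_coe, Nat.card_zpowers, orderOf_eq_prime hz' hzne] at this
  omega

/-- A group acting coprimely with all nontrivial elements having the same, proper, fixed point
subgroup has cyclic Sylow subgroups, given that a Sylow 2-subgroup is abelian. -/
theorem isZGroup_of_fixed {H K : Subgroup G} [K.Normal] (hcop : (Nat.card H).Coprime (Nat.card K))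
    (hfix : ∀ h ∈ H, h ≠ 1 → K ⊓ Subgroup.centralizer ({h} : Set G) ≤ Subgroup.centralizer (H : Set G))
    (hne : ¬ K ≤ Subgroup.centralizer (H : Set G))
    (h2 : ∀ P : Sylow 2 H, IsMulCommutative (P : Subgroup H)) : IsZGroup H := by
  refine ⟨fun p hp P => ?_⟩
  haveI := Fact.mk hp
  set P' := (P : Subgroup H).map H.subtype with hP'
  have hP'H : P' ≤ H := Subgroup.map_subtype_le _
  have hu : CfsgLib.TwoGroupsQ.HasUniqueOrderP P' p := by
    by_contra hu
    obtain ⟨A, hAP, hAc, hAnc⟩ := exists_noncyclic (P.isPGroup'.map H.subtype) hu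
    haveI := hAc
    have hAH : A ≤ H := hAP.trans hP'H
    refine hne (CfsgLib.Coprime.le_of_forall_inf_centralizer_le (G := K) hAnc
      (by rw [Subgroup.normalizer_eq_top]; exact le_top) (hcop.coprime_dvd_left (Subgroup.card_dvd_of_le hAH))
      (fun a ha ha1 => hfix a (hAH ha) ha1))
  have e := (P : Subgroup H).equivMapOfInjective H.subtype H.subtype_injective
  have hcyc : IsCyclic P' := by
    rcases CfsgLib.TwoGroupsQ.isCyclic_or_quaternion (P.isPGroup'.map H.subtype) hu with h | ⟨rfl, -⟩
    · exact h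
    · exact CfsgLib.TwoGroupsQ.isCyclic_of_comm (P.isPGroup'.map H.subtype) hu (fun a b => by
        obtain ⟨a', rfl⟩ := e.surjective a
        obtain ⟨b', rfl⟩ := e.surjective b
        exact (show Commute a' b' from (h2 P).is_comm.comm a' b').map e.toMonoidHom)
  haveI := hcyc
  exact isCyclic_of_surjective e.symm e.symm.surjective

/-- Two subgroups of a cyclic `p`-group meeting trivially: one is trivial. -/
theorem eq_bot_of_inf_eq_bot {p : ℕ} [hp : Fact p.Prime] {P U V : Subgroup G} (hP : IsPGroup p P)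
    (hcyc : IsCyclic P) (hU : U ≤ P) (hV : V ≤ P) (h : U ⊓ V = ⊥) : U = ⊥ ∨ V = ⊥ := by
  classical
  by_contra hne
  rw [not_or] at hne
  obtain ⟨u, hu, hu1⟩ : ∃ u : U, orderOf u = p ∧ (u : G) ≠ 1 := by
    obtain ⟨u, hu⟩ := exists_prime_orderOf_dvd_card' p
      ((hP.to_le hU).card_eq_or_dvd.resolve_left (fun e => hne.1 (Subgroup.card_eq_one.mp e)))
    refine ⟨u, hu, fun e => hp.out.ne_one ?_⟩
    rw [← hu, show u = 1 from Subtype.ext e, orderOf_one]
  obtain ⟨v, hv, hv1⟩ : ∃ v : V, orderOf v = p ∧ (v : G) ≠ 1 := by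
    obtain ⟨v, hv⟩ := exists_prime_orderOf_dvd_card' p
      ((hP.to_le hV).card_eq_or_dvd.resolve_left (fun e => hne.2 (Subgroup.card_eq_one.mp e)))
    refine ⟨v, hv, fun e => hp.out.ne_one ?_⟩
    rw [← hv, show v = 1 from Subtype.ext e, orderOf_one]
  haveI : Fintype P := Fintype.ofFinite P
  haveI := hcyc
  let u' : P := ⟨(u : G), hU u.2⟩
  let v' : P := ⟨(v : G), hV v.2⟩
  have hou : orderOf u' = p := by rw [Subgroup.orderOf_mk, Subgroup.orderOf_coe, hu]
  have hov : orderOf v' = p := by rw [Subgroup.orderOf_mk, Subgroup.orderOf_coe, hv]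
  have he : Subgroup.zpowers u' = Subgroup.zpowers v' := by
    have key : ∀ a b : P, orderOf a = p → orderOf b = p → a ∈ Subgroup.zpowers b := by
      intro a b ha hb
      by_contra hnot
      have hsub : insert a ((Subgroup.zpowers b : Set P).toFinset) ⊆
          Finset.univ.filter (fun c : P => c ^ p = 1) := by
        intro c hc
        simp only [Finset.mem_insert, Set.mem_toFinset, SetLike.mem_coe] at hc
        rw [Finset.mem_filter]
        refine ⟨Finset.mem_univ _, ?_⟩
        rcases hc with rfl | hc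
        · rw [← ha, pow_orderOf_eq_one]
        · obtain ⟨i, rfl⟩ := Subgroup.mem_zpowers_iff.mp hc
          rw [← zpow_natCast, ← zpow_mul, mul_comm, zpow_mul, zpow_natCast, ← hb, pow_orderOf_eq_one, one_zpow]
      have := (Finset.card_le_card hsub).trans (IsCyclic.card_pow_eq_one_le hp.out.pos)
      rw [Finset.card_insert_of_notMem (by simpa using hnot), Set.toFinset_card,
        ← Nat.card_eq_fintype_card, SetLike.coe_sort_coe, Nat.card_zpowers, hb] at this
      omega
    exact le_antisymm (Subgroup.zpowers_le.mpr (key _ _ hou hov)) (Subgroup.zpowers_le.mpr (key _ _ hov hou))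
  have hmem : u' ∈ Subgroup.zpowers v' := he ▸ Subgroup.mem_zpowers u'
  obtain ⟨i, hi⟩ := Subgroup.mem_zpowers_iff.mp hmem
  have hi' : (v : G) ^ i = (u : G) := by simpa [u', v'] using congrArg Subtype.val hi
  have : (u : G) ∈ U ⊓ V := ⟨u.2, hi' ▸ V.zpow_mem v.2 i⟩
  rw [h, Subgroup.mem_bot] at this
  exact hu1 this

/-- For a Z-group `H` acted on coprimely by `Q`, the primes of `C_H(Q)` divide neither its index
in `H` nor the order of `[H, Q]`. -/
theorem fixed_part {H Q : Subgroup G} [IsZGroup H] (hQH : Q ≤ Subgroup.normalizer (H : Set G))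
    (hcop : (Nat.card Q).Coprime (Nat.card H)) {q : ℕ} [hq : Fact q.Prime]
    (hdvd : q ∣ Nat.card ↥(H ⊓ Subgroup.centralizer (Q : Set G))) :
    ¬ q ∣ (H ⊓ Subgroup.centralizer (Q : Set G)).relIndex H ∧ ¬ q ∣ Nat.card ↥⁅H, Q⁆ := by
  set C := H ⊓ Subgroup.centralizer (Q : Set G) with hC
  have hsolv : Group.IsSolvable H := inferInstance
  obtain ⟨S⟩ := (inferInstance : Nonempty (Sylow q C))
  set U := (S : Subgroup C).map C.subtype with hU
  have hUC : U ≤ C := Subgroup.map_subtype_le _
  have hUA : Q ≤ Subgroup.normalizer (U : Set G) := by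
    intro x hx
    rw [← conj_smul_eq_iff]
    ext y
    rw [mem_conj_smul_iff]
    have hx' : ∀ y ∈ U, y * x = x * y := fun y hy =>
      (Subgroup.mem_centralizer_iff.mp (hUC hy).2 x hx).symm
    constructor
    · intro hy
      have e : y = x⁻¹ * y * x := by
        have h1 := hx' _ hy
        calc y = x * (x⁻¹ * y * x) * x⁻¹ := by group
          _ = x⁻¹ * y * x := by rw [← h1, mul_inv_cancel_right]
      rw [e]; exact hy
    · intro hy
      rw [mul_assoc, hx' y hy, inv_mul_cancel_left]; exact hy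
  obtain ⟨P, hUP, hPQ⟩ := CfsgLib.Coprime.exists_invariant_sylow_ge (A := Q) hQH hcop (Or.inr hsolv)
    (hUC.trans inf_le_left) (S.isPGroup'.map C.subtype) hUA
  set PG := (P : Subgroup H).map H.subtype with hPG
  have hPGH : PG ≤ H := Subgroup.map_subtype_le _
  have hPp : IsPGroup q PG := P.isPGroup'.map _
  haveI hPcyc : IsCyclic PG := isCyclic_of_surjective
    ((P : Subgroup H).equivMapOfInjective H.subtype H.subtype_injective)
    (((P : Subgroup H).equivMapOfInjective H.subtype H.subtype_injective)).surjective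
  haveI hPcomm : IsMulCommutative PG := by
    letI := IsCyclic.commGroup (α := PG)
    exact ⟨⟨fun a b => mul_comm a b⟩⟩
  have hcopP : (Nat.card Q).Coprime (Nat.card PG) := hcop.coprime_dvd_right (Subgroup.card_dvd_of_le hPGH)
  have hUne : U ≠ ⊥ := by
    intro h
    rw [hU, Subgroup.map_eq_bot_iff_of_injective _ C.subtype_injective] at h
    exact Sylow.ne_bot_of_dvd_card S hdvd h
  -- `Q` centralises the invariant Sylow subgroup
  have hPC : PG ≤ C := by
    have h1 := CfsgLib.Coprime.inf_centralizer_inf_commutator_eq_bot hPQ hcopP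
    have h2 := CfsgLib.Coprime.inf_centralizer_sup_commutator_eq hPQ hcopP
    rcases eq_bot_of_inf_eq_bot hPp hPcyc inf_le_left
      (CfsgLib.Coprime.commutator_le_of_le_normalizer hPQ) h1 with h | h
    · exfalso
      apply hUne
      rw [eq_bot_iff, ← h]
      exact le_inf hUP (hUC.trans inf_le_right)
    · rw [h, sup_bot_eq] at h2
      rw [hC]
      refine le_inf hPGH ?_
      rw [← h2]; exact inf_le_right
  refine ⟨fun hd => P.not_dvd_index ?_, ?_⟩
  · have h1 : C.relIndex H ∣ PG.relIndex H := Subgroup.relIndex_dvd_of_le_left H hPC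
    have h2 : PG.relIndex H = (P : Subgroup H).index := by
      rw [Subgroup.relIndex, hPG, Subgroup.subgroupOf, Subgroup.comap_map_eq_self_of_injective H.subtype_injective]
    exact h2 ▸ hd.trans h1
  have hfixu : ∀ x ∈ Q, ∀ u : H, u ∈ (P : Subgroup H) → x * (u : G) * x⁻¹ = u := by
    intro x hx u hu
    have := Subgroup.mem_centralizer_iff.mp (hPC ⟨u, hu, rfl⟩).2 x hx
    rw [Subgroup.coe_subtype] at this
    rw [this, mul_inv_cancel_right]
  have hnorm : ∀ x ∈ Q, ∀ u : H, x * (u : G) * x⁻¹ ∈ H :=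
    fun x hx u => (Subgroup.mem_normalizer_iff.mp (hQH hx) _).mp u.2
  suffices h : ∃ W : Subgroup G, ¬ q ∣ Nat.card W ∧ ⁅H, Q⁆ ≤ W by
    obtain ⟨W, hW, hle⟩ := h
    exact fun hd => hW (hd.trans (Subgroup.card_dvd_of_le hle))
  haveI hA : IsCyclic (commutator H) := IsZGroup.isCyclic_commutator H
  by_cases hqA : q ∣ Nat.card (commutator H)
  · -- the Sylow subgroup is normal and has an invariant complement
    have hidx : ¬ q ∣ (commutator H).index := fun h =>
      hq.out.not_dvd_one ((IsZGroup.coprime_commutator_index H) ▸ Nat.dvd_gcd hqA h)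
    have hPA : ∀ P' : Sylow q H, (P' : Subgroup H) ≤ commutator H :=
      CfsgLib.SylowCount.sylow_le_of_not_dvd_index hidx
    haveI hPn : (P : Subgroup H).Normal := by
      refine Subgroup.normalizer_eq_top_iff.mp (eq_top_iff.mpr fun g _ => ?_)
      refine Sylow.smul_eq_iff_mem_normalizer.mp ?_
      obtain ⟨a, ha⟩ := MulAction.exists_smul_eq (commutator H) (P.subtype (hPA P))
        ((g • P).subtype (hPA _))
      have hfx : a • P.subtype (hPA P) = P.subtype (hPA P) := by
        refine Sylow.smul_eq_iff_mem_normalizer.mpr ?_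
        haveI : ((P.subtype (hPA P) : Sylow q (commutator H)) : Subgroup (commutator H)).Normal := by
          letI := hA.commGroup
          exact Subgroup.normal_of_comm _
        exact (Subgroup.normalizer_eq_top_iff.mpr ‹_›).ge (Subgroup.mem_top _)
      rw [hfx] at ha
      exact (Sylow.subtype_injective ha).symm
    obtain ⟨j, hj⟩ := IsPGroup.iff_card.mp P.isPGroup'
    have hcopPB : Nat.Coprime (Nat.card (P : Subgroup H)) (P : Subgroup H).index := by
      rw [hj]; exact (hq.out.coprime_iff_not_dvd.mpr P.not_dvd_index).pow_left j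
    obtain ⟨B0, hB0⟩ := Subgroup.exists_right_complement'_of_coprime hcopPB
    set B := B0.map H.subtype with hB
    have hBH : B ≤ H := Subgroup.map_subtype_le _
    have hBc : Nat.card B = (P : Subgroup H).index := by
      rw [hB, Subgroup.card_map_of_injective H.subtype_injective, hB0.symm.index_eq_card]
    have hHPN : H ≤ Subgroup.normalizer (PG : Set G) := by
      intro h hh
      rw [← conj_smul_eq_iff]
      ext y
      rw [mem_conj_smul_iff]
      constructor
      · rintro ⟨w, hw, hwy⟩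
        refine ⟨⟨h, hh⟩ * w * ⟨h, hh⟩⁻¹, hPn.conj_mem w hw _, ?_⟩
        have hwy' : (w : G) = h⁻¹ * y * h := hwy
        simp only [Subgroup.coe_subtype, Subgroup.coe_mul, InvMemClass.coe_inv, hwy']
        group
      · rintro ⟨w, hw, rfl⟩
        have := hPn.conj_mem w hw (⟨h, hh⟩⁻¹)
        rw [inv_inv] at this
        exact ⟨⟨h, hh⟩⁻¹ * w * ⟨h, hh⟩, this, rfl⟩
    have hsup : PG ⊔ B = H := by
      rw [hPG, hB, ← Subgroup.map_sup, hB0.sup_eq_top, ← MonoidHom.range_eq_map, Subgroup.range_subtype]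
    have hBinv : Q ≤ Subgroup.normalizer (B : Set G) := by
      intro x hx
      have hB'H : MulAut.conj x • B ≤ H := by
        intro y hy
        rw [mem_conj_smul_iff] at hy
        have := (Subgroup.mem_normalizer_iff.mp (hQH hx) _).mp (hBH hy)
        rwa [show x * (x⁻¹ * y * x) * x⁻¹ = y by group] at this
      have hxB : MulAut.conj x • H = H := (conj_smul_eq_iff H x).mpr (hQH hx)
      have hxP : MulAut.conj x • PG = PG := (conj_smul_eq_iff PG x).mpr (hPQ hx)
      obtain ⟨u, hu, huB⟩ := CfsgLib.Coprime.exists_conj_eq_of_sup_eq (N := PG) (H := B)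
        (K := MulAut.conj x • B) (hBH.trans hHPN) (hB'H.trans hHPN)
        (by rw [hBc, hPG, Subgroup.card_map_of_injective H.subtype_injective]; exact hcopPB)
        (Nat.card_congr (Subgroup.equivSMul (MulAut.conj x) B).symm.toEquiv)
        (by
          conv_rhs => rw [← hxP]
          rw [← Subgroup.smul_sup, hsup, hxB])
        (Or.inl inferInstance)
      have hn : u⁻¹ * x ∈ Subgroup.normalizer (B : Set G) := by
        rw [← conj_smul_eq_iff, map_mul, mul_smul, ← huB, ← mul_smul, ← map_mul, inv_mul_cancel,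
          map_one, one_smul]
      obtain ⟨w, hw, rfl⟩ := hu
      have hcm : Commute ((w : G)⁻¹) x :=
        ((show Commute x (w : G) from (Subgroup.mem_centralizer_iff.mp (hPC ⟨w, hw, rfl⟩).2 x hx)).inv_right).symm
      have hwN : (w : G)⁻¹ ∈ Subgroup.normalizer (B : Set G) := by
        refine mem_of_pow_mem (n := orderOf x) ?_ ?_
        · rw [orderOf_inv, Subgroup.orderOf_coe]
          exact (hcop.coprime_dvd_left (Q.orderOf_dvd_natCard hx)).coprime_dvd_right (orderOf_dvd_natCard w)
        · have := Subgroup.pow_mem _ hn (orderOf x)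
          rwa [show H.subtype w = (w : G) from rfl, hcm.mul_pow, pow_orderOf_eq_one, mul_one] at this
      have := Subgroup.mul_mem _ (Subgroup.inv_mem _ hwN) hn
      rwa [show H.subtype w = (w : G) from rfl, inv_inv, mul_inv_cancel_left] at this
    set W := B ⊓ Subgroup.centralizer (PG : Set G) with hW
    refine ⟨W, fun hd => P.not_dvd_index (hBc ▸ hd.trans (Subgroup.card_dvd_of_le inf_le_left)), ?_⟩
    rw [Subgroup.commutator_le]
    intro h hh x hx
    obtain ⟨p0, hp0, b, hb, hhpb⟩ : ∃ p0 ∈ PG, ∃ b ∈ B, h = p0 * b := by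
      obtain ⟨⟨⟨p0, hp0⟩, ⟨b, hb⟩⟩, hpb⟩ := hB0.2 ⟨h, hh⟩
      exact ⟨(p0 : G), ⟨p0, hp0, rfl⟩, (b : G), ⟨b, hb, rfl⟩, (congrArg Subtype.val hpb).symm⟩
    have hxfix : ∀ v ∈ PG, x * v * x⁻¹ = v := by rintro _ ⟨v, hv, rfl⟩; exact hfixu x hx v hv
    have hw1 : b * (x * b * x⁻¹)⁻¹ ∈ B :=
      B.mul_mem hb (B.inv_mem ((Subgroup.mem_normalizer_iff.mp (hBinv hx) b).mp hb))
    have hw2 : b * (x * b * x⁻¹)⁻¹ ∈ Subgroup.centralizer (PG : Set G) := by
      rw [Subgroup.mem_centralizer_iff]
      intro v hv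
      have hbv : b⁻¹ * v * b ∈ PG := by
        have := (Subgroup.mem_normalizer_iff.mp (hHPN (H.inv_mem (hBH hb))) v).mp hv
        rwa [inv_inv] at this
      have e1 : (x * b * x⁻¹) * (b⁻¹ * v * b) * (x * b * x⁻¹)⁻¹ = v := by
        calc _ = x * (b * (x⁻¹ * (b⁻¹ * v * b) * x) * b⁻¹) * x⁻¹ := by group
          _ = x * v * x⁻¹ := by
            have e2 : x⁻¹ * (b⁻¹ * v * b) * x = b⁻¹ * v * b := by
              conv_lhs => rw [← hxfix _ hbv]
              group
            rw [e2]; group
          _ = v := hxfix v hv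
      calc v * (b * (x * b * x⁻¹)⁻¹) = b * (b⁻¹ * v * b) * (x * b * x⁻¹)⁻¹ := by group
        _ = b * (x * b * x⁻¹)⁻¹ * ((x * b * x⁻¹) * (b⁻¹ * v * b) * (x * b * x⁻¹)⁻¹) := by group
        _ = b * (x * b * x⁻¹)⁻¹ * v := by rw [e1]
    refine Subgroup.mem_inf.mpr ?_
    have hkey : ⁅h, x⁆ = b * (x * b * x⁻¹)⁻¹ := by
      have hc := Subgroup.mem_centralizer_iff.mp hw2 p0 hp0
      have hxp := hxfix p0 hp0
      rw [commutatorElement_def, hhpb]
      calc p0 * b * x * (p0 * b)⁻¹ * x⁻¹
          = p0 * (b * (x * b * x⁻¹)⁻¹) * (x * p0 * x⁻¹)⁻¹ := by group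
        _ = b * (x * b * x⁻¹)⁻¹ := by rw [hxp, hc, mul_inv_cancel_right]
    rw [hkey]; exact ⟨hw1, hw2⟩
  · -- `H` has a normal `q`-complement
    have hnpc : Cfsg.HasNormalPComplement q H := by
      refine CfsgLib.Transfer.hasNormalPComplement_of_quotient (commutator H) hqA ?_
      haveI : Group.IsNilpotent (H ⧸ commutator H) := CommGroup.isNilpotent (G := Abelianization H)
      exact CfsgLib.Transfer.hasNormalPComplement_of_isNilpotent
    refine ⟨(Cfsg.pResidual q H).map H.subtype, ?_, ?_⟩
    · rw [Subgroup.card_map_of_injective H.subtype_injective]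
      exact CfsgLib.Transfer.hasNormalPComplement_iff.mp hnpc
    rw [Subgroup.commutator_le]
    intro h hh x hx
    have hmem : (⟨h, hh⟩ : H) ∈ (Cfsg.pResidual q H) ⊔ (P : Subgroup H) := by
      rw [sup_comm, CfsgLib.Transfer.sylow_sup_pResidual]; trivial
    rw [← SetLike.mem_coe, Subgroup.normal_mul] at hmem
    obtain ⟨r, hr, u, hu, hru⟩ := hmem
    have hh' : h = (r : G) * (u : G) := (congrArg Subtype.val hru).symm
    have hxr : (⟨x * (r : G) * x⁻¹, hnorm x hx r⟩ : H) ∈ Cfsg.pResidual q H := by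
      rw [SetLike.mem_coe] at hr
      rw [CfsgLib.Transfer.mem_pResidual_iff hnpc] at hr ⊢
      rw [Subgroup.orderOf_mk, ← MulAut.conj_apply, ← MulEquiv.coe_toMonoidHom,
        orderOf_injective _ (MulAut.conj x).injective, Subgroup.orderOf_coe]
      exact hr
    refine ⟨r * (⟨x * (r : G) * x⁻¹, hnorm x hx r⟩ : H)⁻¹,
      (Cfsg.pResidual q H).mul_mem hr ((Cfsg.pResidual q H).inv_mem hxr), ?_⟩
    rw [commutatorElement_def, hh']
    simp only [Subgroup.coe_subtype, Subgroup.coe_mul, InvMemClass.coe_inv]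
    calc (r : G) * (x * (r : G) * x⁻¹)⁻¹
        = (r : G) * (u : G) * (x * (u : G) * x⁻¹)⁻¹ * (x * (r : G) * x⁻¹)⁻¹ := by
          rw [hfixu x hx u hu, mul_inv_cancel_right]
      _ = (r : G) * (u : G) * x * ((r : G) * (u : G))⁻¹ * x⁻¹ := by group

/-- Let G be a finite group and H a non-normal subgroup meeting each of its conjugates by elements outside N_G(H) trivially, with the order of H coprime to its index in N_G(H), such that G is π-separable for π the set of primes dividing the order of H (G has a chain of normal subgroups from 1 to G each of whose factors has order divisible only by primes dividing the order of H or coprime to it). Suppose a Sylow 2-subgroup of H is abelian and Q is a complement of H in N_G(H). Then C_H(Q), the subgroup of elements of H commuting with Q, has order coprime to its index in G and has a normal complement in G. -/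
theorem result {G : Type*} [Group G] [Finite G] (H : Subgroup G)
    (hTI : Cfsg.IsTISubset (H : Set G)) (hnn : ¬ H.Normal)
    (hHall : (Nat.card H).Coprime (H.subgroupOf (Subgroup.normalizer (H : Set G))).index)
    (hsep : ∃ (n : ℕ) (M : Fin (n + 1) → Subgroup G), M 0 = ⊥ ∧ M (Fin.last n) = ⊤ ∧ Monotone M ∧ (∀ i, (M i).Normal) ∧
      ∀ i : Fin n, (∀ q : ℕ, q.Prime → q ∣ (M i.castSucc).relIndex (M i.succ) → q ∣ Nat.card H) ∨
        ((M i.castSucc).relIndex (M i.succ)).Coprime (Nat.card H))
    (h2 : ∀ P : Sylow 2 H, IsMulCommutative (P : Subgroup H))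
    (Q : Subgroup G) (hQ : Q ≤ Subgroup.normalizer (H : Set G)) (hQH : Q ⊓ H = ⊥) (hQH' : Q ⊔ H = Subgroup.normalizer (H : Set G)) :
    (Nat.card ↥(H ⊓ Subgroup.centralizer (Q : Set G))).Coprime (H ⊓ Subgroup.centralizer (Q : Set G)).index ∧
    ∃ N : Subgroup G, N.Normal ∧ N.IsComplement' (H ⊓ Subgroup.centralizer (Q : Set G)) := by
  classical
  have hHG : (Nat.card H).Coprime H.index := hall_of_ti hTI hHall
  set NH := Subgroup.normalizer (H : Set G) with hNH
  have hHN : H ≤ NH := Subgroup.le_normalizer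
  have hNtop : NH ≠ ⊤ := fun h => hnn (Subgroup.normalizer_eq_top_iff.mp h)
  -- normal subgroups of order prime to `|H|`
  obtain ⟨K, hKmem, hKmax⟩ := Set.Finite.exists_maximal
    (s := {K : Subgroup G | K.Normal ∧ (Nat.card K).Coprime (Nat.card H)}) (Set.toFinite _)
    ⟨⊥, (⊥ : Subgroup G).normal_of_characteristic, by simp⟩
  obtain ⟨hKn, hKc⟩ := hKmem
  haveI := hKn
  have hKbig : ∀ L : Subgroup G, L.Normal → (Nat.card L).Coprime (Nat.card H) → L ≤ K := by
    intro L hL hLc
    haveI := hL
    have hmem : L ⊔ K ∈ {K : Subgroup G | K.Normal ∧ (Nat.card K).Coprime (Nat.card H)} :=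
      ⟨inferInstance, (Nat.Coprime.mul_left hLc hKc).coprime_dvd_left (CfsgLib.PLocal.card_sup_dvd_mul L K)⟩
    exact le_sup_left.trans (hKmax hmem le_sup_right)
  have hKH : K ⊓ H = ⊥ := Subgroup.inf_eq_bot_of_coprime hKc
  -- every normal subgroup with nontrivial intersection with `H` ...
  obtain ⟨M, hMn, hKM, hMrel, hMne⟩ : ∃ M : Subgroup G, M.Normal ∧ K ≤ M ∧
      (∀ q : ℕ, q.Prime → q ∣ K.relIndex M → q ∣ Nat.card H) ∧ M ≠ K := by
    obtain ⟨n, F, hF0, hFl, hFmono, hFn, hFfac⟩ := hsep
    have hKtop : K ≠ ⊤ := by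
      intro h
      rw [h, top_inf_eq] at hKH
      rw [hKH] at hnn
      exact hnn (⊥ : Subgroup G).normal_of_characteristic
    have : ∃ i : Fin n, F i.castSucc ≤ K ∧ ¬ F i.succ ≤ K := by
      by_contra h
      push Not at h
      have hall : ∀ i, F i ≤ K := by
        intro i
        induction i using Fin.induction with
        | zero => rw [hF0]; exact bot_le
        | succ i ih => exact h i ih
      exact hKtop (top_le_iff.mp (hFl ▸ hall _))
    obtain ⟨i, hi1, hi2⟩ := this
    haveI := hFn i.succ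
    haveI := hFn i.castSucc
    refine ⟨K ⊔ F i.succ, inferInstance, le_sup_left, ?_, fun h => hi2 (h ▸ le_sup_right)⟩
    rcases hFfac i with h | h
    · intro q hq hqd
      refine h q hq (hqd.trans ?_)
      rw [sup_comm, Subgroup.relIndex_sup_right]
      exact Subgroup.relIndex_dvd_of_le_left _ hi1
    · exfalso
      refine hi2 (hKbig _ (hFn _) ?_)
      rw [← CfsgLib.PLocal.card_mul_relIndex (hFmono (Fin.castSucc_le_succ i))]
      exact Nat.Coprime.mul_left (hKc.coprime_dvd_left (Subgroup.card_dvd_of_le hi1)) h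
  haveI := hMn
  -- `L = M ∩ H` is a nontrivial complement of `K` in `M`
  set L := M ⊓ H with hLdef
  have hLK : K ⊔ L = M := by
    apply le_antisymm (sup_le hKM inf_le_left)
    have hd1 : (K ⊔ L).relIndex M ∣ K.relIndex M := Subgroup.relIndex_dvd_of_le_left M le_sup_left
    have hd2 : (K ⊔ L).relIndex M ∣ H.index := by
      refine (Subgroup.relIndex_dvd_of_le_left M (le_sup_right : L ≤ K ⊔ L)).trans ?_
      have heq : H.relIndex (M ⊔ H) = L.relIndex M := by
        refine Nat.eq_of_mul_eq_mul_left (Nat.card_pos (α := H)) ?_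
        have e1 := CfsgLib.PLocal.card_mul_relIndex (le_sup_right : H ≤ M ⊔ H)
        have e2 := CfsgLib.PLocal.card_mul_relIndex (le_sup_left : M ≤ M ⊔ H)
        have e3 := CfsgLib.PLocal.card_mul_relIndex (inf_le_left : L ≤ M)
        have e4 := CfsgLib.PLocal.card_mul_relIndex (inf_le_right : L ≤ H)
        rw [sup_comm, Subgroup.relIndex_sup_right] at e2
        rw [Subgroup.inf_relIndex_right] at e4
        rw [e1, sup_comm, ← e2, ← e3]
        conv_rhs => rw [← e4]
        ring
      exact heq ▸ Dvd.intro _ (Subgroup.relIndex_mul_index le_sup_right)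
    refine Subgroup.relIndex_eq_one.mp ?_
    by_contra h1
    obtain ⟨q, hq, hqd⟩ := Nat.exists_prime_and_dvd h1
    exact hq.not_dvd_one (hHG ▸ Nat.dvd_gcd (hMrel q hq (hqd.trans hd1)) (hqd.trans hd2))
  have hLne : L ≠ ⊥ := by
    intro h; rw [h, sup_bot_eq] at hLK; exact hMne hLK.symm
  have hLcop : (Nat.card K).Coprime (Nat.card L) := hKc.coprime_dvd_right (Subgroup.card_dvd_of_le inf_le_right)
  -- Frattini argument
  have hGK : ∀ g : G, ∃ k ∈ K, k⁻¹ * g ∈ NH := by
    intro g
    have hgM : MulAut.conj g • M = M := (conj_smul_eq_iff M g).mpr (by rw [Subgroup.normalizer_eq_top]; trivial)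
    have hgK : MulAut.conj g • K = K := (conj_smul_eq_iff K g).mpr (by rw [Subgroup.normalizer_eq_top]; trivial)
    have htopK : Subgroup.normalizer (K : Set G) = ⊤ := Subgroup.normalizer_eq_top K
    haveI : IsZGroup H := isZGroup_of_fixed (K := K) hKc.symm
      (fun h hh h1 => by
        intro k hk
        obtain ⟨hk1, hk2⟩ := Subgroup.mem_inf.mp hk
        have hkN : k ∈ NH := by
          by_contra hkN
          refine h1 (hTI k hkN h hh ?_)
          rw [Subgroup.mem_centralizer_singleton_iff.mp hk2, mul_inv_cancel_right]; exact hh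
        rw [Subgroup.mem_centralizer_iff]
        intro y hy
        have hc : k * y * k⁻¹ * y⁻¹ ∈ K ⊓ H := ⟨by
          rw [mul_assoc, mul_assoc]
          exact K.mul_mem hk1 (by rw [← mul_assoc]; exact hKn.conj_mem _ (K.inv_mem hk1) y),
          H.mul_mem ((Subgroup.mem_normalizer_iff.mp hkN y).mp hy) (H.inv_mem hy)⟩
        rw [hKH, Subgroup.mem_bot] at hc
        calc y * k = y * k * 1 := (mul_one _).symm
          _ = k * y := by
            have : k * y * k⁻¹ = y := mul_inv_eq_one.mp hc
            rw [mul_one]; conv_lhs => rw [← this]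
            group)
      (fun hcen => hLne (by
        -- if `K` centralised `H`, then `L` would be normal
        have hKN : K ≤ NH := fun k hk => Subgroup.centralizer_le_normalizer _ (hcen hk)
        rw [Subgroup.eq_bot_iff_forall]
        intro l hl
        obtain ⟨w, hwN⟩ : ∃ w : G, w ∉ NH := by
          by_contra h; push Not at h; exact hNtop ((Subgroup.eq_top_iff' _).mpr h)
        -- conjugating a complement of `K` inside `M`
        have hlM : w * l * w⁻¹ ∈ M := hMn.conj_mem _ (Subgroup.mem_inf.mp hl).1 w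
        rw [← hLK, ← SetLike.mem_coe, Subgroup.normal_mul] at hlM
        obtain ⟨k, hk, y, hy, hky⟩ := hlM
        simp only at hky
        have hyH : y ∈ H := (Subgroup.mem_inf.mp hy).2
        have hky' : Commute k y := ((Subgroup.mem_centralizer_iff.mp (hcen hk) y hyH)).symm
        have hk1 : k = 1 := by
          have h1 : orderOf (k * y) ∣ Nat.card H := by
            rw [hky, ← MulAut.conj_apply, ← MulEquiv.coe_toMonoidHom,
              orderOf_injective _ (MulAut.conj w).injective]
            exact H.orderOf_dvd_natCard (Subgroup.mem_inf.mp hl).2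
          have h2' : (k * y) ^ Nat.card H = 1 := orderOf_dvd_iff_pow_eq_one.mp h1
          rw [hky'.mul_pow, orderOf_dvd_iff_pow_eq_one.mp (H.orderOf_dvd_natCard hyH), mul_one] at h2'
          have := Nat.eq_one_of_dvd_coprimes hKc (K.orderOf_dvd_natCard hk) (orderOf_dvd_of_pow_eq_one h2')
          exact orderOf_eq_one_iff.mp this
        refine hTI w hwN l (Subgroup.mem_inf.mp hl).2 ?_
        rw [← hky, hk1, one_mul]; exact hyH)) h2
    obtain ⟨k, hk, hkL⟩ := CfsgLib.Coprime.exists_conj_eq_of_sup_eq (N := K) (H := L)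
      (K := MulAut.conj g • L) (by rw [htopK]; exact le_top) (by rw [htopK]; exact le_top) hLcop
      (Nat.card_congr (Subgroup.equivSMul (MulAut.conj g) L).symm.toEquiv)
      (by
        conv_rhs => rw [← hgK]
        rw [← Subgroup.smul_sup, hLK, hgM])
      (Or.inr (Group.isSolvable_of_isSolvable_injective (Subgroup.inclusion_injective (inf_le_right : L ≤ H))))
    refine ⟨k, hk, ?_⟩
    by_contra hn
    apply hLne
    rw [Subgroup.eq_bot_iff_forall]
    intro l hl
    refine hTI _ hn l (Subgroup.mem_inf.mp hl).2 ?_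
    have hfix : MulAut.conj (k⁻¹ * g) • L = L := by
      rw [map_mul, mul_smul, ← hkL, ← mul_smul, ← map_mul, inv_mul_cancel, map_one, one_smul]
    exact (Subgroup.mem_inf.mp ((Subgroup.mem_normalizer_iff.mp ((conj_smul_eq_iff L _).mp hfix) l).mp hl)).2
  haveI : IsZGroup H := isZGroup_of_fixed (K := K) hKc.symm
    (fun h hh h1 => by
      intro k hk
      obtain ⟨hk1, hk2⟩ := Subgroup.mem_inf.mp hk
      have hkN : k ∈ NH := by
        by_contra hkN
        refine h1 (hTI k hkN h hh ?_)
        rw [Subgroup.mem_centralizer_singleton_iff.mp hk2, mul_inv_cancel_right]; exact hh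
      rw [Subgroup.mem_centralizer_iff]
      intro y hy
      have hc : k * y * k⁻¹ * y⁻¹ ∈ K ⊓ H := ⟨by
        rw [mul_assoc, mul_assoc]
        exact K.mul_mem hk1 (by rw [← mul_assoc]; exact hKn.conj_mem _ (K.inv_mem hk1) y),
        H.mul_mem ((Subgroup.mem_normalizer_iff.mp hkN y).mp hy) (H.inv_mem hy)⟩
      rw [hKH, Subgroup.mem_bot] at hc
      have : k * y * k⁻¹ = y := mul_inv_eq_one.mp hc
      calc y * k = k * y * k⁻¹ * k := by rw [this]
        _ = k * y := by group)
    (fun hcen => hNtop (by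
      rw [Subgroup.eq_top_iff']
      intro g
      obtain ⟨k, hk, hkg⟩ := hGK g
      have := NH.mul_mem (Subgroup.centralizer_le_normalizer _ (hcen hk)) hkg
      rwa [mul_inv_cancel_left] at this)) h2
  -- orders
  have hQc : (Nat.card Q).Coprime (Nat.card H) := by
    have : H.relIndex (Q ⊔ H) = Nat.card Q := by
      haveI : (H.subgroupOf NH).Normal := Subgroup.normal_in_normalizer
      rw [← Subgroup.relIndex_bot_left Q, ← hQH, inf_comm, Subgroup.inf_relIndex_right,
        ← Subgroup.relIndex_subgroupOf (hQ), ← Subgroup.relIndex_subgroupOf (sup_le hQ hHN),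
        Subgroup.subgroupOf_sup hQ hHN, Subgroup.relIndex_sup_right]
    rw [hQH', Subgroup.relIndex] at this
    exact (this ▸ hHall).symm
  have hsolv : Group.IsSolvable H := inferInstance
  set C := H ⊓ Subgroup.centralizer (Q : Set G) with hCdef
  set D := ⁅H, Q⁆ with hDdef
  have hHDC : D ⊔ C = H := CfsgLib.Coprime.commutator_sup_centralizer hQ hQc (Or.inr hsolv)
  have hkeyC : ∀ q : ℕ, q.Prime → q ∣ Nat.card C → ¬ q ∣ C.relIndex H ∧ ¬ q ∣ Nat.card D :=
    fun q hq hd => by haveI := Fact.mk hq; exact fixed_part hQ hQc hd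
  constructor
  · refine Nat.coprime_of_dvd fun q hq h1 h2' => ?_
    rw [← Subgroup.relIndex_mul_index (inf_le_left : C ≤ H), hq.dvd_mul] at h2'
    rcases h2' with h | h
    · exact (hkeyC q hq h1).1 h
    · exact hq.not_dvd_one (hHG ▸ Nat.dvd_gcd (h1.trans (Subgroup.card_dvd_of_le inf_le_left)) h)
  set N := K ⊔ (Q ⊔ D) with hNdef
  have hQD : Q ⊔ D ≤ N := le_sup_right
  have hNtopC : ∀ g : G, ∃ a ∈ N, ∃ c ∈ C, g = a * c := by
    have hsup : N ⊔ C = ⊤ := by
      rw [Subgroup.eq_top_iff']
      intro g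
      obtain ⟨k, hk, hkg⟩ := hGK g
      have hle : NH ≤ N ⊔ C := by
        rw [← hQH', ← hHDC]
        exact sup_le ((le_sup_left.trans hQD).trans le_sup_left)
          (sup_le ((le_sup_right.trans hQD).trans le_sup_left) le_sup_right)
      have := (N ⊔ C).mul_mem (Subgroup.mem_sup_left (Subgroup.mem_sup_left hk : k ∈ N)) (hle hkg)
      rwa [mul_inv_cancel_left] at this
    intro g
    have hCnorm : C ≤ Subgroup.normalizer (N : Set G) := by
      intro c hc
      obtain ⟨hcH, hcQ⟩ := Subgroup.mem_inf.mp hc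
      rw [← conj_smul_eq_iff, hNdef, Subgroup.smul_sup, Subgroup.smul_sup,
        (conj_smul_eq_iff K c).mpr (by rw [Subgroup.normalizer_eq_top]; trivial),
        (conj_smul_eq_iff Q c).mpr (Subgroup.centralizer_le_normalizer _ hcQ),
        (conj_smul_eq_iff D c).mpr (CfsgLib.Coprime.sup_le_normalizer_commutator H Q (Subgroup.mem_sup_left hcH))]
    have hg : g ∈ N ⊔ C := hsup ▸ Subgroup.mem_top g
    rw [← SetLike.mem_coe, Subgroup.coe_mul_of_right_le_normalizer_left N C hCnorm] at hg
    obtain ⟨a, ha, c, hc, e⟩ := hg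
    exact ⟨a, ha, c, hc, e.symm⟩
  have hNn : N.Normal := by
    refine ⟨fun a ha g => ?_⟩
    obtain ⟨b, hb, c, hc, rfl⟩ := hNtopC g
    obtain ⟨hcH, hcQ⟩ := Subgroup.mem_inf.mp hc
    have hfix : MulAut.conj c • N = N := by
      rw [hNdef, Subgroup.smul_sup, Subgroup.smul_sup,
        (conj_smul_eq_iff K c).mpr (by rw [Subgroup.normalizer_eq_top]; trivial),
        (conj_smul_eq_iff Q c).mpr (Subgroup.centralizer_le_normalizer _ hcQ),
        (conj_smul_eq_iff D c).mpr (CfsgLib.Coprime.sup_le_normalizer_commutator H Q (Subgroup.mem_sup_left hcH))]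
    have hca : c * a * c⁻¹ ∈ N :=
      (Subgroup.mem_normalizer_iff.mp ((conj_smul_eq_iff N c).mp hfix) a).mp ha
    rw [show b * c * a * (b * c)⁻¹ = b * (c * a * c⁻¹) * b⁻¹ by group]
    exact N.mul_mem (N.mul_mem hb hca) (N.inv_mem hb)
  refine ⟨N, hNn, ?_⟩
  have hdisj : Disjoint N C := by
    rw [disjoint_iff]
    refine Subgroup.inf_eq_bot_of_coprime (Nat.coprime_of_dvd fun q hq h1 h2' => ?_)
    have hqH : q ∣ Nat.card H := h2'.trans (Subgroup.card_dvd_of_le inf_le_left)
    have hd1 := CfsgLib.PLocal.card_sup_dvd_mul (Q ⊔ D) K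
    rw [sup_comm, ← hNdef] at hd1
    have hd2 := card_sup_dvd (A := Q) (B := D)
      (le_sup_right.trans (CfsgLib.Coprime.sup_le_normalizer_commutator H Q))
    have hd : q ∣ Nat.card Q * Nat.card D * Nat.card K :=
      h1.trans (hd1.trans (Nat.mul_dvd_mul_right hd2 _))
    rw [hq.dvd_mul, hq.dvd_mul] at hd
    rcases hd with (h | h) | h
    · exact hq.not_dvd_one (hQc ▸ Nat.dvd_gcd h hqH)
    · exact (hkeyC q hq h2').2 h
    · exact hq.not_dvd_one (hKc ▸ Nat.dvd_gcd h hqH)
  refine Subgroup.isComplement'_of_disjoint_and_mul_eq_univ hdisj (Set.eq_univ_of_forall fun g => ?_)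
  obtain ⟨a, ha, c, hc, rfl⟩ := hNtopC g
  exact ⟨a, ha, c, hc, rfl⟩

end Cfsg.Agent.S4151
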