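import Cfsg.Statements.S4152
import Cfsg.Agent.PiClasses69.Coset

set_option autoImplicit false
open Cfsg

namespace Cfsg.Agent.S4152

open CfsgLib.PiClasses69
open scoped Classical

/-- Commuting pairs with second entry a `π`-element. -/
abbrev Pairs (H : Type*) [Group H] (π : Set ℕ) : Type _ :=
  {p : H × H // IsPi π p.2 ∧ Commute p.1 p.2}

theorem card_pairs (H : Type*) [Group H] [Finite H] (π : Set ℕ) :
    Nat.card (Pairs H π) = Nat.card {C : ConjClasses H // ∀ q : ℕ, q.Prime →
      (∃ g : H, ConjClasses.mk g = C ∧ q ∣ orderOf g) → q ∈ π} * Nat.card H := by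
  have hpi : ∀ (C : ConjClasses H), (∀ q : ℕ, q.Prime →
      (∃ g : H, ConjClasses.mk g = C ∧ q ∣ orderOf g) → q ∈ π) ↔ IsPi π C.out := by
    intro C
    have hC : ConjClasses.mk C.out = C := Quotient.out_eq C
    constructor
    · intro h q hq hd; exact h q hq ⟨_, hC, hd⟩
    · rintro h q hq ⟨g, hg, hd⟩
      rw [← hC, ConjClasses.mk_eq_mk_iff_isConj, isConj_iff] at hg
      obtain ⟨c, hc⟩ := hg
      refine h q hq ?_
      rw [← hc, ← MulAut.conj_apply, ← MulEquiv.coe_toMonoidHom,
        orderOf_injective _ (MulAut.conj c).injective]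
      exact hd
  have htex : ∀ y : H, ∃ t : H, t * (ConjClasses.mk y).out * t⁻¹ = y := fun y =>
    isConj_iff.mp (ConjClasses.mk_eq_mk_iff_isConj.mp (Quotient.out_eq (ConjClasses.mk y)))
  choose t ht using htex
  have hord : ∀ y, orderOf (ConjClasses.mk y).out = orderOf y := fun y => by
    conv_rhs => rw [← ht y]
    exact (orderOf_injective (MulAut.conj (t y)).toMonoidHom (MulAut.conj (t y)).injective _).symm
  rw [← Nat.card_prod]
  apply Nat.card_congr
  refine Equiv.ofBijective (fun p => (⟨ConjClasses.mk p.1.2, (hpi _).mpr (fun q hq hd =>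
    p.2.1 q hq (hord p.1.2 ▸ hd))⟩, p.1.1 * t p.1.2)) ⟨?_, ?_⟩
  · rintro ⟨⟨g, y⟩, hy, hc⟩ ⟨⟨g', y'⟩, hy', hc'⟩ h
    simp only [Prod.mk.injEq, Subtype.mk.injEq] at h
    obtain ⟨h1, h2⟩ := h
    have e : ∀ (g y : H), Commute g y → (g * t y) * (ConjClasses.mk y).out * (g * t y)⁻¹ = y := by
      intro g y hgy
      calc (g * t y) * (ConjClasses.mk y).out * (g * t y)⁻¹
          = g * (t y * (ConjClasses.mk y).out * (t y)⁻¹) * g⁻¹ := by group
        _ = y := by rw [ht, hgy.eq, mul_inv_cancel_right]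
    have hyy : y = y' := by rw [← e g y hc, h1, h2, e g' y' hc']
    subst hyy
    have := mul_right_cancel h2
    subst this; rfl
  · rintro ⟨⟨C, hC⟩, k⟩
    have hCC : ConjClasses.mk (k * C.out * k⁻¹) = C := by
      conv_rhs => rw [← Quotient.out_eq C]
      exact ConjClasses.mk_eq_mk_iff_isConj.mpr (isConj_iff.mpr ⟨k⁻¹, by group⟩)
    set y := k * C.out * k⁻¹ with hy
    have hty : t y * C.out * (t y)⁻¹ = y := by
      have := ht y; rwa [hCC] at this
    refine ⟨⟨(k * (t y)⁻¹, y), ?_, ?_⟩, ?_⟩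
    · intro q hq hd
      refine (hpi C).mp hC q hq ?_
      rwa [hy, ← MulAut.conj_apply, ← MulEquiv.coe_toMonoidHom,
        orderOf_injective _ (MulAut.conj k).injective] at hd
    · have e : (t y)⁻¹ * y * t y = C.out := by
        calc (t y)⁻¹ * y * t y = (t y)⁻¹ * (t y * C.out * (t y)⁻¹) * t y := by rw [hty]
          _ = C.out := by group
      show k * (t y)⁻¹ * y = y * (k * (t y)⁻¹)
      calc k * (t y)⁻¹ * y = k * ((t y)⁻¹ * y * t y) * (t y)⁻¹ := by group
        _ = (k * C.out * k⁻¹) * (k * (t y)⁻¹) := by rw [e]; group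
        _ = _ := by rw [← hy]
    · simp only [Prod.mk.injEq, Subtype.mk.injEq]
      exact ⟨hCC, inv_mul_cancel_right _ _⟩

/-- Let G be a finite group, N a normal subgroup and π a set of primes. Then the number of conjugacy classes of π-elements of G (elements whose order is divisible only by primes in π) is at most the number of conjugacy classes of π-elements of N (under conjugation by N) times the number of conjugacy classes of π-elements of G/N. -/
theorem result {G : Type*} [Group G] [Finite G] (N : Subgroup G) [N.Normal] (π : Set ℕ) :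
    Nat.card {C : ConjClasses G // ∀ q : ℕ, q.Prime → (∃ g : G, ConjClasses.mk g = C ∧ q ∣ orderOf g) → q ∈ π} ≤ Nat.card {C : ConjClasses N // ∀ q : ℕ, q.Prime → (∃ g : N, ConjClasses.mk g = C ∧ q ∣ orderOf g) → q ∈ π} * Nat.card {C : ConjClasses (G ⧸ N) // ∀ q : ℕ, q.Prime → (∃ g : (G ⧸ N), ConjClasses.mk g = C ∧ q ∣ orderOf g) → q ∈ π} := by
  refine Nat.le_of_mul_le_mul_right ?_ (Nat.card_pos (α := G))
  rw [← card_pairs G π, mul_comm (Nat.card {C : ConjClasses N // _}), mul_assoc,
    Subgroup.card_eq_card_quotient_mul_card_subgroup N]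
  have hG : Nat.card (Pairs G π) ≤ Nat.card (Pairs (G ⧸ N) π) * Nat.card (Pairs N π) := by
    let f : Pairs G π → Pairs (G ⧸ N) π := fun p =>
      ⟨((p.1.1 : G ⧸ N), (p.1.2 : G ⧸ N)),
        fun q hq hd => p.2.1 q hq (hd.trans (orderOf_map_dvd (QuotientGroup.mk' N) _)),
        p.2.2.map (QuotientGroup.mk' N)⟩
    haveI : Fintype (Pairs (G ⧸ N) π) := Fintype.ofFinite _
    rw [← Nat.card_congr (Equiv.sigmaFiberEquiv f), Nat.card_sigma, Nat.card_eq_fintype_card,
      ← smul_eq_mul, ← Finset.card_univ]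
    refine Finset.sum_le_card_nsmul _ _ _ (fun q _ => ?_)
    rcases isEmpty_or_nonempty {p : Pairs G π // f p = q} with he | hne
    · rw [Nat.card_of_isEmpty]; exact Nat.zero_le _
    obtain ⟨p0, hp0⟩ := hne.some
    -- for each second entry fix a first one
    let g0 : G → G := fun y =>
      if h : ∃ p : Pairs G π, f p = q ∧ p.1.2 = y then h.choose.1.1 else 1
    set x := p0.1.2 with hxdef
    have hle : Nat.card {p : Pairs G π // f p = q} ≤ cosetPairs π N x := by
      refine Nat.card_le_card_of_injective (fun p => ⟨((g0 p.1.1.2)⁻¹ * p.1.1.1, p.1.1.2), ?_⟩) ?_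
      · have h : ∃ p' : Pairs G π, f p' = q ∧ p'.1.2 = p.1.1.2 := ⟨p.1, p.2, rfl⟩
        have hg0 : g0 p.1.1.2 = h.choose.1.1 := dif_pos h
        obtain ⟨h1, h2⟩ := h.choose_spec
        have e1 := congrArg (fun r : Pairs (G ⧸ N) π => r.1.1) (h1.trans p.2.symm)
        have e2 := congrArg (fun r : Pairs (G ⧸ N) π => r.1.2) (hp0.trans p.2.symm)
        simp only [f] at e1 e2
        refine ⟨?_, ?_, p.1.2.1, ?_⟩
        · rw [hg0]; exact QuotientGroup.eq.mp e1
        · exact QuotientGroup.eq.mp e2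
        · rw [hg0]
          have := h.choose.2.2
          rw [h2] at this
          exact this.inv_left.mul_left p.1.2.2
      · intro p p' h
        simp only [Subtype.mk.injEq, Prod.mk.injEq] at h
        apply Subtype.ext; apply Subtype.ext
        refine Prod.ext ?_ h.2
        rw [h.2] at h
        exact mul_left_cancel h.1
    refine hle.trans ((cosetPairs_eq_invariantPairs π _ N le_rfl x p0.2.1
      (by rw [Subgroup.normalizer_eq_top]; trivial)).le.trans ?_)
    refine Nat.card_le_card_of_injective (fun p => (⟨(⟨p.1.1, p.2.1⟩, ⟨p.1.2, p.2.2.1⟩),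
      fun r hr hd => p.2.2.2.1 r hr (by rwa [Subgroup.orderOf_mk] at hd),
      Subtype.ext p.2.2.2.2.1⟩ : Pairs N π)) ?_
    intro p p' h
    simp only [Subtype.mk.injEq, Prod.mk.injEq] at h
    exact Subtype.ext (Prod.ext h.1 h.2)
  refine hG.trans (le_of_eq ?_)
  rw [card_pairs, card_pairs]
  ring

end Cfsg.Agent.S4152
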