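import Cfsg.Statements.S4153
import Mathlib.GroupTheory.Sylow
import Mathlib.GroupTheory.PGroup

set_option autoImplicit false
open Cfsg

namespace Cfsg.Agent.S4153

theorem orderOf_conj {H : Type*} [Group H] (g x : H) : orderOf (g * x * g⁻¹) = orderOf x :=
  orderOf_injective (MulAut.conj g).toMonoidHom (MulAut.conj g).injective x

theorem isPElement_iff {H : Type*} [Group H] [Finite H] (p : ℕ) [Fact p.Prime] (x : H) :
    (∃ k : ℕ, orderOf x = p ^ k) ↔ IsPGroup p (Subgroup.zpowers x) := by
  rw [IsPGroup.iff_card, Nat.card_zpowers]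


/-- Let G be a finite group, p a prime, N a normal subgroup, P a Sylow p-subgroup of G and P̄ a Sylow p-subgroup of G/N. Count the elements of p-power order, the identity included. Then (number of such elements of G/N)/#P̄ ≤ (number of such elements of G)/#P, stated as a cross-multiplied inequality, with equality when N is central. -/
theorem result {G : Type*} [Group G] [Finite G] (p : ℕ) [Fact p.Prime] (N : Subgroup G) [N.Normal]
    (P : Sylow p G) (Pbar : Sylow p (G ⧸ N)) :
    Nat.card {g : (G ⧸ N) // ∃ k : ℕ, orderOf g = p ^ k} * Nat.card (P : Subgroup G) ≤ Nat.card {g : G // ∃ k : ℕ, orderOf g = p ^ k} * Nat.card (Pbar : Subgroup (G ⧸ N)) ∧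
    (N ≤ Subgroup.center G → Nat.card {g : (G ⧸ N) // ∃ k : ℕ, orderOf g = p ^ k} * Nat.card (P : Subgroup G) = Nat.card {g : G // ∃ k : ℕ, orderOf g = p ^ k} * Nat.card (Pbar : Subgroup (G ⧸ N))) := by
  classical
  let π := QuotientGroup.mk' N
  have hπ : Function.Surjective π := QuotientGroup.mk'_surjective N
  -- the image of `P` is a Sylow subgroup of `G ⧸ N`
  let Q : Sylow p (G ⧸ N) := P.mapSurjective hπ
  have hQ : Nat.card (Pbar : Subgroup (G ⧸ N)) = Nat.card ((P : Subgroup G).map π) :=
    Nat.card_congr (Sylow.equiv Pbar Q).toEquiv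
  set D := N.subgroupOf (P : Subgroup G) with hD
  have hcard : Nat.card (P : Subgroup G) = Nat.card (Pbar : Subgroup (G ⧸ N)) * Nat.card D := by
    rw [hQ, Subgroup.card_eq_card_quotient_mul_card_subgroup D]
    congr 1
    have e : (π.comp (P : Subgroup G).subtype).ker = D := by
      ext z; simp [π, hD, Subgroup.mem_subgroupOf, MonoidHom.mem_ker]
    have hr : (π.comp (P : Subgroup G).subtype).range = (P : Subgroup G).map π := by
      rw [MonoidHom.range_comp, Subgroup.range_subtype]
    rw [← e, ← hr]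
    exact Nat.card_congr (QuotientGroup.quotientKerEquivRange _).toEquiv
  -- lift every `p`-element of the quotient into a conjugate of `P`
  have hlift : ∀ q : {g : (G ⧸ N) // ∃ k : ℕ, orderOf g = p ^ k}, ∃ g : G, ∃ x ∈ (P : Subgroup G),
      π (g * x * g⁻¹) = q.1 := by
    intro q
    obtain ⟨R, hR⟩ := ((isPElement_iff p q.1).mp q.2).exists_le_sylow
    obtain ⟨c, hc⟩ := MulAction.exists_smul_eq (G ⧸ N) Q R
    have hq : q.1 ∈ ((c • Q : Sylow p (G ⧸ N)) : Subgroup (G ⧸ N)) := by
      rw [hc]; exact hR (Subgroup.mem_zpowers _)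
    rw [Sylow.coe_subgroup_smul] at hq
    obtain ⟨y, ⟨x, hx, rfl⟩, hy⟩ := hq
    obtain ⟨g, rfl⟩ := hπ c
    exact ⟨g, x, hx, by rw [map_mul, map_mul, map_inv]; exact hy⟩
  choose g x hx hgx using hlift
  let f : {g : (G ⧸ N) // ∃ k : ℕ, orderOf g = p ^ k} × D → {g : G // ∃ k : ℕ, orderOf g = p ^ k} :=
    fun a => ⟨g a.1 * (x a.1 * ((a.2 : (P : Subgroup G)) : G)) * (g a.1)⁻¹, by
      obtain ⟨k, hk⟩ := IsPGroup.iff_orderOf.mp P.isPGroup'
        ⟨x a.1 * ((a.2 : (P : Subgroup G)) : G), mul_mem (hx a.1) (a.2 : (P : Subgroup G)).2⟩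
      rw [Subgroup.orderOf_mk] at hk
      exact ⟨k, by rw [orderOf_conj]; exact hk⟩⟩
  have hπf : ∀ a, π (f a).1 = a.1.1 := by
    intro a
    have : π ((a.2 : (P : Subgroup G)) : G) = 1 := (QuotientGroup.eq_one_iff _).mpr a.2.2
    simp only [f, map_mul, this, mul_one]
    rw [← map_mul, ← map_mul, hgx]
  have hinj : Function.Injective f := by
    intro a b h
    have h1 : a.1 = b.1 := Subtype.ext (by rw [← hπf a, ← hπf b, h])
    have h2 := congrArg Subtype.val h
    simp only [f, h1] at h2
    exact Prod.ext h1 (Subtype.ext (Subtype.ext (mul_left_cancel (mul_left_cancel (mul_right_cancel h2)))))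
  have hle := Nat.card_le_card_of_injective f hinj
  rw [Nat.card_prod] at hle
  constructor
  · rw [hcard, ← mul_assoc, mul_right_comm]
    exact Nat.mul_le_mul_right _ hle
  · intro hc
    have hsurj : Function.Surjective f := by
      intro y
      let q : {g : (G ⧸ N) // ∃ k : ℕ, orderOf g = p ^ k} := ⟨π y.1, by
        obtain ⟨k, hk⟩ := y.2
        obtain ⟨j, -, hj⟩ := (Nat.dvd_prime_pow Fact.out).mp (hk ▸ orderOf_map_dvd π y.1)
        exact ⟨j, hj⟩⟩
      set z := g q * x q * (g q)⁻¹ with hz
      set n := z⁻¹ * y.1 with hn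
      have hnN : n ∈ N := QuotientGroup.eq.mp (show π z = π y.1 by rw [hz, hgx])
      have hcm : ∀ w : G, w * n = n * w := fun w => Subgroup.mem_center_iff.mp (hc hnN) w
      -- a central `p`-element lies in every Sylow `p`-subgroup
      have hyk : IsPGroup p (Subgroup.zpowers y.1) := (isPElement_iff p y.1).mp y.2
      have hzk : IsPGroup p (Subgroup.zpowers z) := by
        rw [← isPElement_iff]
        obtain ⟨k, hk⟩ := IsPGroup.iff_orderOf.mp P.isPGroup' ⟨x q, hx q⟩
        rw [Subgroup.orderOf_mk] at hk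
        exact ⟨k, by rw [hz, orderOf_conj, hk]⟩
      have hcomm : Commute z⁻¹ y.1 := by
        have : Commute z n := hcm z
        have h2 : y.1 = z * n := by rw [hn, mul_inv_cancel_left]
        rw [h2]; exact (((Commute.refl z).inv_left).mul_right this.inv_left)
      have hnk : ∃ k : ℕ, orderOf n = p ^ k := by
        obtain ⟨a, ha⟩ := y.2
        obtain ⟨b, hb⟩ := (isPElement_iff p z).mpr hzk
        have h1 : n ^ p ^ (a + b) = 1 := by
          rw [hn, hcomm.mul_pow]
          have e1 : z⁻¹ ^ p ^ (a + b) = 1 := by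
            rw [inv_pow, pow_add, mul_comm, pow_mul, ← hb, pow_orderOf_eq_one, one_pow, inv_one]
          have e2 : y.1 ^ p ^ (a + b) = 1 := by
            rw [pow_add, pow_mul, ← ha, pow_orderOf_eq_one, one_pow]
          rw [e1, e2, one_mul]
        obtain ⟨j, -, hj⟩ := (Nat.dvd_prime_pow Fact.out).mp (orderOf_dvd_of_pow_eq_one h1)
        exact ⟨j, hj⟩
      haveI : (Subgroup.zpowers n).Normal := ⟨fun m hm w => by
        obtain ⟨i, rfl⟩ := Subgroup.mem_zpowers_iff.mp hm
        rw [show w * n ^ i * w⁻¹ = n ^ i by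
          rw [((show Commute w n from hcm w).zpow_right i).eq, mul_inv_cancel_right]]
        exact Subgroup.zpow_mem_zpowers n i⟩
      have hnP : n ∈ (P : Subgroup G) := by
        have hle : Subgroup.zpowers n ≤ (P : Subgroup G) := by
          obtain ⟨R, hR⟩ := ((isPElement_iff p n).mp hnk).exists_le_sylow
          obtain ⟨c, hc'⟩ := MulAction.exists_smul_eq G R P
          intro m hm
          rw [← hc', Sylow.coe_subgroup_smul]
          refine ⟨c⁻¹ * m * c, hR ?_, by simp [MulAut.smul_def, MulAut.conj_apply]; group⟩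
          have := Subgroup.Normal.conj_mem inferInstance m hm c⁻¹
          rwa [inv_inv] at this
        exact hle (Subgroup.mem_zpowers n)
      refine ⟨(q, ⟨⟨n, hnP⟩, hnN⟩), Subtype.ext ?_⟩
      show g q * (x q * n) * (g q)⁻¹ = y.1
      calc g q * (x q * n) * (g q)⁻¹ = g q * x q * (n * (g q)⁻¹) := by group
        _ = z * n := by rw [← hcm (g q)⁻¹, hz]; group
        _ = y.1 := by rw [hn, mul_inv_cancel_left]
    have heq := Nat.card_congr (Equiv.ofBijective f ⟨hinj, hsurj⟩)
    rw [Nat.card_prod] at heq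
    rw [hcard, ← heq]
    ring

end Cfsg.Agent.S4153
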