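import Cfsg.Statements.S4154
import Mathlib.GroupTheory.QuotientGroup.Basic
import Mathlib.GroupTheory.Index
import Mathlib.GroupTheory.Coset.Card

set_option autoImplicit false
open Cfsg

namespace Cfsg.Agent.S4154

/-- Let G be a finite group and α an automorphism of G such that every element of G is the product of an element fixed by α and an element of the form g⁻¹α(g). If N is a normal α-invariant subgroup, then the automorphism ᾱ induced on G/N has the same property, and every coset fixed by ᾱ contains an element fixed by α (so the fixed points of ᾱ are the images of the fixed points of α). -/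
theorem result {G : Type*} [Group G] [Finite G] (α : MulAut G)
    (hccp : ∀ x : G, ∃ c g : G, α c = c ∧ x = c * (g⁻¹ * α g))
    (N : Subgroup G) [N.Normal] (hN : ∀ n ∈ N, α n ∈ N) :
    (∀ x : G, ∃ c g : G, c⁻¹ * α c ∈ N ∧ x⁻¹ * (c * (g⁻¹ * α g)) ∈ N) ∧
    (∀ x : G, x⁻¹ * α x ∈ N → ∃ c : G, α c = c ∧ c⁻¹ * x ∈ N) := by
  constructor
  · intro x
    obtain ⟨c, g, hc, hx⟩ := hccp x
    refine ⟨c, g, ?_, ?_⟩
    · rw [hc, inv_mul_cancel]; exact N.one_mem
    · rw [hx, inv_mul_cancel]; exact N.one_mem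
  intro x hx
  let β : G ⧸ N →* G ⧸ N := QuotientGroup.map N N α.toMonoidHom (fun n hn => hN n hn)
  let F : Subgroup (G ⧸ N) := MonoidHom.eqLocus β (MonoidHom.id _)
  let C : Subgroup G := MonoidHom.eqLocus α.toMonoidHom (MonoidHom.id _)
  let Cb : Subgroup (G ⧸ N) := C.map (QuotientGroup.mk' N)
  have hle : Cb ≤ F := by
    rintro _ ⟨c, hc, rfl⟩
    show β (c : G ⧸ N) = (c : G ⧸ N)
    rw [show β (c : G ⧸ N) = ((α c : G) : G ⧸ N) from rfl, show α c = c from hc]
  let τ : (G ⧸ N) ⧸ F → G ⧸ N := Quotient.lift (fun q => q * (β q)⁻¹) (by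
    intro q r h
    rw [← Quotient.eq_iff_equiv] at h
    have hm : β (q⁻¹ * r) = q⁻¹ * r := QuotientGroup.eq.mp h
    rw [map_mul, map_inv] at hm
    show q * (β q)⁻¹ = r * (β r)⁻¹
    have hr : β r = β q * q⁻¹ * r := by rw [mul_assoc (β q), ← hm, mul_inv_cancel_left]
    rw [hr]; group)
  have hsurj : Function.Surjective (fun p : Cb × ((G ⧸ N) ⧸ F) => (p.1 : G ⧸ N) * τ p.2) := by
    intro q
    obtain ⟨y, rfl⟩ := QuotientGroup.mk'_surjective N q
    obtain ⟨c, g, hc, rfl⟩ := hccp y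
    refine ⟨(⟨(c : G ⧸ N), c, hc, rfl⟩, QuotientGroup.mk ((g⁻¹ : G) : G ⧸ N)), ?_⟩
    show (c : G ⧸ N) * ((g⁻¹ : G) * (β ((g⁻¹ : G) : G ⧸ N))⁻¹) = _
    rw [show β ((g⁻¹ : G) : G ⧸ N) = ((α g⁻¹ : G) : G ⧸ N) from rfl, map_inv]
    simp
  have hcard := Nat.card_le_card_of_surjective _ hsurj
  rw [Nat.card_prod, Subgroup.card_eq_card_quotient_mul_card_subgroup F, mul_comm (Nat.card Cb)] at hcard
  have heq : Cb = F := Subgroup.eq_of_le_of_card_ge hle (Nat.le_of_mul_le_mul_left hcard Nat.card_pos)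
  have hxF : (x : G ⧸ N) ∈ F := (QuotientGroup.eq.mpr hx).symm
  rw [← heq] at hxF
  obtain ⟨c, hc, hcx⟩ := hxF
  exact ⟨c, hc, QuotientGroup.eq.mp hcx⟩

end Cfsg.Agent.S4154
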