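import Cfsg.Statements.S4155
import Cfsg.Agent.S4151
import Cfsg.Agent.Solvable.Fitting
import Cfsg.Agent.TwoGroupsQ.UniqueInvolution
import Cfsg.Agent.Coprime.Generation

set_option autoImplicit false
open Cfsg

namespace Cfsg.Agent.S4155

open Subgroup
open CfsgLib

variable {G : Type*} [Group G] [Finite G] (N : Subgroup G)

/-- The Sylow subgroups of a nilpotent normal subgroup are normal in the group. -/
theorem sylow_map_normal [N.Normal] (hnil : Group.IsNilpotent N) {r : ℕ} [Fact r.Prime]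
    (R : Sylow r N) : (R : Subgroup N).Normal ∧ ((R : Subgroup N).map N.subtype).Normal := by
  haveI hn : (R : Subgroup N).Normal := R.normal_of_normalizerCondition normalizerCondition_of_isNilpotent
  haveI := R.characteristic_of_normal hn
  exact ⟨hn, inferInstance⟩

variable (heq : ∀ x : G, x ∉ N → ∀ n ∈ N, orderOf (x * n) = orderOf x)

include heq in
theorem fixed_point_free {q r : ℕ} [Fact q.Prime] [Fact r.Prime] (hqr : r ≠ q) {Q R : Subgroup G}
    (hQ : IsPGroup q Q) (hR : IsPGroup r R) (hRN : R ≤ N) {x n : G} (hx : x ∈ Q) (hxN : x ∉ N)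
    (hn : n ∈ R) (hc : Commute x n) : n = 1 := by
  obtain ⟨i, hi⟩ := IsPGroup.iff_orderOf.mp hQ ⟨x, hx⟩
  obtain ⟨j, hj⟩ := IsPGroup.iff_orderOf.mp hR ⟨n, hn⟩
  rw [Subgroup.orderOf_mk] at hi hj
  have hcop : (orderOf x).Coprime (orderOf n) := by
    rw [hi, hj]
    exact Nat.Coprime.pow i j ((Nat.coprime_primes Fact.out Fact.out).mpr hqr.symm)
  have h1 := hc.orderOf_mul_eq_mul_orderOf_of_coprime hcop
  rw [heq x hxN n (hRN hn)] at h1
  exact orderOf_eq_one_iff.mp (Nat.eq_of_mul_eq_mul_left (orderOf_pos x) (by rw [← h1, mul_one]))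

/-- Let G be a finite group and N a proper non-trivial normal nilpotent subgroup whose order is not a prime power, such that for every x outside N all elements of the coset xN have the same order as x. Then N is the Fitting subgroup of G, and for every prime q every Sylow q-subgroup of G/N is cyclic or generalized quaternion. -/
theorem result {G : Type*} [Group G] [Finite G] (N : Subgroup G) [N.Normal] (hN1 : N ≠ ⊥) (hN2 : N ≠ ⊤)
    (heq : ∀ x : G, x ∉ N → ∀ n ∈ N, orderOf (x * n) = orderOf x)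
    (hnil : Group.IsNilpotent N) (hnpp : ¬ IsPrimePow (Nat.card N)) :
    N = Cfsg.fittingSubgroup G ∧
    ∀ (q : ℕ) [Fact q.Prime] (Q : Sylow q (G ⧸ N)), IsCyclic (Q : Subgroup (G ⧸ N)) ∨ ∃ n : ℕ, Nonempty ((Q : Subgroup (G ⧸ N)) ≃* QuaternionGroup (2 ^ n)) := by
  classical
  have hother : ∀ q : ℕ, ∃ r : ℕ, r.Prime ∧ r ∣ Nat.card N ∧ r ≠ q := by
    intro q
    by_contra h
    push Not at h
    obtain ⟨r, hr, hrd⟩ := Nat.exists_prime_and_dvd
      (show Nat.card N ≠ 1 from fun e => hN1 (Subgroup.card_eq_one.mp e))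
    exact hnpp (isPrimePow_iff_unique_prime_dvd.mpr
      ⟨r, ⟨hr, hrd⟩, fun s hs => (h s hs.1 hs.2).trans (h r hr hrd).symm⟩)
  refine ⟨le_antisymm (Solvable.le_fittingSubgroup hnil) ?_, ?_⟩
  · rw [Solvable.fittingSubgroup_eq_iSup]
    refine iSup_le fun q x hx => ?_
    by_contra hxN
    haveI := Fact.mk q.2
    obtain ⟨r, hr, hrd, hrq⟩ := hother q
    haveI := Fact.mk hr
    obtain ⟨R⟩ := (inferInstance : Nonempty (Sylow r N))
    have hRn := (sylow_map_normal N hnil R).2
    have hQn : (Cfsg.pCore (q : ℕ) G).Normal := Solvable.pCore_normal (q : ℕ)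
    have hQp : IsPGroup (q : ℕ) (Cfsg.pCore (q : ℕ) G) := PLocal.isPGroup_pCore (q : ℕ) G
    have hRp : IsPGroup r ((R : Subgroup N).map N.subtype) := R.isPGroup'.map _
    have hdisj : Disjoint (Cfsg.pCore (q : ℕ) G) ((R : Subgroup N).map N.subtype) :=
      IsPGroup.disjoint_of_ne _ _ hrq.symm _ _ hQp hRp
    apply Sylow.ne_bot_of_dvd_card R hrd
    rw [eq_bot_iff]
    intro n hn
    have := fixed_point_free N heq hrq hQp hRp (map_subtype_le _) hx hxN ⟨n, hn, rfl⟩
      (Subgroup.commute_of_normal_of_disjoint _ _ hQn hRn hdisj x n hx ⟨n, hn, rfl⟩)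
    exact Subgroup.mem_bot.mpr (Subtype.ext this)
  intro q _ Qs
  obtain ⟨Q, hQ⟩ := Sylow.mapSurjective_surjective (QuotientGroup.mk'_surjective N) q Qs
  obtain ⟨Sq⟩ := (inferInstance : Nonempty (Sylow q N))
  obtain ⟨hSn, hSqn⟩ := sylow_map_normal N hnil Sq
  set K := (Sq : Subgroup N).map N.subtype with hK
  haveI := hSqn
  have hKN : K ≤ N := map_subtype_le _
  have hQN : ∀ x ∈ (Q : Subgroup G), x ∈ N → x ∈ K := by
    intro x hx hxN
    refine ⟨⟨x, hxN⟩, ?_, rfl⟩
    have hp' : IsPGroup q (zpowers (⟨x, hxN⟩ : N)) := by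
      refine IsPGroup.of_injective (Q.isPGroup'.to_le (zpowers_le.mpr hx))
        ((N.subtype.comp (zpowers (⟨x, hxN⟩ : N)).subtype).codRestrict _ (fun y => ?_)) ?_
      · obtain ⟨i, hi⟩ := mem_zpowers_iff.mp y.2
        exact mem_zpowers_iff.mpr ⟨i, congrArg Subtype.val hi⟩
      · exact fun a b h => Subtype.ext (Subtype.ext (congrArg Subtype.val h :))
    obtain ⟨S', hS'⟩ := hp'.exists_le_sylow
    haveI := Sylow.unique_of_normal Sq hSn
    rw [Subsingleton.elim Sq S']
    exact hS' (mem_zpowers _)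
  set f := QuotientGroup.mk' K with hf
  set Qb := (Q : Subgroup G).map f with hQb
  have hQbp : IsPGroup q Qb := Q.isPGroup'.map f
  have hu : TwoGroupsQ.HasUniqueOrderP Qb q := by
    by_contra hu
    obtain ⟨A, hAQ, hAc, hAnc⟩ := S4151.exists_noncyclic hQbp hu
    haveI := hAc
    obtain ⟨r, hr, hrd, hrq⟩ := hother q
    haveI := Fact.mk hr
    obtain ⟨R⟩ := (inferInstance : Nonempty (Sylow r N))
    set RG := (R : Subgroup N).map N.subtype with hRG
    haveI hRn : RG.Normal := (sylow_map_normal N hnil R).2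
    have hRp : IsPGroup r RG := R.isPGroup'.map _
    set Rb := RG.map f with hRb
    haveI : Rb.Normal := Subgroup.Normal.map hRn f (QuotientGroup.mk'_surjective K)
    have hdisj : Disjoint K RG := IsPGroup.disjoint_of_ne _ _ hrq.symm _ _ (Sq.isPGroup'.map _) hRp
    have hle : Rb ≤ (⊥ : Subgroup (G ⧸ K)) := by
      refine Coprime.le_of_forall_inf_centralizer_le hAnc (le_normalizer_of_normal) ?_ ?_
      · exact IsPGroup.coprime_card_of_ne _ _ hrq.symm (H₁ := A) (H₂ := Rb) (hQbp.to_le hAQ) (hRp.map f)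
      · intro a ha ha1 b hb
        obtain ⟨⟨n, hn, rfl⟩, hbc⟩ := Subgroup.mem_inf.mp hb
        obtain ⟨x, hx, rfl⟩ := hAQ ha
        have hxN : x ∉ N := fun h => ha1 ((QuotientGroup.eq_one_iff x).mpr (hQN x hx h))
        have h1 : x * n * x⁻¹ * n⁻¹ ∈ K := by
          rw [← QuotientGroup.eq_one_iff]
          show f (x * n * x⁻¹ * n⁻¹) = 1
          have h2 := mem_centralizer_singleton_iff.mp hbc
          rw [map_mul, map_mul, map_mul, map_inv, map_inv, ← h2]
          group
        have h3 : x * n * x⁻¹ * n⁻¹ ∈ RG := RG.mul_mem (hRn.conj_mem n hn x) (RG.inv_mem hn)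
        have h4 := mul_inv_eq_one.mp (Subgroup.disjoint_def.mp hdisj h1 h3)
        have hc : Commute x n := by
          show x * n = n * x
          calc x * n = x * n * x⁻¹ * x := by group
            _ = n * x := by rw [h4]
        have := fixed_point_free N heq hrq Q.isPGroup' hRp (map_subtype_le _) hx hxN hn hc
        rw [Subgroup.mem_bot, this, map_one]
    rw [le_bot_iff, hRb, Subgroup.map_eq_bot_iff, hf, QuotientGroup.ker_mk'] at hle
    refine Sylow.ne_bot_of_dvd_card R hrd ?_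
    rw [← Subgroup.map_eq_bot_iff_of_injective _ N.subtype_injective, ← hRG, eq_bot_iff]
    exact (le_inf hle le_rfl).trans hdisj.le_bot
  -- transport to the quotient by `N`
  let φ : G ⧸ K →* G ⧸ N := QuotientGroup.map K N (MonoidHom.id G) hKN
  have hmap : Qb.map φ = (Qs : Subgroup (G ⧸ N)) := by
    rw [← hQ, Sylow.coe_mapSurjective, hQb, Subgroup.map_map]
    rfl
  let ψ : Qb →* (Qs : Subgroup (G ⧸ N)) :=
    (φ.comp Qb.subtype).codRestrict _ (fun y => hmap ▸ mem_map_of_mem φ y.2)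
  have hψ : Function.Bijective ψ := by
    refine ⟨(injective_iff_map_eq_one ψ).mpr ?_, ?_⟩
    · rintro ⟨y, x, hx, rfl⟩ h
      have hxN : x ∈ N := (QuotientGroup.eq_one_iff x).mp (congrArg Subtype.val h :)
      exact Subtype.ext ((QuotientGroup.eq_one_iff x).mpr (hQN x hx hxN))
    · rintro ⟨z, hz⟩
      rw [← hmap] at hz
      obtain ⟨y, hy, rfl⟩ := hz
      exact ⟨⟨y, hy⟩, rfl⟩
  let e := MulEquiv.ofBijective ψ hψ
  rcases TwoGroupsQ.isCyclic_or_quaternion hQbp hu with h | ⟨-, m, -, ⟨i⟩⟩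
  · haveI := h
    exact Or.inl (isCyclic_of_surjective e e.surjective)
  · exact Or.inr ⟨m, ⟨e.symm.trans i⟩⟩

end Cfsg.Agent.S4155
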