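import Cfsg.Statements.S4156
import Mathlib.GroupTheory.SpecificGroups.Alternating.Simple

set_option autoImplicit false
open Cfsg

namespace Cfsg.Agent.S4156

theorem not_comm (m : ℕ) (hm : 4 ≤ m) :
    ∃ a b : alternatingGroup (Fin m), a * b ≠ b * a := by
  let c : Fin 4 → Fin m := Fin.castLE hm
  have hne : ∀ i j : Fin 4, i ≠ j → c i ≠ c j := fun i j h e => h (Fin.castLE_injective hm e)
  refine ⟨⟨Equiv.swap (c 0) (c 1) * Equiv.swap (c 1) (c 2), ?_⟩,
    ⟨Equiv.swap (c 1) (c 2) * Equiv.swap (c 2) (c 3), ?_⟩, fun e => ?_⟩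
  · rw [Equiv.Perm.mem_alternatingGroup, map_mul, Equiv.Perm.sign_swap (hne 0 1 (by decide)),
      Equiv.Perm.sign_swap (hne 1 2 (by decide))]; rfl
  · rw [Equiv.Perm.mem_alternatingGroup, map_mul, Equiv.Perm.sign_swap (hne 1 2 (by decide)),
      Equiv.Perm.sign_swap (hne 2 3 (by decide))]; rfl
  · have := congrArg (fun f : alternatingGroup (Fin m) => (f : Equiv.Perm (Fin m)) (c 3)) e
    simp only [Subgroup.coe_mul, Equiv.Perm.mul_apply] at this
    simp [Equiv.swap_apply_def, hne] at this

theorem map_eq_one {A M : Type*} [Group A] [Group M] (hs : IsSimpleGroup A) {a b : A}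
    (hab : a * b ≠ b * a) (φ : A →* M) (hφ : ∀ x y, φ x * φ y = φ y * φ x) (x : A) : φ x = 1 := by
  rcases hs.eq_bot_or_eq_top_of_normal φ.ker inferInstance with h | h
  · exact absurd ((MonoidHom.ker_eq_bot_iff φ).mp h (by rw [map_mul, map_mul]; exact hφ a b)) hab
  · exact φ.mem_ker.mp (h ▸ Subgroup.mem_top x)

/-- Let n ≥ 5 and F a finite field. Then the projective special linear group PSL_n(F) contains a subgroup isomorphic to the alternating group of degree n + 1. -/
theorem result (n : ℕ) (hn : 5 ≤ n) (F : Type*) [Field F] [Finite F] :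
    ∃ f : alternatingGroup (Fin (n + 1)) →* Matrix.ProjectiveSpecialLinearGroup (Fin n) F, Function.Injective f := by
  classical
  haveI hs : IsSimpleGroup (alternatingGroup (Fin (n + 1))) :=
    alternatingGroup.isSimpleGroup (by rw [Nat.card_eq_fintype_card, Fintype.card_fin]; omega)
  obtain ⟨a, b, hab⟩ := not_comm (n + 1) (by omega)
  -- the sum-zero module
  let S : (Fin (n + 1) → F) →ₗ[F] F := ∑ i, LinearMap.proj i
  let W := LinearMap.ker S
  have hS : ∀ v, S v = ∑ i, v i := fun v => by simp [S]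
  have hW : Module.finrank F W = n := by
    have h1 := S.finrank_range_add_finrank_ker
    have h2 : LinearMap.range S = ⊤ := by
      rw [LinearMap.range_eq_top]
      intro t
      exact ⟨Pi.single 0 t, by rw [hS]; simp⟩
    rw [h2, finrank_top, Module.finrank_self, Module.finrank_fintype_fun_eq_card,
      Fintype.card_fin] at h1
    show Module.finrank F (LinearMap.ker S) = n
    omega
  let ρ : alternatingGroup (Fin (n + 1)) →* Module.End F W :=
    { toFun := fun σ =>
        (LinearMap.funLeft F F (⇑((σ : Equiv.Perm (Fin (n + 1)))⁻¹))).restrict (p := W) (q := W)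
          (fun v hv => by
            rw [LinearMap.mem_ker, hS] at hv ⊢
            simp only [LinearMap.funLeft_apply]
            rw [Equiv.sum_comp ((σ : Equiv.Perm (Fin (n + 1)))⁻¹) v]
            exact hv)
      map_one' := by ext v i; simp [LinearMap.funLeft_apply]
      map_mul' := fun σ τ => by ext v i; simp [LinearMap.funLeft_apply, mul_inv_rev] }
  let bas : Module.Basis (Fin n) F W := Module.finBasisOfFinrankEq F W hW
  let μ : alternatingGroup (Fin (n + 1)) →* Matrix (Fin n) (Fin n) F :=
    (LinearMap.toMatrixAlgEquiv bas).toMulEquiv.toMonoidHom.comp ρ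
  have hdet : ∀ σ, (μ σ).det = 1 := by
    intro σ
    have := map_eq_one hs hab (((Matrix.detMonoidHom).comp μ).toHomUnits) (fun x y => mul_comm _ _) σ
    simpa using congrArg Units.val this
  let ν : alternatingGroup (Fin (n + 1)) →* Matrix.SpecialLinearGroup (Fin n) F :=
    { toFun := fun σ => ⟨μ σ, hdet σ⟩
      map_one' := Subtype.ext (by simp)
      map_mul' := fun σ τ => Subtype.ext (map_mul μ σ τ) }
  refine ⟨(QuotientGroup.mk' (Subgroup.center _)).comp ν, ?_⟩
  rw [← MonoidHom.ker_eq_bot_iff]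
  refine (hs.eq_bot_or_eq_top_of_normal _ inferInstance).resolve_right fun htop => ?_
  have hν : ∀ σ, ν σ = 1 := map_eq_one hs hab ν (fun x y => by
    have hx : ν x ∈ Subgroup.center (Matrix.SpecialLinearGroup (Fin n) F) := by
      have : x ∈ ((QuotientGroup.mk' (Subgroup.center _)).comp ν).ker := htop ▸ Subgroup.mem_top x
      rwa [MonoidHom.mem_ker, MonoidHom.comp_apply, ← MonoidHom.mem_ker, QuotientGroup.ker_mk'] at this
    exact ((Subgroup.mem_center_iff.mp hx) (ν y)).symm)
  -- a 3-cycle moves a sum-zero vector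
  let c : Fin 4 → Fin (n + 1) := Fin.castLE (by omega)
  have hne : ∀ i j : Fin 4, i ≠ j → c i ≠ c j := fun i j h e => h (Fin.castLE_injective _ e)
  let σ : alternatingGroup (Fin (n + 1)) := ⟨Equiv.swap (c 0) (c 1) * Equiv.swap (c 1) (c 2), by
    rw [Equiv.Perm.mem_alternatingGroup, map_mul, Equiv.Perm.sign_swap (hne 0 1 (by decide)),
      Equiv.Perm.sign_swap (hne 1 2 (by decide))]; rfl⟩
  have h1 : ρ σ = 1 := by
    have : μ σ = 1 := congrArg Subtype.val (hν σ)
    apply (LinearMap.toMatrixAlgEquiv bas).injective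
    rw [map_one]
    exact this
  let v : Fin (n + 1) → F := Pi.single (c 0) 1 - Pi.single (c 3) 1
  have hv : v ∈ W := by
    rw [LinearMap.mem_ker, hS]; simp [v]
  have h2 := congrArg (fun f : Module.End F W => ((f ⟨v, hv⟩ : W) : Fin (n + 1) → F) (c 0)) h1
  have hσ : (Equiv.symm (Equiv.swap (c 0) (c 1) * Equiv.swap (c 1) (c 2))) (c 0) = c 2 := by
    rw [Equiv.symm_apply_eq, Equiv.Perm.mul_apply, Equiv.swap_apply_right, Equiv.swap_apply_right]
  simp [ρ, σ, v, LinearMap.funLeft_apply, hσ, hne, Pi.single_apply] at h2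

end Cfsg.Agent.S4156
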