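import Cfsg.Statements.S4157
import Cfsg.Agent.SubgroupCounts69.Kulakoff2
import Cfsg.Agent.S0112
-- import your own Cfsg.Agent.* helpers here

set_option autoImplicit false
open Cfsg

namespace Cfsg.Agent.S4157

open Subgroup CfsgLib.SolvCrit.Kulakoff CfsgLib.SubgroupCounts69
open scoped Classical

attribute [local instance] Fintype.ofFinite

theorem two_case {G : Type*} [Group G] [Finite G] [Fact (Nat.Prime 2)] {m k : ℕ}
    (hG : Nat.card G = 2 ^ m) (hnc : ¬ IsCyclic G) (h2 : Group.nilpotencyClass G ≠ m - 1)
    (hk1 : 1 ≤ k) (hk2 : k < m) : ((subs 2 k (⊤ : Subgroup G)).card : ZMod 4) = 3 := by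
  have hp : IsPGroup 2 G := IsPGroup.of_card hG
  haveI := hp.isNilpotent
  have htop : Nat.card (⊤ : Subgroup G) = 2 ^ m := by rw [card_top, hG]
  have hnct : ¬ IsCyclic (⊤ : Subgroup G) := fun h =>
    hnc (Subgroup.topEquiv.isCyclic.1 h)
  haveI : Nontrivial G := Finite.one_lt_card_iff_nontrivial.1 (by
    rw [hG]; exact Nat.one_lt_two_pow (by omega))
  have hm3 : 3 ≤ m := by
    by_contra hlt
    obtain rfl | rfl : m = 1 ∨ m = 2 := by omega
    · exact hnc (isCyclic_of_prime_card (p := 2) (by rw [hG, pow_one]))
    · have hab := IsPGroup.isMulCommutative_of_card_eq_prime_sq (p := 2) hG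
      have h1 := Group.IsNilpotent.nilpotencyClass_le_one_iff.2 hab
      have h0 : Group.nilpotencyClass G ≠ 0 := by
        rw [ne_eq, nilpotencyClass_zero_iff_subsingleton]; exact not_subsingleton G
      omega
  rcases eq_or_lt_of_le hm3 with hm | hm4
  · subst hm
    -- a group of order eight of class at most one is abelian
    have hab : IsMulCommutative G := by
      refine Group.IsNilpotent.nilpotencyClass_le_one_iff.1 ?_
      have hle : Group.nilpotencyClass G ≤ 2 := by
        by_contra hgt
        have hq : Nat.card (G ⧸ center G) ∣ 2 ^ 2 := by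
          have h := (center G).card_mul_index
          rw [hG] at h
          haveI := hp.center_nontrivial
          obtain ⟨e, he⟩ := IsPGroup.iff_card.1 (hp.to_subgroup (center G))
          have he0 : e ≠ 0 := fun h0 => absurd (Finite.one_lt_card (α := center G)) (by rw [he, h0]; decide)
          rw [he, index_eq_card] at h
          refine (Nat.mul_dvd_mul_iff_left (show 0 < 2 by decide)).1 ?_
          rw [show (2 : ℕ) * 2 ^ 2 = 2 ^ 3 from rfl, ← h]
          exact mul_dvd_mul_right (dvd_pow_self 2 he0) _
        have hsq : Group.nilpotencyClass (G ⧸ center G) ≤ 1 := by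
          obtain ⟨j, hj, hje⟩ := (Nat.dvd_prime_pow Nat.prime_two).1 hq
          refine Group.IsNilpotent.nilpotencyClass_le_one_iff.2 ?_
          interval_cases j
          · haveI : Subsingleton (G ⧸ center G) := (Nat.card_eq_one_iff_unique.1 hje).1
            exact ⟨⟨fun a b => Subsingleton.elim _ _⟩⟩
          · haveI : IsCyclic (G ⧸ center G) := isCyclic_of_prime_card (p := 2) (by rw [hje, pow_one])
            exact ⟨⟨(IsCyclic.commGroup).mul_comm⟩⟩
          · exact IsPGroup.isMulCommutative_of_card_eq_prime_sq (p := 2) hje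
        rw [nilpotencyClass_quotient_center] at hsq
        omega
      omega
    obtain rfl | rfl : k = 1 ∨ k = 2 := by omega
    · open scoped IsMulCommutative in
      let Ω : Subgroup G := (powMonoidHom 2 : G →* G).ker
      have hΩ : {g : G | g ∈ (⊤ : Subgroup G) ∧ g ^ 2 = 1} = (Ω : Set G) := by
        ext g
        simp [Ω, MonoidHom.mem_ker]
      have h4 : 4 ∣ Nat.card Ω := by
        obtain ⟨j, hj⟩ := IsPGroup.iff_card.1 (hp.to_subgroup Ω)
        have hbig : 2 ≤ j := by
          by_contra hlt
          open scoped IsMulCommutative in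
          refine hnc (CfsgLib.Coprime.isCyclic_of_forall_prime fun q hq => ?_)
          by_cases hq2 : q = 2
          · subst hq2
            show Nat.card Ω ≤ 2
            rw [hj]
            exact le_trans (Nat.pow_le_pow_right two_pos (by omega : j ≤ 1)) (le_of_eq (pow_one 2))
          · refine le_trans (le_of_eq ?_) hq.one_le
            refine Nat.card_eq_one_iff_unique.mpr ⟨⟨fun a b => ?_⟩, inferInstance⟩
            have key : ∀ c : (powMonoidHom q : G →* G).ker, c = 1 := fun c => by
              obtain ⟨i, hi⟩ := hp (c : G)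
              refine Subtype.ext (orderOf_eq_one_iff.mp (Nat.eq_one_of_dvd_coprimes
                (((Nat.coprime_primes hq Nat.prime_two).mpr hq2).pow_right i) ?_ (orderOf_dvd_of_pow_eq_one hi)))
              exact orderOf_dvd_of_pow_eq_one (MonoidHom.mem_ker.mp c.2)
            rw [key a, key b]
        rw [hj]
        exact pow_dvd_pow 2 hbig
      have h := card_subs_one_mod_four (K := (⊤ : Subgroup G)) (by
        rw [hΩ, ← Nat.card_coe_set_eq]; exact h4)
      rw [show (3 : ZMod 4) = ((3 : ℕ) : ZMod 4) from rfl, ZMod.natCast_eq_natCast_iff']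
      omega
    · have hset : subs 2 2 (⊤ : Subgroup G) = maxs 2 ⊤ := by
        ext M
        rw [mem_subs, mem_maxs, htop]
        exact and_congr_right fun _ => ⟨fun h => by rw [h, ← pow_succ],
          fun h => Nat.eq_of_mul_eq_mul_right two_pos (h.trans (pow_succ 2 2))⟩
      rw [hset]
      exact (card_maxs_mod_sq (IsPGroup.of_card htop) hnct).trans rfl
  by_cases h4 : HasFour G
  · refine card_subs_mod_four m ⊤ htop hm4 ((hasFour_iff _).2 ?_) hk1 hk2
    obtain ⟨E, hEn, hEc, hE2⟩ := h4
    exact ⟨E, le_top, fun g _ e he => hEn.conj_mem e he g, hEc, hE2⟩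
  exfalso
  rcases structure_of_no_four hG hm4 h4 with hc | ⟨D, -, hDn, hD2, hDy⟩
  · exact hnc hc
  obtain ⟨y, hy⟩ : ∃ y, y ∉ D := by
    by_contra hall
    push Not at hall
    rw [(eq_top_iff.2 fun x _ => hall x : D = ⊤), index_top] at hD2
    omega
  set A := centralizer ({y} : Set G) with hA
  have hyA : y ∈ A := mem_centralizer_singleton_iff.2 rfl
  have hAc : Nat.card A = 2 ^ 2 := by
    have h1 : D.relIndex A = 2 := by
      have hd := relIndex_dvd_index_of_normal (H := D) A
      rw [hD2] at hd
      rcases (Nat.dvd_prime Nat.prime_two).mp hd with h | h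
      · exact absurd (relIndex_eq_one.mp h hyA) hy
      · exact h
    have h2 := (D.subgroupOf A).card_mul_index
    rw [← inf_subgroupOf_right, Nat.card_congr (subgroupOfEquivOfLe inf_le_right).toEquiv, hDy y hy,
      inf_subgroupOf_right, ← relIndex, h1] at h2
    exact h2.symm
  refine h2 (Cfsg.Agent.S0112.class_eq m A hG hAc (le_antisymm ?_ ?_))
  · rw [hA]
    exact centralizer_le (Set.singleton_subset_iff.2 hyA)
  · haveI := IsPGroup.isMulCommutative_of_card_eq_prime_sq (p := 2) (G := A) hAc
    intro a ha b hb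
    exact congrArg Subtype.val (mul_comm' (⟨b, hb⟩ : A) ⟨a, ha⟩)

/-- Let G be a finite p-group of order p^m that is not cyclic and, when p = 2, not of maximal class (nilpotency class m − 1). Then for every 1 ≤ k < m the number of subgroups of G of order p^k is congruent to 1 + p modulo p². -/
theorem result {G : Type*} [Group G] [Finite G] {p : ℕ} [Fact p.Prime] (m : ℕ)
    (hG : Nat.card G = p ^ m) (hnc : ¬ IsCyclic G) (h2 : p = 2 → Group.nilpotencyClass G ≠ m - 1)
    (k : ℕ) (hk1 : 1 ≤ k) (hk2 : k < m) :
    Nat.card {H : Subgroup G // Nat.card H = p ^ k} ≡ 1 + p [MOD p ^ 2] := by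
  have hcard : Nat.card {H : Subgroup G // Nat.card H = p ^ k} = (subs p k (⊤ : Subgroup G)).card := by
    rw [← Nat.card_eq_finsetCard]
    exact Nat.card_congr (Equiv.subtypeEquivRight fun H => by simp [mem_subs])
  rw [hcard, ← ZMod.natCast_eq_natCast_iff, Nat.cast_add, Nat.cast_one]
  by_cases hp : p = 2
  · subst hp
    exact (two_case hG hnc (h2 rfl) hk1 hk2).trans rfl
  · exact card_subs_mod_sq hp m ⊤ (by rw [card_top, hG]) hk1 hk2
      fun h => hnc (Subgroup.topEquiv.isCyclic.1 h)

end Cfsg.Agent.S4157
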