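import Cfsg.Statements.S4162
import Cfsg.Agent.DistinctClass.Nine

set_option autoImplicit false
open Cfsg

namespace Cfsg.Agent.S4162

/-- Let G be a non-trivial finite solvable group in which distinct conjugacy classes have distinct sizes. Then G is isomorphic to the symmetric group of degree 3. -/
theorem result {G : Type*} [Group G] [Finite G] [Nontrivial G] (hG : Group.IsSolvable G)
    (h : Function.Injective fun C : ConjClasses G => Nat.card C.carrier) : Nonempty (G ≃* Equiv.Perm (Fin 3)) := by
  have hI := CfsgLib.DistinctClass.inj_of_card_injective h
  by_cases h2 : ∃ x : G, CfsgLib.DistinctClass.cz x = 2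
  · obtain ⟨x, hx⟩ := h2
    exact CfsgLib.DistinctClass.perm_three_of_cz_two hI hG hx
  · push Not at h2
    exact (CfsgLib.DistinctClass.base_of_cz_ne_two hI hG h2).not_exists.elim

end Cfsg.Agent.S4162
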