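import Cfsg.Statements.S4163
import Mathlib.GroupTheory.Nilpotent
import Mathlib.GroupTheory.Index

set_option autoImplicit false
open Cfsg

namespace Cfsg.Agent.S4163

open Subgroup
open scoped commutatorElement

variable {G : Type*} [Group G] [Finite G] (A : Subgroup G) [A.Normal]

/-- For an element `x` of smallest non-central class, `[A, x]` is central. -/
theorem commutator_mem_center (hAc : ∀ a ∈ A, ∀ b ∈ A, a * b = b * a) {x : G} {m : ℕ}
    (hx : (centralizer ({x} : Set G)).index = m)
    (hmin : ∀ y : G, 1 < (centralizer ({y} : Set G)).index → m ≤ (centralizer ({y} : Set G)).index)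
    {a : G} (ha : a ∈ A) : ⁅a, x⁆ ∈ center G := by
  classical
  set u := ⁅a, x⁆ with hu
  have huA : u ∈ A := by
    rw [hu, commutatorElement_def, mul_assoc, mul_assoc]
    exact A.mul_mem ha (by rw [← mul_assoc]; exact ‹A.Normal›.conj_mem _ (A.inv_mem ha) x)
  by_contra huc
  have hu1 : u ≠ 1 := fun h => huc (h ▸ one_mem _)
  have hidx : 1 < (centralizer ({u} : Set G)).index := by
    rcases Nat.lt_or_ge 1 (centralizer ({u} : Set G)).index with h | h
    · exact h
    · exfalso
      have h1 : (centralizer ({u} : Set G)).index = 1 :=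
        le_antisymm h (Nat.one_le_iff_ne_zero.mpr Subgroup.index_ne_zero_of_finite)
      apply huc
      rw [Subgroup.index_eq_one] at h1
      rw [mem_center_iff]
      intro g
      exact (mem_centralizer_singleton_iff.mp (h1 ▸ mem_top g))
  set C := centralizer ({x} : Set G) with hC
  set D := C ⊓ centralizer ({u} : Set G) with hD
  set E := A ⊓ D with hE
  -- the commutators with `x`
  have hfib : ∀ b ∈ A, ∀ c ∈ A, b⁻¹ * c ∈ C → ⁅b, x⁆ = ⁅c, x⁆ := by
    intro b _ c _ h
    have h1 := mem_centralizer_singleton_iff.mp h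
    rw [commutatorElement_def, commutatorElement_def, mul_left_inj]
    calc b * x * b⁻¹ = b * (x * (b⁻¹ * c)) * c⁻¹ := by group
      _ = b * ((b⁻¹ * c) * x) * c⁻¹ := by rw [h1]
      _ = c * x * c⁻¹ := by group
  have horb : (D.subgroupOf C).index < (E.subgroupOf A).index := by
    let T : Set G := Set.range (fun q : A ⧸ E.subgroupOf A => ⁅(q.out : G), x⁆)
    have hT : ∀ b ∈ A, ⁅b, x⁆ ∈ T := by
      intro b hb
      refine ⟨QuotientGroup.mk ⟨b, hb⟩, hfib _ (SetLike.coe_mem _) b hb ?_⟩
      have h1 := QuotientGroup.eq.mp (QuotientGroup.out_eq' (QuotientGroup.mk (⟨b, hb⟩ : A) : A ⧸ E.subgroupOf A))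
      exact (mem_inf.mp (mem_inf.mp (mem_subgroupOf.mp h1)).2).1
    have hcard : Nat.card T ≤ (E.subgroupOf A).index := Finite.card_range_le _
    refine lt_of_lt_of_le ?_ hcard
    let g : C ⧸ D.subgroupOf C → T := fun q => ⟨(q.out : G) * u * (q.out : G)⁻¹, by
      have hc := mem_centralizer_singleton_iff.mp q.out.2
      rw [show (q.out : G) * u * (q.out : G)⁻¹ = ⁅(q.out : G) * a * (q.out : G)⁻¹, x⁆ from by
        rw [hu, commutatorElement_def, commutatorElement_def]
        have hx' : (q.out : G) * x * (q.out : G)⁻¹ = x := by rw [hc, mul_inv_cancel_right]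
        conv_rhs => rw [← hx']
        group]
      exact hT _ (‹A.Normal›.conj_mem a ha _)⟩
    have hinj : Function.Injective g := by
      intro q r h
      simp only [g, Subtype.mk.injEq] at h
      have hmem : (r.out : G)⁻¹ * q.out ∈ D := by
        refine mem_inf.mpr ⟨C.mul_mem (C.inv_mem r.out.2) q.out.2, mem_centralizer_singleton_iff.mpr ?_⟩
        calc (r.out : G)⁻¹ * q.out * u = (r.out : G)⁻¹ * ((q.out : G) * u * (q.out : G)⁻¹) * q.out := by group
          _ = (r.out : G)⁻¹ * ((r.out : G) * u * (r.out : G)⁻¹) * q.out := by rw [h]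
          _ = u * ((r.out : G)⁻¹ * q.out) := by group
      have : ((r.out : C) : C ⧸ D.subgroupOf C) = (q.out : C ⧸ D.subgroupOf C) :=
        QuotientGroup.eq.mpr (by simpa [mem_subgroupOf] using hmem)
      simpa using this.symm
    rcases lt_or_eq_of_le (Nat.card_le_card_of_injective g hinj) with h | h
    · exact h
    · obtain ⟨q, hq⟩ := (hinj.bijective_of_nat_card_le h.ge).2
        ⟨⁅(1 : G), x⁆, hT 1 (one_mem A)⟩
      exfalso
      have := congrArg Subtype.val hq
      simp only [g, commutatorElement_one_left, conj_eq_one_iff] at this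
      exact hu1 this
  -- counting
  have hEA : A.relIndex D = E.relIndex D := (inf_relIndex_right A D).symm
  have c1 : Nat.card D * D.relIndex C = Nat.card C := by
    rw [← Nat.card_congr (subgroupOfEquivOfLe (inf_le_left : D ≤ C)).toEquiv]
    exact (D.subgroupOf C).card_mul_index
  have c2 : Nat.card E * E.relIndex A = Nat.card A := by
    rw [← Nat.card_congr (subgroupOfEquivOfLe (inf_le_left : E ≤ A)).toEquiv]
    exact (E.subgroupOf A).card_mul_index
  have c3 : Nat.card E * E.relIndex D = Nat.card D := by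
    rw [← Nat.card_congr (subgroupOfEquivOfLe (inf_le_right : E ≤ D)).toEquiv]
    exact (E.subgroupOf D).card_mul_index
  have c4 : Nat.card A * A.relIndex (D ⊔ A) = Nat.card ↥(D ⊔ A) := by
    rw [← Nat.card_congr (subgroupOfEquivOfLe (le_sup_right : A ≤ D ⊔ A)).toEquiv]
    exact (A.subgroupOf (D ⊔ A)).card_mul_index
  rw [relIndex_sup_right, hEA] at c4
  have hle : D ⊔ A ≤ centralizer ({u} : Set G) := by
    refine sup_le inf_le_right fun b hb => mem_centralizer_singleton_iff.mpr (hAc b hb u huA)
  have hlt : Nat.card C < Nat.card (centralizer ({u} : Set G)) := by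
    refine lt_of_lt_of_le ?_ (Nat.le_of_dvd Nat.card_pos (card_dvd_of_le hle))
    rw [← c4, ← c2, ← c1]
    calc Nat.card D * D.relIndex C < Nat.card D * E.relIndex A :=
          Nat.mul_lt_mul_of_pos_left horb Nat.card_pos
      _ = Nat.card E * E.relIndex A * E.relIndex D := by rw [← c3]; ring
  have e1 := C.card_mul_index
  have e2 := (centralizer ({u} : Set G)).card_mul_index
  have hle2 := hmin u hidx
  rw [hx] at e1
  have hpos : 0 < (centralizer ({u} : Set G)).index := by omega
  have := Nat.mul_lt_mul_of_pos_right hlt hpos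
  rw [e2] at this
  have h3 : Nat.card C * m ≤ Nat.card C * (centralizer ({u} : Set G)).index := Nat.mul_le_mul_left _ hle2
  omega

/-- Let G be a finite group with a normal abelian subgroup A satisfying C_G(A) = A. Suppose some conjugacy class of G has size greater than 1, let m be the smallest such size, and let M be the subgroup generated by the elements whose class has size 1 or m. Then M is nilpotent of class at most 3. -/
theorem result {G : Type*} [Group G] [Finite G]
    (A : Subgroup G) [A.Normal] (hA : IsMulCommutative A) (hCA : Subgroup.centralizer (A : Set G) = A)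
    (m : ℕ) (hm1 : 1 < m) (hm : ∃ x : G, (Subgroup.centralizer ({x} : Set G)).index = m) (hmin : ∀ x : G, 1 < (Subgroup.centralizer ({x} : Set G)).index → m ≤ (Subgroup.centralizer ({x} : Set G)).index) :
    Subgroup.upperCentralSeries ↥(Subgroup.closure {x : G | (Subgroup.centralizer ({x} : Set G)).index = 1 ∨ (Subgroup.centralizer ({x} : Set G)).index = m}) 3 = ⊤ := by
  set S := {x : G | (Subgroup.centralizer ({x} : Set G)).index = 1 ∨ (Subgroup.centralizer ({x} : Set G)).index = m}
  have hAc : ∀ a ∈ A, ∀ b ∈ A, a * b = b * a := fun a ha b hb =>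
    congrArg Subtype.val (hA.is_comm.comm (⟨a, ha⟩ : A) ⟨b, hb⟩)
  -- `[A, M]` is central
  have hAM : ∀ x ∈ closure S, ∀ a ∈ A, ⁅a, x⁆ ∈ center G := by
    intro x hx
    induction hx using closure_induction with
    | mem x hx =>
      intro a ha
      rcases hx with h | h
      · rw [Subgroup.index_eq_one] at h
        have hc : a ∈ centralizer ({x} : Set G) := h ▸ mem_top a
        rw [commutatorElement_eq_one_iff_mul_comm.mpr (mem_centralizer_singleton_iff.mp hc)]
        exact one_mem _
      · exact commutator_mem_center A hAc h hmin ha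
    | one => intro a _; rw [commutatorElement_one_right]; exact one_mem _
    | mul x y _ _ ihx ihy =>
      intro a ha
      rw [show ⁅a, x * y⁆ = ⁅a, x⁆ * (x * ⁅a, y⁆ * x⁻¹) by simp only [commutatorElement_def]; group]
      exact mul_mem (ihx a ha) ((inferInstance : (center G).Normal).conj_mem _ (ihy a ha) x)
    | inv x _ ih =>
      intro a ha
      rw [show ⁅a, x⁻¹⁆ = x⁻¹ * ⁅a, x⁆⁻¹ * x⁻¹⁻¹ by simp only [commutatorElement_def]; group]
      exact (inferInstance : (center G).Normal).conj_mem _ (inv_mem (ih a ha)) _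
  -- the derived subgroup of `M` lies in `A`
  have hder : ∀ x ∈ closure S, ∀ y ∈ closure S, ⁅x, y⁆ ∈ A := by
    intro x hx y hy
    have hswap : ∀ a ∈ A, x * y * a * (x * y)⁻¹ = y * x * a * (y * x)⁻¹ := by
      intro a ha
      have hconj : ∀ z ∈ closure S, ∃ c ∈ center G, z * a * z⁻¹ = c * a := fun z hz =>
        ⟨⁅a, z⁆⁻¹, inv_mem (hAM z hz a ha), by simp only [commutatorElement_def]; group⟩
      obtain ⟨c, hc, hxc⟩ := hconj x hx
      obtain ⟨d, hd, hyd⟩ := hconj y hy
      calc x * y * a * (x * y)⁻¹ = x * (y * a * y⁻¹) * x⁻¹ := by group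
        _ = x * d * a * x⁻¹ := by rw [hyd]; group
        _ = d * (x * a * x⁻¹) := by rw [mem_center_iff.mp hd x]; group
        _ = c * (y * a * y⁻¹) := by rw [hxc, hyd, ← mul_assoc, ← mul_assoc, mem_center_iff.mp hc d]
        _ = y * c * a * y⁻¹ := by rw [mem_center_iff.mp hc y]; group
        _ = y * (x * a * x⁻¹) * y⁻¹ := by rw [hxc]; group
        _ = y * x * a * (y * x)⁻¹ := by group
    rw [← hCA, mem_centralizer_iff]
    intro a ha
    set a' := (y * x)⁻¹ * a * (y * x) with ha'
    have h1 := hswap a' (by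
      have := ‹A.Normal›.conj_mem a ha (y * x)⁻¹
      rwa [inv_inv] at this)
    rw [show y * x * a' * (y * x)⁻¹ = a by rw [ha']; group] at h1
    calc a * ⁅x, y⁆ = x * y * a' * (x * y)⁻¹ * ⁅x, y⁆ := by rw [h1]
      _ = ⁅x, y⁆ * a := by rw [ha']; simp only [commutatorElement_def]; group
  rw [eq_top_iff]
  intro x _
  rw [Subgroup.mem_upperCentralSeries_succ_iff]
  intro y
  rw [Subgroup.mem_upperCentralSeries_succ_iff]
  intro z
  rw [Subgroup.upperCentralSeries_one, mem_center_iff]
  intro w
  apply Subtype.ext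
  exact mem_center_iff.mp (hAM z z.2 _ (hder x x.2 y y.2)) w

end Cfsg.Agent.S4163
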