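import Cfsg.Statements.S4168
import Mathlib.GroupTheory.Transfer
import Mathlib.GroupTheory.Perm.Cycle.Type

set_option autoImplicit false
open Cfsg

namespace Cfsg.Agent.S4168

/-- Let L be a finite quasisimple group (perfect with L/Z(L) simple). Then every prime dividing the order of the centre Z(L) also divides the order of L/Z(L). -/
theorem result {L : Type*} [Group L] [Finite L] (hL : Cfsg.IsQuasisimple L)
    (p : ℕ) (hp : p.Prime) (hdiv : p ∣ Nat.card (Subgroup.center L)) : p ∣ (Subgroup.center L).index := by
  by_contra hnd
  haveI := Fact.mk hp
  haveI : (Subgroup.center L).FiniteIndex := inferInstance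
  have hpow : ∀ g : L, g ^ (Subgroup.center L).index = 1 := by
    intro g
    have hg : g ∈ (MonoidHom.transferCenterPow L).ker := by
      have hle : commutator L ≤ (MonoidHom.transferCenterPow L).ker := by
        rw [commutator_def, Subgroup.commutator_le]
        intro a _ b _
        rw [MonoidHom.mem_ker, map_commutatorElement]
        exact commutatorElement_eq_one_iff_commute.mpr
          (Subtype.ext (Subgroup.mem_center_iff.mp ((MonoidHom.transferCenterPow L) b).2 _))
      rw [hL.1.commutator_eq_top] at hle
      exact hle (Subgroup.mem_top g)
    have := congrArg Subtype.val hg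
    rwa [MonoidHom.transferCenterPow_apply] at this
  obtain ⟨z, hz⟩ := exists_prime_orderOf_dvd_card' (G := Subgroup.center L) p hdiv
  apply hnd
  have := orderOf_dvd_of_pow_eq_one (hpow (z : L))
  rwa [Subgroup.orderOf_coe, hz] at this

end Cfsg.Agent.S4168
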