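import Cfsg.Statements.S4169
import Cfsg.Agent.S4163
import Cfsg.Agent.OddOrder.AppBPuig

set_option autoImplicit false
open Cfsg

namespace Cfsg.Agent.S4169

/-- Let P be a finite p-group whose conjugacy classes have exactly two sizes (1 and one other value). Then P has nilpotency class at most 3. -/
theorem result {P : Type*} [Group P] [Finite P] {p : ℕ} [Fact p.Prime] (hP : IsPGroup p P)
    (m : ℕ) (hm : 1 < m) (h : ∀ x : P, (Subgroup.centralizer ({x} : Set P)).index = 1 ∨ (Subgroup.centralizer ({x} : Set P)).index = m) :
    upperCentralSeries P 3 = ⊤ := by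
  show Subgroup.upperCentralSeries P 3 = ⊤
  by_cases hex : ∃ x : P, (Subgroup.centralizer ({x} : Set P)).index = m
  · obtain ⟨A, hAn, hAc, hCA⟩ := CfsgLib.OddOrder.exists_self_centralizing_normal_abelian hP
    have h3 := Cfsg.Agent.S4163.result A hAc hCA m hm hex (fun x hx => by
      rcases h x with e | e <;> omega)
    have htop : Subgroup.closure {x : P | (Subgroup.centralizer ({x} : Set P)).index = 1 ∨
        (Subgroup.centralizer ({x} : Set P)).index = m} = ⊤ := by
      rw [eq_top_iff]
      exact fun x _ => Subgroup.subset_closure (h x)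
    rw [eq_top_iff]
    intro x _
    rw [Subgroup.mem_upperCentralSeries_succ_iff]
    intro y
    rw [Subgroup.mem_upperCentralSeries_succ_iff]
    intro z
    rw [Subgroup.upperCentralSeries_one, Subgroup.mem_center_iff]
    intro w
    set M := Subgroup.closure {x : P | (Subgroup.centralizer ({x} : Set P)).index = 1 ∨
        (Subgroup.centralizer ({x} : Set P)).index = m}
    let e : ∀ u : P, M := fun u => ⟨u, htop ▸ Subgroup.mem_top u⟩
    have h1 := Subgroup.mem_upperCentralSeries_succ_iff.mp
      (Subgroup.mem_upperCentralSeries_succ_iff.mp (h3 ▸ Subgroup.mem_top (e x)) (e y)) (e z)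
    rw [Subgroup.upperCentralSeries_one, Subgroup.mem_center_iff] at h1
    exact congrArg Subtype.val (h1 (e w))
  · have hc : Subgroup.center P = ⊤ := by
      rw [eq_top_iff]
      intro x _
      rw [Subgroup.mem_center_iff]
      intro g
      have h1 : Subgroup.centralizer ({x} : Set P) = ⊤ :=
        Subgroup.index_eq_one.mp ((h x).resolve_right fun e => hex ⟨x, e⟩)
      exact Subgroup.mem_centralizer_singleton_iff.mp (h1 ▸ Subgroup.mem_top g)
    rw [eq_top_iff, ← hc, ← Subgroup.upperCentralSeries_one]
    exact Subgroup.upperCentralSeries_mono P (by norm_num)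

end Cfsg.Agent.S4169
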