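import Cfsg.Statements.S4176
import Cfsg.Agent.PSolvHall69.PComplement

set_option autoImplicit false
open Cfsg

namespace Cfsg.Agent.S4176

open scoped Classical

variable {k V H : Type*} [Field k] [AddCommGroup V] [Module k V] [Group H] [Finite H]

/-- The vectors fixed by a `p'`-subgroup `K`, on the span of a `K`-orbit, are multiples of the
orbit sum. -/
theorem fixed_mem_span (ρ : Representation k H V) (K : Subgroup H) [Fintype K]
    (hK : (Nat.card K : k) ≠ 0) (a : V)
    (hspan : Submodule.span k (Set.range (fun h : K => ρ (h : H) a)) = ⊤) {v : V}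
    (hv : ∀ h : K, ρ (h : H) v = v) : v ∈ Submodule.span k {∑ h : K, ρ (h : H) a} := by
  set ω : V →ₗ[k] V := ∑ h : K, ρ (h : H) with hω
  have hωa : ∀ h : K, ω (ρ (h : H) a) = ∑ h : K, ρ (h : H) a := by
    intro h
    rw [hω, LinearMap.sum_apply]
    refine Fintype.sum_equiv (Equiv.mulRight h) _ _ (fun u => ?_)
    simp [map_mul]
  have hωV : ∀ w : V, ω w ∈ Submodule.span k {∑ h : K, ρ (h : H) a} := by
    intro w
    have hw : w ∈ Submodule.span k (Set.range (fun h : K => ρ (h : H) a)) := hspan ▸ trivial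
    have := Submodule.mem_map_of_mem (f := ω) hw
    rw [Submodule.map_span] at this
    refine Submodule.span_le.mpr ?_ this
    rintro _ ⟨_, ⟨h, rfl⟩, rfl⟩
    rw [SetLike.mem_coe, hωa]
    exact Submodule.subset_span rfl
  have hωv : ω v = (Nat.card K : k) • v := by
    rw [hω, LinearMap.sum_apply, Finset.sum_congr rfl (fun h _ => hv h), Finset.sum_const,
      Finset.card_univ, ← Nat.card_eq_fintype_card, Nat.cast_smul_eq_nsmul]
  have := Submodule.smul_mem _ (Nat.card K : k)⁻¹ (hωV v)
  rwa [hωv, inv_smul_smul₀ hK] at this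

/-- Let k be a field of prime characteristic p, H a finite p-soluble group and ρ a k-linear representation of H on V. Let a be a vector that is fixed by some Sylow p-subgroup of H and whose H-orbit spans V. Then the space of H-fixed vectors has dimension at most 1, and every vector b whose H-orbit has size coprime to the size of the orbit of a is fixed by H. -/
theorem result {k V H : Type*} [Field k] (p : ℕ) [Fact p.Prime] [CharP k p] [AddCommGroup V] [Module k V]
    [Group H] [Finite H] (hsol : Cfsg.IsPSolvable p H) (ρ : Representation k H V) (a : V)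
    (hfix : ∃ P : Sylow p H, ∀ x : H, x ∈ (P : Subgroup H) → ρ x a = a)
    (hspan : Submodule.span k {u : V | ∃ h : H, ρ h a = u} = ⊤) :
    Module.finrank k ρ.invariants ≤ 1 ∧
    ∀ b : V, (Nat.card {u : V | ∃ h : H, ρ h a = u}).Coprime (Nat.card {u : V | ∃ h : H, ρ h b = u}) → ∀ h : H, ρ h b = b := by
  have hp : p.Prime := Fact.out
  haveI : Fintype H := Fintype.ofFinite H
  obtain ⟨P, hP⟩ := hfix
  have hne : ∀ n : ℕ, ¬ p ∣ n → (n : k) ≠ 0 := fun n hn h => hn ((CharP.cast_eq_zero_iff k p n).mp h)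
  letI : MulAction H V :=
    { smul := fun h v => ρ h v
      one_smul := fun v => by show ρ 1 v = v; simp
      mul_smul := fun g h v => by show ρ (g * h) v = ρ g (ρ h v); simp }
  have horb : ∀ v : V, {u : V | ∃ h : H, ρ h v = u} = MulAction.orbit H v := fun v => rfl
  constructor
  · obtain ⟨K, hK, e, he⟩ := CfsgLib.PSolvHall69.exists_pComplement hsol
    have hKP := CfsgLib.PSolvHall69.isComplement'_sylow hK he P
    haveI : Fintype K := Fintype.ofFinite K
    have hs : Submodule.span k (Set.range (fun h : K => ρ (h : H) a)) = ⊤ := by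
      apply top_le_iff.mp
      rw [← hspan]
      refine Submodule.span_mono ?_
      rintro u ⟨h, rfl⟩
      obtain ⟨⟨⟨q, hq⟩, ⟨t, ht⟩⟩, rfl⟩ := hKP.2 h
      exact ⟨⟨q, hq⟩, by simp [hP t ht]⟩
    have hle : ρ.invariants ≤ Submodule.span k {∑ h : K, ρ (h : H) a} :=
      fun v hv => fixed_mem_span ρ K (hne _ hK) a hs (fun h => hv h)
    refine (Submodule.finrank_mono hle).trans ?_
    exact (finrank_span_le_card _).trans (by simp)
  intro b hcop
  rw [horb, horb] at hcop
  haveI : Finite (MulAction.orbit H a) := (Set.finite_range _).to_subtype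
  set A := MulAction.stabilizer H a with hA
  set B := MulAction.stabilizer H b with hB
  have hm : Nat.card (MulAction.orbit H a) = A.index := by
    rw [hA, MulAction.index_stabilizer, Nat.card_coe_set_eq]
  have hn : Nat.card (MulAction.orbit H b) = B.index := by
    rw [hB, MulAction.index_stabilizer, Nat.card_coe_set_eq]
  have hpm : ¬ p ∣ A.index := fun hd => P.not_dvd_index
    (hd.trans (Subgroup.index_dvd_of_le (fun t ht => hP t ht)))
  rw [hm, hn] at hcop
  -- `B` is transitive on the orbit of `a`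
  have htrans : ∀ u ∈ MulAction.orbit H a, ∃ h ∈ B, h • a = u := by
    have hsub : MulAction.orbit B a ⊆ MulAction.orbit H a := by
      rintro _ ⟨h, rfl⟩; exact ⟨(h : H), rfl⟩
    have hidx : (MulAction.orbit B a).ncard = A.relIndex B := by
      rw [← MulAction.index_stabilizer]; rfl
    have hdvd : A.index ∣ A.relIndex B := by
      refine hcop.dvd_of_dvd_mul_right (Dvd.intro_left ((A ⊓ B).relIndex A) ?_)
      rw [Subgroup.relIndex_mul_index inf_le_left, ← Subgroup.inf_relIndex_right A B,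
        Subgroup.relIndex_mul_index inf_le_right]
    have heq := Set.eq_of_subset_of_ncard_le hsub (by
      rw [hidx, ← Nat.card_coe_set_eq, hm]
      exact Nat.le_of_dvd (Nat.pos_of_ne_zero Subgroup.index_ne_zero_of_finite) hdvd)
    intro u hu
    rw [← heq] at hu
    obtain ⟨h, rfl⟩ := hu
    exact ⟨(h : H), h.2, rfl⟩
  -- a point of the orbit fixed by a Sylow subgroup of `B`
  obtain ⟨S⟩ := (inferInstance : Nonempty (Sylow p B))
  obtain ⟨Q, hQ⟩ := (S.isPGroup'.map B.subtype).exists_le_sylow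
  obtain ⟨g, hg⟩ := MulAction.exists_smul_eq H P Q
  set a' := ρ g a with ha'
  have hSa : ∀ t : B, t ∈ (S : Subgroup B) → ρ (t : H) a' = a' := by
    intro t ht
    have hmem : (t : H) ∈ (Q : Subgroup H) := hQ ⟨t, ht, rfl⟩
    rw [← hg, Sylow.coe_subgroup_smul] at hmem
    obtain ⟨w, hw, hwt⟩ := hmem
    have e : (t : H) = g * w * g⁻¹ := by
      rw [← hwt]; simp [MulAut.smul_def, MulAut.conj_apply]
    rw [e, ha', map_mul, map_mul]
    simp [hP w hw]
  obtain ⟨K, hK, e, he⟩ := CfsgLib.PSolvHall69.exists_pComplement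
    (CfsgLib.PLocal.isPSolvable_subgroup hsol B)
  have hKS := CfsgLib.PSolvHall69.isComplement'_sylow hK he S
  set K' := K.map B.subtype with hK'
  haveI : Fintype K' := Fintype.ofFinite K'
  have hK'c : (Nat.card K' : k) ≠ 0 := hne _ (by
    rw [hK', Subgroup.card_map_of_injective B.subtype_injective]; exact hK)
  have ha'o : a' ∈ MulAction.orbit H a := ⟨g, rfl⟩
  have hs : Submodule.span k (Set.range (fun h : K' => ρ (h : H) a')) = ⊤ := by
    apply top_le_iff.mp
    rw [← hspan]
    refine Submodule.span_mono ?_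
    rintro u ⟨h, rfl⟩
    obtain ⟨c, hc, hca⟩ := htrans _ (⟨h, rfl⟩ : ρ h a ∈ MulAction.orbit H a)
    obtain ⟨d, hd, hda⟩ := htrans _ ha'o
    obtain ⟨⟨⟨q, hq⟩, ⟨t, ht⟩⟩, hqt⟩ := hKS.2 (⟨c, hc⟩ * (⟨d, hd⟩ : B)⁻¹)
    refine ⟨⟨(q : H), ⟨q, hq, rfl⟩⟩, ?_⟩
    have e1 : c • a = (c * d⁻¹) • a' := by rw [mul_smul, ← hda, inv_smul_smul]
    have e2 : (q : H) * (t : H) = c * d⁻¹ := congrArg Subtype.val hqt
    rw [← hca, e1, ← e2, mul_smul]
    show ρ (q : H) a' = ρ (q : H) (ρ (t : H) a')
    rw [hSa t ht]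
  have hKB : ∀ h : K', (h : H) ∈ B := fun h => Subgroup.map_subtype_le K h.2
  have hb := fixed_mem_span ρ K' hK'c a' hs (v := b) (fun h => hKB h)
  -- the orbit sum
  haveI : Fintype (MulAction.orbit H a) := Fintype.ofFinite _
  set T : V := ∑ u : MulAction.orbit H a, (u : V) with hT
  have hTfix : ∀ h : H, ρ h T = T := by
    intro h
    rw [hT, map_sum]
    exact Fintype.sum_equiv (MulAction.toPerm h) _ _ (fun u => rfl)
  have hω : (∑ h : K', ρ (h : H)) T = (Nat.card K' : k) • T := by
    rw [LinearMap.sum_apply, Finset.sum_congr rfl (fun h _ => hTfix _), Finset.sum_const,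
      Finset.card_univ, ← Nat.card_eq_fintype_card, Nat.cast_smul_eq_nsmul]
  have hω2 : (∑ h : K', ρ (h : H)) T = (A.index : k) • ∑ h : K', ρ (h : H) a' := by
    rw [hT, map_sum]
    have hconst : ∀ u : MulAction.orbit H a,
        (∑ h : K', ρ (h : H)) (u : V) = ∑ h : K', ρ (h : H) a' := by
      intro u
      obtain ⟨c, hc, hca⟩ := htrans _ u.2
      obtain ⟨d, hd, hda⟩ := htrans _ ha'o
      obtain ⟨⟨⟨q, hq⟩, ⟨t, ht⟩⟩, hqt⟩ := hKS.2 (⟨c, hc⟩ * (⟨d, hd⟩ : B)⁻¹)
      have hu : (u : V) = ρ (q : H) a' := by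
        have e1 : c • a = (c * d⁻¹) • a' := by rw [mul_smul, ← hda, inv_smul_smul]
        have e2 : (q : H) * (t : H) = c * d⁻¹ := congrArg Subtype.val hqt
        rw [← hca, e1, ← e2, mul_smul]
        show ρ (q : H) (ρ (t : H) a') = ρ (q : H) a'
        rw [hSa t ht]
      rw [hu, LinearMap.sum_apply]
      refine Fintype.sum_equiv (Equiv.mulRight (⟨(q : H), ⟨q, hq, rfl⟩⟩ : K')) _ _ (fun v => ?_)
      simp [map_mul]
    rw [Finset.sum_congr rfl (fun u _ => hconst u), Finset.sum_const, Finset.card_univ,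
      ← Nat.card_eq_fintype_card, hm, Nat.cast_smul_eq_nsmul]
  obtain ⟨c, hc⟩ := Submodule.mem_span_singleton.mp hb
  intro h
  have hw : ∑ h : K', ρ (h : H) a' = ((A.index : k)⁻¹ * (Nat.card K' : k)) • T := by
    rw [mul_smul, ← hω, hω2, inv_smul_smul₀ (hne _ hpm)]
  rw [← hc, hw, map_smul, map_smul, hTfix]

end Cfsg.Agent.S4176
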