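import Cfsg.Statements.S4177
import Mathlib

set_option autoImplicit false
open Cfsg

namespace Cfsg.Agent.S4177

/-- Let k be a field whose characteristic does not divide the order of the finite group H (for instance a field of characteristic zero), and ρ a k-linear representation of H on V. Let a be a vector whose H-orbit spans V. Then the space of H-fixed vectors has dimension at most 1, and every vector b whose H-orbit has size coprime to the size of the orbit of a is fixed by H. -/
theorem result {k V H : Type*} [Field k] [AddCommGroup V] [Module k V] [Group H] [Finite H]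
    (hchar : ¬ ringChar k ∣ Nat.card H) (ρ : Representation k H V) (a : V)
    (hspan : Submodule.span k {u : V | ∃ h : H, ρ h a = u} = ⊤) :
    Module.finrank k ρ.invariants ≤ 1 ∧
    ∀ b : V, (Nat.card {u : V | ∃ h : H, ρ h a = u}).Coprime (Nat.card {u : V | ∃ h : H, ρ h b = u}) → ∀ h : H, ρ h b = b := by
  classical
  have := Fintype.ofFinite H
  have hne : ∀ n : ℕ, n ∣ Nat.card H → (n : k) ≠ 0 := fun n hn h0 =>
    hchar ((ringChar.spec k n).1 h0 |>.trans hn)
  have hmul : ∀ (g h : H) (v : V), ρ (g * h) v = ρ g (ρ h v) := fun g h v => by
    rw [map_mul]; rfl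
  set S : V := ∑ h : H, ρ h a with hS
  have hSfix : ∀ g, ρ g S = S := by
    intro g
    rw [hS, map_sum]
    exact Fintype.sum_equiv (Equiv.mulLeft g) _ _ (fun h => (hmul g h a).symm)
  have hcomb : ∀ v : V, ∃ f : H → k, v = ∑ h, f h • ρ h a := by
    intro v
    have hv : v ∈ Submodule.span k (Set.range fun h : H => ρ h a) := by
      have : (Set.range fun h : H => ρ h a) = {u : V | ∃ h : H, ρ h a = u} := rfl
      rw [this, hspan]; exact Submodule.mem_top
    obtain ⟨f, hf⟩ := (Submodule.mem_span_range_iff_exists_fun k).1 hv
    exact ⟨f, hf.symm⟩
  constructor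
  · have hle : ρ.invariants ≤ Submodule.span k {S} := by
      intro v hv
      obtain ⟨f, hf⟩ := hcomb v
      have h1 : (Nat.card H : k) • v = (∑ h, f h) • S := by
        calc (Nat.card H : k) • v = ∑ g : H, ρ g v := by
              rw [Finset.sum_congr rfl fun g _ => hv g, Finset.sum_const, Finset.card_univ,
                Nat.card_eq_fintype_card, Nat.cast_smul_eq_nsmul]
          _ = ∑ g : H, ∑ h : H, f h • ρ (g * h) a := by
              refine Finset.sum_congr rfl fun g _ => ?_
              rw [hf, map_sum]
              exact Finset.sum_congr rfl fun h _ => by rw [map_smul, hmul]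
          _ = ∑ h : H, f h • S := by
              rw [Finset.sum_comm]
              refine Finset.sum_congr rfl fun h _ => ?_
              rw [hS, Finset.smul_sum]
              exact Fintype.sum_equiv (Equiv.mulRight h) _ _ (fun g => rfl)
          _ = _ := (Finset.sum_smul ..).symm
      rw [Submodule.mem_span_singleton]
      refine ⟨(Nat.card H : k)⁻¹ * (∑ h, f h), ?_⟩
      rw [mul_smul, ← h1, smul_smul, inv_mul_cancel₀ (hne _ dvd_rfl), one_smul]
    calc Module.finrank k ρ.invariants ≤ Module.finrank k (Submodule.span k {S}) :=
          Submodule.finrank_mono hle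
      _ ≤ 1 := by
          refine (finrank_span_le_card ({S} : Set V)).trans ?_
          simp
  · intro b hcop
    letI act : MulAction H V :=
      { smul := fun h v => ρ h v
        one_smul := fun v => by change ρ 1 v = v; simp
        mul_smul := fun g h v => hmul g h v }
    set A := MulAction.stabilizer H a
    set B := MulAction.stabilizer H b
    have hA : A.index = Nat.card {u : V | ∃ h : H, ρ h a = u} := by
      rw [MulAction.index_stabilizer, Set.ncard_def]; rfl
    have hB : B.index = Nat.card {u : V | ∃ h : H, ρ h b = u} := by
      rw [MulAction.index_stabilizer, Set.ncard_def]; rfl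
    rw [← hA, ← hB] at hcop
    -- every element is a product of an element fixing `b` and one fixing `a`
    have hBA : ∀ h : H, ∃ y : H, y ∈ B ∧ y⁻¹ * h ∈ A := by
      intro h
      have h1 : (B ⊓ A).index = B.index * A.index := by
        refine le_antisymm Subgroup.index_inf_le (Nat.le_of_dvd ?_ ?_)
        · exact Nat.pos_of_ne_zero Subgroup.index_ne_zero_of_finite
        · exact hcop.symm.mul_dvd_of_dvd_of_dvd (Subgroup.index_dvd_of_le inf_le_left)
            (Subgroup.index_dvd_of_le inf_le_right)
      have h2 := Subgroup.relIndex_mul_index (inf_le_left : B ⊓ A ≤ B)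
      rw [h1, Subgroup.inf_relIndex_left, mul_comm B.index] at h2
      have h3 : A.relIndex B = A.index :=
        Nat.eq_of_mul_eq_mul_right (Nat.pos_of_ne_zero Subgroup.index_ne_zero_of_finite) h2
      have hinj : Function.Injective
          (Quotient.map' (Subtype.val : B → H) (fun x y hxy => by
            rw [QuotientGroup.leftRel_apply] at hxy ⊢
            simpa [Subgroup.mem_subgroupOf] using hxy) : B ⧸ A.subgroupOf B → H ⧸ A) := by
        intro x y
        induction x using QuotientGroup.induction_on with | H x => ?_
        induction y using QuotientGroup.induction_on with | H y => ?_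
        intro hxy
        have hxy' : ((x : H) : H ⧸ A) = ((y : H) : H ⧸ A) := hxy
        rw [QuotientGroup.eq] at hxy' ⊢
        simpa [Subgroup.mem_subgroupOf] using hxy'
      have hbij := hinj.bijective_of_nat_card_le (by
        change Nat.card (H ⧸ A) ≤ Nat.card (B ⧸ A.subgroupOf B)
        exact le_of_eq h3.symm)
      obtain ⟨q, hq⟩ := hbij.2 (h : H ⧸ A)
      induction q using QuotientGroup.induction_on with | H y => ?_
      have hq' : ((y : H) : H ⧸ A) = (h : H ⧸ A) := hq
      exact ⟨y, y.2, QuotientGroup.eq.1 hq'⟩
    set w : V := ∑ y : B, ρ (y : H) a with hw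
    have hindep : ∀ h : H, ∑ y : B, ρ ((y : H) * h) a = w := by
      intro h
      obtain ⟨y0, hy0, hA0⟩ := hBA h
      refine Fintype.sum_equiv (Equiv.mulRight (⟨y0, hy0⟩ : B)) _ _ (fun y => ?_)
      have : ρ (y0⁻¹ * h) a = a := hA0
      simp only [Equiv.coe_mulRight, Subgroup.coe_mul]
      conv_rhs => rw [← this, ← hmul]
      group
    have hwS : (Nat.card H : k) • w = (Nat.card B : k) • S := by
      calc (Nat.card H : k) • w = ∑ h : H, ∑ y : B, ρ ((y : H) * h) a := by
            rw [Finset.sum_congr rfl fun h _ => hindep h, Finset.sum_const, Finset.card_univ,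
              Nat.card_eq_fintype_card, Nat.cast_smul_eq_nsmul]
        _ = ∑ y : B, S := by
            rw [Finset.sum_comm]
            exact Finset.sum_congr rfl fun y _ => Fintype.sum_equiv (Equiv.mulLeft (y : H)) _ _
              (fun h => rfl)
        _ = _ := by
            rw [Finset.sum_const, Finset.card_univ, ← Nat.card_eq_fintype_card,
              Nat.cast_smul_eq_nsmul]
    obtain ⟨f, hf⟩ := hcomb b
    have hbw : (Nat.card B : k) • b = (∑ h, f h) • w := by
      calc (Nat.card B : k) • b = ∑ y : B, ρ (y : H) b := by
            have hy : ∀ y : B, ρ (y : H) b = b := fun y => y.2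
            rw [Finset.sum_congr rfl fun y _ => hy y, Finset.sum_const, Finset.card_univ,
              ← Nat.card_eq_fintype_card, Nat.cast_smul_eq_nsmul]
        _ = ∑ y : B, ∑ h : H, f h • ρ ((y : H) * h) a := by
            refine Finset.sum_congr rfl fun y _ => ?_
            rw [hf, map_sum]
            exact Finset.sum_congr rfl fun h _ => by rw [map_smul, hmul]
        _ = ∑ h : H, f h • w := by
            rw [Finset.sum_comm]
            exact Finset.sum_congr rfl fun h _ => by rw [← Finset.smul_sum, hindep h]
        _ = _ := (Finset.sum_smul ..).symm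
    have hwfix : ∀ g, ρ g w = w := by
      intro g
      have : ρ g ((Nat.card H : k) • w) = (Nat.card H : k) • w := by
        rw [hwS, map_smul, hSfix]
      rw [map_smul] at this
      exact smul_right_injective V (hne _ dvd_rfl) this
    intro g
    have : ρ g ((Nat.card B : k) • b) = (Nat.card B : k) • b := by
      rw [hbw, map_smul, hwfix]
    rw [map_smul] at this
    exact smul_right_injective V (hne _ (Subgroup.card_subgroup_dvd_card B)) this

end Cfsg.Agent.S4177
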