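import Cfsg.Statements.S4178
import Mathlib

set_option autoImplicit false
open Cfsg

namespace Cfsg.Agent.S4178

/-- Let F be a finite field with q elements, V a non-zero finite-dimensional F-space of dimension d, H a group of invertible linear maps of V, and R the subgroup of H generated by the elements of H that fix some non-zero vector (have eigenvalue 1). Then the index of R in H is at most q^d − 1; and if H leaves invariant some proper non-zero subspace, the index is at most q^(d/2) − 1. -/
theorem result {F V : Type*} [Field F] [Fintype F] [AddCommGroup V] [Module F V] [FiniteDimensional F V] [Nontrivial V]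
    (H : Subgroup (V ≃ₗ[F] V)) :
    (Subgroup.closure {h : ↥H | ∃ v : V, v ≠ 0 ∧ (h : V ≃ₗ[F] V) v = v}).index ≤ Fintype.card F ^ Module.finrank F V - 1 ∧
    ((∃ W : Submodule F V, W ≠ ⊥ ∧ W ≠ ⊤ ∧ ∀ h ∈ H, ∀ w ∈ W, h w ∈ W) →
      ((Subgroup.closure {h : ↥H | ∃ v : V, v ≠ 0 ∧ (h : V ≃ₗ[F] V) v = v}).index : ℝ) ≤ Real.sqrt ((Fintype.card F : ℝ) ^ Module.finrank F V) - 1) := by
  classical
  have : Finite V := Module.finite_of_finite F
  have : Finite (V ≃ₗ[F] V) := Finite.of_injective (fun e : V ≃ₗ[F] V => (e : V → V))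
    (fun a b h => LinearEquiv.ext fun x => congrFun h x)
  set R := Subgroup.closure {h : ↥H | ∃ v : V, v ≠ 0 ∧ (h : V ≃ₗ[F] V) v = v} with hR
  have hmain : ∀ v : V, v ≠ 0 → ∀ T : Set V, (∀ h : H, (h : V ≃ₗ[F] V) v ∈ T) →
      R.index ≤ Nat.card T := by
    intro v hv T hT
    have hle : MulAction.stabilizer H v ≤ R := fun h hh => Subgroup.subset_closure ⟨v, hv, hh⟩
    have h2 : R.index ≤ (MulAction.stabilizer H v).index :=
      Nat.le_of_dvd (Nat.pos_of_ne_zero Subgroup.index_ne_zero_of_finite)
        (Subgroup.index_dvd_of_le hle)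
    rw [MulAction.index_stabilizer, Set.ncard_def] at h2
    refine h2.trans ?_
    change Nat.card (MulAction.orbit H v) ≤ Nat.card T
    refine Nat.card_mono (Set.toFinite T) ?_
    rintro _ ⟨h, rfl⟩
    exact hT h
  have hcard : ∀ (U : Submodule F V), Nat.card {u : V | u ∈ U ∧ u ≠ 0} = Fintype.card F ^ Module.finrank F U - 1 := by
    intro U
    have h1 : {u : V | u ∈ U ∧ u ≠ 0} = (U : Set V) \ {0} := by ext; simp
    rw [h1, Nat.card_coe_set_eq, Set.ncard_sdiff_singleton_of_mem U.zero_mem,
      ← Nat.card_coe_set_eq]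
    congr 1
    rw [← Nat.card_eq_fintype_card]
    exact Module.natCard_eq_pow_finrank (K := F) (V := U)
  constructor
  · obtain ⟨v, hv⟩ := exists_ne (0 : V)
    refine (hmain v hv {u : V | u ∈ (⊤ : Submodule F V) ∧ u ≠ 0} fun h => ⟨trivial, ?_⟩).trans
      (le_of_eq ?_)
    · simpa using hv
    · rw [hcard, finrank_top]
  · rintro ⟨W, hW0, hW1, hWinv⟩
    have hbound : ∀ k : ℕ, 2 * k ≤ Module.finrank F V → R.index ≤ Fintype.card F ^ k - 1 →
        (R.index : ℝ) ≤ Real.sqrt ((Fintype.card F : ℝ) ^ Module.finrank F V) - 1 := by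
      intro k hk hle
      have hq : (1 : ℝ) ≤ Fintype.card F := by exact_mod_cast Fintype.card_pos
      have h1 : (R.index : ℝ) + 1 ≤ (Fintype.card F : ℝ) ^ k := by
        have : 1 ≤ Fintype.card F ^ k := Nat.one_le_pow _ _ Fintype.card_pos
        exact_mod_cast (by omega : R.index + 1 ≤ Fintype.card F ^ k)
      have h2 : (Fintype.card F : ℝ) ^ k ≤ Real.sqrt ((Fintype.card F : ℝ) ^ Module.finrank F V) := by
        refine Real.le_sqrt_of_sq_le ?_
        rw [← pow_mul, mul_comm]
        exact pow_le_pow_right₀ hq hk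
      linarith
    by_cases hdim : 2 * Module.finrank F W ≤ Module.finrank F V
    · obtain ⟨v, hvW, hv⟩ := Submodule.exists_mem_ne_zero_of_ne_bot hW0
      refine hbound _ hdim ((hmain v hv {u : V | u ∈ W ∧ u ≠ 0} fun h => ⟨hWinv _ h.2 v hvW, ?_⟩).trans
        (le_of_eq (hcard W)))
      simpa using hv
    · have hadd := Submodule.finrank_quotient_add_finrank W
      refine hbound (Module.finrank F (V ⧸ W)) (by omega) ?_
      obtain ⟨v, hv⟩ : ∃ v : V, v ∉ W := not_forall.1 fun h => hW1 (eq_top_iff.2 fun x _ => h x)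
      -- the stabilizer of `v + W`
      have hWeq : ∀ h : H, W.map ((h : V ≃ₗ[F] V) : V →ₗ[F] V) = W := by
        intro h
        refine Submodule.eq_of_le_of_finrank_eq ?_ (LinearEquiv.finrank_map_eq (h : V ≃ₗ[F] V) W)
        rintro _ ⟨w, hw, rfl⟩
        exact hWinv _ h.2 w hw
      have : Finite (V ⧸ W) := Quotient.finite _
      letI act : MulAction H (V ⧸ W) :=
        { smul := fun h => W.mapQ W ((h : V ≃ₗ[F] V) : V →ₗ[F] V) (fun w hw => hWinv _ h.2 w hw)
          one_smul := fun x => by induction x using Submodule.Quotient.induction_on; rfl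
          mul_smul := fun g h x => by induction x using Submodule.Quotient.induction_on; rfl }
      have hle : MulAction.stabilizer H (Submodule.Quotient.mk v : V ⧸ W) ≤ R := by
        intro h hh
        have hh' : (Submodule.Quotient.mk ((h : V ≃ₗ[F] V) v) : V ⧸ W) = Submodule.Quotient.mk v := hh
        rw [Submodule.Quotient.eq] at hh'
        refine Subgroup.subset_closure ?_
        by_contra hno
        simp only [Set.mem_ofPred_eq, not_exists, not_and] at hno
        let D : V →ₗ[F] V := ((h : V ≃ₗ[F] V) : V →ₗ[F] V) - LinearMap.id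
        have hD : Function.Injective D := by
          rw [injective_iff_map_eq_zero]
          intro x hx
          by_contra hx0
          exact hno x hx0 (sub_eq_zero.1 hx)
        have hDW : W.map D = W := by
          refine Submodule.eq_of_le_of_finrank_eq ?_ ?_
          · rintro _ ⟨w, hw, rfl⟩
            exact W.sub_mem (hWinv _ h.2 w hw) hw
          · exact (Submodule.equivMapOfInjective D hD W).finrank_eq.symm
        rw [← hDW] at hh'
        obtain ⟨w, hw, hw'⟩ := hh'
        exact hv (hD (hw' : D w = D v) ▸ hw)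
      have h2 : R.index ≤ (MulAction.stabilizer H (Submodule.Quotient.mk v : V ⧸ W)).index :=
        Nat.le_of_dvd (Nat.pos_of_ne_zero Subgroup.index_ne_zero_of_finite)
          (Subgroup.index_dvd_of_le hle)
      rw [MulAction.index_stabilizer] at h2
      refine h2.trans ?_
      have hsub : MulAction.orbit H (Submodule.Quotient.mk v : V ⧸ W) ⊆ Set.univ \ {0} := by
        rintro _ ⟨h, rfl⟩
        refine ⟨trivial, ?_⟩
        intro h0
        have h0' : (Submodule.Quotient.mk ((h : V ≃ₗ[F] V) v) : V ⧸ W) = 0 := h0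
        rw [Submodule.Quotient.mk_eq_zero, ← hWeq h] at h0'
        obtain ⟨w, hw, hw'⟩ := h0'
        exact hv ((h : V ≃ₗ[F] V).injective hw' ▸ hw)
      refine (Set.ncard_le_ncard hsub (Set.toFinite _)).trans (le_of_eq ?_)
      rw [Set.ncard_sdiff_singleton_of_mem (Set.mem_univ _), Set.ncard_univ,
        Module.natCard_eq_pow_finrank (K := F) (V := V ⧸ W), Nat.card_eq_fintype_card]

end Cfsg.Agent.S4178
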