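import Cfsg.Statements.S4182
-- import your own Cfsg.Agent.* helpers here

set_option autoImplicit false
open Cfsg

namespace Cfsg.Agent.S4182

universe u

/-- A finite `p`-group is not the union of at most `p` proper subgroups. -/
theorem exists_notMem {P : Type*} [Group P] [Finite P] {p : ℕ} [hp : Fact p.Prime] (hP : IsPGroup p P)
    (s : Finset (Subgroup P)) (hs : s.card ≤ p) (hne : ∀ H ∈ s, H ≠ ⊤) : ∃ g, ∀ H ∈ s, g ∉ H := by
  classical
  have := Fintype.ofFinite P
  by_contra h
  push Not at h
  have hcov : (Finset.univ : Finset P).erase 1 ⊆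
      s.biUnion fun H => (H : Set P).toFinset.erase 1 := fun g hg => by
    obtain ⟨H, hH, hgH⟩ := h g
    exact Finset.mem_biUnion.2 ⟨H, hH, by simp [Finset.ne_of_mem_erase hg, hgH]⟩
  have h1 := (Finset.card_le_card hcov).trans Finset.card_biUnion_le
  have h2 : ∀ H ∈ s, p * ((H : Set P).toFinset.erase 1).card + p ≤ Fintype.card P := by
    intro H hH
    have hc : ((H : Set P).toFinset.erase 1).card + 1 = Nat.card H := by
      rw [Finset.card_erase_add_one (by simp [H.one_mem]), Set.toFinset_card, Nat.card_eq_fintype_card]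
      rfl
    have hd : p ≤ H.index := by
      have hi : H.index ≠ 1 := fun hi => hne H hH (Subgroup.index_eq_one.1 hi)
      obtain ⟨k, hk⟩ := hP.index H
      rw [hk] at hi ⊢
      exact Nat.le_self_pow (fun hk0 => hi (by simp [hk0])) p
    calc p * ((H : Set P).toFinset.erase 1).card + p = p * Nat.card H := by rw [← hc]; ring
      _ ≤ Nat.card H * H.index := by rw [mul_comm]; exact Nat.mul_le_mul_left _ hd
      _ = Fintype.card P := by rw [H.card_mul_index, Nat.card_eq_fintype_card]
  obtain ⟨H₀, hH₀, -⟩ := h 1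
  have hsum : ∑ H ∈ s, (p * ((H : Set P).toFinset.erase 1).card + p) ≤ s.card * Fintype.card P :=
    (Finset.sum_le_card_nsmul _ _ _ h2).trans_eq (smul_eq_mul ..)
  rw [Finset.sum_add_distrib, ← Finset.mul_sum, Finset.sum_const, smul_eq_mul] at hsum
  rw [Finset.card_erase_of_mem (Finset.mem_univ 1), Finset.card_univ] at h1
  have hP1 : 1 < Fintype.card P := by
    by_contra hc
    exact hne H₀ hH₀ ((Subgroup.eq_top_iff' _).2 fun g => by
      rw [Fintype.card_le_one_iff.1 (not_lt.1 hc) g 1]; exact H₀.one_mem)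
  have hm : 0 < s.card := Finset.card_pos.2 ⟨H₀, hH₀⟩
  have hp2 := hp.out.two_le
  obtain ⟨c, hc⟩ : ∃ c, Fintype.card P = c + 1 := ⟨Fintype.card P - 1, by omega⟩
  rw [hc] at hsum h1 hP1
  simp only [Nat.add_sub_cancel] at h1
  have h3 : p * c ≤ p * ∑ H ∈ s, ((H : Set P).toFinset.erase 1).card := Nat.mul_le_mul_left p h1
  nlinarith [Nat.mul_le_mul_right c hs, Nat.mul_le_mul_left s.card hp2]

/-- Few proper subgroups cannot cover the `p`-elements of a group generated by them. -/
theorem key (p : ℕ) [hp : Fact p.Prime] : ∀ (n : ℕ) {G : Type u} [Group G] [Finite G], Nat.card G ≤ n →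
    Subgroup.closure {g : G | ∃ k : ℕ, orderOf g = p ^ k} = ⊤ → ∀ s : Finset (Subgroup G),
    (∀ H ∈ s, H ≠ ⊤) → (∀ g : G, (∃ k : ℕ, orderOf g = p ^ k) → ∃ H ∈ s, g ∈ H) → p < s.card := by
  intro n
  induction n with
  | zero => intro G _ _ h; exact absurd h (by have := Nat.card_pos (α := G); omega)
  | succ n ih =>
    intro G _ _ hn hgen s hs hcov
    classical
    by_contra hsp
    rw [not_lt] at hsp
    -- the subgroup generated by the `p`-elements in `H`
    let gp : Subgroup G → Subgroup G := fun H =>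
      Subgroup.closure {g : G | g ∈ H ∧ ∃ k : ℕ, orderOf g = p ^ k}
    have gp_le : ∀ H, gp H ≤ H := fun H => (Subgroup.closure_le _).2 fun g hg => hg.1
    have gp_mono : ∀ {A B : Subgroup G}, A ≤ B → gp A ≤ gp B := fun h =>
      Subgroup.closure_mono fun g hg => ⟨h hg.1, hg.2⟩
    have gp_idem : ∀ H, gp (gp H) = gp H := fun H =>
      le_antisymm (gp_le _) ((Subgroup.closure_le _).2 fun g hg =>
        Subgroup.subset_closure ⟨Subgroup.subset_closure hg, hg.2⟩)
    -- by induction, every proper subgroup generated by `p`-elements lies in a member of `s`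
    have hsub : ∀ L : Subgroup G, gp L = L → L ≠ ⊤ → ∃ H ∈ s, L ≤ H := by
      intro L hL hLt
      by_contra hno
      push Not at hno
      have hcard : Nat.card L ≤ n := by
        have h1 := L.card_mul_index
        have h2 : 2 ≤ L.index := L.one_lt_index_of_ne_top hLt
        have h3 : 0 < Nat.card L := Nat.card_pos
        nlinarith
      have hord : ∀ g : L, orderOf g = orderOf (g : G) := fun g => (Subgroup.orderOf_coe g).symm
      have hLgen : Subgroup.closure {g : L | ∃ k : ℕ, orderOf g = p ^ k} = ⊤ := by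
        refine Subgroup.map_injective L.subtype_injective ?_
        rw [MonoidHom.map_closure, ← MonoidHom.range_eq_map, Subgroup.range_subtype]
        refine Eq.trans ?_ hL
        congr 1
        ext g
        constructor
        · rintro ⟨a, ha, rfl⟩
          exact ⟨a.2, by rw [Subgroup.coe_subtype, ← hord]; exact ha⟩
        · rintro ⟨hg, hgk⟩
          exact ⟨⟨g, hg⟩, by rw [Set.mem_setOf_eq, hord]; exact hgk, rfl⟩
      have hlt := ih hcard hLgen (s.image fun H => H.subgroupOf L) (fun K hK => by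
        obtain ⟨H, hH, rfl⟩ := Finset.mem_image.1 hK
        exact fun h => hno H hH (Subgroup.subgroupOf_eq_top.1 h)) (fun g hg => by
        obtain ⟨H, hH, hgH⟩ := hcov g (by rw [← hord]; exact hg)
        exact ⟨_, Finset.mem_image_of_mem _ hH, hgH⟩)
      have := Finset.card_image_le (s := s) (f := fun H => H.subgroupOf L)
      omega
    -- the maximal such subgroups
    set M : Finset (Subgroup G) := (s.image gp).filter
      (fun L => ∀ L' : Subgroup G, gp L' = L' → L' ≠ ⊤ → L ≤ L' → L' = L) with hMdef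
    have hmem : ∀ L : Subgroup G, L ∈ M ↔
        gp L = L ∧ L ≠ ⊤ ∧ ∀ L' : Subgroup G, gp L' = L' → L' ≠ ⊤ → L ≤ L' → L' = L := by
      intro L
      simp only [hMdef, Finset.mem_filter, Finset.mem_image]
      constructor
      · rintro ⟨⟨H, hH, rfl⟩, hmax⟩
        exact ⟨gp_idem H, fun h => hs H hH (top_le_iff.1 (h ▸ gp_le H)), hmax⟩
      · rintro ⟨h1, h2, hmax⟩
        obtain ⟨H, hH, hLH⟩ := hsub L h1 h2
        refine ⟨⟨H, hH, hmax _ (gp_idem H) (fun h => hs H hH (top_le_iff.1 (h ▸ gp_le H))) ?_⟩, hmax⟩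
        rw [← h1]; exact gp_mono hLH
    have hMcov : ∀ g : G, (∃ k : ℕ, orderOf g = p ^ k) → ∃ L ∈ M, g ∈ L := by
      intro g hg
      obtain ⟨H, hH, hgH⟩ := hcov g hg
      obtain ⟨L, hle, hLmax⟩ := Finite.exists_le_maximal
        (p := fun L : Subgroup G => gp L = L ∧ L ≠ ⊤)
        (a := gp H) ⟨gp_idem H, fun h => hs H hH (top_le_iff.1 (h ▸ gp_le H))⟩
      exact ⟨L, (hmem L).2 ⟨hLmax.1.1, hLmax.1.2, fun L' h1 h2 h3 =>
        le_antisymm (hLmax.2 ⟨h1, h2⟩ h3) h3⟩, hle (Subgroup.subset_closure ⟨hgH, hg⟩)⟩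
    have hMp : M.card ≤ p := ((Finset.card_filter_le _ _).trans Finset.card_image_le).trans hsp
    -- conjugation permutes them
    have gp_map : ∀ (e : G ≃* G) (L : Subgroup G), gp (L.map e.toMonoidHom) = (gp L).map e.toMonoidHom := by
      intro e L
      simp only [gp, MonoidHom.map_closure]
      congr 1
      ext g
      constructor
      · rintro ⟨⟨a, ha, rfl⟩, hk⟩
        exact ⟨a, ⟨ha, by simpa using hk⟩, rfl⟩
      · rintro ⟨a, ⟨ha, hk⟩, rfl⟩
        exact ⟨⟨a, ha, rfl⟩, by simpa using hk⟩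
    have hinv : ∀ (e : G ≃* G), ∀ L ∈ M, L.map e.toMonoidHom ∈ M := by
      intro e L hL
      obtain ⟨h1, h2, hmax⟩ := (hmem L).1 hL
      have hback : ∀ (e : G ≃* G) (L : Subgroup G),
          (L.map e.symm.toMonoidHom).map e.toMonoidHom = L := fun e L => by
        ext g; simp
      refine (hmem _).2 ⟨by rw [gp_map, h1], fun h => h2 ?_, fun L' h1' h2' hle => ?_⟩
      · exact Subgroup.map_injective e.injective (h.trans (Subgroup.map_top_of_surjective _ e.surjective).symm)
      · rw [← hback e L']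
        congr 1
        refine hmax _ (by rw [gp_map, h1']) (fun h => h2' ?_) ?_
        · rw [← hback e L', h]; exact Subgroup.map_top_of_surjective _ e.surjective
        · intro a ha
          exact ⟨e a, hle ⟨a, ha, rfl⟩, by simp⟩
    let f : G →* Equiv.Perm M :=
      { toFun := fun g =>
          { toFun := fun L => ⟨L.1.map (MulAut.conj g).toMonoidHom, hinv _ _ L.2⟩
            invFun := fun L => ⟨L.1.map (MulAut.conj g⁻¹).toMonoidHom, hinv _ _ L.2⟩
            left_inv := fun L => Subtype.ext (by ext a; simp [mul_assoc])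
            right_inv := fun L => Subtype.ext (by ext a; simp [mul_assoc]) }
        map_one' := by ext L a; simp
        map_mul' := fun a b => by ext L c; simp [mul_assoc] }
    have hf : ∀ g : G, (∃ k : ℕ, orderOf g = p ^ k) → f g = 1 := by
      intro g hg
      obtain ⟨L, hL, hgL⟩ := hMcov g hg
      by_contra hfg
      have hfix : f g ⟨L, hL⟩ = ⟨L, hL⟩ := by
        apply Subtype.ext
        ext a
        simp only [f, MonoidHom.coe_mk, OneHom.coe_mk, Equiv.coe_fn_mk]
        constructor
        · rintro ⟨b, hb, rfl⟩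
          exact L.mul_mem (L.mul_mem hgL hb) (L.inv_mem hgL)
        · exact fun ha => ⟨g⁻¹ * a * g, L.mul_mem (L.mul_mem (L.inv_mem hgL) ha) hgL, by simp [mul_assoc]⟩
      obtain ⟨k, hk⟩ := hg
      have hsupp : (f g).support.card < p := by
        refine lt_of_lt_of_le (Finset.card_lt_univ_of_notMem (x := ⟨L, hL⟩) ?_) ((Fintype.card_coe M).le.trans hMp)
        simp [hfix]
      have hdvd : orderOf (f g) ∣ p ^ k := hk ▸ orderOf_map_dvd f g
      obtain ⟨j, -, hj⟩ := (Nat.dvd_prime_pow hp.out).1 hdvd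
      obtain ⟨c, hc⟩ := Multiset.exists_mem_of_ne_zero
        (show (f g).cycleType ≠ 0 by rwa [Ne, Equiv.Perm.cycleType_eq_zero])
      have hc2 := Equiv.Perm.two_le_of_mem_cycleType hc
      have hcd := Equiv.Perm.dvd_of_mem_cycleType hc
      rw [hj] at hcd
      obtain ⟨i, -, hi⟩ := (Nat.dvd_prime_pow hp.out).1 hcd
      have hle : c ≤ (f g).support.card := by
        rw [← Equiv.Perm.sum_cycleType]; exact Multiset.le_sum_of_mem hc
      have hi0 : i ≠ 0 := by rintro rfl; simp at hi; omega
      have := Nat.le_self_pow hi0 p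
      omega
    have hker : f.ker = ⊤ := top_le_iff.1 (hgen ▸ (Subgroup.closure_le _).2 fun g hg => hf g hg)
    have hnormal : ∀ L ∈ M, L.Normal := fun L hL => ⟨fun a ha g => by
      have hg : f g = 1 := MonoidHom.mem_ker.1 (hker ▸ Subgroup.mem_top g)
      have h := congrArg Subtype.val (Equiv.ext_iff.1 hg ⟨L, hL⟩)
      simp only [f, MonoidHom.coe_mk, OneHom.coe_mk, Equiv.coe_fn_mk, Equiv.Perm.coe_one, id] at h
      rw [← h]
      exact ⟨a, ha, by simp⟩⟩
    -- a Sylow subgroup lies in none of them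
    obtain ⟨P⟩ : Nonempty (Sylow p G) := inferInstance
    have hne : ∀ K ∈ M.image (fun L => L.subgroupOf (P : Subgroup G)), K ≠ ⊤ := by
      intro K hK htop
      obtain ⟨L, hL, rfl⟩ := Finset.mem_image.1 hK
      obtain ⟨-, h2, -⟩ := (hmem L).1 hL
      have hPL : (P : Subgroup G) ≤ L := Subgroup.subgroupOf_eq_top.1 htop
      have := hnormal L hL
      refine h2 (top_le_iff.1 (hgen ▸ (Subgroup.closure_le _).2 ?_))
      rintro g ⟨k, hk⟩
      have hgp : IsPGroup p (Subgroup.zpowers g) :=
        IsPGroup.of_card (n := k) (by rw [Nat.card_zpowers, hk])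
      obtain ⟨Q, hQ⟩ := hgp.exists_le_sylow
      obtain ⟨a, rfl⟩ := MulAction.exists_smul_eq G P Q
      obtain ⟨b, hb, hbg⟩ := hQ (Subgroup.mem_zpowers g)
      rw [SetLike.mem_coe, ← hbg]
      exact this.conj_mem b (hPL hb) a
    obtain ⟨x, hx⟩ := exists_notMem P.isPGroup' _ (Finset.card_image_le.trans hMp) hne
    obtain ⟨k, hk⟩ := (IsPGroup.iff_orderOf.1 P.isPGroup') x
    obtain ⟨L, hL, hxL⟩ := hMcov x ⟨k, by rw [Subgroup.orderOf_coe, hk]⟩
    exact hx _ (Finset.mem_image_of_mem _ hL) hxL


/-- Let p be a prime and G a finite group generated by its p-elements. If a finite family of proper subgroups of G covers the set of p-elements of G (every element of p-power order lies in one of them), then the family has at least p + 1 members. -/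
theorem result {G : Type*} [Group G] [Finite G] (p : ℕ) [Fact p.Prime] (hgen : Subgroup.closure {g : G | ∃ k : ℕ, orderOf g = p ^ k} = ⊤)
    {ι : Type*} [Fintype ι] (K : ι → Subgroup G) (hK : ∀ i, K i ≠ ⊤)
    (hcov : ∀ g : G, (∃ k : ℕ, orderOf g = p ^ k) → ∃ i, g ∈ K i) :
    p + 1 ≤ Fintype.card ι := by
  classical
  have h := key p _ le_rfl hgen (Finset.univ.image K) (by simp [hK]) (fun g hg => by
    obtain ⟨i, hi⟩ := hcov g hg
    exact ⟨K i, Finset.mem_image_of_mem _ (Finset.mem_univ i), hi⟩)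
  exact h.trans_le Finset.card_image_le

end Cfsg.Agent.S4182
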