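import Cfsg.Statements.S4184
import Mathlib.Data.Nat.Factorization.Basic
import Mathlib.GroupTheory.Sylow
import Mathlib.GroupTheory.GroupAction.Quotient
import Mathlib.Tactic.Linarith

set_option autoImplicit false
open Cfsg

/-!
Finite groups with trivial centre and equal sets of class sizes, one of them with a disconnected
prime graph, have equal orders (an elementary argument).
-/

namespace Cfsg.Agent.S4184

variable {G M : Type*} [Group G] [Finite G] [Group M] [Finite M]

/-- the class size -/
noncomputable def cls (g : G) : ℕ := (Subgroup.centralizer ({g} : Set G)).index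

theorem cls_ne_zero (g : G) : cls g ≠ 0 := Subgroup.index_ne_zero_of_finite

theorem cls_dvd (g : G) : cls g ∣ Nat.card G := Subgroup.index_dvd_card _

theorem fac_add (g : G) (p : ℕ) :
    (Nat.card (Subgroup.centralizer ({g} : Set G))).factorization p + (cls g).factorization p
      = (Nat.card G).factorization p := by
  rw [← Subgroup.card_mul_index (Subgroup.centralizer ({g} : Set G)),
    Nat.factorization_mul Nat.card_pos.ne' Subgroup.index_ne_zero_of_finite]
  rfl

theorem dvd_cent_iff (g : G) {p : ℕ} (hp : p.Prime) :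
    p ∣ Nat.card (Subgroup.centralizer ({g} : Set G)) ↔
      (cls g).factorization p < (Nat.card G).factorization p := by
  rw [← fac_add g p, hp.dvd_iff_one_le_factorization Nat.card_pos.ne']
  omega

/-- a finite group in which every element is conjugate into a subgroup equals that subgroup -/
theorem eq_top_of_meets_all_classes (H : Subgroup G) (h : ∀ g : G, ∃ x : G, x⁻¹ * g * x ∈ H) :
    H = ⊤ := by
  classical
  have := Fintype.ofFinite G
  have := Fintype.ofFinite (G ⧸ H)
  by_contra hne
  have h2 : 2 ≤ H.index := by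
    have := Subgroup.index_eq_one.not.2 hne
    have := Subgroup.index_ne_zero_of_finite (H := H)
    omega
  have hpos : ∀ g : G, 1 ≤ Fintype.card (MulAction.fixedBy (G ⧸ H) g) := by
    intro g
    obtain ⟨x, hx⟩ := h g
    refine Fintype.card_pos_iff.2 ⟨⟨(x : G ⧸ H), ?_⟩⟩
    rw [MulAction.mem_fixedBy]
    change ((g * x : G) : G ⧸ H) = (x : G ⧸ H)
    rw [QuotientGroup.eq]
    have := inv_mem hx
    simpa [mul_assoc] using this
  have hlt : Fintype.card G < ∑ g : G, Fintype.card (MulAction.fixedBy (G ⧸ H) g) := by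
    calc Fintype.card G = ∑ _g : G, 1 := by simp
      _ < _ := by
        refine Finset.sum_lt_sum (fun g _ => hpos g) ⟨1, Finset.mem_univ _, ?_⟩
        have : Fintype.card (MulAction.fixedBy (G ⧸ H) (1 : G)) = H.index := by
          rw [Subgroup.index, Nat.card_eq_fintype_card]
          exact Fintype.card_congr (Equiv.subtypeUnivEquiv fun x => by simp)
        omega
  rw [MulAction.sum_card_fixedBy_eq_card_orbits_mul_card_group G (G ⧸ H)] at hlt
  have h1 : Fintype.card (Quotient (MulAction.orbitRel G (G ⧸ H))) ≤ 1 := by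
    rw [Fintype.card_le_one_iff_subsingleton]
    exact MulAction.pretransitive_iff_subsingleton_quotient G (G ⧸ H) |>.1 inferInstance
  nlinarith

theorem center_eq_bot_ne_top {g : G} (hZ : Subgroup.center G = ⊥) (hg : g ≠ 1) : cls g ≠ 1 := by
  intro h
  apply hg
  rw [cls, Subgroup.index_eq_one] at h
  have : g ∈ Subgroup.center G := by
    rw [Subgroup.mem_center_iff]
    intro y
    have : y ∈ Subgroup.centralizer ({g} : Set G) := h ▸ Subgroup.mem_top y
    exact Subgroup.mem_centralizer_singleton_iff.1 this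
  simpa [hZ] using this

/-- each prime dividing the order of a centreless group divides a class size -/
theorem exists_cls_of_prime_dvd (hZ : Subgroup.center G = ⊥) {p : ℕ} (hp : p.Prime)
    (hdvd : p ∣ Nat.card G) : ∃ g : G, p ∣ cls g := by
  by_contra hno
  push Not at hno
  have := Fact.mk hp
  obtain ⟨P⟩ : Nonempty (Sylow p G) := inferInstance
  have hC : Subgroup.centralizer ((P : Subgroup G) : Set G) = ⊤ := by
    refine eq_top_of_meets_all_classes _ fun g => ?_
    obtain ⟨Q⟩ : Nonempty (Sylow p (Subgroup.centralizer ({g} : Set G))) := inferInstance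
    obtain ⟨R, hR⟩ := (Q.2.map (Subgroup.centralizer ({g} : Set G)).subtype).exists_le_sylow
    have hRQ : (Q : Subgroup _).map (Subgroup.centralizer ({g} : Set G)).subtype
        = (R : Subgroup G) := by
      refine Subgroup.eq_of_le_of_card_ge hR ?_
      rw [Subgroup.card_map_of_injective (Subgroup.subtype_injective _), R.card_eq_multiplicity,
        Q.card_eq_multiplicity]
      refine Nat.pow_le_pow_right hp.pos ?_
      have := fac_add g p
      have h0 : (cls g).factorization p = 0 := Nat.factorization_eq_zero_of_not_dvd (hno g)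
      omega
    obtain ⟨x, hx⟩ := MulAction.exists_smul_eq G P R
    refine ⟨x, ?_⟩
    rw [Subgroup.mem_centralizer_iff]
    intro y hy
    have hy' : x * y * x⁻¹ ∈ (R : Subgroup G) := by
      rw [← hx]
      exact Subgroup.smul_mem_pointwise_smul y (MulAut.conj x) _ hy
    rw [← hRQ, Subgroup.mem_map] at hy'
    obtain ⟨z, -, hz⟩ := hy'
    have hz2 : (z : G) * g = g * z := Subgroup.mem_centralizer_singleton_iff.1 z.2
    have hz3 : (z : G) = x * y * x⁻¹ := hz
    rw [hz3] at hz2
    calc y * (x⁻¹ * g * x) = x⁻¹ * ((x * y * x⁻¹) * g) * x := by group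
      _ = x⁻¹ * (g * (x * y * x⁻¹)) * x := by rw [hz2]
      _ = (x⁻¹ * g * x) * y := by group
  have hle : (P : Subgroup G) ≤ ⊥ := by
    rw [← hZ]
    intro y hy
    rw [Subgroup.mem_center_iff]
    intro g
    have hg : g ∈ Subgroup.centralizer ((P : Subgroup G) : Set G) := hC ▸ Subgroup.mem_top g
    exact (Subgroup.mem_centralizer_iff.1 hg y hy).symm
  exact P.ne_bot_of_dvd_card hdvd (le_bot_iff.1 hle)

/-- `n` carries the whole `q`-part of `#M` for all primes `q` on the side `S` -/
def Full (S : ℕ → Prop) (N n : ℕ) : Prop :=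
  ∀ q : ℕ, q.Prime → q ∣ N → S q → n.factorization q = N.factorization q

theorem full_or (A : Set ℕ)
    (hd : ∀ a ∈ A, ∀ b ∉ A, a.Prime → b.Prime → a ∣ Nat.card M → b ∣ Nat.card M →
      ¬ ∃ x : M, orderOf x = a * b) (x : M) (hx : x ≠ 1) :
    Full (· ∈ A) (Nat.card M) (cls x) ∨ Full (· ∉ A) (Nat.card M) (cls x) := by
  by_contra hno
  simp only [Full, not_or, not_forall] at hno
  obtain ⟨⟨a, ha, had, haA, ha'⟩, ⟨b, hb, hbd, hbA, hb'⟩⟩ := hno
  have hle : ∀ q, (cls x).factorization q ≤ (Nat.card M).factorization q := fun q => by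
    have := fac_add x q; omega
  have hax : a ∣ Nat.card (Subgroup.centralizer ({x} : Set M)) :=
    (dvd_cent_iff x ha).2 (lt_of_le_of_ne (hle a) ha')
  have hbx : b ∣ Nat.card (Subgroup.centralizer ({x} : Set M)) :=
    (dvd_cent_iff x hb).2 (lt_of_le_of_ne (hle b) hb')
  have ho : orderOf x ≠ 1 := fun h => hx (orderOf_eq_one_iff.1 h)
  obtain ⟨r, hr, hrx⟩ := Nat.exists_prime_and_dvd ho
  have hox : orderOf x ≠ 0 := (orderOf_pos x).ne'
  set x' := x ^ (orderOf x / r) with hx'
  have hx'o : orderOf x' = r := orderOf_pow_orderOf_div hox hrx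
  have key : ∀ s : ℕ, s.Prime → s ≠ r → s ∣ Nat.card (Subgroup.centralizer ({x} : Set M)) →
      ∃ y : M, orderOf y = r * s := by
    intro s hs hsr hsx
    have := Fact.mk hs
    obtain ⟨y, hy⟩ := exists_prime_orderOf_dvd_card' s hsx
    have hcomm : Commute x' (y : M) :=
      ((show Commute (y : M) x from Subgroup.mem_centralizer_singleton_iff.1 y.2).symm).pow_left _
    refine ⟨x' * y, ?_⟩
    rw [hcomm.orderOf_mul_eq_mul_orderOf_of_coprime, hx'o, Subgroup.orderOf_coe, hy]
    rw [hx'o, Subgroup.orderOf_coe, hy]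
    exact (Nat.coprime_primes hr hs).2 (Ne.symm hsr)
  have hrd : r ∣ Nat.card M := hrx.trans (orderOf_dvd_natCard x)
  by_cases hrA : r ∈ A
  · exact hd r hrA b hbA hr hb hrd hbd (key b hb (fun h => hbA (h ▸ hrA)) hbx)
  · obtain ⟨y, hy⟩ := key a ha (fun h => hrA (h ▸ haA)) hax
    exact hd a haA r hrA ha hr had hrd ⟨y, by rw [hy, mul_comm]⟩

theorem fac_eq_of_full (hZG : Subgroup.center G = ⊥) (hMn : 1 < Nat.card M)
    (h : Set.range (fun g : G => cls g) = Set.range (fun g : M => cls g))
    (S T : ℕ → Prop) (hST : ∀ q, S q ∨ T q)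
    (hfull : ∀ x : M, x ≠ 1 → Full S (Nat.card M) (cls x) ∨ Full T (Nat.card M) (cls x))
    (p : ℕ) (hp : p.Prime) (hpd : p ∣ Nat.card M) (hpS : S p)
    (b : ℕ) (hb : b.Prime) (hbd : b ∣ Nat.card M) (hbT : T b) (hbp : b ≠ p)
    (hbG : b ∣ Nat.card G) :
    (Nat.card G).factorization p ≤ (Nat.card M).factorization p := by
  by_contra hgt
  push Not at hgt
  have toM : ∀ g : G, ∃ x : M, cls x = cls g := fun g =>
    (Set.ext_iff.1 h (cls g)).1 ⟨g, rfl⟩
  have hleM : ∀ (g : G) q, (cls g).factorization q ≤ (Nat.card M).factorization q := by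
    intro g q
    obtain ⟨x, hx⟩ := toM g
    have := fac_add x q
    rw [← hx]
    omega
  have hor : ∀ g : G, g ≠ 1 → Full S (Nat.card M) (cls g) ∨ Full T (Nat.card M) (cls g) := by
    intro g hg
    obtain ⟨x, hx⟩ := toM g
    rw [← hx]
    refine hfull x ?_
    rintro rfl
    apply center_eq_bot_ne_top hZG hg
    rw [← hx, cls, Subgroup.index_eq_one, eq_top_iff]
    intro y _
    rw [Subgroup.mem_centralizer_singleton_iff]
    simp
  have hboth : ∀ g : G, ¬ (Full S (Nat.card M) (cls g) ∧ Full T (Nat.card M) (cls g)) := by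
    rintro g ⟨h1, h2⟩
    obtain ⟨x, hx⟩ := toM g
    have hcard : cls x = Nat.card M := by
      refine Nat.eq_of_factorization_eq (cls_ne_zero x) Nat.card_pos.ne' fun q => ?_
      by_cases hq : q.Prime ∧ q ∣ Nat.card M
      · rw [hx]
        rcases hST q with hs | ht
        · exact h1 q hq.1 hq.2 hs
        · exact h2 q hq.1 hq.2 ht
      · have h0 : (Nat.card M).factorization q = 0 := by
          by_cases hq1 : q.Prime
          · exact Nat.factorization_eq_zero_of_not_dvd fun hd => hq ⟨hq1, hd⟩
          · exact Nat.factorization_eq_zero_of_not_prime _ hq1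
        have := fac_add x q
        omega
    have hc1 : Nat.card (Subgroup.centralizer ({x} : Set M)) = 1 := by
      have := Subgroup.card_mul_index (Subgroup.centralizer ({x} : Set M))
      rw [← cls, hcard] at this
      exact (Nat.mul_eq_right Nat.card_pos.ne').1 this
    have hx1 : x = 1 := by
      have := Subgroup.eq_bot_of_card_eq _ hc1
      have hmem : x ∈ Subgroup.centralizer ({x} : Set M) :=
        Subgroup.mem_centralizer_singleton_iff.2 rfl
      simpa [this] using hmem
    subst hx1
    have : cls (1 : M) = 1 := by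
      rw [cls, Subgroup.index_eq_one, eq_top_iff]
      intro y _
      rw [Subgroup.mem_centralizer_singleton_iff]
      simp
    omega
  have := Fact.mk hp
  have := Fact.mk hb
  -- an element central in a Sylow `b`-subgroup
  obtain ⟨Q⟩ : Nonempty (Sylow b G) := inferInstance
  have : Nontrivial (Q : Subgroup G) :=
    (Subgroup.nontrivial_iff_ne_bot _).2 (Q.ne_bot_of_dvd_card hbG)
  have := Q.2.center_nontrivial
  obtain ⟨⟨w, hwZ⟩, hw⟩ := exists_ne (1 : Subgroup.center (Q : Subgroup G))
  have hw1 : (w : G) ≠ 1 := fun hh => hw (Subtype.ext (Subtype.ext hh))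
  have hQw : (Q : Subgroup G) ≤ Subgroup.centralizer ({(w : G)} : Set G) := fun y hy =>
    Subgroup.mem_centralizer_singleton_iff.2
      (congrArg Subtype.val (Subgroup.mem_center_iff.1 hwZ ⟨y, hy⟩))
  have hwb : (cls (w : G)).factorization b = 0 := by
    refine Nat.factorization_eq_zero_of_not_dvd fun hd => Q.not_dvd_index ?_
    exact hd.trans (Subgroup.index_dvd_of_le hQw)
  have hwS : Full S (Nat.card M) (cls (w : G)) := by
    refine (hor _ hw1).resolve_right fun hT => ?_
    have := hT b hb hbd hbT
    have := (hb.dvd_iff_one_le_factorization Nat.card_pos.ne').1 hbd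
    omega
  -- a Sylow `p`-subgroup of its centralizer
  obtain ⟨U0⟩ : Nonempty (Sylow p (Subgroup.centralizer ({(w : G)} : Set G))) := inferInstance
  set U : Subgroup G :=
    (U0 : Subgroup _).map (Subgroup.centralizer ({(w : G)} : Set G)).subtype with hU
  have hUp : IsPGroup p U := U0.2.map _
  have hUcard : Nat.card U
      = p ^ ((Nat.card G).factorization p - (Nat.card M).factorization p) := by
    rw [hU, Subgroup.card_map_of_injective (Subgroup.subtype_injective _),
      U0.card_eq_multiplicity]
    congr 1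
    have := fac_add (w : G) p
    have := hwS p hp hpd hpS
    omega
  have hUne : U ≠ ⊥ := by
    intro hh
    rw [Subgroup.eq_bot_iff_card, hUcard] at hh
    have := Nat.one_lt_pow (show (Nat.card G).factorization p - (Nat.card M).factorization p ≠ 0
      by omega) hp.one_lt
    omega
  have hUnon : Nontrivial U := (Subgroup.nontrivial_iff_ne_bot _).2 hUne
  have := hUp.center_nontrivial
  obtain ⟨⟨u, huZ⟩, hu⟩ := exists_ne (1 : Subgroup.center U)
  have hu1 : (u : G) ≠ 1 := fun hh => hu (Subtype.ext (Subtype.ext hh))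
  have huw : Commute (u : G) (w : G) := by
    obtain ⟨u0, -, hu0⟩ := Subgroup.mem_map.1 u.2
    rw [← hu0]
    exact Subgroup.mem_centralizer_singleton_iff.1 u0.2
  have hcop : (orderOf (u : G)).Coprime (orderOf (w : G)) := by
    obtain ⟨i, hi⟩ := IsPGroup.iff_orderOf.1 hUp u
    obtain ⟨j, hj⟩ := IsPGroup.iff_orderOf.1 Q.2 w
    rw [Subgroup.orderOf_coe, Subgroup.orderOf_coe, hi, hj]
    exact Nat.Coprime.pow _ _ ((Nat.coprime_primes hp hb).2 (Ne.symm hbp))
  have hdvd : ∀ u' w' : G, Commute u' w' → (orderOf u').Coprime (orderOf w') →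
      cls u' ∣ cls (u' * w') := by
    intro u' w' hc hco
    refine Subgroup.index_dvd_of_le fun y hy => ?_
    rw [Subgroup.mem_centralizer_singleton_iff] at hy ⊢
    have h1 : Commute y ((u' * w') ^ orderOf w') :=
      (show Commute y (u' * w') from hy).pow_right _
    rw [hc.mul_pow, pow_orderOf_eq_one, mul_one] at h1
    obtain ⟨m, hm⟩ := exists_pow_eq_self_of_coprime hco.symm
    rw [← hm]
    exact h1.pow_right m
  have huS : Full S (Nat.card M) (cls (u : G)) := by
    refine (hor _ hu1).resolve_right fun hT => hboth ((u : G) * (w : G)) ?_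
    have d1 := hdvd _ _ huw hcop
    have d2 : cls (w : G) ∣ cls ((u : G) * (w : G)) := by
      rw [huw.eq]; exact hdvd _ _ huw.symm hcop.symm
    constructor
    · intro q hq hqd hqS
      refine le_antisymm (hleM _ _) ?_
      rw [← hwS q hq hqd hqS]
      exact (Nat.factorization_le_iff_dvd (cls_ne_zero _) (cls_ne_zero _)).2 d2 q
    · intro q hq hqd hqT
      refine le_antisymm (hleM _ _) ?_
      rw [← hT q hq hqd hqT]
      exact (Nat.factorization_le_iff_dvd (cls_ne_zero _) (cls_ne_zero _)).2 d1 q
  -- a central element of an overlying Sylow `p`-subgroup lies in `U`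
  obtain ⟨P, hUP⟩ := hUp.exists_le_sylow
  have : Nontrivial (P : Subgroup G) :=
    (Subgroup.nontrivial_iff_ne_bot _).2 fun hh => hUne (le_bot_iff.1 (hh ▸ hUP))
  have := P.2.center_nontrivial
  obtain ⟨⟨z, hzZ⟩, hz⟩ := exists_ne (1 : Subgroup.center (P : Subgroup G))
  have hz1 : (z : G) ≠ 1 := fun hh => hz (Subtype.ext (Subtype.ext hh))
  have hPz : (P : Subgroup G) ≤ Subgroup.centralizer ({(z : G)} : Set G) := fun y hy =>
    Subgroup.mem_centralizer_singleton_iff.2
      (congrArg Subtype.val (Subgroup.mem_center_iff.1 hzZ ⟨y, hy⟩))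
  have hzU : (z : G) ∈ U := by
    set U' : Subgroup G := U ⊔ Subgroup.zpowers (z : G) with hU'
    have hU'P : U' ≤ P := sup_le hUP (Subgroup.zpowers_le.2 z.2)
    have hU'C : U' ≤ Subgroup.centralizer ({(u : G)} : Set G) := by
      refine sup_le (fun y hy => Subgroup.mem_centralizer_singleton_iff.2
        (congrArg Subtype.val (Subgroup.mem_center_iff.1 huZ ⟨y, hy⟩))) (Subgroup.zpowers_le.2 ?_)
      rw [Subgroup.mem_centralizer_singleton_iff]
      exact (congrArg Subtype.val (Subgroup.mem_center_iff.1 hzZ ⟨u, hUP u.2⟩)).symm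
    have hle : Nat.card U' ≤ Nat.card U := by
      have hd := Subgroup.card_dvd_of_le hU'C
      obtain ⟨k, hk⟩ := IsPGroup.iff_card.1 (P.2.to_le hU'P)
      rw [hk] at hd ⊢
      rw [hUcard]
      refine Nat.pow_le_pow_right hp.pos ?_
      have hk' := (hp.pow_dvd_iff_le_factorization Nat.card_pos.ne').1 hd
      have := fac_add (u : G) p
      have := huS p hp hpd hpS
      omega
    rw [Subgroup.eq_of_le_of_card_ge le_sup_left hle]
    exact Subgroup.mem_sup_right (Subgroup.mem_zpowers _)
  -- `u` may be replaced by `z` in the argument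
  have hzp : (cls (z : G)).factorization p = 0 := by
    refine Nat.factorization_eq_zero_of_not_dvd fun hd => P.not_dvd_index ?_
    exact hd.trans (Subgroup.index_dvd_of_le hPz)
  have hzw : Commute (z : G) (w : G) := by
    have hmem := hzU
    rw [hU, Subgroup.mem_map] at hmem
    obtain ⟨u0, -, hu0⟩ := hmem
    rw [← hu0]
    exact Subgroup.mem_centralizer_singleton_iff.1 u0.2
  have hcz : (orderOf (z : G)).Coprime (orderOf (w : G)) := by
    obtain ⟨i, hi⟩ := IsPGroup.iff_orderOf.1 P.2 z
    obtain ⟨j, hj⟩ := IsPGroup.iff_orderOf.1 Q.2 w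
    rw [Subgroup.orderOf_coe, Subgroup.orderOf_coe, hi, hj]
    exact Nat.Coprime.pow _ _ ((Nat.coprime_primes hp hb).2 (Ne.symm hbp))
  rcases hor _ hz1 with hS' | hT'
  · have := hS' p hp hpd hpS
    have := (hp.dvd_iff_one_le_factorization Nat.card_pos.ne').1 hpd
    omega
  · refine hboth ((z : G) * (w : G)) ⟨?_, ?_⟩
    · intro q hq hqd hqS
      refine le_antisymm (hleM _ _) ?_
      rw [← hwS q hq hqd hqS]
      refine (Nat.factorization_le_iff_dvd (cls_ne_zero _) (cls_ne_zero _)).2 ?_ q
      rw [hzw.eq]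
      exact hdvd _ _ hzw.symm hcz.symm
    · intro q hq hqd hqT
      refine le_antisymm (hleM _ _) ?_
      rw [← hT' q hq hqd hqT]
      exact (Nat.factorization_le_iff_dvd (cls_ne_zero _) (cls_ne_zero _)).2 (hdvd _ _ hzw hcz) q

/-- Let G and M be finite groups with trivial centres and the same set of conjugacy class sizes, and suppose the prime graph of M is disconnected: the prime divisors of #M split into two non-empty parts such that M has no element of order pq with p in one part and q in the other. Then #G = #M. -/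
theorem result {G M : Type*}
    [Group G] [Finite G] [Group M] [Finite M] (hZG : Subgroup.center G = ⊥) (hZM : Subgroup.center M = ⊥)
    (h : Set.range (fun g : G => (Subgroup.centralizer ({g} : Set G)).index) = Set.range (fun g : M => (Subgroup.centralizer ({g} : Set M)).index))
    (hdisc : ∃ A : Set ℕ, (∃ a ∈ A, a.Prime ∧ a ∣ Nat.card M) ∧ (∃ b ∉ A, b.Prime ∧ b ∣ Nat.card M) ∧
      ∀ a ∈ A, ∀ b ∉ A, a.Prime → b.Prime → a ∣ Nat.card M → b ∣ Nat.card M → ¬ ∃ x : M, orderOf x = a * b) :
    Nat.card G = Nat.card M := by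
  obtain ⟨A, ⟨a, haA, ha, had⟩, ⟨b, hbA, hb, hbd⟩, hd⟩ := hdisc
  have h' : Set.range (fun g : G => cls g) = Set.range (fun g : M => cls g) := h
  have toM : ∀ g : G, ∃ x : M, cls x = cls g := fun g =>
    (Set.ext_iff.1 h' (cls g)).1 ⟨g, rfl⟩
  have hMn : 1 < Nat.card M := lt_of_lt_of_le ha.one_lt (Nat.le_of_dvd Nat.card_pos had)
  -- equal sets of prime divisors
  have hpd : ∀ p : ℕ, p.Prime → p ∣ Nat.card G → p ∣ Nat.card M := by
    intro p hp hpd
    obtain ⟨g, hg⟩ := exists_cls_of_prime_dvd hZG hp hpd
    obtain ⟨x, hx⟩ := toM g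
    exact (hx ▸ hg).trans (cls_dvd x)
  have hdp : ∀ p : ℕ, p.Prime → p ∣ Nat.card M → p ∣ Nat.card G := by
    intro p hp hpd
    obtain ⟨x, hx⟩ := exists_cls_of_prime_dvd hZM hp hpd
    obtain ⟨g, hg⟩ := (Set.ext_iff.1 h' (cls x)).2 ⟨x, rfl⟩
    simp only at hg
    exact (hg ▸ hx).trans (cls_dvd g)
  refine Nat.eq_of_factorization_eq Nat.card_pos.ne' Nat.card_pos.ne' fun p => ?_
  by_cases hp : p.Prime
  swap
  · simp [hp]
  by_cases hpM : p ∣ Nat.card M
  swap
  · rw [Nat.factorization_eq_zero_of_not_dvd hpM,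
      Nat.factorization_eq_zero_of_not_dvd (fun hh => hpM (hpd p hp hh))]
  refine le_antisymm ?_ ?_
  · by_cases hpA : p ∈ A
    · exact fac_eq_of_full hZG hMn h' (· ∈ A) (· ∉ A) (fun q => em _)
        (fun x hx => full_or A hd x hx) p hp hpM hpA b hb hbd hbA
        (fun e => hbA (e ▸ hpA)) (hdp b hb hbd)
    · exact fac_eq_of_full hZG hMn h' (· ∉ A) (· ∈ A) (fun q => (em _).symm)
        (fun x hx => (full_or A hd x hx).symm) p hp hpM hpA a ha had haA
        (fun e => hpA (e ▸ haA)) (hdp a ha had)
  · -- some class size carries the full `p`-part of `#M`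
    have key : ∀ r : ℕ, r.Prime → r ∣ Nat.card M →
        ∃ x : M, orderOf x = r := fun r hr hrd => by
      have := Fact.mk hr
      exact exists_prime_orderOf_dvd_card' r hrd
    obtain ⟨x, hx⟩ : ∃ x : M, (cls x).factorization p = (Nat.card M).factorization p := by
      by_cases hpA : p ∈ A
      · obtain ⟨x, hx⟩ := key b hb hbd
        refine ⟨x, ?_⟩
        have hx1 : x ≠ 1 := fun e => hb.one_lt.ne' (by simp [e] at hx; exact hx.symm)
        rcases full_or A hd x hx1 with hS | hT
        · exact hS p hp hpM hpA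
        · exfalso
          have h1 := hT b hb hbd hbA
          have h2 : b ∣ Nat.card (Subgroup.centralizer ({x} : Set M)) := by
            rw [← hx, ← Subgroup.orderOf_mk x (Subgroup.mem_centralizer_singleton_iff.2 rfl)]
            exact orderOf_dvd_natCard _
          have := (dvd_cent_iff x hb).1 h2
          omega
      · obtain ⟨x, hx⟩ := key a ha had
        refine ⟨x, ?_⟩
        have hx1 : x ≠ 1 := fun e => ha.one_lt.ne' (by simp [e] at hx; exact hx.symm)
        rcases full_or A hd x hx1 with hS | hT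
        · exfalso
          have h1 := hS a ha had haA
          have h2 : a ∣ Nat.card (Subgroup.centralizer ({x} : Set M)) := by
            rw [← hx, ← Subgroup.orderOf_mk x (Subgroup.mem_centralizer_singleton_iff.2 rfl)]
            exact orderOf_dvd_natCard _
          have := (dvd_cent_iff x ha).1 h2
          omega
        · exact hT p hp hpM hpA
    obtain ⟨g, hg⟩ := (Set.ext_iff.1 h' (cls x)).2 ⟨x, rfl⟩
    simp only at hg
    have := fac_add g p
    rw [hg, hx] at this
    omega

end Cfsg.Agent.S4184
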