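import Cfsg.Statements.S4186
import Mathlib

set_option autoImplicit false
open Cfsg

namespace Cfsg.Agent.S4186

/-- Let T and X be subgroups of a group with T a finite 2-group normalizing X but not centralizing it. Then some element of T inverts some non-identity element of X under conjugation. -/
theorem result {G : Type*} [Group G] (T X : Subgroup G) [Finite ↥T] (hT : IsPGroup 2 ↥T) (hTN : T ≤ Subgroup.normalizer (X : Set G)) (hTC : ¬ T ≤ Subgroup.centralizer (X : Set G)) : ∃ t ∈ T, ∃ x ∈ X, x ≠ 1 ∧ t * x * t⁻¹ = x⁻¹ := by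
  classical
  let K : Subgroup T := (Subgroup.centralizer (X : Set G)).subgroupOf T
  have hKn : K.Normal := by
    refine ⟨fun k hk t => ?_⟩
    simp only [K, Subgroup.mem_subgroupOf, Subgroup.coe_mul, Subgroup.coe_inv,
      Subgroup.mem_centralizer_iff] at hk ⊢
    intro x hx
    have hx' : (t : G)⁻¹ * x * (t : G) ∈ X := by
      have := Subgroup.mem_normalizer_iff''.1 (hTN t.2) x
      exact this.1 hx
    have h := hk _ hx'
    calc x * ((t : G) * k * (t : G)⁻¹) = (t : G) * (((t : G)⁻¹ * x * t) * k) * (t : G)⁻¹ := by group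
      _ = (t : G) * (k * ((t : G)⁻¹ * x * t)) * (t : G)⁻¹ := by rw [h]
      _ = (t : G) * k * (t : G)⁻¹ * x := by group
  have hne : K ≠ ⊤ := by
    intro h
    exact hTC fun t ht => (h ▸ Subgroup.mem_top (⟨t, ht⟩ : T) : (⟨t, ht⟩ : T) ∈ K)
  have : Nontrivial (T ⧸ K) := QuotientGroup.nontrivial_iff.2 hne
  obtain ⟨n, hn⟩ := IsPGroup.iff_card.1 (hT.to_quotient K)
  have hn0 : n ≠ 0 := by
    rintro rfl
    have := Finite.one_lt_card (α := T ⧸ K)
    omega
  obtain ⟨q, hq⟩ := exists_prime_orderOf_dvd_card' (G := T ⧸ K) 2 (by rw [hn]; exact dvd_pow_self 2 hn0)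
  obtain ⟨t, rfl⟩ := QuotientGroup.mk_surjective q
  have ht : t ∉ K := by
    intro h
    rw [(QuotientGroup.eq_one_iff t).2 h] at hq
    simp at hq
  have ht2 : t ^ 2 ∈ K := by
    rw [← QuotientGroup.eq_one_iff, QuotientGroup.mk_pow, ← hq]
    exact pow_orderOf_eq_one _
  simp only [K, Subgroup.mem_subgroupOf, Subgroup.mem_centralizer_iff, not_forall] at ht
  obtain ⟨x, hx, hne'⟩ := ht
  have hx' : (t : G) * x * (t : G)⁻¹ ∈ X := (Subgroup.mem_normalizer_iff.1 (hTN t.2) x).1 hx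
  refine ⟨t, t.2, x⁻¹ * ((t : G) * x * (t : G)⁻¹), X.mul_mem (X.inv_mem hx) hx', ?_, ?_⟩
  · intro h
    apply hne'
    have h' : x = (t : G) * x * (t : G)⁻¹ := inv_mul_eq_one.1 h
    nth_rw 1 [h']
    group
  · have h2 : x * ((t : G) * t) = (t : G) * t * x := by
      have := Subgroup.mem_centralizer_iff.1 (Subgroup.mem_subgroupOf.1 ht2) x hx
      simpa [pow_two] using this
    have h2' : (t : G) * ((t : G) * x * (t : G)⁻¹) * (t : G)⁻¹ = x := by
      calc _ = ((t : G) * t * x) * ((t : G) * t)⁻¹ := by group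
        _ = x := by rw [← h2]; group
    calc (t : G) * (x⁻¹ * ((t : G) * x * (t : G)⁻¹)) * (t : G)⁻¹
        = ((t : G) * x * (t : G)⁻¹)⁻¹ * ((t : G) * ((t : G) * x * (t : G)⁻¹) * (t : G)⁻¹) := by group
      _ = _ := by rw [h2']; group

end Cfsg.Agent.S4186
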