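import Cfsg.Statements.S4188
import Mathlib
import Cfsg.Agent.LinearTwoGroup.Main
import Cfsg.Agent.Solvable.Frattini

set_option autoImplicit false
open Cfsg

namespace Cfsg.Agent.S4188

/-- Let G be a finite group that is the semidirect product of a normal abelian subgroup N of odd order by a 2-subgroup P, and suppose N is the unique minimal normal subgroup of G. Then the index of the Frattini subgroup of P in P is at most #N − 1. -/
theorem result {G : Type*} [Group G] [Finite G] (N P : Subgroup G) (hN : N.Normal) (hNab : IsMulCommutative ↥N) (hNodd : Odd (Nat.card ↥N)) (hP : IsPGroup 2 ↥P) (hdisj : N ⊓ P = ⊥) (hprod : N ⊔ P = ⊤) (hmin : N ≠ ⊥ ∧ ∀ M : Subgroup G, M.Normal → M ≠ ⊥ → N ≤ M) : (frattini ↥P).index ≤ Nat.card ↥N - 1 := by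
  obtain ⟨hN0, hmin⟩ := hmin
  classical
  let : CommGroup N := { (inferInstance : Group N) with mul_comm := hNab.is_comm.comm }
  have hn1 : 1 < Nat.card N := (Subgroup.one_lt_card_iff_ne_bot N).2 hN0
  obtain ⟨q, hq, hqd⟩ := Nat.exists_prime_and_dvd (show Nat.card N ≠ 1 by omega)
  have := Fact.mk hq
  have := Fact.mk Nat.prime_two
  -- `N` is elementary abelian
  have hel : ∀ x : N, x ^ q = 1 := by
    let Ω : Subgroup G := ((powMonoidHom q : N →* N).ker).map N.subtype
    have hΩn : Ω.Normal := ⟨by
      rintro _ ⟨x, hx, rfl⟩ g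
      refine ⟨⟨g * (x : G) * g⁻¹, hN.conj_mem _ x.2 g⟩, ?_, rfl⟩
      have hx' : (x : G) ^ q = 1 := congrArg Subtype.val (hx : x ^ q = 1)
      refine Subtype.ext ?_
      change (g * (x : G) * g⁻¹) ^ q = 1
      rw [conj_pow, hx']; group⟩
    have hΩ0 : Ω ≠ ⊥ := by
      obtain ⟨x, hx⟩ := exists_prime_orderOf_dvd_card' (G := N) q hqd
      intro e
      have : x ∈ (powMonoidHom q : N →* N).ker := (hx ▸ pow_orderOf_eq_one x :)
      rw [(Subgroup.map_eq_bot_iff_of_injective _ (Subgroup.subtype_injective _)).1 e,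
        Subgroup.mem_bot] at this
      rw [this, orderOf_one] at hx
      exact hq.one_lt.ne hx
    intro x
    obtain ⟨y, hy, hyx⟩ := hmin Ω hΩn hΩ0 x.2
    obtain rfl : y = x := Subtype.ext hyx
    exact hy
  have hq2 : q ≠ 2 := fun e => by
    subst e
    have := Nat.odd_iff.1 hNodd
    omega
  have hNp : IsPGroup q N := fun x => ⟨1, by rw [pow_one]; exact hel x⟩
  obtain ⟨n, hn⟩ := IsPGroup.iff_card.1 hNp
  have hn0 : 1 ≤ n := by
    by_contra h
    rw [hn, show n = 0 by omega, pow_zero] at hn1
    omega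
  -- `P` acts faithfully on `N`
  have hC : P ⊓ Subgroup.centralizer (N : Set G) = ⊥ := by
    by_contra hC
    have hCn : (P ⊓ Subgroup.centralizer (N : Set G)).Normal := by
      rw [← Subgroup.normalizer_eq_top_iff, ← top_le_iff, ← hprod, sup_le_iff]
      constructor
      · intro a ha
        rw [Subgroup.mem_normalizer_iff]
        intro c
        constructor
        · intro hc
          rw [Subgroup.mem_centralizer_iff.1 hc.2 a ha, mul_inv_cancel_right]
          exact hc
        · intro hc
          have h := Subgroup.mem_centralizer_iff.1 hc.2 a ha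
          have e : a * c * a⁻¹ = c := mul_left_cancel (a := a) (by rw [h]; group)
          rwa [e] at hc
      · intro g hg
        rw [Subgroup.mem_normalizer_iff]
        intro c
        have key : ∀ g : G, g ∈ P → ∀ c ∈ P ⊓ Subgroup.centralizer (N : Set G),
            g * c * g⁻¹ ∈ P ⊓ Subgroup.centralizer (N : Set G) := by
          intro g hg c hc
          refine ⟨P.mul_mem (P.mul_mem hg hc.1) (P.inv_mem hg), ?_⟩
          exact (inferInstance : (Subgroup.centralizer (N : Set G)).Normal).conj_mem c hc.2 g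
        refine ⟨key g hg c, fun hc => ?_⟩
        have := key g⁻¹ (inv_mem hg) _ hc
        simpa [mul_assoc] using this
    apply hN0
    rw [eq_bot_iff, ← hdisj]
    exact le_inf le_rfl ((hmin _ hCn hC).trans inf_le_left)
  let φ : P →* MulAut N := (MulAut.conjNormal (H := N)).comp P.subtype
  have hinj : Function.Injective φ := by
    rw [injective_iff_map_eq_one]
    intro g hg
    refine Subtype.ext ?_
    have : (g : G) ∈ P ⊓ Subgroup.centralizer (N : Set G) := by
      refine ⟨g.2, Subgroup.mem_centralizer_iff.2 fun y hy => ?_⟩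
      have h := congrArg Subtype.val (DFunLike.congr_fun hg (⟨y, hy⟩ : N))
      change (g : G) * y * (g : G)⁻¹ = y at h
      exact (mul_inv_eq_iff_eq_mul.1 h).symm
    rwa [hC, Subgroup.mem_bot] at this
  have hB := (CfsgLib.LinearTwoGroup.main hq hq2 n N hn φ.range
    (hP.of_surjective _ φ.rangeRestrict_surjective)).1
  have hBP := CfsgLib.LinearTwoGroup.bnd_of_injective φ.rangeRestrict
    (fun x y h => hinj (congrArg Subtype.val h)) hB ⊤
  have hsq : CfsgLib.LinearTwoGroup.sq (⊤ : Subgroup P) ≤ frattini P :=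
    (Subgroup.closure_le _).2 (by
      rintro _ ⟨x, -, rfl⟩
      exact CfsgLib.Solvable.pow_mem_frattini hP x)
  rw [Subgroup.card_top, ← Subgroup.card_mul_index (frattini P)] at hBP
  have h1 : (frattini P).index ≤ 2 ^ CfsgLib.LinearTwoGroup.T q n := by
    refine Nat.le_of_mul_le_mul_left (?_ : Nat.card (frattini P) * _ ≤ Nat.card (frattini P) * _) Nat.card_pos
    rw [Nat.mul_comm _ (2 ^ _)]
    exact hBP.trans (Nat.mul_le_mul_left _ (Subgroup.card_le_of_le hsq))
  have h2 := CfsgLib.LinearTwoGroup.two_pow_T_lt hq hq2 hn0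
  omega

end Cfsg.Agent.S4188
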