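import Cfsg.Statements.S4195
import Mathlib

set_option autoImplicit false
open Cfsg

namespace Cfsg.Agent.S4195

/-- Let x be a non-identity element of a finite group G whose centralizer contains a Sylow 2-subgroup of G. If x is conjugate to its inverse, then x has order 2. -/
theorem result {G : Type*} [Group G] [Finite G] (x : G) (hx : x ≠ 1) (P : Sylow 2 G) (hP : (P : Subgroup G) ≤ Subgroup.centralizer ({x} : Set G)) (hreal : IsConj x x⁻¹) : orderOf x = 2 := by
  classical
  have hmem : x ∈ Subgroup.centralizer ({x} : Set G) := Subgroup.mem_centralizer_singleton_iff.2 rfl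
  obtain ⟨g, hg⟩ := isConj_iff.1 hreal
  by_cases h2 : x ^ 2 = 1
  · exact orderOf_eq_prime h2 hx
  exfalso
  set C := Subgroup.centralizer ({x} : Set G) with hC
  let N : Subgroup G :=
    { carrier := {y | y * x * y⁻¹ = x ∨ y * x * y⁻¹ = x⁻¹}
      one_mem' := by left; simp
      mul_mem' := by
        intro a b ha hb
        simp only [Set.mem_ofPred_eq] at *
        rcases hb with hb | hb
        · rcases ha with ha | ha
          · left; calc a * b * x * (a * b)⁻¹ = a * (b * x * b⁻¹) * a⁻¹ := by group
              _ = x := by rw [hb, ha]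
          · right; calc a * b * x * (a * b)⁻¹ = a * (b * x * b⁻¹) * a⁻¹ := by group
              _ = x⁻¹ := by rw [hb, ha]
        · rcases ha with ha | ha
          · right; calc a * b * x * (a * b)⁻¹ = a * (b * x * b⁻¹) * a⁻¹ := by group
              _ = (a * x * a⁻¹)⁻¹ := by rw [hb]; group
              _ = x⁻¹ := by rw [ha]
          · left; calc a * b * x * (a * b)⁻¹ = a * (b * x * b⁻¹) * a⁻¹ := by group
              _ = (a * x * a⁻¹)⁻¹ := by rw [hb]; group
              _ = x := by rw [ha, inv_inv]
      inv_mem' := by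
        intro a ha
        simp only [Set.mem_ofPred_eq] at *
        rcases ha with ha | ha
        · left; calc a⁻¹ * x * a⁻¹⁻¹ = a⁻¹ * (a * x * a⁻¹) * a := by rw [ha]; group
            _ = x := by group
        · right; calc a⁻¹ * x * a⁻¹⁻¹ = a⁻¹ * (a * x * a⁻¹)⁻¹ * a := by rw [ha]; group
            _ = x⁻¹ := by group }
  have hgC : ∀ y, y ∈ C ↔ y * x * y⁻¹ = x := by
    intro y
    rw [hC, Subgroup.mem_centralizer_singleton_iff]
    exact ⟨fun h => by rw [h]; group, fun h => mul_inv_eq_iff_eq_mul.1 h⟩
  have hCN : C ≤ N := fun y hy => Or.inl ((hgC y).1 hy)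
  have hx' : x⁻¹ ≠ x := by
    intro h
    apply h2
    rw [pow_two]
    nth_rw 1 [← h]
    simp
  have hidx : C.relIndex N = 2 := by
    rw [Subgroup.relIndex, Subgroup.index_eq_two_iff]
    refine ⟨⟨g, Or.inr hg⟩, fun b => ?_⟩
    simp only [Subgroup.mem_subgroupOf, Subgroup.coe_mul, hgC]
    have hbg : ((b : G) * g) * x * ((b : G) * g)⁻¹ = ((b : G) * x * (b : G)⁻¹)⁻¹ := by
      calc ((b : G) * g) * x * ((b : G) * g)⁻¹ = (b : G) * (g * x * g⁻¹) * (b : G)⁻¹ := by group
        _ = _ := by rw [hg]; group
    rw [hbg]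
    rcases b.2 with h | h
    · right
      refine ⟨h, ?_⟩
      rw [h]; exact hx'
    · left
      refine ⟨by rw [h, inv_inv], ?_⟩
      rw [h]; exact hx'
  apply P.not_dvd_index
  have : 2 ∣ C.index := by
    rw [← Subgroup.relIndex_mul_index hCN, hidx]
    exact dvd_mul_right _ _
  exact this.trans (Subgroup.index_dvd_of_le hP)

end Cfsg.Agent.S4195
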