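import Cfsg.Statements.S4196
import Mathlib
import Cfsg.Agent.S4195

set_option autoImplicit false
open Cfsg

namespace Cfsg.Agent.S4196

/-- A finite group G has elementary abelian Sylow 2-subgroups (commutative with every element squaring to the identity) if and only if every 2-element of G has a Sylow 2-subgroup in its centralizer and is conjugate to its inverse. -/
theorem result {G : Type*} [Group G] [Finite G] (P : Sylow 2 G) :
    (IsMulCommutative (P : Subgroup G) ∧ ∀ x ∈ (P : Subgroup G), x ^ 2 = 1) ↔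
      ∀ x : G, (∃ k : ℕ, orderOf x = 2 ^ k) → (∃ Q : Sylow 2 G, (Q : Subgroup G) ≤ Subgroup.centralizer ({x} : Set G)) ∧ IsConj x x⁻¹ := by
  classical
  constructor
  · rintro ⟨hab, h2⟩ x ⟨k, hk⟩
    have hx : IsPGroup 2 (Subgroup.zpowers x) :=
      IsPGroup.of_card (n := k) (by rw [Nat.card_zpowers, hk])
    obtain ⟨Q, hQ⟩ := hx.exists_le_sylow
    obtain ⟨g, hg⟩ := MulAction.exists_smul_eq G P Q
    have hxQ : x ∈ (Q : Subgroup G) := hQ (Subgroup.mem_zpowers x)
    have hQab : ∀ a ∈ (Q : Subgroup G), ∀ b ∈ (Q : Subgroup G), a * b = b * a := by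
      intro a ha b hb
      let e := P.equiv Q
      have := (e.symm ⟨a, ha⟩ : (P : Subgroup G))
      have hc : e.symm ⟨a, ha⟩ * e.symm ⟨b, hb⟩ = e.symm ⟨b, hb⟩ * e.symm ⟨a, ha⟩ :=
        hab.is_comm.comm _ _
      rw [← map_mul, ← map_mul, e.symm.injective.eq_iff] at hc
      exact congrArg Subtype.val hc
    refine ⟨⟨Q, fun y hy => Subgroup.mem_centralizer_singleton_iff.2 (hQab y hy x hxQ)⟩, ?_⟩
    have hsq : x ^ 2 = 1 := by
      have h := congrArg Subtype.val (congrArg (P.equiv Q) (Subtype.ext (h2 ((P.equiv Q).symm ⟨x, hxQ⟩ : (P : Subgroup G)) ((P.equiv Q).symm ⟨x, hxQ⟩).2) :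
        ((P.equiv Q).symm ⟨x, hxQ⟩) ^ 2 = 1))
      simpa using h
    have : x⁻¹ = x := inv_eq_of_mul_eq_one_right (by rwa [← pow_two])
    rw [this]
  · intro h
    have h2 : ∀ x ∈ (P : Subgroup G), x ^ 2 = 1 := by
      intro x hx
      by_cases hx1 : x = 1
      · simp [hx1]
      obtain ⟨k, hk⟩ := IsPGroup.iff_orderOf.1 P.2 ⟨x, hx⟩
      rw [← Subgroup.orderOf_coe] at hk
      obtain ⟨⟨Q, hQ⟩, hr⟩ := h x ⟨k, hk⟩
      have := Cfsg.Agent.S4195.result x hx1 Q hQ hr
      rw [← this]; exact pow_orderOf_eq_one x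
    refine ⟨⟨⟨fun a b => ?_⟩⟩, h2⟩
    have hi : ∀ c : (P : Subgroup G), c⁻¹ = c := fun c =>
      inv_eq_of_mul_eq_one_right (by rw [← pow_two]; exact Subtype.ext (h2 c c.2))
    calc a * b = (a * b)⁻¹ := (hi _).symm
      _ = b * a := by rw [mul_inv_rev, hi, hi]

end Cfsg.Agent.S4196
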