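import Cfsg.Statements.S4198
import Mathlib

set_option autoImplicit false
open Cfsg

/-!
`k(Aₙ) < k(Sₙ) ≤ 2^(n-2)` for `n ≥ 5`.
-/

namespace Cfsg.Agent.S4198

/-- `p(n+1) ≤ 2 p(n)`: drop a part `1`, or lower the least part by one. -/
theorem card_partition_succ_le (n : ℕ) :
    Fintype.card (Nat.Partition (n + 1)) ≤ 2 * Fintype.card (Nat.Partition n) := by
  classical
  have hne : ∀ p : Nat.Partition (n + 1), p.parts.toFinset.Nonempty := fun p => by
    rw [Multiset.toFinset_nonempty]
    intro h
    have := p.parts_sum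
    rw [h] at this
    simp at this
  have h1 : ∀ p : Nat.Partition (n + 1), 1 ∈ p.parts → (p.parts.erase 1).sum = n := fun p hp => by
    have := Multiset.sum_erase hp
    have := p.parts_sum
    omega
  have h2 : ∀ p : Nat.Partition (n + 1), 1 ∉ p.parts → ∀ m ∈ p.parts,
      2 ≤ m ∧ ((m - 1) ::ₘ p.parts.erase m).sum = n := fun p hp m hm => by
    have h0 : 0 < m := p.parts_pos hm
    have h1' : m ≠ 1 := fun h => hp (h ▸ hm)
    have := Multiset.sum_erase hm
    have := p.parts_sum
    rw [Multiset.sum_cons]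
    omega
  have hmin : ∀ p : Nat.Partition (n + 1), p.parts.toFinset.min' (hne p) ∈ p.parts := fun p =>
    Multiset.mem_toFinset.1 (Finset.min'_mem _ _)
  let f : Nat.Partition (n + 1) → Nat.Partition n ⊕ Nat.Partition n := fun p =>
    if hp : 1 ∈ p.parts then
      Sum.inl ⟨p.parts.erase 1, fun hi => p.parts_pos (Multiset.mem_of_mem_erase hi), h1 p hp⟩
    else
      Sum.inr ⟨(p.parts.toFinset.min' (hne p) - 1) ::ₘ p.parts.erase (p.parts.toFinset.min' (hne p)),
        fun {i} hi => by
          rcases Multiset.mem_cons.1 hi with h | h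
          · have := (h2 p hp _ (hmin p)).1; omega
          · exact p.parts_pos (Multiset.mem_of_mem_erase h),
        (h2 p hp _ (hmin p)).2⟩
  have hf : Function.Injective f := by
    intro p q h
    by_cases hp : 1 ∈ p.parts <;> by_cases hq : 1 ∈ q.parts
    · simp only [f, dif_pos hp, dif_pos hq] at h
      have h' := congrArg Nat.Partition.parts (Sum.inl.inj h)
      dsimp only at h'
      refine Nat.Partition.ext ?_
      rw [← Multiset.cons_erase hp, ← Multiset.cons_erase hq, h']
    · simp only [f, dif_pos hp, dif_neg hq, reduceCtorEq] at h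
    · simp only [f, dif_neg hp, dif_pos hq, reduceCtorEq] at h
    · simp only [f, dif_neg hp, dif_neg hq] at h
      have h' := congrArg Nat.Partition.parts (Sum.inr.inj h)
      dsimp only at h'
      have hle : ∀ r : Nat.Partition (n + 1), ∀ x ∈
          (r.parts.toFinset.min' (hne r) - 1) ::ₘ r.parts.erase (r.parts.toFinset.min' (hne r)),
          r.parts.toFinset.min' (hne r) - 1 ≤ x := by
        intro r x hx
        rcases Multiset.mem_cons.1 hx with h | h
        · exact h.symm.le
        · exact (Nat.sub_le _ _).trans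
            (Finset.min'_le _ _ (Multiset.mem_toFinset.2 (Multiset.mem_of_mem_erase h)))
      have hmm : p.parts.toFinset.min' (hne p) = q.parts.toFinset.min' (hne q) := by
        have e1 := hle p _ (h'.symm ▸ Multiset.mem_cons_self _ _)
        have e2 := hle q _ (h' ▸ Multiset.mem_cons_self _ _)
        have := (h2 p hp _ (hmin p)).1
        have := (h2 q hq _ (hmin q)).1
        omega
      rw [hmm, Multiset.cons_inj_right] at h'
      refine Nat.Partition.ext ?_
      rw [← Multiset.cons_erase (hmin p), ← Multiset.cons_erase (hmin q), hmm, h']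
  have := Fintype.card_le_of_injective f hf
  rw [Fintype.card_sum] at this
  omega

theorem card_partition_five_le : Fintype.card (Nat.Partition 5) ≤ 2 ^ (5 - 2) := by
  classical
  have hsum : ∀ p : Nat.Partition 5, p.parts.count 1 + p.parts.count 2 * 2 + p.parts.count 3 * 3
      + p.parts.count 4 * 4 + p.parts.count 5 * 5 = 5 := by
    intro p
    have h := Finset.sum_multiset_count_of_subset p.parts ({1, 2, 3, 4, 5} : Finset ℕ) (by
      intro x hx
      rw [Multiset.mem_toFinset] at hx
      have := p.parts_pos hx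
      have := p.le_of_mem_parts hx
      simp only [Finset.mem_insert, Finset.mem_singleton]
      omega)
    rw [p.parts_sum] at h
    simp only [smul_eq_mul, Finset.sum_insert, Finset.mem_insert, Finset.mem_singleton,
      Finset.sum_singleton] at h
    simp at h
    omega
  let S : Finset (Fin 3 × Fin 2 × Fin 2 × Fin 2) := Finset.univ.filter fun x =>
    2 * (x.1 : ℕ) + 3 * (x.2.1 : ℕ) + 4 * (x.2.2.1 : ℕ) + 5 * (x.2.2.2 : ℕ) ≤ 5
  let f : Nat.Partition 5 → S := fun p => ⟨(⟨p.parts.count 2, by have := hsum p; omega⟩,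
    ⟨p.parts.count 3, by have := hsum p; omega⟩, ⟨p.parts.count 4, by have := hsum p; omega⟩,
    ⟨p.parts.count 5, by have := hsum p; omega⟩), by
      simp only [S, Finset.mem_filter, Finset.mem_univ, true_and]
      have := hsum p; omega⟩
  have hf : Function.Injective f := by
    intro p q h
    simp only [f, Subtype.mk.injEq, Prod.mk.injEq, Fin.mk.injEq] at h
    refine Nat.Partition.ext (Multiset.ext.2 fun i => ?_)
    have hp := hsum p
    have hq := hsum q
    by_cases hi : 1 ≤ i ∧ i ≤ 5
    · obtain ⟨h2, h3, h4, h5⟩ := h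
      rcases hi with ⟨a, b⟩
      interval_cases i <;> omega
    · rw [Multiset.count_eq_zero.2, Multiset.count_eq_zero.2] <;>
      · intro hm
        exact hi ⟨by first | exact p.parts_pos hm | exact q.parts_pos hm,
          by first | exact p.le_of_mem_parts hm | exact q.le_of_mem_parts hm⟩
  refine (Fintype.card_le_of_injective f hf).trans ?_
  rw [Fintype.card_coe]
  decide +kernel

theorem card_partition_le (n : ℕ) (hn : 5 ≤ n) : Fintype.card (Nat.Partition n) ≤ 2 ^ (n - 2) := by
  induction n, hn using Nat.le_induction with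
  | base => exact card_partition_five_le
  | succ n hn ih =>
    refine (card_partition_succ_le n).trans ?_
    rw [show n + 1 - 2 = n - 2 + 1 by omega, pow_succ]
    omega

variable {α : Type*} [Fintype α] [DecidableEq α]

theorem card_conjClasses_le :
    Nat.card (ConjClasses (Equiv.Perm α)) ≤ Fintype.card (Nat.Partition (Fintype.card α)) := by
  rw [← Nat.card_eq_fintype_card]
  refine Nat.card_le_card_of_injective
    (Quotient.lift Equiv.Perm.partition fun a b h => Equiv.Perm.partition_eq_of_isConj.1 h) ?_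
  intro a b
  induction a using Quotient.inductionOn with | h a => ?_
  induction b using Quotient.inductionOn with | h b => ?_
  exact fun h => Quotient.sound (Equiv.Perm.partition_eq_of_isConj.2 h)

open Equiv.Perm in
theorem card_conjClasses_alternating_lt (hα : 5 ≤ Fintype.card α) :
    Nat.card (ConjClasses (alternatingGroup α)) < Nat.card (ConjClasses (Equiv.Perm α)) := by
  classical
  have : Nontrivial α := Fintype.one_lt_card_iff_nontrivial.1 (by omega)
  obtain ⟨u, v, huv⟩ := exists_pair_ne α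
  let τ : Equiv.Perm α := Equiv.swap u v
  have hτ : sign τ = -1 := sign_swap huv
  have hττ : τ * τ = 1 := Equiv.swap_mul_self u v
  let F : ConjClasses (alternatingGroup α) → ConjClasses (Equiv.Perm α) :=
    ConjClasses.map (alternatingGroup α).subtype
  have hFmk : ∀ a : alternatingGroup α, F (ConjClasses.mk a) = ConjClasses.mk (a : Equiv.Perm α) :=
    fun a => rfl
  -- two classes of `Aₙ` inside one of `Sₙ` force the centralizer into `Aₙ`
  have hfib : ∀ a b : alternatingGroup α, IsConj (a : Equiv.Perm α) b → ¬ IsConj a b →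
      Subgroup.centralizer {(a : Equiv.Perm α)} ≤ alternatingGroup α ∧
        ∃ π : Equiv.Perm α, sign π = -1 ∧ π * (a : Equiv.Perm α) * π⁻¹ = b := by
    intro a b hab hnab
    obtain ⟨π, hπ⟩ := isConj_iff.1 hab
    have hodd : sign π = -1 := by
      refine (Int.units_eq_one_or _).resolve_left fun h => hnab ?_
      exact isConj_iff.2 ⟨⟨π, mem_alternatingGroup.2 h⟩, Subtype.ext hπ⟩
    refine ⟨fun c hc => ?_, π, hodd, hπ⟩
    by_contra hce
    have hc' : sign c = -1 := (Int.units_eq_one_or _).resolve_left fun h => hce (mem_alternatingGroup.2 h)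
    refine hnab (isConj_iff.2 ⟨⟨π * c, mem_alternatingGroup.2 (by rw [map_mul, hodd, hc']; decide)⟩,
      Subtype.ext ?_⟩)
    have h := Subgroup.mem_centralizer_singleton_iff.1 hc
    change π * c * (a : Equiv.Perm α) * (π * c)⁻¹ = b
    calc π * c * (a : Equiv.Perm α) * (π * c)⁻¹ = π * (c * a) * c⁻¹ * π⁻¹ := by group
      _ = π * ((a : Equiv.Perm α) * c) * c⁻¹ * π⁻¹ := by rw [h]
      _ = π * a * π⁻¹ := by group
      _ = b := hπ
  -- the odd class attached to a split class
  let good : Multiset ℕ → Prop := fun t =>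
    (∀ c ∈ t, Odd c) ∧ Fintype.card α ≤ t.sum + 1 ∧ t.sum ≤ Fintype.card α ∧ ∀ c ∈ t, 2 ≤ c
  let top : Multiset ℕ → ℕ := fun t => t.toFinset.sup id
  let low : Multiset ℕ → Multiset ℕ := fun t => (top t - 1) ::ₘ t.erase (top t)
  have htop : ∀ t, good t → top t ∈ t ∧ 3 ≤ top t := by
    rintro t ⟨ho, hle, -, h2⟩
    have hne : t.toFinset.Nonempty := by
      rw [Multiset.toFinset_nonempty]
      rintro rfl
      simp at hle
      omega
    obtain ⟨m, hm, hm'⟩ := Finset.exists_mem_eq_sup t.toFinset hne id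
    rw [Multiset.mem_toFinset] at hm
    have e : top t = m := hm'
    refine ⟨e ▸ hm, ?_⟩
    have := h2 m hm
    obtain ⟨k, hk⟩ := ho m hm
    omega
  have hlow : ∀ t, good t → ∃ σ : Equiv.Perm α, σ.cycleType = low t ∧ sign σ = -1 := by
    intro t ht
    obtain ⟨hm, hm3⟩ := htop t ht
    obtain ⟨ho, -, hsum, h2⟩ := ht
    obtain ⟨σ, hσ⟩ : ∃ σ : Equiv.Perm α, σ.cycleType = low t := by
      rw [exists_with_cycleType_iff]
      refine ⟨?_, ?_⟩
      · have := Multiset.sum_erase hm
        rw [Multiset.sum_cons]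
        omega
      · intro c hc
        rcases Multiset.mem_cons.1 hc with h | h
        · omega
        · exact h2 c (Multiset.mem_of_mem_erase h)
    refine ⟨σ, hσ, ?_⟩
    rw [sign_of_cycleType', hσ, Multiset.map_cons, Multiset.prod_cons]
    obtain ⟨k, hk⟩ := ho _ hm
    rw [hk, Nat.add_sub_cancel, Even.neg_one_pow (by exact even_two_mul k),
      Multiset.prod_eq_one, mul_one]
    intro x hx
    obtain ⟨c, hc, rfl⟩ := Multiset.mem_map.1 hx
    rw [(ho c (Multiset.mem_of_mem_erase hc)).neg_one_pow, neg_neg]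
  have hlowinj : ∀ t t', good t → good t' → low t = low t' → t = t' := by
    intro t t' ht ht' h
    obtain ⟨hm, hm3⟩ := htop t ht
    obtain ⟨hm', hm3'⟩ := htop t' ht'
    obtain ⟨k, hk⟩ := ht.1 _ hm
    have heq : top t - 1 = top t' - 1 := by
      have hmem : top t - 1 ∈ low t' := h ▸ Multiset.mem_cons_self _ _
      rcases Multiset.mem_cons.1 hmem with e | e
      · exact e
      · obtain ⟨l, hl⟩ := ht'.1 _ (Multiset.mem_of_mem_erase e)
        omega
    have hmm : top t = top t' := by omega
    have h' : (top t - 1) ::ₘ t.erase (top t) = (top t' - 1) ::ₘ t'.erase (top t') := h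
    rw [← heq, Multiset.cons_inj_right] at h'
    rw [← Multiset.cons_erase hm, ← Multiset.cons_erase hm', hmm]
    rw [hmm] at h'
    rw [h']
  have hgood : ∀ a : alternatingGroup α,
      Subgroup.centralizer {(a : Equiv.Perm α)} ≤ alternatingGroup α → good (a : Equiv.Perm α).cycleType := by
    intro a h
    obtain ⟨h1, h2, -⟩ := centralizer_le_alternating_iff.1 h
    exact ⟨h1, h2, sum_cycleType_le _, fun c hc => two_le_of_mem_cycleType hc⟩
  -- choose the odd class
  have hψ : ∀ d : ConjClasses (Equiv.Perm α), ∃ e : ConjClasses (Equiv.Perm α),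
      ∀ a : alternatingGroup α, ConjClasses.mk (a : Equiv.Perm α) = d →
        good (a : Equiv.Perm α).cycleType →
        ∃ σ : Equiv.Perm α, ConjClasses.mk σ = e ∧ σ.cycleType = low (a : Equiv.Perm α).cycleType ∧
          sign σ = -1 := by
    intro d
    by_cases h : ∃ a : alternatingGroup α, ConjClasses.mk (a : Equiv.Perm α) = d ∧
        good (a : Equiv.Perm α).cycleType
    · obtain ⟨a, had, hag⟩ := h
      obtain ⟨σ, hσ, hσs⟩ := hlow _ hag
      refine ⟨ConjClasses.mk σ, fun b hb _ => ⟨σ, rfl, ?_, hσs⟩⟩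
      rw [hσ]
      have hab : IsConj (a : Equiv.Perm α) (b : Equiv.Perm α) :=
        ConjClasses.mk_eq_mk_iff_isConj.1 (had.trans hb.symm)
      rw [isConj_iff_cycleType_eq] at hab
      rw [hab]
    · exact ⟨d, fun a ha hg => absurd ⟨a, ha, hg⟩ h⟩
  choose ψ hψ using hψ
  let sel : ConjClasses (Equiv.Perm α) → ConjClasses (alternatingGroup α) := Function.invFun F
  have hsel : ∀ c, F (sel (F c)) = F c := fun c => Function.invFun_eq ⟨c, rfl⟩
  let Φ : ConjClasses (alternatingGroup α) → ConjClasses (Equiv.Perm α) := fun c =>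
    if c = sel (F c) then F c else ψ (F c)
  have hsecond : ∀ c, c ≠ sel (F c) → ∃ a : alternatingGroup α, ConjClasses.mk a = c ∧
      good (a : Equiv.Perm α).cycleType := by
    intro c hc
    obtain ⟨a, rfl⟩ := c.exists_rep
    obtain ⟨b, hb⟩ := (sel (F (ConjClasses.mk a))).exists_rep
    refine ⟨a, rfl, hgood a (hfib a b ?_ fun h => hc ?_).1⟩
    · rw [← ConjClasses.mk_eq_mk_iff_isConj, ← hFmk, ← hFmk, hb, hsel]
    · rw [← hb, ConjClasses.mk_eq_mk_iff_isConj]; exact h
  have hfirst_ne : ∀ c d, d ≠ sel (F d) → F c ≠ ψ (F d) := by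
    intro c d hd h
    obtain ⟨a, rfl⟩ := c.exists_rep
    obtain ⟨b, rfl, hb⟩ := hsecond d hd
    obtain ⟨σ, hσ, -, hs⟩ := hψ _ b rfl hb
    have hh : IsConj (a : Equiv.Perm α) σ :=
      ConjClasses.mk_eq_mk_iff_isConj.1 (by rw [hσ]; exact h)
    obtain ⟨π, hπ⟩ := isConj_iff.1 hh
    rw [← hπ, map_mul, map_mul, map_inv, mem_alternatingGroup.1 a.2, mul_one, mul_inv_cancel] at hs
    exact absurd hs (by decide)
  have hsame : ∀ c d, F c = F d → c ≠ sel (F c) → d ≠ sel (F d) → c = d := by
    intro c d hFcd hc hd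
    obtain ⟨a, rfl⟩ := c.exists_rep
    obtain ⟨b, rfl⟩ := d.exists_rep
    obtain ⟨r, hr⟩ := (sel (F (ConjClasses.mk a))).exists_rep
    have hra : IsConj (r : Equiv.Perm α) a := by
      rw [← ConjClasses.mk_eq_mk_iff_isConj, ← hFmk, ← hFmk, hr, hsel]
    have hrb : IsConj (r : Equiv.Perm α) b := by
      rw [← ConjClasses.mk_eq_mk_iff_isConj, ← hFmk, ← hFmk, hr, hsel, hFcd]
    have hna : ¬ IsConj r a := fun h => hc (by rw [← hr, ConjClasses.mk_eq_mk_iff_isConj]; exact h.symm)
    have hnb : ¬ IsConj r b := fun h => hd (by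
      rw [← hFcd, ← hr, ConjClasses.mk_eq_mk_iff_isConj]; exact h.symm)
    obtain ⟨-, π, hπ, hπa⟩ := hfib r a hra hna
    obtain ⟨-, ρ, hρ, hρb⟩ := hfib r b hrb hnb
    rw [ConjClasses.mk_eq_mk_iff_isConj, isConj_iff]
    refine ⟨⟨ρ * π⁻¹, mem_alternatingGroup.2 (by rw [map_mul, map_inv, hπ, hρ, mul_inv_cancel])⟩,
      Subtype.ext ?_⟩
    change ρ * π⁻¹ * (a : Equiv.Perm α) * (ρ * π⁻¹)⁻¹ = b
    rw [← hπa, ← hρb]; group
  have hΦ : Function.Injective Φ := by
    intro c d h
    by_cases hc : c = sel (F c) <;> by_cases hd : d = sel (F d)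
    · simp only [Φ, if_pos hc, if_pos hd] at h
      rw [hc, hd, h]
    · simp only [Φ, if_pos hc, if_neg hd] at h
      exact absurd h (hfirst_ne c d hd)
    · simp only [Φ, if_neg hc, if_pos hd] at h
      exact absurd h.symm (hfirst_ne d c hc)
    · simp only [Φ, if_neg hc, if_neg hd] at h
      obtain ⟨a, rfl, ha⟩ := hsecond c hc
      obtain ⟨b, rfl, hb⟩ := hsecond d hd
      obtain ⟨σ, hσ, hσt, -⟩ := hψ _ a rfl ha
      obtain ⟨σ', hσ', hσt', -⟩ := hψ _ b rfl hb
      have hh : IsConj σ σ' := ConjClasses.mk_eq_mk_iff_isConj.1 (by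
        rw [hσ, hσ']; exact h)
      rw [isConj_iff_cycleType_eq, hσt, hσt'] at hh
      refine hsame _ _ ?_ hc hd
      rw [hFmk, hFmk, ConjClasses.mk_eq_mk_iff_isConj, isConj_iff_cycleType_eq]
      exact hlowinj _ _ ha hb hh
  have := Fintype.ofFinite (ConjClasses (alternatingGroup α))
  have := Fintype.ofFinite (ConjClasses (Equiv.Perm α))
  rw [Nat.card_eq_fintype_card, Nat.card_eq_fintype_card]
  refine Fintype.card_lt_of_injective_of_notMem Φ hΦ (b := ConjClasses.mk τ) ?_
  rintro ⟨c, hc⟩
  by_cases h : c = sel (F c)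
  · simp only [Φ, if_pos h] at hc
    obtain ⟨a, rfl⟩ := c.exists_rep
    have hh : IsConj (a : Equiv.Perm α) τ := ConjClasses.mk_eq_mk_iff_isConj.1 hc
    obtain ⟨π, hπ⟩ := isConj_iff.1 hh
    rw [← hπ, map_mul, map_mul, map_inv, mem_alternatingGroup.1 a.2, mul_one, mul_inv_cancel] at hτ
    exact absurd hτ (by decide)
  · simp only [Φ, if_neg h] at hc
    obtain ⟨a, rfl, ha⟩ := hsecond c h
    obtain ⟨σ, hσ, hσt, -⟩ := hψ _ a rfl ha
    have hh : IsConj σ τ := ConjClasses.mk_eq_mk_iff_isConj.1 (by rw [hσ]; exact hc)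
    rw [isConj_iff_cycleType_eq, hσt, (isCycle_swap huv).cycleType, card_support_swap huv] at hh
    have hs := congrArg Multiset.sum hh
    obtain ⟨hm, hm3⟩ := htop _ ha
    have := Multiset.sum_erase hm
    have := ha.2.1
    rw [Multiset.sum_cons, Multiset.sum_singleton] at hs
    omega

/-- For `n ≥ 5`, `k(Aₙ) < k(Sₙ) ≤ 2^(n-2)`. -/
theorem result (n : ℕ) (hn : 5 ≤ n) : Nat.card (ConjClasses (alternatingGroup (Fin n))) < Nat.card (ConjClasses (Equiv.Perm (Fin n))) ∧ Nat.card (ConjClasses (Equiv.Perm (Fin n))) ≤ 2 ^ (n - 2) := by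
  refine ⟨card_conjClasses_alternating_lt (by simpa using hn), ?_⟩
  refine card_conjClasses_le.trans ?_
  rw [Fintype.card_fin]
  exact card_partition_le n hn

end Cfsg.Agent.S4198
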