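import Cfsg.Statements.S4201
import Mathlib
import Cfsg.Agent.CommutingPairs.Basic

set_option autoImplicit false
open Cfsg

namespace Cfsg.Agent.S4201

/-- If N is a normal subgroup of the finite group X then k(X) ≤ k(N)·k(X ⧸ N), where k denotes the number of conjugacy classes. -/
theorem result {X : Type*} [Group X] [Finite X] (N : Subgroup X) [N.Normal] : Nat.card (ConjClasses X) ≤ Nat.card (ConjClasses N) * Nat.card (ConjClasses (X ⧸ N)) := by
  classical
  have := Fintype.ofFinite X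
  set K := X ⧸ N
  have := Fintype.ofFinite K
  have hX := CfsgLib.CommutingPairs.sum_card_centralizer X
  have hN := CfsgLib.CommutingPairs.sum_card_centralizer N
  have hK := CfsgLib.CommutingPairs.sum_card_centralizer K
  let π : X →* K := QuotientGroup.mk' N
  set C : X → Subgroup X := fun g => Subgroup.centralizer ({g} : Set X) with hC
  -- one centralizer
  have hle : ∀ g : X, Nat.card (C g) ≤
      Nat.card (Subgroup.centralizer ({π g} : Set K)) * Nat.card (C g ⊓ N : Subgroup X) := by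
    intro g
    have h := Subgroup.card_mul_index (N.subgroupOf (C g))
    rw [← Subgroup.inf_subgroupOf_left,
      Nat.card_congr (Subgroup.subgroupOfEquivOfLe (inf_le_left : C g ⊓ N ≤ C g)).toEquiv] at h
    rw [← h, mul_comm]
    refine Nat.mul_le_mul_right _ ?_
    rw [← Subgroup.relIndex, Subgroup.inf_relIndex_left]
    have hker : N.relIndex (C g) = π.ker.relIndex (C g) :=
      congrArg (fun S : Subgroup X => S.relIndex (C g)) (QuotientGroup.ker_mk' N).symm
    rw [hker, Subgroup.relIndex_ker]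
    · refine Subgroup.card_le_of_le ?_
      rintro _ ⟨c, hc, rfl⟩
      rw [Subgroup.mem_centralizer_singleton_iff, ← map_mul, ← map_mul,
        Subgroup.mem_centralizer_singleton_iff.1 hc]
  -- a coset of `N`
  have hfib : ∀ a : K, ∑ g ∈ Finset.univ.filter (fun g => π g = a), Nat.card (C g ⊓ N : Subgroup X)
      ≤ Nat.card (ConjClasses N) * Nat.card N := by
    intro a
    rw [← hN, Finset.sum_subtype (Finset.univ.filter fun g => π g = a)
      (p := fun g => π g = a) (by simp) , ← Nat.card_sigma, ← Nat.card_sigma]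
    -- fix a representative in each coset `a` meeting `C(n)`
    have hex : ∀ n : N, ∃ r : X, ∀ g : X, π g = a → g * (n : X) = n * g →
        π r = a ∧ r * (n : X) = n * r := by
      intro n
      by_cases h : ∃ g : X, π g = a ∧ g * (n : X) = n * g
      · obtain ⟨r, hr⟩ := h
        exact ⟨r, fun _ _ _ => hr⟩
      · exact ⟨1, fun g h1 h2 => absurd ⟨g, h1, h2⟩ h⟩
    choose r hr using hex
    have hcomm : ∀ x : (g : {g : X // π g = a}) × (C g.1 ⊓ N : Subgroup X),
        x.1.1 * x.2.1 = x.2.1 * x.1.1 := fun x =>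
      (Subgroup.mem_centralizer_singleton_iff.1 x.2.2.1).symm
    refine Nat.card_le_card_of_injective
      (fun x => ⟨⟨x.2.1, x.2.2.2⟩, ⟨(r ⟨x.2.1, x.2.2.2⟩)⁻¹ * x.1.1, ?_⟩, ?_⟩) ?_
    · rw [← QuotientGroup.eq_one_iff]
      change π ((r ⟨x.2.1, x.2.2.2⟩)⁻¹ * x.1.1) = 1
      rw [map_mul, map_inv, (hr ⟨x.2.1, x.2.2.2⟩ x.1.1 x.1.2 (hcomm x)).1, x.1.2, inv_mul_cancel]
    · rw [Subgroup.mem_centralizer_singleton_iff]
      apply Subtype.ext
      have h1 := (hr ⟨x.2.1, x.2.2.2⟩ x.1.1 x.1.2 (hcomm x)).2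
      simp only [Subgroup.coe_mul]
      calc (r ⟨x.2.1, x.2.2.2⟩)⁻¹ * x.1.1 * x.2.1
          = (r ⟨x.2.1, x.2.2.2⟩)⁻¹ * (x.2.1 * r ⟨x.2.1, x.2.2.2⟩) * (r ⟨x.2.1, x.2.2.2⟩)⁻¹ * x.1.1 := by
            rw [mul_assoc, hcomm x]; group
        _ = (r ⟨x.2.1, x.2.2.2⟩)⁻¹ * (r ⟨x.2.1, x.2.2.2⟩ * x.2.1) * (r ⟨x.2.1, x.2.2.2⟩)⁻¹ * x.1.1 := by
            rw [show r ⟨x.2.1, x.2.2.2⟩ * x.2.1 = x.2.1 * r ⟨x.2.1, x.2.2.2⟩ from h1]
        _ = x.2.1 * ((r ⟨x.2.1, x.2.2.2⟩)⁻¹ * x.1.1) := by group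
    · rintro ⟨⟨g, hg⟩, n, hn⟩ ⟨⟨g', hg'⟩, n', hn'⟩ h
      simp only [Sigma.mk.injEq, Subtype.mk.injEq] at h
      obtain ⟨rfl, h⟩ := h
      have h2 := congrArg Subtype.val (congrArg Subtype.val (eq_of_heq h))
      simp only [mul_right_inj] at h2
      subst h2
      rfl
  have key : Nat.card (ConjClasses X) * Nat.card X ≤
      (Nat.card (ConjClasses N) * Nat.card N) * (Nat.card (ConjClasses K) * Nat.card K) := by
    rw [← hX, ← hK, Finset.mul_sum, ← Finset.sum_fiberwise Finset.univ π (fun g => Nat.card (C g))]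
    refine Finset.sum_le_sum fun a _ => ?_
    calc ∑ g ∈ Finset.univ.filter (fun g => π g = a), Nat.card (C g)
        ≤ ∑ g ∈ Finset.univ.filter (fun g => π g = a),
            Nat.card (Subgroup.centralizer ({a} : Set K)) * Nat.card (C g ⊓ N : Subgroup X) := by
          refine Finset.sum_le_sum fun g hg => ?_
          have := hle g
          rwa [(Finset.mem_filter.1 hg).2] at this
      _ ≤ _ := by
          rw [← Finset.mul_sum, mul_comm]
          exact Nat.mul_le_mul_right _ (hfib a)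
  have hm : Nat.card X = Nat.card K * Nat.card N := Subgroup.card_eq_card_quotient_mul_card_subgroup N
  rw [hm] at key
  refine Nat.le_of_mul_le_mul_right ?_ (Nat.mul_pos (Nat.card_pos (α := K)) (Nat.card_pos (α := N)))
  exact key.trans (le_of_eq (by ring))

end Cfsg.Agent.S4201
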