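import Cfsg.Statements.S4203
import Mathlib

set_option autoImplicit false
open Cfsg

/-!
P. Hall: a finite group all of whose maximal subgroups have index `p` or `p²` is solvable.
-/

namespace Cfsg.Agent.S4203

theorem isSolvable_perm_four (α : Type*) [Fintype α] [DecidableEq α] (h : Fintype.card α = 4) :
    Group.IsSolvable (Equiv.Perm α) := by
  have hα : Nat.card α = 4 := by rw [Nat.card_eq_fintype_card, h]
  have hcomm : IsMulCommutative (commutator (alternatingGroup α)) := by
    rw [← alternatingGroup.kleinFour_eq_commutator hα]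
    exact (alternatingGroup.kleinFour_isKleinFour hα).isMulCommutative
  have h1 : Group.IsSolvable (commutator (alternatingGroup α)) :=
    Group.isSolvable_of_comm fun a b => hcomm.is_comm.comm a b
  have h2 : Group.IsSolvable (alternatingGroup α) :=
    solvable_of_ker_le_range (commutator (alternatingGroup α)).subtype Abelianization.of (by
      rw [Subgroup.range_subtype, Abelianization.ker_of])
  exact solvable_of_ker_le_range (alternatingGroup α).subtype Equiv.Perm.sign (by
    rw [Subgroup.range_subtype]; rfl)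

theorem core_step {G : Type*} [Group G] [Finite G]
    (h : ∀ M : Subgroup G, IsCoatom M → ∃ p : ℕ, p.Prime ∧ (M.index = p ∨ M.index = p ^ 2))
    (N : Subgroup G) [N.Normal] (hmin : ∀ K : Subgroup G, K.Normal → K ≤ N → K = ⊥ ∨ K = N)
    (hne : N ≠ ⊥) : Group.IsSolvable N := by
  classical
  by_contra hns
  have hN1 : Nat.card N ≠ 1 := fun h1 => hne (Subgroup.eq_bot_of_card_eq N h1)
  obtain ⟨p, hpmem, hpmax⟩ := Finset.exists_max_image (Nat.card N).primeFactors id
    ⟨_, (Nat.mem_primeFactors.2 ⟨Nat.minFac_prime hN1, Nat.minFac_dvd _, Nat.card_pos.ne'⟩)⟩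
  obtain ⟨hp, hpd, -⟩ := Nat.mem_primeFactors.1 hpmem
  have := Fact.mk hp
  obtain ⟨P⟩ : Nonempty (Sylow p N) := inferInstance
  have hfr := Sylow.normalizer_sup_eq_top P
  set P' : Subgroup G := (P : Subgroup N).map N.subtype with hP'
  have hP'ne : P' ≠ ⊥ := by
    rw [hP', Ne, Subgroup.map_eq_bot_iff_of_injective _ (Subgroup.subtype_injective _)]
    exact P.ne_bot_of_dvd_card hpd
  have hP'N : P' ≤ N := Subgroup.map_subtype_le _
  by_cases htop : Subgroup.normalizer (P' : Set G) = ⊤
  · apply hns
    have hn : P'.Normal := Subgroup.normalizer_eq_top_iff.1 htop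
    have hPN : P' = N := (hmin P' hn hP'N).resolve_left hP'ne
    have hpN : IsPGroup p N := by
      have h1 := P.2.map N.subtype
      rw [← hP', hPN] at h1
      exact h1
    have := hpN.isNilpotent
    infer_instance
  obtain ⟨M, hM, hMle⟩ := (eq_top_or_exists_le_coatom _).resolve_left htop
  have hNM : M ⊔ N = ⊤ := eq_top_iff.2 (hfr ▸ sup_le_sup_right hMle N)
  have hnotle : ¬ N ≤ M := fun hle => hM.1 (by rw [← hNM, sup_eq_left.2 hle])
  -- the index of `M` inside `N`
  set D : Subgroup N := M.subgroupOf N with hD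
  have hidx : D.index = M.index := by
    have h1 := Subgroup.relIndex_mul_index (inf_le_left : M ⊓ N ≤ M)
    have h2 := Subgroup.relIndex_mul_index (inf_le_right : M ⊓ N ≤ N)
    rw [Subgroup.inf_relIndex_left, ← Subgroup.relIndex_sup_right M N, hNM,
      Subgroup.relIndex_top_right] at h1
    rw [Subgroup.inf_relIndex_right] at h2
    rw [hD, ← Subgroup.relIndex]
    refine Nat.eq_of_mul_eq_mul_right (Nat.pos_of_ne_zero (Subgroup.index_ne_zero_of_finite (H := N))) ?_
    rw [h2, ← h1, mul_comm]
  have hnorm : Subgroup.normalizer ((P : Subgroup N) : Set N) ≤ D := by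
    intro x hx
    rw [hD, Subgroup.mem_subgroupOf]
    apply hMle
    rw [Subgroup.mem_normalizer_iff] at hx ⊢
    intro y
    constructor
    · rintro ⟨z, hz, rfl⟩
      exact ⟨x * z * x⁻¹, (hx z).1 hz, rfl⟩
    · rintro ⟨z, hz, hzy⟩
      refine ⟨x⁻¹ * z * x, ?_, ?_⟩
      · refine (hx _).2 ?_
        have : x * (x⁻¹ * z * x) * x⁻¹ = z := by group
        rw [this]; exact hz
      · simp only [Subgroup.subtype_apply, Subgroup.coe_mul, Subgroup.coe_inv] at hzy ⊢
        rw [hzy]; group
  have hPD : (P : Subgroup N) ≤ D := Subgroup.le_normalizer.trans hnorm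
  have hmod : D.index ≡ 1 [MOD p] := by
    have h1 := card_sylow_modEq_one p N
    replace h1 : (Subgroup.normalizer ((P : Subgroup N) : Set N)).index ≡ 1 [MOD p] :=
      (Sylow.card_eq_index_normalizer P).symm.trans rfl ▸ h1
    rw [← Subgroup.relIndex_mul_index hnorm] at h1
    have h2 := card_sylow_modEq_one p D
    replace h2 : (Subgroup.normalizer (((P.subtype hPD : Sylow p D) : Subgroup D) : Set D)).index ≡ 1 [MOD p] :=
      (Sylow.card_eq_index_normalizer (P.subtype hPD)) ▸ h2
    have h3 : (Subgroup.normalizer ((P : Subgroup N) : Set N)).relIndex D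
        = (Subgroup.normalizer (((P.subtype hPD : Sylow p D) : Subgroup D) : Set D)).index := by
      rw [Sylow.coe_subtype, Subgroup.relIndex, ← Subgroup.subgroupOf_normalizer_eq hPD]
    rw [← h3] at h2
    calc D.index = 1 * D.index := (one_mul _).symm
      _ ≡ (Subgroup.normalizer ((P : Subgroup N) : Set N)).relIndex D * D.index [MOD p] :=
          h2.symm.mul_right _
      _ ≡ 1 [MOD p] := h1
  obtain ⟨q, hq, hqi⟩ := h M hM
  have hdvdN : M.index ∣ Nat.card N := hidx ▸ D.index_dvd_card
  have hqd : q ∣ M.index := by rcases hqi with e | e <;> simp [e, pow_two]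
  have hqp : q ≤ p := hpmax q (Nat.mem_primeFactors.2 ⟨hq, hqd.trans hdvdN, Nat.card_pos.ne'⟩)
  rw [hidx] at hmod
  have hqne : q ≠ p := by
    rintro rfl
    have := hmod.symm.trans (Nat.modEq_zero_iff_dvd.2 hqd)
    rw [Nat.modEq_zero_iff_dvd, Nat.dvd_one] at this
    exact hp.one_lt.ne' this
  have hlt : q < p := lt_of_le_of_ne hqp hqne
  have h4 : M.index = 4 := by
    rcases hqi with e | e
    · exfalso
      rw [e] at hmod
      have := Nat.ModEq.eq_of_lt_of_lt hmod hlt hp.one_lt
      exact hq.one_lt.ne' this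
    · have hdvd : p ∣ (q - 1) * (q + 1) := by
        have := (Nat.modEq_iff_dvd' (Nat.one_le_pow _ _ hq.pos)).1 (e ▸ hmod).symm
        rw [mul_comm, ← Nat.sq_sub_sq, one_pow]
        exact this
      have hq2 := hq.two_le
      rcases hp.dvd_mul.1 hdvd with h1 | h1
      · have := Nat.le_of_dvd (by omega) h1; omega
      · have := Nat.le_of_dvd (by omega) h1
        have hpq : p = q + 1 := by omega
        rcases hq.eq_two_or_odd with h2 | h2
        · subst h2; simpa using e
        · exfalso
          have h3 : 2 ∣ p := ⟨(q + 1) / 2, by omega⟩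
          have := (Nat.prime_dvd_prime_iff_eq Nat.prime_two hp).1 h3
          omega
  -- `N` embeds in the symmetric group of degree four
  have := Fintype.ofFinite (G ⧸ M)
  have hc4 : Fintype.card (G ⧸ M) = 4 := by
    rw [← Nat.card_eq_fintype_card]; exact h4
  let φ : G →* Equiv.Perm (G ⧸ M) := MulAction.toPermHom G (G ⧸ M)
  have hker : φ.ker = M.normalCore := (Subgroup.normalCore_eq_ker M).symm
  have hinter : M.normalCore ⊓ N = ⊥ := by
    refine (hmin _ inferInstance inf_le_right).resolve_right fun e => hnotle ?_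
    exact ((inf_eq_right.1 e).trans M.normalCore_le)
  have hinj : Function.Injective (φ.comp N.subtype) := by
    rw [injective_iff_map_eq_one]
    intro x hx
    have hmem : (x : G) ∈ M.normalCore ⊓ N := ⟨hker ▸ hx, x.2⟩
    rw [hinter, Subgroup.mem_bot] at hmem
    exact Subtype.ext hmem
  have := isSolvable_perm_four (G ⧸ M) hc4
  exact hns (Group.isSolvable_of_isSolvable_injective hinj)

/-- If every maximal subgroup has index `p` or `p²` for some prime `p`, the group is solvable. -/
theorem result {G : Type*} [Group G] [Finite G] (h : ∀ M : Subgroup G, IsCoatom M → ∃ p : ℕ, p.Prime ∧ (M.index = p ∨ M.index = p ^ 2)) : Group.IsSolvable G := by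
  induction hn : Nat.card G using Nat.strong_induction_on generalizing G with
  | _ n ih =>
    subst hn
    rcases subsingleton_or_nontrivial G with _ | _
    · infer_instance
    obtain ⟨N, hN, hne, hmin⟩ : ∃ N : Subgroup G, N.Normal ∧ N ≠ ⊥ ∧
        ∀ K : Subgroup G, K.Normal → K ≤ N → K = ⊥ ∨ K = N := by
      obtain ⟨N, ⟨hN1, hN2⟩, hmin⟩ := Set.Finite.exists_minimal
        (Set.toFinite {N : Subgroup G | N.Normal ∧ N ≠ ⊥}) ⟨⊤, inferInstance, top_ne_bot⟩
      refine ⟨N, hN1, hN2, fun K hK hle => or_iff_not_imp_left.2 fun hK0 => ?_⟩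
      exact le_antisymm hle (hmin ⟨hK, hK0⟩ hle)
    have := core_step h N hmin hne
    have hlt : Nat.card (G ⧸ N) < Nat.card G := by
      rw [Subgroup.card_eq_card_quotient_mul_card_subgroup N]
      have : 1 < Nat.card N := (Subgroup.one_lt_card_iff_ne_bot N).2 hne
      exact lt_mul_of_one_lt_right Nat.card_pos this
    have : Group.IsSolvable (G ⧸ N) := by
      refine ih _ hlt (G := G ⧸ N) (fun M hM => ?_) rfl
      have hs := QuotientGroup.mk'_surjective N
      obtain ⟨p, hp, hi⟩ := h (M.comap (QuotientGroup.mk' N)) (Subgroup.isCoatom_comap_of_surjective hs hM)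
      exact ⟨p, hp, by rwa [Subgroup.index_comap_of_surjective _ hs] at hi⟩
    exact solvable_of_ker_le_range N.subtype (QuotientGroup.mk' N) (by
      rw [Subgroup.range_subtype, QuotientGroup.ker_mk'])

end Cfsg.Agent.S4203
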