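import Cfsg.Statements.S4204
import Mathlib

set_option autoImplicit false
open Cfsg

/-!
Fitting: the join of normal nilpotent subgroups of classes `c` and `d` has class at most `c + d`.
-/

namespace Cfsg.Agent.S4204

variable {G : Type*} [Group G]

/-- the shifted lower central series, with the whole group in position `0` -/
def term (H : Subgroup G) : ℕ → Subgroup G
  | 0 => ⊤
  | i + 1 => H.lowerCentralSeries i

theorem lcs_normal (H : Subgroup G) [H.Normal] (i : ℕ) : (H.lowerCentralSeries i).Normal := by
  induction i with
  | zero => simpa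
  | succ i ih => rw [Subgroup.lowerCentralSeries_succ]; infer_instance

theorem term_normal (H : Subgroup G) [H.Normal] (i : ℕ) : (term H i).Normal := by
  cases i with
  | zero => exact (inferInstance : (⊤ : Subgroup G).Normal)
  | succ i => exact lcs_normal H i

theorem commutator_term_le (H : Subgroup G) [H.Normal] (i : ℕ) :
    ⁅term H i, H⁆ ≤ term H (i + 1) := by
  cases i with
  | zero => simpa [term] using Subgroup.commutator_le_right (⊤ : Subgroup G) H
  | succ i => exact le_rfl

theorem commutator_iSup_le {ι : Sort*} (X : ι → Subgroup G) (Z R : Subgroup G) [R.Normal]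
    (h : ∀ i, ⁅X i, Z⁆ ≤ R) : ⁅⨆ i, X i, Z⁆ ≤ R := by
  have key : ∀ S : Subgroup G, ⁅S, Z⁆ ≤ R ↔
      S.map (QuotientGroup.mk' R) ≤ Subgroup.centralizer (Z.map (QuotientGroup.mk' R) : Set (G ⧸ R)) := by
    intro S
    rw [← Subgroup.commutator_eq_bot_iff_le_centralizer, ← Subgroup.map_commutator,
      Subgroup.map_eq_bot_iff, QuotientGroup.ker_mk']
  rw [key, Subgroup.map_iSup]
  exact iSup_le fun i => (key _).1 (h i)

/-- Fitting's theorem with the bound on the class. -/
theorem result {G : Type*} [Group G] [Finite G] (H K : Subgroup G) [H.Normal] [K.Normal] (c d : ℕ) (hH : H.lowerCentralSeries c = ⊥) (hK : K.lowerCentralSeries d = ⊥) : (H ⊔ K).lowerCentralSeries (c + d) = ⊥ := by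
  let B : ℕ → Subgroup G := fun m => ⨆ i : Fin (m + 1), term H i ⊓ term K (m - i)
  have hB : ∀ m, (B m).Normal := fun m => by
    have hn : ∀ i : Fin (m + 1), (term H i ⊓ term K (m - i)).Normal := fun i => by
      have := term_normal H i
      have := term_normal K (m - i)
      infer_instance
    refine ⟨fun x hx g => ?_⟩
    have : (B m).map (MulAut.conj g).toMonoidHom ≤ B m := by
      rw [Subgroup.map_iSup]
      refine iSup_le fun i => le_iSup_of_le i ?_
      rintro _ ⟨y, hy, rfl⟩
      exact (hn i).conj_mem y hy g
    exact this ⟨x, hx, rfl⟩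
  have hle : ∀ m i j, i + j = m → term H i ⊓ term K j ≤ B m := by
    intro m i j hij
    have : j = m - i := by omega
    subst this
    exact le_iSup (fun i : Fin (m + 1) => term H i ⊓ term K (m - i)) ⟨i, by omega⟩
  have hstep : ∀ m, ⁅B m, H ⊔ K⁆ ≤ B (m + 1) := by
    intro m
    have := hB (m + 1)
    refine commutator_iSup_le _ _ _ fun i => ?_
    have := term_normal H i
    have := term_normal K (m - i)
    rw [Subgroup.commutator_comm]
    have h2 : H ⊔ K = ⨆ b : Bool, cond b H K := by rw [iSup_bool_eq]; rfl
    rw [h2]
    refine commutator_iSup_le _ _ _ fun b => ?_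
    rw [Subgroup.commutator_comm]
    cases b
    · refine le_trans ?_ (hle (m + 1) i (m - i + 1) (by omega))
      refine le_inf ?_ ?_
      · exact (Subgroup.commutator_le_left _ _).trans inf_le_left
      · exact (Subgroup.commutator_mono inf_le_right le_rfl).trans (commutator_term_le K _)
    · refine le_trans ?_ (hle (m + 1) (i + 1) (m - i) (by omega))
      refine le_inf ?_ ?_
      · exact (Subgroup.commutator_mono inf_le_left le_rfl).trans (commutator_term_le H _)
      · exact (Subgroup.commutator_le_left _ _).trans inf_le_right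
  have hmain : ∀ n, (H ⊔ K).lowerCentralSeries n ≤ B (n + 1) := by
    intro n
    induction n with
    | zero =>
      rw [Subgroup.lowerCentralSeries_zero]
      refine sup_le ?_ ?_
      · refine le_trans ?_ (hle 1 1 0 rfl)
        simp [term]
      · refine le_trans ?_ (hle 1 0 1 rfl)
        simp [term]
    | succ n ih =>
      rw [Subgroup.lowerCentralSeries_succ]
      exact (Subgroup.commutator_mono ih le_rfl).trans (hstep _)
  have hbot : ∀ (L : Subgroup G) (e i : ℕ), L.lowerCentralSeries e = ⊥ → e < i → term L i = ⊥ := by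
    intro L e i he hi
    obtain ⟨k, rfl⟩ : ∃ k, i = e + k + 1 := ⟨i - e - 1, by omega⟩
    clear hi
    change L.lowerCentralSeries (e + k) = ⊥
    induction k with
    | zero => exact he
    | succ k ih => rw [← Nat.add_assoc, Subgroup.lowerCentralSeries_succ, ih, Subgroup.commutator_bot_left]
  refine le_bot_iff.1 ((hmain _).trans (iSup_le fun i => ?_))
  by_cases hi : c < (i : ℕ)
  · rw [hbot H c i hH hi, bot_inf_eq]
  · rw [hbot K d _ hK (by omega), inf_bot_eq]

end Cfsg.Agent.S4204
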