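import Cfsg.Statements.S4208
import Mathlib
import Cfsg.Agent.S4207
import Cfsg.Agent.Solvable.Frattini

set_option autoImplicit false
open Cfsg
open scoped commutatorElement

/-!
Automorphisms act freely on the generating `r`-tuples of a `p`-group, which are the lifts of the
bases of the Frattini quotient.
-/

namespace Cfsg.Agent.S4208

variable {P : Type*} [Group P] [Finite P] {p : ℕ} [Fact p.Prime]

/-- the lifts of a subset generate iff the subset generates modulo the Frattini subgroup -/
theorem closure_range_eq_top_iff {ι : Type*} (f : ι → P) :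
    Subgroup.closure (Set.range f) = ⊤ ↔
      Subgroup.closure (Set.range fun i => (f i : P ⧸ frattini P)) = ⊤ := by
  have hmap : (Subgroup.closure (Set.range f)).map (QuotientGroup.mk' (frattini P))
      = Subgroup.closure (Set.range fun i => (f i : P ⧸ frattini P)) := by
    rw [MonoidHom.map_closure, ← Set.range_comp]; rfl
  constructor
  · intro h
    rw [← hmap, h, Subgroup.map_top_of_surjective _ (QuotientGroup.mk'_surjective _)]
  · intro h
    refine frattini_nongenerating ?_
    rw [← hmap] at h
    have := congrArg (Subgroup.comap (QuotientGroup.mk' (frattini P))) h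
    rwa [Subgroup.comap_map_eq, Subgroup.comap_top, QuotientGroup.ker_mk'] at this

/-- Tuples whose image has a property are counted by the image tuples and the coset. -/
theorem card_lifts {G : Type*} [Group G] (N : Subgroup G) {r : ℕ} (C : (Fin r → G ⧸ N) → Prop) :
    Nat.card {f : Fin r → G // C fun i => (f i : G ⧸ N)}
      = Nat.card {g : Fin r → G ⧸ N // C g} * Nat.card N ^ r := by
  have hfun : Nat.card (Fin r → N) = Nat.card N ^ r := by rw [Nat.card_fun, Nat.card_fin]
  rw [← hfun, ← Nat.card_prod]
  refine Nat.card_congr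
    { toFun := fun f => (⟨fun i => (f.1 i : G ⧸ N), f.2⟩,
        fun i => ⟨(f.1 i : G ⧸ N).out⁻¹ * f.1 i,
          QuotientGroup.eq.1 (QuotientGroup.out_eq' _)⟩)
      invFun := fun x => ⟨fun i => (x.1.1 i).out * (x.2 i : G), by
        have : (fun i => (((x.1.1 i).out * (x.2 i : G) : G) : G ⧸ N)) = x.1.1 := by
          funext i
          rw [QuotientGroup.mk_mul_of_mem _ (x.2 i).2, QuotientGroup.out_eq']
        rw [this]; exact x.1.2⟩
      left_inv := fun f => Subtype.ext (funext fun i => mul_inv_cancel_left _ _)
      right_inv := ?_ }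
  rintro ⟨⟨g, hg⟩, ν⟩
  have h : ∀ i, (((g i).out * (ν i : G) : G) : G ⧸ N) = g i := fun i => by
    rw [QuotientGroup.mk_mul_of_mem _ (ν i).2, QuotientGroup.out_eq']
  refine Prod.ext (Subtype.ext (funext h)) (funext fun i => Subtype.ext ?_)
  change _ * _ = _
  rw [h i, inv_mul_cancel_left]

theorem card_tuples {V : Type*} [AddCommGroup V] [Module (ZMod p) V] [Finite V] {r : ℕ}
    (hV : Nat.card V = p ^ r) :
    Nat.card {f : Fin r → V // AddSubgroup.closure (Set.range f) = ⊤}
      = ∏ i ∈ Finset.range r, (p ^ r - p ^ i) := by
  classical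
  have := Fintype.ofFinite V
  have hfr : Module.finrank (ZMod p) V = r := by
    have h := Module.natCard_eq_pow_finrank (K := ZMod p) (V := V)
    rw [hV, Nat.card_zmod] at h
    exact (Nat.pow_right_injective (Fact.out : p.Prime).two_le h).symm
  have hiff : ∀ f : Fin r → V,
      AddSubgroup.closure (Set.range f) = ⊤ ↔ LinearIndependent (ZMod p) f := by
    intro f
    rw [linearIndependent_iff_card_eq_finrank_span, Fintype.card_fin, Set.finrank]
    have heq : (Submodule.span (ZMod p) (Set.range f)).toAddSubgroup = AddSubgroup.closure (Set.range f) := by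
      refine le_antisymm (fun x hx => ?_) ((AddSubgroup.closure_le _).2 Submodule.subset_span)
      refine Submodule.span_induction (p := fun x _ => x ∈ AddSubgroup.closure (Set.range f))
        (fun y hy => AddSubgroup.subset_closure hy) (zero_mem _) (fun _ _ _ _ => add_mem) ?_ hx
      intro c y _ hy
      obtain ⟨m, rfl⟩ := ZMod.natCast_zmod_surjective c
      rw [Nat.cast_smul_eq_nsmul]
      exact nsmul_mem hy m
    constructor
    · intro h
      have : Submodule.span (ZMod p) (Set.range f) = ⊤ := by
        refine eq_top_iff.2 fun x _ => ?_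
        have : x ∈ (Submodule.span (ZMod p) (Set.range f)).toAddSubgroup := by rw [heq, h]; trivial
        exact this
      rw [this, finrank_top, hfr]
    · intro h
      rw [← heq, Submodule.eq_top_of_finrank_eq (h.symm.trans hfr.symm)]
      rfl
  rw [Nat.card_congr (Equiv.subtypeEquivRight hiff)]
  have h := card_linearIndependent (K := ZMod p) (V := V) (k := r) (le_of_eq hfr.symm)
  rw [h, hfr, ZMod.card, Finset.prod_range]

/-- If `P` has order `p^n` and Frattini quotient of order `p^r`, then `#Aut P` divides
`p^(r(n-r))` times the order of `GL(r,p)`. -/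
theorem result {P : Type*} [Group P] [Finite P] {p n r : ℕ} [Fact p.Prime] (hP : Nat.card P = p ^ n) (hr : (frattini P).index = p ^ r) : Nat.card (MulAut P) ∣ p ^ (r * (n - r)) * ∏ i ∈ Finset.range r, (p ^ r - p ^ i) := by
  classical
  have hpP : IsPGroup p P := IsPGroup.of_card hP
  let Q := P ⧸ frattini P
  have hcomm : ∀ a b : Q, a * b = b * a := by
    intro a b
    induction a using QuotientGroup.induction_on with | H a => ?_
    induction b using QuotientGroup.induction_on with | H b => ?_
    rw [← QuotientGroup.mk_mul, ← QuotientGroup.mk_mul, QuotientGroup.eq]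
    refine CfsgLib.Solvable.commutator_le_frattini hpP ?_
    have : (a * b)⁻¹ * (b * a) = ⁅b⁻¹, a⁻¹⁆ := by rw [commutatorElement_def]; group
    rw [this]
    exact Subgroup.commutator_mem_commutator (Subgroup.mem_top _) (Subgroup.mem_top _)
  letI : CommGroup Q := { (inferInstance : Group Q) with mul_comm := hcomm }
  have hexp : ∀ x : Additive Q, p • x = 0 := by
    intro x
    obtain ⟨y, hy⟩ := QuotientGroup.mk_surjective (Additive.toMul x)
    change (Additive.toMul x) ^ p = 1
    rw [← hy, ← QuotientGroup.mk_pow, QuotientGroup.eq_one_iff]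
    exact CfsgLib.Solvable.pow_mem_frattini hpP y
  letI : Module (ZMod p) (Additive Q) := AddCommGroup.zmodModule hexp
  let Ω := {f : Fin r → P // Subgroup.closure (Set.range f) = ⊤}
  letI act : MulAction (MulAut P) Ω :=
    { smul := fun a f => ⟨fun i => a (f.1 i), by
        have : (Set.range fun i => a (f.1 i)) = a.toMonoidHom '' Set.range f.1 := Set.range_comp a f.1
        rw [this, ← MonoidHom.map_closure, f.2, Subgroup.map_top_of_surjective _ a.surjective]⟩
      one_smul := fun f => rfl
      mul_smul := fun a b f => rfl }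
  have hfree : ∀ (a : MulAut P) (f : Ω), a • f = f → a = 1 := by
    intro a f h
    refine Cfsg.Agent.S4207.aut_eq_one f.2 ?_
    rintro _ ⟨i, rfl⟩
    exact congrFun (congrArg Subtype.val h) i
  have hQ : Nat.card (Additive Q) = p ^ r := by rw [← hr]; rfl
  have hbases : ∀ g : Fin r → Q, Subgroup.closure (Set.range g) = ⊤ ↔
      AddSubgroup.closure (Set.range fun i => Additive.ofMul (g i)) = ⊤ := by
    intro g
    have h1 : Subgroup.toAddSubgroup (Subgroup.closure (Set.range g))
        = AddSubgroup.closure (Set.range fun i => Additive.ofMul (g i)) := by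
      rw [Subgroup.toAddSubgroup_closure]; rfl
    rw [← h1, ← Subgroup.toAddSubgroup.injective.eq_iff, OrderIso.map_top]
  have hΩ : Nat.card Ω = p ^ (r * (n - r)) * ∏ i ∈ Finset.range r, (p ^ r - p ^ i) := by
    have hΦ : Nat.card (frattini P) = p ^ (n - r) := by
      have h := Subgroup.card_mul_index (frattini P)
      rw [hP, hr] at h
      have hrn : r ≤ n := (Nat.pow_dvd_pow_iff_le_right (Fact.out : p.Prime).one_lt).1 ⟨_, by rw [← h, mul_comm]⟩
      refine Nat.eq_of_mul_eq_mul_right (pow_pos (Fact.out : p.Prime).pos r) ?_
      rw [h, ← pow_add, Nat.sub_add_cancel hrn]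
    have he : Nat.card Ω = Nat.card {g : Fin r → Q // Subgroup.closure (Set.range g) = ⊤}
        * Nat.card (frattini P) ^ r :=
      (Nat.card_congr (Equiv.subtypeEquivRight fun f => closure_range_eq_top_iff f)).trans
        (card_lifts (frattini P) fun g => Subgroup.closure (Set.range g) = ⊤)
    rw [he, hΦ, ← pow_mul, mul_comm (n - r), mul_comm, ← card_tuples (p := p) hQ]
    congr 1
    exact Nat.card_congr ((Equiv.piCongrRight fun _ => Additive.ofMul).subtypeEquiv fun g => hbases g)
  exact hΩ ▸ Cfsg.Agent.S4207.card_dvd_of_free hfree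

end Cfsg.Agent.S4208
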