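import Cfsg.Statements.S4211
import Mathlib
import Cfsg.Agent.Hamiltonian.Basic

set_option autoImplicit false
open Cfsg

namespace Cfsg.Agent.S4211

theorem eq_top_of_forall_sylow_le {G : Type*} [Group G] [Finite G] (H : Subgroup G)
    (h : ∀ (q : ℕ) [Fact q.Prime] (S : Sylow q G), (S : Subgroup G) ≤ H) : H = ⊤ := by
  refine Subgroup.eq_top_of_card_eq H (Nat.dvd_antisymm H.card_subgroup_dvd_card ?_)
  refine (Nat.dvd_iff_prime_pow_dvd_dvd _ _).2 fun q k hq hk => ?_
  have := Fact.mk hq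
  obtain ⟨S⟩ := (inferInstance : Nonempty (Sylow q G))
  refine dvd_trans ?_ (Subgroup.card_dvd_of_le (h q S))
  rw [S.card_eq_multiplicity]
  exact pow_dvd_pow _ ((hq.pow_dvd_iff_le_factorization Nat.card_pos.ne').1 hk)

/-- powers indexed by `ZMod 4` -/
def zp {G : Type*} [Group G] (x : G) (i : ZMod (2 * 2)) : G := x ^ i.val

theorem zp_add {G : Type*} [Group G] {x : G} (hx : x ^ 4 = 1) (i j : ZMod (2 * 2)) :
    zp x (i + j) = zp x i * zp x j := by
  rw [zp, zp, zp, ← pow_add, ZMod.val_add, ← pow_eq_pow_mod _ hx]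

theorem zp_neg {G : Type*} [Group G] {x : G} (hx : x ^ 4 = 1) (i : ZMod (2 * 2)) :
    zp x (-i) = (zp x i)⁻¹ := by
  refine eq_inv_of_mul_eq_one_left ?_
  rw [← zp_add hx, neg_add_cancel]
  exact pow_zero x

theorem exists_q8 {G : Type*} [Group G] {x y : G} (hx : orderOf x = 4) (hyy : x * x = y * y)
    (hyx : y * x * y⁻¹ = x⁻¹) :
    ∃ f : QuaternionGroup 2 →* G, Function.Injective f ∧ x ∈ f.range ∧ y ∈ f.range := by
  have hx4 : x ^ 4 = 1 := hx ▸ pow_orderOf_eq_one x
  have hn : ∀ i, zp x i * y = y * (zp x i)⁻¹ := by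
    intro i
    have h1 : y * (zp x i)⁻¹ * y⁻¹ = zp x i := by
      rw [zp, ← inv_pow, ← conj_pow, show y * x⁻¹ * y⁻¹ = (y * x * y⁻¹)⁻¹ by group, hyx, inv_inv]
    conv_lhs => rw [← h1]
    group
  let F : QuaternionGroup 2 → G
    | .a i => zp x i
    | .xa i => y * zp x i
  have hmul : ∀ g h, F (g * h) = F g * F h := by
    rintro (i | i) (j | j)
    · exact zp_add hx4 i j
    · change y * zp x (j - i) = zp x i * (y * zp x j)
      rw [← mul_assoc, hn, mul_assoc, sub_eq_neg_add, zp_add hx4, zp_neg hx4]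
    · change y * zp x (i + j) = y * zp x i * zp x j
      rw [zp_add hx4, mul_assoc]
    · change zp x ((2 : ℕ) + j - i) = y * zp x i * (y * zp x j)
      rw [show y * zp x i * (y * zp x j) = y * (zp x i * y) * zp x j by group, hn,
        show y * (y * (zp x i)⁻¹) * zp x j = (y * y) * ((zp x i)⁻¹ * zp x j) by group, ← hyy,
        ← zp_neg hx4, ← zp_add hx4, show ((2 : ℕ) : ZMod (2 * 2)) + j - i = 2 + (-i + j) by
          push_cast; ring, zp_add hx4, show zp x 2 = x * x from pow_two x]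
  have hzinj : ∀ i j, zp x i = zp x j → i = j := by
    intro i j h
    refine ZMod.val_injective _ (pow_injOn_Iio_orderOf ?_ ?_ h) <;>
    · simp only [Set.mem_Iio, hx]; exact ZMod.val_lt _
  refine ⟨{ toFun := F, map_one' := pow_zero x, map_mul' := hmul }, ?_, ⟨.a 1, ?_⟩, ⟨.xa 0, ?_⟩⟩
  · have hne : ∀ i j, zp x i ≠ y * zp x j := by
      intro i j h
      have hy : y = zp x (i - j) := by
        rw [sub_eq_add_neg, zp_add hx4, zp_neg hx4, h, mul_inv_cancel_right]
      rw [hy, zp, ((Commute.refl x).pow_left _).eq, mul_inv_cancel_right] at hyx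
      have : x ^ 2 = 1 := by rw [pow_two]; nth_rewrite 2 [hyx]; exact mul_inv_cancel x
      have := Nat.le_of_dvd two_pos (orderOf_dvd_of_pow_eq_one this)
      omega
    rintro (i | i) (j | j) h
    · rw [hzinj i j h]
    · exact absurd h (hne i j)
    · exact absurd h.symm (hne j i)
    · rw [hzinj i j (mul_left_cancel h)]
  · exact pow_one x
  · change y * zp x 0 = y
    rw [show zp x 0 = 1 from pow_zero x, mul_one]


/-- A finite non-abelian group in which every subgroup is normal is the internal direct product of a subgroup isomorphic to the quaternion group of order `8`, an elementary abelian `2`-subgroup and an abelian subgroup of odd order. -/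
theorem result {G : Type*} [Group G] [Finite G] (hna : ¬ IsMulCommutative G) (hn : ∀ H : Subgroup G, H.Normal) : ∃ Q E A : Subgroup G, Nonempty (Q ≃* QuaternionGroup 2) ∧ Cfsg.IsElementaryAbelian 2 E ∧ IsMulCommutative A ∧ Odd (Nat.card A) ∧ E ⊓ A = ⊥ ∧ Q ⊓ (E ⊔ A) = ⊥ ∧ Q ⊔ (E ⊔ A) = ⊤ := by
  classical
  have := Fact.mk Nat.prime_two
  -- the only possible obstruction
  have hodd : ∀ (q : ℕ) [Fact q.Prime], q ≠ 2 → ∀ S : Sylow q G, (S : Subgroup G) ≤ Subgroup.center G := by
    intro q hq hq2 S x hx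
    refine Subgroup.mem_center_iff.2 fun g => Subgroup.mem_centralizer_singleton_iff.1 ?_
    rw [eq_top_of_forall_sylow_le (Subgroup.centralizer ({x} : Set G)) fun r hr T y hy => ?_]
    · trivial
    obtain ⟨k, hk⟩ := IsPGroup.iff_orderOf.1 S.isPGroup' ⟨x, hx⟩
    obtain ⟨l, hl⟩ := IsPGroup.iff_orderOf.1 T.isPGroup' ⟨y, hy⟩
    rw [Subgroup.orderOf_mk] at hk hl
    refine Subgroup.mem_centralizer_singleton_iff.2 ?_
    by_cases hrq : r = q
    · subst hrq
      by_contra hc
      exact hq2 (CfsgLib.Hamiltonian.quaternion_of_not_commute hn hq.out ⟨l, hl⟩ ⟨k, hk⟩ hc).1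
    · exact CfsgLib.Hamiltonian.commute_of_coprime hn (by
        rw [hk, hl]; exact (Nat.coprime_primes hr.out hq.out).2 hrq |>.pow l k)
  obtain ⟨P₀⟩ := (inferInstance : Nonempty (Sylow 2 G))
  set P : Subgroup G := (P₀ : Subgroup G) with hPdef
  have hPn : P.Normal := hn P
  have hP : IsPGroup 2 P := P₀.isPGroup'
  have hPmax : ∀ K : Subgroup G, IsPGroup 2 K → K ≤ P := by
    intro K hK
    exact le_sup_left.trans (le_of_eq (P₀.is_maximal'
      (IsPGroup.to_sup_of_normal_right hK hP) le_sup_right))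
  -- the odd part
  let A : Subgroup G :=
    { carrier := {g | g ∈ Subgroup.center G ∧ Odd (orderOf g)}
      one_mem' := ⟨one_mem _, by simp⟩
      mul_mem' := fun {u v} hu hv => ⟨mul_mem hu.1 hv.1, by
        have hc : Commute u v := Subgroup.mem_center_iff.1 hv.1 u
        exact Odd.of_dvd_nat (hu.2.mul hv.2) hc.orderOf_mul_dvd_mul_orderOf⟩
      inv_mem' := fun {u} hu => ⟨inv_mem hu.1, by rw [orderOf_inv]; exact hu.2⟩ }
  have hAodd : Odd (Nat.card A) := by
    by_contra h
    rw [Nat.not_odd_iff_even, even_iff_two_dvd] at h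
    obtain ⟨a, ha⟩ := exists_prime_orderOf_dvd_card' (G := A) 2 h
    have := a.2.2
    rw [Subgroup.orderOf_coe, ha] at this
    exact absurd this (by decide)
  have hAab : IsMulCommutative A :=
    ⟨⟨fun a b => Subtype.ext (Subgroup.mem_center_iff.1 b.2.1 a)⟩⟩
  have hPA : P ⊔ A = ⊤ := by
    refine eq_top_of_forall_sylow_le _ fun q hq S => ?_
    by_cases hq2 : q = 2
    · subst hq2
      exact (hPmax _ S.isPGroup').trans le_sup_left
    · intro x hx
      obtain ⟨k, hk⟩ := IsPGroup.iff_orderOf.1 S.isPGroup' ⟨x, hx⟩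
      rw [Subgroup.orderOf_mk] at hk
      refine le_sup_right (a := P) (b := A) ⟨hodd q hq2 S hx, ?_⟩
      rw [hk]
      exact (hq.out.odd_of_ne_two hq2).pow
  have hPinfA : P ⊓ A = ⊥ := by
    refine (Subgroup.eq_bot_iff_forall _).2 fun g hg => ?_
    obtain ⟨k, hk⟩ := IsPGroup.iff_orderOf.1 hP ⟨g, hg.1⟩
    rw [Subgroup.orderOf_mk] at hk
    have h2 := hg.2.2
    rw [hk] at h2
    rcases k with _ | k
    · exact orderOf_eq_one_iff.1 (by rw [hk, pow_zero])
    · exact absurd h2 (Nat.not_odd_iff_even.2 (by simp [Nat.even_pow]))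
  -- two non-commuting elements of `P`
  obtain ⟨u, hu, v, hv, huv⟩ : ∃ u ∈ P, ∃ v ∈ P, ¬ Commute u v := by
    by_contra! h
    have key : ∀ g : G, ∀ x ∈ P, Commute x g := by
      intro g x hx
      have hg : g ∈ P ⊔ A := hPA ▸ Subgroup.mem_top g
      obtain ⟨a, ha, b, hb, rfl⟩ := Subgroup.mem_sup_of_normal_left.1 hg
      exact (h x hx a ha).mul_right (Subgroup.mem_center_iff.1 hb.1 x)
    apply hna
    refine ⟨⟨fun g g' => ?_⟩⟩
    have hg : g ∈ P ⊔ A := hPA ▸ Subgroup.mem_top g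
    obtain ⟨a, ha, b, hb, rfl⟩ := Subgroup.mem_sup_of_normal_left.1 hg
    exact ((key g' a ha).mul_left (Subgroup.mem_center_iff.1 hb.1 g').symm).eq
  obtain ⟨i, hi⟩ := IsPGroup.iff_orderOf.1 hP ⟨u, hu⟩
  obtain ⟨j, hj⟩ := IsPGroup.iff_orderOf.1 hP ⟨v, hv⟩
  rw [Subgroup.orderOf_mk] at hi hj
  obtain ⟨-, x, y, hx, hy, hyy, hyx⟩ :=
    CfsgLib.Hamiltonian.quaternion_of_not_commute hn Nat.prime_two ⟨i, hi⟩ ⟨j, hj⟩ huv
  clear i j hi hj hu hv huv u v
  have hxP : x ∈ P := hPmax (Subgroup.zpowers x)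
    (IsPGroup.of_card (n := 2) (by rw [Nat.card_zpowers, hx]; rfl)) (Subgroup.mem_zpowers x)
  have hyP : y ∈ P := hPmax (Subgroup.zpowers y)
    (IsPGroup.of_card (n := 2) (by rw [Nat.card_zpowers, hy]; rfl)) (Subgroup.mem_zpowers y)
  obtain ⟨f, hf, hxQ, hyQ⟩ := exists_q8 hx hyy hyx
  set Q := f.range with hQdef
  have hQP : Q ≤ P := hPmax Q ((IsPGroup.of_card (p := 2) (n := 3)
    (by rw [Nat.card_eq_fintype_card, QuaternionGroup.card]; rfl)).of_surjective
      f.rangeRestrict f.rangeRestrict_surjective)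
  set c := x * x with hc
  have hc1 : c ≠ 1 := fun h => by
    have := orderOf_le_of_pow_eq_one two_pos (by rwa [pow_two] : x ^ 2 = 1)
    omega
  have hc2 : c * c = 1 := by
    have := pow_orderOf_eq_one x
    rw [hx] at this
    simpa [hc, pow_succ, mul_assoc] using this
  -- the centraliser of the quaternion subgroup
  set C := P ⊓ Subgroup.centralizer ({x, y} : Set G) with hC
  have hCx : ∀ w ∈ C, Commute x w := fun w hw => Subgroup.mem_centralizer_iff.1 hw.2 x (by simp)
  have hCy : ∀ w ∈ C, Commute y w := fun w hw => Subgroup.mem_centralizer_iff.1 hw.2 y (by simp)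
  have hC4 : ∀ w ∈ C, w ^ 4 = 1 → w * w = 1 := by
    intro w hw hw4
    have hmem := CfsgLib.Hamiltonian.commutator_mem_left hn (x * w) y
    have e : x * w * y * (x * w)⁻¹ * y⁻¹ = c := by
      rw [mul_assoc x w y, ← (hCy w hw).eq, mul_inv_rev,
        show x * (y * w) * (w⁻¹ * x⁻¹) * y⁻¹ = x * (y * x⁻¹ * y⁻¹) by group,
        show y * x⁻¹ * y⁻¹ = (y * x * y⁻¹)⁻¹ by group, hyx, inv_inv]
    rw [e] at hmem
    obtain ⟨k, hk⟩ := (mem_powers_iff_mem_zpowers.2 hmem :)
    change (x * w) ^ k = c at hk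
    have h4 : (x * w) ^ 4 = 1 := by
      rw [(hCx w hw).mul_pow, hw4, mul_one, ← hx, pow_orderOf_eq_one]
    have hsq : (x * w) ^ 2 = c * (w * w) := by rw [(hCx w hw).mul_pow, pow_two, pow_two]
    rw [pow_eq_pow_mod _ h4] at hk
    have hlt := Nat.mod_lt k (show 4 > 0 by norm_num)
    have hnc : ¬ Commute (x * w) y := by
      intro h
      apply hc1
      rw [← e, h.eq]
      group
    have hcy : Commute c y := by rw [hyy]; exact (Commute.refl y).mul_left (Commute.refl y)
    interval_cases hm : k % 4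
    · exact absurd hk (by rw [pow_zero]; exact Ne.symm hc1)
    · rw [pow_one] at hk
      exact absurd (hk ▸ hcy) hnc
    · rw [hsq] at hk
      exact mul_eq_left.1 hk
    · have : (x * w)⁻¹ = c := by
        rw [← hk]; exact inv_eq_of_mul_eq_one_right (by rw [← pow_succ']; exact h4)
      rw [← this] at hcy
      exact absurd (Commute.inv_left_iff.1 hcy) hnc
  have hC2 : ∀ w ∈ C, w * w = 1 := by
    intro w hw
    obtain ⟨k, hk⟩ := IsPGroup.iff_orderOf.1 hP ⟨w, hw.1⟩
    rw [Subgroup.orderOf_mk] at hk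
    rcases k with _ | _ | k
    · rw [pow_zero, orderOf_eq_one_iff] at hk
      rw [hk, mul_one]
    · rw [← pow_two, show 2 = orderOf w by rw [hk]; norm_num, pow_orderOf_eq_one]
    · exfalso
      have h := hC4 _ (pow_mem hw (2 ^ k)) (by
        rw [← pow_mul, show 2 ^ k * 4 = orderOf w by rw [hk]; ring, pow_orderOf_eq_one])
      rw [← pow_add] at h
      have h' := Nat.le_of_dvd (by have := Nat.two_pow_pos k; omega) (orderOf_dvd_of_pow_eq_one h)
      rw [hk, pow_succ, pow_succ] at h'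
      have := Nat.two_pow_pos k
      omega
  have hCab : ∀ a ∈ C, ∀ b ∈ C, a * b = b * a := fun a ha b hb => by
    have e : ∀ d ∈ C, d⁻¹ = d := fun d hd => inv_eq_of_mul_eq_one_right (hC2 d hd)
    calc a * b = (a * b)⁻¹ := (e _ (mul_mem ha hb)).symm
      _ = b * a := by rw [mul_inv_rev, e a ha, e b hb]
  -- a complement of the centre of the quaternion subgroup
  obtain ⟨E, ⟨hEC, hcE⟩, hEmax⟩ := Set.Finite.exists_maximal
    (Set.toFinite {E : Subgroup G | E ≤ C ∧ c ∉ E}) ⟨⊥, bot_le, fun h => hc1 (Subgroup.mem_bot.1 h)⟩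
  have hcC : C ≤ E ⊔ Subgroup.zpowers c := by
    intro w hw
    by_cases hwE : w ∈ E
    · exact le_sup_left (b := Subgroup.zpowers c) hwE
    have hcin : c ∈ E ⊔ Subgroup.zpowers w := by
      by_contra h
      exact hwE (hEmax ⟨sup_le hEC (Subgroup.zpowers_le.2 hw), h⟩ le_sup_left
        (le_sup_right (a := E) (Subgroup.mem_zpowers w)))
    have := hn E
    obtain ⟨e, he, d, hd, hed⟩ := Subgroup.mem_sup_of_normal_left.1 hcin
    obtain ⟨k, rfl⟩ := (mem_powers_iff_mem_zpowers.2 hd :)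
    change e * w ^ k = c at hed
    rcases Nat.even_or_odd k with ⟨l, rfl⟩ | ⟨l, rfl⟩
    · exfalso
      rw [← two_mul, pow_mul, pow_two, hC2 w hw, one_pow, mul_one] at hed
      exact hcE (hed ▸ he)
    · rw [pow_succ, pow_mul, pow_two, hC2 w hw, one_pow, one_mul] at hed
      have : w = e⁻¹ * c := by rw [← hed]; group
      rw [this]
      exact mul_mem (le_sup_left (b := Subgroup.zpowers c) (inv_mem he))
        (le_sup_right (a := E) (Subgroup.mem_zpowers c))
  have hEP : E ≤ P := hEC.trans inf_le_left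
  -- the centre of the quaternion subgroup meets `E` trivially
  have hQE : Q ⊓ E = ⊥ := by
    refine (Subgroup.eq_bot_iff_forall _).2 fun g hg => ?_
    obtain ⟨⟨q, hq⟩, hgE⟩ := hg
    obtain ⟨qx, hqx⟩ := hxQ
    obtain ⟨qy, hqy⟩ := hyQ
    have h1 : q * qx = qx * q := hf (by
      rw [map_mul, map_mul, hq, hqx]; exact (hCx g (hEC hgE)).eq.symm)
    have h2 : q * qy = qy * q := hf (by
      rw [map_mul, map_mul, hq, hqy]; exact (hCy g (hEC hgE)).eq.symm)
    have h3 : ¬ qx * qy = qy * qx := fun h => by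
      have := congrArg f h
      rw [map_mul, map_mul, hqx, hqy] at this
      apply hc1
      rw [hc]
      nth_rewrite 2 [← inv_inv x]
      rw [← hyx, ← this]
      group
    have hfin : ∀ q qx qy : QuaternionGroup 2, ¬ qx * qy = qy * qx → q * qx = qx * q →
        q * qy = qy * q → q = 1 ∨ q = qx * qx := by decide +kernel
    rcases hfin q qx qy h3 h1 h2 with h | h
    · rw [← hq, h, map_one]
    · exfalso
      apply hcE
      rw [hc, ← hqx, ← map_mul, ← h, hq]
      exact hgE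
  -- the quaternion subgroup together with `E` fills `P`
  have hPle : P ≤ Q ⊔ E := by
    intro g hg
    have hstep : ∀ z : G, orderOf z = 4 → g * z * g⁻¹ = z ∨ g * z * g⁻¹ = z⁻¹ := by
      intro z hz
      obtain ⟨k, hk⟩ := (mem_powers_iff_mem_zpowers.2
        ((hn (Subgroup.zpowers z)).conj_mem z (Subgroup.mem_zpowers z) g) :)
      change z ^ k = g * z * g⁻¹ at hk
      have hz4 : z ^ 4 = 1 := hz ▸ pow_orderOf_eq_one z
      rw [pow_eq_pow_mod _ hz4] at hk
      have hlt := Nat.mod_lt k (show 4 > 0 by norm_num)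
      interval_cases hm : k % 4
      · exfalso
        rw [pow_zero] at hk
        have : z = 1 := conj_eq_one_iff.1 hk.symm
        rw [this, orderOf_one] at hz
        omega
      · exact Or.inl (by rw [← hk, pow_one])
      · exfalso
        have h : (g * z * g⁻¹) ^ 2 = 1 := by rw [← hk, ← pow_mul]; exact hz4
        rw [conj_pow, conj_eq_one_iff] at h
        have := orderOf_le_of_pow_eq_one two_pos h
        omega
      · refine Or.inr ?_
        rw [← hk]
        exact (inv_eq_of_mul_eq_one_right (by rw [← pow_succ']; exact hz4)).symm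
    have hxy' : x * y * x⁻¹ = y⁻¹ := by
      have h3 : y * x⁻¹ * y⁻¹ = x := by
        rw [show y * x⁻¹ * y⁻¹ = (y * x * y⁻¹)⁻¹ by group, hyx, inv_inv]
      have h4 : y * x⁻¹ = x * y := by
        nth_rewrite 2 [← h3]
        group
      calc x * y * x⁻¹ = y * (x⁻¹ * x⁻¹) := by rw [← h4]; group
        _ = y * (x * x)⁻¹ := by group
        _ = y⁻¹ := by rw [show x * x = y * y from hyy]; group
    obtain ⟨q, hqQ, hqx, hqy⟩ : ∃ q ∈ Q, g * x * g⁻¹ = q * x * q⁻¹ ∧ g * y * g⁻¹ = q * y * q⁻¹ := by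
      rcases hstep x hx with h1 | h1 <;> rcases hstep y hy with h2 | h2
      · exact ⟨1, one_mem _, by simp [h1], by simp [h2]⟩
      · exact ⟨x, hxQ, by simp [h1], by rw [h2, hxy']⟩
      · exact ⟨y, hyQ, by rw [h1, hyx], by simp [h2]⟩
      · refine ⟨x * y, mul_mem hxQ hyQ, ?_, ?_⟩
        · rw [h1, show x * y * x * (x * y)⁻¹ = x * (y * x * y⁻¹) * x⁻¹ by group, hyx]; group
        · rw [h2, show x * y * y * (x * y)⁻¹ = x * y * x⁻¹ by group, hxy']
    have hmem : q⁻¹ * g ∈ C := by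
      refine ⟨P.mul_mem (P.inv_mem (hQP hqQ)) hg, Subgroup.mem_centralizer_iff.2 ?_⟩
      intro z hz
      have key : g * z * g⁻¹ = q * z * q⁻¹ := by
        rcases hz with rfl | hz
        · exact hqx
        · rw [Set.mem_singleton_iff.1 hz]; exact hqy
      calc z * (q⁻¹ * g) = q⁻¹ * (q * z * q⁻¹) * g := by group
        _ = q⁻¹ * g * z := by rw [← key]; group
    have hcQ : c ∈ Q := mul_mem hxQ hxQ
    have hCQ : C ≤ Q ⊔ E :=
      hcC.trans (sup_le le_sup_right ((Subgroup.zpowers_le.2 hcQ).trans le_sup_left))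
    have := mul_mem (le_sup_left (b := E) hqQ) (hCQ hmem)
    rwa [mul_inv_cancel_left] at this
  refine ⟨Q, E, A, ⟨(MonoidHom.ofInjective hf).symm⟩, ⟨⟨⟨fun a b =>
    Subtype.ext (hCab a (hEC a.2) b (hEC b.2))⟩⟩, fun a ha => by rw [pow_two]; exact hC2 a (hEC ha)⟩,
    hAab, hAodd, ?_, ?_, ?_⟩
  · rw [eq_bot_iff, ← hPinfA]
    exact inf_le_inf_right A hEP
  · refine (Subgroup.eq_bot_iff_forall _).2 fun g hg => ?_
    obtain ⟨hgQ, hgEA⟩ := hg
    have := hn E
    obtain ⟨e, he, a, ha, rfl⟩ := Subgroup.mem_sup_of_normal_left.1 hgEA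
    have haP : a ∈ P ⊓ A := ⟨by
      have := mul_mem (inv_mem (hEP he)) (hQP hgQ)
      rwa [inv_mul_cancel_left] at this, ha⟩
    rw [hPinfA, Subgroup.mem_bot] at haP
    subst haP
    rw [mul_one] at hgQ ⊢
    have : e ∈ Q ⊓ E := ⟨hgQ, he⟩
    rwa [hQE, Subgroup.mem_bot] at this
  · rw [eq_top_iff, ← hPA, ← sup_assoc]
    exact sup_le_sup_right hPle A

end Cfsg.Agent.S4211
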