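import Cfsg.Statements.S4213
import Mathlib
import Cfsg.Agent.FgsSix.Frobenius
import Cfsg.Agent.Solvable.Basic

set_option autoImplicit false
open Cfsg
open scoped commutatorElement

/-!
In a solvable group exactly `n` solutions of `x ^ n = 1`, for `n` dividing the order, form a
normal subgroup.
-/

namespace Cfsg.Agent.S4213

theorem exists_elementary {G : Type*} [Group G] [Finite G] [Group.IsSolvable G] [Nontrivial G] :
    ∃ (N : Subgroup G) (p a : ℕ), N.Normal ∧ p.Prime ∧ 0 < a ∧ Nat.card N = p ^ a ∧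
      ∀ x ∈ N, x ^ p = 1 := by
  obtain ⟨N, hN, hne, hmin⟩ := CfsgLib.Solvable.exists_minimal_normal (G := G)
  have hab := CfsgLib.Solvable.commutator_eq_bot_of_minimal_normal hne hmin
  have hcomm : ∀ x ∈ N, ∀ y ∈ N, Commute x y := by
    intro x hx y hy
    rw [← commutatorElement_eq_one_iff_commute, ← Subgroup.mem_bot, ← hab]
    exact Subgroup.commutator_mem_commutator hx hy
  obtain ⟨p, hp, hpd⟩ := Nat.exists_prime_and_dvd (n := Nat.card N)
    (fun h => hne (Subgroup.eq_bot_of_card_eq N h))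
  have := Fact.mk hp
  let E : Subgroup G :=
    { carrier := {x | x ∈ N ∧ x ^ p = 1}
      one_mem' := ⟨N.one_mem, one_pow _⟩
      mul_mem' := fun {x y} hx hy => ⟨N.mul_mem hx.1 hy.1,
        by rw [(hcomm x hx.1 y hy.1).mul_pow, hx.2, hy.2, one_mul]⟩
      inv_mem' := fun {x} hx => ⟨N.inv_mem hx.1, by rw [inv_pow, hx.2, inv_one]⟩ }
  have hEn : E.Normal := ⟨fun x hx g => ⟨hN.conj_mem x hx.1 g, by rw [conj_pow, hx.2]; group⟩⟩
  have hEne : E ≠ ⊥ := by
    intro h
    obtain ⟨x, hx⟩ := exists_prime_orderOf_dvd_card' (G := N) p hpd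
    have hmem : (x : G) ∈ E :=
      ⟨x.2, congrArg Subtype.val (show x ^ p = 1 by rw [← hx]; exact pow_orderOf_eq_one x)⟩
    rw [h, Subgroup.mem_bot] at hmem
    have : orderOf x = 1 := orderOf_eq_one_iff.2 (Subtype.ext hmem)
    exact hp.one_lt.ne' (hx ▸ this)
  have hEN : E = N := (hmin E hEn (fun x hx => hx.1)).resolve_left hEne
  have hexp : ∀ x ∈ N, x ^ p = 1 := fun x hx => (hEN ▸ hx : x ∈ E).2
  have hpN : IsPGroup p N := fun x => ⟨1, Subtype.ext (by simpa using hexp x x.2)⟩
  obtain ⟨a, ha⟩ := IsPGroup.iff_card.1 hpN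
  refine ⟨N, p, a, hN, hp, Nat.pos_of_ne_zero ?_, ha, hexp⟩
  rintro rfl
  exact hne (Subgroup.eq_bot_of_card_eq N (by simpa using ha))

theorem aux {G : Type*} [Group G] [Finite G] [Group.IsSolvable G] (n : ℕ) (hn : n ∣ Nat.card G)
    (hcount : Nat.card {x : G // x ^ n = 1} = n) :
    ∃ H : Subgroup G, (H : Set G) = {x : G | x ^ n = 1} := by
  induction hg : Nat.card G using Nat.strong_induction_on generalizing G n with
  | _ g ih =>
  subst hg
  rcases subsingleton_or_nontrivial G with _ | _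
  · exact ⟨⊤, Set.ext fun x => by simp [Subsingleton.elim x 1]⟩
  obtain ⟨N, p, a, hN, hp, ha, hcard, hexp⟩ := exists_elementary (G := G)
  have := Fact.mk hp
  set Q := G ⧸ N
  have hQ : Nat.card G = Nat.card Q * p ^ a := by
    rw [← hcard]; exact Subgroup.card_eq_card_quotient_mul_card_subgroup N
  have hpa : 1 < p ^ a := Nat.one_lt_pow ha.ne' hp.one_lt
  have hQlt : Nat.card Q < Nat.card G := hQ ▸ lt_mul_of_one_lt_right Nat.card_pos hpa
  have hn0 : 0 < n := Nat.pos_of_dvd_of_pos hn Nat.card_pos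
  -- preimages of solutions in the quotient
  have lift : ∀ q : ℕ, p * q ∣ n → Nat.card {y : Q // y ^ q = 1} * p ^ a ≤ n := by
    intro q hq
    have hmem : ∀ z : {y : Q // y ^ q = 1} × N, (z.1.1.out * (z.2 : G)) ^ n = 1 := by
      intro z
      have h1 : (((z.1.1.out * (z.2 : G)) : G) : Q) = z.1.1 := by
        rw [QuotientGroup.mk_mul_of_mem _ z.2.2, QuotientGroup.out_eq']
      have h2 : (z.1.1.out * (z.2 : G)) ^ q ∈ N := by
        rw [← QuotientGroup.eq_one_iff, QuotientGroup.mk_pow, h1, z.1.2]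
      obtain ⟨k, hk⟩ := hq
      rw [hk, mul_comm p q, pow_mul, pow_mul, hexp _ h2, one_pow]
    rw [← hcard, ← Nat.card_prod]
    refine le_of_le_of_eq (Nat.card_le_card_of_injective
      (fun z => (⟨z.1.1.out * (z.2 : G), hmem z⟩ : {x : G // x ^ n = 1})) ?_) hcount
    · rintro ⟨⟨y, hy⟩, m⟩ ⟨⟨y', hy'⟩, m'⟩ h
      have h' : y.out * (m : G) = y'.out * (m' : G) := congrArg Subtype.val h
      have hyy : y = y' := by
        have := congrArg (fun x : G => (x : Q)) h'
        simpa [QuotientGroup.mk_mul_of_mem _ m.2, QuotientGroup.mk_mul_of_mem _ m'.2] using this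
      subst hyy
      exact Prod.ext rfl (Subtype.ext (mul_left_cancel h'))
  have hdvd : ∀ q : ℕ, q ∣ Nat.card Q → ∃ k, Nat.card {y : Q // y ^ q = 1} = q * k ∧ 0 < k := by
    intro q hq
    obtain ⟨k, hk⟩ := CfsgLib.FgsSix.dvd_card_pow_eq_one (G := Q) q hq
    refine ⟨k, hk, Nat.pos_of_ne_zero ?_⟩
    rintro rfl
    have : 0 < Nat.card {y : Q // y ^ q = 1} := by
      have : Nonempty {y : Q // y ^ q = 1} := ⟨⟨1, one_pow _⟩⟩
      exact Nat.card_pos
    rw [mul_zero] at hk
    have hk' : Nat.card {y : Q // y ^ q = 1} = 0 := hk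
    omega
  by_cases hpn : p ∣ n
  · -- `N` consists of solutions
    have hpan : p ^ a ∣ n := by
      obtain ⟨b, m, hpm, rfl⟩ := Nat.exists_eq_pow_mul_and_not_dvd hn0.ne' p hp.ne_one
      by_contra hno
      have hab : b < a := by
        by_contra hle
        exact hno (dvd_mul_of_dvd_left (pow_dvd_pow p (not_lt.1 hle)) m)
      have hmQ : m ∣ Nat.card Q := by
        have h1 : m ∣ Nat.card Q * p ^ a := hQ ▸ (dvd_mul_left m _).trans hn
        exact (Nat.Coprime.pow_right a ((hp.coprime_iff_not_dvd.2 hpm).symm)).dvd_of_dvd_mul_right h1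
      have hb : 0 < b := Nat.pos_of_ne_zero fun h => hpm (by simpa [h] using hpn)
      obtain ⟨k, hk, hk0⟩ := hdvd m hmQ
      have := lift m (Nat.mul_dvd_mul_right (dvd_pow_self p hb.ne') m)
      rw [hk] at this
      have h2 : p ^ b < p ^ a := Nat.pow_lt_pow_right hp.one_lt hab
      have hm : 0 < m := Nat.pos_of_ne_zero fun h => hpm (h ▸ dvd_zero p)
      nlinarith [Nat.mul_le_mul_left (p ^ a * m) hk0]
    obtain ⟨q, rfl⟩ := hpan
    have hqQ : q ∣ Nat.card Q := by
      rw [hQ, mul_comm (Nat.card Q)] at hn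
      exact Nat.dvd_of_mul_dvd_mul_left (by omega) hn
    have hpq : p * q ∣ p ^ a * q := Nat.mul_dvd_mul_right (dvd_pow_self p ha.ne') q
    obtain ⟨k, hk, hk0⟩ := hdvd q hqQ
    have hle := lift q hpq
    have hk1 : k = 1 := by
      rw [hk] at hle
      have hq0 : 0 < q := Nat.pos_of_dvd_of_pos hqQ Nat.card_pos
      have h3 : (p ^ a * q) * k ≤ (p ^ a * q) * 1 := by rw [mul_one]; exact le_trans (le_of_eq (by ring)) hle
      have := Nat.le_of_mul_le_mul_left h3 (Nat.mul_pos (by omega) hq0)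
      omega
    rw [hk1, mul_one] at hk
    obtain ⟨B, hB⟩ := ih _ hQlt q hqQ (G := Q) hk rfl
    refine ⟨B.comap (QuotientGroup.mk' N), ?_⟩
    have hsub : (B.comap (QuotientGroup.mk' N) : Set G) ⊆ {x : G | x ^ (p ^ a * q) = 1} := by
      intro x hx
      have hx' : (x : Q) ∈ (B : Set Q) := hx
      rw [hB] at hx'
      have h2 : x ^ q ∈ N := by
        rw [← QuotientGroup.eq_one_iff, QuotientGroup.mk_pow]; exact hx'
      obtain ⟨k', hk'⟩ := hpq
      change x ^ (p ^ a * q) = 1
      rw [hk', mul_comm p q, pow_mul, pow_mul, hexp _ h2, one_pow]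
    refine Set.eq_of_subset_of_ncard_le hsub ?_ (Set.toFinite _)
    rw [← Nat.card_coe_set_eq, ← Nat.card_coe_set_eq, Set.coe_ofPred, hcount]
    have hBc : Nat.card B = q := by
      rw [← hk]
      exact Nat.card_congr (Equiv.subtypeEquivRight fun y => Set.ext_iff.1 hB y)
    have hle' : N ≤ B.comap (QuotientGroup.mk' N) := by
      intro x hx
      rw [Subgroup.mem_comap, QuotientGroup.mk'_apply, (QuotientGroup.eq_one_iff x).2 hx]
      exact B.one_mem
    have h1 := Subgroup.card_mul_index (B.comap (QuotientGroup.mk' N))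
    rw [Subgroup.index_comap_of_surjective _ (QuotientGroup.mk'_surjective N), hQ,
      ← Subgroup.card_mul_index B, hBc] at h1
    have hi : 0 < B.index := Nat.pos_of_ne_zero Subgroup.index_ne_zero_of_finite
    exact le_of_eq (Nat.eq_of_mul_eq_mul_right hi (h1.trans (by ring))).symm
  · -- `N` has order prime to `n`
    have hcop : n.Coprime (p ^ a) := Nat.Coprime.pow_right a (hp.coprime_iff_not_dvd.2 hpn).symm
    have hnQ : n ∣ Nat.card Q := hcop.dvd_of_dvd_mul_right (hQ ▸ hn)
    obtain ⟨e, he1, he0⟩ := Nat.chineseRemainder hcop 1 0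
    have hsurj : ∀ y : Q, y ^ n = 1 → ∃ x : G, x ^ n = 1 ∧ (x : Q) = y := by
      intro y hy
      obtain ⟨x, rfl⟩ := QuotientGroup.mk_surjective y
      refine ⟨x ^ e, ?_, ?_⟩
      · obtain ⟨k, hk⟩ := Nat.modEq_zero_iff_dvd.1 he0
        have h2 : x ^ n ∈ N := by rw [← QuotientGroup.eq_one_iff, QuotientGroup.mk_pow, hy]
        obtain ⟨a', rfl⟩ : ∃ a', a = a' + 1 := ⟨a - 1, by omega⟩
        rw [← pow_mul, mul_comm e n, pow_mul, hk, pow_mul, pow_succ', pow_mul, hexp _ h2,
          one_pow, one_pow]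
      · rw [QuotientGroup.mk_pow]
        conv_rhs => rw [← pow_one (x : Q)]
        exact pow_eq_pow_iff_modEq.2 (he1.of_dvd (orderOf_dvd_iff_pow_eq_one.2 hy))
    choose s hs hs' using hsurj
    have hQn : Nat.card {y : Q // y ^ n = 1} = n := by
      refine le_antisymm ?_ ?_
      · refine le_of_le_of_eq (Nat.card_le_card_of_injective
          (fun y => (⟨s y.1 y.2, hs y.1 y.2⟩ : {x : G // x ^ n = 1})) ?_) hcount
        intro y y' h
        have h' : s y.1 y.2 = s y'.1 y'.2 := congrArg Subtype.val h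
        exact Subtype.ext (by rw [← hs' y.1 y.2, h', hs' y'.1 y'.2])
      · obtain ⟨k, hk, hk0⟩ := hdvd n hnQ
        rw [hk]; exact Nat.le_mul_of_pos_right n hk0
    obtain ⟨B, hB⟩ := ih _ hQlt n hnQ (G := Q) hQn rfl
    set H : Subgroup G := B.comap (QuotientGroup.mk' N) with hH
    have hNH : N ≤ H := by
      intro x hx
      rw [hH, Subgroup.mem_comap, QuotientGroup.mk'_apply, (QuotientGroup.eq_one_iff x).2 hx]
      exact B.one_mem
    have hHc : Nat.card H = n * p ^ a := by
      have h1 := Subgroup.card_mul_index H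
      have hBc : Nat.card B = n := by
        refine Eq.trans ?_ hQn
        exact Nat.card_congr (Equiv.subtypeEquivRight fun y => Set.ext_iff.1 hB y)
      rw [hH, Subgroup.index_comap_of_surjective _ (QuotientGroup.mk'_surjective N), hQ,
        ← Subgroup.card_mul_index B, hBc, ← hH] at h1
      have hi : 0 < B.index := Nat.pos_of_ne_zero Subgroup.index_ne_zero_of_finite
      exact Nat.eq_of_mul_eq_mul_right hi (h1.trans (by ring))
    have hNc : Nat.card (N.subgroupOf H) = p ^ a :=
      (Nat.card_congr (Subgroup.subgroupOfEquivOfLe hNH).toEquiv).trans hcard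
    have hidx : (N.subgroupOf H).index = n := by
      have h1 := Subgroup.card_mul_index (N.subgroupOf H)
      rw [hNc, hHc, mul_comm n] at h1
      exact Nat.eq_of_mul_eq_mul_left (by omega) h1
    obtain ⟨K, hK⟩ := Subgroup.exists_right_complement'_of_coprime (N := N.subgroupOf H)
      (by rw [hNc, hidx]; exact hcop.symm)
    have hKc : Nat.card (K.map H.subtype) = n := by
      rw [Subgroup.card_map_of_injective (Subgroup.subtype_injective _)]
      have h1 := hK.card_mul
      rw [hNc, hHc, mul_comm n] at h1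
      exact Nat.eq_of_mul_eq_mul_left (by omega) h1
    refine ⟨K.map H.subtype, Set.eq_of_subset_of_ncard_le ?_ ?_ (Set.toFinite _)⟩
    · intro x hx
      have h1 : (⟨x, hx⟩ : K.map H.subtype) ^ n = 1 := by
        conv_lhs => rw [← hKc]
        exact pow_card_eq_one'
      exact congrArg Subtype.val h1
    · rw [← Nat.card_coe_set_eq, ← Nat.card_coe_set_eq, Set.coe_ofPred, hcount]
      exact hKc.ge

/-- In a solvable group exactly `n` solutions of `x ^ n = 1` (`n` dividing the order) form a normal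
subgroup. -/
theorem result {G : Type*} [Group G] [Finite G] [Group.IsSolvable G] (n : ℕ) (hn : n ∣ Nat.card G) (hcount : Nat.card {x : G // x ^ n = 1} = n) : ∃ H : Subgroup G, H.Normal ∧ (H : Set G) = {x : G | x ^ n = 1} := by
  obtain ⟨H, hH⟩ := aux n hn hcount
  refine ⟨H, ⟨fun x hx g => ?_⟩, hH⟩
  have h1 : x ^ n = 1 := (Set.ext_iff.1 hH x).1 hx
  refine (Set.ext_iff.1 hH _).2 ?_
  change (g * x * g⁻¹) ^ n = 1
  rw [conj_pow, h1]; group

end Cfsg.Agent.S4213
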