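import Cfsg.Statements.S4214
import Mathlib
import Cfsg.Agent.HallCount.Basic
import Cfsg.Agent.Solvable.Hall

set_option autoImplicit false
open Cfsg

namespace Cfsg.Agent.S4214

open CfsgLib.HallCount CfsgLib.Solvable Pointwise

/-- the condition on the factors -/
def Cond (G : Type*) [Group G] (m : ℕ) (x : ℕ) : Prop :=
  (∃ q e : ℕ, q.Prime ∧ x = q ^ e) ∧ (∃ K L : Subgroup G, K.Normal ∧ L.Normal ∧ K < L ∧ (∀ M : Subgroup G, M.Normal → K ≤ M → M ≤ L → M = K ∨ M = L) ∧ x ∣ K.relIndex L) ∧ (∃ q : ℕ, q.Prime ∧ q ∣ m ∧ x ≡ 1 [MOD q])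

theorem card_halls {G : Type*} [Group G] [Finite G] [Group.IsSolvable G] {m n : ℕ}
    (hG : Nat.card G = m * n) (hmn : m.Coprime n) {H : Subgroup G} (hH : Nat.card H = m) :
    Nat.card {K : Subgroup G // Nat.card K = m} = (Subgroup.normalizer (H : Set G)).index := by
  rw [Subgroup.index_eq_card]
  symm
  let N := Subgroup.normalizer (H : Set G)
  let f : G ⧸ N → {K : Subgroup G // Nat.card K = m} :=
    Quotient.lift (fun g => ⟨MulAut.conj g • H, (card_conj_smul g H).trans hH⟩) fun a b hab => by
      refine Subtype.ext ?_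
      have h : a⁻¹ * b ∈ N := QuotientGroup.leftRel_apply.1 hab
      have h2 := mem_normalizer_iff_conj_smul.1 h
      change MulAut.conj a • H = MulAut.conj b • H
      conv_lhs => rw [← h2]
      rw [smul_smul, ← map_mul, mul_inv_cancel_left]
  refine Nat.card_congr (Equiv.ofBijective f ⟨?_, ?_⟩)
  · intro x y hxy
    induction x using QuotientGroup.induction_on with | H a => ?_
    induction y using QuotientGroup.induction_on with | H b => ?_
    have h : MulAut.conj a • H = MulAut.conj b • H := congrArg Subtype.val hxy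
    refine QuotientGroup.eq.2 (mem_normalizer_iff_conj_smul.2 ?_)
    rw [map_mul, mul_smul, ← h, smul_smul, ← map_mul, inv_mul_cancel, map_one, one_smul]
  · rintro ⟨K, hK⟩
    obtain ⟨g, hg⟩ := exists_conj_eq_isPiHall ((isPiHall_primes_iff hG hmn).2 hH)
      ((isPiHall_primes_iff hG hmn).2 hK)
    exact ⟨(g : G ⧸ N), Subtype.ext hg⟩

theorem fac_halls.{u} : ∀ (N : ℕ) (G : Type u) [Group G] [Finite G] [Group.IsSolvable G] (m n : ℕ),
    Nat.card G = N → Nat.card G = m * n → m.Coprime n →
      Fac (Cond G m) (Nat.card {H : Subgroup G // Nat.card H = m}) := by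
  intro N
  induction N using Nat.strong_induction_on with
  | _ N ih => ?_
  intro G _ _ _ m n hN hG hmn
  classical
  obtain ⟨H, hH⟩ := exists_card_eq_of_coprime hG hmn
  rw [card_halls hG hmn hH]
  by_cases htriv : Subsingleton G
  · rw [Subgroup.index_eq_one.2 (Subsingleton.elim _ _)]
    exact fac_one _
  have : Nontrivial G := not_subsingleton_iff_nontrivial.1 htriv
  obtain ⟨M, hMn, hM0, hMmin⟩ := exists_minimal_normal (G := G)
  obtain ⟨q, hq, hMq⟩ := exists_isPGroup_of_minimal_normal hM0 hMmin
  have := Fact.mk hq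
  obtain ⟨a, ha⟩ := IsPGroup.iff_card.1 hMq
  have ha0 : a ≠ 0 := by
    rintro rfl
    exact hM0 (Subgroup.eq_bot_of_card_eq M (by simpa using ha))
  set π := QuotientGroup.mk' M with hπ
  have hπs : Function.Surjective π := QuotientGroup.mk'_surjective M
  have : Group.IsSolvable (G ⧸ M) := solvable_of_surjective hπs
  have hprod := Subgroup.card_eq_card_quotient_mul_card_subgroup M
  have hlt : Nat.card (G ⧸ M) < N := by
    rw [← hN, hprod, ha]
    exact lt_mul_of_one_lt_right Nat.card_pos (Nat.one_lt_pow ha0 hq.one_lt)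
  have hGpos : 0 < m * n := hG ▸ Nat.card_pos
  -- facts transferred from the quotient
  have hlift : ∀ m' : ℕ, m' ∣ m → ∀ x, Cond (G ⧸ M) m' x → Cond G m x := by
    rintro m' hm' x ⟨h1, ⟨K, L, hK, hL, hKL, hmin', hx⟩, r, hr, hrm, hmod⟩
    refine ⟨h1, ⟨K.comap π, L.comap π, hK.comap π, hL.comap π,
      (Subgroup.comap_lt_comap_of_surjective hπs).2 hKL, fun X hX hKX hXL => ?_, ?_⟩, r, hr,
      hrm.trans hm', hmod⟩
    · have hMX : π.ker ≤ X := by
        refine le_trans ?_ hKX
        intro g hg
        rw [Subgroup.mem_comap, MonoidHom.mem_ker.1 hg]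
        exact K.one_mem
      have hKX' : K ≤ X.map π := by
        rw [← Subgroup.map_comap_eq_self_of_surjective hπs K]
        exact Subgroup.map_mono hKX
      have hXL' : X.map π ≤ L := Subgroup.map_le_iff_le_comap.2 hXL
      rcases hmin' (X.map π) (hX.map π hπs) hKX' hXL' with h | h
      · left; rw [← h, Subgroup.comap_map_eq_self hMX]
      · right; rw [← h, Subgroup.comap_map_eq_self hMX]
    · rwa [Subgroup.relIndex_comap, Subgroup.map_comap_eq_self_of_surjective hπs]
  set N₁ := Subgroup.normalizer (((H ⊔ M : Subgroup G)) : Set G) with hN₁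
  have hnorm : ((Subgroup.normalizer ((H.map π : Subgroup (G ⧸ M)) : Set (G ⧸ M))).index) = N₁.index := by
    rw [← Subgroup.index_comap_of_surjective _ hπs, hN₁]
    congr 1
    ext g
    rw [Subgroup.mem_comap, Subgroup.mem_normalizer_iff, Subgroup.mem_normalizer_iff]
    have hmem : ∀ x, π x ∈ H.map π ↔ x ∈ H ⊔ M := fun x => by
      rw [← Subgroup.mem_comap, Subgroup.comap_map_eq, QuotientGroup.ker_mk']
    constructor
    · intro h x
      rw [← hmem, ← hmem, h, map_mul, map_mul, map_inv]
    · intro h x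
      obtain ⟨x, rfl⟩ := hπs x
      rw [← map_inv, ← map_mul, ← map_mul, hmem, hmem]
      exact h x
  by_cases hqm : q ∣ m
  · -- `M` lies in every subgroup of order `m`
    have hMH : M ≤ H := by
      obtain ⟨g, hg⟩ := exists_conj_le_of_card_coprime hG hmn hH (U := M) (by
        rw [ha]
        exact Nat.Coprime.pow_left a (hq.coprime_iff_not_dvd.2 fun hqn =>
          hq.ne_one (Nat.eq_one_of_dvd_coprimes hmn hqm hqn)))
      rwa [Subgroup.Normal.conj_smul_eq_self] at hg
    have hHM : H ⊔ M = H := sup_eq_left.2 hMH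
    rw [hHM] at hN₁
    have hcard : Nat.card (H.map π) * Nat.card M = m := by
      have h := card_comap_mk' M (H.map π)
      rw [comap_map_mk'_of_le hMH] at h
      rw [← hH, h, mul_comm]
    have hq' : Nat.card (G ⧸ M) = Nat.card (H.map π) * n := by
      apply Nat.eq_of_mul_eq_mul_right (Nat.card_pos (α := M))
      rw [← hprod, hG, ← hcard]; ring
    have hcop : (Nat.card (H.map π)).Coprime n :=
      Nat.Coprime.coprime_dvd_left ⟨_, hcard.symm⟩ hmn
    have := ih _ hlt (G ⧸ M) _ n rfl hq' hcop
    rw [card_halls hq' hcop rfl, hnorm, hN₁] at this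
    exact this.mono (hlift _ ⟨_, hcard.symm⟩)
  · -- `M` has order prime to `m`
    have hcopM : (Nat.card H).Coprime (Nat.card M) := by
      rw [hH, ha]
      exact Nat.Coprime.pow_right a (Nat.Coprime.symm (hq.coprime_iff_not_dvd.2 hqm))
    have hdis : Disjoint H M := Subgroup.disjoint_of_coprime_natCard hcopM
    have hcard : Nat.card (H.map π) = m := (card_map_mk'_of_disjoint M H hdis).trans hH
    have hMn' : Nat.card M ∣ n := by
      refine Nat.Coprime.dvd_of_dvd_mul_left ?_ (hG ▸ M.card_subgroup_dvd_card)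
      rw [← hH]; exact hcopM.symm
    obtain ⟨n', hn'⟩ := hMn'
    have hq' : Nat.card (G ⧸ M) = m * n' := by
      apply Nat.eq_of_mul_eq_mul_right (Nat.card_pos (α := M))
      rw [← hprod, hG, hn']; ring
    have hcop : m.Coprime n' := Nat.Coprime.coprime_dvd_right ⟨_, (hn'.trans (mul_comm _ _))⟩ hmn
    have h1 := ih _ hlt (G ⧸ M) m n' rfl hq' hcop
    rw [card_halls hq' hcop hcard, hnorm] at h1
    -- the normaliser of `H M`
    set N₂ := Subgroup.normalizer (H : Set G) with hN₂
    have hle : N₂ ≤ N₁ := by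
      intro g hg
      rw [hN₁, mem_normalizer_iff_conj_smul, Subgroup.smul_sup, mem_normalizer_iff_conj_smul.1 hg,
        Subgroup.Normal.conj_smul_eq_self]
    have heq : N₁ = N₂ ⊔ M := by
      refine le_antisymm ?_ (sup_le hle ?_)
      · intro g hg
        set K := H ⊔ M with hK
        have hgH : MulAut.conj g • H ≤ K := by
          refine le_trans ?_ (le_of_eq (mem_normalizer_iff_conj_smul.1 hg))
          exact Subgroup.pointwise_smul_le_pointwise_smul_iff.2 le_sup_left
        have hMK : (M.subgroupOf K).Normal := inferInstance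
        have hcK : Nat.card (M.subgroupOf K) = Nat.card M :=
          Nat.card_congr (Subgroup.subgroupOfEquivOfLe (le_sup_right : M ≤ K)).toEquiv
        have hKcard : Nat.card K = Nat.card M * m := by
          rw [hK, card_sup_of_disjoint M H hdis, hH, mul_comm]
        have hidx : (M.subgroupOf K).index = m := by
          have h := (M.subgroupOf K).card_mul_index
          rw [hcK, hKcard] at h
          exact Nat.eq_of_mul_eq_mul_left Nat.card_pos h
        obtain ⟨k, hkM, hk⟩ := exists_conj_eq_of_card (N := M.subgroupOf K) (H := H.subgroupOf K)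
          (K := (MulAut.conj g • H).subgroupOf K)
          (by rw [hcK, hidx]; exact hH ▸ hcopM.symm)
          (by rw [Nat.card_congr (Subgroup.subgroupOfEquivOfLe (le_sup_left : H ≤ K)).toEquiv, hidx, hH])
          (by rw [Nat.card_congr (Subgroup.subgroupOfEquivOfLe hgH).toEquiv, hidx, card_conj_smul, hH])
          (Or.inl inferInstance)
        have hk' : MulAut.conj (k : G) • H = MulAut.conj g • H := by
          have h := congrArg (Subgroup.map K.subtype) hk
          rwa [map_subtype_conj_smul, Subgroup.map_subgroupOf_eq_of_le le_sup_left,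
            Subgroup.map_subgroupOf_eq_of_le hgH] at h
        have hkN : (k : G)⁻¹ * g ∈ N₂ := by
          rw [hN₂, mem_normalizer_iff_conj_smul, map_mul, mul_smul, ← hk', smul_smul, ← map_mul,
            inv_mul_cancel, map_one, one_smul]
        have hkmem : (k : G) ∈ N₂ ⊔ M := Subgroup.mem_sup_right hkM
        simpa using mul_mem hkmem (Subgroup.mem_sup_left (T := M) hkN)
      · intro g hg
        rw [hN₁]
        exact Subgroup.le_normalizer (Subgroup.mem_sup_right hg)
    have hrel : N₂.relIndex N₁ = N₂.relIndex M := by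
      have h1 : N₂.relIndex N₁ * Nat.card N₂ = Nat.card N₁ := by
        rw [← Subgroup.relIndex_bot_left N₂, mul_comm, Subgroup.relIndex_mul_relIndex ⊥ N₂ N₁ bot_le hle,
          Subgroup.relIndex_bot_left]
      have h2 : Nat.card M * M.relIndex N₂ = Nat.card N₁ := by
        rw [← Subgroup.relIndex_bot_left M, heq, ← Subgroup.relIndex_sup_right N₂ M,
          Subgroup.relIndex_mul_relIndex ⊥ M (N₂ ⊔ M) bot_le le_sup_right, Subgroup.relIndex_bot_left]
      have h3 : Nat.card (M ⊓ N₂ : Subgroup G) * M.relIndex N₂ = Nat.card N₂ := by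
        rw [← Subgroup.inf_relIndex_right M N₂, ← Subgroup.relIndex_bot_left (M ⊓ N₂),
          Subgroup.relIndex_mul_relIndex ⊥ (M ⊓ N₂) N₂ bot_le inf_le_right, Subgroup.relIndex_bot_left]
      have h4 : Nat.card (M ⊓ N₂ : Subgroup G) * N₂.relIndex M = Nat.card M := by
        rw [← Subgroup.inf_relIndex_left M N₂, ← Subgroup.relIndex_bot_left (M ⊓ N₂),
          Subgroup.relIndex_mul_relIndex ⊥ (M ⊓ N₂) M bot_le inf_le_left, Subgroup.relIndex_bot_left]
      apply Nat.eq_of_mul_eq_mul_right (Nat.card_pos (α := N₂))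
      rw [h1, ← h2, ← h4, ← h3]; ring
    have hMcent : M ⊓ N₂ = M ⊓ Subgroup.centralizer (H : Set G) := by
      refine le_antisymm (le_inf inf_le_left ?_) (inf_le_inf_left M ?_)
      · rintro g ⟨hgM, hgN⟩
        refine Subgroup.mem_centralizer_iff.2 fun h hh => ?_
        have h1 : h * g * h⁻¹ * g⁻¹ ∈ H ⊓ M := by
          refine ⟨?_, M.mul_mem (hMn.conj_mem g hgM h) (M.inv_mem hgM)⟩
          have := H.mul_mem hh ((Subgroup.mem_normalizer_iff.1 hgN h⁻¹).1 (H.inv_mem hh))
          simpa [mul_assoc] using this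
        rw [hdis.eq_bot, Subgroup.mem_bot] at h1
        have := mul_inv_eq_one.1 h1
        exact mul_inv_eq_iff_eq_mul.1 this
      · intro g hg
        rw [hN₂, Subgroup.mem_normalizer_iff]
        intro h
        constructor
        · intro hh
          rw [← Subgroup.mem_centralizer_iff.1 hg h hh, mul_inv_cancel_right]; exact hh
        · intro hh
          have h2 := Subgroup.mem_centralizer_iff.1 hg _ hh
          have : g * h * g⁻¹ = h := mul_left_cancel (a := g) (by rw [← h2]; group)
          rwa [this] at hh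
    have hidx : N₂.index = N₂.relIndex M * N₁.index := by
      rw [← hrel, Subgroup.relIndex_mul_index hle]
    rw [hidx, ← Subgroup.inf_relIndex_left M N₂, hMcent, Subgroup.inf_relIndex_left]
    have hqH : ¬ q ∣ Nat.card H := hH ▸ hqm
    refine Fac.mul (Fac.mono ?_ (fac_relIndex_centralizer hq hMq _ H rfl
      inferInstance (fun h _ => by rw [Subgroup.normalizer_eq_top_iff.2 hMn]; trivial) hqH))
      (h1.mono (hlift m dvd_rfl))
    rintro x ⟨⟨e, he⟩, hx, r, hr, hrH, hmod⟩
    exact ⟨⟨q, e, hq, he⟩, ⟨⊥, M, inferInstance, hMn, bot_lt_iff_ne_bot.2 hM0,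
      fun X hX _ hXM => hMmin X hX hXM, by rwa [Subgroup.relIndex_bot_left]⟩, r, hr, hH ▸ hrH, hmod⟩


/-- Let `G` be a finite solvable group of order `mn` with `gcd(m, n) = 1`. Then the number of subgroups of order `m` is a product of natural numbers each of which is a power of a prime, divides the order of some chief factor of `G` (a quotient `L/K` of normal subgroups `K < L` of `G` with no normal subgroup of `G` strictly between them), and is congruent to `1` modulo some prime divisor of `m`. -/
theorem result {G : Type*} [Group G] [Finite G] [Group.IsSolvable G] (m n : ℕ) (hG : Nat.card G = m * n) (hmn : Nat.Coprime m n) : ∃ (k : ℕ) (f : Fin k → ℕ), Nat.card {H : Subgroup G // Nat.card H = m} = ∏ i, f i ∧ ∀ i, (∃ q e : ℕ, q.Prime ∧ f i = q ^ e) ∧ (∃ K L : Subgroup G, K.Normal ∧ L.Normal ∧ K < L ∧ (∀ M : Subgroup G, M.Normal → K ≤ M → M ≤ L → M = K ∨ M = L) ∧ f i ∣ K.relIndex L) ∧ (∃ q : ℕ, q.Prime ∧ q ∣ m ∧ f i ≡ 1 [MOD q]) := by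
  obtain ⟨k, f, hf, hP⟩ := fac_halls _ G m n rfl hG hmn
  exact ⟨k, f, hf, hP⟩

end Cfsg.Agent.S4214
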