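import Cfsg.Statements.S4215
import Mathlib
import Cfsg.Agent.HallWielandt.Engel
import Cfsg.Agent.Transfer.Tate
import Cfsg.Agent.Transfer.Fusion

set_option autoImplicit false
open Cfsg

namespace Cfsg.Agent.S4215

open CfsgLib.HallWielandt CfsgLib.Transfer Pointwise commutatorElement in
/-- A weakly closed Engel subgroup controls the elementary residual. -/
theorem elemResidual_le {G : Type*} [Group G] [Finite G] {p : ℕ} [Fact p.Prime] (P : Sylow p G)
    (Q : Subgroup G) (hQ : Cfsg.IsWeaklyClosed Q (P : Subgroup G))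
    (h : ∀ u ∈ (P : Subgroup G), ∀ z ∈ Q, (fun y : G => y⁻¹ * z⁻¹ * y * z)^[p - 1] u = 1)
    (hPH : (P : Subgroup G) ≤ Subgroup.normalizer (Q : Set G)) :
    (P : Subgroup G) ⊓ elemResidual p G ≤
      (elemResidual p (Subgroup.normalizer (Q : Set G))).map
        (Subgroup.normalizer (Q : Set G)).subtype := by
  classical
  have hp : p.Prime := Fact.out
  set H := Subgroup.normalizer (Q : Set G) with hH
  set R := elemResidual p H with hR
  have hRn : R.Normal := ⟨fun n hn g => by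
    have e : g * n * g⁻¹ = ⁅g, n⁆ * n := by rw [commutatorElement_def]; group
    rw [e]
    exact mul_mem (Subgroup.mem_sup_left
      (Subgroup.commutator_mem_commutator (Subgroup.mem_top g) (Subgroup.mem_top n))) hn⟩
  let : CommGroup (H ⧸ R) :=
    { (inferInstance : Group (H ⧸ R)) with
      mul_comm := fun a b => by
        induction a using QuotientGroup.induction_on with | H a => ?_
        induction b using QuotientGroup.induction_on with | H b => ?_
        rw [← QuotientGroup.mk_mul, ← QuotientGroup.mk_mul, QuotientGroup.eq]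
        have e : (a * b)⁻¹ * (b * a) = ⁅b⁻¹, a⁻¹⁆ := by rw [commutatorElement_def]; group
        rw [e]
        exact Subgroup.mem_sup_left
          (Subgroup.commutator_mem_commutator (Subgroup.mem_top _) (Subgroup.mem_top _)) }
  let φ : H →* H ⧸ R := QuotientGroup.mk' R
  have hexp : ∀ a : H ⧸ R, a ^ p = 1 := by
    intro a
    obtain ⟨y, rfl⟩ := QuotientGroup.mk'_surjective R a
    rw [← map_pow]
    exact (QuotientGroup.eq_one_iff _).2 (Subgroup.mem_sup_right (Subgroup.subset_closure ⟨y, rfl⟩))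
  have : (elemResidual p G).Normal := ⟨fun n hn g => by
    have e : g * n * g⁻¹ = ⁅g, n⁆ * n := by rw [commutatorElement_def]; group
    rw [e]
    exact mul_mem (Subgroup.mem_sup_left
      (Subgroup.commutator_mem_commutator (Subgroup.mem_top g) (Subgroup.mem_top n))) hn⟩
  let Fc : G → H ⧸ R := fun g => if hg : g ∈ H then φ ⟨g, hg⟩ else 1
  have hFc : ∀ g (hg : g ∈ H), Fc g = φ ⟨g, hg⟩ := fun g hg => dif_pos hg
  -- conjugation inside `H` is invisible
  have hinv : ∀ g ∈ H, ∀ a ∈ H, Fc (a⁻¹ * g * a) = Fc g := by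
    intro g hg a ha
    rw [hFc _ (H.mul_mem (H.mul_mem (H.inv_mem ha) hg) ha), hFc g hg]
    rw [show (⟨a⁻¹ * g * a, _⟩ : H) = ⟨a, ha⟩⁻¹ * ⟨g, hg⟩ * ⟨a, ha⟩ from Subtype.ext rfl, map_mul, map_mul,
      map_inv, mul_right_comm, inv_mul_cancel, one_mul]
  suffices key : ∀ (n : ℕ) (y : G), orderOf y = n → (∃ k, orderOf y = p ^ k) → y ∈ H →
      y ∈ elemResidual p G → Fc y = 1 by
    rintro x ⟨hxP, hxE⟩
    obtain ⟨k, hk⟩ := IsPGroup.iff_orderOf.1 P.2 ⟨x, hxP⟩
    rw [Subgroup.orderOf_mk] at hk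
    have h1 := key _ x rfl ⟨k, hk⟩ (hPH hxP) hxE
    rw [hFc x (hPH hxP)] at h1
    exact ⟨⟨x, hPH hxP⟩, (QuotientGroup.eq_one_iff _).1 h1, rfl⟩
  intro n
  induction n using Nat.strong_induction_on with
  | _ n ih => ?_
  intro y₀ hn hpow₀ hy₀H hy₀E
  obtain ⟨k₀, hk₀⟩ := hpow₀
  -- move `y₀` into `P` inside `H`
  obtain ⟨y, hyP, hyord, hyE, hyF⟩ : ∃ y ∈ (P : Subgroup G), orderOf y = orderOf y₀ ∧
      y ∈ elemResidual p G ∧ Fc y = Fc y₀ := by
    have hz : IsPGroup p (Subgroup.zpowers (⟨y₀, hy₀H⟩ : H)) :=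
      IsPGroup.of_card (n := k₀) (by rw [Nat.card_zpowers, Subgroup.orderOf_mk, hk₀])
    obtain ⟨S, hS⟩ := hz.exists_le_sylow
    obtain ⟨a, ha⟩ := MulAction.exists_smul_eq H (P.subtype hPH) S
    have hmem : (⟨y₀, hy₀H⟩ : H) ∈ ((a • P.subtype hPH : Sylow p H) : Subgroup H) :=
      ha ▸ hS (Subgroup.mem_zpowers _)
    rw [Sylow.coe_subgroup_smul, Subgroup.mem_pointwise_smul_iff_inv_smul_mem] at hmem
    have hmem' : (a : G)⁻¹ * y₀ * a ∈ (P : Subgroup G) := by
      simpa [MulAut.smul_def, Subgroup.mem_subgroupOf] using hmem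
    refine ⟨(a : G)⁻¹ * y₀ * a, hmem', ?_, ?_, hinv y₀ hy₀H a a.2⟩
    · have := MulEquiv.orderOf_eq (MulAut.conj (a : G)⁻¹) y₀
      simpa [MulAut.conj_apply] using this
    · have := (inferInstance : (elemResidual p G).Normal).conj_mem y₀ hy₀E (a : G)⁻¹
      simpa using this
  rw [← hyF]
  by_cases hy1 : y = 1
  · rw [hy1, hFc 1 H.one_mem]
    exact map_one φ
  have : Fintype (G ⧸ H) := Fintype.ofFinite _
  have hV : MonoidHom.transfer φ y = 1 :=
    elemResidual_le_ker (MonoidHom.transfer φ) (fun a b => mul_comm a b) hexp hyE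
  rw [transfer_eq_prod_fixed φ (p := p) ⟨k₀, hyord.trans hk₀⟩ Fc hFc] at hV
  swap
  · intro t k hpk hk hy'
    rw [← hFc _ hy']
    have ho : orderOf (t⁻¹ * y ^ k * t) = orderOf y / k := by
      have := MulEquiv.orderOf_eq (MulAut.conj t⁻¹) (y ^ k)
      simp only [MulAut.conj_apply, inv_inv] at this
      rw [this, orderOf_pow, Nat.gcd_eq_right hk]
    have hk0 : 0 < k := Nat.pos_of_dvd_of_pos hk (orderOf_pos y)
    refine ih _ ?_ _ ho ?_ hy' ?_
    · rw [← hn, ← hyord]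
      exact Nat.div_lt_self (orderOf_pos y) (lt_of_lt_of_le hp.one_lt (Nat.le_of_dvd hk0 hpk))
    · obtain ⟨j, -, hj⟩ := (Nat.dvd_prime_pow hp).1
        ((hyord.trans hk₀) ▸ Nat.div_dvd_of_dvd hk : orderOf y / k ∣ p ^ k₀)
      exact ⟨j, ho.trans hj⟩
    · have := (inferInstance : (elemResidual p G).Normal).conj_mem _ (pow_mem hyE k) t⁻¹
      simpa using this
  -- the coset of `H` itself
  set F := Finset.univ.filter (fun c : G ⧸ H => y • c = c) with hF
  have hone : ((1 : G) : G ⧸ H) ∈ F := by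
    simp only [hF, Finset.mem_filter, Finset.mem_univ, true_and, MulAction.Quotient.smul_coe,
      QuotientGroup.eq, smul_eq_mul, mul_one]
    exact inv_mem (hPH hyP)
  rw [← Finset.mul_prod_erase F _ hone] at hV
  have hfirst : Fc (((1 : G) : G ⧸ H).out⁻¹ * y * ((1 : G) : G ⧸ H).out) = Fc y := by
    refine hinv y (hPH hyP) _ ?_
    have := QuotientGroup.out_eq' ((1 : G) : G ⧸ H)
    rw [QuotientGroup.eq, mul_one] at this
    exact inv_mem_iff.1 this
  suffices hrest : ∏ c ∈ F.erase ((1 : G) : G ⧸ H), Fc (c.out⁻¹ * y * c.out) = 1 by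
    rwa [hrest, hfirst, mul_one] at hV
  -- the other fixed cosets, orbit of `P` by orbit
  let orbP : G ⧸ H → Quotient (MulAction.orbitRel (P : Subgroup G) (G ⧸ H)) := Quotient.mk''
  have := Fintype.ofFinite (Quotient (MulAction.orbitRel (P : Subgroup G) (G ⧸ H)))
  rw [← Finset.prod_fiberwise_of_maps_to (g := orbP) (t := Finset.univ) (fun c _ => Finset.mem_univ _)]
  refine Finset.prod_eq_one fun O _ => ?_
  set S := (F.erase ((1 : G) : G ⧸ H)).filter fun c => orbP c = O with hS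
  rcases S.eq_empty_or_nonempty with he | ⟨c₀, hc₀⟩
  · rw [he, Finset.prod_empty]
  obtain ⟨hc₀', hO⟩ := Finset.mem_filter.1 hc₀
  obtain ⟨hc₀1, hc₀F⟩ := Finset.mem_erase.1 hc₀'
  set g := c₀.out with hg
  have hc₀eq : (g : G ⧸ H) = c₀ := QuotientGroup.out_eq' c₀
  -- the stabiliser in `P` of the coset
  set W := (P : Subgroup G) ⊓ H.map (MulAut.conj g).toMonoidHom with hW
  have hWmem : ∀ w, w ∈ W ↔ w ∈ (P : Subgroup G) ∧ g⁻¹ * w * g ∈ H := fun w => by
    rw [hW, Subgroup.mem_inf, mem_map_conj_iff]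
  have hfixW : ∀ u ∈ (P : Subgroup G), ∀ u' ∈ (P : Subgroup G),
      (((u * g : G) : G ⧸ H) = ((u' * g : G) : G ⧸ H) ↔ u⁻¹ * u' ∈ W) := by
    intro u hu u' hu'
    rw [QuotientGroup.eq, hWmem]
    simp only [mul_inv_rev, mul_assoc]
    exact ⟨fun h => ⟨mul_mem (inv_mem hu) hu', h⟩, fun h => h.2⟩
  have hQW : ¬ Q ≤ W := by
    intro hle
    apply hc₀1
    have hQg : Q ≤ H.map (MulAut.conj g).toMonoidHom := hle.trans inf_le_right
    set Q' := Q.map (MulAut.conj g).toMonoidHom with hQ'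
    have hQQ : Q ≤ Subgroup.normalizer (Q' : Set G) := by
      intro q hq
      have h1 := mem_map_conj_iff.1 (hQg hq)
      refine mem_normalizer_of_map_conj_eq ?_
      rw [hQ', map_conj_map_conj]
      have h2 := map_conj_eq_of_mem_normalizer h1
      conv_rhs => rw [← h2, map_conj_map_conj]
      rw [show g * (g⁻¹ * q * g) = q * g by group]
    have hQp : IsPGroup p Q := P.2.to_le hQ.1
    have hsup : IsPGroup p (Q' ⊔ Q : Subgroup G) :=
      (hQp.map _).to_sup_of_normal_left' hQp hQQ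
    obtain ⟨T, hT⟩ := hsup.exists_le_sylow
    obtain ⟨s, hs⟩ := MulAction.exists_smul_eq G T P
    have hTP : ∀ t ∈ (T : Subgroup G), s * t * s⁻¹ ∈ (P : Subgroup G) := fun t ht => by
      rw [← hs, Sylow.coe_subgroup_smul]
      exact ⟨t, ht, rfl⟩
    have e1 : Q.map (MulAut.conj s).toMonoidHom = Q := hQ.2 s (by
      rintro _ ⟨q, hq, rfl⟩
      exact hTP q (hT (Subgroup.mem_sup_right hq)))
    have e2 : Q.map (MulAut.conj (s * g)).toMonoidHom = Q := hQ.2 _ (by
      rintro _ ⟨q, hq, rfl⟩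
      have hq' : g * q * g⁻¹ ∈ Q' := ⟨q, hq, rfl⟩
      have := hTP _ (hT (Subgroup.mem_sup_left hq'))
      simpa [mul_assoc] using this)
    have hgH : g ∈ H := by
      have := H.mul_mem (H.inv_mem (mem_normalizer_of_map_conj_eq e1)) (mem_normalizer_of_map_conj_eq e2)
      rwa [inv_mul_cancel_left] at this
    rw [← hc₀eq, QuotientGroup.eq, mul_one]
    exact H.inv_mem hgH
  obtain ⟨z, hzQ, hzW, hzN, hzp⟩ := exists_step P.2 inf_le_left hQ.1 hPH hQW
  have hzP := hQ.1 hzQ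
  have hzconj : ∀ w ∈ W, z⁻¹ * w * z ∈ W := fun w hw =>
    (Subgroup.mem_normalizer_iff''.1 hzN w).1 hw
  let ψ : W →* H ⧸ R := MonoidHom.mk' (fun w => φ ⟨g⁻¹ * w * g, ((hWmem w).1 w.2).2⟩) fun a b => by
    rw [← map_mul]
    exact congrArg φ (Subtype.ext (by push_cast; group))
  -- contributions
  have hval : ∀ u ∈ (P : Subgroup G), y • ((u * g : G) : G ⧸ H) = ((u * g : G) : G ⧸ H) →
      u⁻¹ * y * u ∈ W ∧
      Fc (((u * g : G) : G ⧸ H).out⁻¹ * y * ((u * g : G) : G ⧸ H).out) = Fc (g⁻¹ * (u⁻¹ * y * u) * g) := by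
    intro u hu hfix
    rw [MulAction.Quotient.smul_coe, smul_eq_mul, QuotientGroup.eq] at hfix
    have h1 : g⁻¹ * (u⁻¹ * y * u) * g ∈ H := by
      have := H.inv_mem hfix
      simpa [mul_assoc] using this
    refine ⟨(hWmem _).2 ⟨mul_mem (mul_mem (inv_mem hu) hyP) hu, h1⟩, ?_⟩
    obtain ⟨a, ha⟩ := QuotientGroup.mk_out_eq_mul H (u * g)
    rw [ha]
    rw [← hinv _ h1 a a.2]
    congr 1
    group
  let W' := W ⊔ Subgroup.zpowers z
  have hW'mem : ∀ x ∈ W', ∃ i < p, ∃ w ∈ W, x = z ^ i * w := by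
    intro x hx
    have hz' : Subgroup.zpowers z ≤ Subgroup.normalizer (W : Set G) := Subgroup.zpowers_le.2 hzN
    have hx' : x ∈ (Subgroup.zpowers z : Set G) * (W : Set G) := by
      rw [← Subgroup.coe_mul_of_left_le_normalizer_right (Subgroup.zpowers z) W hz', sup_comm]
      exact hx
    obtain ⟨a, ha, w, hw, rfl⟩ := hx'
    obtain ⟨i, rfl⟩ := (mem_powers_iff_mem_zpowers.2 ha :)
    refine ⟨i % p, Nat.mod_lt _ hp.pos, (z ^ p) ^ (i / p) * w, mul_mem (pow_mem hzp _) hw, ?_⟩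
    change z ^ i * w = _
    rw [← mul_assoc, ← pow_mul, ← pow_add, Nat.mod_add_div]
  have hzi : ∀ i j : ℕ, i < p → j < p → (z ^ i)⁻¹ * z ^ j ∈ W → i = j := by
    have aux : ∀ i j : ℕ, i ≤ j → j < p → (z ^ i)⁻¹ * z ^ j ∈ W → i = j := by
      intro i j hij hj hm
      by_contra hne
      obtain ⟨d, rfl⟩ : ∃ d, j = i + d := ⟨j - i, by omega⟩
      rw [pow_add, inv_mul_cancel_left] at hm
      have hgcd : Nat.gcd d p = 1 := Nat.Coprime.symm
        (hp.coprime_iff_not_dvd.2 fun hd => by have := Nat.le_of_dvd (by omega) hd; omega)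
      apply hzW
      have e : z ^ (1 : ℤ) = (z ^ d) ^ (Nat.gcdA d p) * (z ^ p) ^ (Nat.gcdB d p) := by
        rw [← zpow_natCast z d, ← zpow_natCast z p, ← zpow_mul, ← zpow_mul, ← zpow_add,
          ← Nat.gcd_eq_gcd_ab, hgcd, Nat.cast_one]
      rw [zpow_one] at e
      rw [e]
      exact mul_mem (zpow_mem hm _) (zpow_mem hzp _)
    intro i j hi hj hm
    rcases le_total i j with hij | hij
    · exact aux i j hij hj hm
    · refine (aux j i hij hi ?_).symm
      have := inv_mem hm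
      simpa using this
  -- representatives in `P` of the cosets in the orbit
  have hrep : ∀ c ∈ S, ∃ u ∈ (P : Subgroup G), ((u * g : G) : G ⧸ H) = c ∧ y • c = c := by
    intro c hc
    obtain ⟨hc', hcO⟩ := Finset.mem_filter.1 hc
    obtain ⟨u, hu⟩ := MulAction.orbitRel_apply.1 (Quotient.exact' (hcO.trans hO.symm))
    refine ⟨u, u.2, ?_, (Finset.mem_filter.1 (Finset.mem_erase.1 hc').2).2⟩
    rw [← hu]
    conv_rhs => rw [← hc₀eq]
    rfl
  let θ : G ⧸ H → G ⧸ W' := fun c =>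
    if hc : ∃ u ∈ (P : Subgroup G), ((u * g : G) : G ⧸ H) = c then (hc.choose : G ⧸ W') else ((1 : G) : G ⧸ W')
  have hθ : ∀ u ∈ (P : Subgroup G), θ ((u * g : G) : G ⧸ H) = (u : G ⧸ W') := by
    intro u hu
    have hex : ∃ u' ∈ (P : Subgroup G), ((u' * g : G) : G ⧸ H) = ((u * g : G) : G ⧸ H) := ⟨u, hu, rfl⟩
    simp only [θ, dif_pos hex]
    rw [QuotientGroup.eq]
    exact Subgroup.mem_sup_left ((hfixW _ hex.choose_spec.1 u hu).1 hex.choose_spec.2)
  have := Fintype.ofFinite (G ⧸ W')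
  rw [← Finset.prod_fiberwise_of_maps_to (g := θ) (t := Finset.univ) (fun c _ => Finset.mem_univ _)]
  refine Finset.prod_eq_one fun d _ => ?_
  set B := S.filter fun c => θ c = d with hB
  rcases B.eq_empty_or_nonempty with he | ⟨c₁, hc₁⟩
  · rw [he, Finset.prod_empty]
  obtain ⟨hc₁S, hθ₁⟩ := Finset.mem_filter.1 hc₁
  obtain ⟨u, hu, hu₁, hfix₁⟩ := hrep c₁ hc₁S
  subst hu₁
  rw [hθ u hu] at hθ₁
  obtain ⟨hvW, -⟩ := hval u hu hfix₁
  set v := u⁻¹ * y * u with hv
  have hpowW : ∀ i : ℕ, (z ^ i)⁻¹ * v * z ^ i ∈ W := fun i =>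
    (Subgroup.mem_normalizer_iff''.1 (pow_mem hzN i) v).1 hvW
  have huz : ∀ i : ℕ, u * z ^ i ∈ (P : Subgroup G) := fun i => mul_mem hu (pow_mem hzP i)
  have hfixi : ∀ i : ℕ, y • ((u * z ^ i * g : G) : G ⧸ H) = ((u * z ^ i * g : G) : G ⧸ H) := by
    intro i
    rw [MulAction.Quotient.smul_coe, smul_eq_mul, QuotientGroup.eq]
    have := H.inv_mem ((hWmem _).1 (hpowW i)).2
    simpa [hv, mul_assoc] using this
  have hinB : ∀ i : ℕ, ((u * z ^ i * g : G) : G ⧸ H) ∈ B := by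
    intro i
    simp only [hB, hS, Finset.mem_filter, Finset.mem_erase, hF, Finset.mem_univ, true_and]
    refine ⟨⟨⟨?_, hfixi i⟩, ?_⟩, ?_⟩
    · intro e
      apply hc₀1
      rw [← hc₀eq, QuotientGroup.eq, mul_one]
      rw [QuotientGroup.eq, mul_one] at e
      have := H.mul_mem (H.inv_mem (H.inv_mem_iff.1 e)) (hPH (huz i))
      simpa [mul_assoc] using this
    · rw [← hO]
      refine Quotient.sound' (MulAction.orbitRel_apply.2 ⟨⟨_, huz i⟩, ?_⟩)
      conv_lhs => rw [← hc₀eq]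
      rfl
    · rw [hθ _ (huz i), ← hθ₁, QuotientGroup.eq, mul_inv_rev, mul_assoc, inv_mul_cancel, mul_one]
      exact inv_mem (Subgroup.mem_sup_right (pow_mem (Subgroup.mem_zpowers z) i))
  have hprod : ∏ c ∈ B, Fc (c.out⁻¹ * y * c.out) =
      ∏ i ∈ Finset.range p, Fc (g⁻¹ * ((z ^ i)⁻¹ * v * z ^ i) * g) := by
    refine (Finset.prod_bij (fun i _ => ((u * z ^ i * g : G) : G ⧸ H)) (fun i _ => hinB i)
      ?_ ?_ ?_).symm
    · intro i hi j hj e
      rw [hfixW _ (huz i) _ (huz j), mul_inv_rev, mul_assoc, inv_mul_cancel_left] at e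
      exact hzi i j (Finset.mem_range.1 hi) (Finset.mem_range.1 hj) e
    · intro c hc
      obtain ⟨hcS, hcθ⟩ := Finset.mem_filter.1 hc
      obtain ⟨u', hu', rfl, -⟩ := hrep c hcS
      rw [hθ u' hu', ← hθ₁, eq_comm, QuotientGroup.eq] at hcθ
      obtain ⟨i, hi, w, hw, e⟩ := hW'mem _ hcθ
      refine ⟨i, Finset.mem_range.2 hi, ?_⟩
      rw [hfixW _ (huz i) _ hu']
      rw [mul_inv_rev, mul_assoc, e, inv_mul_cancel_left]
      exact hw
    · intro i _
      rw [(hval _ (huz i) (hfixi i)).2]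
      congr 1
      rw [hv]
      group
  rw [hprod]
  exact prod_conj_eq_one hexp ψ hzconj hvW (h v ((hWmem v).1 hvW).1 z hzQ) (fun w => Fc (g⁻¹ * w * g))
    fun w hw => hFc _ _


/-- Let `P` be a Sylow `p`-subgroup of the finite group `G`, `Q` a subgroup of `P` weakly closed in `P` with respect to `G`, and `H` the normalizer of `Q`. Suppose that for all `u ∈ P` and `z ∈ Q` the iterated commutator `[u, z, …, z]` with `p - 1` entries `z` is trivial, where `[x, z] = x⁻¹z⁻¹xz` and `[x, z, z] = [[x, z], z]`. Then `O^p(H) = O^p(G) ∩ H`, where `O^p` denotes the subgroup generated by the elements of order prime to `p`; so the largest `p`-factor groups of `G` and of `H` are isomorphic. -/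
theorem result {G : Type*} [Group G] [Finite G] {p : ℕ} [Fact p.Prime] (P : Sylow p G) (Q : Subgroup G) (hQ : Cfsg.IsWeaklyClosed Q (P : Subgroup G)) (h : ∀ u ∈ (P : Subgroup G), ∀ z ∈ Q, (fun y : G => y⁻¹ * z⁻¹ * y * z)^[p - 1] u = 1) : Cfsg.pResidualOf p (Subgroup.normalizer (Q : Set G)) = Cfsg.pResidual p G ⊓ Subgroup.normalizer (Q : Set G) := by
  have hPH : (P : Subgroup G) ≤ Subgroup.normalizer (Q : Set G) := fun u hu =>
    CfsgLib.Transfer.mem_normalizer_of_map_conj_eq (hQ.2 u (by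
      rintro _ ⟨q, hq, rfl⟩
      exact mul_mem (mul_mem hu (hQ.1 hq)) (inv_mem hu)))
  rw [inf_comm]
  exact (CfsgLib.Transfer.tate_of_elemResidual P hPH (elemResidual_le P Q hQ h hPH)).symm

end Cfsg.Agent.S4215
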