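import Cfsg.Statements.S4219
import Mathlib

set_option autoImplicit false
open Cfsg

namespace Cfsg.Agent.S4219

theorem key {G α : Type*} [Group G] [Finite G] [MulAction G α] {t : ℕ}
    (hG : MulAction.IsMultiplyPretransitive G α t) {p : ℕ} [Fact p.Prime] (H : Subgroup G) (x : Fin t ↪ α)
    (hH : H = MulAction.stabilizer G x) (P : Sylow p H) (Q : Subgroup G)
    (hQ : Q = (P : Subgroup H).map H.subtype) (a b : Fin t ↪ α)
    (ha : ∀ i, a i ∈ MulAction.fixedPoints Q α) (hb : ∀ i, b i ∈ MulAction.fixedPoints Q α) :
    ∃ g ∈ Subgroup.normalizer (Q : Set G), g • a = b := by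
  classical
  have htr : ∀ u v : Fin t ↪ α, ∃ g : G, g • u = v :=
    fun u v => hG.exists_smul_eq u v
  have hcard : ∀ u : Fin t ↪ α, Nat.card (MulAction.stabilizer G u) = Nat.card H := by
    intro u
    obtain ⟨g, hg⟩ := htr x u
    rw [← hg, MulAction.stabilizer_smul_eq_stabilizer_map_conj,
      Subgroup.card_map_of_injective (MulAut.conj g).injective, hH]
  have hfix : ∀ u : Fin t ↪ α, (∀ i, u i ∈ MulAction.fixedPoints Q α) → Q ≤ MulAction.stabilizer G u := by
    intro u hu y hy
    rw [MulAction.mem_stabilizer_iff]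
    exact Function.Embedding.ext fun i => hu i ⟨y, hy⟩
  obtain ⟨g, hg⟩ := htr a b
  set Q' : Subgroup G := Q.map (MulAut.conj g).toMonoidHom with hQ'
  have hQ'b : Q' ≤ MulAction.stabilizer G b := by
    rw [← hg, MulAction.stabilizer_smul_eq_stabilizer_map_conj]
    exact Subgroup.map_mono (hfix a ha)
  have hQb : Q ≤ MulAction.stabilizer G b := hfix b hb
  set S := MulAction.stabilizer G b with hS
  have hQc : Nat.card Q = p ^ (Nat.card S).factorization p := by
    rw [hQ, Subgroup.card_map_of_injective (Subgroup.subtype_injective _), P.card_eq_multiplicity,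
      hcard b]
  have hQ'c : Nat.card Q' = p ^ (Nat.card S).factorization p := by
    rw [hQ', Subgroup.card_map_of_injective (MulAut.conj g).injective, hQc]
  let P1 : Sylow p S := Sylow.ofCard (Q'.subgroupOf S)
    ((Nat.card_congr (Subgroup.subgroupOfEquivOfLe hQ'b).toEquiv).trans hQ'c)
  let P2 : Sylow p S := Sylow.ofCard (Q.subgroupOf S)
    ((Nat.card_congr (Subgroup.subgroupOfEquivOfLe hQb).toEquiv).trans hQc)
  obtain ⟨h, hh⟩ := MulAction.exists_smul_eq S P1 P2
  have hhQ : Q'.map (MulAut.conj (h : G)).toMonoidHom = Q := by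
    have hh' : (Q'.subgroupOf S).map (MulAut.conj h).toMonoidHom = Q.subgroupOf S :=
      congrArg (fun R : Sylow p S => (R : Subgroup S)) hh
    have := congrArg (fun R : Subgroup S => R.map S.subtype) hh'
    simp only [Subgroup.map_subgroupOf_eq_of_le hQb] at this
    refine Eq.trans ?_ this
    conv_lhs => rw [← Subgroup.map_subgroupOf_eq_of_le hQ'b]
    rw [Subgroup.map_map, Subgroup.map_map]
    rfl
  refine ⟨(h : G) * g, ?_, ?_⟩
  · rw [Subgroup.mem_normalizer_iff_map_conj_eq]
    conv_rhs => rw [← hhQ]
    rw [hQ', Subgroup.map_map]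
    congr 1
    ext y
    simp [MulAut.conj_apply, mul_assoc]
  · rw [mul_smul, hg]
    exact h.2

/-- Let a finite group `G` act `t`-fold transitively on a finite set, let `H` be the stabilizer of `t` distinct points and `P` a Sylow `p`-subgroup of `H`. Then the normalizer of `P` in `G` is `t`-fold transitive on the fixed points of `P`: any `t` distinct fixed points of `P` can be carried to any other `t` distinct fixed points of `P` by an element normalizing `P`. -/
theorem result {G : Type*} [Group G] [Finite G] {α : Type*} [Fintype α] [MulAction G α] {t : ℕ} (hG : MulAction.IsMultiplyPretransitive G α t) (x : Fin t ↪ α) {p : ℕ} [Fact p.Prime] (P : Sylow p (MulAction.stabilizer G x)) (a b : Fin t ↪ α) (ha : ∀ i, a i ∈ MulAction.fixedPoints ((P : Subgroup (MulAction.stabilizer G x)).map (MulAction.stabilizer G x).subtype) α) (hb : ∀ i, b i ∈ MulAction.fixedPoints ((P : Subgroup (MulAction.stabilizer G x)).map (MulAction.stabilizer G x).subtype) α) : ∃ g ∈ Subgroup.normalizer ((((P : Subgroup (MulAction.stabilizer G x)).map (MulAction.stabilizer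 G x).subtype) : Subgroup G) : Set G), g • a = b := by
  exact key hG _ x rfl P _ rfl a b ha hb

end Cfsg.Agent.S4219
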