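import Cfsg.Statements.S4220
import Mathlib
import Cfsg.Agent.Miller.Main

set_option autoImplicit false
open Cfsg

namespace Cfsg.Agent.S4220

open Equiv MulAction CfsgLib.Miller
open scoped commutatorElement

/-- `x` carries `t` to the permutation `u` trivial outside the range of `x`. -/
theorem support_card_eq {α : Type*} [Fintype α] [DecidableEq α] {r : ℕ} (x : Fin r ↪ α) {u : Perm α}
    {t : Perm (Fin r)} (hout : ∀ e, e ∉ Set.range x → u e = e) (hin : ∀ i, u (x i) = x (t i)) :
    u.support.card = t.support.card := by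
  rw [← Finset.card_map x]
  congr 1
  ext e
  simp only [Finset.mem_map, Perm.mem_support]
  constructor
  · intro he
    obtain ⟨i, rfl⟩ : e ∈ Set.range x := by_contra fun h => he (hout e h)
    exact ⟨i, fun h => he (by rw [hin, h]), rfl⟩
  · rintro ⟨i, hi, rfl⟩
    rw [hin]
    exact fun h => hi (x.injective h)

theorem exists_trivial_outside {α : Type*} [Fintype α] [DecidableEq α] {G : Subgroup (Perm α)}
    {k p r : ℕ} {x : Fin r ↪ α} {P : Subgroup (Perm α)} (D : Datum G p r x P) (hp : p.Prime)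
    (hn : Fintype.card α = k * p + r) (hk : 1 ≤ k) (hkr : k < r) (hr : 3 ≤ r)
    (hnocycle : ∀ u ∈ P, u.support.card ≠ p) (t : Perm (Fin r))
    (ht : ∀ A : Subgroup (Perm (Fin r)), A.Normal → A ≠ ⊥ → t ∈ ⁅A, (⊤ : Subgroup (Perm (Fin r)))⁆ ∧
      (5 ≤ r → t ∈ ⁅A, A⁆)) :
    ∃ u ∈ G, (∀ e, e ∉ Set.range x → u e = e) ∧ ∀ i, u (x i) = x ((t ^ p) i) := by
  classical
  set N := G ⊓ Subgroup.normalizer (P : Set (Perm α)) with hN
  have hNn : ∀ g : N, (g : Perm α) ∈ Subgroup.normalizer (P : Set (Perm α)) := fun g => g.2.2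
  have hconj : ∀ (g : N), ∀ v ∈ P, (g : Perm α) * v * (g : Perm α)⁻¹ ∈ P := fun g v hv =>
    (Subgroup.mem_normalizer_iff.1 (hNn g) v).1 hv
  have hconj' : ∀ (g : N), ∀ v ∈ P, (g : Perm α)⁻¹ * v * (g : Perm α) ∈ P := fun g v hv =>
    (Subgroup.mem_normalizer_iff''.1 (hNn g) v).1 hv
  -- the action on the fixed points
  have hpres : ∀ (g : N) (i : Fin r), (g : Perm α) (x i) ∈ Set.range x := by
    intro g i
    rw [D.mem_range_iff hp]
    intro v hv
    have h := D.fixes _ (hconj' g v hv) i
    rw [Perm.mul_apply, Perm.mul_apply, Perm.inv_eq_iff_eq] at h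
    exact h
  choose f hf using hpres
  let δ : N →* Perm (Fin r) :=
    { toFun := fun g =>
        { toFun := f g
          invFun := f g⁻¹
          left_inv := fun i => x.injective (by rw [hf, hf, ← Perm.mul_apply, ← Subgroup.coe_mul, inv_mul_cancel]; rfl)
          right_inv := fun i => x.injective (by rw [hf, hf, ← Perm.mul_apply, ← Subgroup.coe_mul, mul_inv_cancel]; rfl) }
      map_one' := Equiv.ext fun i => x.injective (by change x (f 1 i) = x i; rw [hf]; rfl)
      map_mul' := fun a b => Equiv.ext fun i => x.injective (by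
        change x (f (a * b) i) = x (f a (f b i))
        rw [hf, hf, hf]; rfl) }
  have hδ : ∀ (g : N) (i : Fin r), (g : Perm α) (x i) = x (δ g i) := fun g i => (hf g i).symm
  have hδsurj : Function.Surjective δ := by
    intro σ
    obtain ⟨g, hg, hgx⟩ := D.lift σ
    exact ⟨⟨g, hg⟩, Equiv.ext fun i => x.injective (by rw [← hδ]; exact hgx i)⟩
  have hout : ∀ (g : N) (e : α), e ∉ Set.range x → (g : Perm α) e ∉ Set.range x := by
    rintro g e he ⟨i, hi⟩
    apply he
    refine ⟨δ g⁻¹ i, ?_⟩
    rw [← hδ, hi, Subgroup.coe_inv, ← Perm.mul_apply, inv_mul_cancel]; rfl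
  -- the action on the orbits
  let O := {s : Set α // ∃ e, e ∉ Set.range x ∧ s = orbit P e}
  have himg : ∀ (g : N) (e : α), (g : Perm α) '' orbit P e = orbit P ((g : Perm α) e) := by
    intro g e
    ext z
    constructor
    · rintro ⟨_, ⟨q, rfl⟩, rfl⟩
      refine ⟨⟨_, hconj g q q.2⟩, ?_⟩
      change ((g : Perm α) * q * (g : Perm α)⁻¹) ((g : Perm α) e) = (g : Perm α) ((q : Perm α) e)
      simp
    · rintro ⟨q, rfl⟩
      refine ⟨_, ⟨⟨_, hconj' g q q.2⟩, rfl⟩, ?_⟩
      change (g : Perm α) (((g : Perm α)⁻¹ * q * (g : Perm α)) e) = (q : Perm α) ((g : Perm α) e)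
      simp
  let act : N → O → O := fun g s => ⟨(g : Perm α) '' s.1, by
    obtain ⟨e, he, hs⟩ := s.2
    exact ⟨(g : Perm α) e, hout g e he, by rw [hs, himg]⟩⟩
  let : MulAction N O :=
    { smul := act
      one_smul := fun s => Subtype.ext (Set.image_id _)
      mul_smul := fun a b s => Subtype.ext (by
        change ((a * b : N) : Perm α) '' s.1 = (a : Perm α) '' ((b : Perm α) '' s.1)
        rw [← Set.image_comp]; rfl) }
  let ρ := MulAction.toPermHom N O
  have hOcard : Nat.card O = k := by
    let out : Finset α := Finset.univ \ Finset.univ.map x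
    have hmem : ∀ e, e ∈ out ↔ e ∉ Set.range x := fun e => by simp [out, Set.mem_range]
    let π : α → Set α := fun e => orbit P e
    have h := Finset.card_eq_sum_card_image π out
    have hfib : ∀ s ∈ out.image π, (out.filter fun e => π e = s).card = p := by
      intro s hs
      obtain ⟨e, he, rfl⟩ := Finset.mem_image.1 hs
      rw [hmem] at he
      rw [← D.orbit_card e he, ← Set.ncard_coe_finset]
      congr 1
      ext z
      simp only [Finset.coe_filter, Set.mem_ofPred_eq, hmem]
      constructor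
      · rintro ⟨-, hz⟩
        change orbit P z = orbit P e at hz
        rw [← hz]
        exact mem_orbit_self z
      · intro hz
        refine ⟨fun hzx => ?_, orbit_eq_iff.2 hz⟩
        have hmem' : e ∈ orbit P z := by rw [orbit_eq_iff.2 hz]; exact mem_orbit_self e
        obtain ⟨q, hq⟩ := hmem'
        have h2 : (q : Perm α) z = z := (D.mem_range_iff hp).1 hzx q q.2
        exact he ((hq.symm.trans h2).symm ▸ hzx)
    rw [Finset.sum_congr rfl hfib, Finset.sum_const, smul_eq_mul] at h
    have hc : out.card = k * p := by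
      rw [Finset.card_sdiff_of_subset (Finset.subset_univ _), Finset.card_univ, Finset.card_map,
        Finset.card_univ, hn, Fintype.card_fin, Nat.add_sub_cancel]
    rw [hc] at h
    rw [Nat.eq_of_mul_eq_mul_right hp.pos h, ← Nat.card_eq_finsetCard]
    refine Nat.card_congr (Equiv.subtypeEquivRight fun s => ?_)
    simp only [Finset.mem_image, hmem, π]
    exact ⟨fun ⟨e, he, hs⟩ => ⟨e, he, hs.symm⟩, fun ⟨e, he, hs⟩ => ⟨e, he, hs.symm⟩⟩
  set M := ρ.ker with hM
  have hMf : ∀ g ∈ M, Datum.FixesOrbits P x (g : Perm α) := by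
    intro g hg e he
    have h := congrArg Subtype.val (Equiv.ext_iff.1 (MonoidHom.mem_ker.1 hg) ⟨orbit P e, e, he, rfl⟩)
    change (g : Perm α) '' orbit P e = orbit P e at h
    rw [← h]
    exact ⟨e, mem_orbit_self e, rfl⟩
  -- its image on the fixed points is not trivial
  set A := M.map δ with hA
  have hAn : A.Normal := (inferInstance : M.Normal).map δ hδsurj
  have hA0 : A ≠ ⊥ := by
    intro h
    rw [hA, Subgroup.map_eq_bot_iff] at h
    have hd := Subgroup.index_dvd_of_le h
    rw [Subgroup.index_ker, Subgroup.index_ker, MonoidHom.range_eq_top.2 hδsurj, Subgroup.card_top,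
      Nat.card_perm, Nat.card_eq_fintype_card, Fintype.card_fin] at hd
    have hd2 := hd.trans (Subgroup.card_subgroup_dvd_card ρ.range)
    rw [Nat.card_perm, hOcard] at hd2
    exact absurd (Nat.le_of_dvd (Nat.factorial_pos _) hd2) (not_le.2 ((Nat.factorial_lt hk).2 hkr))
  -- elements fixing the orbits and centralising `P`
  set C := M ⊓ (Subgroup.centralizer (P : Set (Perm α))).comap N.subtype with hC
  obtain ⟨c, hcC, hct⟩ : ∃ c ∈ C, δ c = t := by
    by_cases hr5 : 5 ≤ r
    · have hmem := (ht A hAn hA0).2 hr5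
      rw [hA, ← Subgroup.map_commutator] at hmem
      obtain ⟨c, hc, hct⟩ := hmem
      refine ⟨c, Subgroup.commutator_le.2 ?_ hc, hct⟩
      intro g hg h hh
      refine ⟨Subgroup.commutator_le_right M M (Subgroup.commutator_mem_commutator hg hh),
        Subgroup.mem_centralizer_iff.2 fun v hv => ?_⟩
      exact ((D.commutator_commute hp (hNn g) (hNn h) (hMf g hg) (hMf h hh) hv).eq).symm
    · have hk3 : k ≤ 3 := by omega
      have hthree : ∀ a b c d, a ∉ Set.range x → b ∉ Set.range x → c ∉ Set.range x → d ∉ Set.range x →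
          b ∉ orbit P a → c ∉ orbit P a → c ∉ orbit P b →
          d ∈ orbit P a ∨ d ∈ orbit P b ∨ d ∈ orbit P c := by
        intro a b c d ha hb hc hd hba hca hcb
        by_contra! h
        obtain ⟨hda, hdb, hdc⟩ := h
        let f4 : Fin 4 → O := ![⟨_, a, ha, rfl⟩, ⟨_, b, hb, rfl⟩, ⟨_, c, hc, rfl⟩, ⟨_, d, hd, rfl⟩]
        have hne : ∀ {a b : α}, b ∉ orbit P a → orbit P a ≠ orbit P b := fun hba h =>
          hba (h ▸ mem_orbit_self _)
        have hinj : Function.Injective f4 := by
          intro i j hij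
          have h' := congrArg Subtype.val hij
          fin_cases i <;> fin_cases j <;> simp [f4] at h' ⊢
          all_goals first
            | exact absurd h' (hne hba) | exact absurd h'.symm (hne hba)
            | exact absurd h' (hne hca) | exact absurd h'.symm (hne hca)
            | exact absurd h' (hne hcb) | exact absurd h'.symm (hne hcb)
            | exact absurd h' (hne hda) | exact absurd h'.symm (hne hda)
            | exact absurd h' (hne hdb) | exact absurd h'.symm (hne hdb)
            | exact absurd h' (hne hdc) | exact absurd h'.symm (hne hdc)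
        have h4 := Nat.card_le_card_of_injective f4 hinj
        rw [hOcard, Nat.card_fin] at h4
        omega
      have hmem := (ht A hAn hA0).1
      rw [hA, ← Subgroup.map_top_of_surjective δ hδsurj, ← Subgroup.map_commutator] at hmem
      obtain ⟨c, hc, hct⟩ := hmem
      refine ⟨c, Subgroup.commutator_le.2 ?_ hc, hct⟩
      intro g hg h _
      refine ⟨Subgroup.commutator_le_left M ⊤ (Subgroup.commutator_mem_commutator hg (Subgroup.mem_top h)),
        Subgroup.mem_centralizer_iff.2 fun v hv => ?_⟩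
      obtain ⟨a, ha⟩ := D.exists_global_scalar hp hthree hnocycle (hNn g) (hMf g hg)
      have key : ∀ w ∈ P, (g : Perm α) * ((h : Perm α) * w * (h : Perm α)⁻¹) * (g : Perm α)⁻¹
          = (h : Perm α) * ((g : Perm α) * w * (g : Perm α)⁻¹) * (h : Perm α)⁻¹ := by
        intro w hw
        rw [ha w hw, ha _ (hconj h w hw), conj_pow]
      set G1 := (g : Perm α)
      set H1 := (h : Perm α)
      have h1 := key (G1⁻¹ * (H1⁻¹ * v * H1) * G1) (hconj' g _ (hconj' h v hv))
      have h2 : G1 * H1 * G1⁻¹ * H1⁻¹ * v * (H1 * G1 * H1⁻¹ * G1⁻¹) = v := by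
        calc G1 * H1 * G1⁻¹ * H1⁻¹ * v * (H1 * G1 * H1⁻¹ * G1⁻¹)
            = G1 * (H1 * (G1⁻¹ * (H1⁻¹ * v * H1) * G1) * H1⁻¹) * G1⁻¹ := by group
          _ = H1 * (G1 * (G1⁻¹ * (H1⁻¹ * v * H1) * G1) * G1⁻¹) * H1⁻¹ := h1
          _ = v := by group
      change v * (G1 * H1 * G1⁻¹ * H1⁻¹) = G1 * H1 * G1⁻¹ * H1⁻¹ * v
      calc v * (G1 * H1 * G1⁻¹ * H1⁻¹)
          = G1 * H1 * G1⁻¹ * H1⁻¹ * v * (H1 * G1 * H1⁻¹ * G1⁻¹) * (G1 * H1 * G1⁻¹ * H1⁻¹) := by rw [h2]
        _ = G1 * H1 * G1⁻¹ * H1⁻¹ * v := by group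
  refine ⟨((c ^ p : N) : Perm α), (c ^ p).2.1, fun e he => ?_, fun i => ?_⟩
  · rw [SubgroupClass.coe_pow]
    exact D.pow_apply_of_commute hp (hMf c hcC.1)
      (fun v hv => (Subgroup.mem_centralizer_iff.1 hcC.2 v hv).symm) he
  · rw [hδ, map_pow, hct]

theorem mem_alt_commutator {r : ℕ} (hr : 5 ≤ r) {A : Subgroup (Perm (Fin r))} (hA : A.Normal)
    (hA0 : A ≠ ⊥) {t : Perm (Fin r)} (ht : t ∈ alternatingGroup (Fin r)) : t ∈ ⁅A, A⁆ := by
  have hle : alternatingGroup (Fin r) ≤ A :=
    Perm.alternatingGroup_le_of_normal (by simpa using hr) ((Subgroup.nontrivial_iff_ne_bot A).2 hA0)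
  refine Subgroup.commutator_mono hle hle ?_
  rw [← Subgroup.map_subtype_commutator, commutator_alternatingGroup_eq_top (by simpa using hr)]
  exact ⟨⟨t, ht⟩, trivial, rfl⟩

theorem miller {α : Type*} [Fintype α] [DecidableEq α] (G : Subgroup (Equiv.Perm α)) {k p r : ℕ}
    (hp : p.Prime) (hn : Fintype.card α = k * p + r) (hk : 1 ≤ k) (hpk : k < p) (hrk : k < r)
    (hr : 3 ≤ r) (hG : MulAction.IsMultiplyPretransitive G α (r + 1)) : alternatingGroup α ≤ G := by
  have hkp : p ≤ k * p := Nat.le_mul_of_pos_left p hk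
  have hp2 := hp.two_le
  have hG4 : IsMultiplyPretransitive G α 4 :=
    isMultiplyPretransitive_of_le (n := r + 1) (by omega) (by rw [Nat.card_eq_fintype_card, hn]; omega)
  obtain ⟨x⟩ := Function.Embedding.nonempty_of_card_le (α := Fin r) (β := α) (by simp [hn])
  obtain ⟨P, D⟩ := exists_datum hp hk hpk hn hG x
  by_cases hcyc : ∃ u ∈ P, u.support.card = p
  · obtain ⟨u, hu, hus⟩ := hcyc
    have := Fact.mk hp
    have ho : orderOf u = p := orderOf_eq_prime (D.pow_prime_eq_one hp hu) (fun h => by
      rw [h, Perm.support_one, Finset.card_empty] at hus; omega)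
    exact CfsgLib.JordanPrime.alternatingGroup_le_of_prime_cycle
      (isPreprimitive_of_four hG4 (by omega)) hp (by omega)
      (Perm.isCycle_of_prime_order (ho ▸ hp) (by omega)) hus (D.le hu)
  push Not at hcyc
  by_cases hd : 4 ≤ r ∧ p ≠ 2
  · -- a double transposition
    obtain ⟨hr4, hp2'⟩ := hd
    set i0 : Fin r := ⟨0, by omega⟩
    set i1 : Fin r := ⟨1, by omega⟩
    set i2 : Fin r := ⟨2, by omega⟩
    set i3 : Fin r := ⟨3, by omega⟩
    have h01 : i0 ≠ i1 := by simp [i0, i1]
    have h23 : i2 ≠ i3 := by simp [i2, i3]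
    set t := swap i0 i1 * swap i2 i3 with ht
    have htalt : t ∈ alternatingGroup (Fin r) := by
      rw [Perm.mem_alternatingGroup, ht, map_mul, Perm.sign_swap h01, Perm.sign_swap h23]; decide
    have hdis : Perm.Disjoint (swap i0 i1) (swap i2 i3) := by
      refine Perm.disjoint_iff_eq_or_eq.2 fun z => ?_
      by_cases hz : z = i0 ∨ z = i1
      · right
        rcases hz with rfl | rfl <;>
        · apply swap_apply_of_ne_of_ne <;> simp [i0, i1, i2, i3]
      · push Not at hz
        exact Or.inl (swap_apply_of_ne_of_ne hz.1 hz.2)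
    have ht2 : t * t = 1 := by
      rw [ht, hdis.commute.symm.mul_mul_mul_comm, swap_mul_self, swap_mul_self, one_mul]
    have htp : t ^ p = t := by
      obtain ⟨j, hj⟩ := (hp.odd_of_ne_two hp2')
      rw [hj, pow_add, pow_mul, pow_one, pow_two, ht2, one_pow, one_mul]
    obtain ⟨u, hu, huo, hux⟩ := exists_trivial_outside D hp hn hk hrk hr hcyc t (fun A hA hA0 => by
      refine ⟨?_, fun h5 => mem_alt_commutator h5 hA hA0 htalt⟩
      rcases Nat.lt_or_ge r 5 with h5 | h5
      · obtain rfl : r = 4 := by omega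
        obtain ⟨σ, hσ, hσ1⟩ := exists_ne_one_of_ne_bot A hA0
        obtain ⟨τ, υ, h⟩ := small_four σ hσ1
        have hb : ⁅σ, τ⁆ ∈ A := Subgroup.commutator_le_left A ⊤
          (Subgroup.commutator_mem_commutator hσ (Subgroup.mem_top τ))
        have := Subgroup.commutator_mem_commutator hb (Subgroup.mem_top υ)
        rw [h] at this
        exact this
      · exact Subgroup.commutator_mono le_rfl le_top (mem_alt_commutator h5 hA hA0 htalt))
    rw [htp] at hux
    refine alt_of_double hG4 (by omega) hu ?_ ?_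
    · ext e
      by_cases he : e ∈ Set.range x
      · obtain ⟨i, rfl⟩ := he
        rw [Perm.mul_apply, hux, hux, ← Perm.mul_apply, ht2]; rfl
      · rw [Perm.mul_apply, huo e he, huo e he]; rfl
    · rw [support_card_eq x huo hux, ht, Perm.Disjoint.card_support_mul hdis,
        Perm.card_support_swap h01, Perm.card_support_swap h23]
  by_cases hsix : Fintype.card α = 6
  · exact alt_six hG4 hsix
  by_cases hnine : Fintype.card α = 9
  · exact alt_nine hG4 hnine
  -- a three-cycle
  have hp3 : p ≠ 3 := by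
    intro h
    subst h
    have hr3 : r = 3 := by omega
    subst hr3
    omega
  have hr4 : r ≠ 4 := by
    intro h
    subst h
    have : p = 2 := by omega
    subst this
    omega
  set i0 : Fin r := ⟨0, by omega⟩
  set i1 : Fin r := ⟨1, by omega⟩
  set i2 : Fin r := ⟨2, by omega⟩
  have h01 : i0 ≠ i1 := by simp [i0, i1]
  have h12 : i1 ≠ i2 := by simp [i1, i2]
  set t := swap i0 i1 * swap i1 i2 with ht
  have htalt : t ∈ alternatingGroup (Fin r) := by
    rw [Perm.mem_alternatingGroup, ht, map_mul, Perm.sign_swap h01, Perm.sign_swap h12]; decide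
  have ht3 : t.IsThreeCycle := by
    have : t = swap i1 i0 * swap i1 i2 := by rw [ht, swap_comm i0 i1]
    rw [this]
    exact Perm.isThreeCycle_swap_mul_swap_same h01.symm h12 (by simp [i0, i2])
  obtain ⟨u, hu, huo, hux⟩ := exists_trivial_outside D hp hn hk hrk hr hcyc t (fun A hA hA0 => by
    refine ⟨?_, fun h5 => mem_alt_commutator h5 hA hA0 htalt⟩
    rcases Nat.lt_or_ge r 5 with h5 | h5
    · obtain rfl : r = 3 := by omega
      obtain ⟨σ, hσ, hσ1⟩ := exists_ne_one_of_ne_bot A hA0
      obtain ⟨τ, h⟩ := small_three σ hσ1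
      have hb := Subgroup.commutator_mem_commutator hσ (Subgroup.mem_top τ)
      rcases h with h | h
      · rw [h] at hb; exact hb
      · have hb' := inv_mem hb
        rw [h] at hb'
        exact hb'
    · exact Subgroup.commutator_mono le_rfl le_top (mem_alt_commutator h5 hA hA0 htalt))
  refine Perm.alternatingGroup_le_of_isPreprimitive_of_isThreeCycle_mem
    (isPreprimitive_of_four hG4 (by omega)) (g := u) ?_ hu
  rw [← card_support_eq_three_iff, support_card_eq x huo hux]
  have ho : orderOf t = 3 := ht3.orderOf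
  rw [pow_eq_pow_mod p (show t ^ 3 = 1 by rw [← ho]; exact pow_orderOf_eq_one t)]
  have hlt := Nat.mod_lt p (show 3 > 0 by norm_num)
  have hne : p % 3 ≠ 0 := fun h =>
    hp3 ((Nat.prime_dvd_prime_iff_eq Nat.prime_three hp).1 (Nat.dvd_of_mod_eq_zero h)).symm
  interval_cases hm : p % 3
  · exact absurd rfl hne
  · rw [pow_one]; exact ht3.card_support
  · rw [pow_two, card_support_eq_three_iff]
    exact ht3.isThreeCycle_sq
where
  exists_ne_one_of_ne_bot {K : Type _} [Group K] (A : Subgroup K) (h : A ≠ ⊥) : ∃ a ∈ A, a ≠ 1 := by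
    by_contra! h'
    exact h ((Subgroup.eq_bot_iff_forall A).2 h')


/-- Let `n = kp + r` with `p` prime, `1 ≤ k < p` and `r > k`, excluding the case `k = 1, r = 2`. Then a permutation group of degree `n` that is `(r + 1)`-fold transitive contains the alternating group. -/
theorem result {α : Type*} [Fintype α] [DecidableEq α] (G : Subgroup (Equiv.Perm α)) {k p r : ℕ} (hp : p.Prime) (hn : Fintype.card α = k * p + r) (hk : 1 ≤ k) (hpk : k < p) (hrk : k < r) (hex : ¬ (k = 1 ∧ r = 2)) (hG : MulAction.IsMultiplyPretransitive G α (r + 1)) : alternatingGroup α ≤ G := by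
  refine miller G hp hn hk hpk hrk ?_ hG
  rcases Nat.lt_or_ge 1 k with h | h
  · omega
  · have : r ≠ 2 := fun h2 => hex ⟨by omega, h2⟩
    omega

end Cfsg.Agent.S4220
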