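import Cfsg.Statements.S4223
import Mathlib
import Cfsg.Agent.KrullSchmidt.Basic

set_option autoImplicit false
open Cfsg

namespace Cfsg.Agent.S4223

open CfsgLib.KrullSchmidt in
theorem unique.{u, v} : ∀ (m n : ℕ) (A : Fin m → Type u) (B : Fin n → Type v) [∀ i, Group (A i)]
    [∀ j, Group (B j)] [∀ i, Finite (A i)] [∀ j, Finite (B j)]
    (_ : ∀ i, Nontrivial (A i) ∧ Indec (A i)) (_ : ∀ j, Nontrivial (B j) ∧ Indec (B j))
    (_ : ((i : Fin m) → A i) ≃* ((j : Fin n) → B j)),
    ∃ σ : Fin m ≃ Fin n, ∀ i, Nonempty (A i ≃* B (σ i)) := by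
  intro m
  induction m with
  | zero =>
    intro n A B _ _ _ _ _ hB e
    obtain rfl : n = 0 := by
      by_contra hn
      obtain ⟨b, hb⟩ := @exists_ne _ (hB ⟨0, by omega⟩).1 1
      apply hb
      have h : e.symm (Pi.mulSingle ⟨0, by omega⟩ b) = e.symm 1 := funext fun i => i.elim0
      have := congrFun (e.symm.injective h) ⟨0, by omega⟩
      simpa using this
    exact ⟨Equiv.refl _, fun i => i.elim0⟩
  | succ m ih =>
    intro n A B _ _ _ _ hA hB e
    classical
    have := (hA 0).1
    let i : A 0 →* ((j : Fin n) → B j) := e.toMonoidHom.comp (MonoidHom.mulSingle A 0)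
    let π : ((j : Fin n) → B j) →* A 0 := (Pi.evalMonoidHom A 0).comp e.symm.toMonoidHom
    have hπi : ∀ a, π (i a) = a := fun a => by
      change e.symm (e (Pi.mulSingle 0 a)) 0 = a
      rw [e.symm_apply_apply, Pi.mulSingle_eq_same]
    have hi : i.range.Normal := by
      rw [show i.range = (MonoidHom.mulSingle A 0).range.map e.toMonoidHom from MonoidHom.range_comp _ _]
      refine Subgroup.Normal.map ⟨?_⟩ _ e.surjective
      rintro _ ⟨a, rfl⟩ g
      refine ⟨g 0 * a * (g 0)⁻¹, funext fun k => ?_⟩
      by_cases hk : k = 0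
      · subst hk; simp
      · simp [hk]
    obtain ⟨j, hj₁, hj₂⟩ := exists_exchange (hA 0).2 (fun j => (hB j).2) i π hπi hi
    obtain ⟨n, rfl⟩ : ∃ k, n = k + 1 := ⟨n - 1, by have := j.2; omega⟩
    let ρ : ((i : Fin m) → A i.succ) →* ((k : Fin n) → B (j.succAbove k)) :=
      { toFun := fun x k => e (Fin.cons 1 x) (j.succAbove k)
        map_one' := funext fun k => by
          have h : (Fin.cons 1 1 : (i : Fin (m + 1)) → A i) = 1 :=
            funext (Fin.cases rfl fun _ => rfl)
          change e (Fin.cons 1 1) (j.succAbove k) = 1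
          rw [h, map_one, Pi.one_apply]
        map_mul' := fun x y => funext fun k => by
          have h : (Fin.cons 1 (x * y) : (i : Fin (m + 1)) → A i) = Fin.cons 1 x * Fin.cons 1 y :=
            funext (Fin.cases (by simp) fun i => by simp)
          change e (Fin.cons 1 (x * y)) (j.succAbove k) = _
          rw [h, map_mul]
          rfl }
    have hρ : Function.Bijective ρ := by
      constructor
      · rw [injective_iff_map_eq_one]
        intro x hx
        set y := e (Fin.cons 1 x) with hy
        have hy1 : y = Pi.mulSingle j (y j) := funext fun k => by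
          rcases eq_or_ne k j with rfl | hk
          · simp
          · obtain ⟨l, rfl⟩ := Fin.exists_succAbove_eq hk
            rw [Pi.mulSingle_eq_of_ne hk]
            exact congrFun hx l
        have hyj : y j = 1 := by
          apply hj₂.1
          simp only [Pi.mulSingle_one, map_one, ← hy1]
          change e.symm y 0 = 1
          rw [hy, e.symm_apply_apply, Fin.cons_zero]
        rw [hyj, Pi.mulSingle_one, hy, MulEquiv.map_eq_one_iff] at hy1
        funext i
        have := congrFun hy1 i.succ
        simpa using this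
      · intro w
        let y : (k : Fin (n + 1)) → B k := Fin.insertNth j 1 w
        obtain ⟨b, hb⟩ := hj₂.2 (π y)
        let z := y * (Pi.mulSingle j b)⁻¹
        have hz0 : e.symm z 0 = 1 := by
          change π z = 1
          rw [map_mul, map_inv, show π (Pi.mulSingle j b) = π y from hb, mul_inv_cancel]
        refine ⟨fun i => e.symm z i.succ, funext fun k => ?_⟩
        have h : (Fin.cons 1 (fun i => e.symm z i.succ) : (i : Fin (m + 1)) → A i) = e.symm z :=
          funext (Fin.cases (by simp [hz0]) fun i => by simp)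
        change e (Fin.cons 1 fun i => e.symm z i.succ) (j.succAbove k) = w k
        rw [h, e.apply_symm_apply]
        simp [z, y, Pi.mulSingle_eq_of_ne (Fin.succAbove_ne j k)]
    obtain ⟨σ, hσ⟩ := ih n (fun i => A i.succ) (fun k => B (j.succAbove k))
      (fun i => hA _) (fun k => hB _) (MulEquiv.ofBijective ρ hρ)
    refine ⟨(finSuccEquiv m).trans (σ.optionCongr.trans (finSuccEquiv' j).symm), Fin.cases ?_ fun i => ?_⟩
    · have h : ((finSuccEquiv m).trans (σ.optionCongr.trans (finSuccEquiv' j).symm)) 0 = j := by simp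
      rw [h]
      exact ⟨MulEquiv.ofBijective ((Pi.evalMonoidHom B j).comp i) hj₁⟩
    · have h : ((finSuccEquiv m).trans (σ.optionCongr.trans (finSuccEquiv' j).symm)) i.succ
          = j.succAbove (σ i) := by simp
      rw [h]
      exact hσ i


/-- If a finite group is isomorphic both to a direct product of `m` directly indecomposable nontrivial groups and to a direct product of `n` such groups (a group is directly indecomposable when it is not the internal direct product of two nontrivial normal subgroups), then `m = n` and the factors are isomorphic in pairs after a suitable matching. -/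
theorem result {m n : ℕ} {A : Fin m → Type*} {B : Fin n → Type*} [∀ i, Group (A i)] [∀ j, Group (B j)] [∀ i, Finite (A i)] [∀ j, Finite (B j)] (hA : ∀ i, Nontrivial (A i) ∧ ∀ H K : Subgroup (A i), H.Normal → K.Normal → H ⊓ K = ⊥ → H ⊔ K = ⊤ → H = ⊥ ∨ K = ⊥) (hB : ∀ j, Nontrivial (B j) ∧ ∀ H K : Subgroup (B j), H.Normal → K.Normal → H ⊓ K = ⊥ → H ⊔ K = ⊤ → H = ⊥ ∨ K = ⊥) (e : ((i : Fin m) → A i) ≃* ((j : Fin n) → B j)) : ∃ σ : Fin m ≃ Fin n, ∀ i, Nonempty (A i ≃* B (σ i)) := by
  exact unique m n A B hA hB e

end Cfsg.Agent.S4223
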