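import Cfsg.Statements.S4227
import Cfsg.Agent.Characters.Burnside
import Cfsg.Agent.PLocal.PSolvable
import Cfsg.Agent.SolvCrit.Splitting

set_option autoImplicit false
open Cfsg

set_option linter.style.haveILetI false

namespace Cfsg.Agent.S4227

open Subgroup

universe u

theorem isSolvable_of_exponent_six {G : Type u} [Group G] [Finite G] (h : ∀ x : G, x ^ 6 = 1) :
    Group.IsSolvable G := by
  have hp : ∀ r : ℕ, r.Prime → r ∣ Nat.card G → r = 2 ∨ r = 3 := by
    intro r hr hd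
    haveI := Fact.mk hr
    obtain ⟨x, hx⟩ := exists_prime_orderOf_dvd_card' r hd
    have h6 : r ∣ 6 := hx ▸ orderOf_dvd_of_pow_eq_one (h x)
    rcases (Nat.Prime.dvd_mul hr).1 (show r ∣ 2 * 3 from h6) with h2 | h3
    · exact Or.inl ((Nat.prime_dvd_prime_iff_eq hr Nat.prime_two).1 h2)
    · exact Or.inr ((Nat.prime_dvd_prime_iff_eq hr Nat.prime_three).1 h3)
  have hdvd : Nat.card G ∣ 2 ^ Nat.card G * 3 ^ Nat.card G := by
    rw [Nat.dvd_iff_prime_pow_dvd_dvd]
    intro r k hr hrk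
    rcases k.eq_zero_or_pos with rfl | hk
    · simp
    have hk' : k ≤ Nat.card G :=
      ((Nat.lt_pow_self hr.one_lt).le.trans (Nat.le_of_dvd Nat.card_pos hrk))
    rcases hp r hr ((dvd_pow_self r hk.ne').trans hrk) with rfl | rfl
    · exact Dvd.dvd.mul_right (pow_dvd_pow _ hk') _
    · exact Dvd.dvd.mul_left (pow_dvd_pow _ hk') _
  exact CfsgLib.Characters.isSolvable_of_card_eq_primePow_mul 2 3 _ _ Nat.prime_two Nat.prime_three hdvd

theorem pPrimeCore_quotient_eq_bot {p : ℕ} {G : Type u} [Group G] [Finite G] (U : Subgroup G)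
    [U.Normal] (hU : U = Cfsg.pPrimeCore p G) : Cfsg.pPrimeCore p (G ⧸ U) = ⊥ := by
  subst hU
  exact CfsgLib.PLocal.pPrimeCore_quotient_pPrimeCore_eq_bot p G

/-- Reduction of `p`-length one to groups without a normal `p'`-subgroup. -/
theorem pLengthLE_one {G : Type u} [Group G] [Finite G] {p : ℕ} [Fact p.Prime]
    (hW : ∀ (W : Type u) [Group W] [Finite W] (_ : ∃ f : G →* W, Function.Surjective f),
      Cfsg.pPrimeCore p W = ⊥ → ∀ P : Sylow p W, (P : Subgroup W) ≤ Cfsg.pCore p W) :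
    Cfsg.PLengthLE p 1 G := by
  set U₁ := (Cfsg.upperPSeries p G 1).1 with hU₁
  haveI : U₁.Normal := (Cfsg.upperPSeries p G 1).2
  have e1 : U₁ = Cfsg.pPrimeCore p G := by
    show (Cfsg.pPrimeCore p (G ⧸ (⊥ : Subgroup G))).comap (QuotientGroup.mk' ⊥) = _
    exact CfsgLib.PLocal.comap_pPrimeCore_quotient ⊥ (by simp)
  have hb := pPrimeCore_quotient_eq_bot U₁ e1
  let P : Sylow p (G ⧸ U₁) := default
  have hP := hW (G ⧸ U₁) ⟨_, QuotientGroup.mk'_surjective U₁⟩ hb P
  set U₂ := (Cfsg.upperPSeries p G 2).1 with hU₂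
  haveI : U₂.Normal := (Cfsg.upperPSeries p G 2).2
  have e2 : U₂ = (Cfsg.pCore p (G ⧸ U₁)).comap (QuotientGroup.mk' U₁) := rfl
  have hd : ¬ p ∣ U₂.index := by
    rw [e2, index_comap_of_surjective _ (QuotientGroup.mk'_surjective U₁)]
    exact fun hd => P.not_dvd_index (hd.trans (index_dvd_of_le hP))
  show (Cfsg.pPrimeCore p (G ⧸ U₂)).comap (QuotientGroup.mk' U₂) = ⊤
  rw [eq_top_iff]
  intro g _
  rw [mem_comap]
  exact le_sSup (show (⊤ : Subgroup (G ⧸ U₂)) ∈ {N : Subgroup (G ⧸ U₂) | N.Normal ∧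
    (Nat.card N).Coprime p} from ⟨inferInstance, by
      rw [card_top, ← index_eq_card]
      exact ((Fact.out : p.Prime).coprime_iff_not_dvd.2 hd).symm⟩) (mem_top _)

theorem centralize : ∀ (n : ℕ) (W : Type u) [Group W] [Finite W], Nat.card W = n →
    (∀ w : W, w ^ 6 = 1) → ∀ (O Q : Subgroup W) [O.Normal], IsPGroup 3 O → IsPGroup 2 Q →
    ∀ x : W, x ∈ normalizer (Q : Set W) → (∀ u ∈ Q, (u * x) ^ 3 = 1) → x ∉ Q →
    (∀ u ∈ Q, u * x ∉ O) →
    Q ≤ centralizer (O : Set W) := by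
  intro n
  induction n using Nat.strong_induction_on with
  | _ n ih =>
  intro W _ _ hn h6 O Q _ hO hQ x hxQ hspl hxnQ hne
  haveI := Fact.mk Nat.prime_three
  haveI := Fact.mk Nat.prime_two
  rcases eq_or_ne O ⊥ with rfl | hO1
  · intro u _ o ho
    rw [SetLike.mem_coe, mem_bot] at ho
    simp [ho]
  haveI := hO.isNilpotent
  haveI : Nontrivial O := (nontrivial_iff_ne_bot O).2 hO1
  set V := (center O).map O.subtype with hV
  haveI hVn : V.Normal := inferInstance
  have hV1 : V ≠ ⊥ := by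
    rw [hV, Ne, map_eq_bot_iff_of_injective _ O.subtype_injective]
    exact Group.IsNilpotent.center_ne_bot O
  have hVO : V ≤ O := map_subtype_le _
  have hVp : IsPGroup 3 V := hO.to_le hVO
  have hcop : ∀ (R : Subgroup W), IsPGroup 3 R → (Nat.card Q).Coprime (Nat.card R) := by
    intro R hR
    obtain ⟨a, ha⟩ := IsPGroup.iff_card.1 hQ
    obtain ⟨b, hb⟩ := IsPGroup.iff_card.1 hR
    rw [ha, hb]
    exact Nat.coprime_pow_primes _ _ Nat.prime_two Nat.prime_three (by omega)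
  have hVab : IsMulCommutative V := ⟨⟨by
    rintro ⟨_, a, ha, rfl⟩ ⟨_, b, hb, rfl⟩
    exact Subtype.ext (show (a : W) * b = b * a from congrArg Subtype.val ((mem_center_iff.1 hb) a))⟩⟩
  have h1 : Q ≤ centralizer (V : Set W) := by
    refine CfsgLib.SolvCrit.centralize_of_splitting Nat.prime_three hVab
      (by rw [normalizer_eq_top]; exact le_top) (by rw [normalizer_eq_top]; exact mem_top x) hxQ
      (fun u hu h => hne u hu (hVO h)) (fun u hu v hv => ?_) hxnQ (hcop V hVp)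
    set w := u * x with hw
    have hw3 : w ^ 3 = 1 := hspl u hu
    have hy : (v * w) ^ 3 ∈ V := by
      have e : (v * w) ^ 3 = v * (w * v * w⁻¹) * (w * (w * v * w⁻¹) * w⁻¹) * w ^ 3 := by
        simp only [pow_succ, pow_zero, one_mul]
        group
      rw [e, hw3, mul_one]
      exact mul_mem (mul_mem hv (hVn.conj_mem _ hv _)) (hVn.conj_mem _ (hVn.conj_mem _ hv _) _)
    obtain ⟨b, hb⟩ := IsPGroup.iff_orderOf.1 hVp ⟨_, hy⟩
    rw [Subgroup.orderOf_mk] at hb
    refine orderOf_eq_one_iff.1 (Nat.eq_one_of_dvd_coprimes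
      (Nat.coprime_pow_primes b 1 Nat.prime_three Nat.prime_two (by omega)) hb.dvd ?_)
    rw [pow_one]
    exact orderOf_dvd_of_pow_eq_one (by rw [← pow_mul]; exact h6 _)
  -- pass to the quotient
  set π := QuotientGroup.mk' V with hπ
  haveI : (O.map π).Normal := (inferInstance : O.Normal).map _ (QuotientGroup.mk'_surjective V)
  have hlt : Nat.card (W ⧸ V) < n := by
    rw [← hn, card_eq_card_quotient_mul_card_subgroup V]
    exact lt_mul_of_one_lt_right Nat.card_pos ((one_lt_card_iff_ne_bot V).2 hV1)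
  have hmemO : ∀ a, π a ∈ O.map π → a ∈ O := by
    rintro a ⟨o, ho, he⟩
    have h := QuotientGroup.eq.1 he
    simpa using mul_mem ho (hVO h)
  have h2 : Q.map π ≤ centralizer ((O.map π) : Set (W ⧸ V)) := by
    refine ih _ hlt _ rfl ?_ _ _ (hO.map _) (hQ.map _) (π x) (le_normalizer_map π ⟨x, hxQ, rfl⟩)
      ?_ ?_ ?_
    · intro w
      obtain ⟨a, rfl⟩ := QuotientGroup.mk'_surjective V w
      rw [← map_pow, h6, map_one]
    · rintro _ ⟨u, hu, rfl⟩
      rw [← map_mul, ← map_pow, hspl u hu, map_one]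
    · rintro ⟨u, hu, he⟩
      have h := QuotientGroup.eq.1 he
      exact hne u⁻¹ (inv_mem hu) (hVO h)
    · rintro _ ⟨u, hu, rfl⟩ hm
      rw [← map_mul] at hm
      exact hne u hu (hmemO _ hm)
  intro u hu o ho
  -- the displacement is central in `V`
  set d := u * o * u⁻¹ * o⁻¹ with hd
  have hdV : d ∈ V := by
    rw [← QuotientGroup.eq_one_iff]
    show π d = 1
    rw [hd, map_mul, map_mul, map_mul, map_inv, map_inv,
      ← h2 ⟨u, hu, rfl⟩ (π o) ⟨o, ho, rfl⟩]
    group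
  have hfix : u * d = d * u := (h1 hu d hdV).symm
  have hn' : ∀ k : ℕ, u ^ k * o * (u ^ k)⁻¹ = d ^ k * o := by
    intro k
    induction k with
    | zero => simp
    | succ k ih =>
      have hc : u * d ^ k = d ^ k * u := (show Commute u d from hfix).pow_right k
      calc u ^ (k + 1) * o * (u ^ (k + 1))⁻¹ = u * (u ^ k * o * (u ^ k)⁻¹) * u⁻¹ := by
            rw [pow_succ']; group
        _ = (u * d ^ k) * o * u⁻¹ := by rw [ih]; group
        _ = d ^ k * (u * o * u⁻¹) := by rw [hc]; group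
        _ = d ^ (k + 1) * o := by rw [hd, pow_succ]; group
  have h3 := hn' (orderOf u)
  rw [pow_orderOf_eq_one] at h3
  have hd1 : d ^ orderOf u = 1 := by simpa using h3.symm
  have hd2 : d = 1 := orderOf_eq_one_iff.1 (Nat.eq_one_of_dvd_coprimes
    (((hcop V hVp).coprime_dvd_left (orderOf_dvd_natCard Q hu)).coprime_dvd_right
      (orderOf_dvd_natCard V hdV)) (orderOf_dvd_of_pow_eq_one hd1) dvd_rfl)
  rw [hd, mul_inv_eq_one, mul_inv_eq_iff_eq_mul] at hd2
  exact hd2.symm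

theorem sylow_two_le {W : Type u} [Group W] [Finite W] [Fact (Nat.Prime 2)] (h : ∀ w : W, w ^ 6 = 1)
    (hb : Cfsg.pPrimeCore 2 W = ⊥) (P : Sylow 2 W) : (P : Subgroup W) ≤ Cfsg.pCore 2 W := by
  haveI := isSolvable_of_exponent_six h
  refine le_trans ?_ (CfsgLib.PLocal.centralizer_pCore_le
    (CfsgLib.PLocal.isPSolvable_of_isSolvable) hb)
  intro a ha o ho
  have hoP := CfsgLib.PLocal.pCore_le_sylow P ho
  have h2 : ∀ b ∈ (P : Subgroup W), b * b = 1 := by
    intro b hbP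
    obtain ⟨k, hk⟩ := IsPGroup.iff_orderOf.1 P.2 ⟨b, hbP⟩
    rw [Subgroup.orderOf_mk] at hk
    have hd : orderOf b ∣ 2 := (Nat.Coprime.dvd_of_dvd_mul_right
      (by rw [hk]; exact Nat.Coprime.pow_left _ (by norm_num))
      (show orderOf b ∣ 2 * 3 from orderOf_dvd_of_pow_eq_one (h b)))
    rw [← pow_two]
    exact orderOf_dvd_iff_pow_eq_one.1 hd
  have e1 := h2 _ (mul_mem hoP ha)
  have e2 := h2 o hoP
  have e3 := h2 a ha
  calc o * a = (o * a)⁻¹ := (eq_inv_of_mul_eq_one_left e1)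
    _ = a⁻¹ * o⁻¹ := by group
    _ = a * o := by rw [inv_eq_of_mul_eq_one_left e3, inv_eq_of_mul_eq_one_left e2]

theorem sylow_three_le {W : Type u} [Group W] [Finite W] [Fact (Nat.Prime 3)]
    (h : ∀ w : W, w ^ 6 = 1) (hb : Cfsg.pPrimeCore 3 W = ⊥) (P : Sylow 3 W) :
    (P : Subgroup W) ≤ Cfsg.pCore 3 W := by
  haveI := isSolvable_of_exponent_six h
  haveI := Fact.mk Nat.prime_two
  set O := Cfsg.pCore 3 W with hO
  haveI : O.Normal := Subgroup.sSup_normal _ fun _ h => h.1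
  have hOp : IsPGroup 3 O := CfsgLib.PLocal.isPGroup_pCore 3 W
  have hC := CfsgLib.PLocal.centralizer_pCore_le (CfsgLib.PLocal.isPSolvable_of_isSolvable) hb
  by_contra hPO
  set L := W ⧸ O
  set π := QuotientGroup.mk' O with hπ
  have hL3 : Cfsg.pCore 3 L = ⊥ := CfsgLib.PLocal.pCore_quotient_pCore_eq_bot 3 W
  obtain ⟨a, haP, haO⟩ := SetLike.not_le_iff_exists.1 hPO
  set A := Cfsg.pPrimeCore 3 L with hA
  have hA2 : ∀ l ∈ A, l * l = 1 := by
    intro l hl
    obtain ⟨w, rfl⟩ := QuotientGroup.mk'_surjective O l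
    have h6 : (QuotientGroup.mk' O w) ^ 6 = 1 := by rw [← map_pow, h, map_one]
    have hd : orderOf (QuotientGroup.mk' O w) ∣ 2 := Nat.Coprime.dvd_of_dvd_mul_right
      ((CfsgLib.PLocal.coprime_card_pPrimeCore 3 L).coprime_dvd_left (orderOf_dvd_natCard _ hl))
      (show orderOf (QuotientGroup.mk' O w) ∣ 2 * 3 from orderOf_dvd_of_pow_eq_one h6)
    rw [← pow_two]
    exact orderOf_dvd_iff_pow_eq_one.1 hd
  have hA1 : A ≠ ⊥ := by
    intro hA0
    haveI : Nontrivial L := QuotientGroup.nontrivial_iff.2 fun h' => haO (h' ▸ mem_top a)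
    rcases CfsgLib.PLocal.pCore_ne_bot_or_of_isPSolvable
      (CfsgLib.PLocal.isPSolvable_of_isSolvable (G := L) (p := 3)) with h1 | h1
    · exact h1 hL3
    · exact h1 hA0
  have hAp : IsPGroup 2 A := fun l => ⟨1, Subtype.ext (by
    rw [pow_one, pow_two]; exact hA2 l l.2)⟩
  haveI : A.Normal := Subgroup.sSup_normal _ fun _ h => h.1
  set B := A.comap π with hB
  haveI : B.Normal := inferInstance
  let S : Sylow 2 B := default
  set S' := (S : Subgroup B).map B.subtype with hS'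
  have hS2 : ∀ b ∈ S', b * b = 1 := by
    rintro _ ⟨b, hbS, rfl⟩
    obtain ⟨k, hk⟩ := IsPGroup.iff_orderOf.1 S.2 ⟨b, hbS⟩
    rw [Subgroup.orderOf_mk, ← orderOf_coe] at hk
    have hd : orderOf (b : W) ∣ 2 := Nat.Coprime.dvd_of_dvd_mul_right
      (by rw [hk]; exact Nat.Coprime.pow_left _ (by norm_num))
      (show orderOf (b : W) ∣ 2 * 3 from orderOf_dvd_of_pow_eq_one (h _))
    rw [← pow_two]
    exact orderOf_dvd_iff_pow_eq_one.1 hd
  have hScomm : ∀ s ∈ S', ∀ t ∈ S', s * t = t * s := by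
    intro s hs t ht
    have e1 := hS2 _ (mul_mem hs ht)
    calc s * t = (s * t)⁻¹ := (eq_inv_of_mul_eq_one_left e1)
      _ = t⁻¹ * s⁻¹ := by group
      _ = t * s := by
        rw [inv_eq_of_mul_eq_one_left (hS2 s hs), inv_eq_of_mul_eq_one_left (hS2 t ht)]
  -- `S'` maps onto `A`
  have hSA : S'.map π = A := by
    have hle : S'.map π ≤ A := by
      rintro _ ⟨_, ⟨b, _, rfl⟩, rfl⟩
      exact b.2
    refine eq_of_le_of_card_ge hle (Nat.le_of_dvd Nat.card_pos ?_)
    obtain ⟨k, hk⟩ := IsPGroup.iff_card.1 hAp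
    let f : B →* A := π.subgroupComap A
    have hf : Function.Surjective f := π.subgroupComap_surjective_of_surjective A
      (QuotientGroup.mk'_surjective O)
    have h1 := (S.mapSurjective hf).card_eq_multiplicity
    rw [Sylow.coe_mapSurjective, hk, Nat.Prime.factorization_pow Nat.prime_two,
      Finsupp.single_eq_same] at h1
    rw [hk, ← h1, ← card_map_of_injective A.subtype_injective, map_map, hS', map_map]
    exact dvd_rfl
  obtain ⟨y, hy, hyd⟩ : ∃ y ∈ normalizer (S' : Set W), π y = π a := by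
    have ha : a ∈ normalizer (S' : Set W) ⊔ B := by rw [Sylow.normalizer_sup_eq_top S]; exact mem_top a
    rw [sup_comm, ← SetLike.mem_coe, normal_mul] at ha
    obtain ⟨b, hb, m, hm, rfl⟩ := ha
    have hbA : π b ∈ S'.map π := by rw [hSA]; exact hb
    obtain ⟨s, hs, hse⟩ := hbA
    exact ⟨s * m, mul_mem (le_normalizer hs) hm, by rw [map_mul, map_mul, hse]⟩
  set x := y ^ 4 with hx
  have hxN : x ∈ normalizer (S' : Set W) := pow_mem hy 4
  have hx3 : x ^ 3 = 1 := by
    rw [hx, ← pow_mul, show 4 * 3 = 6 * 2 from rfl, pow_mul, h, one_pow]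
  have hπa : π a ≠ 1 := fun h' => haO ((QuotientGroup.eq_one_iff a).1 h')
  have ho3 : (π a) ^ 3 = 1 := by
    obtain ⟨k, hk⟩ := IsPGroup.iff_orderOf.1 P.2 ⟨a, haP⟩
    rw [Subgroup.orderOf_mk] at hk
    have hd : orderOf a ∣ 3 := Nat.Coprime.dvd_of_dvd_mul_left
      (by rw [hk]; exact Nat.Coprime.pow_left _ (by norm_num))
      (show orderOf a ∣ 2 * 3 from orderOf_dvd_of_pow_eq_one (h a))
    rw [← map_pow, orderOf_dvd_iff_pow_eq_one.1 hd, map_one]
  have hπx : π x = π a := by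
    rw [hx, map_pow, hyd, pow_succ, ho3, one_mul]
  -- the commutators with `x`
  have hxc : ∀ s ∈ S', x * s * x⁻¹ ∈ S' := fun s hs => (mem_normalizer_iff.1 hxN s).1 hs
  let Q : Subgroup W :=
    { carrier := {w | ∃ s ∈ S', w = s * (x * s * x⁻¹)}
      one_mem' := ⟨1, one_mem _, by simp⟩
      mul_mem' := by
        rintro _ _ ⟨s, hs, rfl⟩ ⟨t, ht, rfl⟩
        refine ⟨s * t, mul_mem hs ht, ?_⟩
        calc s * (x * s * x⁻¹) * (t * (x * t * x⁻¹))
            = s * ((x * s * x⁻¹) * t) * (x * t * x⁻¹) := by group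
          _ = s * (t * (x * s * x⁻¹)) * (x * t * x⁻¹) := by rw [hScomm _ (hxc s hs) t ht]
          _ = s * t * (x * (s * t) * x⁻¹) := by group
      inv_mem' := by
        rintro _ ⟨s, hs, rfl⟩
        refine ⟨s⁻¹, inv_mem hs, ?_⟩
        rw [mul_inv_rev, hScomm _ (inv_mem (hxc s hs)) _ (inv_mem hs)]
        group }
  have hQS : Q ≤ S' := by
    rintro _ ⟨s, hs, rfl⟩
    exact mul_mem hs (hxc s hs)
  have hnorm : x ∈ normalizer (Q : Set W) := by
    have key : ∀ z : W, (∀ s ∈ S', z * s * z⁻¹ ∈ S') → z * x = x * z → ∀ w ∈ Q, z * w * z⁻¹ ∈ Q := by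
      rintro z hz hzx _ ⟨s, hs, rfl⟩
      refine ⟨z * s * z⁻¹, hz s hs, ?_⟩
      calc z * (s * (x * s * x⁻¹)) * z⁻¹ = z * s * z⁻¹ * ((z * x) * s * (z * x)⁻¹) := by group
        _ = z * s * z⁻¹ * ((x * z) * s * (x * z)⁻¹) := by rw [hzx]
        _ = z * s * z⁻¹ * (x * (z * s * z⁻¹) * x⁻¹) := by group
    refine mem_normalizer_iff.2 fun w => ⟨key x hxc rfl w, fun hw => ?_⟩
    have h' := key x⁻¹ (fun s hs => by simpa using (mem_normalizer_iff''.1 hxN s).1 hs)
      (by group) _ hw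
    simpa [mul_assoc] using h'
  have hspl : ∀ u ∈ Q, (u * x) ^ 3 = 1 := by
    rintro _ ⟨s, hs, rfl⟩
    have c1 := hxc s hs
    have c2 := hxc _ c1
    set s₁ := x * s * x⁻¹ with hs1
    set s₂ := x * s₁ * x⁻¹ with hs2
    have hs3 : x * s₂ * x⁻¹ = s := by
      rw [hs2, hs1]
      calc x * (x * (x * s * x⁻¹) * x⁻¹) * x⁻¹ = x ^ 3 * s * (x ^ 3)⁻¹ := by
            simp only [pow_succ, pow_zero, one_mul]; group
        _ = s := by rw [hx3]; simp
    calc (s * s₁ * x) ^ 3
        = s * s₁ * (x * s * x⁻¹) * (x * s₁ * x⁻¹) * (x * (x * s * x⁻¹) * x⁻¹) *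
            (x * (x * s₁ * x⁻¹) * x⁻¹) * x ^ 3 := by
          simp only [pow_succ, pow_zero, one_mul]; group
      _ = s * (s₁ * s₁) * (s₂ * s₂) * s := by
          rw [← hs1, ← hs2, hs3, hx3, mul_one]; group
      _ = 1 := by rw [hS2 _ c1, hS2 _ c2, mul_one, mul_one, hS2 _ hs]
  have hxB : ∀ u ∈ S', u * x ∉ O := by
    intro u hu hmem
    have hu2 : π u * π u = 1 := by rw [← map_mul, hS2 u hu, map_one]
    have h1 : π u * π a = 1 := by
      rw [← hπx, ← map_mul]
      exact (QuotientGroup.eq_one_iff _).2 hmem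
    apply hπa
    have h2 : π a = π u := mul_left_cancel (h1.trans hu2.symm)
    calc π a = (π a) ^ 3 := by rw [pow_succ, pow_two, h2, hu2, one_mul]
      _ = 1 := ho3
  have hxQ : x ∉ Q := fun hmem => hxB x (hQS hmem) (by rw [hS2 x (hQS hmem)]; exact one_mem _)
  have hQO := centralize _ W rfl h O Q hOp ((S.2.map B.subtype).to_le hQS) x hnorm hspl hxQ
    (fun u hu => hxB u (hQS hu))
  -- so `Q` is trivial and `x` centralises `A`
  have hQ1 : ∀ u ∈ Q, u = 1 := by
    intro u hu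
    obtain ⟨k, hk⟩ := IsPGroup.iff_orderOf.1 hOp ⟨u, hC (hQO hu)⟩
    rw [Subgroup.orderOf_mk] at hk
    have h2 : orderOf u ∣ 2 := orderOf_dvd_of_pow_eq_one (by rw [pow_two]; exact hS2 u (hQS hu))
    exact orderOf_eq_one_iff.1 (Nat.eq_one_of_dvd_coprimes
      (Nat.coprime_pow_primes 1 k Nat.prime_two Nat.prime_three (by omega))
      (by rw [pow_one]; exact h2) hk.dvd)
  have hcent : π a ∈ centralizer (A : Set L) := by
    intro l hl
    rw [SetLike.mem_coe, ← hSA] at hl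
    obtain ⟨s, hs, rfl⟩ := hl
    rw [← hπx, ← map_mul, ← map_mul]
    congr 1
    have h1 := hQ1 _ ⟨s, hs, rfl⟩
    have h2 : s = x * s * x⁻¹ := mul_left_cancel ((hS2 s hs).trans h1.symm)
    calc s * x = (x * s * x⁻¹) * x := by rw [← h2]
      _ = x * s := by group
  -- `A` contains its centralizer
  haveI : (centralizer (A : Set L)).Normal := inferInstance
  have hCA : centralizer (A : Set L) ≤ A := by
    set C := centralizer (A : Set L) with hC'
    have hsolv : Cfsg.IsPSolvable 2 L := CfsgLib.PLocal.isPSolvable_of_isSolvable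
    have hcore : Cfsg.pPrimeCore 2 L = ⊥ := by
      by_contra hne
      have hp3 : IsPGroup 3 (Cfsg.pPrimeCore 2 L) := by
        rintro ⟨l, hl⟩
        obtain ⟨w, rfl⟩ := QuotientGroup.mk'_surjective O l
        refine ⟨1, Subtype.ext ?_⟩
        rw [pow_one]
        refine orderOf_dvd_iff_pow_eq_one.1 (Nat.Coprime.dvd_of_dvd_mul_left
          ((CfsgLib.PLocal.coprime_card_pPrimeCore 2 L).coprime_dvd_left (orderOf_dvd_natCard _ hl))
          (show orderOf (QuotientGroup.mk' O w) ∣ 2 * 3 from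
            orderOf_dvd_of_pow_eq_one (by rw [← map_pow, h, map_one])))
      haveI : (Cfsg.pPrimeCore 2 L).Normal := Subgroup.sSup_normal _ fun _ h => h.1
      exact hne (le_bot_iff.1 ((CfsgLib.PLocal.le_pCore hp3).trans hL3.le))
    have hA' : A = Cfsg.pCore 2 L := by
      apply le_antisymm
      · exact CfsgLib.PLocal.le_pCore hAp
      · haveI : (Cfsg.pCore 2 L).Normal := Subgroup.sSup_normal _ fun _ h => h.1
        refine CfsgLib.PLocal.le_pPrimeCore ?_
        obtain ⟨k, hk⟩ := IsPGroup.iff_card.1 (CfsgLib.PLocal.isPGroup_pCore 2 L)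
        rw [hk]
        exact Nat.Coprime.pow_left _ (by norm_num)
    rw [hC', hA']
    exact CfsgLib.PLocal.centralizer_pCore_le hsolv hcore
  have h2a : π a * π a = 1 := hA2 _ (hCA hcent)
  apply hπa
  calc π a = (π a * π a) * π a := by rw [h2a, one_mul]
    _ = (π a) ^ 3 := by simp only [pow_succ, pow_zero, one_mul]
    _ = 1 := ho3


/-- A finite group in which every element has order dividing `6` has `2`-length at most `1` and `3`-length at most `1`. -/
theorem result {G : Type*} [Group G] [Finite G] (h : ∀ x : G, x ^ 6 = 1) : Cfsg.PLengthLE 2 1 G ∧ Cfsg.PLengthLE 3 1 G := by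
  haveI := Fact.mk Nat.prime_two
  haveI := Fact.mk Nat.prime_three
  refine ⟨pLengthLE_one fun W _ _ ⟨f, hf⟩ hb P => ?_, pLengthLE_one fun W _ _ ⟨f, hf⟩ hb P => ?_⟩
  · refine sylow_two_le (fun w => ?_) hb P
    obtain ⟨g, rfl⟩ := hf w
    rw [← map_pow, h, map_one]
  · refine sylow_three_le (fun w => ?_) hb P
    obtain ⟨g, rfl⟩ := hf w
    rw [← map_pow, h, map_one]

end Cfsg.Agent.S4227
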