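import Cfsg.Statements.S4230

set_option autoImplicit false
open Cfsg

set_option linter.style.haveILetI false

namespace Cfsg.Agent.S4230


/-- Let p be an odd prime, q a natural number not divisible by p, and e the multiplicative order of q modulo p. For a natural number f, p divides the value at q of the f-th cyclotomic polynomial if and only if f = e·p^j for some j ≥ 0. -/
theorem result (p q f : ℕ) (hp : p.Prime) (hp2 : p ≠ 2) (hpq : ¬ p ∣ q) :
    ((p : ℤ) ∣ (Polynomial.cyclotomic f ℤ).eval (q : ℤ)) ↔ ∃ j : ℕ, f = orderOf (q : ZMod p) * p ^ j := by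
  haveI := Fact.mk hp
  have hq0 : (q : ZMod p) ≠ 0 := by
    rwa [Ne, ZMod.natCast_eq_zero_iff]
  have he : 0 < orderOf (q : ZMod p) := by
    have := ZMod.orderOf_dvd_card_sub_one hq0
    exact Nat.pos_of_dvd_of_pos this (by have := hp.two_le; omega)
  have hed : ¬ p ∣ orderOf (q : ZMod p) := fun h => by
    have h2 : 2 ≤ p := hp.two_le
    have h3 : p ∣ p - 1 := h.trans (ZMod.orderOf_dvd_card_sub_one hq0)
    have h4 : p ≤ p - 1 := Nat.le_of_dvd (by omega) h3
    omega
  have hiff : ((p : ℤ) ∣ (Polynomial.cyclotomic f ℤ).eval (q : ℤ)) ↔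
      (Polynomial.cyclotomic f (ZMod p)).IsRoot (q : ZMod p) := by
    rw [← ZMod.intCast_zmod_eq_zero_iff_dvd, Polynomial.IsRoot.def,
      ← Polynomial.map_cyclotomic_int f (ZMod p), Polynomial.eval_map, Polynomial.eval₂_at_natCast]
    simp
  rw [hiff]
  rcases eq_or_ne f 0 with rfl | hf
  · constructor
    · simp
    · rintro ⟨j, hj⟩
      exact absurd hj.symm (Nat.mul_pos he (pow_pos hp.pos j)).ne'
  obtain ⟨k, m, hm, rfl⟩ := Nat.exists_eq_pow_mul_and_not_dvd hf p hp.ne_one
  haveI : NeZero (m : ZMod p) := ⟨by rwa [Ne, ZMod.natCast_eq_zero_iff]⟩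
  rw [Polynomial.isRoot_cyclotomic_prime_pow_mul_iff_of_charP, IsPrimitiveRoot.iff_orderOf]
  constructor
  · rintro rfl; exact ⟨k, mul_comm _ _⟩
  · rintro ⟨j, hj⟩
    have hc1 : Nat.Coprime m (p ^ j) := (hp.coprime_iff_not_dvd.2 hm).symm.pow_right _
    have hc2 : Nat.Coprime (orderOf (q : ZMod p)) (p ^ k) :=
      (hp.coprime_iff_not_dvd.2 hed).symm.pow_right _
    apply Nat.dvd_antisymm
    · exact hc2.dvd_of_dvd_mul_left ⟨p ^ j, hj⟩
    · exact hc1.dvd_of_dvd_mul_right (hj ▸ dvd_mul_left m _)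

end Cfsg.Agent.S4230
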