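import Cfsg.Statements.S4231
import Cfsg.Agent.AutAlt.Basic

set_option autoImplicit false
open Cfsg

namespace Cfsg.Agent.S4231

open Equiv Equiv.Perm CfsgLib.AutAlt

variable {n : ℕ}

local notation "A" => alternatingGroup (Fin n)

theorem conjNormal_injective (hn : 5 ≤ n) :
    Function.Injective (MulAut.conjNormal : Perm (Fin n) →* MulAut A) := by
  rw [injective_iff_map_eq_one]
  intro σ hσ
  ext a
  by_contra ha
  have ha' : σ a ≠ a := fun h => ha (by rw [h]; rfl)
  obtain ⟨b, c, hb, hc, hbc⟩ :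
      ∃ b c, b ∉ ({a, σ a} : Finset (Fin n)) ∧ c ∉ ({a, σ a} : Finset (Fin n)) ∧ b ≠ c := by
    have : 1 < (({a, σ a} : Finset (Fin n))ᶜ).card := by
      rw [Finset.card_compl, Fintype.card_fin]
      have := Finset.card_le_two (a := a) (b := σ a)
      omega
    obtain ⟨b, hb, c, hc, hbc⟩ := Finset.one_lt_card.mp this
    exact ⟨b, c, Finset.mem_compl.1 hb, Finset.mem_compl.1 hc, hbc⟩
  simp only [Finset.mem_insert, Finset.mem_singleton, not_or] at hb hc
  have hg := cyc_isThreeCycle (Ne.symm hb.1) (Ne.symm hc.1) hbc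
  have h := congrArg (fun e : MulAut A => ((e ⟨_, hg.mem_alternatingGroup⟩ : A) : Perm (Fin n))) hσ
  simp only [MulAut.conjNormal_apply, MulAut.one_apply, conj_cyc] at h
  have h2 := Perm.ext_iff.mp h (σ a)
  rw [cyc_apply_left (σ.injective.ne (Ne.symm hb.1)) (σ.injective.ne (Ne.symm hc.1)),
    cyc_apply_of_ne (a := a) ha' (Ne.symm hb.2) (Ne.symm hc.2)] at h2
  exact hb.1 (σ.injective h2)

/-- A `q`-subgroup of `Perm (Fin n)` with `n < q²` is commutative. -/
theorem commute_of_lt_sq {q : ℕ} [Fact q.Prime] (hnq : n < q ^ 2) {S : Subgroup (Perm (Fin n))}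
    (hS : IsPGroup q S) (a b : S) : a * b = b * a := by
  suffices h : ∀ x : Fin n, (a * b * a⁻¹ * b⁻¹) • x = x by
    have h1 : a * b * a⁻¹ * b⁻¹ = 1 := by
      apply Subtype.ext
      ext x
      exact congrArg Fin.val (h x)
    calc a * b = (a * b * a⁻¹ * b⁻¹) * (b * a) := by group
      _ = b * a := by rw [h1, one_mul]
  intro x
  obtain ⟨k, hk⟩ := hS.index (MulAction.stabilizer S x)
  have hle : q ^ k ≤ n := by
    rw [← hk, MulAction.index_stabilizer]
    exact (Set.ncard_le_card _).trans (le_of_eq (Nat.card_fin n))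
  have hk2 : k < 2 := (Nat.pow_lt_pow_iff_right (Fact.out : q.Prime).one_lt).1 (hle.trans_lt hnq)
  rcases (show k = 0 ∨ k = 1 by omega) with rfl | rfl
  · rw [pow_zero, Subgroup.index_eq_one] at hk
    exact MulAction.mem_stabilizer_iff.1 (hk ▸ Subgroup.mem_top _)
  rw [pow_one] at hk
  obtain ⟨m, hm⟩ := IsPGroup.iff_card.1 hS
  have hm0 : m ≠ 0 := by
    intro h0
    have := Subgroup.index_dvd_card (MulAction.stabilizer S x)
    rw [hk, hm, h0, pow_zero] at this
    exact (Fact.out : q.Prime).ne_one (Nat.dvd_one.1 this)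
  have hN : (MulAction.stabilizer S x).Normal := by
    refine Subgroup.normal_of_index_eq_minFac_card ?_
    rw [hk, hm, Nat.pow_minFac hm0, (Fact.out : q.Prime).minFac_eq]
  have : IsCyclic (S ⧸ MulAction.stabilizer S x) :=
    isCyclic_of_prime_card (p := q) (by rw [← Subgroup.index, hk])
  have hcomm : ((a : S ⧸ MulAction.stabilizer S x)) * b = b * a :=
    (IsCyclic.commGroup).mul_comm _ _
  apply MulAction.mem_stabilizer_iff.1
  rw [← QuotientGroup.eq_one_iff, QuotientGroup.mk_mul, QuotientGroup.mk_mul, QuotientGroup.mk_mul,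
    QuotientGroup.mk_inv, QuotientGroup.mk_inv, hcomm]
  group

/-- Conjugacy in degree six of the elements of order three that are not three-cycles. -/
theorem isConj_double (h6 : n = 6) {d e : A} (hd : orderOf d = 3) (he : orderOf e = 3)
    (hd' : ¬ (d : Perm (Fin n)).IsThreeCycle) (he' : ¬ (e : Perm (Fin n)).IsThreeCycle) :
    IsConj d e := by
  subst h6
  have hct : ∀ g : alternatingGroup (Fin 6), orderOf g = 3 → ¬ (g : Perm (Fin 6)).IsThreeCycle →
      (g : Perm (Fin 6)).cycleType = {3, 3} := by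
    intro g hg hg'
    rw [← Subgroup.orderOf_coe] at hg
    obtain ⟨k, hk⟩ := Perm.cycleType_prime_order (by rw [hg]; exact Nat.prime_three)
    rw [hg] at hk
    have hs : (g : Perm (Fin 6)).cycleType.sum ≤ 6 := by
      rw [Perm.sum_cycleType]; exact (Finset.card_le_univ _).trans (by simp)
    rw [hk, Multiset.sum_replicate, smul_eq_mul] at hs
    rcases (show k = 0 ∨ k = 1 by omega) with rfl | rfl
    · exact absurd hk hg'
    · exact hk
  set d₀ : Perm (Fin 6) := cyc 0 1 2 * cyc 3 4 5 with hd₀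
  set τ : Perm (Fin 6) := Equiv.swap 0 3 * Equiv.swap 1 4 * Equiv.swap 2 5 with hτ
  have hτd : τ * d₀ * τ⁻¹ = d₀ := by rw [hτ, hd₀]; decide
  have hτs : Perm.sign τ = -1 := by
    simp only [hτ, map_mul]
    rw [Perm.sign_swap (by decide), Perm.sign_swap (by decide), Perm.sign_swap (by decide)]
    decide
  have hd₀c : d₀.cycleType = {3, 3} := by
    have hdis : (cyc (0 : Fin 6) 1 2).Disjoint (cyc 3 4 5) := by
      intro x; fin_cases x <;> decide
    rw [hd₀, hdis.cycleType_mul, (cyc_isThreeCycle (by decide) (by decide) (by decide)).cycleType,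
      (cyc_isThreeCycle (by decide) (by decide) (by decide)).cycleType]
    rfl
  have key : ∀ g : alternatingGroup (Fin 6), orderOf g = 3 → ¬ (g : Perm (Fin 6)).IsThreeCycle →
      ∃ c : alternatingGroup (Fin 6), (c : Perm (Fin 6)) * d₀ * (c : Perm (Fin 6))⁻¹ = g := by
    intro g hg hg'
    obtain ⟨σ, hσ⟩ := isConj_iff.1 (Perm.isConj_of_cycleType_eq (hd₀c.trans (hct g hg hg').symm))
    rcases Int.units_eq_one_or (Perm.sign σ) with hs | hs
    · exact ⟨⟨σ, Perm.mem_alternatingGroup.2 hs⟩, hσ⟩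
    · refine ⟨⟨σ * τ, Perm.mem_alternatingGroup.2 (by rw [map_mul, hs, hτs]; decide)⟩, ?_⟩
      show σ * τ * d₀ * (σ * τ)⁻¹ = g
      rw [mul_inv_rev, show σ * τ * d₀ * (τ⁻¹ * σ⁻¹) = σ * (τ * d₀ * τ⁻¹) * σ⁻¹ by group, hτd, hσ]
  obtain ⟨c, hc⟩ := key d hd hd'
  obtain ⟨c', hc'⟩ := key e he he'
  refine isConj_iff.2 ⟨c' * c⁻¹, Subtype.ext ?_⟩
  simp only [Subgroup.coe_mul, InvMemClass.coe_inv, ← hc, ← hc']
  group

theorem isThreeCycle_of_isConj {g h : A} (hc : IsConj g h)
    (hg : (g : Perm (Fin n)).IsThreeCycle) : (h : Perm (Fin n)).IsThreeCycle := by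
  have h1 : IsConj (g : Perm (Fin n)) (h : Perm (Fin n)) :=
    (alternatingGroup (Fin n)).subtype.map_isConj hc
  rw [Perm.isConj_iff_cycleType_eq] at h1
  exact h1.symm.trans hg

/-- An automorphism of odd order preserves the three-cycles. -/
theorem preserves_of_odd (hn : 5 ≤ n) {φ : MulAut A} (hφ : Odd (orderOf φ)) (g : A)
    (hg : (g : Perm (Fin n)).IsThreeCycle) : ((φ g : A) : Perm (Fin n)).IsThreeCycle := by
  by_cases h6 : n = 6
  swap
  · exact isThreeCycle_map φ (by simpa using h6) hg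
  have h5 : 5 ≤ Nat.card (Fin n) := by simpa using hn
  have hord : ∀ t : A, (t : Perm (Fin n)).IsThreeCycle → orderOf t = 3 := fun t ht => by
    rw [← Subgroup.orderOf_coe]; exact ht.orderOf
  by_contra hng
  -- `φ` sends three-cycles outside the three-cycles and conversely
  have h1 : ∀ t : A, (t : Perm (Fin n)).IsThreeCycle → ¬ ((φ t : A) : Perm (Fin n)).IsThreeCycle := by
    intro t ht hcon
    have hc : IsConj (φ t) (φ g) :=
      φ.toMonoidHom.map_isConj (alternatingGroup.isThreeCycle_isConj h5 ht hg)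
    exact hng (isThreeCycle_of_isConj hc hcon)
  have h2 : ∀ t : A, orderOf t = 3 → ¬ (t : Perm (Fin n)).IsThreeCycle →
      ((φ t : A) : Perm (Fin n)).IsThreeCycle := by
    intro t ht hnt
    -- `t` is conjugate to the image of a three-cycle
    have hc : IsConj (φ g) t :=
      isConj_double h6 (by rw [φ.orderOf_eq]; exact hord g hg) ht hng hnt
    obtain ⟨c, hc⟩ := isConj_iff.1 hc
    have hpre : IsConj g (φ.symm t) := by
      refine isConj_iff.2 ⟨φ.symm c, ?_⟩
      rw [← hc, map_mul, map_mul, map_inv, φ.symm_apply_apply]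
    have h3 : ((φ.symm t : A) : Perm (Fin n)).IsThreeCycle := isThreeCycle_of_isConj hpre hg
    by_contra hcon
    have h4 : IsConj (φ g) (φ t) :=
      isConj_double h6 (by rw [φ.orderOf_eq]; exact hord g hg) (by rw [φ.orderOf_eq]; exact ht)
        hng hcon
    obtain ⟨c, hc⟩ := isConj_iff.1 h4
    rw [← φ.apply_symm_apply c, ← map_inv, ← map_mul, ← map_mul, φ.injective.eq_iff] at hc
    exact hnt (isThreeCycle_of_isConj (isConj_iff.2 ⟨_, hc⟩) hg)
  have h2i : ∀ i : ℕ, (((φ ^ (2 * i)) g : A) : Perm (Fin n)).IsThreeCycle := by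
    intro i
    induction i with
    | zero => exact hg
    | succ i ih =>
      rw [show 2 * (i + 1) = 1 + (1 + 2 * i) by ring, pow_add, pow_add, pow_one, MulAut.mul_apply,
        MulAut.mul_apply]
      exact h2 _ (by rw [φ.orderOf_eq]; exact hord _ ih) (h1 _ ih)
  obtain ⟨j, hj⟩ := hφ
  have h3 := h1 _ (h2i j)
  rw [← MulAut.mul_apply, ← pow_succ', ← hj, pow_orderOf_eq_one, MulAut.one_apply] at h3
  exact h3 hg

theorem sylow_commutative (hn : 5 ≤ n) (G : Subgroup (MulAut A)) {q : ℕ} [Fact q.Prime]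
    (hq2 : q ≠ 2) (hnq : n < q ^ 2) (Q : Sylow q G) : IsMulCommutative (Q : Subgroup G) := by
  set Q' : Subgroup (MulAut A) := (Q : Subgroup G).map G.subtype with hQ'
  have hQp : IsPGroup q Q' := Q.2.map _
  set S := Q'.comap (MulAut.conjNormal : Perm (Fin n) →* MulAut A) with hS
  have hSp : IsPGroup q S := hQp.comap_of_injective _ (conjNormal_injective hn)
  have hsur : ∀ φ ∈ Q', ∃ σ ∈ S, MulAut.conjNormal σ = φ := by
    intro φ hφ
    obtain ⟨k, hk⟩ := hQp ⟨φ, hφ⟩
    obtain ⟨i, -, hi⟩ := (Nat.dvd_prime_pow (Fact.out : q.Prime)).1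
      (orderOf_dvd_of_pow_eq_one (congrArg Subtype.val hk : φ ^ q ^ k = 1))
    have hodd : Odd (orderOf φ) := hi ▸ ((Fact.out : q.Prime).odd_of_ne_two hq2).pow
    obtain ⟨σ, hσ⟩ := exists_conj_of_preserves φ (by simpa using (by omega : 4 ≤ n))
      (preserves_of_odd hn hodd)
    have heq : MulAut.conjNormal σ = φ := MulEquiv.ext fun g => Subtype.ext (by
      rw [MulAut.conjNormal_apply]
      exact (hσ g).symm)
    exact ⟨σ, by rw [hS, Subgroup.mem_comap, heq]; exact hφ, heq⟩
  refine ⟨⟨fun a b => ?_⟩⟩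
  apply Subtype.ext
  apply Subtype.ext
  obtain ⟨s, hs, hsa⟩ := hsur ((a : G) : MulAut A) ⟨a, a.2, rfl⟩
  obtain ⟨t, ht, htb⟩ := hsur ((b : G) : MulAut A) ⟨b, b.2, rfl⟩
  show ((a : G) : MulAut A) * ((b : G) : MulAut A) = ((b : G) : MulAut A) * ((a : G) : MulAut A)
  have hst : s * t = t * s := congrArg Subtype.val (commute_of_lt_sq hnq hSp ⟨s, hs⟩ ⟨t, ht⟩)
  rw [← hsa, ← htb, ← map_mul, ← map_mul, hst]

theorem exists_orderOf (hn : 5 ≤ n) (G : Subgroup (MulAut A))
    (hG : (MulAut.conj : A →* MulAut A).range ≤ G) (m : Multiset ℕ)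
    (hsum : m.sum ≤ n) (h2 : ∀ a ∈ m, 2 ≤ a) (heven : Even (m.sum + Multiset.card m)) :
    ∃ g : G, orderOf g = m.lcm := by
  obtain ⟨g, hg⟩ := (Perm.exists_with_cycleType_iff (Fin n)).2 ⟨by simpa using hsum, h2⟩
  have hA : g ∈ A := by
    rw [Perm.mem_alternatingGroup, Perm.sign_of_cycleType, hg, heven.neg_one_pow]
  refine ⟨⟨MulAut.conjNormal g, hG ⟨⟨g, hA⟩, ?_⟩⟩, ?_⟩
  · refine MulEquiv.ext fun x => Subtype.ext ?_
    rw [MulAut.conjNormal_apply]
    rfl
  · rw [← Subgroup.orderOf_coe]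
    show orderOf (MulAut.conjNormal g) = _
    rw [orderOf_injective _ (conjNormal_injective hn), ← Perm.lcm_cycleType, hg]

/-- Let n ≥ 5 and let G be a group of automorphisms of the alternating group of degree n containing all inner automorphisms. If p ≠ q are primes and G has no element of order pq, then every Sylow p-subgroup of G is abelian or every Sylow q-subgroup of G is abelian. -/
theorem result (n : ℕ) (hn : 5 ≤ n) (G : Subgroup (MulAut (alternatingGroup (Fin n))))
    (hG : (MulAut.conj : alternatingGroup (Fin n) →* MulAut (alternatingGroup (Fin n))).range ≤ G)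
    (p q : ℕ) [Fact p.Prime] [Fact q.Prime] (hpq : p ≠ q) (h : ∀ g : G, orderOf g ≠ p * q) :
    (∀ P : Sylow p G, IsMulCommutative (P : Subgroup G)) ∨ (∀ Q : Sylow q G, IsMulCommutative (Q : Subgroup G)) := by
  have hp := (Fact.out : p.Prime)
  have hq := (Fact.out : q.Prime)
  have hlp : Nat.lcm p q = p * q := ((Nat.coprime_primes hp hq).2 hpq).lcm_eq_mul
  -- elements of order `pq` in the alternating group
  have hodd : p ≠ 2 → q ≠ 2 → n < p + q := by
    intro hp2 hq2
    by_contra hle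
    obtain ⟨g, hg⟩ := exists_orderOf hn G hG {p, q} (by simp; omega)
      (by simp [hp.two_le, hq.two_le])
      (by
        have h1 := (hp.odd_of_ne_two hp2).add_odd (hq.odd_of_ne_two hq2)
        simpa [Nat.even_add_one] using h1)
    exact h g (hg.trans (by simp [lcm_eq_nat_lcm, hlp]))
  have htwo : ∀ r : ℕ, r.Prime → r ≠ 2 → (∀ g : G, orderOf g ≠ 2 * r) → n < r ^ 2 := by
    intro r hr hr2 hgr
    have h3 : 3 ≤ r := by have := hr.two_le; omega
    have hlt : n < 4 + r := by
      by_contra hle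
      obtain ⟨g, hg⟩ := exists_orderOf hn G hG {2, 2, r} (by simp; omega) (by simp [hr.two_le])
        (by
          obtain ⟨j, hj⟩ := hr.odd_of_ne_two hr2
          refine ⟨j + 4, ?_⟩
          simp
          omega)
      apply hgr g
      rw [hg]
      have hl : Nat.lcm 2 r = 2 * r :=
        ((Nat.coprime_primes Nat.prime_two hr).2 (Ne.symm hr2)).lcm_eq_mul
      simp [lcm_eq_nat_lcm, hl]
    nlinarith
  by_cases hp2 : p = 2
  · subst hp2
    exact Or.inr fun Q => sylow_commutative hn G (Ne.symm hpq)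
      (htwo q hq (Ne.symm hpq) h) Q
  by_cases hq2 : q = 2
  · subst hq2
    exact Or.inl fun P => sylow_commutative hn G hpq
      (htwo p hp hpq (fun g => by rw [mul_comm]; exact h g)) P
  have h3p : 3 ≤ p := by have := hp.two_le; omega
  have h3q : 3 ≤ q := by have := hq.two_le; omega
  have hlt := hodd hp2 hq2
  rcases lt_or_gt_of_ne hpq with hl | hl
  · exact Or.inr fun Q => sylow_commutative hn G hq2 (by nlinarith) Q
  · exact Or.inl fun P => sylow_commutative hn G hp2 (by nlinarith) P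

end Cfsg.Agent.S4231
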