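import Cfsg.Statements.S4233
import Cfsg.Agent.MaxNormalizer.Extension

set_option autoImplicit false
open Cfsg

namespace Cfsg.Agent.S4233

/-- Let G be a finite non-solvable group in which every subgroup H that is not subnormal and whose order has at most two prime divisors has a normalizer N_G(H) that is a maximal subgroup of G. Then G is the internal direct product of normal subgroups K and S with K isomorphic to PSL(2, 13) or to SL(2, 13), S abelian, and the orders of K and S coprime. -/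
theorem result {G : Type*} [Group G] [Finite G] (hG : ¬ Group.IsSolvable G)
    (h : ∀ H : Subgroup G, ¬ H.IsSubnormal →
      (∃ p q : ℕ, p.Prime ∧ q.Prime ∧ ∀ r : ℕ, r.Prime → r ∣ Nat.card H → r = p ∨ r = q) →
      IsCoatom (Subgroup.normalizer (H : Set G))) :
    ∃ K S : Subgroup G, K.Normal ∧ S.Normal ∧ K ⊓ S = ⊥ ∧ K ⊔ S = ⊤ ∧
      (Nonempty (K ≃* Matrix.ProjectiveSpecialLinearGroup (Fin 2) (ZMod 13)) ∨
        Nonempty (K ≃* Matrix.SpecialLinearGroup (Fin 2) (ZMod 13))) ∧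
      IsMulCommutative S ∧ (Nat.card K).Coprime (Nat.card S) := by
  classical
  haveI : Fact (Nat.Prime 13) := ⟨by norm_num⟩
  have hyp := CfsgLib.MaxNormalizer.Hyp.mk' hG h
  obtain ⟨L, hLn, hLR, hperf, hcomm⟩ := hyp.exists_residual
  haveI := hLn
  obtain ⟨hQs, hQc⟩ := hyp.quotient.simple_card
  haveI := hQs
  set R := CfsgLib.Components.solvRadical G with hRdef
  obtain ⟨eQ⟩ := Cfsg.Agent.S0498.result (G := G ⧸ R) 13 (Or.inr rfl)
    (by rw [hQc]; norm_num) (F := ZMod 13) (ZMod.card 13)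
  set σ := eQ.toMonoidHom.comp ((QuotientGroup.mk' R).comp L.subtype) with hσdef
  have hσ : Function.Surjective σ := by
    refine eQ.surjective.comp fun v => ?_
    obtain ⟨g, rfl⟩ := QuotientGroup.mk'_surjective R v
    have hg : g ∈ L ⊔ R := hLR ▸ Subgroup.mem_top g
    rw [← SetLike.mem_coe, Subgroup.normal_mul] at hg
    obtain ⟨l, hl, s, hs, rfl⟩ := hg
    refine ⟨⟨l, hl⟩, ?_⟩
    show QuotientGroup.mk' R l = QuotientGroup.mk' R (l * s)
    rw [map_mul, show QuotientGroup.mk' R s = 1 from (QuotientGroup.eq_one_iff s).2 hs, mul_one]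
  have hker : ∀ l : L, l ∈ σ.ker ↔ (l : G) ∈ R := fun l => by
    rw [MonoidHom.mem_ker, hσdef]
    show eQ (QuotientGroup.mk' R (l : G)) = 1 ↔ _
    rw [MulEquiv.map_eq_one_iff, QuotientGroup.mk'_apply, QuotientGroup.eq_one_iff]
  obtain ⟨hk, hiso⟩ := CfsgLib.MaxNormalizer.stem_thirteen σ hσ
    (fun z hz => Subgroup.mem_center_iff.2 fun l => Subtype.ext (hcomm l l.2 z ((hker z).1 hz)).eq)
    (by
      refine Subgroup.map_injective L.subtype_injective ?_
      rw [Subgroup.map_subtype_commutator, hperf, ← MonoidHom.range_eq_map, Subgroup.range_subtype])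
  have hk0 : 0 < Nat.card σ.ker := Nat.card_pos
  have hcard : Nat.card L = 1092 * Nat.card σ.ker := by
    rw [σ.ker.card_eq_card_quotient_mul_card_subgroup,
      Nat.card_congr (QuotientGroup.quotientKerEquivOfSurjective σ hσ).toEquiv,
      CfsgLib.MaxNormalizer.card_PSL_thirteen]
  have hZ : ∀ z ∈ L, z ∈ R → z * z = 1 := by
    intro z hzL hzR
    have h1 : (⟨⟨z, hzL⟩, (hker _).2 hzR⟩ : σ.ker) ^ 2 = 1 := by
      refine orderOf_dvd_iff_pow_eq_one.1 ((orderOf_dvd_natCard _).trans ?_)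
      rcases (show Nat.card σ.ker = 1 ∨ Nat.card σ.ker = 2 by omega) with e | e <;> rw [e] <;> norm_num
    rw [← pow_two]
    exact congrArg (fun w : σ.ker => ((w : L) : G)) h1
  have hL : 1092 ∣ Nat.card L := hcard ▸ dvd_mul_right _ _
  have hab := CfsgLib.MaxNormalizer.radical_comm hyp L hLR hcomm hZ hL
  let S : Subgroup G :=
    { carrier := {r | r ∈ R ∧ Odd (orderOf r)}
      one_mem' := ⟨one_mem R, by simp⟩
      mul_mem' := fun {a b} ha hb => ⟨mul_mem ha.1 hb.1,
        Odd.of_dvd_nat (ha.2.mul hb.2)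
          ((hab a ha.1 b hb.1).orderOf_mul_dvd_lcm.trans (Nat.lcm_dvd_mul _ _))⟩
      inv_mem' := fun {a} ha => ⟨inv_mem ha.1, by rw [orderOf_inv]; exact ha.2⟩ }
  have hcen : ∀ s ∈ S, ∀ g : G, Commute g s := by
    intro s hs g
    have hg : g ∈ L ⊔ R := hLR ▸ Subgroup.mem_top g
    rw [← SetLike.mem_coe, Subgroup.normal_mul] at hg
    obtain ⟨l, hl, r, hr, rfl⟩ := hg
    exact (hcomm l hl s hs.1).mul_left (hab r hr s hs.1)
  refine ⟨L, S, hLn, ⟨fun s hs g => ?_⟩, ?_, ?_, hiso,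
    ⟨⟨fun a b => Subtype.ext (hcen b b.2 a).eq⟩⟩, ?_⟩
  · rw [(hcen s hs g).eq, mul_inv_cancel_right]
    exact hs
  · refine (Subgroup.eq_bot_iff_forall _).2 fun z hz => ?_
    obtain ⟨hzL, hzR, hzo⟩ := hz
    exact orderOf_eq_one_iff.1 (Nat.eq_one_of_dvd_coprimes hzo.coprime_two_left
      (orderOf_dvd_of_pow_eq_one (by rw [pow_two, hZ z hzL hzR])) dvd_rfl)
  · refine top_unique (hLR.ge.trans (sup_le le_sup_left fun r hr => ?_))
    obtain ⟨a, b, ha, hb, ⟨k, hk'⟩, hbo, rfl⟩ := CfsgLib.MaxNormalizer.exists_parts r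
    exact mul_mem (Subgroup.mem_sup_left (CfsgLib.MaxNormalizer.two_mem_residual hyp L hLR hcomm hZ hL
        ((Subgroup.zpowers_le.2 hr) ha) hk'))
      (Subgroup.mem_sup_right ⟨(Subgroup.zpowers_le.2 hr) hb, hbo⟩)
  · refine Nat.coprime_of_dvd fun q hq hqL hqS => ?_
    haveI := Fact.mk hq
    obtain ⟨s, hs⟩ := exists_prime_orderOf_dvd_card' (G := S) q hqS
    obtain ⟨hsR, hso⟩ := s.2
    have hsq : orderOf (s : G) = q := by rw [Subgroup.orderOf_coe, hs]
    rw [hsq] at hso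
    have hq2 : q ≠ 2 := fun e => by subst e; exact absurd hso (by decide)
    refine CfsgLib.MaxNormalizer.orderOf_ne_of_dvd hyp L hLR hcomm hZ hL hsR hq hq2 ?_ hsq
    rw [hcard] at hqL
    refine (hq.dvd_mul.1 hqL).resolve_right fun h2 => hq2 ?_
    have hle := Nat.le_of_dvd hk0 h2
    have := hq.two_le
    omega

end Cfsg.Agent.S4233
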