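import Cfsg.Statements.S4234
import Cfsg.Agent.Linear.SL2Sylow
import Cfsg.Agent.Linear.Perfect

set_option autoImplicit false
set_option linter.style.haveILetI false
set_option linter.unusedSectionVars false
open Cfsg

namespace Cfsg.Agent.S4234

open Subgroup

/-! ## A simple group of order 1092 has maximal normalizers -/

section Order1092

variable {G : Type*} [Group G] [Finite G] [IsSimpleGroup G]

omit [IsSimpleGroup G] in
theorem sylow_card (hG : Nat.card G = 1092) {r : ℕ} [Fact r.Prime] (P : Sylow r G) {e : ℕ}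
    (he : r ^ e ∣ 1092) (he' : ¬ r ^ (e + 1) ∣ 1092) : Nat.card (P : Subgroup G) = r ^ e := by
  obtain ⟨k, hk⟩ := IsPGroup.iff_card.1 P.2
  have h1 : r ^ k ∣ 1092 := hG ▸ hk ▸ card_subgroup_dvd_card _
  have h2 : r ^ e ∣ r ^ k := hk ▸ P.pow_dvd_card_of_pow_dvd_card (hG ▸ he)
  have h3 := (Nat.pow_dvd_pow_iff_le_right (Fact.out : r.Prime).one_lt).1 h2
  rcases eq_or_lt_of_le h3 with h4 | h4
  · exact h4 ▸ hk
  · exact absurd ((pow_dvd_pow r h4).trans h1) he'

theorem card_le (hG : Nat.card G = 1092) {M : Subgroup G} (hM : M ≠ ⊤) : Nat.card M ≤ 84 := by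
  have hnc : M.normalCore = ⊥ :=
    (M.normalCore_normal.eq_bot_or_eq_top).resolve_right fun h =>
      hM (top_le_iff.1 (h ▸ M.normalCore_le))
  have hinj : Function.Injective (MulAction.toPermHom G (G ⧸ M)) := by
    rw [← MonoidHom.ker_eq_bot_iff, ← normalCore_eq_ker, hnc]
  have hdvd : Nat.card G ∣ M.index.factorial := by
    rw [index_eq_card, ← Nat.card_perm]
    exact card_dvd_of_injective _ hinj
  rw [hG] at hdvd
  have h13 : 13 ≤ M.index :=
    (Nat.Prime.dvd_factorial (by norm_num : Nat.Prime 13)).1 ((by norm_num : 13 ∣ 1092).trans hdvd)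
  have h := M.card_mul_index
  rw [hG] at h
  nlinarith

theorem not_le_centralizer {r : ℕ} [Fact r.Prime] (P : Sylow r G)
    (h1 : (P : Subgroup G) ≠ ⊥) (h2 : (P : Subgroup G) ≠ ⊤) :
    ¬ normalizer ((P : Subgroup G) : Set G) ≤ centralizer ((P : Subgroup G) : Set G) := by
  intro h
  have hc := MonoidHom.ker_transferSylow_isComplement' P h
  rcases (MonoidHom.transferSylow P h).normal_ker.eq_bot_or_eq_top with hk | hk
  · rw [hk, isComplement'_bot_left] at hc
    exact h2 hc
  · rw [hk, isComplement'_top_left] at hc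
    exact h1 hc

/-- A subgroup of order `n` divisible by `r` whose only possible Sylow number is one lies between
a Sylow subgroup of `G` and its normalizer. -/
theorem exists_sylow_le (hG : Nat.card G = 1092) {r : ℕ} [Fact r.Prime] (hr : r ∣ 1092)
    (hr' : ¬ r ^ 2 ∣ 1092) {M : Subgroup G} (hd : r ∣ Nat.card M)
    (hn : ∀ d, d ∣ Nat.card M / r → d % r = 1 → d = 1) :
    ∃ Q : Sylow r G, (Q : Subgroup G) ≤ M ∧ M ≤ normalizer ((Q : Subgroup G) : Set G) := by
  obtain ⟨Q₀⟩ : Nonempty (Sylow r M) := inferInstance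
  have hQ₀ : Nat.card (Q₀ : Subgroup M) = r := by
    obtain ⟨k, hk⟩ := IsPGroup.iff_card.1 Q₀.2
    have h1 : r ^ k ∣ 1092 := hG ▸ hk ▸
      ((card_subgroup_dvd_card _).trans (card_subgroup_dvd_card M))
    have h2 : r ^ 1 ∣ r ^ k := hk ▸ Q₀.pow_dvd_card_of_pow_dvd_card (by rwa [pow_one])
    have h3 := (Nat.pow_dvd_pow_iff_le_right (Fact.out : r.Prime).one_lt).1 h2
    rcases eq_or_lt_of_le h3 with h4 | h4
    · rw [hk, ← h4, pow_one]
    · exact absurd ((pow_dvd_pow r h4).trans h1) hr'
  have hidx : (Q₀ : Subgroup M).index = Nat.card M / r := by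
    rw [← (Q₀ : Subgroup M).card_mul_index, hQ₀,
      Nat.mul_div_cancel_left _ (Fact.out : r.Prime).pos]
  have hone : Nat.card (Sylow r M) = 1 := by
    refine hn _ (hidx ▸ Q₀.card_dvd_index) ?_
    have := card_sylow_modEq_one r M
    rwa [Nat.ModEq, Nat.mod_eq_of_lt (Fact.out : r.Prime).one_lt] at this
  obtain ⟨hs, -⟩ := Nat.card_eq_one_iff_unique.1 hone
  obtain ⟨Q, hQ⟩ := (Q₀.2.map M.subtype).exists_le_sylow
  have hQeq : (Q₀ : Subgroup M).map M.subtype = (Q : Subgroup G) := by
    refine eq_of_le_of_card_ge hQ ?_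
    rw [card_map_of_injective M.subtype_injective, hQ₀,
      sylow_card hG Q (e := 1) (by rwa [pow_one]) hr', pow_one]
  refine ⟨Q, hQeq ▸ map_subtype_le _, fun m hm => ?_⟩
  haveI hQn : (Q₀ : Subgroup M).Normal := Q₀.normal_of_subsingleton
  rw [mem_normalizer_iff, ← hQeq]
  intro x
  simp only [mem_map, coe_subtype]
  constructor
  · rintro ⟨y, hy, rfl⟩
    exact ⟨⟨m, hm⟩ * y * ⟨m, hm⟩⁻¹, hQn.conj_mem y hy _, rfl⟩
  · rintro ⟨y, hy, hyx⟩
    refine ⟨⟨m, hm⟩⁻¹ * y * ⟨m, hm⟩, ?_, ?_⟩
    · simpa using hQn.conj_mem y hy ⟨m, hm⟩⁻¹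
    · rw [coe_mul, coe_mul, InvMemClass.coe_inv, hyx]
      group

theorem card_normalizer_eq (hG : Nat.card G = 1092) {r : ℕ} [Fact r.Prime] (Q : Sylow r G) :
    Nat.card (normalizer ((Q : Subgroup G) : Set G)) * Nat.card (Sylow r G) = 1092 ∧
      Nat.card (Sylow r G) % r = 1 := by
  refine ⟨?_, ?_⟩
  · rw [Q.card_eq_index_normalizer, ← hG]
    exact card_mul_index _
  · have := card_sylow_modEq_one r G
    rwa [Nat.ModEq, Nat.mod_eq_of_lt (Fact.out : r.Prime).one_lt] at this

theorem normalizer_ne_top (hG : Nat.card G = 1092) {r : ℕ} [Fact r.Prime] (Q : Sylow r G)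
    (hr : r ∣ 1092) : normalizer ((Q : Subgroup G) : Set G) ≠ ⊤ := by
  intro h
  have hN : (Q : Subgroup G).Normal := normalizer_eq_top_iff.1 h
  have hd : r ∣ Nat.card (Q : Subgroup G) := by
    simpa using Q.pow_dvd_card_of_pow_dvd_card (n := 1) (by rw [pow_one, hG]; exact hr)
  rcases hN.eq_bot_or_eq_top with h1 | h1
  · rw [h1, Subgroup.card_bot] at hd
    exact (Fact.out : r.Prime).ne_one (Nat.dvd_one.1 hd)
  · obtain ⟨k, hk⟩ := IsPGroup.iff_card.1 Q.2
    rw [h1, card_top, hG] at hk
    have h3 : (2 : ℕ) ∣ r ^ k := hk ▸ (by norm_num)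
    have h4 : (3 : ℕ) ∣ r ^ k := hk ▸ (by norm_num)
    have h5 := (Nat.prime_dvd_prime_iff_eq Nat.prime_two Fact.out).1
      (Nat.prime_two.dvd_of_dvd_pow h3)
    have h6 := (Nat.prime_dvd_prime_iff_eq Nat.prime_three Fact.out).1
      (Nat.prime_three.dvd_of_dvd_pow h4)
    omega

theorem card_normalizer_seven (hG : Nat.card G = 1092) [Fact (Nat.Prime 7)] (Q : Sylow 7 G) :
    Nat.card (normalizer ((Q : Subgroup G) : Set G)) = 14 := by
  obtain ⟨h1, h2⟩ := card_normalizer_eq hG Q
  have hle := card_le hG (normalizer_ne_top hG Q (by norm_num))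
  have h7 : 7 ∣ Nat.card (normalizer ((Q : Subgroup G) : Set G)) := by
    have := card_dvd_of_le (le_normalizer (H := (Q : Subgroup G)))
    rwa [sylow_card hG Q (e := 1) (by norm_num) (by norm_num), pow_one] at this
  obtain ⟨c, hc⟩ := h7
  rw [hc] at h1 hle ⊢
  have hb : Nat.card (Sylow 7 G) ≤ 156 := by
    rcases Nat.eq_zero_or_pos c with rfl | hc0
    · simp at h1
    · nlinarith
  have h3 : c ≤ 12 := by omega
  generalize Nat.card (Sylow 7 G) = n at h1 h2 hb
  interval_cases c <;> omega

theorem card_normalizer_thirteen (hG : Nat.card G = 1092) [Fact (Nat.Prime 13)]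
    (Q : Sylow 13 G) : Nat.card (normalizer ((Q : Subgroup G) : Set G)) = 78 := by
  obtain ⟨h1, h2⟩ := card_normalizer_eq hG Q
  have hle := card_le hG (normalizer_ne_top hG Q (by norm_num))
  have h13 : 13 ∣ Nat.card (normalizer ((Q : Subgroup G) : Set G)) := by
    have := card_dvd_of_le (le_normalizer (H := (Q : Subgroup G)))
    rwa [sylow_card hG Q (e := 1) (by norm_num) (by norm_num), pow_one] at this
  obtain ⟨c, hc⟩ := h13
  rw [hc] at h1 hle ⊢
  have h3 : c ≤ 6 := by omega
  generalize Nat.card (Sylow 13 G) = n at h1 h2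
  interval_cases c <;> omega

theorem card_cases (hG : Nat.card G = 1092) [Fact (Nat.Prime 7)] [Fact (Nat.Prime 13)]
    {M : Subgroup G} (hM : M ≠ ⊤) :
    Nat.card M ∣ 12 ∨ Nat.card M ∣ 14 ∨ Nat.card M ∣ 78 := by
  have hle := card_le hG hM
  have hdvd : Nat.card M ∣ 1092 := hG ▸ card_subgroup_dvd_card M
  by_cases h7 : 7 ∣ Nat.card M
  · obtain ⟨c, hc⟩ := h7
    have hc12 : c ≤ 12 := by omega
    obtain ⟨Q, -, hQ⟩ := exists_sylow_le hG (r := 7) (by norm_num) (by norm_num)
      (M := M) ⟨c, hc⟩ (by
        intro d hd hd1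
        rw [hc, Nat.mul_div_cancel_left _ (by norm_num : 0 < 7)] at hd
        have hd12 : d ≤ c := Nat.le_of_dvd (by
          have := Nat.card_pos (α := M)
          omega) hd
        rw [hc] at hdvd
        have : d = 1 ∨ d = 8 := by omega
        rcases this with rfl | rfl
        · rfl
        · obtain ⟨e, rfl⟩ := hd
          have h8 : 8 ∣ 1092 := (Dvd.intro e rfl).trans ((dvd_mul_left (8 * e) 7).trans hdvd)
          norm_num at h8)
    exact Or.inr (Or.inl (card_normalizer_seven hG Q ▸ card_dvd_of_le hQ))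
  by_cases h13 : 13 ∣ Nat.card M
  · obtain ⟨c, hc⟩ := h13
    obtain ⟨Q, -, hQ⟩ := exists_sylow_le hG (r := 13) (by norm_num) (by norm_num)
      (M := M) ⟨c, hc⟩ (by
        intro d hd hd1
        rw [hc, Nat.mul_div_cancel_left _ (by norm_num : 0 < 13)] at hd
        have hd6 : d ≤ c := Nat.le_of_dvd (by
          have := Nat.card_pos (α := M)
          omega) hd
        omega)
    exact Or.inr (Or.inr (card_normalizer_thirteen hG Q ▸ card_dvd_of_le hQ))
  left
  have h1 : (Nat.card M).Coprime (7 * 13) := by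
    rw [Nat.coprime_mul_iff_right]
    exact ⟨((Fact.out : Nat.Prime 7).coprime_iff_not_dvd.2 h7).symm,
      ((Fact.out : Nat.Prime 13).coprime_iff_not_dvd.2 h13).symm⟩
  exact h1.dvd_of_dvd_mul_left (show Nat.card M ∣ 7 * 13 * 12 from hdvd)

theorem isCoatom_of_card (hG : Nat.card G = 1092) [Fact (Nat.Prime 7)] [Fact (Nat.Prime 13)]
    {M : Subgroup G} (hM : M ≠ ⊤)
    (h : Nat.card M = 12 ∨ Nat.card M = 14 ∨ Nat.card M = 78) : IsCoatom M := by
  refine ⟨hM, fun L hL => ?_⟩
  by_contra hLt
  have hd := card_dvd_of_le hL.le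
  have hlt : Nat.card M < Nat.card L := lt_of_le_of_ne (card_le_of_le hL.le)
    fun he => hL.ne (eq_of_le_of_card_ge hL.le he.ge)
  have hpos : 0 < Nat.card L := Nat.card_pos
  obtain ⟨c, hc⟩ := hd
  rcases card_cases hG hLt with hL' | hL' | hL'
  all_goals
    have hle := Nat.le_of_dvd (by norm_num) hL'
    rcases h with h | h | h <;> rw [h] at hc hlt <;> (try omega)
  all_goals
    rw [hc] at hL' hle
    have hc2 : c ≤ 6 := by omega
    interval_cases c <;> omega

theorem card_normalizer_three (hG : Nat.card G = 1092) [Fact (Nat.Prime 7)]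
    [Fact (Nat.Prime 13)] [Fact (Nat.Prime 3)] (P : Sylow 3 G) :
    Nat.card (normalizer ((P : Subgroup G) : Set G)) = 12 := by
  obtain ⟨h1, h2⟩ := card_normalizer_eq hG P
  have hne := normalizer_ne_top hG P (by norm_num)
  have hPc : Nat.card (P : Subgroup G) = 3 :=
    sylow_card hG P (e := 1) (by norm_num) (by norm_num)
  have h3 : 3 ∣ Nat.card (normalizer ((P : Subgroup G) : Set G)) := by
    have := card_dvd_of_le (le_normalizer (H := (P : Subgroup G)))
    rwa [hPc] at this
  have hP1 : (P : Subgroup G) ≠ ⊥ := by intro h; rw [h, Subgroup.card_bot] at hPc; omega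
  have hP2 : (P : Subgroup G) ≠ ⊤ := by intro h; rw [h, card_top, hG] at hPc; omega
  -- the normalizer is not the Sylow subgroup itself
  have hne3 : Nat.card (normalizer ((P : Subgroup G) : Set G)) ≠ 3 := by
    intro hm
    apply not_le_centralizer P hP1 hP2
    rw [← eq_of_le_of_card_ge le_normalizer (hm.trans hPc.symm).le]
    haveI : IsCyclic (P : Subgroup G) := isCyclic_of_prime_card hPc
    intro x hx
    rw [mem_centralizer_iff]
    intro y hy
    exact congrArg Subtype.val ((IsCyclic.commGroup).mul_comm (⟨y, hy⟩ : (P : Subgroup G)) ⟨x, hx⟩)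
  rcases card_cases hG hne with hN | hN | hN
  · obtain ⟨c, hc⟩ := h3
    rw [hc] at hN h1 hne3 ⊢
    have hc4 : c ≤ 4 := by
      have := Nat.le_of_dvd (by norm_num) hN
      omega
    generalize Nat.card (Sylow 3 G) = n at h1 h2
    interval_cases c <;> omega
  · exact absurd (h3.trans hN) (by norm_num)
  · obtain ⟨c, hc⟩ := h3
    have hcle : c ≤ 26 := by
      have := Nat.le_of_dvd (by norm_num) hN
      omega
    by_cases h13 : 13 ∣ Nat.card (normalizer ((P : Subgroup G) : Set G))
    swap
    · rw [hc] at hN h13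
      have h6 : 3 * c ∣ 6 := by
        have : Nat.Coprime (3 * c) 13 :=
          ((Fact.out : Nat.Prime 13).coprime_iff_not_dvd.2 h13).symm
        exact this.dvd_of_dvd_mul_left (show 3 * c ∣ 13 * 6 from hN)
      have := Nat.le_of_dvd (by norm_num) h6
      rw [hc] at h1 hne3 ⊢
      generalize Nat.card (Sylow 3 G) = n at h1 h2
      have : c ≤ 2 := by omega
      interval_cases c <;> omega
    -- a group of order 39 would centralise a Sylow 13-subgroup
    exfalso
    have hNc : Nat.card (normalizer ((P : Subgroup G) : Set G)) = 39 := by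
      obtain ⟨d, hd⟩ := h13
      rw [hd] at hN h1 hc ⊢
      have : d ≤ 6 := by
        have := Nat.le_of_dvd (by norm_num) hN
        omega
      generalize Nat.card (Sylow 3 G) = n at h1 h2
      interval_cases d <;> omega
    set M := normalizer ((P : Subgroup G) : Set G) with hM
    obtain ⟨Q, hQM, hMQ⟩ := exists_sylow_le hG (r := 13) (by norm_num) (by norm_num) (M := M)
      h13 (by
        rw [hNc]
        intro d hd hd1
        have := Nat.le_of_dvd (by norm_num) hd
        omega)
    have hQc : Nat.card (Q : Subgroup G) = 13 :=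
      sylow_card hG Q (e := 1) (by norm_num) (by norm_num)
    set C := centralizer ((Q : Subgroup G) : Set G) with hC
    have hdisj : (P : Subgroup G) ⊓ (Q : Subgroup G) = ⊥ :=
      inf_eq_bot_of_coprime (by rw [hPc, hQc]; norm_num)
    have hPC : (P : Subgroup G) ≤ C := by
      intro x hx
      rw [hC, mem_centralizer_iff]
      intro y hy
      have h1 : x * y * x⁻¹ * y⁻¹ ∈ (P : Subgroup G) ⊓ (Q : Subgroup G) := by
        refine mem_inf.2 ⟨?_, ?_⟩
        · rw [mul_assoc x y, mul_assoc x]
          exact mul_mem hx ((mem_normalizer_iff.1 (hQM hy) _).1 (inv_mem hx))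
        · exact mul_mem ((mem_normalizer_iff.1 (hMQ (le_normalizer hx)) _).1 hy) (inv_mem hy)
      rw [hdisj, mem_bot] at h1
      calc y * x = (x * y * x⁻¹ * y⁻¹) * (y * x) := by rw [h1, one_mul]
        _ = x * y := by group
    have hQC : (Q : Subgroup G) ≤ C := by
      intro x hx
      rw [hC, mem_centralizer_iff]
      haveI : IsCyclic (Q : Subgroup G) := isCyclic_of_prime_card hQc
      intro y hy
      exact congrArg Subtype.val ((IsCyclic.commGroup).mul_comm (⟨y, hy⟩ : (Q : Subgroup G)) ⟨x, hx⟩)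
    have hQ78 := card_normalizer_thirteen hG Q
    have hCle : C ≤ normalizer ((Q : Subgroup G) : Set G) := centralizer_le_normalizer _
    have hQ1 : (Q : Subgroup G) ≠ ⊥ := by intro h; rw [h, Subgroup.card_bot] at hQc; omega
    have hQ2 : (Q : Subgroup G) ≠ ⊤ := by intro h; rw [h, card_top, hG] at hQc; omega
    have hC39 : Nat.card C = 39 := by
      have ha : Nat.card C ∣ 78 := hQ78 ▸ card_dvd_of_le hCle
      have hb : 3 ∣ Nat.card C := hPc ▸ card_dvd_of_le hPC
      have hc' : 13 ∣ Nat.card C := hQc ▸ card_dvd_of_le hQC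
      have hd : Nat.card C ≠ 78 := fun he =>
        not_le_centralizer Q hQ1 hQ2 (eq_of_le_of_card_ge hCle (hQ78.trans he.symm).le).ge
      obtain ⟨d, hd'⟩ := hc'
      rw [hd'] at ha hb hd ⊢
      have : d ≤ 6 := by
        have := Nat.le_of_dvd (by norm_num) ha
        omega
      interval_cases d <;> omega
    have hsup : (P : Subgroup G) ⊔ Q = C := by
      refine eq_of_le_of_card_ge (sup_le hPC hQC) ?_
      rw [hC39]
      refine Nat.le_of_dvd Nat.card_pos ((Nat.Coprime.mul_dvd_of_dvd_of_dvd
        (by norm_num : Nat.Coprime 3 13)) ?_ ?_)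
      · have := card_dvd_of_le (le_sup_left : (P : Subgroup G) ≤ (P : Subgroup G) ⊔ Q)
        rwa [hPc] at this
      · have := card_dvd_of_le (le_sup_right : (Q : Subgroup G) ≤ (P : Subgroup G) ⊔ Q)
        rwa [hQc] at this
    have hCM : C ≤ M := hsup ▸ sup_le le_normalizer hQM
    -- `P` is normalised by the whole normalizer of `Q`
    have : normalizer ((Q : Subgroup G) : Set G) ≤ M := by
      intro g hg
      refine Sylow.smul_eq_iff_mem_normalizer.1 ?_
      apply Sylow.ext
      have hle : ((g • P : Sylow 3 G) : Subgroup G) ≤ C := by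
        rintro _ ⟨x, hx, rfl⟩
        show g * x * g⁻¹ ∈ C
        rw [hC, mem_centralizer_iff]
        intro y hy
        have hy' : g⁻¹ * y * g ∈ (Q : Subgroup G) := (mem_normalizer_iff''.1 hg y).1 hy
        have hxy := mem_centralizer_iff.1 (hPC hx) _ hy'
        calc y * (g * x * g⁻¹) = g * (g⁻¹ * y * g * x) * g⁻¹ := by group
          _ = g * (x * (g⁻¹ * y * g)) * g⁻¹ := by rw [hxy]
          _ = g * x * g⁻¹ * y := by group
      have h3 : ((g • P : Sylow 3 G) : Subgroup G) ⊓ M =
          ((g • P : Sylow 3 G) : Subgroup G) ⊓ (P : Subgroup G) :=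
        (g • P).2.inf_normalizer_sylow P
      rw [inf_eq_left.2 (hle.trans hCM)] at h3
      exact ((g • P).3 P.2 (inf_eq_left.1 h3.symm)).symm
    have := card_le_of_le this
    omega

theorem card_centralizer_involution (hG : Nat.card G = 1092) [Fact (Nat.Prime 7)]
    [Fact (Nat.Prime 13)] [Fact (Nat.Prime 3)] [Fact (Nat.Prime 2)] :
    (∀ V : Sylow 2 G, Nat.card (normalizer ((V : Subgroup G) : Set G)) = 12) ∧
      ∀ t : G, orderOf t = 2 → Nat.card (centralizer ({t} : Set G)) = 12 := by
  have hV4 : ∀ V : Sylow 2 G, Nat.card (V : Subgroup G) = 4 := fun V =>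
    sylow_card hG V (e := 2) (by norm_num) (by norm_num)
  have hVcomm : ∀ (V : Sylow 2 G), ∀ a ∈ (V : Subgroup G), ∀ b ∈ (V : Subgroup G),
      a * b = b * a := by
    intro V a ha b hb
    exact congrArg Subtype.val
      (IsPGroup.commutative_of_card_eq_prime_sq (p := 2) (by rw [hV4 V]; rfl) ⟨a, ha⟩ ⟨b, hb⟩)
  have hfour : ∀ {M : Subgroup G}, M ≠ ⊤ → 4 ∣ Nat.card M →
      Nat.card M = 4 ∨ Nat.card M = 12 := by
    intro M hM h4
    rcases card_cases hG hM with h | h | h
    · obtain ⟨c, hc⟩ := h4
      rw [hc] at h ⊢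
      have : c ≤ 3 := by
        have := Nat.le_of_dvd (by norm_num) h
        omega
      interval_cases c <;> omega
    · exact absurd (h4.trans h) (by norm_num)
    · exact absurd (h4.trans h) (by norm_num)
  have hN : ∀ V : Sylow 2 G, Nat.card (normalizer ((V : Subgroup G) : Set G)) = 12 ∧
      ∀ x ∈ normalizer ((V : Subgroup G) : Set G),
        x ∈ centralizer ((V : Subgroup G) : Set G) → x ∈ (V : Subgroup G) := by
    intro V
    have hne := normalizer_ne_top hG V (by norm_num)
    have hd : 4 ∣ Nat.card (normalizer ((V : Subgroup G) : Set G)) :=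
      hV4 V ▸ card_dvd_of_le le_normalizer
    have hV1 : (V : Subgroup G) ≠ ⊥ := by
      intro h; have := hV4 V; rw [h, Subgroup.card_bot] at this; omega
    have hV2 : (V : Subgroup G) ≠ ⊤ := by
      intro h; have := hV4 V; rw [h, card_top, hG] at this; omega
    have hnc := not_le_centralizer V hV1 hV2
    have hVC : (V : Subgroup G) ≤ centralizer ((V : Subgroup G) : Set G) := fun a ha =>
      mem_centralizer_iff.2 fun b hb => hVcomm V b hb a ha
    have hCne : centralizer ((V : Subgroup G) : Set G) ≠ ⊤ := fun h => hnc (h ▸ le_top)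
    have h12 : Nat.card (normalizer ((V : Subgroup G) : Set G)) = 12 := by
      rcases hfour hne hd with h | h
      · exfalso
        apply hnc
        rw [← eq_of_le_of_card_ge le_normalizer (h.trans (hV4 V).symm).le]
        exact hVC
      · exact h
    refine ⟨h12, fun x _ hx => ?_⟩
    have hdc : 4 ∣ Nat.card (centralizer ((V : Subgroup G) : Set G)) :=
      hV4 V ▸ card_dvd_of_le hVC
    rcases hfour hCne hdc with h | h
    · exact eq_of_le_of_card_ge hVC (h.trans (hV4 V).symm).le ▸ hx
    · exact absurd (eq_of_le_of_card_ge (centralizer_le_normalizer _) (h12.trans h.symm).le).ge hnc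
  refine ⟨fun V => (hN V).1, ?_⟩
  -- two nontrivial elements of a Sylow 2-subgroup are conjugate
  have hconj : ∀ V : Sylow 2 G, ∀ a ∈ (V : Subgroup G), ∀ b ∈ (V : Subgroup G),
      a ≠ 1 → b ≠ 1 → IsConj a b := by
    intro V a ha b hb ha1 hb1
    obtain ⟨⟨x, hxN⟩, hx⟩ := exists_prime_orderOf_dvd_card'
      (G := normalizer ((V : Subgroup G) : Set G)) 3 (by rw [(hN V).1]; norm_num)
    rw [← orderOf_coe] at hx
    simp only at hx
    have hxV : x ∉ (V : Subgroup G) := fun h => by
      have h2 := orderOf_dvd_natCard (⟨x, h⟩ : (V : Subgroup G))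
      rw [← orderOf_coe, hx, hV4 V] at h2
      norm_num at h2
    classical
    haveI := Fintype.ofFinite G
    let f : G → G := fun v => x * v * x⁻¹
    have hf : ∀ v ∈ (V : Subgroup G), f v ∈ (V : Subgroup G) := fun v hv =>
      (mem_normalizer_iff.1 hxN v).1 hv
    have hfinj : Function.Injective f := fun u v h => by simpa [f] using h
    have hf3 : ∀ v, f (f (f v)) = v := by
      intro v
      have h3 : x ^ 3 = 1 := hx ▸ pow_orderOf_eq_one x
      calc f (f (f v)) = x ^ 3 * v * (x ^ 3)⁻¹ := by simp [f, pow_three, mul_assoc]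
        _ = v := by rw [h3]; group
    have hcard : (((V : Subgroup G) : Set G).toFinset).card = 4 := by
      rw [Set.toFinset_card, ← Nat.card_eq_fintype_card]
      exact hV4 V
    -- a fixed nontrivial element would make `x` centralise `V`
    have hnofix : ∀ v ∈ (V : Subgroup G), v ≠ 1 → f v ≠ v := by
      intro v hv hv1 hfv
      apply hxV ((hN V).2 x hxN ?_)
      rw [mem_centralizer_iff]
      intro w hw
      by_contra hne
      have hfw : f w ≠ w := fun h => hne (by
        have h2 := congrArg (· * x) h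
        simpa [f, mul_assoc] using h2.symm)
      have hw1 : w ≠ 1 := fun h => hne (by rw [h, one_mul, mul_one])
      have hwv : w ≠ v := fun h => hfw (h ▸ hfv)
      have hsub : ({1, v, w, f w, f (f w)} : Finset G) ⊆ ((V : Subgroup G) : Set G).toFinset := by
        intro y hy
        simp only [Finset.mem_insert, Finset.mem_singleton] at hy
        rw [Set.mem_toFinset]
        rcases hy with rfl | rfl | rfl | rfl | rfl
        exacts [one_mem _, hv, hw, hf _ hw, hf _ (hf _ hw)]
      have h5 : ({1, v, w, f w, f (f w)} : Finset G).card = 5 := by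
        have e1 : f 1 = 1 := by simp [f]
        have a1 : f w ≠ 1 := fun h => hw1 (hfinj (h.trans e1.symm))
        have a2 : f (f w) ≠ 1 := fun h => a1 (hfinj (h.trans e1.symm))
        have a3 : f w ≠ v := fun h => hwv (hfinj (h.trans hfv.symm))
        have a4 : f (f w) ≠ v := fun h => a3 (hfinj (h.trans hfv.symm))
        have a5 : f (f w) ≠ w := fun h => hfw (by
          have := hf3 w
          rwa [h] at this)
        have a6 : f (f w) ≠ f w := fun h => hfw (hfinj h)
        simp [Finset.card_insert_of_notMem, hv1.symm, hw1.symm, a1.symm, a2.symm, hwv.symm,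
          a3.symm, a4.symm, hfw.symm, a5.symm, a6.symm]
      have := Finset.card_le_card hsub
      omega
    have e1 : f 1 = 1 := by simp [f]
    have a1 : f a ≠ 1 := fun h => ha1 (hfinj (h.trans e1.symm))
    have a2 : f (f a) ≠ 1 := fun h => a1 (hfinj (h.trans e1.symm))
    have a3 : f a ≠ a := hnofix a ha ha1
    have a4 : f (f a) ≠ f a := fun h => a3 (hfinj h)
    have a5 : f (f a) ≠ a := fun h => a3 (by
      have := hf3 a
      rwa [h] at this)
    have hset : ({1, a, f a, f (f a)} : Finset G) = ((V : Subgroup G) : Set G).toFinset := by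
      refine Finset.eq_of_subset_of_card_le ?_ ?_
      · intro y hy
        simp only [Finset.mem_insert, Finset.mem_singleton] at hy
        rw [Set.mem_toFinset]
        rcases hy with rfl | rfl | rfl | rfl
        exacts [one_mem _, ha, hf _ ha, hf _ (hf _ ha)]
      · rw [hcard]
        simp [Finset.card_insert_of_notMem, ha1.symm, a1.symm, a2.symm, a3.symm, a4.symm,
          a5.symm]
    have hbm : b ∈ ({1, a, f a, f (f a)} : Finset G) := by
      rw [hset, Set.mem_toFinset]; exact hb
    simp only [Finset.mem_insert, Finset.mem_singleton] at hbm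
    rcases hbm with h | h | h | h
    · exact absurd h hb1
    · exact h ▸ IsConj.refl a
    · exact isConj_iff.2 ⟨x, h.symm⟩
    · exact isConj_iff.2 ⟨x * x, by rw [h]; simp [f, mul_assoc]⟩
  -- an involution centralising an element of order three
  obtain ⟨P⟩ : Nonempty (Sylow 3 G) := inferInstance
  have hPc : Nat.card (P : Subgroup G) = 3 :=
    sylow_card hG P (e := 1) (by norm_num) (by norm_num)
  have hM12 := card_normalizer_three hG P
  set M := normalizer ((P : Subgroup G) : Set G) with hM
  obtain ⟨t₀, ht₀, ht₀C⟩ :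
      ∃ t₀ : G, orderOf t₀ = 2 ∧ t₀ ∈ centralizer ((P : Subgroup G) : Set G) := by
    obtain ⟨y, hy3, hyP⟩ : ∃ y : G, orderOf y = 3 ∧ y ∈ (P : Subgroup G) := by
      obtain ⟨⟨y, hy⟩, hy3⟩ := exists_prime_orderOf_dvd_card'
        (G := (P : Subgroup G)) 3 (by rw [hPc])
      exact ⟨y, by rw [← hy3, ← orderOf_coe], hy⟩
    have hgen : zpowers y = (P : Subgroup G) :=
      eq_of_le_of_card_ge (zpowers_le.2 hyP) (by rw [Nat.card_zpowers, hy3, hPc])
    classical
    let C' := (centralizer ((P : Subgroup G) : Set G)).subgroupOf M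
    -- two cosets at most
    have h2 : C'.index ≤ 2 := by
      rw [index_eq_card]
      let φ : M ⧸ C' → {z : G // z = y ∨ z = y⁻¹} :=
        Quotient.lift (fun m : M => (⟨(m : G) * y * (m : G)⁻¹, by
            have hm : (m : G) * y * (m : G)⁻¹ ∈ zpowers y := by
              rw [hgen]
              exact (mem_normalizer_iff.1 m.2 y).1 hyP
            rw [← mem_powers_iff_mem_zpowers, mem_powers_iff_mem_range_orderOf, hy3,
              Finset.mem_image] at hm
            obtain ⟨i, hi, hie⟩ := hm
            have hy1 : y ^ 3 = 1 := hy3 ▸ pow_orderOf_eq_one y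
            rw [Finset.mem_range] at hi
            interval_cases i
            · exfalso
              rw [pow_zero, eq_comm, mul_inv_eq_one] at hie
              have : y = 1 := mul_left_cancel (hie.trans (mul_one _).symm)
              rw [this, orderOf_one] at hy3
              omega
            · left; rw [← hie, pow_one]
            · right
              rw [← hie, eq_inv_iff_mul_eq_one, ← pow_succ, hy1]⟩ :
            {z : G // z = y ∨ z = y⁻¹})) (by
          intro a b hab
          apply Subtype.ext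
          have h := QuotientGroup.leftRel_apply.1 hab
          rw [mem_subgroupOf, coe_mul, InvMemClass.coe_inv, mem_centralizer_iff] at h
          have h' := h y hyP
          calc (a : G) * y * (a : G)⁻¹
              = (a : G) * (y * ((a : G)⁻¹ * (b : G))) * (b : G)⁻¹ := by group
            _ = (a : G) * (((a : G)⁻¹ * (b : G)) * y) * (b : G)⁻¹ := by rw [h']
            _ = (b : G) * y * (b : G)⁻¹ := by group)
      have hφ : Function.Injective φ := by
        intro a b
        refine Quotient.inductionOn₂ a b fun a b hab => ?_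
        have h : (a : G) * y * (a : G)⁻¹ = (b : G) * y * (b : G)⁻¹ := congrArg Subtype.val hab
        apply Quotient.sound
        show (QuotientGroup.leftRel C') a b
        rw [QuotientGroup.leftRel_apply, mem_subgroupOf, coe_mul, InvMemClass.coe_inv,
          mem_centralizer_iff, ← hgen]
        have hc : Commute ((a : G)⁻¹ * (b : G)) y := by
          show _ = _
          calc (a : G)⁻¹ * (b : G) * y = (a : G)⁻¹ * ((b : G) * y * (b : G)⁻¹) * (b : G) := by group
            _ = (a : G)⁻¹ * ((a : G) * y * (a : G)⁻¹) * (b : G) := by rw [h]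
            _ = y * ((a : G)⁻¹ * (b : G)) := by group
        intro z hz
        obtain ⟨i, rfl⟩ := mem_zpowers_iff.1 hz
        exact ((hc.zpow_right i).eq).symm
      refine (Nat.card_le_card_of_injective φ hφ).trans ?_
      have he : Nat.card {z : G // z = y ∨ z = y⁻¹} = Nat.card ↥({y, y⁻¹} : Set G) := rfl
      rw [he, Nat.card_coe_set_eq]
      exact (Set.ncard_insert_le _ _).trans (by rw [Set.ncard_singleton])
    have h6 : 2 ∣ Nat.card C' := by
      have h := C'.card_mul_index
      rw [hM12] at h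
      have hne0 := index_ne_zero_of_finite (H := C')
      rcases (show C'.index = 1 ∨ C'.index = 2 by omega) with h1 | h1 <;> rw [h1] at h <;> omega
    obtain ⟨⟨⟨t, htM⟩, htC⟩, ht⟩ := exists_prime_orderOf_dvd_card' (G := C') 2 h6
    rw [← orderOf_coe, ← orderOf_coe] at ht
    exact ⟨t, ht, htC⟩
  have hsylow : ∀ t : G, orderOf t = 2 → ∃ V : Sylow 2 G, t ∈ (V : Subgroup G) := by
    intro t ht
    have hp : IsPGroup 2 (zpowers t) := IsPGroup.of_card (n := 1) (by rw [Nat.card_zpowers, ht]; rfl)
    obtain ⟨V, hV⟩ := hp.exists_le_sylow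
    exact ⟨V, hV (mem_zpowers t)⟩
  have hne_one : ∀ t : G, orderOf t = 2 → t ≠ 1 := by
    intro t ht h
    rw [h, orderOf_one] at ht
    omega
  have hnonab : Subgroup.center G = ⊥ := by
    refine (Subgroup.Normal.eq_bot_or_eq_top inferInstance).resolve_right fun h => ?_
    have hc : ∀ a b : G, a * b = b * a := fun a b =>
      (Subgroup.mem_center_iff.1 (h ▸ mem_top a : a ∈ Subgroup.center G) b).symm
    obtain ⟨V⟩ : Nonempty (Sylow 2 G) := inferInstance
    exact normalizer_ne_top hG V (by norm_num) (eq_top_iff.2 fun g _ => mem_normalizer_iff.2 fun v => by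
      rw [hc g v, mul_inv_cancel_right])
  have hCt₀ : Nat.card (centralizer ({t₀} : Set G)) = 12 := by
    have hne : centralizer ({t₀} : Set G) ≠ ⊤ := fun h => hne_one t₀ ht₀ (by
      rw [← mem_bot, ← hnonab, Subgroup.mem_center_iff]
      intro g
      exact mem_centralizer_singleton_iff.1 (h ▸ mem_top g))
    obtain ⟨V, hV⟩ := hsylow t₀ ht₀
    have h4 : 4 ∣ Nat.card (centralizer ({t₀} : Set G)) := hV4 V ▸ card_dvd_of_le (fun a ha =>
      mem_centralizer_singleton_iff.2 (hVcomm V a ha t₀ hV))
    have h3 : 3 ∣ Nat.card (centralizer ({t₀} : Set G)) := hPc ▸ card_dvd_of_le (fun a ha =>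
      mem_centralizer_singleton_iff.2 (mem_centralizer_iff.1 ht₀C a ha))
    rcases hfour hne h4 with h | h
    · omega
    · exact h
  intro t ht
  obtain ⟨V, hV⟩ := hsylow t ht
  obtain ⟨W, hW⟩ := hsylow t₀ ht₀
  obtain ⟨g, hg⟩ := MulAction.exists_smul_eq G V W
  have htW : g * t * g⁻¹ ∈ (W : Subgroup G) := hg ▸ ⟨t, hV, rfl⟩
  have hc : IsConj t t₀ := (isConj_iff.2 ⟨g, rfl⟩).trans
    (hconj W _ htW t₀ hW (by simpa using hne_one t ht) (hne_one t₀ ht₀))
  obtain ⟨c, hc⟩ := isConj_iff.1 hc
  rw [← hCt₀]
  refine Nat.card_congr ((MulAut.conj c).toEquiv.subtypeEquiv fun z => ?_)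
  simp only [MulEquiv.toEquiv_eq_coe, EquivLike.coe_coe, mem_centralizer_singleton_iff, ← hc]
  rw [show c * t * c⁻¹ = MulAut.conj c t from rfl, ← map_mul, ← map_mul,
    (MulAut.conj c).injective.eq_iff]

theorem isCoatom_normalizer (hG : Nat.card G = 1092) {H : Subgroup G} (hH : ¬ H.Normal) :
    IsCoatom (normalizer (H : Set G)) := by
  haveI : Fact (Nat.Prime 2) := ⟨Nat.prime_two⟩
  haveI : Fact (Nat.Prime 3) := ⟨Nat.prime_three⟩
  haveI : Fact (Nat.Prime 7) := ⟨by norm_num⟩
  haveI : Fact (Nat.Prime 13) := ⟨by norm_num⟩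
  have hNtop : normalizer (H : Set G) ≠ ⊤ := fun h => hH (normalizer_eq_top_iff.1 h)
  have hHtop : H ≠ ⊤ := fun h => hH (h ▸ inferInstance)
  have hHbot : H ≠ ⊥ := fun h => hH (h ▸ inferInstance)
  refine isCoatom_of_card hG hNtop ?_
  -- it suffices to find a maximal subgroup inside the normalizer
  have key : ∀ L : Subgroup G, Nat.card L = 12 ∨ Nat.card L = 14 ∨ Nat.card L = 78 →
      L ≤ normalizer (H : Set G) →
      Nat.card (normalizer (H : Set G)) = 12 ∨ Nat.card (normalizer (H : Set G)) = 14 ∨
        Nat.card (normalizer (H : Set G)) = 78 := by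
    intro L hL hLN
    by_cases hLt : L = ⊤
    · rw [hLt, card_top, hG] at hL; omega
    rcases eq_or_lt_of_le hLN with h | h
    · rwa [← h]
    · exact absurd ((isCoatom_of_card hG hLt hL).2 _ h) hNtop
  obtain ⟨hN2, hC2⟩ := card_centralizer_involution (G := G) hG
  have h1 : Nat.card H ≠ 1 := fun h => hHbot (eq_bot_of_card_eq _ h)
  by_cases h13 : 13 ∣ Nat.card H
  · obtain ⟨Q, hQH, hHQ⟩ := exists_sylow_le hG (r := 13) (by norm_num) (by norm_num) h13 (by
      intro d hd hd1
      obtain ⟨c, hc⟩ := h13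
      rw [hc, Nat.mul_div_cancel_left _ (by norm_num : 0 < 13)] at hd
      have hcle : c ≤ 6 := by
        have := card_le hG hHtop
        omega
      have := Nat.le_of_dvd (by have := Nat.card_pos (α := H); omega) hd
      omega)
    refine key _ (Or.inr (Or.inr (card_normalizer_thirteen hG Q))) ?_
    have hQc : Nat.card (Q : Subgroup G) = 13 :=
      sylow_card hG Q (e := 1) (by norm_num) (by norm_num)
    haveI : IsCyclic (Q : Subgroup G) := isCyclic_of_prime_card hQc
    have hQ1 : (Q : Subgroup G) ≠ ⊥ := by intro h; rw [h, Subgroup.card_bot] at hQc; omega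
    have hQ2 : (Q : Subgroup G) ≠ ⊤ := by intro h; rw [h, card_top, hG] at hQc; omega
    set C := centralizer ((Q : Subgroup G) : Set G) with hC
    have hCQ : C ≤ (Q : Subgroup G) := by
      have hCle : C ≤ normalizer ((Q : Subgroup G) : Set G) := centralizer_le_normalizer _
      have hQC : (Q : Subgroup G) ≤ C := fun x hx => mem_centralizer_iff.2 fun y hy =>
        congrArg Subtype.val ((IsCyclic.commGroup).mul_comm (⟨y, hy⟩ : (Q : Subgroup G)) ⟨x, hx⟩)
      have hQ78 := card_normalizer_thirteen hG Q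
      have hno3 : ¬ 3 ∣ Nat.card C := by
        intro h3
        obtain ⟨⟨z, hzC⟩, hz⟩ := exists_prime_orderOf_dvd_card' (G := C) 3 h3
        rw [← orderOf_coe] at hz
        simp only at hz
        have hzp : IsPGroup 3 (zpowers z) :=
          IsPGroup.of_card (n := 1) (by rw [Nat.card_zpowers, hz]; rfl)
        obtain ⟨P, hP⟩ := hzp.exists_le_sylow
        have heq : zpowers z = (P : Subgroup G) := eq_of_le_of_card_ge hP
          (by rw [Nat.card_zpowers, hz, sylow_card hG P (e := 1) (by norm_num) (by norm_num),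
            pow_one])
        have hle : (Q : Subgroup G) ≤ normalizer ((P : Subgroup G) : Set G) := by
          refine le_trans ?_ (centralizer_le_normalizer _)
          intro q hq
          rw [← heq, mem_centralizer_iff]
          intro w hw
          obtain ⟨i, rfl⟩ := mem_zpowers_iff.1 hw
          exact ((Commute.zpow_right (mem_centralizer_iff.1 hzC q hq : q * z = z * q) i).eq).symm
        have h13' := card_dvd_of_le hle
        rw [hQc, card_normalizer_three hG P] at h13'
        norm_num at h13'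
      have hno2 : ¬ 2 ∣ Nat.card C := by
        intro h2
        obtain ⟨⟨z, hzC⟩, hz⟩ := exists_prime_orderOf_dvd_card' (G := C) 2 h2
        rw [← orderOf_coe] at hz
        simp only at hz
        have h13' := card_dvd_of_le (fun q hq => mem_centralizer_singleton_iff.2
          (mem_centralizer_iff.1 hzC q hq) : (Q : Subgroup G) ≤ centralizer ({z} : Set G))
        rw [hQc, hC2 z hz] at h13'
        norm_num at h13'
      refine (eq_of_le_of_card_ge hQC ?_).ge
      have ha : Nat.card C ∣ 78 := hQ78 ▸ card_dvd_of_le hCle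
      have hcop : (Nat.card C).Coprime (2 * 3) := by
        rw [Nat.coprime_mul_iff_right]
        exact ⟨(Nat.prime_two.coprime_iff_not_dvd.2 hno2).symm,
          (Nat.prime_three.coprime_iff_not_dvd.2 hno3).symm⟩
      rw [hQc]
      exact Nat.le_of_dvd (by norm_num) (hcop.dvd_of_dvd_mul_left (show Nat.card C ∣ 2 * 3 * 13 from ha))
    -- `N(Q)` acts on `Q` through an abelian group
    have hcomm : ∀ n ∈ normalizer ((Q : Subgroup G) : Set G), ∀ k ∈ H,
        n * k * n⁻¹ * k⁻¹ ∈ C := by
      intro n hn k hk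
      obtain ⟨q, hq⟩ := IsCyclic.exists_generator (α := (Q : Subgroup G))
      have hpow : ∀ m ∈ normalizer ((Q : Subgroup G) : Set G),
          ∃ i : ℤ, m * (q : G) * m⁻¹ = (q : G) ^ i := fun m hm => by
        obtain ⟨i, hi⟩ := mem_zpowers_iff.1 (hq ⟨_, (mem_normalizer_iff.1 hm _).1 q.2⟩)
        exact ⟨i, by rw [← coe_zpow, hi]⟩
      obtain ⟨a, ha⟩ := hpow n hn
      obtain ⟨b, hb⟩ := hpow k (hHQ hk)
      have hnk : n * k * (q : G) * (n * k)⁻¹ = k * n * (q : G) * (k * n)⁻¹ := by
        calc n * k * (q : G) * (n * k)⁻¹ = MulAut.conj n (k * (q : G) * k⁻¹) := by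
              rw [MulAut.conj_apply]; group
          _ = (q : G) ^ (a * b) := by rw [hb, map_zpow, MulAut.conj_apply, ha, zpow_mul]
          _ = MulAut.conj k (n * (q : G) * n⁻¹) := by
              rw [ha, map_zpow, MulAut.conj_apply, hb, mul_comm a b, zpow_mul]
          _ = k * n * (q : G) * (k * n)⁻¹ := by rw [MulAut.conj_apply]; group
      have hcq : Commute ((k * n)⁻¹ * (n * k)) (q : G) := by
        show _ = _
        calc (k * n)⁻¹ * (n * k) * (q : G) = (k * n)⁻¹ * (n * k * (q : G) * (n * k)⁻¹) * (n * k) := by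
              group
          _ = (q : G) * ((k * n)⁻¹ * (n * k)) := by rw [hnk]; group
      have hmem : (k * n)⁻¹ * (n * k) ∈ C := by
        rw [hC, mem_centralizer_iff]
        intro y hy
        obtain ⟨i, hi⟩ := mem_zpowers_iff.1 (hq ⟨y, hy⟩)
        have hy' : y = (q : G) ^ i := by rw [← coe_zpow, hi]
        rw [hy']
        exact ((hcq.zpow_right i).eq).symm
      have hnN : normalizer ((Q : Subgroup G) : Set G) ≤ normalizer (C : Set G) := by
        intro m hm
        rw [mem_normalizer_iff]
        intro z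
        have hcc : C = (Q : Subgroup G) := le_antisymm hCQ (fun x hx => mem_centralizer_iff.2
          fun y hy => congrArg Subtype.val
            ((IsCyclic.commGroup).mul_comm (⟨y, hy⟩ : (Q : Subgroup G)) ⟨x, hx⟩))
        rw [hcc]
        exact mem_normalizer_iff.1 hm z
      have h2 := (mem_normalizer_iff.1 (hnN (mul_mem (hHQ hk) hn)) _).1 hmem
      simpa [mul_assoc] using h2
    intro n hn
    rw [mem_normalizer_iff]
    intro k
    have hfwd : ∀ m ∈ normalizer ((Q : Subgroup G) : Set G), ∀ l ∈ H, m * l * m⁻¹ ∈ H := by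
      intro m hm l hl
      have := mul_mem (hQH (hCQ (hcomm m hm l hl))) hl
      simpa using this
    refine ⟨hfwd n hn k, fun h => ?_⟩
    have := hfwd n⁻¹ (inv_mem hn) _ h
    simpa [mul_assoc] using this
  by_cases h7 : 7 ∣ Nat.card H
  · obtain ⟨Q, hQH, hHQ⟩ := exists_sylow_le hG (r := 7) (by norm_num) (by norm_num) h7 (by
      intro d hd hd1
      obtain ⟨c, hc⟩ := h7
      rw [hc, Nat.mul_div_cancel_left _ (by norm_num : 0 < 7)] at hd
      have hcases := card_cases hG hHtop
      rw [hc] at hcases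
      have hc2 : c ≤ 2 := by
        rcases hcases with h | h | h
        · exact absurd ((dvd_mul_right 7 c).trans h) (by norm_num)
        · have := Nat.le_of_dvd (by norm_num) h; omega
        · exact absurd ((dvd_mul_right 7 c).trans h) (by norm_num)
      have := Nat.le_of_dvd (by have := Nat.card_pos (α := H); omega) hd
      omega)
    refine key _ (Or.inr (Or.inl (card_normalizer_seven hG Q))) ?_
    have h14 : Nat.card H ∣ 14 := card_normalizer_seven hG Q ▸ card_dvd_of_le hHQ
    obtain ⟨c, hc⟩ := h7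
    rw [hc] at h14
    have hc2 : c ≤ 2 := by have := Nat.le_of_dvd (by norm_num) h14; omega
    interval_cases c
    · have := Nat.card_pos (α := H); omega
    · rw [eq_of_le_of_card_ge hQH (by
        rw [hc, sylow_card hG Q (e := 1) (by norm_num) (by norm_num)]; norm_num)]
    · rw [eq_of_le_of_card_ge hHQ (by rw [hc, card_normalizer_seven hG Q])]
      exact le_normalizer
  have h12 : Nat.card H ∣ 12 := by
    have h1 : (Nat.card H).Coprime (7 * 13) := by
      rw [Nat.coprime_mul_iff_right]
      exact ⟨((Fact.out : Nat.Prime 7).coprime_iff_not_dvd.2 h7).symm,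
        ((Fact.out : Nat.Prime 13).coprime_iff_not_dvd.2 h13).symm⟩
    exact h1.dvd_of_dvd_mul_left
      (show Nat.card H ∣ 7 * 13 * 12 by
        have := card_subgroup_dvd_card H
        rw [hG] at this
        exact this)
  have hle12 := Nat.le_of_dvd (by norm_num) h12
  rcases (show Nat.card H = 2 ∨ Nat.card H = 3 ∨ Nat.card H = 4 ∨ Nat.card H = 6 ∨
      Nat.card H = 12 by
        have hpos : 0 < Nat.card H := Nat.card_pos
        revert h12
        generalize Nat.card H = c at h1 hle12 hpos
        interval_cases c <;> norm_num at *) with h | h | h | h | h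
  · obtain ⟨⟨t, htH⟩, ht⟩ := exists_prime_orderOf_dvd_card' (G := H) 2 (by rw [h])
    rw [← orderOf_coe] at ht
    simp only at ht
    refine key _ (Or.inl (hC2 t ht)) ?_
    have hHt : H = zpowers t := (eq_of_le_of_card_ge (zpowers_le.2 htH)
      (by rw [Nat.card_zpowers, ht, h])).symm
    refine le_trans ?_ (centralizer_le_normalizer _)
    intro g hg
    rw [hHt, mem_centralizer_iff]
    intro w hw
    obtain ⟨i, rfl⟩ := mem_zpowers_iff.1 hw
    exact ((Commute.zpow_right (mem_centralizer_singleton_iff.1 hg : g * t = t * g) i).eq).symm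
  · obtain ⟨P, hP⟩ := (IsPGroup.of_card (p := 3) (n := 1) h).exists_le_sylow
    refine key _ (Or.inl (card_normalizer_three hG P)) ?_
    rw [eq_of_le_of_card_ge hP (by
      rw [h, sylow_card hG P (e := 1) (by norm_num) (by norm_num), pow_one])]
  · obtain ⟨V, hV⟩ := (IsPGroup.of_card (p := 2) (n := 2) h).exists_le_sylow
    refine key _ (Or.inl (hN2 V)) ?_
    rw [eq_of_le_of_card_ge hV (by
      rw [h, sylow_card hG V (e := 2) (by norm_num) (by norm_num)]; norm_num)]
  · obtain ⟨P, hPH, hHP⟩ := exists_sylow_le hG (r := 3) (by norm_num) (by norm_num)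
      (M := H) (by rw [h]; norm_num) (by
        rw [h]
        intro d hd hd1
        have := Nat.le_of_dvd (by norm_num) hd
        omega)
    refine key _ (Or.inl (card_normalizer_three hG P)) ?_
    set L := normalizer ((P : Subgroup G) : Set G) with hL
    have hidx : (H.subgroupOf L).index = 2 := by
      have h1 := (H.subgroupOf L).card_mul_index
      rw [Nat.card_congr (subgroupOfEquivOfLe hHP).toEquiv, h, card_normalizer_three hG P] at h1
      omega
    exact (normal_subgroupOf_iff_le_normalizer hHP).1 (normal_of_index_eq_two hidx)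
  · exact key H (Or.inl h) le_normalizer

end Order1092

/-! ## The two groups and the direct product -/

theorem coatom_lift {K : Type*} [Group K] [Finite K] (Z : Subgroup K) [Z.Normal]
    (hZc : Z ≤ Subgroup.center K) (hZ : ∀ t : K, orderOf t = 2 → t ∈ Z)
    (hZ2 : Nat.card Z ∣ 2)
    (hQ : ∀ H : Subgroup (K ⧸ Z), ¬ H.Normal → IsCoatom (normalizer (H : Set (K ⧸ Z))))
    {H : Subgroup K} (hH : ¬ H.Normal) : IsCoatom (normalizer (H : Set K)) := by
  have hZn : ∀ g : K, ∀ z ∈ Z, g * z * g⁻¹ = z := fun g z hz => by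
    rw [Subgroup.mem_center_iff.1 (hZc hz) g, mul_inv_cancel_right]
  set H' := H ⊔ Z with hH'
  -- the normalizer is unchanged by adding `Z`
  have hmemH' : ∀ y ∈ H', ∃ a ∈ H, ∃ z ∈ Z, y = a * z := by
    intro y hy
    rw [hH', ← SetLike.mem_coe, mul_normal] at hy
    obtain ⟨a, ha, z, hz, rfl⟩ := hy
    exact ⟨a, ha, z, hz, rfl⟩
  have hcap : ∀ g ∈ normalizer (H' : Set K), ∀ a ∈ H, g * a * g⁻¹ ∈ H := by
    intro g hg a ha
    obtain ⟨b, hb, z, hz, he⟩ := hmemH' _ ((mem_normalizer_iff.1 hg a).1 (mem_sup_left ha))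
    rw [he]
    refine mul_mem hb ?_
    by_cases h2 : 2 ∣ Nat.card H
    · obtain ⟨⟨t, ht⟩, ht2⟩ := exists_prime_orderOf_dvd_card' (G := H) 2 h2
      rw [← orderOf_coe] at ht2
      simp only at ht2
      have hZt : Z = zpowers t := by
        refine (eq_of_le_of_card_ge (zpowers_le.2 (hZ t ht2)) ?_).symm
        rw [Nat.card_zpowers, ht2]
        exact Nat.le_of_dvd two_pos hZ2
      rw [hZt] at hz
      exact (zpowers_le.2 ht) hz
    · have hn : a ^ Nat.card H = 1 := congrArg Subtype.val (pow_card_eq_one' (x := (⟨a, ha⟩ : H)))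
      have hb' : b ^ Nat.card H = 1 := congrArg Subtype.val (pow_card_eq_one' (x := (⟨b, hb⟩ : H)))
      have hzc : Commute b z := Subgroup.mem_center_iff.1 (hZc hz) b
      have h1 : (b * z) ^ Nat.card H = 1 := by
        have h1 : (MulAut.conj g a) ^ Nat.card H = 1 := by rw [← map_pow, hn, map_one]
        rwa [MulAut.conj_apply, he] at h1
      rw [hzc.mul_pow, hb', one_mul] at h1
      have hz2 : z ^ 2 = 1 := by
        have h0 : (⟨z, hz⟩ : Z) ^ 2 = 1 := by
          obtain ⟨c, hc⟩ := hZ2
          rw [hc, pow_mul, pow_card_eq_one', one_pow]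
        exact congrArg Subtype.val h0
      have hz1 : z = 1 := by
        obtain ⟨j, hj⟩ : ∃ j, Nat.card H = 2 * j + 1 := ⟨Nat.card H / 2, by omega⟩
        rw [hj, pow_add, pow_mul, hz2, one_pow, one_mul, pow_one] at h1
        exact h1
      rw [hz1]
      exact one_mem H
  have hNeq : normalizer (H : Set K) = normalizer (H' : Set K) := by
    refine le_antisymm ?_ ?_
    · intro g hg
      rw [mem_normalizer_iff]
      have hfwd : ∀ m ∈ normalizer (H : Set K), ∀ y ∈ H', m * y * m⁻¹ ∈ H' := by
        intro m hm y hy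
        obtain ⟨a, ha, z, hz, rfl⟩ := hmemH' y hy
        rw [show m * (a * z) * m⁻¹ = (m * a * m⁻¹) * (m * z * m⁻¹) by group, hZn m z hz]
        exact mul_mem (mem_sup_left ((mem_normalizer_iff.1 hm a).1 ha)) (mem_sup_right hz)
      refine fun y => ⟨hfwd g hg y, fun h => ?_⟩
      have := hfwd g⁻¹ (inv_mem hg) _ h
      simpa [mul_assoc] using this
    · intro g hg
      rw [mem_normalizer_iff]
      refine fun a => ⟨hcap g hg a, fun h => ?_⟩
      have := hcap g⁻¹ (inv_mem hg) _ h
      simpa [mul_assoc] using this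
  set π := QuotientGroup.mk' Z with hπ
  have hsurj : Function.Surjective π := QuotientGroup.mk'_surjective Z
  have hcm : H' = (H'.map π).comap π :=
    (comap_map_eq_self (by rw [hπ, QuotientGroup.ker_mk']; exact le_sup_right)).symm
  have hN' : normalizer (H' : Set K) =
      (normalizer ((H'.map π : Subgroup (K ⧸ Z)) : Set (K ⧸ Z))).comap π := by
    conv_lhs => rw [hcm]
    exact (comap_normalizer_eq_of_surjective _ hsurj).symm
  rw [hNeq, hN']
  refine isCoatom_comap_of_surjective hsurj (hQ _ fun hn => hH ?_)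
  rw [← normalizer_eq_top_iff, hNeq, hN', normalizer_eq_top_iff.2 hn, comap_top]

theorem coatom_base {K : Type*} [Group K] [Finite K]
    (hK : Nonempty (K ≃* Matrix.ProjectiveSpecialLinearGroup (Fin 2) (ZMod 13)) ∨
      Nonempty (K ≃* Matrix.SpecialLinearGroup (Fin 2) (ZMod 13)))
    {H : Subgroup K} (hH : ¬ H.Normal) : IsCoatom (normalizer (H : Set K)) := by
  haveI : Fact (Nat.Prime 13) := ⟨by norm_num⟩
  haveI : Fact (Nat.Prime 2) := ⟨Nat.prime_two⟩
  have hodd : Odd (Fintype.card (ZMod 13)) := by rw [ZMod.card]; decide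
  haveI hs : IsSimpleGroup (Matrix.ProjectiveSpecialLinearGroup (Fin 2) (ZMod 13)) :=
    CfsgLib.Linear.isSimpleGroup_PSL_of 2 le_rfl (fun _ => by rw [ZMod.card]; norm_num)
  have hcard : Nat.card (Matrix.ProjectiveSpecialLinearGroup (Fin 2) (ZMod 13)) = 1092 := by
    have := CfsgLib.Linear.card_PSL_two_odd (F := ZMod 13) hodd
    rw [ZMod.card] at this
    omega
  -- transport along an isomorphism
  have transport : ∀ {K' : Type} [Group K'] [Finite K'] (e : K ≃* K'),
      (∀ L : Subgroup K', ¬ L.Normal → IsCoatom (normalizer (L : Set K'))) →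
      IsCoatom (normalizer (H : Set K)) := by
    intro K' _ _ e hall
    have hsurj : Function.Surjective e.toMonoidHom := e.surjective
    have hH2 : H = (H.map e.toMonoidHom).comap e.toMonoidHom :=
      (comap_map_eq_self_of_injective e.injective H).symm
    have h1 := hall (H.map e.toMonoidHom) (fun hn => hH (hH2 ▸ hn.comap _))
    rw [hH2, ← comap_normalizer_eq_of_surjective _ hsurj]
    exact isCoatom_comap_of_surjective hsurj h1
  rcases hK with ⟨⟨e⟩⟩ | ⟨⟨e⟩⟩
  · exact transport e fun L hL => isCoatom_normalizer hcard hL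
  · refine transport e fun L hL => coatom_lift (Subgroup.center _) le_rfl ?_ ?_ ?_ hL
    · intro t ht
      have h1 : t ≠ 1 := fun h => by rw [h, orderOf_one] at ht; omega
      have h2 := pow_orderOf_eq_one t
      rw [ht] at h2
      rw [CfsgLib.Linear.eq_neg_one_of_sq hodd t h1 h2]
      exact Subgroup.mem_center_iff.2 fun g => by simp
    · rw [CfsgLib.Linear.card_center_SL, Fintype.card_fin]
      exact Nat.gcd_dvd_left _ _
    · exact fun M hM => isCoatom_normalizer hcard hM

/-- Let K be isomorphic to PSL(2, 13) or to SL(2, 13) and let S be a finite abelian group of order coprime to the order of K. Then in the direct product K × S every subgroup that is not normal has a normalizer that is a maximal subgroup. -/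
theorem result {K S : Type*} [Group K] [CommGroup S] [Finite K] [Finite S]
    (hK : Nonempty (K ≃* Matrix.ProjectiveSpecialLinearGroup (Fin 2) (ZMod 13)) ∨
      Nonempty (K ≃* Matrix.SpecialLinearGroup (Fin 2) (ZMod 13)))
    (hKS : (Nat.card K).Coprime (Nat.card S)) (H : Subgroup (K × S)) (hH : ¬ H.Normal) :
    IsCoatom (Subgroup.normalizer (H : Set (K × S))) := by
  set H1 := H.map (MonoidHom.fst K S) with hH1
  have hmem : ∀ k : K, k ∈ H1 ↔ (k, (1 : S)) ∈ H := by
    intro k
    refine ⟨?_, fun h => ⟨_, h, rfl⟩⟩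
    rintro ⟨⟨k, s⟩, hks, rfl⟩
    obtain ⟨m, hm⟩ := exists_pow_eq_self_of_coprime (n := Nat.card S) (x := k)
      (hKS.symm.coprime_dvd_right (orderOf_dvd_natCard k))
    have h2 := pow_mem hks (Nat.card S * m)
    rw [Prod.pow_mk, pow_mul, hm, pow_mul, pow_card_eq_one', one_pow] at h2
    exact h2
  have hmem2 : ∀ (k : K) (s : S), (k, s) ∈ H ↔ k ∈ H1 ∧ ((1 : K), s) ∈ H := by
    intro k s
    constructor
    · intro h
      refine ⟨⟨_, h, rfl⟩, ?_⟩
      have h2 := mul_mem (inv_mem ((hmem k).1 ⟨_, h, rfl⟩)) h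
      simpa using h2
    · rintro ⟨h1, h2⟩
      have h3 := mul_mem ((hmem k).1 h1) h2
      simpa using h3
  have hN : normalizer (H : Set (K × S)) =
      (normalizer (H1 : Set K)).comap (MonoidHom.fst K S) := by
    ext ⟨a, b⟩
    rw [mem_comap, mem_normalizer_iff, mem_normalizer_iff]
    constructor
    · intro h k
      rw [hmem, hmem, h (k, 1)]
      simp [Prod.mk_mul_mk]
    · rintro h ⟨k, s⟩
      rw [hmem2 k s, h k]
      simp only [MonoidHom.coe_fst, Prod.inv_mk, Prod.mk_mul_mk]
      rw [mul_comm b s, mul_inv_cancel_right]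
      exact (hmem2 _ _).symm
  rw [hN]
  refine isCoatom_comap_of_surjective Prod.fst_surjective (coatom_base hK fun hn => hH ?_)
  rw [← normalizer_eq_top_iff, hN, normalizer_eq_top_iff.2 hn, comap_top]

end Cfsg.Agent.S4234
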