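import Cfsg.Statements.S4235
import Cfsg.Agent.FrobSystem.Kernel
import Cfsg.Agent.SuzukiUnique.Main
import Cfsg.Agent.S2202
import Cfsg.Agent.Linear.Basic

set_option autoImplicit false
set_option linter.style.haveILetI false
open scoped Pointwise
open Cfsg

namespace Cfsg.Agent.S4235

/-- Let G be a finite group. Call a subgroup maximal solvable if it is solvable and not properly contained in a solvable subgroup. Suppose F assigns to each maximal solvable subgroup M a normal subgroup F(M) of M such that: every element of M outside F(M) centralizes no non-identity element of F(M); F(M) meets each conjugate g F(M) g⁻¹ with g outside M trivially; and F(M) is nontrivial unless M is abelian. Then G is solvable, or G is isomorphic to SL(2, K) for a finite field K of characteristic 2 with at least 4 elements, or G is isomorphic to a Suzuki group. -/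
theorem result {G : Type*} [Group G] [Finite G] (F : Subgroup G → Subgroup G)
    (h : ∀ M : Subgroup G, (Group.IsSolvable M ∧ ∀ M' : Subgroup G, M < M' → ¬ Group.IsSolvable M') →
      F M ≤ M ∧ M ≤ Subgroup.normalizer (F M : Set G) ∧
      (∀ a ∈ M, a ∉ F M → ∀ x ∈ F M, x * a = a * x → x = 1) ∧
      (∀ g : G, g ∉ M → F M ⊓ (MulAut.conj g • F M) = ⊥) ∧
      (F M ≠ ⊥ ∨ IsMulCommutative M)) :
    Group.IsSolvable G ∨
      (∃ (K : Type) (_ : Field K) (_ : Fintype K), (∃ n : ℕ, 2 ≤ n ∧ Fintype.card K = 2 ^ n) ∧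
        Nonempty (G ≃* Matrix.SpecialLinearGroup (Fin 2) K)) ∨
      Cfsg.Lie.IsoSuzuki G := by
  by_cases hns : Group.IsSolvable G
  · exact Or.inl hns
  refine Or.inr ?_
  haveI : Fact (Nat.Prime 2) := ⟨Nat.prime_two⟩
  have hsys : ∀ M : Subgroup G, CfsgLib.FrobSystem.IsMaxSolvable M →
      CfsgLib.FrobSystem.Pair M (F M) ∨ IsMulCommutative M := by
    intro M hM
    obtain ⟨h1, h2, h3, h4, h5⟩ := h M hM
    refine h5.imp (fun hne => ⟨h1, h2, h3, fun g hg x hx hgx => ?_, hne⟩) id
    have h6 : g * x * g⁻¹ ∈ F M ⊓ (MulAut.conj g • F M) :=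
      Subgroup.mem_inf.2 ⟨hgx, Subgroup.smul_mem_pointwise_smul x (MulAut.conj g) _ hx⟩
    rw [h4 g hg, Subgroup.mem_bot] at h6
    exact conj_eq_one_iff.1 h6
  obtain ⟨S, M, hNM, hM, P⟩ := CfsgLib.FrobSystem.exists_pair F hsys hns
  have hrad := P.noRadical hM hns
  have hSM : (S : Subgroup G) ≤ M := Subgroup.le_normalizer.trans hNM
  have hMtop : M ≠ ⊤ := fun e => hns (by
    haveI := hM.1
    exact Group.isSolvable_of_surjective (f := M.subtype) fun g =>
      ⟨⟨g, e ▸ Subgroup.mem_top g⟩, rfl⟩)
  have K := P.seKernel hrad hns S hSM hMtop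
  have hSF := P.sylow_le hrad hns S hSM
  haveI := CfsgLib.FrobSystem.isSimpleGroup K hrad hns S hSF
  obtain ⟨z, hzF, hz⟩ := K.exists_invol
  have hF2 : IsPGroup 2 (F M) := by
    obtain ⟨p, k, hp, hk, hpk⟩ := (isPrimePow_nat_iff _).1 K.isPrimePow_card
    obtain rfl : 2 = p := (Nat.prime_dvd_prime_iff_eq Nat.prime_two hp).1
      (Nat.prime_two.dvd_of_dvd_pow (hpk ▸ hz ▸ Subgroup.orderOf_dvd_natCard _ hzF))
    exact IsPGroup.of_card hpk.symm
  by_cases hab : ∀ a ∈ F M, ∀ b ∈ F M, a * b = b * a
  · left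
    have heven : Even (Nat.card G) := by
      rw [even_iff_two_dvd, ← hz]
      exact orderOf_dvd_natCard z
    have hCI : ∀ t : G, orderOf t = 2 →
        IsMulCommutative ↥(Subgroup.centralizer ({t} : Set G)) := by
      intro t ht
      haveI := CfsgLib.SEmbed.nontrivial_cosets K.stronglyEmbedded
      obtain ⟨g, hg⟩ := isConj_iff.1 (CfsgLib.SEmbed.isConj_invol K.uf hz ht)
      have hz1 : z ≠ 1 := fun e => by rw [e, orderOf_one] at hz; omega
      have hmem : ∀ a ∈ Subgroup.centralizer ({t} : Set G), g⁻¹ * a * g ∈ F M := by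
        intro a ha
        have hat : a * t = t * a := Subgroup.mem_centralizer_singleton_iff.1 ha
        refine P.mem_of_commute hzF hz1 ?_
        show g⁻¹ * a * g * z = z * (g⁻¹ * a * g)
        calc g⁻¹ * a * g * z = g⁻¹ * (a * (g * z * g⁻¹)) * g := by group
          _ = g⁻¹ * (g * z * g⁻¹ * a) * g := by rw [hg, hat]
          _ = _ := by group
      refine ⟨⟨fun a b => Subtype.ext ?_⟩⟩
      show (a : G) * b = b * a
      have := hab _ (hmem a a.2) _ (hmem b b.2)
      calc (a : G) * b = g * (g⁻¹ * a * g * (g⁻¹ * b * g)) * g⁻¹ := by group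
        _ = g * (g⁻¹ * b * g * (g⁻¹ * a * g)) * g⁻¹ := by rw [this]
        _ = _ := by group
    rcases Cfsg.Agent.S2202.result heven hCI with hcyc | hnor | ⟨K', _, _, A, _, _, hchar, -, ⟨e⟩⟩
    · exfalso
      obtain ⟨s, hs, hso⟩ := P.exists_invol_sylow hrad hns S hSM
      obtain ⟨t, ht, hto, hne⟩ := CfsgLib.FrobSystem.not_unique_invol hrad S hs hso
      haveI := hcyc S
      have hV := CfsgLib.SEmbed.isFour_closure_pair hto hso hne (hab t (hSF ht) s (hSF hs))
      have hle : Subgroup.closure ({t, s} : Set G) ≤ (S : Subgroup G) :=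
        (Subgroup.closure_le _).2 (by rintro x (rfl | rfl); exacts [ht, hs])
      exact hV.not_isCyclic
        (isCyclic_of_injective (Subgroup.inclusion hle) (Subgroup.inclusion_injective hle))
    · exfalso
      obtain ⟨s, hs, hso⟩ := P.exists_invol_sylow hrad hns S hSM
      have hS : (S : Subgroup G) = ⊥ := hrad _ (hnor S)
        (Group.isSolvable_of_comm fun a b => Subtype.ext (hab a (hSF a.2) b (hSF b.2)))
      have : s = 1 := Subgroup.mem_bot.1 (hS ▸ hs)
      rw [this, orderOf_one] at hso
      omega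
    · let f : G →* A := (MonoidHom.snd _ _).comp e.toMonoidHom
      haveI := hchar
      obtain ⟨⟨n, hn⟩, -, hn'⟩ := FiniteField.card K' 2
      have hker : f.ker = ⊤ := by
        refine (f.normal_ker.eq_bot_or_eq_top).resolve_left fun hb => hns ?_
        exact Group.isSolvable_of_ker_le_range (1 : Unit →* G) f (by rw [hb]; exact bot_le)
      have hsub : Subsingleton A := subsingleton_of_forall_eq 1 fun a => by
        have h7 : e.symm (1, a) ∈ f.ker := hker ▸ Subgroup.mem_top _
        have h8 : (e (e.symm (1, a))).2 = 1 := MonoidHom.mem_ker.1 h7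
        rwa [MulEquiv.apply_symm_apply] at h8
      haveI : Unique A := uniqueOfSubsingleton 1
      let e' : G ≃* Matrix.SpecialLinearGroup (Fin 2) K' := e.trans MulEquiv.prodUnique
      refine ⟨K', inferInstance, inferInstance, ⟨n, ?_, hn'⟩, ⟨e'⟩⟩
      by_contra hlt
      obtain rfl : n = 1 := by omega
      have h6 : Nat.card G = 6 := by
        rw [Nat.card_congr e'.toEquiv, CfsgLib.Linear.card_SL_two, hn']
        norm_num
      haveI : Fact (Nat.Prime 3) := ⟨Nat.prime_three⟩
      obtain ⟨x, hx⟩ := exists_prime_orderOf_dvd_card' (G := G) 3 (by rw [h6]; norm_num)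
      have hidx : (Subgroup.zpowers x).index = 2 := by
        have := (Subgroup.zpowers x).card_mul_index
        rw [Nat.card_zpowers, hx, h6] at this
        omega
      rcases (Subgroup.normal_of_index_eq_two hidx).eq_bot_or_eq_top with h7 | h7
      · rw [Subgroup.zpowers_eq_bot] at h7
        rw [h7, orderOf_one] at hx
        omega
      · rw [h7, Subgroup.index_top] at hidx
        omega
  · right
    push Not at hab
    obtain ⟨u, hu, v, hv, huv⟩ := hab
    haveI : Finite (G ⧸ Subgroup.normalizer (F M : Set G)) := inferInstance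
    refine CfsgLib.SuzukiUnique.isoSuzuki K.isZassenhaus
      (a := ((1 : G) : G ⧸ Subgroup.normalizer (F M : Set G))) (F M)
      (fun x hx => MulAction.mem_stabilizer_iff.2 (K.smul_base_iff.2 (Subgroup.le_normalizer hx)))
      (fun x hx y hy => K.mem_kernel_conj (K.smul_base_iff.1 (MulAction.mem_stabilizer_iff.1 hx)) hy)
      (fun c d hc hd => ?_) hF2 ⟨u, hu, v, hv, huv⟩
    obtain ⟨x, hx, hxd⟩ := K.exists_smul_eq hc hd
    refine ⟨⟨x, hx⟩, hxd, fun y hy => Subtype.ext ?_⟩
    refine (inv_mul_eq_one.1 (K.eq_one_of_fix (mul_mem (inv_mem hx) y.2) hc ?_)).symm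
    rw [mul_smul, show (y : G) • c = d from hy, ← hxd, inv_smul_smul]

end Cfsg.Agent.S4235
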