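import Cfsg.Statements.S4236
import Cfsg.Agent.Coprime.Action

set_option autoImplicit false
open Cfsg

set_option linter.style.haveILetI false

namespace Cfsg.Agent.S4236

open Subgroup MulAction
open scoped Pointwise

universe u

local instance fact17 : Fact (Nat.Prime 17) := ⟨by norm_num⟩
local instance fact5 : Fact (Nat.Prime 5) := ⟨by norm_num⟩
local instance fact2 : Fact (Nat.Prime 2) := ⟨Nat.prime_two⟩

/-- A subgroup containing all Sylow subgroups has equally many. -/
theorem card_sylow_of_forall_le {G : Type u} [Group G] [Finite G] {p : ℕ} [Fact p.Prime]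
    (L : Subgroup G) (h : ∀ Q : Sylow p G, (Q : Subgroup G) ≤ L) :
    Nat.card (Sylow p L) = Nat.card (Sylow p G) := by
  refine (Nat.card_congr (Equiv.ofBijective (fun Q : Sylow p G => Q.subtype (h Q)) ⟨?_, ?_⟩)).symm
  · exact fun Q R hQR => Sylow.subtype_injective hQR
  · intro T
    obtain ⟨Q, hQ⟩ := Sylow.exists_comap_subtype_eq T
    exact ⟨Q, Sylow.ext hQ⟩

theorem eq_one_or_thirtyfive {d : ℕ} (h : d ∣ 35) (hm : d ≡ 1 [MOD 17]) : d = 1 ∨ d = 35 := by
  have hmem : d ∈ Nat.divisors 35 := Nat.mem_divisors.2 ⟨h, by norm_num⟩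
  rw [show Nat.divisors 35 = {1, 5, 7, 35} by decide] at hmem
  simp only [Finset.mem_insert, Finset.mem_singleton] at hmem
  rcases hmem with rfl | rfl | rfl | rfl
  · exact Or.inl rfl
  · exact absurd hm (by decide)
  · exact absurd hm (by decide)
  · exact Or.inr rfl

theorem card_sylow_index {G : Type u} [Group G] [Finite G] {p : ℕ} [Fact p.Prime] (P : Sylow p G) :
    Nat.card (Sylow p G) = (normalizer ((P : Subgroup G) : Set G)).index :=
  P.card_eq_index_normalizer

theorem relIndex_eq_index_of_sup_eq_top {G : Type u} [Group G] [Finite G] (N H : Subgroup G)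
    [N.Normal] (h : H ⊔ N = ⊤) : H.relIndex N = H.index := by
  have e1 := relIndex_mul_index (inf_le_left : H ⊓ N ≤ H)
  have e2 := relIndex_mul_index (inf_le_right : H ⊓ N ≤ N)
  rw [inf_relIndex_left] at e1
  rw [inf_relIndex_right] at e2
  have e3 : N.relIndex H = N.index := by
    rw [← relIndex_sup_right H N, h, relIndex_top_right]
  rw [e3, ← e2, mul_comm] at e1
  exact (Nat.eq_of_mul_eq_mul_right (Nat.pos_of_ne_zero index_ne_zero_of_finite) e1).symm

/-- A proper nontrivial subgroup with cyclic Sylow subgroup for the smallest prime. -/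
theorem not_simple_of_cyclic_sylow {G : Type u} [Group G] [Finite G] {p : ℕ} [Fact p.Prime]
    (hp : (Nat.card G).minFac = p) (P : Sylow p G) (hP : IsCyclic (P : Subgroup G))
    (hne : Nat.card (P : Subgroup G) ≠ Nat.card G) (hd : p ∣ Nat.card G) :
    ¬ IsSimpleGroup G := by
  intro hG
  have hc := IsCyclic.isComplement' (hp := hp) (P := P) hP
  rcases (MonoidHom.transferSylow P (hP.normalizer_le_centralizer hp)).normal_ker.eq_bot_or_eq_top
    with hk | hk
  · apply hne
    have := hc.card_mul_card
    rw [hk, card_bot, one_mul] at this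
    exact this
  · rw [hk] at hc
    exact P.ne_bot_of_dvd_card hd (isComplement'_top_left.1 hc)

/-- A subgroup contains `g` if it contains all powers of `g` of prime power order. -/
theorem mem_of_primePow_parts {G : Type u} [Group G] [Finite G] (H : Subgroup G) (g : G)
    (h : ∀ y ∈ zpowers g, ∀ r : ℕ, r.Prime → (∃ k, orderOf y = r ^ k) → y ∈ H) : g ∈ H := by
  suffices hs : H.subgroupOf (zpowers g) = ⊤ from (subgroupOf_eq_top.1 hs) (mem_zpowers g)
  apply eq_top_of_card_eq
  apply Nat.dvd_antisymm (card_subgroup_dvd_card _)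
  rw [Nat.dvd_iff_prime_pow_dvd_dvd]
  intro r k hr hrk
  haveI := Fact.mk hr
  let S : Sylow r (zpowers g) := default
  refine dvd_trans ?_ (card_dvd_of_le (H := (S : Subgroup (zpowers g))) ?_)
  · rw [S.card_eq_multiplicity]
    exact pow_dvd_pow r ((hr.pow_dvd_iff_le_factorization Nat.card_pos.ne').1 hrk)
  · intro y hy
    obtain ⟨e, he⟩ := IsPGroup.iff_orderOf.1 S.2 ⟨y, hy⟩
    exact mem_subgroupOf.2 (h y y.2 r hr ⟨e, by rwa [Subgroup.orderOf_mk, ← orderOf_coe] at he⟩)

section Facts

variable {G : Type u} [Group G] [Finite G]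

theorem index_overgroup (h35 : Nat.card (Sylow 17 G) = 35) (P : Sylow 17 G) {L : Subgroup G}
    (hL : normalizer ((P : Subgroup G) : Set G) ≤ L) : L.index = 1 ∨ L.index = 35 := by
  have hdvd : L.index ∣ 35 := by
    rw [← h35, card_sylow_index P]
    exact index_dvd_of_le hL
  refine eq_one_or_thirtyfive hdvd ?_
  have hPL : (P : Subgroup G) ≤ L := le_normalizer.trans hL
  have h1 := card_sylow_modEq_one 17 L
  have h2 : Nat.card (Sylow 17 L) = (normalizer ((P : Subgroup G) : Set G)).relIndex L := by
    rw [card_sylow_index (P.subtype hPL)]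
    unfold relIndex
    congr 1
    exact (subgroupOf_normalizer_eq hPL).symm
  have h3 := relIndex_mul_index hL
  rw [← card_sylow_index P, h35] at h3
  rw [h2] at h1
  have h4 : ((normalizer ((P : Subgroup G) : Set G)).relIndex L * L.index) ≡ 1 * L.index [MOD 17] :=
    h1.mul_right _
  rw [h3, one_mul] at h4
  exact h4.symm.trans (by decide)

theorem isSimple_of_minimal (h35 : Nat.card (Sylow 17 G) = 35)
    (ih : ∀ (H : Type u) [Group H] [Finite H], Nat.card H < Nat.card G →
      Nat.card (Sylow 17 H) ≠ 35) : IsSimpleGroup G := by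
  let P : Sylow 17 G := default
  haveI : Nontrivial G := by
    rcases subsingleton_or_nontrivial G with h | h
    · haveI : Subsingleton (Sylow 17 G) := ⟨fun a b => Sylow.ext (Subsingleton.elim _ _)⟩
      rw [Nat.card_of_subsingleton P] at h35
      omega
    · exact h
  have htop : ∀ L : Subgroup G, L.Normal → (P : Subgroup G) ≤ L → L = ⊤ := by
    intro L hL hPL
    by_contra hne
    refine ih L (lt_of_le_of_ne (card_le_card_group L) fun he => hne (eq_top_of_card_eq L he)) ?_
    rw [card_sylow_of_forall_le L, h35]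
    intro Q
    obtain ⟨g, rfl⟩ := MulAction.exists_smul_eq G P Q
    intro x hx
    rw [Sylow.coe_subgroup_smul, mem_pointwise_smul_iff_inv_smul_mem] at hx
    have h1 := hL.conj_mem _ (hPL hx) g
    simpa [MulAut.smul_def, mul_assoc] using h1
  refine ⟨fun N hN => ?_⟩
  by_contra hne
  push Not at hne
  obtain ⟨hN1, hN2⟩ := hne
  haveI := hN
  have hlt : Nat.card N < Nat.card G :=
    lt_of_le_of_ne (card_le_card_group N) fun he => hN2 (eq_top_of_card_eq N he)
  -- `P N = G`
  have hPN : (P : Subgroup G) ⊔ N = ⊤ := by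
    set π := QuotientGroup.mk' N with hπ
    have hs := QuotientGroup.mk'_surjective N
    have hlt' : Nat.card (G ⧸ N) < Nat.card G := by
      conv_rhs => rw [card_eq_card_quotient_mul_card_subgroup N]
      exact lt_mul_of_one_lt_right Nat.card_pos ((one_lt_card_iff_ne_bot N).2 hN1)
    let P' : Sylow 17 (G ⧸ N) := P.mapSurjective hs
    have hd : Nat.card (Sylow 17 (G ⧸ N)) ∣ 35 := by
      rw [card_sylow_index P', ← h35, card_sylow_index P]
      exact (index_dvd_of_le (le_normalizer_map π)).trans (index_map_dvd _ hs)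
    have h1 := (eq_one_or_thirtyfive hd (card_sylow_modEq_one 17 _)).resolve_right (ih _ hlt')
    haveI : Subsingleton (Sylow 17 (G ⧸ N)) := (Nat.card_eq_one_iff_unique.1 h1).1
    have hn : ((P : Subgroup G).map π).Normal := by
      have h2 : P'.toSubgroup.Normal := P'.normal_of_subsingleton
      exact h2
    have h3 := hn.comap π
    rw [comap_map_eq, QuotientGroup.ker_mk'] at h3
    exact htop _ h3 le_sup_left
  have hsup : ∀ H : Subgroup G, (P : Subgroup G) ≤ H → H ⊔ N = ⊤ := fun H hH =>
    top_le_iff.1 (hPN.ge.trans (sup_le_sup_right hH N))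
  by_cases h17 : 17 ∣ Nat.card N
  · set U := (P : Subgroup G) ⊓ N with hU
    have hUp : IsPGroup 17 (U.subgroupOf N) := (P.2.to_le inf_le_left).comap_subtype
    obtain ⟨S, hS⟩ := hUp.exists_le_sylow
    have hUS : (S : Subgroup N) = U.subgroupOf N := by
      refine (eq_of_le_of_card_ge hS ?_).symm
      -- `P ⊓ N` has full order
      have hi : (P : Subgroup G).relIndex N = (P : Subgroup G).index :=
        relIndex_eq_index_of_sup_eq_top N _ hPN
      have hU2 : (U.subgroupOf N).index = (P : Subgroup G).index := by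
        rw [← hi]
        show U.relIndex N = _
        rw [hU, inf_relIndex_right]
      apply Nat.le_of_mul_le_mul_right _ (Nat.pos_of_ne_zero (index_ne_zero_of_finite (H := U.subgroupOf N)))
      rw [card_mul_index, hU2]
      obtain ⟨a, ha⟩ := IsPGroup.iff_card.1 S.2
      have hcop : (Nat.card (S : Subgroup N)).Coprime (P : Subgroup G).index := by
        rw [ha]
        exact Nat.Coprime.pow_left _ ((Fact.out : Nat.Prime 17).coprime_iff_not_dvd.2 P.not_dvd_index)
      exact Nat.le_of_dvd Nat.card_pos (hcop.mul_dvd_of_dvd_of_dvd (card_subgroup_dvd_card _)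
        (hU2 ▸ index_dvd_card _))
    have hNU : normalizer ((P : Subgroup G) : Set G) ≤ normalizer (U : Set G) := by
      refine le_trans ?_ (inf_normalizer_le_normalizer_inf (H := (P : Subgroup G)) (K := N))
      exact le_inf le_rfl (le_top.trans (normalizer_eq_top (H := N)).ge)
    rcases index_overgroup h35 P hNU with h1 | h1
    · have hUn : U.Normal := normalizer_eq_top_iff.1 (index_eq_one.1 h1)
      have hU1 : U ≠ ⊥ := by
        intro h
        apply S.ne_bot_of_dvd_card h17
        rw [hUS, h, bot_subgroupOf]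
      -- replace `N` by the normal 17-subgroup `U`
      set π := QuotientGroup.mk' U with hπ
      have hlt' : Nat.card (G ⧸ U) < Nat.card G := by
        conv_rhs => rw [card_eq_card_quotient_mul_card_subgroup U]
        exact lt_mul_of_one_lt_right Nat.card_pos ((one_lt_card_iff_ne_bot U).2 hU1)
      let P' : Sylow 17 (G ⧸ U) := P.mapSurjective (QuotientGroup.mk'_surjective U)
      have hd : Nat.card (Sylow 17 (G ⧸ U)) ∣ 35 := by
        rw [card_sylow_index P', ← h35, card_sylow_index P]
        exact (index_dvd_of_le (le_normalizer_map π)).trans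
          (index_map_dvd _ (QuotientGroup.mk'_surjective U))
      have h2 := (eq_one_or_thirtyfive hd (card_sylow_modEq_one 17 _)).resolve_right (ih _ hlt')
      haveI : Subsingleton (Sylow 17 (G ⧸ U)) := (Nat.card_eq_one_iff_unique.1 h2).1
      have hn : ((P : Subgroup G).map π).Normal := by
        have h3 : P'.toSubgroup.Normal := P'.normal_of_subsingleton
        exact h3
      have h4 := hn.comap π
      rw [comap_map_eq, QuotientGroup.ker_mk', sup_eq_left.2 inf_le_left] at h4
      rw [Nat.card_eq_one_iff_unique.2 ⟨⟨fun A B => by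
        obtain ⟨a, rfl⟩ := MulAction.exists_smul_eq G P A
        obtain ⟨b, rfl⟩ := MulAction.exists_smul_eq G P B
        haveI : P.toSubgroup.Normal := h4
        rw [Sylow.smul_eq_of_normal, Sylow.smul_eq_of_normal]⟩, ⟨P⟩⟩] at h35
      omega
    · apply ih N hlt
      rw [card_sylow_index S, hUS, ← subgroupOf_normalizer_eq inf_le_right]
      show (normalizer (U : Set G)).relIndex N = 35
      rw [relIndex_eq_index_of_sup_eq_top N _ (hsup _ (le_normalizer.trans hNU)), h1]
  · -- coprime action of `P` on `N`
    set C := N ⊓ normalizer ((P : Subgroup G) : Set G) with hC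
    have hCN : C.relIndex N = 35 := by
      rw [hC, inf_relIndex_left, relIndex_eq_index_of_sup_eq_top N _ (hsup _ le_normalizer),
        ← card_sylow_index P, h35]
    have hdis : N ⊓ (P : Subgroup G) = ⊥ := by
      apply CfsgLib.Coprime.inf_eq_bot_of_coprime
      obtain ⟨a, ha⟩ := IsPGroup.iff_card.1 P.2
      rw [ha]
      exact Nat.Coprime.pow_right _ ((Fact.out : Nat.Prime 17).coprime_iff_not_dvd.2 h17).symm
    have hcent : C ≤ centralizer ((P : Subgroup G) : Set G) := by
      intro c hc
      refine CfsgLib.Coprime.mem_centralizer_of_normalizer hc.2 hdis fun a _ => ?_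
      have h2 : c * a * c⁻¹ * a⁻¹ = c * (a * c⁻¹ * a⁻¹) := by group
      rw [h2]
      exact mul_mem hc.1 (hN.conj_mem _ (inv_mem hc.1) a)
    have hPn : (P : Subgroup G) ≤ normalizer (N : Set G) := by rw [normalizer_eq_top]; exact le_top
    have hPs : Group.IsSolvable (P : Subgroup G) := by
      haveI := P.2.isNilpotent
      infer_instance
    let U : Sylow 5 C := default
    set U' := (U : Subgroup C).map C.subtype with hU'
    have hU'C : U' ≤ C := map_subtype_le _
    have hcop : (Nat.card (P : Subgroup G)).Coprime (Nat.card N) := by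
      obtain ⟨a, ha⟩ := IsPGroup.iff_card.1 P.2
      rw [ha]
      exact Nat.Coprime.pow_left _ ((Fact.out : Nat.Prime 17).coprime_iff_not_dvd.2 h17)
    obtain ⟨R, hUR, hRP⟩ := CfsgLib.Coprime.exists_invariant_sylow_ge hPn hcop (Or.inl hPs)
      (U := U') (hU'C.trans inf_le_left) (U.2.map _)
      (fun x hx => centralizer_le_normalizer _
        (fun u hu => (hcent (hU'C hu) x hx).symm))
    set R' := (R : Subgroup N).map N.subtype with hR'
    -- the fixed points of `P` on `R'`
    let act : MulAction (P : Subgroup G) R' :=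
      { smul := fun x r => ⟨(x : G) * r * (x : G)⁻¹, (mem_normalizer_iff.1 (hRP x.2) r).1 r.2⟩
        one_smul := fun r => Subtype.ext (by show (1 : G) * r * (1 : G)⁻¹ = r; group)
        mul_smul := fun x y r => Subtype.ext (by
          show ((x : G) * y) * r * ((x : G) * y)⁻¹ = x * (y * r * (y : G)⁻¹) * (x : G)⁻¹
          group) }
    letI := act
    have hfix := P.2.card_modEq_card_fixedPoints R'
    have hfe : Nat.card (fixedPoints (P : Subgroup G) R') = Nat.card U' := by
      refine le_antisymm ?_ (Nat.card_le_card_of_injective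
        (fun u : U' => (⟨⟨u, hUR u.2⟩, fun x => Subtype.ext (show (x : G) * u * (x : G)⁻¹ = u by
          rw [hcent (hU'C u.2) x x.2]; group)⟩ : fixedPoints (P : Subgroup G) R'))
        (fun a b h => Subtype.ext (congrArg (fun t : fixedPoints (P : Subgroup G) R' => ((t : R') : G)) h)))
      -- `C_R(P)` is a `5`-subgroup of `C` containing `U'`
      set F := R' ⊓ centralizer ((P : Subgroup G) : Set G) with hF
      have hFC : F ≤ C := le_inf (inf_le_left.trans (map_subtype_le _))
        (inf_le_right.trans (centralizer_le_normalizer _))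
      have hUF : (U : Subgroup C) ≤ F.subgroupOf C := fun u hu => mem_subgroupOf.2
        ⟨hUR ⟨u, hu, rfl⟩, hcent u.2⟩
      have heq := U.3 (((R.2.map N.subtype).to_le inf_le_left).comap_subtype (K := C)) hUF
      have hFU : F = U' := by
        show F = (U : Subgroup C).map C.subtype
        rw [← heq]
        exact (inf_eq_left.2 hFC).symm.trans (subgroupOf_map_subtype F C).symm
      rw [← hFU]
      refine Nat.card_le_card_of_injective (fun a : fixedPoints (P : Subgroup G) R' =>
        (⟨(a : R'), (a : R').2, fun x hx => ?_⟩ : F)) fun a b h => Subtype.ext (Subtype.ext ?_)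
      · have h1 : x * ((a : R') : G) * x⁻¹ = (a : R') := congrArg Subtype.val (a.2 ⟨x, hx⟩)
        exact mul_inv_eq_iff_eq_mul.1 h1
      · exact congrArg (fun t : F => (t : G)) h
    rw [hfe] at hfix
    have hN35 : Nat.card N = Nat.card C * 35 := by
      rw [← hCN, ← card_mul_index (C.subgroupOf N),
        Nat.card_congr (subgroupOfEquivOfLe (inf_le_left : C ≤ N)).toEquiv]
      rfl
    have hR5 : Nat.card R' = Nat.card U' * 5 := by
      rw [hR', card_map_of_injective N.subtype_injective, hU',
        card_map_of_injective C.subtype_injective, R.card_eq_multiplicity, U.card_eq_multiplicity,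
        hN35, Nat.factorization_mul Nat.card_pos.ne' (by norm_num), Finsupp.add_apply, pow_add]
      congr 1
      have : (35 : ℕ).factorization 5 = 1 := by
        rw [show (35 : ℕ) = 5 * 7 from rfl, Nat.factorization_mul (by norm_num) (by norm_num),
          Finsupp.add_apply, Nat.Prime.factorization_self (by norm_num),
          Nat.factorization_eq_zero_of_not_dvd (by norm_num)]
      rw [this, pow_one]
    rw [hR5, Nat.ModEq.comm, Nat.modEq_iff_dvd' (Nat.le_mul_of_pos_right _ (by norm_num))] at hfix
    obtain ⟨a, ha⟩ := IsPGroup.iff_card.1 (U.2.map C.subtype)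
    change Nat.card U' = 5 ^ a at ha
    rw [ha, show 5 ^ a * 5 - 5 ^ a = 5 ^ a * 4 by omega] at hfix
    rcases (Fact.out : Nat.Prime 17).dvd_mul.1 hfix with h | h
    · exact absurd ((Fact.out : Nat.Prime 17).dvd_of_dvd_pow h) (by decide)
    · exact absurd h (by decide)

variable [IsSimpleGroup G]

/-- The orbit of `Q ≠ P` under `P` has 17 points. -/
theorem relIndex_inf_eq (h35 : Nat.card (Sylow 17 G) = 35) {P Q : Sylow 17 G} (hQ : Q ≠ P) :
    ((P : Subgroup G) ⊓ (Q : Subgroup G)).relIndex P = 17 := by
  have hstab : (stabilizer G Q).subgroupOf P =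
      ((P : Subgroup G) ⊓ (Q : Subgroup G)).subgroupOf P := by
    rw [Sylow.stabilizer_eq_normalizer, ← P.2.inf_normalizer_sylow Q, inf_subgroupOf_left]
  obtain ⟨k, hk⟩ := P.2.index (((P : Subgroup G) ⊓ (Q : Subgroup G)).subgroupOf P)
  have horb : (orbit (P : Subgroup G) Q).ncard = 17 ^ k := by
    rw [← hk, ← hstab, ← Nat.card_coe_set_eq,
      Nat.card_congr (orbitEquivQuotientStabilizer (P : Subgroup G) Q), ← index_eq_card]
    rfl
  have hPn : P ∉ orbit (P : Subgroup G) Q := by
    intro h
    obtain ⟨x, hx⟩ := h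
    apply hQ
    have : (x : G) • P = P := Sylow.smul_eq_iff_mem_normalizer.2 (le_normalizer x.2)
    exact smul_left_cancel (x : G) (hx.trans this.symm)
  have hle : (orbit (P : Subgroup G) Q).ncard ≤ 34 := by
    have := Set.ncard_le_ncard (show orbit (P : Subgroup G) Q ⊆ {P}ᶜ from
      fun R hR => by rintro rfl; exact hPn hR) (Set.toFinite _)
    rwa [Set.ncard_compl, Set.ncard_singleton, h35] at this
  change (((P : Subgroup G) ⊓ (Q : Subgroup G)).subgroupOf P).index = 17
  rw [hk]
  rw [horb] at hle
  match k with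
  | 0 =>
    exfalso
    rw [pow_zero, index_eq_one, subgroupOf_eq_top, le_inf_iff] at hk
    exact hQ (Sylow.ext (P.3 Q.2 hk.2))
  | 1 => rfl
  | (k + 2) =>
    have h289 : 17 ^ 2 ≤ 17 ^ (k + 2) := Nat.pow_le_pow_right (by norm_num) (by omega)
    omega

theorem card_sylow_eq (h35 : Nat.card (Sylow 17 G) = 35) (P : Sylow 17 G) :
    Nat.card (P : Subgroup G) = 17 := by
  classical
  haveI := Fintype.ofFinite (Sylow 17 G)
  have hcard : ∀ P Q : Sylow 17 G, Q ≠ P →
      Nat.card ((P : Subgroup G) ⊓ (Q : Subgroup G) : Subgroup G) * 17 =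
        Nat.card (P : Subgroup G) := by
    intro P Q hQ
    have h := relIndex_inf_eq h35 hQ
    have e := card_mul_index (((P : Subgroup G) ⊓ (Q : Subgroup G)).subgroupOf P)
    rw [Nat.card_congr (subgroupOfEquivOfLe inf_le_left).toEquiv,
      show (((P : Subgroup G) ⊓ (Q : Subgroup G)).subgroupOf P).index = 17 from h] at e
    exact e
  have hsize : ∀ A B : Sylow 17 G, Nat.card (A : Subgroup G) = Nat.card (B : Subgroup G) :=
    fun A B => by rw [A.card_eq_multiplicity, B.card_eq_multiplicity]
  by_contra hne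
  let 𝒟 : Finset (Subgroup G) := ((Finset.univ : Finset (Sylow 17 G × Sylow 17 G)).filter
    fun a => a.2 ≠ a.1).image fun a => (a.1 : Subgroup G) ⊓ (a.2 : Subgroup G)
  have hnormal : ∀ A B : Sylow 17 G, B ≠ A →
      (A : Subgroup G) ≤ normalizer (((A : Subgroup G) ⊓ (B : Subgroup G) : Subgroup G) : Set G) := by
    intro A B hB
    refine (normal_subgroupOf_iff_le_normalizer inf_le_left).1 ?_
    haveI := A.2.isNilpotent
    have hidx := relIndex_inf_eq h35 hB
    refine Subgroup.NormalizerCondition.normal_of_coatom _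
      Group.normalizerCondition_of_isNilpotent ⟨fun h => ?_, fun K hK => ?_⟩
    · rw [relIndex, h, index_top] at hidx
      omega
    · rcases (Nat.dvd_prime (Fact.out : Nat.Prime 17)).1
        (show K.index ∣ 17 by
          have h := index_dvd_of_le hK.le
          rwa [show (((A : Subgroup G) ⊓ (B : Subgroup G)).subgroupOf A).index = 17 from hidx] at h)
        with h | h
      · exact index_eq_one.1 h
      · exfalso
        apply hK.ne
        refine eq_of_le_of_card_ge hK.le (le_of_eq ?_)
        have e := (card_mul_index K).trans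
          (card_mul_index (((A : Subgroup G) ⊓ (B : Subgroup G)).subgroupOf A)).symm
        rw [h, show (((A : Subgroup G) ⊓ (B : Subgroup G)).subgroupOf A).index = 17 from hidx] at e
        omega
  have hDne : ∀ A B : Sylow 17 G, B ≠ A → (A : Subgroup G) ⊓ (B : Subgroup G) ≠ ⊥ := by
    intro A B hB h
    apply hne
    rw [hsize P A, ← hcard A B hB, h, card_bot]
  -- each intersection lies in exactly eighteen Sylow subgroups
  have hF : ∀ D ∈ 𝒟, (Finset.univ.filter fun Q : Sylow 17 G => D ≤ (Q : Subgroup G)).card = 18 := by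
    intro D hD
    simp only [𝒟, Finset.mem_image, Finset.mem_filter, Finset.mem_univ, true_and] at hD
    obtain ⟨⟨A, B⟩, hBA, rfl⟩ := hD
    dsimp only at hBA ⊢
    set D := (A : Subgroup G) ⊓ (B : Subgroup G) with hD
    set L := normalizer (D : Set G) with hL
    have hAL := hnormal A B hBA
    have hmem : ∀ Q : Sylow 17 G, D ≤ (Q : Subgroup G) ↔ (Q : Subgroup G) ≤ L := by
      intro Q
      constructor
      · intro h
        by_cases hQ : Q = A
        · exact hQ ▸ hAL
        · have hDeq : D = (Q : Subgroup G) ⊓ (A : Subgroup G) := by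
            refine eq_of_le_of_card_ge (le_inf h inf_le_left) ?_
            have h1 := hcard Q A (Ne.symm hQ)
            have h2 := hcard A B hBA
            have h3 := hsize Q A
            rw [← hD] at h2
            omega
          rw [hL, hDeq]
          exact hnormal Q A (Ne.symm hQ)
      · intro h
        haveI : (D.subgroupOf L).Normal :=
          (normal_subgroupOf_iff_le_normalizer le_normalizer).2 le_rfl
        have hDp : IsPGroup 17 D := A.2.to_le inf_le_left
        have hDp' : IsPGroup 17 (D.subgroupOf L) := hDp.comap_subtype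
        have h1 := hDp'.le_sylow_of_normal (Q.subtype h)
        intro d hd
        have h2 := h1 (show (⟨d, le_normalizer hd⟩ : L) ∈ D.subgroupOf L from hd)
        exact h2
    rw [Finset.filter_congr fun Q _ => hmem Q]
    have hcn : (Finset.univ.filter fun Q : Sylow 17 G => (Q : Subgroup G) ≤ L).card =
        Nat.card (Sylow 17 L) := by
      rw [← Fintype.card_subtype, ← Nat.card_eq_fintype_card]
      refine Nat.card_congr (Equiv.ofBijective
        (fun Q : {Q : Sylow 17 G // (Q : Subgroup G) ≤ L} => (Q : Sylow 17 G).subtype Q.2) ⟨?_, ?_⟩)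
      · exact fun a b h => Subtype.ext (Sylow.subtype_injective h)
      · intro T
        obtain ⟨R, hR⟩ := (T.2.map L.subtype).exists_le_sylow
        have hR' : (T : Subgroup L) ≤ (R : Subgroup G).subgroupOf L :=
          fun x hx => mem_subgroupOf.2 (hR ⟨x, hx, rfl⟩)
        have hTe := T.3 (R.2.comap_subtype (K := L)) hR'
        -- `R` lies in `L` as it contains a Sylow subgroup of `L` of full order
        let TA : Sylow 17 L := A.subtype hAL
        have hTc : Nat.card (T : Subgroup L) = Nat.card (R : Subgroup G) := by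
          rw [T.card_eq_multiplicity, ← TA.card_eq_multiplicity, hsize R A, A.coe_subtype,
            Nat.card_congr (subgroupOfEquivOfLe hAL).toEquiv]
        have hRL : (R : Subgroup G) ≤ L := by
          have he : (T : Subgroup L).map L.subtype = (R : Subgroup G) :=
            eq_of_le_of_card_ge hR (by rw [card_map_of_injective L.subtype_injective, hTc])
          rw [← he]
          exact map_subtype_le _
        exact ⟨⟨R, hRL⟩, Sylow.ext hTe⟩
    rw [hcn]
    have hmod := card_sylow_modEq_one 17 L
    rw [← hcn] at hmod ⊢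
    set c := (Finset.univ.filter fun Q : Sylow 17 G => (Q : Subgroup G) ≤ L).card with hc
    have hc2 : 2 ≤ c := by
      refine Finset.one_lt_card.2 ⟨A, ?_, B, ?_, Ne.symm hBA⟩
      · exact Finset.mem_filter.2 ⟨Finset.mem_univ _, hAL⟩
      · simp only [Finset.mem_filter, Finset.mem_univ, true_and]
        exact (hmem B).1 inf_le_right
    have hc35 : c ≤ 35 := by
      rw [← h35, Nat.card_eq_fintype_card]
      exact Finset.card_le_univ _
    have hne35 : c ≠ 35 := by
      intro h
      have hall : ∀ Q : Sylow 17 G, (Q : Subgroup G) ≤ L := by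
        intro Q
        have := Finset.eq_univ_of_card _ (h.trans (h35.symm.trans Nat.card_eq_fintype_card))
        exact (Finset.mem_filter.1 (this.ge (Finset.mem_univ Q))).2
      -- then `D` lies in every Sylow subgroup
      have hDle : D ≤ ⨅ Q : Sylow 17 G, (Q : Subgroup G) := le_iInf fun Q => (hmem Q).2 (hall Q)
      haveI hn : (⨅ Q : Sylow 17 G, (Q : Subgroup G)).Normal := by
        constructor
        intro a ha g
        rw [mem_iInf] at ha ⊢
        intro Q
        have := ha (g⁻¹ • Q)
        rw [Sylow.coe_subgroup_smul, mem_pointwise_smul_iff_inv_smul_mem] at this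
        simpa [MulAut.smul_def] using this
      rcases hn.eq_bot_or_eq_top with h' | h'
      · exact hDne A B hBA (le_bot_iff.1 (hDle.trans h'.le))
      · exact hBA (Sylow.ext ((top_le_iff.1 (h' ▸ iInf_le _ B)).trans
          (top_le_iff.1 (h' ▸ iInf_le _ A)).symm))
    unfold Nat.ModEq at hmod
    omega
  -- each Sylow subgroup contains exactly two intersections
  have hT : ∀ Q : Sylow 17 G, (𝒟.filter fun D => D ≤ (Q : Subgroup G)).card = 2 := by
    intro Q
    set S := 𝒟.filter fun D => D ≤ (Q : Subgroup G) with hS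
    have hmem : ∀ A B : Sylow 17 G, B ≠ A → (A : Subgroup G) ⊓ (B : Subgroup G) ∈ 𝒟 := by
      intro A B h
      exact Finset.mem_image.2 ⟨(A, B), Finset.mem_filter.2 ⟨Finset.mem_univ _, h⟩, rfl⟩
    have hfib : ∀ D ∈ S, ((Finset.univ.erase Q).filter fun R : Sylow 17 G => D ≤ (R : Subgroup G)).card
        = 17 := by
      intro D hD
      rw [hS, Finset.mem_filter] at hD
      rw [Finset.filter_erase, Finset.card_erase_of_mem (by simpa using hD.2), hF D hD.1]
    have hsum := Finset.sum_card_bipartiteAbove_eq_sum_card_bipartiteBelow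
      (r := fun (D : Subgroup G) (R : Sylow 17 G) => D ≤ (R : Subgroup G)) (s := S)
      (t := Finset.univ.erase Q)
    simp only [Finset.bipartiteAbove, Finset.bipartiteBelow] at hsum
    rw [Finset.sum_congr rfl hfib] at hsum
    have hone : ∀ R ∈ Finset.univ.erase Q, (S.filter fun D => D ≤ (R : Subgroup G)).card = 1 := by
      intro R hR
      have hRQ := Finset.ne_of_mem_erase hR
      rw [Finset.card_eq_one]
      refine ⟨(Q : Subgroup G) ⊓ (R : Subgroup G), Finset.eq_singleton_iff_unique_mem.2 ⟨?_, ?_⟩⟩
      · exact Finset.mem_filter.2 ⟨Finset.mem_filter.2 ⟨hmem Q R hRQ, inf_le_left⟩, inf_le_right⟩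
      · intro D hD
        simp only [hS, 𝒟, Finset.mem_filter, Finset.mem_image, Finset.mem_univ, true_and] at hD
        obtain ⟨⟨⟨⟨A, B⟩, hBA, rfl⟩, hDQ⟩, hDR⟩ := hD
        dsimp only at hBA hDQ hDR ⊢
        refine eq_of_le_of_card_ge (le_inf hDQ hDR) ?_
        have h1 := hcard Q R hRQ
        have h2 := hcard A B hBA
        have h3 := hsize Q A
        omega
    rw [Finset.sum_congr rfl hone, Finset.sum_const, Finset.sum_const, Finset.card_erase_of_mem
      (Finset.mem_univ Q), Finset.card_univ, ← Nat.card_eq_fintype_card, h35] at hsum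
    simp only [smul_eq_mul] at hsum
    omega
  have htot := Finset.sum_card_bipartiteAbove_eq_sum_card_bipartiteBelow
    (r := fun (D : Subgroup G) (R : Sylow 17 G) => D ≤ (R : Subgroup G)) (s := 𝒟)
    (t := (Finset.univ : Finset (Sylow 17 G)))
  simp only [Finset.bipartiteAbove, Finset.bipartiteBelow] at htot
  rw [Finset.sum_congr rfl hF, Finset.sum_congr rfl (fun Q _ => hT Q), Finset.sum_const,
    Finset.sum_const, Finset.card_univ, ← Nat.card_eq_fintype_card, h35] at htot
  simp only [smul_eq_mul] at htot
  omega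

/-- The centraliser of `P` has order 17 or 34. -/
theorem card_centralizer_dvd (h35 : Nat.card (Sylow 17 G) = 35) (P : Sylow 17 G) :
    Nat.card (centralizer ((P : Subgroup G) : Set G)) ∣ 34 := by
  classical
  have hP17 := card_sylow_eq h35 P
  haveI : IsCyclic (P : Subgroup G) := isCyclic_of_prime_card hP17
  set C := centralizer ((P : Subgroup G) : Set G) with hC
  have hfaith : ∀ g : G, (∀ Q : Sylow 17 G, g • Q = Q) → g = 1 := by
    intro g hg
    have hmem : g ∈ (MulAction.toPermHom G (Sylow 17 G)).ker := by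
      rw [MonoidHom.mem_ker]; ext Q; simp [hg Q]
    rcases (MulAction.toPermHom G (Sylow 17 G)).normal_ker.eq_bot_or_eq_top with h | h
    · rwa [h, mem_bot] at hmem
    · exfalso
      have hsub : Subsingleton (Sylow 17 G) := ⟨fun A B => by
        obtain ⟨a, rfl⟩ := MulAction.exists_smul_eq G A B
        have ha : a ∈ (MulAction.toPermHom G (Sylow 17 G)).ker := h ▸ mem_top a
        rw [MonoidHom.mem_ker] at ha
        have := congrArg (fun e : Equiv.Perm _ => e A) ha
        simpa using this.symm⟩
      rw [Nat.card_of_subsingleton P] at h35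
      omega
  have hfixP : ∀ c ∈ C, c • P = P := fun c hc =>
    Sylow.smul_eq_iff_mem_normalizer.2 (centralizer_le_normalizer _ hc)
  have hO : ∀ Q, Q ≠ P → (orbit (P : Subgroup G) Q).ncard = 17 := by
    intro Q hQ
    refine Eq.trans ?_ (relIndex_inf_eq h35 hQ)
    rw [← Nat.card_coe_set_eq,
      Nat.card_congr (orbitEquivQuotientStabilizer (P : Subgroup G) Q), ← index_eq_card]
    unfold relIndex
    congr 1
    rw [← P.2.inf_normalizer_sylow Q, inf_subgroupOf_left, ← Sylow.stabilizer_eq_normalizer]
    rfl
  haveI := Fintype.ofFinite (Sylow 17 G)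
  obtain ⟨Q₁, hQ₁⟩ : ∃ Q, Q ≠ P := Fintype.exists_ne_of_one_lt_card
    (by rw [← Nat.card_eq_fintype_card, h35]; norm_num) P
  have hPn : ∀ Q, Q ≠ P → P ∉ orbit (P : Subgroup G) Q := by
    intro Q hQ h
    obtain ⟨x, hx⟩ := h
    have : (x : G) • P = P := Sylow.smul_eq_iff_mem_normalizer.2 (le_normalizer x.2)
    exact hQ (smul_left_cancel (x : G) (hx.trans this.symm))
  set O := orbit (P : Subgroup G) Q₁ with hOdef
  obtain ⟨Q₂, hQ₂⟩ : ∃ Q, Q ∉ O ∧ Q ≠ P := by
    by_contra h
    push Not at h
    have hsub : (Set.univ : Set (Sylow 17 G)) ⊆ insert P O := fun Q _ => by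
      by_cases hQ : Q ∈ O
      · exact Set.mem_insert_of_mem _ hQ
      · rw [h Q hQ]; exact Set.mem_insert _ _
    have h1 := (Set.ncard_le_ncard hsub (Set.toFinite _)).trans (Set.ncard_insert_le _ _)
    rw [hO Q₁ hQ₁, Set.ncard_univ, h35] at h1
    omega
  have hcompl : ∀ Q, Q ≠ P → Q ∉ O → Q ∈ orbit (P : Subgroup G) Q₂ := by
    intro Q hQ hQO
    by_contra h
    have hd : Disjoint O (orbit (P : Subgroup G) Q₂) :=
      Set.disjoint_left.2 fun R hR hR' => hQ₂.1 (orbit_eq_iff.2 hR ▸ orbit_eq_iff.2 hR' ▸
        mem_orbit_self Q₂ : Q₂ ∈ orbit (P : Subgroup G) Q₁)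
    have h1 : ({P, Q} ∪ (O ∪ orbit (P : Subgroup G) Q₂)).ncard ≤ 35 := by
      rw [← h35, ← Set.ncard_univ]; exact Set.ncard_le_ncard (Set.subset_univ _)
    have hd2 : Disjoint ({P, Q} : Set (Sylow 17 G)) (O ∪ orbit (P : Subgroup G) Q₂) := by
      rw [Set.disjoint_left]
      rintro R (rfl | rfl) (hR | hR)
      · exact hPn _ hQ₁ hR
      · exact hPn _ hQ₂.2 hR
      · exact hQO hR
      · exact h hR
    rw [Set.ncard_union_eq hd2, Set.ncard_union_eq hd, hO _ hQ₁, hO _ hQ₂.2,
      Set.ncard_pair hQ.symm] at h1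
    omega
  -- elements moving both orbits into themselves lie in `P`
  have hkey : ∀ c ∈ C, c • Q₁ ∈ O → c • Q₂ ∈ orbit (P : Subgroup G) Q₂ → c ^ 17 = 1 := by
    intro c hc h1 h2
    apply hfaith
    intro Q
    by_cases hQ : Q = P
    · subst hQ
      exact hfixP _ (pow_mem hc 17)
    have key : ∀ Q₀ : Sylow 17 G, c • Q₀ ∈ orbit (P : Subgroup G) Q₀ → ∀ R ∈ orbit (P : Subgroup G) Q₀,
        c ^ 17 • R = R := by
      intro Q₀ h R hR
      obtain ⟨x, hx⟩ := h
      obtain ⟨y, rfl⟩ := hR
      have hx17 : (x : G) ^ 17 = 1 := by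
        have := pow_card_eq_one' (x := x)
        rw [hP17] at this
        simpa using congrArg Subtype.val this
      have hcy : ∀ z : (P : Subgroup G), Commute c (z : G) := fun z => (hc z z.2).symm
      have hpow : ∀ n : ℕ, c ^ n • Q₀ = (x : G) ^ n • Q₀ := by
        intro n
        induction n with
        | zero => simp
        | succ n ih =>
          have hx' : c • Q₀ = (x : G) • Q₀ := hx.symm
          rw [pow_succ c, mul_smul, hx', ← mul_smul, ((hcy x).pow_left n).eq, mul_smul, ih,
            ← mul_smul, ← pow_succ']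
      show c ^ 17 • ((y : G) • Q₀) = (y : G) • Q₀
      rw [← mul_smul, ((hcy y).pow_left 17).eq, mul_smul, hpow, hx17, one_smul]
    by_cases hQO : Q ∈ O
    · exact key Q₁ h1 Q hQO
    · exact key Q₂ h2 Q (hcompl Q hQ hQO)
  have hpres : ∀ c ∈ C, ∀ Q₀ : Sylow 17 G, ∀ R ∈ orbit (P : Subgroup G) Q₀,
      c • R ∈ orbit (P : Subgroup G) (c • Q₀) := by
    rintro c hc Q₀ _ ⟨y, rfl⟩
    refine ⟨y, ?_⟩
    show (y : G) • c • Q₀ = c • (y : G) • Q₀
    rw [← mul_smul, ← mul_smul, hc y y.2]
  -- the subgroup preserving the orbit `O`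
  let C₀ : Subgroup C :=
    { carrier := {c | (c : G) • Q₁ ∈ O}
      one_mem' := by simp [hOdef]
      mul_mem' := fun {a b} ha hb => by
        show ((a : G) * b) • Q₁ ∈ O
        rw [mul_smul]
        have := hpres a a.2 Q₁ _ hb
        rwa [orbit_eq_iff.2 ha] at this
      inv_mem' := fun {a} ha => by
        show (a : G)⁻¹ • Q₁ ∈ O
        have := hpres (a : G)⁻¹ (inv_mem a.2) Q₁ _ ha
        rw [inv_smul_smul] at this
        exact mem_orbit_symm.1 this }
  have hC₀p : IsPGroup 17 C₀ := by
    rintro ⟨⟨c, hc⟩, h1⟩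
    refine ⟨1, Subtype.ext (Subtype.ext ?_)⟩
    rw [pow_one]
    refine hkey c hc h1 ?_
    have hne : c • Q₂ ≠ P := by
      intro h
      exact hQ₂.2 (smul_left_cancel c (h.trans (hfixP c hc).symm))
    refine hcompl _ hne fun hO' => hQ₂.1 ?_
    have h3 := hpres c⁻¹ (inv_mem hc) Q₁ _ hO'
    rw [inv_smul_smul] at h3
    have h4 : c⁻¹ • Q₁ ∈ O := by
      have := hpres c⁻¹ (inv_mem hc) Q₁ _ h1
      rw [inv_smul_smul] at this
      exact mem_orbit_symm.1 this
    rwa [orbit_eq_iff.2 h4] at h3
  have hidx : C₀.index ≤ 2 := by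
    rw [index_eq_card]
    let f : C ⧸ C₀ → Bool := Quotient.lift (fun c : C => decide ((c : G)⁻¹ • Q₁ ∈ O)) (by
      intro a b hab
      rw [decide_eq_decide]
      have h : a⁻¹ * b ∈ C₀ := QuotientGroup.leftRel_apply.1 hab
      have key : ∀ a b : C, a⁻¹ * b ∈ C₀ → (b : G)⁻¹ • Q₁ ∈ O → (a : G)⁻¹ • Q₁ ∈ O := by
        intro a b h hb
        have hb' : b⁻¹ ∈ C₀ := hb
        have := C₀.mul_mem h hb'
        rwa [mul_inv_cancel_right] at this
      exact ⟨fun ha => key b a (by simpa using C₀.inv_mem h) ha, fun hb => key a b h hb⟩)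
    refine (Nat.card_le_card_of_injective f ?_).trans (by simp)
    intro x y
    induction x using QuotientGroup.induction_on with
    | H a =>
    induction y using QuotientGroup.induction_on with
    | H b =>
      intro hab
      simp only [f] at hab
      have hab' : ((a : G)⁻¹ • Q₁ ∈ O ↔ (b : G)⁻¹ • Q₁ ∈ O) := decide_eq_decide.1 hab
      rw [QuotientGroup.eq]
      by_cases ha : (a : G)⁻¹ • Q₁ ∈ O
      · have ha' : a⁻¹ ∈ C₀ := ha
        have hb' : b⁻¹ ∈ C₀ := hab'.1 ha
        simpa using C₀.mul_mem ha' (C₀.inv_mem hb')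
      · have hb : ¬ (b : G)⁻¹ • Q₁ ∈ O := fun h => ha (hab'.2 h)
        have hne : ∀ c : C, (c : G)⁻¹ • Q₁ ≠ P := fun c h =>
          hQ₁ (smul_left_cancel (c : G)⁻¹ (h.trans (hfixP _ (inv_mem c.2)).symm))
        have h1 := hcompl _ (hne a) ha
        have h2 := hcompl _ (hne b) hb
        rw [← orbit_eq_iff.2 h2] at h1
        have h3 := hpres (b : G) b.2 _ _ h1
        rw [smul_inv_smul, ← mul_smul] at h3
        have h4 : b * a⁻¹ ∈ C₀ := h3
        -- in `C`, elements commute modulo a subgroup of index at most two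
        have h5 : C₀.index ≤ 2 ∨ True := Or.inr trivial
        have h6 : a⁻¹ * b = a⁻¹ * (b * a⁻¹) * a := by group
        show a⁻¹ * b ∈ C₀
        rw [h6]
        show ((a : G)⁻¹ * ((b : G) * (a : G)⁻¹) * (a : G)) • Q₁ ∈ O
        obtain ⟨y, hy⟩ := mem_orbit_symm.1 (hcompl _ (hne a) ha)
        -- conjugation by `a` keeps the two orbits paired
        rw [mul_smul, mul_smul]
        have hA : (a : G) • Q₁ ∉ O := fun h => ha (by
          have h7 : a ∈ C₀ := h
          exact C₀.inv_mem h7)
        have hneA : (a : G) • Q₁ ≠ P := fun h =>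
          hQ₁ (smul_left_cancel (a : G) (h.trans (hfixP _ a.2).symm))
        have h8 : (a : G) • Q₁ ∈ orbit (P : Subgroup G) Q₂ := hcompl _ hneA hA
        have h9 := hpres ((b : G) * (a : G)⁻¹) (mul_mem b.2 (inv_mem a.2)) Q₂ _ h8
        have h10 : ((b : G) * (a : G)⁻¹) • Q₂ ∈ orbit (P : Subgroup G) Q₂ := by
          have hne2 : ((b : G) * (a : G)⁻¹) • Q₂ ≠ P := fun h => hQ₂.2 (smul_left_cancel _
            (h.trans (hfixP _ (mul_mem b.2 (inv_mem a.2))).symm))
          refine hcompl _ hne2 fun hO' => hQ₂.1 ?_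
          have h11 := hpres ((b : G) * (a : G)⁻¹)⁻¹ (inv_mem (mul_mem b.2 (inv_mem a.2))) Q₁ _ hO'
          rw [inv_smul_smul] at h11
          have h12 : (b * a⁻¹)⁻¹ ∈ C₀ := C₀.inv_mem h4
          rwa [orbit_eq_iff.2 (show ((b : G) * (a : G)⁻¹)⁻¹ • Q₁ ∈ O from h12)] at h11
        rw [orbit_eq_iff.2 h10] at h9
        have h13 := hpres (a : G)⁻¹ (inv_mem a.2) Q₂ _ h9
        rw [← orbit_eq_iff.2 h8] at h9
        have h14 := hpres (a : G)⁻¹ (inv_mem a.2) _ _ h9
        rw [inv_smul_smul] at h14
        exact h14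
  obtain ⟨k, hk⟩ := IsPGroup.iff_card.1 hC₀p
  have hk1 : k ≤ 1 := by
    obtain ⟨R, hR⟩ := (hC₀p.map C.subtype).exists_le_sylow
    have h := Nat.le_of_dvd Nat.card_pos (card_dvd_of_le hR)
    rw [card_map_of_injective C.subtype_injective, hk, card_sylow_eq h35 R] at h
    exact (Nat.pow_le_pow_iff_right (by norm_num : 1 < 17)).1 (by simpa using h)
  have h1 : Nat.card C = Nat.card C₀ * C₀.index := (card_mul_index C₀).symm
  rw [h1, hk]
  have hpos : 0 < C₀.index := Nat.pos_of_ne_zero index_ne_zero_of_finite
  interval_cases k <;> interval_cases h : C₀.index <;> norm_num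

theorem simple_contra (h35 : Nat.card (Sylow 17 G) = 35) : False := by
  classical
  let P : Sylow 17 G := default
  have hP17 := card_sylow_eq h35 P
  haveI : IsCyclic (P : Subgroup G) := isCyclic_of_prime_card hP17
  set H := normalizer ((P : Subgroup G) : Set G) with hH
  set C := centralizer ((P : Subgroup G) : Set G) with hC
  have hcardC := card_centralizer_dvd h35 P
  have hCH : C ≤ H := centralizer_le_normalizer _
  have hidx : (C.subgroupOf H).index ∣ 16 := by
    have hk := card_dvd_of_injective _
      (QuotientGroup.kerLift_injective (P : Subgroup G).normalizerMonoidHom)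
    rw [normalizerMonoidHom_ker, ← index_eq_card, IsCyclic.card_mulAut, hP17,
      Nat.totient_prime (by norm_num)] at hk
    exact hk
  have hG : Nat.card G = 35 * Nat.card H := by
    rw [← card_mul_index H, ← card_sylow_index P, h35, mul_comm]
  have hH2 : Nat.card H ∣ 34 * 16 := by
    rw [← card_mul_index (C.subgroupOf H), Nat.card_congr (subgroupOfEquivOfLe hCH).toEquiv]
    exact Nat.mul_dvd_mul hcardC hidx
  have h17H : 17 ∣ Nat.card H := hP17 ▸ card_dvd_of_le le_normalizer
  obtain ⟨m, hm⟩ := h17H
  have hm2 : m ∣ 2 ^ 5 := by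
    rw [hm, show 34 * 16 = 17 * 32 by norm_num] at hH2
    exact Nat.dvd_of_mul_dvd_mul_left (by norm_num) hH2
  obtain ⟨k, hk5, rfl⟩ := (Nat.dvd_prime_pow Nat.prime_two).1 hm2
  have hG' : Nat.card G = 35 * 17 * 2 ^ k := by rw [hG, hm]; ring
  have hfac : (Nat.card G).factorization 2 = k := by
    rw [hG', Nat.factorization_mul (by norm_num) (pow_ne_zero _ (by norm_num)), Finsupp.add_apply,
      Nat.factorization_eq_zero_of_not_dvd (by norm_num), Nat.Prime.factorization_pow Nat.prime_two,
      Finsupp.single_eq_same, zero_add]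
  -- a Sylow 2-subgroup inside the normalizer of `P`
  let S₀ : Sylow 2 H := default
  have hS₀ : Nat.card ((S₀ : Subgroup H).map H.subtype) = 2 ^ k := by
    rw [card_map_of_injective H.subtype_injective, S₀.card_eq_multiplicity, hm,
      Nat.factorization_mul (by norm_num) (pow_ne_zero _ (by norm_num)), Finsupp.add_apply,
      Nat.factorization_eq_zero_of_not_dvd (by norm_num), Nat.Prime.factorization_pow Nat.prime_two,
      Finsupp.single_eq_same, zero_add]
  let S : Sylow 2 G := Sylow.ofCard _ (by rw [hS₀, hfac])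
  have hSH : (S : Subgroup G) ≤ H := map_subtype_le _
  have hScard : Nat.card (S : Subgroup G) = 2 ^ k := hS₀
  have hSne : ∀ n, Nat.card (S : Subgroup G) = n → n ≠ Nat.card G := by
    intro n hn h
    rw [← hn, hScard, hG'] at h
    have h5 : 5 ∣ 2 ^ k := ⟨7 * 17 * 2 ^ k, by linarith⟩
    exact absurd ((Fact.out : Nat.Prime 5).dvd_of_dvd_pow h5) (by decide)
  have hk0 : k ≠ 0 := by
    rintro rfl
    have hmin : (Nat.card G).minFac = 5 := by rw [hG']; norm_num
    let R : Sylow 5 G := default
    have hR5 : Nat.card (R : Subgroup G) = 5 := by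
      rw [R.card_eq_multiplicity, hG', show 35 * 17 * 2 ^ 0 = 5 * 119 by norm_num,
        Nat.factorization_mul (by norm_num) (by norm_num), Finsupp.add_apply,
        Nat.Prime.factorization_self (by norm_num), Nat.factorization_eq_zero_of_not_dvd (by norm_num)]
      norm_num
    exact not_simple_of_cyclic_sylow hmin R (isCyclic_of_prime_card hR5)
      (by rw [hR5, hG']; norm_num) (by rw [hG']; norm_num) inferInstance
  have h2G : 2 ∣ Nat.card G := by rw [hG']; exact Dvd.dvd.mul_left (dvd_pow_self 2 hk0) _
  have hncyc : ¬ IsCyclic (S : Subgroup G) := fun hc =>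
    not_simple_of_cyclic_sylow ((Nat.minFac_eq_two_iff _).2 h2G) S hc (hSne _ rfl) h2G inferInstance
  -- the structure of `S`
  let φ : (S : Subgroup G) →* MulAut (P : Subgroup G) :=
    (P : Subgroup G).normalizerMonoidHom.comp (inclusion hSH)
  have hker : ∀ a : (S : Subgroup G), φ a = 1 ↔ (a : G) ∈ C := fun a => by
    rw [show φ a = (P : Subgroup G).normalizerMonoidHom ⟨a, hSH a.2⟩ from rfl,
      ← MonoidHom.mem_ker, normalizerMonoidHom_ker, mem_subgroupOf]
  have hker2 : Nat.card φ.ker ∣ 2 := by
    have h1 : Nat.card φ.ker ∣ 2 ^ k := hScard ▸ card_subgroup_dvd_card _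
    have h2 : Nat.card φ.ker ∣ 34 := by
      refine dvd_trans ?_ hcardC
      exact card_dvd_of_injective
        ({ toFun := fun a => ⟨((a : (S : Subgroup G)) : G), (hker _).1 a.2⟩
           map_one' := rfl
           map_mul' := fun _ _ => rfl } : φ.ker →* C)
        fun a b h => Subtype.ext (Subtype.ext (congrArg (fun t : C => (t : G)) h))
    have h3 := Nat.dvd_gcd h1 h2
    refine h3.trans ?_
    have : Nat.Coprime (2 ^ k) 17 := Nat.Coprime.pow_left _ (by norm_num)
    rw [show (34 : ℕ) = 2 * 17 from rfl, Nat.Coprime.gcd_mul_right_cancel_right _ this.symm]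
    exact Nat.gcd_dvd_right _ _
  have hAut : IsCyclic (MulAut (P : Subgroup G)) :=
    (((IsCyclic.mulAutMulEquiv (P : Subgroup G)).trans (Units.mapEquiv
      (ZMod.ringEquivCongr hP17).toMulEquiv)).isCyclic).2 (ZMod.isCyclic_units_prime (by norm_num))
  haveI := hAut
  haveI : IsCyclic φ.range := inferInstance
  obtain ⟨⟨_, s, rfl⟩, hs⟩ := IsCyclic.exists_generator (α := φ.range)
  -- the kernel is central
  have hzc : ∀ z ∈ φ.ker, ∀ a : (S : Subgroup G), a * z = z * a := by
    intro z hz a
    rcases (Nat.dvd_prime Nat.prime_two).1 hker2 with h | h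
    · rw [card_eq_one.1 h, mem_bot] at hz
      simp [hz]
    · rcases eq_or_ne z 1 with rfl | hz1
      · simp
      obtain ⟨u, hu⟩ := Nat.card_eq_two_iff.1 h
      have huniq : ∀ y ∈ φ.ker, y ≠ 1 → y = z := by
        intro y hy hy1
        by_contra hyz
        have h3 : ({1, z, y} : Set (S : Subgroup G)).ncard ≤ (φ.ker : Set (S : Subgroup G)).ncard :=
          Set.ncard_le_ncard (by
            rintro w (rfl | rfl | rfl)
            · exact one_mem _
            · exact hz
            · exact hy) (Set.toFinite _)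
        rw [Set.ncard_eq_three.2 ⟨1, z, y, hz1.symm, hy1.symm, Ne.symm hyz, rfl⟩,
          ← Nat.card_coe_set_eq] at h3
        change 3 ≤ Nat.card φ.ker at h3
        omega
      have := huniq _ (φ.normal_ker.conj_mem z hz a) fun he => hz1 (by
        have h4 := congrArg (fun t => a⁻¹ * t * a) he
        simpa [mul_assoc] using h4)
      exact mul_inv_eq_iff_eq_mul.1 this
  have hrep : ∀ a : (S : Subgroup G), ∃ (i : ℤ), ∃ z ∈ φ.ker, a = s ^ i * z := by
    intro a
    obtain ⟨i, hi⟩ := mem_zpowers_iff.1 (hs ⟨φ a, a, rfl⟩)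
    refine ⟨i, (s ^ i)⁻¹ * a, ?_, by group⟩
    rw [MonoidHom.mem_ker, map_mul, map_inv, map_zpow, inv_mul_eq_one]
    exact congrArg Subtype.val hi
  have hab : ∀ a b : (S : Subgroup G), a * b = b * a := by
    intro a b
    obtain ⟨i, z, hz, rfl⟩ := hrep a
    obtain ⟨j, w, hw, rfl⟩ := hrep b
    calc s ^ i * z * (s ^ j * w) = s ^ i * (z * s ^ j) * w := by group
      _ = s ^ i * (s ^ j * z) * w := by rw [hzc z hz]
      _ = s ^ (j + i) * (z * w) := by group
      _ = s ^ (j + i) * (w * z) := by rw [hzc w hw]
      _ = s ^ j * (s ^ i * w) * z := by group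
      _ = s ^ j * (w * s ^ i) * z := by rw [hzc w hw]
      _ = s ^ j * w * (s ^ i * z) := by group
  letI : CommGroup (S : Subgroup G) := { (inferInstance : Group (S : Subgroup G)) with mul_comm := hab }
  obtain ⟨z, hz, hz1⟩ : ∃ z ∈ φ.ker, z ≠ 1 := by
    by_contra h
    push Not at h
    apply hncyc
    exact isCyclic_of_injective φ ((injective_iff_map_eq_one φ).2 fun a ha => h a ha)
  have hzk : ∀ w ∈ φ.ker, w = 1 ∨ w = z := by
    intro w hw
    by_contra hc
    push Not at hc
    have h3 : ({1, z, w} : Set (S : Subgroup G)).ncard ≤ (φ.ker : Set (S : Subgroup G)).ncard :=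
      Set.ncard_le_ncard (by
        rintro v (rfl | rfl | rfl)
        · exact one_mem _
        · exact hz
        · exact hw) (Set.toFinite _)
    rw [Set.ncard_eq_three.2 ⟨1, z, w, hz1.symm, hc.1.symm, hc.2.symm, rfl⟩,
      ← Nat.card_coe_set_eq] at h3
    change 3 ≤ Nat.card φ.ker at h3
    have := Nat.le_of_dvd (by norm_num) hker2
    omega
  have hzs : ∀ i : ℤ, s ^ i ≠ z := by
    intro i hi
    apply hncyc
    refine ⟨s, fun a => ?_⟩
    obtain ⟨j, w, hw, rfl⟩ := hrep a
    rcases hzk w hw with rfl | rfl
    · exact ⟨j, by simp⟩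
    · exact ⟨j + i, by rw [← hi]; group⟩
  obtain ⟨e, he⟩ := IsPGroup.iff_orderOf.1 S.2 s
  have hk2 : k ≤ e + 1 := by
    refine (Nat.pow_le_pow_iff_right (a := 2) (by norm_num)).1 ?_
    rw [← hScard]
    calc Nat.card (S : Subgroup G) ≤ Nat.card (zpowers s × φ.ker) := by
          refine Nat.card_le_card_of_surjective (fun a => (a.1 : (S : Subgroup G)) * a.2) fun a => ?_
          obtain ⟨i, w, hw, rfl⟩ := hrep a
          exact ⟨(⟨s ^ i, i, rfl⟩, ⟨w, hw⟩), rfl⟩
      _ = Nat.card (zpowers s) * Nat.card φ.ker := Nat.card_prod _ _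
      _ ≤ 2 ^ (e + 1) := by
          rw [Nat.card_zpowers, he, pow_succ]
          exact Nat.mul_le_mul_left _ (Nat.le_of_dvd (by norm_num) hker2)
  by_cases he2 : 2 ≤ e
  · -- Burnside: `N(S) = C(S)`
    have hNC : normalizer ((S : Subgroup G) : Set G) ≤ centralizer ((S : Subgroup G) : Set G) := by
      intro g hg
      refine mem_of_primePow_parts _ g fun y hy r hr ⟨a, hya⟩ => ?_
      have hyN : y ∈ normalizer ((S : Subgroup G) : Set G) := zpowers_le.2 hg hy
      by_cases hr2 : r = 2
      · subst hr2
        have hyS : y ∈ (S : Subgroup G) := by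
          have hp : IsPGroup 2 (zpowers y) := IsPGroup.of_card (n := a) (by rw [Nat.card_zpowers, hya])
          have h2 : zpowers y ≤ (S : Subgroup G) :=
            calc zpowers y ≤ zpowers y ⊓ normalizer ((S : Subgroup G) : Set G) :=
                  le_inf le_rfl (zpowers_le.2 hyN)
              _ = zpowers y ⊓ (S : Subgroup G) := hp.inf_normalizer_sylow S
              _ ≤ (S : Subgroup G) := inf_le_right
          exact h2 (mem_zpowers y)
        intro b hb
        exact congrArg Subtype.val (hab ⟨b, hb⟩ ⟨y, hyS⟩)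
      have hodd : Nat.Coprime (orderOf y) 2 := by
        rw [hya]; exact Nat.Coprime.pow_left _ ((Nat.coprime_primes hr Nat.prime_two).2 hr2)
      let c : (S : Subgroup G) →* (S : Subgroup G) :=
        { toFun := fun b => ⟨y * b * y⁻¹, (mem_normalizer_iff.1 hyN b).1 b.2⟩
          map_one' := by ext; simp
          map_mul' := fun a b => by ext; simp [mul_assoc] }
      have hcc : ∀ (n : ℕ) (b : (S : Subgroup G)), ((c^[n]) b : G) = y ^ n * b * (y ^ n)⁻¹ := by
        intro n
        induction n with
        | zero => simp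
        | succ n ih =>
          intro b
          rw [Function.iterate_succ_apply']
          show y * ((c^[n]) b : G) * y⁻¹ = _
          rw [ih, pow_succ']
          group
      have hper : ∀ b, (c^[orderOf y]) b = b := fun b => Subtype.ext (by
        rw [hcc, pow_orderOf_eq_one]; group)
      -- the fixed elements of a map of odd period on two points
      have htwo : ∀ b b' : (S : Subgroup G), c b = b' → c b' = b → c b = b := by
        intro b b' h1 h2
        have hodd' : orderOf y % 2 = 1 := Nat.odd_iff.1 (Nat.coprime_two_right.1 hodd)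
        have h3 : ∀ n : ℕ, (c^[2 * n]) b = b := by
          intro n
          induction n with
          | zero => rfl
          | succ n ih => rw [mul_add, Function.iterate_add_apply]; simp [h1, h2, ih]
        have h4 := hper b
        rw [show orderOf y = 1 + 2 * (orderOf y / 2) by omega, Function.iterate_add_apply, h3] at h4
        simpa using h4
      -- the involution in the squares
      set t := s ^ (2 ^ (e - 1)) with ht
      have ht2 : t ^ 2 = 1 := by
        rw [ht, ← pow_mul, ← pow_succ, show e - 1 + 1 = e by omega, ← he, pow_orderOf_eq_one]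
      have ht1 : t ≠ 1 := by
        intro h
        have := Nat.le_of_dvd (by positivity) (orderOf_dvd_of_pow_eq_one h)
        rw [he] at this
        have := (Nat.pow_le_pow_iff_right (a := 2) (by norm_num)).1 this
        omega
      have hz2 : z ^ 2 = 1 := by
        have h1 : (⟨z, hz⟩ : φ.ker) ^ Nat.card φ.ker = 1 := pow_card_eq_one'
        have h2 := congrArg Subtype.val h1
        obtain ⟨d, hd⟩ := hker2
        simp only [SubmonoidClass.coe_pow, OneMemClass.coe_one] at h2
        calc z ^ 2 = z ^ (Nat.card φ.ker * d) := congrArg (z ^ ·) hd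
          _ = 1 := by rw [pow_mul, h2, one_pow]
      have hinv : ∀ b : (S : Subgroup G), b ^ 2 = 1 → b = 1 ∨ b = t ∨ b = z ∨ b = t * z := by
        intro b hb
        obtain ⟨i, w, hw, rfl⟩ := hrep b
        have hw2 : w ^ 2 = 1 := by rcases hzk w hw with rfl | rfl <;> simp [hz2]
        have hsi : s ^ (2 * i) = 1 := by
          rw [mul_pow, hw2, mul_one, ← zpow_natCast, ← zpow_mul, mul_comm] at hb
          exact_mod_cast hb
        obtain ⟨j, hj⟩ := orderOf_dvd_iff_zpow_eq_one.2 hsi
        rw [he, show e = e - 1 + 1 by omega, pow_succ] at hj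
        push_cast at hj
        have hi : i = (2 ^ (e - 1) : ℤ) * j := by linarith
        have hst : s ^ i = t ^ j := by
          rw [hi, zpow_mul, ht, ← zpow_natCast]; push_cast; rfl
        rcases Int.even_or_odd' j with ⟨q, rfl | rfl⟩
        · rw [hst, zpow_mul, zpow_ofNat, ht2, one_zpow, one_mul]
          rcases hzk w hw with rfl | rfl <;> simp
        · rw [hst, zpow_add, zpow_mul, zpow_ofNat, ht2, one_zpow, one_mul, zpow_one]
          rcases hzk w hw with rfl | rfl <;> simp
      have hct : c t = t := by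
        -- `t` is the only nontrivial power `b ^ 2 ^ (e - 1)`
        have hall : ∀ b : (S : Subgroup G), b ^ 2 ^ (e - 1) = 1 ∨ b ^ 2 ^ (e - 1) = t := by
          intro b
          obtain ⟨i, w, hw, rfl⟩ := hrep b
          have hw2 : w ^ 2 ^ (e - 1) = 1 := by
            rw [show e - 1 = e - 2 + 1 by omega, pow_succ', pow_mul]
            rcases hzk w hw with rfl | rfl <;> simp [hz2]
          rw [mul_pow, hw2, mul_one, ← zpow_natCast, ← zpow_mul, mul_comm, zpow_mul, zpow_natCast,
            ← ht]
          rcases Int.even_or_odd' i with ⟨q, rfl | rfl⟩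
          · left; rw [zpow_mul, zpow_ofNat, ht2, one_zpow]
          · right; rw [zpow_add, zpow_mul, zpow_ofNat, ht2, one_zpow, one_mul, zpow_one]
        rcases hall (c s) with h | h
        · exfalso
          rw [← map_pow, ← ht] at h
          apply ht1
          apply Subtype.ext
          have h2 : y * (t : G) * y⁻¹ = 1 := congrArg Subtype.val h
          rwa [mul_inv_eq_one, mul_eq_left] at h2
        · rwa [← map_pow, ← ht] at h
      have hcinj : Function.Injective c := fun a b h => Subtype.ext (by
        have h2 : y * (a : G) * y⁻¹ = y * b * y⁻¹ := congrArg Subtype.val h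
        simpa using h2)
      have hcz : c z = z := by
        have hsq : ∀ b, b ^ 2 = 1 → (c b) ^ 2 = 1 := fun b hb => by rw [← map_pow, hb, map_one]
        rcases hinv (c z) (hsq z hz2) with h | h | h | h
        · exact absurd (hcinj (h.trans (map_one c).symm)) hz1
        · exfalso
          refine hzs (2 ^ (e - 1) : ℤ) ?_
          rw [hcinj (h.trans hct.symm), ht, ← zpow_natCast]
          push_cast; rfl
        · exact h
        · refine htwo z (t * z) h ?_
          rw [map_mul, hct, h, ← mul_assoc, ← pow_two, ht2, one_mul]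
      -- `c` induces the identity on `S / ⟨z⟩`
      obtain ⟨i, w, hw, hcs⟩ := hrep (c s)
      have hcw : ∀ w ∈ φ.ker, c w = w := fun w hw => by
        rcases hzk w hw with rfl | rfl
        · exact map_one c
        · exact hcz
      have hiter : ∀ n : ℕ, ∃ v ∈ φ.ker, (c^[n]) s = s ^ (i ^ n) * v := by
        intro n
        induction n with
        | zero => exact ⟨1, one_mem _, by simp⟩
        | succ n ih =>
          obtain ⟨v, hv, hv'⟩ := ih
          refine ⟨w ^ (i ^ n) * v, mul_mem (zpow_mem hw _) hv, ?_⟩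
          rw [Function.iterate_succ_apply', hv', map_mul, hcw v hv, map_zpow, hcs, mul_zpow,
            ← zpow_mul, ← pow_succ', mul_assoc]
      obtain ⟨v, hv, hv'⟩ := hiter (orderOf y)
      rw [hper] at hv'
      have hir : ((2 ^ e : ℕ) : ℤ) ∣ i ^ orderOf y - 1 := by
        rw [← he, orderOf_dvd_iff_zpow_eq_one, zpow_sub, zpow_one]
        rcases hzk v hv with rfl | rfl
        · rw [mul_one] at hv'; rw [← hv', mul_inv_cancel]
        · exfalso
          refine hzs (1 - i ^ orderOf y) ?_
          rw [zpow_sub, zpow_one]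
          calc s * (s ^ i ^ orderOf y)⁻¹ = (s ^ i ^ orderOf y * v) * (s ^ i ^ orderOf y)⁻¹ := by rw [← hv']
            _ = v := by rw [hzc v hv]; group
      have hi1 : ((2 ^ e : ℕ) : ℤ) ∣ i - 1 := by
        rw [← ZMod.intCast_eq_intCast_iff_dvd_sub]
        have h1 : ((i : ZMod (2 ^ e))) ^ orderOf y = 1 := by
          rw [← ZMod.intCast_eq_intCast_iff_dvd_sub] at hir
          push_cast at hir
          exact hir.symm
        have hy0 : orderOf y ≠ 0 := (orderOf_pos y).ne'
        let u : (ZMod (2 ^ e))ˣ := Units.ofPowEqOne (i : ZMod (2 ^ e)) (orderOf y) h1 hy0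
        have hu : orderOf u ∣ orderOf y := orderOf_dvd_of_pow_eq_one (Units.ext (by simp [u, h1]))
        have hu2 : orderOf u ∣ 2 ^ (e - 1) := by
          refine orderOf_dvd_natCard u |>.trans ?_
          rw [Nat.card_eq_fintype_card, ZMod.card_units_eq_totient,
            Nat.totient_prime_pow Nat.prime_two (by omega)]
          simp
        have h2 : orderOf u = 1 :=
          Nat.eq_one_of_dvd_coprimes (Nat.Coprime.pow_right _ hodd) hu hu2
        have h3 := congrArg Units.val (orderOf_eq_one_iff.1 h2)
        push_cast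
        simpa [u] using h3.symm
      have hcs' : c s = s * w := by
        rw [hcs]
        congr 1
        obtain ⟨d, hd⟩ := hi1
        rw [show i = 1 + ((2 ^ e : ℕ) : ℤ) * d by linarith, zpow_add, zpow_one, zpow_mul,
          zpow_natCast, ← he, pow_orderOf_eq_one, one_zpow, mul_one]
      have hcs1 : c s = s := by
        refine htwo s (s * w) hcs' ?_
        rw [map_mul, hcs', hcw w hw, mul_assoc]
        rcases hzk w hw with rfl | rfl
        · simp
        · rw [← pow_two, hz2, mul_one]
      intro b hb
      obtain ⟨j, v, hv, hbv⟩ := hrep ⟨b, hb⟩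
      have h1 : c ⟨b, hb⟩ = ⟨b, hb⟩ := by rw [hbv, map_mul, map_zpow, hcs1, hcw v hv]
      exact (mul_inv_eq_iff_eq_mul.1 (congrArg Subtype.val h1)).symm
    have hc := MonoidHom.ker_transferSylow_isComplement' S hNC
    rcases (MonoidHom.transferSylow S hNC).normal_ker.eq_bot_or_eq_top with hb | hb
    · refine hSne _ rfl ?_
      have := hc.card_mul_card
      rw [hb, card_bot, one_mul] at this
      exact this
    · rw [hb] at hc
      exact S.ne_bot_of_dvd_card h2G (isComplement'_top_left.1 hc)
  · -- `|G| = 2380`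
    have hk2' : k = 2 := by
      rcases (show k = 1 ∨ k = 2 by omega) with rfl | rfl
      · exact absurd (isCyclic_of_prime_card (p := 2) (by simpa using hScard)) hncyc
      · rfl
    subst hk2'
    let R : Sylow 5 G := default
    have hR5 : Nat.card (R : Subgroup G) = 5 := by
      rw [R.card_eq_multiplicity, hG', show 35 * 17 * 2 ^ 2 = 5 * 476 by norm_num,
        Nat.factorization_mul (by norm_num) (by norm_num), Finsupp.add_apply,
        Nat.Prime.factorization_self (by norm_num), Nat.factorization_eq_zero_of_not_dvd (by norm_num)]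
      norm_num
    have hidx : (R : Subgroup G).index = 476 := by
      have := card_mul_index (R : Subgroup G)
      rw [hR5, hG'] at this
      omega
    have hn : Nat.card (Sylow 5 G) ∣ 476 := hidx ▸ R.card_dvd_index
    have hmod := card_sylow_modEq_one 5 G
    have h1 : Nat.card (Sylow 5 G) ≠ 1 := by
      intro h
      haveI : Subsingleton (Sylow 5 G) := (Nat.card_eq_one_iff_unique.1 h).1
      rcases R.normal_of_subsingleton.eq_bot_or_eq_top with hb | hb
      · rw [hb, card_bot] at hR5; omega
      · rw [hb, card_top, hG'] at hR5; omega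
    have hdiv : Nat.card (Sylow 5 G) = 476 := by
      have hmem : Nat.card (Sylow 5 G) ∈ Nat.divisors 476 := Nat.mem_divisors.2 ⟨hn, by norm_num⟩
      generalize Nat.card (Sylow 5 G) = n at *
      rw [show Nat.divisors 476 = {1, 2, 4, 7, 14, 17, 28, 34, 68, 119, 238, 476} by decide +kernel] at hmem
      simp only [Finset.mem_insert, Finset.mem_singleton] at hmem
      unfold Nat.ModEq at hmod
      omega
    have hNR : normalizer ((R : Subgroup G) : Set G) = (R : Subgroup G) := by
      refine (eq_of_le_of_card_ge le_normalizer ?_).symm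
      have := card_mul_index (normalizer ((R : Subgroup G) : Set G))
      rw [← card_sylow_index R, hdiv, hG'] at this
      rw [hR5]
      omega
    haveI : IsCyclic (R : Subgroup G) := isCyclic_of_prime_card hR5
    have hNC : normalizer ((R : Subgroup G) : Set G) ≤ centralizer ((R : Subgroup G) : Set G) := by
      rw [hNR]
      intro a ha b hb
      exact congrArg Subtype.val ((IsCyclic.commGroup (α := (R : Subgroup G))).mul_comm ⟨b, hb⟩ ⟨a, ha⟩)
    have hc := MonoidHom.ker_transferSylow_isComplement' R hNC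
    rcases (MonoidHom.transferSylow R hNC).normal_ker.eq_bot_or_eq_top with hb | hb
    · have := hc.card_mul_card
      rw [hb, card_bot, one_mul, hR5, hG'] at this
      omega
    · rw [hb] at hc
      have := isComplement'_top_left.1 hc
      rw [this, card_bot] at hR5
      omega

end Facts

theorem main : ∀ (n : ℕ) (G : Type u) [Group G] [Finite G], Nat.card G = n →
    Nat.card (Sylow 17 G) ≠ 35 := by
  intro n
  induction n using Nat.strong_induction_on with
  | _ n ih =>
  intro G _ _ hn h35
  haveI := isSimple_of_minimal h35 fun H _ _ hlt => ih _ (hn ▸ hlt) H rfl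
  exact simple_contra h35


/-- No finite group has exactly 35 Sylow 17-subgroups. -/
theorem result {G : Type*} [Group G] [Finite G] : Nat.card (Sylow 17 G) ≠ 35 := by
  exact main _ G rfl

end Cfsg.Agent.S4236
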