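import Cfsg.Statements.S4237
import Cfsg.Agent.SolvCrit.Kulakoff

set_option autoImplicit false
set_option linter.unusedSectionVars false
set_option linter.style.haveILetI false
open Cfsg

namespace Cfsg.Agent.S4237

open Subgroup CfsgLib.SolvCrit.Kulakoff
open scoped Classical Pointwise

attribute [local instance] Fintype.ofFinite

variable {G : Type*} [Group G] [Finite G] {p : ℕ} [hp : Fact p.Prime]

/-- Conjugation on subgroups. -/
noncomputable local instance conjAct : MulAction G (Subgroup G) :=
  MulAction.compHom (Subgroup G) (MulAut.conj : G →* MulAut G)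

theorem mem_smul {g x : G} {H : Subgroup G} :
    x ∈ (g • H : Subgroup G) ↔ g⁻¹ * x * g ∈ H := by
  show x ∈ H.map (MulAut.conj g).toMonoidHom ↔ _
  constructor
  · rintro ⟨h, hh, rfl⟩
    have : g⁻¹ * (MulAut.conj g) h * g = h := by rw [MulAut.conj_apply]; group
    exact this.symm ▸ hh
  · intro h
    exact ⟨g⁻¹ * x * g, h, by show MulAut.conj g _ = x; rw [MulAut.conj_apply]; group⟩

theorem card_smul (g : G) (H : Subgroup G) : Nat.card (g • H : Subgroup G) = Nat.card H :=
  card_map_of_injective (MulAut.conj g).injective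

theorem smul_mono (g : G) {H K : Subgroup G} (h : H ≤ K) : g • H ≤ g • K :=
  Subgroup.map_mono (f := (MulAut.conj g).toMonoidHom) h

theorem smul_le_iff (g : G) {H K : Subgroup G} : g • H ≤ g • K ↔ H ≤ K := by
  refine ⟨fun h => ?_, smul_mono g⟩
  have := smul_mono g⁻¹ h
  rwa [inv_smul_smul, inv_smul_smul] at this

theorem smul_eq_self {g : G} {H : Subgroup G} : g • H = H ↔ g ∈ normalizer (H : Set G) := by
  rw [mem_normalizer_iff'']
  constructor
  · intro h x
    conv_lhs => rw [← h]
    rw [mem_smul]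
  · intro h
    ext x
    rw [mem_smul]
    exact (h x).symm

theorem stabilizer_eq (P : Subgroup G) (H : Subgroup G) :
    MulAction.stabilizer P H = (normalizer (H : Set G)).subgroupOf P := by
  ext g
  rw [MulAction.mem_stabilizer_iff, mem_subgroupOf]
  exact smul_eq_self

/-- Counting by orbits of a `p`-group: a multiple of `p^j` when all orbits are. -/
theorem pow_dvd_card_of_orbits {P : Type*} [Group P] [Finite P] {X : Type*} [MulAction P X]
    (U : Finset X) (hU : ∀ (g : P), ∀ x ∈ U, g • x ∈ U) (m : ℕ)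
    (h : ∀ x ∈ U, m ∣ Nat.card (MulAction.orbit P x)) : m ∣ U.card := by
  rw [Finset.card_eq_sum_card_fiberwise (f := fun x => MulAction.orbit P x)
    (t := U.image fun x => MulAction.orbit P x) (fun x hx => Finset.mem_image_of_mem _ hx)]
  refine Finset.dvd_sum fun O hO => ?_
  obtain ⟨x, hx, rfl⟩ := Finset.mem_image.1 hO
  refine (h x hx).trans (dvd_of_eq (Eq.symm ?_))
  rw [← Nat.card_eq_finsetCard]
  refine Nat.card_congr (Equiv.subtypeEquivRight fun y => ?_)
  simp only [Finset.mem_filter, MulAction.orbit_eq_iff]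
  refine ⟨fun hy => hy.2, fun hy => ⟨?_, hy⟩⟩
  obtain ⟨g, rfl⟩ := hy
  exact hU g x hx

/-- Congruence modulo `p` with the fixed points. -/
theorem card_congr_fixed {P : Type*} [Group P] [Finite P] (hP : IsPGroup p P) {X : Type*}
    [MulAction P X] (U : Finset X) (hU : ∀ (g : P), ∀ x ∈ U, g • x ∈ U) :
    (U.card : ZMod p) = (U.filter fun x => ∀ g : P, g • x = x).card := by
  rw [← Finset.card_filter_add_card_filter_not (s := U) fun x => ∀ g : P, g • x = x, Nat.cast_add]
  suffices p ∣ (U.filter fun x => ¬ ∀ g : P, g • x = x).card by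
    rw [(ZMod.natCast_eq_zero_iff _ _).2 this, add_zero]
  refine pow_dvd_card_of_orbits (P := P) _ ?_ p ?_
  · intro g x hx
    obtain ⟨hxU, hxf⟩ := Finset.mem_filter.1 hx
    refine Finset.mem_filter.2 ⟨hU g x hxU, fun hall => hxf fun a => ?_⟩
    have h1 := hall (g * a * g⁻¹)
    rw [← mul_smul, inv_mul_cancel_right, mul_smul] at h1
    exact MulAction.injective g h1
  · intro x hx
    obtain ⟨-, hxf⟩ := Finset.mem_filter.1 hx
    rw [Nat.card_coe_set_eq, ← MulAction.index_stabilizer]
    obtain ⟨k, hk⟩ := hP.index (MulAction.stabilizer P x)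
    rw [hk]
    refine dvd_pow_self p fun h0 => hxf fun g => ?_
    rw [h0, pow_zero, index_eq_one] at hk
    exact MulAction.mem_stabilizer_iff.1 (hk ▸ mem_top g)

theorem le_of_normalized {P : Sylow p G} {H : Subgroup G} (hH : IsPGroup p H)
    (h : (P : Subgroup G) ≤ normalizer (H : Set G)) : H ≤ (P : Subgroup G) := by
  have h1 : IsPGroup p ((P : Subgroup G) ⊔ H : Subgroup G) := P.2.to_sup_of_normal_right' hH h
  exact le_sup_right.trans (P.3 h1 le_sup_left).le

theorem orbit_card (P : Subgroup G) (H : Subgroup G) :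
    Nat.card (MulAction.orbit P H) = ((normalizer (H : Set G)).subgroupOf P).index := by
  rw [← stabilizer_eq, MulAction.index_stabilizer, ← Nat.card_coe_set_eq]

/-- The count of invariant subgroups of `K` of order `p^a` is `≡ 1` modulo `p`. -/
theorem card_fixed_mod_p {a : ℕ} {P K : Subgroup G} (hP : IsPGroup p P) (hKP : K ≤ P)
    (hPK : P ≤ normalizer (K : Set G)) (hd : p ^ a ∣ Nat.card K) :
    (((subs p a K).filter fun H : Subgroup G => P ≤ normalizer (H : Set G)).card : ZMod p) = 1 := by
  have h := card_congr_fixed (p := p) hP (subs p a K) (fun g H hH => by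
    obtain ⟨h1, h2⟩ := mem_subs.1 hH
    refine mem_subs.2 ⟨?_, (card_smul (g : G) H).trans h2⟩
    have := smul_mono (g : G) h1
    rwa [smul_eq_self.2 (hPK g.2)] at this)
  rw [card_subs_mod_p (hP.to_le hKP) hd] at h
  rw [h]
  congr 2
  ext H
  simp only [Finset.mem_filter]
  exact and_congr Iff.rfl
    ⟨fun h g => smul_eq_self.2 (h g.2), fun h g hg => smul_eq_self.1 (h ⟨g, hg⟩)⟩

theorem card_outside {a : ℕ} (P : Sylow p G) {e : ℕ} (he : Nat.card (P : Subgroup G) = p ^ e)
    (hae : a < e) :
    p ^ 2 ∣ ((subs p a (⊤ : Subgroup G)).filter fun H : Subgroup G => ¬ H ≤ (P : Subgroup G)).card := by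
  set S := (subs p a (⊤ : Subgroup G)).filter fun H : Subgroup G => ¬ H ≤ (P : Subgroup G) with hS
  have hPnorm : ∀ g : (P : Subgroup G), (g : G) • (P : Subgroup G) = P := fun g =>
    smul_eq_self.2 (le_normalizer g.2)
  have hSinv : ∀ (g : (P : Subgroup G)), ∀ H ∈ S, g • H ∈ S := by
    intro g H hH
    obtain ⟨h1, h2⟩ := Finset.mem_filter.1 hH
    refine Finset.mem_filter.2 ⟨mem_subs.2 ⟨le_top, (card_smul (g : G) H).trans (mem_subs.1 h1).2⟩,
      fun h => h2 ((smul_le_iff (g : G)).1 (h.trans_eq (hPnorm g).symm))⟩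
  have hHp : ∀ H ∈ S, IsPGroup p H := fun H hH =>
    IsPGroup.of_card (mem_subs.1 (Finset.mem_filter.1 hH).1).2
  have hidx1 : ∀ H ∈ S, ((normalizer (H : Set G)).subgroupOf (P : Subgroup G)).index ≠ 1 := by
    intro H hH h1
    rw [index_eq_one, subgroupOf_eq_top] at h1
    exact (Finset.mem_filter.1 hH).2 (le_of_normalized (hHp H hH) h1)
  -- orbits of size `p`
  set U := S.filter fun H : Subgroup G => ((normalizer (H : Set G)).subgroupOf (P : Subgroup G)).index = p with hU
  rw [← Finset.card_filter_add_card_filter_not (s := S)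
    fun H : Subgroup G => ((normalizer (H : Set G)).subgroupOf (P : Subgroup G)).index = p]
  have hstabinv : ∀ (g : (P : Subgroup G)) (H : Subgroup G),
      ((normalizer ((g • H : Subgroup G) : Set G)).subgroupOf (P : Subgroup G)).index =
        ((normalizer (H : Set G)).subgroupOf (P : Subgroup G)).index := by
    intro g H
    rw [← orbit_card, ← orbit_card, MulAction.orbit_eq_iff.2 (MulAction.mem_orbit H g)]
  refine dvd_add ?_ ?_
  swap
  · refine pow_dvd_card_of_orbits (P := (P : Subgroup G)) _ ?_ _ ?_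
    · intro g H hH
      obtain ⟨h1, h2⟩ := Finset.mem_filter.1 hH
      exact Finset.mem_filter.2 ⟨hSinv g H h1, by rwa [hstabinv]⟩
    · intro H hH
      obtain ⟨h1, h2⟩ := Finset.mem_filter.1 hH
      rw [orbit_card]
      obtain ⟨k, hk⟩ := P.2.index ((normalizer (H : Set G)).subgroupOf (P : Subgroup G))
      rw [hk]
      refine pow_dvd_pow p ?_
      by_contra hlt
      rcases (show k = 0 ∨ k = 1 by omega) with rfl | rfl
      · exact hidx1 H h1 (by rw [hk, pow_zero])
      · exact h2 (by rw [hk, pow_one])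
  -- the Sylow subgroups involved
  set Q : Subgroup G → Subgroup G :=
    fun H : Subgroup G => H ⊔ ((P : Subgroup G) ⊓ normalizer (H : Set G)) with hQ
  have hkey : ∀ H ∈ U, IsPGroup p (Q H) ∧ Nat.card (Q H) = p ^ e ∧
      Q H ≤ normalizer (H : Set G) ∧ Q H ⊓ (P : Subgroup G) = (P : Subgroup G) ⊓ normalizer (H : Set G) ∧
      Nat.card ↥((P : Subgroup G) ⊓ normalizer (H : Set G)) * p = p ^ e := by
    intro H hH
    obtain ⟨hHS, hHidx⟩ := Finset.mem_filter.1 hH
    set P0 := (P : Subgroup G) ⊓ normalizer (H : Set G) with hP0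
    have hP0c : Nat.card P0 * p = p ^ e := by
      rw [← he, ← ((normalizer (H : Set G)).subgroupOf (P : Subgroup G)).card_mul_index, hHidx,
        ← inf_subgroupOf_left, Nat.card_congr (subgroupOfEquivOfLe inf_le_left).toEquiv]
    have hQp : IsPGroup p (Q H) := by
      have h := (P.2.to_le (inf_le_left : P0 ≤ P)).to_sup_of_normal_right' (hHp H hHS) inf_le_right
      rw [sup_comm] at h
      exact h
    have hlt : Nat.card P0 < Nat.card (Q H) := by
      refine lt_of_le_of_ne (card_le_of_le le_sup_right) fun h => (Finset.mem_filter.1 hHS).2 ?_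
      exact le_sup_left.trans ((eq_of_le_of_card_ge le_sup_right h.ge).ge.trans inf_le_left)
    obtain ⟨R, hR⟩ := hQp.exists_le_sylow
    have hRc : Nat.card (R : Subgroup G) = p ^ e := by rw [← he]; exact Nat.card_congr (R.equiv P).toEquiv
    have hQc : Nat.card (Q H) = p ^ e := by
      obtain ⟨k, hk⟩ := IsPGroup.iff_card.1 hQp
      obtain ⟨j, hj⟩ := IsPGroup.iff_card.1 (P.2.to_le (inf_le_left : P0 ≤ P))
      rw [hj, ← pow_succ] at hP0c
      have hje := Nat.pow_right_injective hp.out.two_le hP0c
      have hle := card_le_of_le hR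
      rw [hRc, hk, Nat.pow_le_pow_iff_right hp.out.one_lt] at hle
      rw [hj, hk, Nat.pow_lt_pow_iff_right hp.out.one_lt] at hlt
      rw [hk]
      congr 1
      omega
    refine ⟨hQp, hQc, sup_le le_normalizer inf_le_right, ?_, hP0c⟩
    refine le_antisymm (le_inf inf_le_right (inf_le_left.trans ?_))
      (le_inf le_sup_right inf_le_left)
    exact sup_le le_normalizer inf_le_right
  -- the Sylow subgroups through a maximal subgroup of `P`
  set TS : Subgroup G → Finset (Subgroup G) := fun P0 =>
    (Finset.univ.filter fun T : Subgroup G => IsPGroup p T ∧ Nat.card T = p ^ e ∧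
      T ⊓ (P : Subgroup G) = P0) with hTS
  set F : Subgroup G → Subgroup G → Finset (Subgroup G) := fun T P0 =>
    (subs p a T).filter fun H : Subgroup G => T ≤ normalizer (H : Set G) ∧ ¬ H ≤ P0 with hF
  have hUeq : U.card = ∑ P0 ∈ maxs p (P : Subgroup G), ∑ T ∈ TS P0, (F T P0).card := by
    rw [Finset.card_eq_sum_card_fiberwise
      (f := fun H : Subgroup G => (P : Subgroup G) ⊓ normalizer (H : Set G)) (t := maxs p (P : Subgroup G))]
    · refine Finset.sum_congr rfl fun P0 hP0 => ?_
      rw [Finset.card_eq_sum_card_fiberwise (f := Q) (t := TS P0)]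
      · refine Finset.sum_congr rfl fun T hT => ?_
        congr 1
        ext H
        simp only [hTS, Finset.mem_filter, Finset.mem_univ, true_and] at hT
        obtain ⟨hTp, hTc, hTP⟩ := hT
        simp only [Finset.mem_filter, hF, mem_subs]
        constructor
        · rintro ⟨⟨hH, rfl⟩, rfl⟩
          obtain ⟨-, -, hn, -, -⟩ := hkey H hH
          obtain ⟨hHS, -⟩ := Finset.mem_filter.1 hH
          exact ⟨⟨le_sup_left, (mem_subs.1 (Finset.mem_filter.1 hHS).1).2⟩, hn,
            fun h => (Finset.mem_filter.1 hHS).2 (h.trans inf_le_left)⟩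
        · rintro ⟨⟨hHT, hHc⟩, hTn, hHP0⟩
          have hHP : ¬ H ≤ (P : Subgroup G) := fun h => hHP0 (hTP ▸ le_inf hHT h)
          have hHS : H ∈ S := Finset.mem_filter.2 ⟨mem_subs.2 ⟨le_top, hHc⟩, hHP⟩
          obtain ⟨hP0P, hP0c⟩ := mem_maxs.1 hP0
          have hP0n : (P : Subgroup G) ⊓ normalizer (H : Set G) = P0 := by
            have hge : P0 ≤ (P : Subgroup G) ⊓ normalizer (H : Set G) :=
              le_inf hP0P ((hTP ▸ inf_le_left : P0 ≤ T).trans hTn)
            refine (eq_of_le_of_card_ge hge ?_).symm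
            obtain ⟨c, hc⟩ := card_dvd_of_le hge
            have h2 := card_dvd_of_le (inf_le_left :
              (P : Subgroup G) ⊓ normalizer (H : Set G) ≤ P)
            rw [← hP0c, hc, Nat.mul_dvd_mul_iff_left Nat.card_pos] at h2
            rcases (Nat.dvd_prime hp.out).1 h2 with h3 | h3
            · rw [hc, h3, mul_one]
            · exfalso
              rw [h3, hP0c] at hc
              exact hHP (le_of_normalized (hHp H hHS)
                ((eq_of_le_of_card_ge inf_le_left hc.ge).ge.trans inf_le_right))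
          have hHU : H ∈ U := by
            refine Finset.mem_filter.2 ⟨hHS, ?_⟩
            have h := ((normalizer (H : Set G)).subgroupOf (P : Subgroup G)).card_mul_index
            rw [← inf_subgroupOf_left, Nat.card_congr (subgroupOfEquivOfLe inf_le_left).toEquiv,
              hP0n, ← hP0c] at h
            rw [← inf_subgroupOf_left, hP0n]
            exact Nat.eq_of_mul_eq_mul_left Nat.card_pos h
          refine ⟨⟨hHU, hP0n⟩, ?_⟩
          obtain ⟨-, hQc, -, -, -⟩ := hkey H hHU
          refine eq_of_le_of_card_ge (sup_le hHT (hP0n.le.trans (hTP ▸ inf_le_left))) ?_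
          rw [hTc]
          exact hQc.ge
      · intro H hH
        obtain ⟨hHU, hHP0⟩ := Finset.mem_filter.1 hH
        obtain ⟨h1, h2, -, h4, -⟩ := hkey H hHU
        exact Finset.mem_filter.2 ⟨Finset.mem_univ _, h1, h2, h4.trans hHP0⟩
    · intro H hH
      refine mem_maxs.2 ⟨inf_le_left, ?_⟩
      rw [(hkey H hH).2.2.2.2, he]
  rw [← hU, hUeq]
  refine Finset.dvd_sum fun P0 hP0 => ?_
  obtain ⟨hP0P, hP0c⟩ := mem_maxs.1 hP0
  have hPN : (P : Subgroup G) ≤ normalizer (P0 : Set G) := le_normalizer_max P.2 hP0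
  -- the Sylow subgroups other than `P` in the normaliser of `P0`
  have hTmem : ∀ T : Subgroup G, T ∈ TS P0 ↔ IsPGroup p T ∧ Nat.card T = p ^ e ∧
      T ≤ normalizer (P0 : Set G) ∧ T ≠ (P : Subgroup G) := by
    intro T
    simp only [hTS, Finset.mem_filter, Finset.mem_univ, true_and]
    constructor
    · rintro ⟨hTp, hTc, hTP⟩
      have hmem : P0 ∈ maxs p T :=
        mem_maxs.2 ⟨hTP ▸ inf_le_left, by rw [hP0c, hTc, he]⟩
      refine ⟨hTp, hTc, le_normalizer_max hTp hmem, ?_⟩
      rintro rfl
      rw [inf_idem] at hTP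
      rw [← hTP] at hP0c
      exact hp.out.ne_one (Nat.eq_of_mul_eq_mul_left Nat.card_pos (hP0c.trans (mul_one _).symm))
    · rintro ⟨hTp, hTc, hTn, hTne⟩
      refine ⟨hTp, hTc, ?_⟩
      have hle : P0 ≤ T := by
        have h : IsPGroup p (T ⊔ P0 : Subgroup G) :=
          hTp.to_sup_of_normal_right' (P.2.to_le hP0P) hTn
        obtain ⟨R, hR⟩ := h.exists_le_sylow
        have hTR : T = (R : Subgroup G) := eq_of_le_of_card_ge (le_sup_left.trans hR)
          (by rw [hTc, ← he]; exact (Nat.card_congr (R.equiv P).toEquiv).le)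
        exact le_sup_right.trans (hR.trans hTR.ge)
      refine (eq_of_le_of_card_ge (le_inf hle hP0P) ?_).symm
      obtain ⟨c, hc⟩ := card_dvd_of_le (le_inf hle hP0P)
      have h2 := card_dvd_of_le (inf_le_right : T ⊓ (P : Subgroup G) ≤ P)
      rw [← hP0c, hc, Nat.mul_dvd_mul_iff_left Nat.card_pos] at h2
      rcases (Nat.dvd_prime hp.out).1 h2 with h3 | h3
      · rw [hc, h3, mul_one]
      · exfalso
        rw [h3, hP0c] at hc
        have h4 := eq_of_le_of_card_ge inf_le_right hc.ge
        exact hTne (eq_of_le_of_card_ge (h4 ▸ inf_le_left : (P : Subgroup G) ≤ T)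
          (by rw [hTc, he])).symm
  set N := normalizer (P0 : Set G) with hN
  -- all those Sylow subgroups are conjugate to `P` in `N`
  have hconst : ∀ T ∈ TS P0, (F T P0).card = (F (P : Subgroup G) P0).card := by
    intro T hT
    obtain ⟨hTp, hTc, hTn, -⟩ := (hTmem T).1 hT
    obtain ⟨R, hR⟩ := hTp.exists_le_sylow
    have hTR : T = (R : Subgroup G) := eq_of_le_of_card_ge hR
      (by rw [hTc, ← he]; exact (Nat.card_congr (R.equiv P).toEquiv).le)
    subst hTR
    obtain ⟨g, hg⟩ := MulAction.exists_smul_eq N (P.subtype hPN) (R.subtype hTn)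
    have hgPR : (g : G) • (P : Subgroup G) = (R : Subgroup G) := by
      have h := congrArg (fun S : Sylow p N => (S : Subgroup N).map N.subtype) hg
      simp only [Sylow.coe_subtype, map_subgroupOf_eq_of_le hTn] at h
      rw [← h]
      show _ = ((P.subtype hPN : Subgroup N).map (MulAut.conj g).toMonoidHom).map N.subtype
      rw [Sylow.coe_subtype, map_map]
      conv_lhs => rw [← map_subgroupOf_eq_of_le hPN]
      show ((((P : Subgroup G).subgroupOf N).map N.subtype).map (MulAut.conj (g : G)).toMonoidHom) = _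
      rw [map_map]
      congr 1
    have hgP0 : (g : G) • P0 = P0 := smul_eq_self.2 g.2
    have hnorm : ∀ (y : G) (A H : Subgroup G), A ≤ normalizer (H : Set G) →
        (y • A : Subgroup G) ≤ normalizer ((y • H : Subgroup G) : Set G) := by
      intro y A H hAH x hx
      rw [mem_smul] at hx
      rw [← smul_eq_self, ← mul_smul, show x * y = y * (y⁻¹ * x * y) by group, mul_smul,
        smul_eq_self.2 (hAH hx)]
    refine (Finset.card_bij (fun H _ => (g : G) • H) ?_ ?_ ?_).symm
    · intro H hH
      obtain ⟨hHm, hHn, hH0⟩ := Finset.mem_filter.1 hH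
      refine Finset.mem_filter.2 ⟨mem_subs.2 ⟨hgPR ▸ smul_mono _ (mem_subs.1 hHm).1,
        (card_smul _ H).trans (mem_subs.1 hHm).2⟩, hgPR ▸ hnorm _ _ _ hHn, fun h => hH0 ?_⟩
      rw [← hgP0] at h
      exact (smul_le_iff _).1 h
    · exact fun H _ H' _ h => MulAction.injective _ h
    · intro H hH
      obtain ⟨hHm, hHn, hH0⟩ := Finset.mem_filter.1 hH
      have hgRP : (g : G)⁻¹ • (R : Subgroup G) = (P : Subgroup G) := by
        rw [← hgPR, inv_smul_smul]
      refine ⟨(g : G)⁻¹ • H, Finset.mem_filter.2 ⟨mem_subs.2 ⟨hgRP ▸ smul_mono _ (mem_subs.1 hHm).1,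
        (card_smul _ H).trans (mem_subs.1 hHm).2⟩, hgRP ▸ hnorm _ _ _ hHn, fun h => hH0 ?_⟩,
        smul_inv_smul _ _⟩
      have h' := smul_mono (g : G) h
      rwa [smul_inv_smul, hgP0] at h'
  rw [Finset.sum_congr rfl hconst, Finset.sum_const, smul_eq_mul, sq]
  refine Nat.mul_dvd_mul ?_ ?_
  · -- the number of other Sylow subgroups of `N` is a multiple of `p`
    have hcn : (Finset.univ.filter fun R : Sylow p G => (R : Subgroup G) ≤ N).card =
        Nat.card (Sylow p N) := by
      rw [← Nat.card_eq_finsetCard]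
      refine Nat.card_congr (Equiv.ofBijective
        (fun R : {R : Sylow p G // R ∈ Finset.univ.filter fun R : Sylow p G => (R : Subgroup G) ≤ N} =>
          (R : Sylow p G).subtype (Finset.mem_filter.1 R.2).2) ⟨?_, ?_⟩)
      · exact fun a b h => Subtype.ext (Sylow.subtype_injective h)
      · intro T
        obtain ⟨R, hR⟩ := (T.2.map N.subtype).exists_le_sylow
        have hc : Nat.card (T : Subgroup N) = Nat.card (R : Subgroup G) := by
          rw [Nat.card_congr (T.equiv (P.subtype hPN)).toEquiv, Sylow.coe_subtype,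
            Nat.card_congr (subgroupOfEquivOfLe hPN).toEquiv]
          exact (Nat.card_congr (R.equiv P).toEquiv).symm
        have hTR : (T : Subgroup N).map N.subtype = (R : Subgroup G) :=
          eq_of_le_of_card_ge hR (by rw [card_map_of_injective N.subtype_injective, hc])
        refine ⟨⟨R, Finset.mem_filter.2 ⟨Finset.mem_univ _, hTR ▸ map_subtype_le _⟩⟩,
          Sylow.ext ?_⟩
        show (R : Subgroup G).subgroupOf N = _
        rw [← hTR]
        exact comap_map_eq_self_of_injective N.subtype_injective _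
    have hTcard : (TS P0).card + 1 = Nat.card (Sylow p N) := by
      rw [← hcn, ← Finset.card_erase_add_one
        (Finset.mem_filter.2 ⟨Finset.mem_univ P, hPN⟩ :
          P ∈ Finset.univ.filter fun R : Sylow p G => (R : Subgroup G) ≤ N)]
      congr 1
      refine (Finset.card_bij (t := TS P0) (fun (R : Sylow p G) _ => (R : Subgroup G)) ?_ ?_ ?_).symm
      · intro R hR
        obtain ⟨hne, hR'⟩ := Finset.mem_erase.1 hR
        refine (hTmem _).2 ⟨R.2, (Nat.card_congr (R.equiv P).toEquiv).trans he,
          (Finset.mem_filter.1 hR').2, fun h => hne (Sylow.ext h)⟩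
      · exact fun R _ R' _ h => Sylow.ext h
      · intro T hT
        obtain ⟨hTp, hTc, hTn, hTne⟩ := (hTmem T).1 hT
        obtain ⟨R, hR⟩ := hTp.exists_le_sylow
        have hTR : T = (R : Subgroup G) := eq_of_le_of_card_ge hR
          (by rw [hTc, ← he]; exact (Nat.card_congr (R.equiv P).toEquiv).le)
        subst hTR
        exact ⟨R, Finset.mem_erase.2 ⟨fun h => hTne (h ▸ rfl),
          Finset.mem_filter.2 ⟨Finset.mem_univ _, hTn⟩⟩, rfl⟩
    have hmod := card_sylow_modEq_one p N
    rw [← hTcard] at hmod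
    exact (Nat.modEq_zero_iff_dvd).1 (Nat.ModEq.add_right_cancel' 1 (hmod.trans (by rfl)))
  · -- normal subgroups of `P` outside `P0`
    have h1 := card_fixed_mod_p (a := a) P.2 le_rfl le_normalizer
      (he ▸ pow_dvd_pow p hae.le)
    have hP0d : p ^ a ∣ Nat.card P0 := by
      obtain ⟨j, hj⟩ := IsPGroup.iff_card.1 (P.2.to_le hP0P)
      rw [hj, he, ← pow_succ] at hP0c
      have hje := Nat.pow_right_injective hp.out.two_le hP0c
      rw [hj]
      exact pow_dvd_pow p (by omega)
    have h2 := card_fixed_mod_p (a := a) P.2 hP0P hPN hP0d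
    rw [← Finset.card_filter_add_card_filter_not
      (s := (subs p a (P : Subgroup G)).filter fun H : Subgroup G => (P : Subgroup G) ≤ normalizer (H : Set G))
      (fun H : Subgroup G => H ≤ P0), Finset.filter_comm, subs_filter_le hP0P, Nat.cast_add, h2,
      Finset.filter_filter] at h1
    rw [← ZMod.natCast_eq_zero_iff]
    simpa [hF] using h1

/-- Let G be a finite group, p a prime and a a natural number such that p^(a+1) divides the order of G. Then the number of subgroups of G of order p^a is congruent to 1 or to 1 + p modulo p². -/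
theorem result {G : Type*} [Group G] [Finite G] (p a : ℕ) (hp : p.Prime) (hdvd : p ^ (a + 1) ∣ Nat.card G) :
    Nat.card {H : Subgroup G // Nat.card H = p ^ a} ≡ 1 [MOD p ^ 2] ∨
      Nat.card {H : Subgroup G // Nat.card H = p ^ a} ≡ 1 + p [MOD p ^ 2] := by
  haveI : Fact p.Prime := ⟨hp⟩
  obtain ⟨P⟩ : Nonempty (Sylow p G) := inferInstance
  obtain ⟨e, he⟩ := IsPGroup.iff_card.1 P.2
  have hae : a < e := by
    have h := P.pow_dvd_card_of_pow_dvd_card hdvd
    rw [he, Nat.pow_dvd_pow_iff_le_right hp.one_lt] at h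
    omega
  have hN : Nat.card {H : Subgroup G // Nat.card H = p ^ a} = (subs p a (⊤ : Subgroup G)).card := by
    rw [← Nat.card_eq_finsetCard]
    exact Nat.card_congr (Equiv.subtypeEquivRight fun H : Subgroup G => by simp [mem_subs])
  rw [hN, ← ZMod.natCast_eq_natCast_iff, ← ZMod.natCast_eq_natCast_iff]
  have hsplit : ((subs p a (⊤ : Subgroup G)).card : ZMod (p ^ 2)) =
      (subs p a (P : Subgroup G)).card := by
    rw [← Finset.card_filter_add_card_filter_not (s := subs p a (⊤ : Subgroup G))
      fun H : Subgroup G => H ≤ (P : Subgroup G), subs_filter_le le_top, Nat.cast_add,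
      (ZMod.natCast_eq_zero_iff _ _).2 (card_outside P he hae), add_zero]
  rw [hsplit]
  push_cast
  by_cases ha : a = 0
  · left
    subst ha
    have : subs p 0 (P : Subgroup G) = {⊥} := by
      ext H
      simp only [mem_subs, pow_zero, Finset.mem_singleton]
      exact ⟨fun h => eq_bot_of_card_eq _ h.2, by rintro rfl; exact ⟨bot_le, card_bot⟩⟩
    rw [this, Finset.card_singleton, Nat.cast_one]
  by_cases hc : IsCyclic (P : Subgroup G)
  · left
    rw [card_subs_cyclic hc (he ▸ pow_dvd_pow p hae.le), Nat.cast_one]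
  by_cases hp2 : p = 2
  · -- for `p = 2` parity suffices
    have h1 := card_subs_mod_p (a := a) P.2 (he ▸ pow_dvd_pow p hae.le)
    generalize (subs p a (P : Subgroup G)).card = N at h1
    subst hp2
    have hmod : N % 2 = 1 := by
      have := (ZMod.natCast_eq_natCast_iff' N 1 2).1 (by rw [h1, Nat.cast_one])
      simpa using this
    have h4 : N % 4 = 1 ∨ N % 4 = 3 := by omega
    rcases h4 with h4 | h4
    · left
      have := (ZMod.natCast_eq_natCast_iff' N 1 (2 ^ 2)).2 (by norm_num; exact h4)
      simpa using this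
    · right
      have := (ZMod.natCast_eq_natCast_iff' N (1 + 2) (2 ^ 2)).2 (by norm_num; exact h4)
      rw [this]
      norm_num
  right
  exact card_subs_mod_sq hp2 e (P : Subgroup G) he (Nat.one_le_iff_ne_zero.2 ha) hae hc

end Cfsg.Agent.S4237
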