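import Cfsg.Statements.S4238
import Cfsg.Agent.Transfer.Frobenius
import Cfsg.Agent.Solvable.Frattini
import Cfsg.Agent.Coprime.Basic

set_option autoImplicit false
open Cfsg

set_option linter.style.haveILetI false

namespace Cfsg.Agent.S4238

open Subgroup CfsgLib.Transfer
open scoped commutatorElement

universe u

variable {G : Type u} [Group G] [Finite G] {p : ℕ} [Fact p.Prime]

theorem exists_orderOf_eq_exponent_of_isPGroup {K : Type u} [Group K] [Finite K]
    (hK : IsPGroup p K) : ∃ k : K, orderOf k = Monoid.exponent K := by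
  haveI := Fintype.ofFinite K
  obtain ⟨k, -, hk⟩ := Finset.exists_max_image (Finset.univ : Finset K) orderOf ⟨1, Finset.mem_univ _⟩
  refine ⟨k, Nat.dvd_antisymm (Monoid.order_dvd_exponent k) (Monoid.exponent_dvd.2 fun x => ?_)⟩
  obtain ⟨a, ha⟩ := IsPGroup.iff_orderOf.1 hK x
  obtain ⟨b, hb⟩ := IsPGroup.iff_orderOf.1 hK k
  rw [ha, hb]
  refine pow_dvd_pow p ?_
  have := hk x (Finset.mem_univ _)
  rw [ha, hb] at this
  exact (Nat.pow_le_pow_iff_right (Fact.out : p.Prime).one_lt).1 this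

/-- An element moving `y` by a `p`-element it centralises, of order prime to `p`, fixes `y`. -/
theorem conj_eq_of_fixed {g y d : G} (hgp : Nat.Coprime (orderOf g) p) {a : ℕ}
    (hd : d ^ p ^ a = 1) (hgd : g * d = d * g) (h : g * y * g⁻¹ = d * y) : g * y = y * g := by
  have hn : ∀ n : ℕ, g ^ n * y * (g ^ n)⁻¹ = d ^ n * y := by
    intro n
    induction n with
    | zero => simp
    | succ n ih =>
      have hc : g * d ^ n = d ^ n * g := (show Commute g d from hgd).pow_right n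
      calc g ^ (n + 1) * y * (g ^ (n + 1))⁻¹ = g * (g ^ n * y * (g ^ n)⁻¹) * g⁻¹ := by
            rw [pow_succ']; group
        _ = (g * d ^ n) * y * g⁻¹ := by rw [ih]; group
        _ = d ^ n * (g * y * g⁻¹) := by rw [hc]; group
        _ = d ^ (n + 1) * y := by rw [h, pow_succ]; group
  have h1 := hn (orderOf g)
  rw [pow_orderOf_eq_one] at h1
  have h2 : d ^ orderOf g = 1 := by simpa using h1.symm
  have h3 : d = 1 := orderOf_eq_one_iff.1 (Nat.eq_one_of_dvd_coprimes
    (hgp.pow_right a) (orderOf_dvd_of_pow_eq_one h2) (orderOf_dvd_of_pow_eq_one hd))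
  rw [h3, one_mul] at h
  exact mul_inv_eq_iff_eq_mul.1 h

/-- The backward direction for a minimal nontrivially acted-on `p`-subgroup. -/
theorem contra_of_minimal
    (hsec : ∀ (H : Subgroup G) (N : Subgroup H) [N.Normal], Cfsg.pPrimeCore p (H ⧸ N) = ⊥ →
        ∃ k : H ⧸ N, orderOf k = Monoid.exponent (H ⧸ N))
    {q : ℕ} (hq : q.Prime) (hqp : q ≠ p) {g : G} {Q : Subgroup G} (hQ : IsPGroup p Q)
    (hg : g ∈ normalizer (Q : Set G)) (hgp : Nat.Coprime (orderOf g) p)
    (hnc : g ∉ centralizer (Q : Set G)) (hgq : g ^ q ∈ centralizer (Q : Set G))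
    (hmin : ∀ R : Subgroup G, R < Q → g ∈ normalizer (R : Set G) → g ∈ centralizer (R : Set G)) :
    False := by
  have hp : p.Prime := Fact.out
  set C := Q ⊓ centralizer ({g} : Set G) with hC
  have hmemC : ∀ y, y ∈ C ↔ y ∈ Q ∧ g * y = y * g := fun y => by
    simp [hC, mem_centralizer_iff]
  -- the Frattini subgroup of `Q` is centralised
  have hFC : (frattini Q).map Q.subtype ≤ C := by
    set F := (frattini Q).map Q.subtype with hF
    have hQne : (frattini Q) ≠ ⊤ := by
      intro htop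
      haveI : Nontrivial Q := (nontrivial_iff_ne_bot Q).2 fun h => hnc (by
        intro y hy
        rw [h, SetLike.mem_coe, mem_bot] at hy
        simp [hy])
      obtain h1 | ⟨M, hM, -⟩ := eq_top_or_exists_le_coatom (⊥ : Subgroup Q)
      · exact bot_ne_top h1
      · exact hM.1 (top_le_iff.1 (htop ▸ frattini_le_coatom hM))
    have hlt : F < Q := lt_of_le_of_ne (map_subtype_le _) fun h => hQne (by
      apply map_injective Q.subtype_injective
      rw [← hF, h, ← MonoidHom.range_eq_map, range_subtype])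
    have hgF : g ∈ normalizer (F : Set G) := by
      have hQg : Q.map (MulAut.conj g).toMonoidHom = Q := map_conj_eq_of_mem_normalizer hg
      let φ : Q ≃* Q := ((MulAut.conj g).subgroupMap Q).trans (MulEquiv.subgroupCongr hQg)
      have hφ : ∀ y : Q, ((φ y : Q) : G) = g * y * g⁻¹ := fun y => rfl
      have hfix := characteristic_iff_map_eq.1 (frattini_characteristic (G := Q)) φ
      refine mem_normalizer_of_map_conj_eq ?_
      rw [hF]
      conv_rhs => rw [← hfix]
      rw [map_map, map_map]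
      congr 1
    intro y hy
    exact (hmemC y).2 ⟨map_subtype_le _ hy, ((hmin F hlt hgF) y hy).symm⟩
  have hQp : ∀ y ∈ Q, y ^ p ∈ C := fun y hy =>
    hFC ⟨_, CfsgLib.Solvable.pow_mem_frattini hQ ⟨y, hy⟩, by simp⟩
  have hQc : ∀ x ∈ Q, ∀ y ∈ Q, x * y * x⁻¹ * y⁻¹ ∈ C := fun x hx y hy =>
    hFC ⟨⁅(⟨x, hx⟩ : Q), ⟨y, hy⟩⁆, CfsgLib.Solvable.commutator_le_frattini hQ
      (commutator_mem_commutator (mem_top _) (mem_top _)), by simp [commutatorElement_def]⟩
  set H := Q ⊔ zpowers g with hH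
  set N₀ := C ⊔ zpowers (g ^ q) with hN₀
  have hgQ : zpowers g ≤ normalizer (Q : Set G) := zpowers_le.2 hg
  have hN₀H : N₀ ≤ H := sup_le (inf_le_left.trans le_sup_left)
    (zpowers_le.2 (pow_mem (mem_sup_right (mem_zpowers g)) q))
  have hCn : H ≤ normalizer (C : Set G) := by
    refine sup_le (fun x hx => ?_) (zpowers_le.2 ?_)
    · refine mem_normalizer_iff.2 fun y => ⟨fun hy => ?_, fun hy => ?_⟩
      · have := mul_mem (hQc x hx y ((hmemC y).1 hy).1) hy
        simpa [mul_assoc] using this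
      · have h1 := mul_mem (hQc x⁻¹ (inv_mem hx) _ ((hmemC _).1 hy).1) hy
        simpa [mul_assoc] using h1
    · refine mem_normalizer_iff.2 fun y => ⟨fun hy => ?_, fun hy => ?_⟩
      · rwa [((hmemC y).1 hy).2, mul_inv_cancel_right]
      · have h1 := ((hmemC _).1 hy).2
        have h2 : g * y * g⁻¹ = y := by
          have : g⁻¹ * (g * (g * y * g⁻¹)) = g⁻¹ * (g * y * g⁻¹ * g) := by rw [h1]
          simpa [mul_assoc] using this
        rwa [h2] at hy
  have hgqc : H ≤ centralizer ({g ^ q} : Set G) := by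
    refine sup_le (fun x hx => ?_) (zpowers_le.2 ?_)
    · rw [mem_centralizer_singleton_iff]; exact hgq x hx
    · rw [mem_centralizer_singleton_iff]; exact (Commute.self_pow g q).eq
  have hNn : (N₀.subgroupOf H).Normal := by
    rw [normal_subgroupOf_iff_le_normalizer hN₀H]
    refine (le_inf hCn ?_).trans (normalizer_inf_normalizer_le_normalizer_sup _ _)
    refine fun x hx => centralizer_le_normalizer _ (mem_centralizer_iff.2 fun z hz => ?_)
    obtain ⟨i, rfl⟩ := mem_zpowers_iff.1 hz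
    have hc : Commute x (g ^ q) := mem_centralizer_singleton_iff.1 (hgqc hx)
    exact ((hc.zpow_right i).eq).symm
  have hNQ : ∀ y ∈ Q, y ∈ N₀ → y ∈ C := by
    intro y hy hyN
    obtain ⟨c, hc, z, hz, rfl⟩ := CfsgLib.Coprime.exists_mul_of_mem_sup
      ((zpowers_le.2 (pow_mem (mem_sup_right (mem_zpowers g)) q)).trans hCn) hyN
    have hzQ : z ∈ Q := by simpa using mul_mem (inv_mem ((hmemC c).1 hc).1) hy
    obtain ⟨a, ha⟩ := IsPGroup.iff_orderOf.1 hQ ⟨z, hzQ⟩
    rw [Subgroup.orderOf_mk] at ha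
    have : z = 1 := orderOf_eq_one_iff.1 (Nat.eq_one_of_dvd_coprimes
      ((hgp.coprime_dvd_left (orderOf_dvd_of_mem_zpowers
        (zpowers_le.2 (pow_mem (mem_zpowers g) q) hz))).pow_right a) dvd_rfl ha.dvd)
    simpa [this] using hc
  have hNg : g ^ q ∈ N₀ := mem_sup_right (mem_zpowers _)
  have hCN : C ≤ N₀ := le_sup_left
  have hgH : g ∈ H := mem_sup_right (mem_zpowers g)
  -- if `g` centralises `Q` modulo `N₀`, it centralises `Q`
  have hkey : ∀ y ∈ Q, g * y * g⁻¹ * y⁻¹ ∈ N₀ → y ∈ C := by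
    intro y hy hN
    have h1 := hNQ _ (mul_mem ((mem_normalizer_iff.1 hg y).1 hy) (inv_mem hy)) hN
    obtain ⟨a, ha⟩ := IsPGroup.iff_orderOf.1 hQ ⟨_, ((hmemC _).1 h1).1⟩
    rw [Subgroup.orderOf_mk] at ha
    exact (hmemC y).2 ⟨hy, conj_eq_of_fixed (y := y) (d := g * y * g⁻¹ * y⁻¹) hgp (a := a)
      (ha ▸ pow_orderOf_eq_one _) ((hmemC _).1 h1).2 (by group)⟩
  haveI := hNn
  set N := N₀.subgroupOf H with hN
  set π := QuotientGroup.mk' N with hπ
  have hπ1 : ∀ x : H, π x = 1 ↔ (x : G) ∈ N₀ := fun x =>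
    (QuotientGroup.eq_one_iff x).trans mem_subgroupOf
  set V := (Q.subgroupOf H).map π with hV
  haveI hQn : (Q.subgroupOf H).Normal :=
    (normal_subgroupOf_iff_le_normalizer le_sup_left).2 (sup_le le_normalizer hgQ)
  haveI hVn : V.Normal := hQn.map _ (QuotientGroup.mk'_surjective N)
  set G₁ := π ⟨g, hgH⟩ with hG₁
  have hVp : ∀ v ∈ V, v ^ p = 1 := by
    rintro _ ⟨x, hx, rfl⟩
    rw [← map_pow, hπ1]
    exact hCN (by simpa using hQp _ hx)
  have hVc : ∀ v ∈ V, ∀ w ∈ V, v * w = w * v := by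
    rintro _ ⟨x, hx, rfl⟩ _ ⟨y, hy, rfl⟩
    have h1 : π (x * y * x⁻¹ * y⁻¹) = 1 := (hπ1 _).2 (hCN (by simpa using hQc _ hx _ hy))
    simp only [map_mul, map_inv] at h1
    rw [mul_inv_eq_one, mul_inv_eq_iff_eq_mul] at h1
    exact h1
  have hVg : ∀ v ∈ V, G₁ * v = v * G₁ → v = 1 := by
    rintro _ ⟨x, hx, rfl⟩ hcm
    have h1 : π (⟨g, hgH⟩ * x * ⟨g, hgH⟩⁻¹ * x⁻¹) = 1 := by
      simp only [map_mul, map_inv]
      rw [← hG₁, hcm]
      group
    rw [hπ1] at h1 ⊢
    exact hCN (hkey _ hx (by simpa using h1))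
  -- the quotient by `V` is generated by the image of `g`
  have hdec : ∀ k : H ⧸ N, ∃ v ∈ V, ∃ i : ℤ, k = v * G₁ ^ i := by
    intro k
    obtain ⟨⟨x, hx⟩, rfl⟩ := QuotientGroup.mk'_surjective N k
    obtain ⟨y, hy, z, hz, rfl⟩ := CfsgLib.Coprime.exists_mul_of_mem_sup hgQ hx
    obtain ⟨i, rfl⟩ := mem_zpowers_iff.1 hz
    refine ⟨π ⟨y, mem_sup_left hy⟩, ⟨_, mem_subgroupOf.2 hy, rfl⟩, i, ?_⟩
    rw [hG₁, ← map_zpow, ← map_mul]
    rfl
  have hGq : G₁ ^ q = 1 := by rw [hG₁, ← map_pow, hπ1]; simpa using hNg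
  have hVq : ∀ k : H ⧸ N, k ^ q ∈ V := by
    intro k
    obtain ⟨v, hv, i, rfl⟩ := hdec k
    rw [← QuotientGroup.eq_one_iff (N := V), QuotientGroup.mk_pow, QuotientGroup.mk_mul,
      (QuotientGroup.eq_one_iff (N := V) v).2 hv, one_mul, QuotientGroup.mk_zpow,
      ← zpow_natCast, ← zpow_mul, mul_comm i, zpow_mul, zpow_natCast, ← QuotientGroup.mk_pow, hGq]
    simp
  -- some element of `V` is nontrivial
  have hy0 : ∃ y ∈ Q, y ∉ C := by
    by_contra hcon
    push Not at hcon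
    exact hnc fun y hy => (((hmemC y).1 (hcon y hy)).2).symm
  obtain ⟨y0, hy0Q, hy0C⟩ := hy0
  set v0 := π ⟨y0, mem_sup_left hy0Q⟩ with hv0
  have hv0V : v0 ∈ V := ⟨_, mem_subgroupOf.2 hy0Q, rfl⟩
  have hv01 : v0 ≠ 1 := by rw [hv0, Ne, hπ1]; exact fun h => hy0C (hNQ _ hy0Q h)
  have hG₁1 : G₁ ≠ 1 := fun h => hv01 (hVg v0 hv0V (by rw [h, one_mul, mul_one]))
  -- an element outside `V` acts as `g` does
  have hout : ∀ k : H ⧸ N, k ∉ V → ∀ v ∈ V, k * v = v * k → v = 1 := by
    intro k hk v hv hcm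
    obtain ⟨w, hw, i, rfl⟩ := hdec k
    apply hVg v hv
    have h1 : G₁ ^ i * v = v * G₁ ^ i := by
      apply mul_left_cancel (a := w)
      rw [← mul_assoc, hcm, ← mul_assoc, ← mul_assoc, hVc v hv w hw]
    have hi : ¬ (q : ℤ) ∣ i := by
      rintro ⟨j, rfl⟩
      apply hk
      rw [zpow_mul, zpow_natCast, hGq, one_zpow, mul_one]
      exact hw
    obtain ⟨a, b, hab⟩ :=
      ((Nat.prime_iff_prime_int.mp hq).irreducible.coprime_iff_not_dvd).mpr hi
    have h2 : G₁ = (G₁ ^ i) ^ b := by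
      have : G₁ ^ (a * (q : ℤ) + b * i) = G₁ := by rw [hab, zpow_one]
      rw [zpow_add, mul_comm a, zpow_mul, zpow_natCast, hGq, one_zpow, one_mul, mul_comm b,
        zpow_mul] at this
      exact this.symm
    rw [h2]
    exact ((show Commute (G₁ ^ i) v from h1).zpow_left b).eq
  have hcore : Cfsg.pPrimeCore p (H ⧸ N) = ⊥ := by
    refine le_bot_iff.1 (sSup_le fun M ⟨hMn, hMp⟩ => ?_)
    intro b hb
    have hMV : ∀ v ∈ V, v ∈ M → v = 1 := fun v hv hvM =>
      orderOf_eq_one_iff.1 (Nat.eq_one_of_dvd_coprimes hMp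
        (orderOf_dvd_natCard M hvM) (orderOf_dvd_of_pow_eq_one (hVp v hv)))
    rw [mem_bot]
    by_cases hbV : b ∈ V
    · exact hMV b hbV hb
    · refine absurd (hout b hbV v0 hv0V ?_) hv01
      haveI := hMn
      exact commute_of_normal_of_disjoint M V hMn hVn
        (disjoint_def.2 fun hx hxV => hMV _ hxV hx) b v0 hb hv0V
  obtain ⟨k, hk⟩ := hsec H N hcore
  have hpk : p ∣ orderOf k := by
    rw [hk]
    have h1 : orderOf v0 = p := orderOf_eq_prime (hVp v0 hv0V) hv01
    exact h1 ▸ Monoid.order_dvd_exponent v0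
  have hqk : q ∣ orderOf k := by
    rw [hk]
    haveI := Fact.mk hq
    have h1 : orderOf G₁ = q := orderOf_eq_prime hGq hG₁1
    exact h1 ▸ Monoid.order_dvd_exponent G₁
  have hkV : k ∉ V := fun h => hqp ((Nat.prime_dvd_prime_iff_eq hq hp).1
    (hqk.trans (orderOf_dvd_of_pow_eq_one (hVp k h))))
  have := hout k hkV _ (hVq k) (Commute.self_pow k q).eq
  exact hqp ((Nat.prime_dvd_prime_iff_eq hp hq).1 (hpk.trans (orderOf_dvd_of_pow_eq_one this))).symm


/-- Let G be a finite group and p a prime. Then G has a normal p-complement if and only if every section K = H/N of G (N a normal subgroup of a subgroup H) whose largest normal subgroup of order prime to p is trivial contains an element whose order equals the exponent of K. -/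
theorem result {G : Type*} [Group G] [Finite G] (p : ℕ) [Fact p.Prime] :
    Cfsg.HasNormalPComplement p G ↔
      ∀ (H : Subgroup G) (N : Subgroup H) [N.Normal], Cfsg.pPrimeCore p (H ⧸ N) = ⊥ →
        ∃ k : H ⧸ N, orderOf k = Monoid.exponent (H ⧸ N) := by
  constructor
  · intro h H N _ hcore
    have h1 := hasNormalPComplement_of_surjective (hasNormalPComplement_subgroup h H) _
      (QuotientGroup.mk'_surjective N)
    have h2 : Cfsg.pResidual p (H ⧸ N) = ⊥ := le_bot_iff.1 <| hcore ▸ le_sSup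
      ⟨inferInstance, ((Fact.out : p.Prime).coprime_iff_not_dvd.2 (hasNormalPComplement_iff.1 h1)).symm⟩
    refine exists_orderOf_eq_exponent_of_isPGroup (p := p) ?_
    have h3 := isPGroup_quotient_pResidual (G := H ⧸ N) (p := p)
    exact h3.of_equiv ((QuotientGroup.quotientMulEquivOfEq h2).trans QuotientGroup.quotientBot)
  · intro hsec
    refine hasNormalPComplement_of_local default fun Q hQ g hg hgp => ?_
    have hQp := (default : Sylow p G).2.to_le hQ
    by_contra hnc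
    -- descend in the order of `g`
    induction hn : orderOf g using Nat.strong_induction_on generalizing g with
    | _ n ih =>
    subst hn
    -- `g` has prime power order modulo the centraliser
    by_cases hex : ∃ r, r.Prime ∧ r ∣ orderOf g ∧ g ^ r ∉ centralizer (Q : Set G)
    · obtain ⟨r, hr, hrg, hgr⟩ := hex
      refine ih (orderOf (g ^ r)) ?_ (g ^ r) (pow_mem hg r)
        (hgp.coprime_dvd_left (orderOf_pow_dvd r)) hgr rfl
      rw [orderOf_pow_of_dvd hr.ne_zero hrg]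
      exact Nat.div_lt_self (orderOf_pos g) hr.one_lt
    push Not at hex
    have hg1 : orderOf g ≠ 1 := fun h => hnc (by
      rw [orderOf_eq_one_iff.1 h]; exact one_mem _)
    obtain ⟨q, hq, hqg⟩ := Nat.exists_prime_and_dvd hg1
    have hqp : q ≠ p := fun h =>
      (Fact.out : p.Prime).ne_one (Nat.eq_one_of_dvd_coprimes hgp (h ▸ hqg) dvd_rfl)
    obtain ⟨Q₀, hQ₀Q, hQ₀⟩ := (Set.toFinite {R : Subgroup G | g ∈ normalizer (R : Set G) ∧
      IsPGroup p R ∧ g ∉ centralizer (R : Set G) ∧ R ≤ Q}).exists_le_minimal (a := Q)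
      ⟨hg, hQp, hnc, le_rfl⟩
    refine contra_of_minimal hsec hq hqp hQ₀.1.2.1 hQ₀.1.1 hgp hQ₀.1.2.2.1
      (centralizer_le (show (Q₀ : Set G) ⊆ Q from hQ₀Q) (hex q hq hqg)) fun R hR hgR => ?_
    by_contra hncR
    exact hR.not_ge (hQ₀.2 ⟨hgR, hQ₀.1.2.1.to_le hR.le, hncR, hR.le.trans hQ₀Q⟩ hR.le)

end Cfsg.Agent.S4238
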