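import Cfsg.Statements.S4242
import Cfsg.Agent.Transfer.Frobenius
import Cfsg.Agent.Coprime.Action

set_option autoImplicit false
open Cfsg

set_option linter.style.haveILetI false

namespace Cfsg.Agent.S4242

open Subgroup CfsgLib.Transfer

universe u

variable {G : Type u} [Group G]

/-- In a nilpotent subgroup, elements of order prime to `p` normalising a `p`-subgroup
centralise it. -/
theorem commute_of_nilpotent [Finite G] {p : ℕ} [Fact p.Prime] {H Q : Subgroup G}
    [Group.IsNilpotent H] (hQH : Q ≤ H) (hQ : IsPGroup p Q) {g : G} (hgH : g ∈ H)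
    (hg : g ∈ normalizer (Q : Set G)) (hgp : Nat.Coprime (orderOf g) p) :
    ∀ q ∈ Q, q * g = g * q := by
  have := mem_centralizer_of_hasNormalPComplement (hasNormalPComplement_of_isNilpotent (G := H) (p := p))
    (Q := Q.subgroupOf H) hQ.comap_subtype (g := ⟨g, hgH⟩)
    (mem_normalizer_iff.2 fun a => by simpa [mem_subgroupOf] using mem_normalizer_iff.1 hg a)
    (by rwa [Subgroup.orderOf_mk])
  intro q hq
  exact congrArg Subtype.val (this ⟨q, hQH hq⟩ (mem_subgroupOf.2 hq))

theorem coprime_orderOf_of_mem_of_not_dvd [Finite G] {p : ℕ} [Fact p.Prime] {M : Subgroup G}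
    (hM : ¬ p ∣ Nat.card M) {g : G} (hg : g ∈ M) : Nat.Coprime (orderOf g) p :=
  coprime_orderOf_of_mem hM hg

/-- A minimal complement situation: a `p`-subgroup all of whose nontrivial subgroups generate `G`
together with a `p'`-subgroup `M` has order `p`. -/
theorem card_eq_prime [Finite G] {p : ℕ} [Fact p.Prime] {P M : Subgroup G} (hP : IsPGroup p P)
    (hP1 : P ≠ ⊥) (hG : Nat.card G = Nat.card P * Nat.card M) (hn : P ≤ normalizer (M : Set G))
    (hM : IsCoatom M) (hpM : ¬ p ∣ Nat.card M) : Nat.card P = p := by
  have hp : p.Prime := Fact.out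
  obtain ⟨n, hn'⟩ := IsPGroup.iff_card.1 hP
  have hdvd : p ∣ Nat.card P := by
    rcases n.eq_zero_or_pos with rfl | hn0
    · exact absurd (card_eq_one.1 (by simpa using hn')) hP1
    · rw [hn']; exact dvd_pow_self p hn0.ne'
  obtain ⟨x, hx⟩ := exists_prime_orderOf_dvd_card' p hdvd
  have hxn : zpowers (x : G) ≤ normalizer (M : Set G) := zpowers_le.2 (hn x.2)
  have hox : Nat.card (zpowers (x : G)) = p := by rw [Nat.card_zpowers, orderOf_coe, hx]
  have hlt : M < M ⊔ zpowers (x : G) := by
    refine lt_of_le_of_ne le_sup_left fun h => hpM ?_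
    rw [← hox]
    exact card_dvd_of_le (h ▸ le_sup_right)
  have htop := hM.2 _ hlt
  have hd : M ⊓ zpowers (x : G) = ⊥ := by
    apply CfsgLib.Coprime.inf_eq_bot_of_coprime
    rw [hox]
    exact (hp.coprime_iff_not_dvd.2 hpM).symm
  have hcard := CfsgLib.Coprime.card_sup_eq hxn hd
  rw [htop, card_top, hox] at hcard
  rw [hG, mul_comm (Nat.card P)] at hcard
  exact Nat.eq_of_mul_eq_mul_left Nat.card_pos hcard

theorem not_isNilpotent_iff_exists [Finite G] (h : ¬ Group.IsNilpotent G)
    (h' : ¬ Cfsg.IsMinimalNonNilpotent G) :
    ∃ M : Subgroup G, IsCoatom M ∧ ¬ Group.IsNilpotent M := by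
  by_contra hc
  push Not at hc
  refine h' ⟨h, fun H hH => ?_⟩
  obtain h1 | ⟨M, hM, hle⟩ := eq_top_or_exists_le_coatom H
  · exact absurd h1 hH
  · haveI := hc M hM
    exact Group.isNilpotent_congr (subgroupOfEquivOfLe hle) |>.1 inferInstance


/-- Let G be a finite group and p a prime dividing its order. Every maximal subgroup of G of order divisible by p is nilpotent if and only if G is nilpotent, or G is a minimal non-nilpotent group, or G is the internal direct product of a normal subgroup of order p and a normal minimal non-nilpotent subgroup of order prime to p. -/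
theorem result {G : Type*} [Group G] [Finite G] (p : ℕ) (hp : p.Prime) (hpG : p ∣ Nat.card G) :
    (∀ M : Subgroup G, IsCoatom M → p ∣ Nat.card M → Group.IsNilpotent M) ↔
      (Group.IsNilpotent G ∨ Cfsg.IsMinimalNonNilpotent G ∨
        ∃ Z K : Subgroup G, Z.Normal ∧ K.Normal ∧ Z ⊓ K = ⊥ ∧ Z ⊔ K = ⊤ ∧ Nat.card Z = p ∧
          Cfsg.IsMinimalNonNilpotent K ∧ ¬ p ∣ Nat.card K) := by
  haveI := Fact.mk hp
  constructor
  · intro h
    by_contra hcon
    push Not at hcon
    obtain ⟨hnil, hmnn, hcon⟩ := hcon
    obtain ⟨M, hM, hMn⟩ := not_isNilpotent_iff_exists hnil hmnn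
    have hpM : ¬ p ∣ Nat.card M := fun hd => hMn (h M hM hd)
    have hprop : ∀ H : Subgroup G, H ≠ ⊤ → p ∣ Nat.card H → Group.IsNilpotent H := by
      intro H hH hd
      obtain h1 | ⟨L, hL, hle⟩ := eq_top_or_exists_le_coatom H
      · exact absurd h1 hH
      · haveI := h L hL (hd.trans (card_dvd_of_le hle))
        exact Group.isNilpotent_congr (subgroupOfEquivOfLe hle) |>.1 inferInstance
    -- facts about a Sylow subgroup centralised by `M`
    by_cases hcase : ∃ R : Subgroup G, R.Normal ∧ IsPGroup p R ∧ R ≠ ⊥
    · obtain ⟨R, hRn, hRp, hR1⟩ := hcase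
      haveI := hRn
      have hRM : ¬ R ≤ M := fun hle => by
        obtain ⟨n, hn⟩ := IsPGroup.iff_card.1 hRp
        rcases n.eq_zero_or_pos with rfl | hn0
        · exact hR1 (card_eq_one.1 (by simpa using hn))
        · exact hpM ((dvd_pow_self p hn0.ne').trans (hn ▸ card_dvd_of_le hle))
      have hsup : R ⊔ M = ⊤ := hM.2 _ (lt_of_le_of_ne le_sup_right fun h' => hRM (h'.symm ▸ le_sup_left))
      have hMR : M ≤ normalizer (R : Set G) := by rw [normalizer_eq_top]; exact le_top
      have hd : R ⊓ M = ⊥ := inf_comm M R ▸ inf_eq_bot_of_not_dvd_card hpM hRp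
      have hG : Nat.card G = Nat.card R * Nat.card M := by
        have := CfsgLib.Coprime.card_sup_eq hMR hd
        rwa [hsup, card_top] at this
      -- proper subgroups of `M` centralise `R`
      have hL : ∀ L : Subgroup G, L ≤ M → L ≠ M → Group.IsNilpotent L ∧ ∀ g ∈ L, ∀ q ∈ R, q * g = g * q := by
        intro L hLM hne
        have hLR : L ≤ normalizer (R : Set G) := hLM.trans hMR
        have hne' : R ⊔ L ≠ ⊤ := by
          intro htop
          have hd' : R ⊓ L = ⊥ := le_bot_iff.1 (hd ▸ inf_le_inf_left R hLM)
          have := CfsgLib.Coprime.card_sup_eq hLR hd'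
          rw [htop, card_top, hG] at this
          exact hne (eq_of_le_of_card_ge hLM (Nat.eq_of_mul_eq_mul_left Nat.card_pos this).le)
        have hdv : p ∣ Nat.card (R ⊔ L : Subgroup G) := by
          obtain ⟨n, hn⟩ := IsPGroup.iff_card.1 hRp
          rcases n.eq_zero_or_pos with rfl | hn0
          · exact absurd (card_eq_one.1 (by simpa using hn)) hR1
          · exact ((dvd_pow_self p hn0.ne').trans hn.symm.dvd).trans (card_dvd_of_le le_sup_left)
        haveI := hprop _ hne' hdv
        refine ⟨Group.isNilpotent_congr (subgroupOfEquivOfLe (le_sup_right : L ≤ R ⊔ L)) |>.1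
          inferInstance, fun g hg => ?_⟩
        exact commute_of_nilpotent le_sup_left hRp (le_sup_right (a := R) hg) (hLR hg)
          (coprime_orderOf_of_mem_of_not_dvd hpM (hLM hg))
      have hMc : ∀ g ∈ M, ∀ q ∈ R, q * g = g * q := fun g hg => by
        refine (hL (zpowers g) (zpowers_le.2 hg) fun he => hMn ?_).2 g (mem_zpowers g)
        rw [← he]
        let _ : CommGroup (zpowers g) := IsCyclic.commGroup
        exact CommGroup.isNilpotent
      have hRn' : R ≤ normalizer (M : Set G) := fun q hq =>
        mem_normalizer_iff.2 fun g => ⟨fun hg => by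
          rwa [hMc g hg q hq, mul_inv_cancel_right], fun hg => by
          have h2 := hMc _ hg q hq
          have h1 : q * g * q⁻¹ = g := by
            have h3 : q * g * q⁻¹ = q⁻¹ * (q * (q * g * q⁻¹)) := by group
            rw [h3, h2]
            group
          rwa [h1] at hg⟩
      have hMnorm : M.Normal := normalizer_eq_top_iff.1 <| top_le_iff.1 (hsup ▸ sup_le hRn' le_normalizer)
      exact hpM <| hcon R M hRn hMnorm hd hsup (card_eq_prime hRp hR1 hG hRn' hM hpM)
        ⟨hMn, fun L hLne => by
          have h1 := (hL (L.map M.subtype) (map_subtype_le L) (fun he => hLne (by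
            apply map_injective M.subtype_injective
            rw [he, ← MonoidHom.range_eq_map, range_subtype]))).1
          exact (Group.isNilpotent_congr (equivMapOfInjective L _ M.subtype_injective)).2 h1⟩
    · push Not at hcase
      have hcomp : Cfsg.HasNormalPComplement p G := by
        refine hasNormalPComplement_of_normalizers fun Q hQ hQ1 => ?_
        have hne : normalizer (Q : Set G) ≠ ⊤ := fun h' =>
          hQ1 (hcase Q (normalizer_eq_top_iff.1 h') hQ)
        obtain ⟨n, hn⟩ := IsPGroup.iff_card.1 hQ
        haveI := hprop _ hne (by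
          rcases n.eq_zero_or_pos with rfl | hn0
          · exact absurd (card_eq_one.1 (by simpa using hn)) hQ1
          · exact ((dvd_pow_self p hn0.ne').trans hn.symm.dvd).trans (card_dvd_of_le le_normalizer))
        exact hasNormalPComplement_of_isNilpotent
      set K := Cfsg.pResidual p G with hK
      have hpK := hasNormalPComplement_iff.1 hcomp
      have hMK : M = K := by
        have hle : M ≤ K := fun g hg =>
          mem_pResidual_of_coprime (coprime_orderOf_of_mem_of_not_dvd hpM hg)
        rcases hle.eq_or_lt with h1 | h1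
        · exact h1
        · exact absurd (hM.2 _ h1) (fun ht => hpK (by change p ∣ Nat.card K; rw [ht, card_top]; exact hpG))
      subst hMK
      let P : Sylow p G := default
      have hP1 : (P : Subgroup G) ≠ ⊥ := P.ne_bot_of_dvd_card hpG
      have hd : (P : Subgroup G) ⊓ K = ⊥ := inf_comm K P ▸ inf_eq_bot_of_not_dvd_card hpK P.2
      have hKc : K.IsComplement' (P : Subgroup G) :=
        isComplement'_of_isPGroup_quotient P hpK isPGroup_quotient_pResidual
      have hG : Nat.card G = Nat.card (P : Subgroup G) * Nat.card K := by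
        rw [mul_comm]; exact hKc.card_mul.symm
      have hPn : (P : Subgroup G) ≤ normalizer (K : Set G) := by
        rw [normalizer_eq_top]; exact le_top
      have hPp : Nat.card (P : Subgroup G) = p := card_eq_prime P.2 hP1 hG hPn hM hpM
      have hcop : (Nat.card (P : Subgroup G)).Coprime (Nat.card K) := by
        rw [hPp]; exact hp.coprime_iff_not_dvd.2 hpK
      haveI : IsCyclic (P : Subgroup G) := isCyclic_of_prime_card hPp
      have hsolv : Group.IsSolvable (P : Subgroup G) := by
        haveI := P.2.isNilpotent
        infer_instance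
      have hcent : K ≤ centralizer ((P : Subgroup G) : Set G) := by
        have key : (centralizer ((P : Subgroup G) : Set G)).subgroupOf K = ⊤ := by
          apply eq_top_of_card_eq
          apply Nat.dvd_antisymm (card_subgroup_dvd_card _)
          rw [Nat.dvd_iff_prime_pow_dvd_dvd]
          intro r k hr hrk
          haveI := Fact.mk hr
          obtain ⟨R, hR⟩ := CfsgLib.Coprime.exists_invariant_sylow hPn hcop (Or.inl hsolv) r
          refine dvd_trans ?_ (card_dvd_of_le (H := (R : Subgroup K)) ?_)
          · rw [R.card_eq_multiplicity]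
            exact pow_dvd_pow r ((hr.pow_dvd_iff_le_factorization Nat.card_pos.ne').1 hrk)
          set R' := (R : Subgroup K).map K.subtype with hR'
          have hRle : R' ≤ K := map_subtype_le _
          have hne : R' ⊔ (P : Subgroup G) ≠ ⊤ := by
            intro htop
            have hd' : R' ⊓ (P : Subgroup G) = ⊥ := le_bot_iff.1
              ((inf_le_inf_right _ hRle).trans (inf_comm K (P : Subgroup G) ▸ hd).le)
            have h1 := CfsgLib.Coprime.card_sup_eq hR hd'
            rw [htop, card_top, hG, mul_comm] at h1
            have : R' = K := eq_of_le_of_card_ge hRle (Nat.eq_of_mul_eq_mul_right Nat.card_pos h1).le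
            apply hMn
            rw [← this]
            exact (R.2.map K.subtype).isNilpotent
          haveI := hprop _ hne (by
            have h2 := card_dvd_of_le (le_sup_right (a := R') (b := (P : Subgroup G)))
            rwa [hPp] at h2)
          intro x hx
          rw [mem_subgroupOf, mem_centralizer_iff]
          intro q hq
          have hxR : (x : G) ∈ R' := ⟨x, hx, rfl⟩
          rcases k.eq_zero_or_pos with rfl | hk
          · -- `R` is trivial here or `r` still divides the order of `K`
            by_cases hr1 : r ∣ Nat.card K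
            · have hr' : r ≠ p := fun h' => hpK (by subst h'; exact hr1)
              exact (commute_of_nilpotent (p := r) le_sup_left (R.2.map K.subtype)
                (le_sup_right (a := R') hq) (hR hq)
                (coprime_orderOf_of_mem (fun hd2 => hr' ((Nat.prime_dvd_prime_iff_eq hr hp).1
                  (hPp ▸ hd2))) hq) x hxR).symm
            · have h0 : Nat.card (R : Subgroup K) = 1 := by
                rw [R.card_eq_multiplicity, Nat.factorization_eq_zero_of_not_dvd hr1, pow_zero]
              rw [card_eq_one.1 h0, mem_bot] at hx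
              simp [hx]
          · have hr' : r ≠ p := fun h' => hpK (by subst h'; exact (dvd_pow_self r hk.ne').trans hrk)
            exact (commute_of_nilpotent (p := r) le_sup_left (R.2.map K.subtype)
              (le_sup_right (a := R') hq) (hR hq)
              (coprime_orderOf_of_mem (fun hd2 => hr' ((Nat.prime_dvd_prime_iff_eq hr hp).1
                (hPp ▸ hd2))) hq) x hxR).symm
        exact subgroupOf_eq_top.1 key
      have : (P : Subgroup G).Normal := by
        refine normalizer_eq_top_iff.1 <| top_le_iff.1 ?_
        rw [← hKc.sup_eq_top]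
        exact sup_le (hcent.trans (centralizer_le_normalizer _)) le_normalizer
      exact hP1 (hcase _ this P.2)
  · rintro (hn | hn | ⟨Z, K, hZn, hKn, hd, hs, hZ, hK, hpK⟩) M hM hpM
    · infer_instance
    · exact hn.2 M hM.1
    · haveI := hZn
      haveI := hKn
      have hcomm : ∀ a ∈ Z, ∀ b ∈ K, Commute a b := fun a ha b hb =>
        commute_of_normal_of_disjoint _ _ hZn hKn (disjoint_iff.2 hd) a b ha hb
      by_cases hZM : Z ≤ M
      · set L := M ⊓ K with hL
        have hLne : L.subgroupOf K ≠ ⊤ := by
          rw [Ne, subgroupOf_eq_top, hL]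
          intro h'
          exact hM.1 (top_le_iff.1 (hs ▸ sup_le hZM (h'.trans inf_le_left)))
        haveI := hK.2 _ hLne
        haveI : Group.IsNilpotent L := Group.isNilpotent_congr (subgroupOfEquivOfLe inf_le_right) |>.1
          inferInstance
        haveI : IsCyclic Z := isCyclic_of_prime_card hZ
        haveI : Group.IsNilpotent Z := (IsPGroup.of_card (p := p) (n := 1) (by simpa using hZ)).isNilpotent
        let f : Z × L →* M :=
          { toFun := fun a => ⟨a.1 * a.2, mul_mem (hZM a.1.2) a.2.2.1⟩
            map_one' := by simp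
            map_mul' := fun a b => Subtype.ext (by
              simpa using Commute.mul_mul_mul_comm (hcomm _ b.1.2 _ a.2.2.2).eq (a.1 : G) (b.2 : G)) }
        refine Group.nilpotent_of_surjective f fun m => ?_
        have hm : (m : G) ∈ Z ⊔ K := hs ▸ mem_top _
        rw [← SetLike.mem_coe, normal_mul] at hm
        obtain ⟨z, hz, k, hk, hzk⟩ := hm
        have hkM : k ∈ M := by
          have := mul_mem (inv_mem (hZM hz)) m.2
          rw [← hzk] at this
          simpa using this
        exact ⟨(⟨z, hz⟩, ⟨k, hkM, hk⟩), Subtype.ext hzk⟩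
      · exfalso
        have hsup : Z ⊔ M = ⊤ := hM.2 _ (lt_of_le_of_ne le_sup_right fun h' => hZM (h'.symm ▸ le_sup_left))
        have hdm : Z ⊓ M = ⊥ := by
          haveI := Fact.mk hp
          by_contra hne
          apply hZM
          have : Nat.card (Z ⊓ M : Subgroup G) = p := by
            rcases (Nat.dvd_prime hp).1 (hZ ▸ card_dvd_of_le (inf_le_left : Z ⊓ M ≤ Z)) with h1 | h1
            · exact absurd (card_eq_one.1 h1) hne
            · exact h1
          rw [← eq_of_le_of_card_ge (inf_le_left : Z ⊓ M ≤ Z) (by rw [hZ, this])]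
          exact inf_le_right
        have h1 := CfsgLib.Coprime.card_sup_eq (N := Z) (H := M) (by rw [normalizer_eq_top]; exact le_top) hdm
        have h2 := CfsgLib.Coprime.card_sup_eq (N := Z) (H := K) (by rw [normalizer_eq_top]; exact le_top) hd
        rw [hsup, card_top] at h1
        rw [hs, card_top] at h2
        exact hpK (Nat.eq_of_mul_eq_mul_left (Nat.pos_of_ne_zero (hZ ▸ hp.ne_zero)) (h1.symm.trans h2) ▸ hpM)

end Cfsg.Agent.S4242
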