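import Cfsg.Statements.S4244

set_option autoImplicit false
open Cfsg

set_option linter.style.haveILetI false

namespace Cfsg.Agent.S4244


/-- Let H be a subnormal subgroup of a finite group G. Then for every subgroup K of G the index of H ∩ K in H divides the index of K in G. -/
theorem result {G : Type*} [Group G] [Finite G] (H : Subgroup G) (hH : H.IsSubnormal) (K : Subgroup G) :
    (H ⊓ K).relIndex H ∣ K.index := by
  induction hH with
  | top => simp [Subgroup.relIndex_top_right]
  | step H L hle hL hN ih =>
    refine dvd_trans ?_ ih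
    haveI := hN
    rw [Subgroup.inf_relIndex_left, Subgroup.inf_relIndex_left]
    -- `|H : H ∩ K|` divides `|L : L ∩ K|` as `H` is normal in `L`
    have h := Subgroup.relIndex_dvd_index_of_normal (H.subgroupOf L) (K.subgroupOf L)
    have e1 := Subgroup.relIndex_mul_index
      (inf_le_left : H.subgroupOf L ⊓ K.subgroupOf L ≤ H.subgroupOf L)
    have e2 := Subgroup.relIndex_mul_index
      (inf_le_right : H.subgroupOf L ⊓ K.subgroupOf L ≤ K.subgroupOf L)
    rw [Subgroup.inf_relIndex_left] at e1
    rw [Subgroup.inf_relIndex_right] at e2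
    obtain ⟨d, hd⟩ := h
    have e3 : K.relIndex H = (K.subgroupOf L).relIndex (H.subgroupOf L) :=
      (Subgroup.relIndex_subgroupOf hle).symm
    rw [e3]
    refine ⟨d, ?_⟩
    refine Nat.eq_of_mul_eq_mul_left (Nat.pos_of_ne_zero
      (Subgroup.index_ne_zero_of_finite
        (H := (H.subgroupOf L).subgroupOf (K.subgroupOf L)))) ?_
    change (H.subgroupOf L).relIndex (K.subgroupOf L) * (K.subgroupOf L).index =
      (H.subgroupOf L).relIndex (K.subgroupOf L) *
        ((K.subgroupOf L).relIndex (H.subgroupOf L) * d)
    rw [e2, ← e1, hd]; ring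

end Cfsg.Agent.S4244
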