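import Cfsg.Statements.S4245
import Cfsg.Agent.S0143

set_option autoImplicit false
open Cfsg

set_option linter.style.haveILetI false

namespace Cfsg.Agent.S4245

open Subgroup

universe u

/-- A cyclic normal subgroup with cyclic quotient of 2-power order. -/
def Shape (X : Type u) [Group X] : Prop :=
  ∃ B : Subgroup X, ∃ _ : B.Normal, IsCyclic B ∧ IsCyclic (X ⧸ B) ∧ ∃ r, Nat.card (X ⧸ B) = 2 ^ r

theorem Shape.of_injective {X Y : Type u} [Group X] [Group Y] [Finite X] (h : Shape X) (f : Y →* X)
    (hf : Function.Injective f) : Shape Y := by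
  obtain ⟨B, hB, hBc, hQc, r, hr⟩ := h
  haveI := hB
  haveI := hBc
  haveI := hQc
  refine ⟨B.comap f, inferInstance, ?_, ?_, ?_⟩
  · exact isCyclic_of_injective (f.subgroupComap B) fun a b hab =>
      Subtype.ext (hf (congrArg Subtype.val hab))
  all_goals
    have hinj : Function.Injective (QuotientGroup.map (B.comap f) B f le_rfl) := by
      rw [← MonoidHom.ker_eq_bot_iff, eq_bot_iff]
      intro y hy
      induction y using QuotientGroup.induction_on with
      | H y =>
        rw [MonoidHom.mem_ker, QuotientGroup.map_mk, QuotientGroup.eq_one_iff] at hy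
        rw [mem_bot, QuotientGroup.eq_one_iff]
        exact hy
  · exact isCyclic_of_injective _ hinj
  · obtain ⟨k, -, hk⟩ := (Nat.dvd_prime_pow Nat.prime_two).1
      (hr ▸ card_dvd_of_injective _ hinj)
    exact ⟨k, hk⟩

theorem Shape.of_surjective {X Y : Type u} [Group X] [Group Y] [Finite X] (h : Shape X) (f : X →* Y)
    (hf : Function.Surjective f) : Shape Y := by
  obtain ⟨B, hB, hBc, hQc, r, hr⟩ := h
  haveI := hB
  haveI := hBc
  haveI := hQc
  haveI : (B.map f).Normal := hB.map f hf
  refine ⟨B.map f, inferInstance, ?_, ?_, ?_⟩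
  · exact isCyclic_of_surjective _ (f.subgroupMap_surjective B)
  all_goals
    have hsur : Function.Surjective
        (QuotientGroup.map B (B.map f) f (le_comap_map f B)) := by
      intro y
      induction y using QuotientGroup.induction_on with
      | H y =>
        obtain ⟨x, rfl⟩ := hf y
        exact ⟨QuotientGroup.mk x, rfl⟩
  · exact isCyclic_of_surjective _ hsur
  · obtain ⟨k, -, hk⟩ := (Nat.dvd_prime_pow Nat.prime_two).1
      (hr ▸ card_dvd_of_surjective _ hsur)
    exact ⟨k, hk⟩

theorem relIndex_dvd_index {G : Type u} [Group G] [Finite G] (R H : Subgroup G) [R.Normal] :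
    H.relIndex R ∣ H.index := by
  obtain ⟨d, hd⟩ := relIndex_dvd_index_of_normal R H
  have e1 := relIndex_mul_index (inf_le_left : H ⊓ R ≤ H)
  have e2 := relIndex_mul_index (inf_le_right : H ⊓ R ≤ R)
  rw [inf_relIndex_left] at e1
  rw [inf_relIndex_right] at e2
  refine ⟨d, Nat.eq_of_mul_eq_mul_left
    (Nat.pos_of_ne_zero (index_ne_zero_of_finite (H := R.subgroupOf H))) ?_⟩
  change R.relIndex H * H.index = R.relIndex H * (H.relIndex R * d)
  rw [e1, ← e2, hd]; ring

theorem eq_of_orderOf_two {C : Type u} [Group C] [Finite C] [IsCyclic C] {x y : C}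
    (hx : orderOf x = 2) (hy : orderOf y = 2) : x = y := by
  haveI := Fintype.ofFinite C
  have h := IsCyclic.card_orderOf_eq_totient (α := C) (d := 2)
    (hx ▸ orderOf_dvd_card)
  rw [Nat.totient_two, Finset.card_eq_one] at h
  obtain ⟨c, hc⟩ := h
  have h1 : x ∈ ({c} : Finset C) := hc ▸ Finset.mem_filter.2 ⟨Finset.mem_univ _, hx⟩
  have h2 : y ∈ ({c} : Finset C) := hc ▸ Finset.mem_filter.2 ⟨Finset.mem_univ _, hy⟩
  rw [Finset.mem_singleton] at h1 h2
  rw [h1, h2]

theorem solvable_of_primePow_class {G : Type u} [Group G] [Finite G] [IsSimpleGroup G] {q k : ℕ}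
    (hq : q.Prime) {g : G} (hg : g ≠ 1) {A : Subgroup G} (hA : A ≤ centralizer ({g} : Set G))
    (hd : A.index ∣ q ^ k) : Group.IsSolvable G := by
  obtain ⟨j, -, hj⟩ := (Nat.dvd_prime_pow hq).1 ((index_dvd_of_le hA).trans hd)
  haveI := Fact.mk (Cfsg.Agent.S0143.result q j hq g hg hj)
  haveI : IsCyclic G := isCyclic_of_prime_card rfl
  let _ : CommGroup G := IsCyclic.commGroup
  infer_instance

theorem solvable_of_isPGroup {G : Type u} [Group G] [Finite G] {q k : ℕ} (hq : q.Prime)
    (h : Nat.card G = q ^ k) : Group.IsSolvable G := by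
  haveI := Fact.mk hq
  haveI := (IsPGroup.of_card h).isNilpotent
  infer_instance

theorem simple_case {G : Type u} [Group G] [Finite G] [IsSimpleGroup G] {p s : ℕ} (hp : p.Prime)
    (A : Subgroup G) (hA : A.index = p ^ s) (hS : Shape A) : Group.IsSolvable G := by
  obtain ⟨B, hBn, hBc, hQc, r, hr⟩ := hS
  haveI := hBn
  haveI := hBc
  haveI := hQc
  have hBi : B.index = 2 ^ r := hr
  set B' := B.map A.subtype with hB'
  have hB'i : B'.index = 2 ^ r * p ^ s := by
    rw [hB', index_map_subtype, hBi, hA]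
  by_cases hp2 : p = 2
  · subst hp2
    by_cases hB1 : B = ⊥
    · refine solvable_of_isPGroup Nat.prime_two (k := r + s) ?_
      rw [← index_bot, show (⊥ : Subgroup G) = B' by rw [hB', hB1, Subgroup.map_bot], hB'i,
        pow_add]
    · obtain ⟨b, hbB, hb1⟩ := (B.nontrivial_iff_exists_ne_one).1 ((nontrivial_iff_ne_bot B).2 hB1)
      refine solvable_of_primePow_class Nat.prime_two (g := (b : G)) (k := r + s) ?_ (A := B') ?_
        (by rw [hB'i, pow_add])
      · exact fun h => hb1 (Subtype.ext h)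
      · rintro _ ⟨x, hx, rfl⟩
        rw [mem_centralizer_singleton_iff]
        exact congrArg Subtype.val (congrArg Subtype.val
          ((IsCyclic.commGroup (α := B)).mul_comm ⟨x, hx⟩ ⟨b, hbB⟩))
  by_cases hB2 : 2 ∣ Nat.card B
  · obtain ⟨⟨z, hzB⟩, hz⟩ := exists_prime_orderOf_dvd_card' 2 hB2
    refine solvable_of_primePow_class hp (g := (z : G)) (k := s) ?_ (A := A) ?_ hA.dvd
    · intro h
      rw [Subgroup.orderOf_mk, ← Subgroup.orderOf_coe] at hz
      rw [h, orderOf_one] at hz
      omega
    · intro a ha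
      rw [mem_centralizer_singleton_iff]
      have hconj : (⟨_, hBn.conj_mem z hzB ⟨a, ha⟩⟩ : B) = ⟨z, hzB⟩ := by
        refine eq_of_orderOf_two ?_ hz
        have h1 : orderOf ((⟨a, ha⟩ : A) * z * (⟨a, ha⟩ : A)⁻¹) = orderOf z :=
          MulEquiv.orderOf_eq (MulAut.conj (⟨a, ha⟩ : A)) z
        have h2 : orderOf z = 2 := (Subgroup.orderOf_coe (⟨z, hzB⟩ : B)).trans hz
        rw [← Subgroup.orderOf_coe]
        exact h1.trans h2
      exact mul_inv_eq_iff_eq_mul.1 (congrArg Subtype.val (congrArg Subtype.val hconj))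
  rcases r.eq_zero_or_pos with rfl | hr0
  · -- `A = B` is cyclic
    have hBtop : B = ⊤ := index_eq_one.1 (by simpa using hBi)
    by_cases hA1 : A = ⊥
    · exact solvable_of_isPGroup hp (k := s) (by rw [← index_bot, ← hA1, hA])
    · obtain ⟨b, hbA, hb1⟩ := (A.nontrivial_iff_exists_ne_one).1 ((nontrivial_iff_ne_bot A).2 hA1)
      refine solvable_of_primePow_class hp (g := b) (k := s) hb1
        (A := A) ?_ hA.dvd
      intro x hx
      rw [mem_centralizer_singleton_iff]
      exact congrArg Subtype.val (congrArg Subtype.val ((IsCyclic.commGroup (α := B)).mul_comm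
        ⟨⟨x, hx⟩, hBtop ▸ mem_top _⟩ ⟨⟨b, hbA⟩, hBtop ▸ mem_top _⟩))
  -- a cyclic Sylow 2-subgroup
  haveI := Fact.mk Nat.prime_two
  obtain ⟨γ, hγ⟩ := IsCyclic.exists_generator (α := A ⧸ B)
  obtain ⟨g, rfl⟩ := QuotientGroup.mk'_surjective B γ
  have hog : 2 ^ r ∣ orderOf g := by
    rw [← hr, ← orderOf_eq_card_of_forall_mem_zpowers hγ]
    exact orderOf_map_dvd _ g
  obtain ⟨e, he⟩ := hog
  have hox : orderOf ((g : G) ^ e) = 2 ^ r := by
    have he0 : e ≠ 0 := fun h => (orderOf_pos g).ne' (by rw [he, h, mul_zero])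
    rw [orderOf_pow_of_dvd he0 ⟨2 ^ r, by rw [orderOf_coe, he, mul_comm]⟩, orderOf_coe, he,
      Nat.mul_div_cancel _ (Nat.pos_of_ne_zero he0)]
  have hfac : (Nat.card G).factorization 2 = r := by
    have h1 : Nat.card G = 2 ^ r * p ^ s * Nat.card B := by
      rw [← card_mul_index A, hA, ← card_mul_index B, hBi]; ring
    rw [h1, Nat.factorization_mul (by positivity [hp.pos]) Nat.card_pos.ne',
      Nat.factorization_mul (by positivity) (pow_ne_zero _ hp.ne_zero),
      Nat.Prime.factorization_pow Nat.prime_two, Nat.Prime.factorization_pow hp]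
    simp [Nat.factorization_eq_zero_of_not_dvd hB2, Finsupp.single_eq_of_ne hp2,
      Finsupp.single_eq_of_ne (Ne.symm hp2)]
  let P : Sylow 2 G := Sylow.ofCard (zpowers ((g : G) ^ e)) (by rw [Nat.card_zpowers, hox, hfac])
  have hPc : IsCyclic (P : Subgroup G) := by
    change IsCyclic (zpowers ((g : G) ^ e))
    infer_instance
  have h2G : (Nat.card G).minFac = 2 := by
    rw [Nat.minFac_eq_two_iff]
    have : 2 ∣ Nat.card (P : Subgroup G) := by
      change 2 ∣ Nat.card (zpowers ((g : G) ^ e))
      rw [Nat.card_zpowers, hox]; exact dvd_pow_self 2 hr0.ne'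
    exact this.trans (card_subgroup_dvd_card _)
  have hcomp := MonoidHom.ker_transferSylow_isComplement' P (hPc.normalizer_le_centralizer h2G)
  rcases (MonoidHom.transferSylow P (hPc.normalizer_le_centralizer h2G)).normal_ker.eq_bot_or_eq_top
    with hk | hk
  · refine solvable_of_isPGroup Nat.prime_two (k := r) ?_
    rw [← hcomp.card_mul, hk, card_bot, one_mul]
    change Nat.card (zpowers ((g : G) ^ e)) = _
    rw [Nat.card_zpowers, hox]
  · exfalso
    rw [hk] at hcomp
    have hbot : (P : Subgroup G) = ⊥ := isComplement'_top_left.1 hcomp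
    have : Nat.card (zpowers ((g : G) ^ e)) = 1 := by
      change Nat.card (P : Subgroup G) = 1
      rw [hbot, card_bot]
    rw [Nat.card_zpowers, hox] at this
    exact (Nat.one_lt_two_pow hr0.ne').ne' this

theorem main (n : ℕ) : ∀ (G : Type u) [Group G] [Finite G], Nat.card G = n →
    ∀ (p s : ℕ), p.Prime → ∀ A : Subgroup G, A.index = p ^ s → Shape A → Group.IsSolvable G := by
  induction n using Nat.strong_induction_on with
  | _ n ih =>
  intro G _ _ hn p s hp A hA hS
  rcases subsingleton_or_nontrivial G with h | h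
  · infer_instance
  by_cases hsimple : IsSimpleGroup G
  · exact simple_case hp A hA hS
  obtain ⟨N, hN, hN1, hN2⟩ : ∃ N : Subgroup G, N.Normal ∧ N ≠ ⊥ ∧ N ≠ ⊤ := by
    by_contra hcon
    push Not at hcon
    exact hsimple ⟨fun N hN => or_iff_not_imp_left.2 (hcon N hN)⟩
  haveI := hN
  have hltN : Nat.card N < n := hn ▸ lt_of_le_of_ne (card_le_card_group N)
    fun he => hN2 (eq_top_of_card_eq N he)
  have hltQ : Nat.card (G ⧸ N) < n := by
    rw [← hn, card_eq_card_quotient_mul_card_subgroup N]
    exact lt_mul_of_one_lt_right Nat.card_pos ((one_lt_card_iff_ne_bot N).2 hN1)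
  obtain ⟨a, -, ha⟩ := (Nat.dvd_prime_pow hp).1
    ((relIndex_dvd_index N A).trans hA.dvd)
  have hsN : Group.IsSolvable N := by
    refine ih _ hltN N rfl p a hp (A.subgroupOf N) ha ?_
    exact hS.of_injective ((N.subtype).subgroupComap A) fun x y hxy =>
      Subtype.ext (Subtype.ext (congrArg (fun t : A => (t : G)) hxy))
  obtain ⟨b, -, hb⟩ := (Nat.dvd_prime_pow hp).1
    ((index_map_dvd (f := QuotientGroup.mk' N) A (QuotientGroup.mk'_surjective N)).trans hA.dvd)
  have hsQ : Group.IsSolvable (G ⧸ N) :=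
    ih _ hltQ _ rfl p b hp _ hb
      (hS.of_surjective _ ((QuotientGroup.mk' N).subgroupMap_surjective A))
  haveI := hsN
  haveI := hsQ
  exact Group.isSolvable_of_ker_le_range N.subtype (QuotientGroup.mk' N)
    (by rw [QuotientGroup.ker_mk', range_subtype])


/-- Let G be a finite group with a subgroup A of prime-power index. Suppose A has a normal cyclic subgroup B such that A/B is cyclic of order a power of 2. Then G is solvable. -/
theorem result {G : Type*} [Group G] [Finite G] (A : Subgroup G) (p s : ℕ) (hp : p.Prime) (hA : A.index = p ^ s)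
    (B : Subgroup A) [B.Normal] (hB : IsCyclic B) (hAB : IsCyclic (A ⧸ B)) (r : ℕ) (hr : Nat.card (A ⧸ B) = 2 ^ r) :
    Group.IsSolvable G := by
  exact main _ G rfl p s hp A hA ⟨B, inferInstance, hB, hAB, r, hr⟩

end Cfsg.Agent.S4245
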