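import Cfsg.Statements.S4248
import Cfsg.Agent.GroupPartition.FittingCase
import Cfsg.Agent.GroupPartition.Socle
import Cfsg.Agent.GroupPartition.SimpleCase
import Cfsg.Agent.GroupPartition.ExtensionPSL
import Cfsg.Agent.GroupPartition.ExtensionSz

set_option autoImplicit false
set_option linter.style.haveILetI false
open Cfsg

namespace Cfsg.Agent.S4248

/-- Let G be a finite group admitting a nontrivial partition: a family of at least two nontrivial subgroups such that every non-identity element of G lies in exactly one member. Then G is isomorphic to the symmetric group of degree 4; or, for some prime p, the Hughes subgroup generated by the elements g with g^p ≠ 1 is proper (G a p-group or a group of Hughes–Thompson type); or G is a Frobenius group; or G is isomorphic to PSL(2, q) with q ≥ 4, to PGL(2, q) with q ≥ 5 odd, or to a Suzuki group. -/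
theorem result {G : Type*} [Group G] [Finite G] (S : Set (Subgroup G)) (hS2 : ∃ H ∈ S, ∃ K ∈ S, H ≠ K)
    (hS1 : ∀ H ∈ S, H ≠ ⊥) (hpart : ∀ g : G, g ≠ 1 → ∃! H : Subgroup G, H ∈ S ∧ g ∈ H) :
    Nonempty (G ≃* Equiv.Perm (Fin 4)) ∨
    (∃ p : ℕ, p.Prime ∧ Subgroup.closure {g : G | g ^ p ≠ 1} ≠ ⊤) ∨
    (∃ H : Subgroup G, Cfsg.IsFrobeniusComplement H) ∨
    (∃ (F : Type) (_ : Field F) (_ : Fintype F), 4 ≤ Fintype.card F ∧
        Nonempty (G ≃* Matrix.ProjectiveSpecialLinearGroup (Fin 2) F)) ∨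
    (∃ (F : Type) (_ : Field F) (_ : Fintype F), 5 ≤ Fintype.card F ∧ Odd (Fintype.card F) ∧
        Nonempty (G ≃* (GL (Fin 2) F ⧸ Subgroup.center (GL (Fin 2) F)))) ∨
    Cfsg.Lie.IsoSuzuki G := by
  classical
  set P := CfsgLib.GroupPartition.Part.ofSet S hS2 hS1 hpart with hP
  obtain ⟨H₀, hH₀, -⟩ := id hS2
  obtain ⟨a₀, -, ha₀⟩ := CfsgLib.GroupPartition.exists_mem_ne_one (hS1 H₀ hH₀)
  haveI : Nontrivial G := ⟨a₀, 1, ha₀⟩
  -- a self-normalising component
  by_cases hself : ∃ g : G, g ≠ 1 ∧ Subgroup.normalizer (P.comp g : Set G) ≤ P.comp g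
  · obtain ⟨g, hg, h⟩ := hself
    exact Or.inr (Or.inr (Or.inl ⟨_, P.isFrobeniusComplement hg h⟩))
  have hnil : ∀ g : G, g ≠ 1 → Group.IsNilpotent (P.comp g) := fun g hg =>
    P.isNilpotent_comp fun h => hself ⟨g, hg, h⟩
  -- a normal component
  by_cases hnorm : ∃ g : G, g ≠ 1 ∧ (P.comp g).Normal
  · obtain ⟨g, hg, hn⟩ := hnorm
    haveI := hn
    rcases P.normal_comp_dichotomy (h₀ := g) (hnil g hg) hg with h | ⟨p, hp, h⟩
    · exact Or.inr (Or.inr (Or.inl h))
    · refine Or.inr (Or.inl ⟨p, hp, fun e => P.ne_top g (top_le_iff.1 (e ▸ ?_))⟩)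
      exact (Subgroup.closure_le _).2 fun x hx => by_contra fun hxg => hx (h x hxg)
  -- a non-trivial abelian normal subgroup
  by_cases hab : ∃ A : Subgroup G, A.Normal ∧ IsMulCommutative A ∧ A ≠ ⊥
  · obtain ⟨A₀, hA₀n, hA₀c, hA₀⟩ := hab
    obtain ⟨A, hAn, hA1, hAle, hAmin⟩ := CfsgLib.Solvable.exists_minimal_normal_le hA₀n hA₀
    haveI := hAn
    have hcomm : ∀ x ∈ A, ∀ y ∈ A, x * y = y * x := fun x hx y hy =>
      congrArg Subtype.val (hA₀c.is_comm.comm (⟨x, hAle hx⟩ : A₀) ⟨y, hAle hy⟩)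
    haveI : IsMulCommutative A := ⟨⟨fun x y => Subtype.ext (hcomm x x.2 y y.2)⟩⟩
    obtain ⟨r, hr, hrd⟩ := Nat.exists_prime_and_dvd
      (fun e => hA1 (Subgroup.eq_bot_of_card_eq _ e) : Nat.card A ≠ 1)
    haveI := Fact.mk hr
    let K : Subgroup G :=
      { carrier := {x | x ∈ A ∧ x ^ r = 1}
        one_mem' := ⟨one_mem _, one_pow _⟩
        mul_mem' := fun {x y} hx hy => ⟨mul_mem hx.1 hy.1, by
          rw [(show Commute x y from hcomm x hx.1 y hy.1).mul_pow, hx.2, hy.2, one_mul]⟩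
        inv_mem' := fun {x} hx => ⟨inv_mem hx.1, by rw [inv_pow, hx.2, inv_one]⟩ }
    have hKn : K.Normal := ⟨fun x hx g => ⟨hAn.conj_mem x hx.1 g, by
      rw [conj_pow, hx.2, mul_one, mul_inv_cancel]⟩⟩
    have hKA : K = A := (hAmin K hKn fun x hx => hx.1).resolve_left fun e => by
      obtain ⟨x, hx⟩ := exists_prime_orderOf_dvd_card' (G := A) r hrd
      have hx1 : (x : G) ∈ K := ⟨x.2, by
        rw [← hx, ← Subgroup.orderOf_coe, pow_orderOf_eq_one]⟩
      rw [e, Subgroup.mem_bot] at hx1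
      rw [← Subgroup.orderOf_coe, hx1, orderOf_one] at hx
      exact hr.ne_one hx.symm
    have hfit : CfsgLib.GroupPartition.Part.FitHyp P A r := ⟨hr, hA1,
      fun a ha => (hKA.ge ha).2,
      CfsgLib.GroupPartition.Part.not_le_of_no_normal (fun g hg hn => hnorm ⟨g, hg, hn⟩) hA1,
      hAmin⟩
    rcases hfit.trichotomy with h | h | h
    · exact Or.inr (Or.inr (Or.inl h))
    · refine Or.inr (Or.inl ⟨r, hr, ?_⟩)
      rw [show {g : G | g ^ r ≠ 1} = ∅ from Set.eq_empty_iff_forall_notMem.2 fun g hg => hg (h g),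
        Subgroup.closure_empty]
      exact bot_ne_top
    · exact Or.inl h
  -- the socle
  push Not at hab
  obtain ⟨M, hMn, hMs, ⟨a, ha, b, hb, hne⟩, hC, hle⟩ := P.exists_simple_socle hnil hab
  haveI := hMn
  haveI := hMs
  have hna : ∃ x y : M, x * y ≠ y * x :=
    ⟨⟨a, ha⟩, ⟨b, hb⟩, fun e => hne (congrArg Subtype.val e)⟩
  rcases (P.restrict M hle).simple_classification hna with ⟨F, _, _, ⟨e⟩⟩ | hSz
  · rcases P.psl_extension hna hC hnil e with h | h
    · exact Or.inr (Or.inr (Or.inr (Or.inl h)))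
    · exact Or.inr (Or.inr (Or.inr (Or.inr (Or.inl h))))
  · exact Or.inr (Or.inr (Or.inr (Or.inr (Or.inr (P.suzuki_extension hC hnil hSz)))))

end Cfsg.Agent.S4248
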