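import Cfsg.Statements.S4249
import Cfsg.Agent.SolvCrit.AbelianMaximal
import Cfsg.Agent.SolvCrit.ZJBasic
import Cfsg.Agent.SolvCrit.Splitting
import Cfsg.Agent.S0117

set_option autoImplicit false
open Cfsg

set_option linter.style.haveILetI false

namespace Cfsg.Agent.S4249

open Subgroup CfsgLib.Transfer CfsgLib.SolvCrit
open scoped commutatorElement

universe u

variable {G : Type u} [Group G] [Finite G]

/-- Elements outside `H` of order `p`: a coset consists of such elements. -/
theorem mul_notMem {H : Subgroup G} {a x : G} (ha : a ∈ H) (hx : x ∉ H) : a * x ∉ H :=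
  fun h => hx (by simpa using mul_mem (inv_mem ha) h)

theorem exists_mem_normalizer_not_mem {H : Subgroup G} [H.Normal] (hH : H ≠ ⊤) {q : ℕ}
    [Fact q.Prime] (S : Sylow q H) :
    ∃ x, x ∈ normalizer (((S : Subgroup H).map H.subtype : Subgroup G) : Set G) ∧ x ∉ H := by
  by_contra hc
  push Not at hc
  apply hH
  rw [← Sylow.normalizer_sup_eq_top S, sup_eq_right.2 hc]

/-- An abelian subgroup normalised by the normalizer of a nontrivial `q`-subgroup. -/
theorem exists_abelian_normalized {q : ℕ} [Fact q.Prime] {S : Subgroup G} (hS : IsPGroup q S)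
    (h1 : S ≠ ⊥) : ∃ V : Subgroup G, V ≤ S ∧ V ≠ ⊥ ∧ IsMulCommutative V ∧
      normalizer (S : Set G) ≤ normalizer (V : Set G) := by
  refine ⟨Cfsg.centerThompsonOf q S, centerThompson_le q S, centerThompson_ne_bot hS h1, ⟨⟨?_⟩⟩,
    normalizer_le_normalizer_centerThompson q S⟩
  rintro ⟨a, ha⟩ ⟨b, hb⟩
  exact Subtype.ext (hb.2 a ha.1)

theorem index_eq_prime {p : ℕ} [Fact p.Prime] (hG : ¬ IsPGroup p G) {H : Subgroup G} [H.Normal]
    (hH : H ≠ ⊤) (hout : ∀ g : G, g ∉ H → g ^ p = 1) : H.index = p := by
  classical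
  have hp : p.Prime := Fact.out
  have hQp : IsPGroup p (G ⧸ H) := by
    intro z
    induction z using QuotientGroup.induction_on with
    | H g =>
      refine ⟨1, ?_⟩
      rw [pow_one]
      by_cases hg : g ∈ H
      · rw [(QuotientGroup.eq_one_iff g).2 hg, one_pow]
      · rw [← QuotientGroup.mk_pow, hout g hg, QuotientGroup.mk_one]
  obtain ⟨n, hn⟩ := IsPGroup.iff_card.1 hQp
  rw [← index_eq_card] at hn
  rcases Nat.lt_trichotomy n 1 with hn1 | hn1 | hn1
  · interval_cases n
    exact absurd (index_eq_one.1 (by simpa using hn)) hH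
  · simpa [hn1] using hn
  exfalso
  -- a prime `q ≠ p` divides `|H|`
  obtain ⟨q, hq, hqp, hqH⟩ : ∃ q, q.Prime ∧ q ≠ p ∧ q ∣ Nat.card H := by
    by_contra hcon
    push Not at hcon
    refine hG (IsPGroup.of_card (n := (Nat.card H).primeFactorsList.length + n) ?_)
    rw [← card_mul_index H, hn, pow_add]
    congr 1
    exact Nat.eq_prime_pow_of_unique_prime_dvd Nat.card_pos.ne'
      fun {d} hd hdd => by_contra fun hne => hcon d hd hne hdd
  haveI := Fact.mk hq
  let S : Sylow q H := default
  set S' := (S : Subgroup H).map H.subtype with hS'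
  have hS1 : S' ≠ ⊥ := by
    rw [hS', Ne, map_eq_bot_iff_of_injective _ H.subtype_injective]
    exact S.ne_bot_of_dvd_card hqH
  obtain ⟨V, hVS, hV1, hVab, hVN⟩ := exists_abelian_normalized (S.2.map H.subtype) hS1
  have hVH : V ≤ H := hVS.trans (map_subtype_le _)
  set N := normalizer (S' : Set G) with hN
  let R : Sylow p N := default
  set R' := (R : Subgroup N).map N.subtype with hR'
  have hRp : IsPGroup p R' := R.2.map _
  have hRN : R' ≤ N := map_subtype_le _
  -- `R'` covers the quotient
  have hRsup : R' ⊔ H = ⊤ := by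
    have h1 : p ^ n ∣ Nat.card (R'.map (QuotientGroup.mk' H)) := by
      have hNtop : N.map (QuotientGroup.mk' H) = ⊤ := by
        rw [← map_top_of_surjective _ (QuotientGroup.mk'_surjective H),
          ← Sylow.normalizer_sup_eq_top S, Subgroup.map_sup,
          (Subgroup.map_eq_bot_iff _).2 (QuotientGroup.ker_mk' H).ge, sup_bot_eq]
      have h2 : (R'.map (QuotientGroup.mk' H)).index ∣ (R : Subgroup N).index := by
        rw [hR', map_map]
        refine index_map_dvd _ ?_
        rw [← MonoidHom.range_eq_top, MonoidHom.range_comp, range_subtype, hNtop]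
      obtain ⟨j, -, hj⟩ := (Nat.dvd_prime_pow hp).1
        ((R'.map (QuotientGroup.mk' H)).index_dvd_card.trans (by rw [← index_eq_card, hn]))
      rcases j.eq_zero_or_pos with rfl | hj0
      · rw [index_eq_one.1 (show (R'.map (QuotientGroup.mk' H)).index = 1 by simpa using hj),
          card_top, ← index_eq_card, hn]
      · exact absurd ((dvd_pow_self p hj0.ne').trans (hj ▸ h2)) R.not_dvd_index
    have h3 : R'.map (QuotientGroup.mk' H) = ⊤ := eq_top_of_card_eq _ <|
      Nat.dvd_antisymm (card_subgroup_dvd_card _) (by rwa [← index_eq_card, hn])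
    rw [← QuotientGroup.ker_mk' H, ← comap_map_eq, h3, comap_top]
  -- a maximal subgroup of `R'` containing `R' ⊓ H`
  have hne : (H.subgroupOf R') ≠ ⊤ := by
    rw [Ne, subgroupOf_eq_top]
    intro h
    exact hH (by rw [← hRsup, sup_eq_right.2 h])
  obtain h1 | ⟨L, hL, hHL⟩ := eq_top_or_exists_le_coatom (H.subgroupOf R')
  · exact hne h1
  haveI := hRp.isNilpotent
  haveI hLn : L.Normal := Subgroup.NormalizerCondition.normal_of_coatom _
    Group.normalizerCondition_of_isNilpotent hL
  obtain ⟨x, -, hxL⟩ := SetLike.exists_of_lt (lt_top_iff_ne_top.2 hL.1)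
  set Q := L.map R'.subtype with hQ
  have hxQ : (x : G) ∉ Q := fun ⟨a, ha, h⟩ => hxL (Subtype.ext h ▸ ha)
  have hQN : Q ≤ N := (map_subtype_le _).trans hRN
  have hcH : ∀ u ∈ Q, u * (x : G) ∉ H := by
    intro u hu hmem
    have huR : u * (x : G) ∈ R' := mul_mem (map_subtype_le _ hu) x.2
    have h2 : (⟨u * x, huR⟩ : R') ∈ L := hHL (mem_subgroupOf.2 hmem)
    obtain ⟨a, ha, rfl⟩ := hu
    exact hxL ((L.mul_mem_cancel_left ha).1 h2)
  have hcent := centralize_of_splitting hp hVab (hQN.trans hVN) (hVN (hRN x.2))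
    (x := (x : G)) ?_ (fun u hu h => hcH u hu (hVH h))
    (fun u hu v hv => hout _ (mul_notMem (hVH hv) (hcH u hu))) hxQ ?_
  rotate_left
  · refine mem_normalizer_iff.2 fun a => ⟨?_, fun h => ?_⟩
    · rintro ⟨b, hb, rfl⟩
      exact ⟨x * b * x⁻¹, hLn.conj_mem b hb x, rfl⟩
    · obtain ⟨b, hb, hb'⟩ := h
      refine ⟨x⁻¹ * b * x, by simpa using hLn.conj_mem b hb x⁻¹, ?_⟩
      have hb2 : (b : G) = x * a * (x : G)⁻¹ := hb'
      simp [hb2, mul_assoc]
  · obtain ⟨a, ha⟩ := IsPGroup.iff_card.1 (hRp.to_le (map_subtype_le L))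
    obtain ⟨b, hb⟩ := IsPGroup.iff_card.1 ((S.2.map H.subtype).to_le hVS)
    rw [ha, hb]
    exact Nat.coprime_pow_primes _ _ hp hq hqp.symm
  -- `L` contains an element outside `H`
  obtain ⟨y, hyQ, hyH⟩ : ∃ y ∈ Q, y ∉ H := by
    by_contra hcon
    push Not at hcon
    have hLe : L = H.subgroupOf R' :=
      le_antisymm (fun a ha => mem_subgroupOf.2 (hcon _ ⟨a, ha, rfl⟩)) hHL
    have h2 : (H.subgroupOf R').index = p ^ n := by
      rw [← hn, ← relIndex_top_right H, ← hRsup, relIndex_sup_right]
      rfl
    obtain ⟨j, hj⟩ := IsPGroup.iff_card.1 (hRp.to_quotient L)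
    haveI : IsSimpleGroup (R' ⧸ L) := by
      haveI : Nontrivial (R' ⧸ L) := QuotientGroup.nontrivial_iff.2 hL.1
      refine ⟨fun K _ => ?_⟩
      have h3 : L ≤ K.comap (QuotientGroup.mk' L) := by
        conv_lhs => rw [← QuotientGroup.ker_mk' L]
        exact ker_le_comap _ _
      rcases h3.eq_or_lt with h4 | h4
      · left
        rw [← map_comap_eq_self_of_surjective (QuotientGroup.mk'_surjective L) K, ← h4,
          Subgroup.map_eq_bot_iff, QuotientGroup.ker_mk']
      · right
        rw [← map_comap_eq_self_of_surjective (QuotientGroup.mk'_surjective L) K, hL.2 _ h4,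
          map_top_of_surjective _ (QuotientGroup.mk'_surjective L)]
    haveI := (hRp.to_quotient L).isNilpotent
    haveI : IsCyclic (R' ⧸ L) := inferInstance
    let _ : CommGroup (R' ⧸ L) := IsCyclic.commGroup
    have hprime : (Nat.card (R' ⧸ L)).Prime := IsSimpleGroup.prime_card
    rw [← index_eq_card, hLe, h2] at hprime
    exact (Nat.Prime.eq_one_of_pow hprime) |> fun h => absurd h (by omega)
  obtain ⟨v, hv, hv1⟩ := V.nontrivial_iff_exists_ne_one.1 ((nontrivial_iff_ne_bot V).2 hV1)
  have hyv : Commute y v := (hcent hyQ v hv).symm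
  have h3 := hout _ (mul_notMem (hVH hv) hyH)
  rw [hyv.symm.mul_pow, hout y hyH, mul_one] at h3
  apply hv1
  obtain ⟨b, hb⟩ := IsPGroup.iff_orderOf.1 ((S.2.map H.subtype).to_le hVS) ⟨v, hv⟩
  rw [Subgroup.orderOf_mk] at hb
  refine orderOf_eq_one_iff.1 (Nat.eq_one_of_dvd_coprimes
    (Nat.coprime_pow_primes b 1 hq hp hqp) hb.dvd ?_)
  rw [pow_one]
  exact orderOf_dvd_of_pow_eq_one h3

theorem kegel : ∀ (n : ℕ) (G : Type u) [Group G] [Finite G], Nat.card G = n → ∀ (p : ℕ),
    p.Prime → ∀ H : Subgroup G, H.Normal → H.index = p → (∀ g : G, g ∉ H → g ^ p = 1) →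
    Group.IsNilpotent H := by
  intro n
  induction n using Nat.strong_induction_on with
  | _ n ih =>
  intro G _ _ hn p hp H hHn hidx hout
  haveI := hHn
  haveI := Fact.mk hp
  have hHtop : H ≠ ⊤ := fun h => hp.ne_one (by rw [← hidx, h, index_top])
  have hsub : ∀ (L : Subgroup G) (y : G), y ∈ L → y ∉ H → L ≠ ⊤ →
      Group.IsNilpotent (H ⊓ L : Subgroup G) := by
    intro L y hyL hyH hL
    have hlt : Nat.card L < n := hn ▸ lt_of_le_of_ne (card_le_card_group L)
      fun he => hL (eq_top_of_card_eq L he)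
    have hne : (H.subgroupOf L).index ≠ 1 := fun h =>
      hyH (mem_subgroupOf.1 ((index_eq_one.1 h).symm ▸ mem_top (⟨y, hyL⟩ : L)))
    have hdv : (H.subgroupOf L).index ∣ p := hidx ▸ relIndex_dvd_index_of_normal H L
    haveI := ih _ hlt L rfl p hp (H.subgroupOf L) inferInstance
      (((Nat.dvd_prime hp).1 hdv).resolve_left hne)
      (fun g hg => Subtype.ext (by simpa using hout g hg))
    haveI : Group.IsNilpotent ((H ⊓ L).subgroupOf L) :=
      (inf_subgroupOf_right H L).symm ▸ (inferInstance : Group.IsNilpotent (H.subgroupOf L))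
    exact Group.isNilpotent_congr (subgroupOfEquivOfLe inf_le_right) |>.1 inferInstance
  have hquo : ∀ N : Subgroup G, ∀ _ : N.Normal, N ≤ H → N ≠ ⊥ →
      Group.IsNilpotent (H.map (QuotientGroup.mk' N)) := by
    intro N _ hNH hN1
    have hlt : Nat.card (G ⧸ N) < n := by
      rw [← hn, card_eq_card_quotient_mul_card_subgroup N]
      exact lt_mul_of_one_lt_right Nat.card_pos ((one_lt_card_iff_ne_bot N).2 hN1)
    refine ih _ hlt _ rfl p hp _ (hHn.map _ (QuotientGroup.mk'_surjective N)) ?_ ?_
    · rw [index_map_eq _ (QuotientGroup.mk'_surjective N) (by rwa [QuotientGroup.ker_mk']), hidx]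
    · intro z hz
      obtain ⟨g, rfl⟩ := QuotientGroup.mk'_surjective N z
      rw [← map_pow, hout g (fun hg => hz ⟨g, hg, rfl⟩), map_one]
  -- `H` is solvable
  have hsolv : Group.IsSolvable H := by
    by_cases hN : ∃ N : Subgroup G, N.Normal ∧ N ≤ H ∧ N ≠ ⊥ ∧ N ≠ H
    · obtain ⟨N, hNn, hNH, hN1, hNne⟩ := hN
      haveI := hNn
      obtain ⟨y, hyH⟩ : ∃ y, y ∉ H := by
        by_contra hc
        push Not at hc
        exact hHtop (eq_top_iff.2 fun g _ => hc g)
      set L := N ⊔ zpowers y
      have hyL : y ∈ L := mem_sup_right (mem_zpowers y)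
      have hL : L ≠ ⊤ := by
        intro hL
        apply hNne
        refine le_antisymm hNH fun g hg => ?_
        have hg' : g ∈ ((L : Subgroup G) : Set G) := hL ▸ mem_top g
        rw [normal_mul] at hg'
        obtain ⟨a, ha, b, hb, rfl⟩ := hg'
        obtain ⟨i, rfl⟩ := mem_zpowers_iff.1 hb
        have hyi : y ^ i ∈ H := (H.mul_mem_cancel_left (hNH ha)).1 hg
        have : (p : ℤ) ∣ i := by
          by_contra hd
          obtain ⟨a', b', hab⟩ :=
            ((Nat.prime_iff_prime_int.mp hp).irreducible.coprime_iff_not_dvd).mpr hd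
          apply hyH
          rw [← zpow_one y, ← hab, zpow_add, mul_comm a', zpow_mul, zpow_natCast, hout y hyH,
            one_zpow, one_mul, mul_comm b', zpow_mul]
          exact zpow_mem hyi b'
        obtain ⟨c, rfl⟩ := this
        show a * y ^ ((p : ℤ) * c) ∈ N
        rw [zpow_mul, zpow_natCast, hout y hyH, one_zpow, mul_one]
        exact ha
      haveI := hsub L y hyL hyH hL
      haveI : Group.IsNilpotent N := Group.isNilpotent_congr
        (subgroupOfEquivOfLe (le_inf hNH (le_sup_left : N ≤ L))) |>.1 inferInstance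
      haveI := hquo N hNn hNH hN1
      let f := (QuotientGroup.mk' N).subgroupMap H
      haveI : Group.IsSolvable (N.subgroupOf H) :=
        Group.isSolvable_of_surjective (f := (subgroupOfEquivOfLe hNH).symm.toMonoidHom)
          (subgroupOfEquivOfLe hNH).symm.surjective
      refine Group.isSolvable_of_ker_le_range (N.subgroupOf H).subtype f ?_
      rw [range_subtype]
      intro a ha
      rw [mem_subgroupOf, ← QuotientGroup.eq_one_iff]
      exact congrArg Subtype.val ha
    push Not at hN
    by_contra hns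
    obtain ⟨r, hr, hr2, hrH⟩ : ∃ r, r.Prime ∧ r ≠ 2 ∧ r ∣ Nat.card H := by
      by_contra hcon
      push Not at hcon
      apply hns
      haveI := Fact.mk Nat.prime_two
      haveI := (IsPGroup.of_card (p := 2) (Nat.eq_prime_pow_of_unique_prime_dvd Nat.card_pos.ne'
        fun {d} hd hdd => by_contra fun hne => hcon d hd hne hdd)).isNilpotent (G := H)
      infer_instance
    haveI := Fact.mk hr
    let S : Sylow r H := default
    obtain ⟨y, hyS, hyH⟩ := exists_mem_normalizer_not_mem hHtop S
    set W := Cfsg.centerThompsonOf r (S : Subgroup H) with hW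
    set W' := W.map H.subtype with hW'
    have hyW : y ∈ normalizer (W' : Set G) := by
      rw [hW', map_centerThompson _ H.subtype_injective]
      exact normalizer_le_normalizer_centerThompson r _ hyS
    have hW1 : W ≠ ⊥ := centerThompson_ne_bot S.2 (S.ne_bot_of_dvd_card hrH)
    have hcomp : Cfsg.HasNormalPComplement r (normalizer (W : Set H)) := by
      have hLtop : normalizer (W' : Set G) ≠ ⊤ := by
        intro h
        have hWn : W'.Normal := normalizer_eq_top_iff.1 h
        have hWH := hN W' hWn (map_subtype_le _) fun h' =>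
          hW1 ((map_eq_bot_iff_of_injective _ H.subtype_injective).1 h')
        apply hns
        have hWp : IsPGroup r W' := (S.2.to_le (centerThompson_le r _)).map H.subtype
        rw [hWH] at hWp
        haveI := hWp.isNilpotent
        infer_instance
      haveI := hsub _ y hyW hyH hLtop
      haveI : Group.IsNilpotent ((H ⊓ normalizer (W' : Set G)).subgroupOf H) :=
        Group.isNilpotent_congr (subgroupOfEquivOfLe inf_le_left) |>.2 inferInstance
      have hle : normalizer (W : Set H) ≤ (H ⊓ normalizer (W' : Set G)).subgroupOf H := by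
        intro a ha
        exact mem_subgroupOf.2 ⟨a.2, le_normalizer_map H.subtype ⟨a, ha, rfl⟩⟩
      exact hasNormalPComplement_of_le hle hasNormalPComplement_of_isNilpotent
    have hH := (Cfsg.Agent.S0117.result hr2 S).2 hcomp
    have hK : ((Cfsg.pResidual r H).map H.subtype) = ⊥ ∨ (Cfsg.pResidual r H).map H.subtype = H :=
      or_iff_not_imp_left.2 fun h => hN _ inferInstance (map_subtype_le _) h
    rcases hK with hK | hK
    · rw [map_eq_bot_iff_of_injective _ H.subtype_injective] at hK
      apply hns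
      haveI := ((isPGroup_quotient_pResidual (G := H) (p := r)).of_equiv
        ((QuotientGroup.quotientMulEquivOfEq hK).trans QuotientGroup.quotientBot)).isNilpotent
      infer_instance
    · refine hasNormalPComplement_iff.1 hH ?_
      rw [← card_map_of_injective H.subtype_injective, hK]
      exact hrH
  -- `H` is nilpotent
  rcases eq_or_ne H ⊥ with rfl | hH1
  · exact Group.isNilpotent_of_subsingleton
  haveI := hsolv
  obtain ⟨r, V, hr, hVn, hVH, hV1, hVab, hVr⟩ :
      ∃ (r : ℕ) (V : Subgroup G), r.Prime ∧ V.Normal ∧ V ≤ H ∧ V ≠ ⊥ ∧ IsMulCommutative V ∧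
        IsPGroup r V := by
    obtain ⟨m, hm⟩ := hsolv.solvable
    classical
    have hex : ∃ m, derivedSeries H m = ⊥ := ⟨m, hm⟩
    have hspec := Nat.find_spec hex
    have hpos : Nat.find hex ≠ 0 := by
      intro h
      rw [h, derivedSeries_zero] at hspec
      apply hH1
      rw [← range_subtype H, MonoidHom.range_eq_map, hspec, Subgroup.map_bot]
    obtain ⟨j, hj⟩ := Nat.exists_eq_succ_of_ne_zero hpos
    set A := derivedSeries H j
    have hA : A ≠ ⊥ := Nat.find_min hex (by omega)
    haveI : A.Characteristic := derivedSeries_characteristic H j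
    have hAab : ∀ a b : A, a * b = b * a := by
      intro a b
      have h1 : ⁅(a : H), (b : H)⁆ ∈ derivedSeries H (Nat.find hex) := by
        rw [hj, derivedSeries_succ]
        exact commutator_mem_commutator a.2 b.2
      rw [hspec, mem_bot, commutatorElement_eq_one_iff_mul_comm] at h1
      exact Subtype.ext h1
    obtain ⟨r, hr, hrd⟩ := Nat.exists_prime_and_dvd (fun h => hA (card_eq_one.1 h))
    haveI := Fact.mk hr
    haveI : IsMulCommutative A := ⟨⟨hAab⟩⟩
    let P : Sylow r A := default
    haveI : (P : Subgroup A).Characteristic := P.characteristic_of_normal inferInstance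
    refine ⟨r, ((P : Subgroup A).map A.subtype).map H.subtype, hr, inferInstance,
      map_subtype_le _, ?_, ⟨⟨?_⟩⟩, (P.2.map _).map _⟩
    · rw [Ne, map_eq_bot_iff_of_injective _ H.subtype_injective,
        map_eq_bot_iff_of_injective _ A.subtype_injective]
      exact P.ne_bot_of_dvd_card hrd
    · rintro ⟨_, _, ⟨a, _, rfl⟩, rfl⟩ ⟨_, _, ⟨b, _, rfl⟩, rfl⟩
      exact Subtype.ext (congrArg (fun t : A => ((t : H) : G)) (hAab a b))
  haveI := hVn
  haveI := Fact.mk hr
  haveI := hquo V hVn hVH hV1
  apply ((Group.isNilpotent_of_finite_tfae (G := H)).out 0 3).2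
  intro t ht T
  have ht' : Fact t.Prime := ht
  set V₀ := V.subgroupOf H with hV₀
  haveI : V₀.Normal := inferInstance
  let f : H →* H.map (QuotientGroup.mk' V) := (QuotientGroup.mk' V).subgroupMap H
  have hfs : Function.Surjective f := (QuotientGroup.mk' V).subgroupMap_surjective H
  have hfk : f.ker = V₀ := by
    ext a
    rw [MonoidHom.mem_ker, hV₀, mem_subgroupOf, ← QuotientGroup.eq_one_iff, Subtype.ext_iff]
    rfl
  have hTn : ((T : Subgroup H).map f).Normal := by
    have h : (T.mapSurjective hfs).toSubgroup.Normal := inferInstance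
    exact h
  have hTV : ((T : Subgroup H) ⊔ V₀).Normal := by
    rw [← hfk, ← comap_map_eq]
    exact hTn.comap f
  by_cases htr : t = r
  · subst htr
    have hV₀T : V₀ ≤ (T : Subgroup H) := by
      have hV0p : IsPGroup t V₀ := hVr.comap_subtype
      exact hV0p.le_sylow_of_normal T
    rwa [sup_eq_left.2 hV₀T] at hTV
  obtain ⟨y, hyT, hyH⟩ := exists_mem_normalizer_not_mem hHtop T
  have hcent : ((T : Subgroup H).map H.subtype) ≤ centralizer (V : Set G) := by
    refine centralize_of_splitting hp hVab (by rw [normalizer_eq_top]; exact le_top)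
      (by rw [normalizer_eq_top]; exact mem_top y) hyT (fun u hu h => mul_notMem
        (map_subtype_le _ hu) hyH (hVH h)) (fun u hu v hv => hout _ (mul_notMem (hVH hv)
        (mul_notMem (map_subtype_le _ hu) hyH))) (fun h => hyH (map_subtype_le _ h)) ?_
    obtain ⟨a, ha⟩ := IsPGroup.iff_card.1 (T.2.map H.subtype)
    obtain ⟨b, hb⟩ := IsPGroup.iff_card.1 hVr
    rw [ha, hb]
    exact Nat.coprime_pow_primes _ _ ht'.out hr htr
  have hle : ((T : Subgroup H) ⊔ V₀) ≤ normalizer ((T : Subgroup H) : Set H) := by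
    refine sup_le le_normalizer (le_trans ?_ (centralizer_le_normalizer _))
    intro v hv a ha
    exact Subtype.ext (hcent ⟨a, ha, rfl⟩ v (mem_subgroupOf.1 hv)).symm
  haveI := hTV
  haveI hTc : ((T : Subgroup H).subgroupOf ((T : Subgroup H) ⊔ V₀)).Normal :=
    (normal_subgroupOf_iff_le_normalizer le_sup_left).2 hle
  haveI : (T.subtype le_sup_left : Sylow t ((T : Subgroup H) ⊔ V₀ : Subgroup H)).toSubgroup.Characteristic :=
    (T.subtype le_sup_left).characteristic_of_normal hTc
  have := (inferInstance :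
    (((T.subtype le_sup_left : Sylow t ((T : Subgroup H) ⊔ V₀ : Subgroup H)) : Subgroup _).map
      ((T : Subgroup H) ⊔ V₀).subtype).Normal)
  rwa [Sylow.coe_subtype, subgroupOf_map_subtype, inf_eq_left.2 le_sup_left] at this


/-- Let G be a finite group and p a prime such that G is not a p-group, and suppose the Hughes subgroup H_p(G), generated by all elements g with g^p ≠ 1, is a proper subgroup. Then H_p(G) is nilpotent and has index p in G. -/
theorem result {G : Type*} [Group G] [Finite G] (p : ℕ) (hp : p.Prime) (hG : ¬ IsPGroup p G)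
    (hH : Subgroup.closure {g : G | g ^ p ≠ 1} ≠ ⊤) :
    Group.IsNilpotent (Subgroup.closure {g : G | g ^ p ≠ 1}) ∧ (Subgroup.closure {g : G | g ^ p ≠ 1}).index = p := by
  haveI := Fact.mk hp
  set H := Subgroup.closure {g : G | g ^ p ≠ 1} with hHdef
  haveI hHn : H.Normal := by
    constructor
    intro a ha g
    have hle : H ≤ H.comap (MulAut.conj g).toMonoidHom := by
      rw [hHdef, closure_le]
      intro s hs
      refine subset_closure ?_
      intro hc
      apply hs
      have hc' : (MulAut.conj g s) ^ p = 1 := hc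
      rwa [← map_pow, map_eq_one_iff _ (MulAut.conj g).injective] at hc'
    exact hle ha
  have hout : ∀ g : G, g ∉ H → g ^ p = 1 := fun g hg => by_contra fun h => hg (subset_closure h)
  have hidx := index_eq_prime hG hH hout
  exact ⟨kegel _ G rfl p hp H hHn hidx hout, hidx⟩

end Cfsg.Agent.S4249
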