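import Cfsg.Statements.S4251
import Cfsg.Agent.Transfer.Frobenius

set_option autoImplicit false
open Cfsg

set_option linter.style.haveILetI false

namespace Cfsg.Agent.S4251

open Subgroup CfsgLib.Transfer

/-- Fusion in `P` is realised in `P` when the elements of order prime to `p` normalising a tame
intersection centralise it. -/
theorem exists_conj_of_tame {G : Type*} [Group G] [Finite G] {p : ℕ} [Fact p.Prime]
    (P : Sylow p G)
    (h : ∀ Q : Sylow p G, IsTameInf P Q →
      ∀ g ∈ normalizer (((P : Subgroup G) ⊓ (Q : Subgroup G) : Subgroup G) : Set G),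
        Nat.Coprime (orderOf g) p →
          g ∈ centralizer (((P : Subgroup G) ⊓ (Q : Subgroup G) : Subgroup G) : Set G))
    {A : Set G} {g : G} (hc : FusionChain P A g) :
    ∃ z ∈ (P : Subgroup G), ∀ a ∈ A, z⁻¹ * a * z = g⁻¹ * a * g := by
  induction hc with
  | nil A => exact ⟨1, one_mem _, fun a _ => rfl⟩
  | cons A Q x g hA ht hx _ ih =>
    set D := (P : Subgroup G) ⊓ (Q : Subgroup G) with hD
    set N := normalizer (D : Set G) with hN
    let PN : Sylow p N := Sylow.ofCard _ (card_subgroupOf_eq P ht.1)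
    have hx' : (⟨x, hx⟩ : N) ∈ ((PN : Subgroup N) ⊔ Cfsg.pResidual p N) := by
      rw [sylow_sup_pResidual]; exact mem_top _
    rw [← SetLike.mem_coe, mul_normal] at hx'
    obtain ⟨y, hy, c, hc, hyc⟩ := hx'
    have hcC : (c : G) ∈ centralizer (D : Set G) := by
      refine (show (Cfsg.pResidual p N).map N.subtype ≤ centralizer (D : Set G) from ?_)
        ⟨c, hc, rfl⟩
      rw [map_subtype_pResidual, closure_le]
      exact fun a ha => h Q ht a ha.1 ha.2
    obtain ⟨z, hz, hzA⟩ := ih
    refine ⟨(y : G) * z, mul_mem hy hz, fun a ha => ?_⟩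
    have hx : x = y * c := congrArg Subtype.val hyc.symm
    have hd : (y : G)⁻¹ * a * y ∈ D := (mem_normalizer_iff''.1 y.2 a).1 (hA ha)
    have he : x⁻¹ * a * x = (y : G)⁻¹ * a * y := by
      have := hcC _ hd
      calc x⁻¹ * a * x = (c : G)⁻¹ * (((y : G)⁻¹ * a * y) * c) := by rw [hx]; group
        _ = (y : G)⁻¹ * a * y := by rw [this]; group
    have := hzA _ ⟨a, ha, rfl⟩
    simp only [he] at this
    calc ((y : G) * z)⁻¹ * a * ((y : G) * z) = z⁻¹ * ((y : G)⁻¹ * a * y) * z := by group
      _ = g⁻¹ * ((y : G)⁻¹ * a * y) * g := this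
      _ = g⁻¹ * (x⁻¹ * a * x) * g := by rw [he]
      _ = (x * g)⁻¹ * a * (x * g) := by group


/-- Let P be a Sylow p-subgroup of a finite group G. Call an intersection H = P ∩ Q with a Sylow p-subgroup Q tame when N_P(H) and N_Q(H) are Sylow p-subgroups of N_G(H). If N_G(H)/C_G(H) is a p-group for every nontrivial tame intersection H = P ∩ Q, then G has a normal p-complement. -/
theorem result {G : Type*} [Group G] [Finite G] (p : ℕ) [Fact p.Prime] (P : Sylow p G)
    (h : ∀ Q : Sylow p G, (P : Subgroup G) ⊓ (Q : Subgroup G) ≠ ⊥ → (¬ p ∣ ((P : Subgroup G) ⊓ Subgroup.normalizer (((P : Subgroup G) ⊓ (Q : Subgroup G) : Subgroup G) : Set G)).relIndex (Subgroup.normalizer (((P : Subgroup G) ⊓ (Q : Subgroup G) : Subgroup G) : Set G)) ∧ ¬ p ∣ ((Q : Subgroup G) ⊓ Subgroup.normalizer (((P : Subgroup G) ⊓ (Q : Subgroup G) : Subgroup G) : Set G)).relIndex (Subgroup.normalizer (((P : Subgroup G) ⊓ (Q : Subgroup G) : Subgroup G) : Set G))) →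
      IsPGroup p (Subgroup.normalizer (((P : Subgroup G) ⊓ (Q : Subgroup G) : Subgroup G) : Set G) ⧸
        (Subgroup.centralizer (((P : Subgroup G) ⊓ (Q : Subgroup G) : Subgroup G) : Set G)).subgroupOf
          (Subgroup.normalizer (((P : Subgroup G) ⊓ (Q : Subgroup G) : Subgroup G) : Set G)))) :
    Cfsg.HasNormalPComplement p G := by
  have h' : ∀ Q : Sylow p G, IsTameInf P Q →
      ∀ g ∈ normalizer (((P : Subgroup G) ⊓ (Q : Subgroup G) : Subgroup G) : Set G),
        Nat.Coprime (orderOf g) p →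
          g ∈ centralizer (((P : Subgroup G) ⊓ (Q : Subgroup G) : Subgroup G) : Set G) := by
    intro Q ht g hg hgp
    rcases eq_or_ne ((P : Subgroup G) ⊓ (Q : Subgroup G)) ⊥ with hb | hne
    · rw [hb]
      intro a ha
      rw [SetLike.mem_coe, mem_bot] at ha
      simp [ha]
    set D := (P : Subgroup G) ⊓ (Q : Subgroup G) with hD
    have hp := h Q hne ht
    obtain ⟨k, hk⟩ := hp (QuotientGroup.mk (⟨g, hg⟩ : normalizer (D : Set G)))
    rw [← QuotientGroup.mk_pow, QuotientGroup.eq_one_iff, mem_subgroupOf] at hk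
    have hc : Nat.Coprime (p ^ k) (orderOf g) := (hgp.symm).pow_left k
    obtain ⟨m, hm⟩ := exists_pow_eq_self_of_coprime hc
    rw [← hm]
    rw [SubmonoidClass.coe_pow] at hk
    exact pow_mem hk m
  refine hasNormalPComplement_of_controlsFusion_self P fun x hx g hg => ?_
  obtain ⟨z, hz, he⟩ := exists_conj_of_tame P h'
    (exists_fusionChain P (A := {x}) (g := g⁻¹) (Set.singleton_subset_iff.2 hx)
      (by rw [Set.image_singleton, inv_inv]; exact Set.singleton_subset_iff.2 hg))
  exact ⟨z⁻¹, inv_mem hz, by simpa using he x rfl⟩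

end Cfsg.Agent.S4251
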