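import Cfsg.Statements.S4252

set_option autoImplicit false
open Cfsg

set_option linter.style.haveILetI false

namespace Cfsg.Agent.S4252

open scoped Pointwise commutatorElement


/-- Let a finite group G act on a finite set Ω with more than one point, transitively but not regularly, so that no non-identity element of G fixes two distinct points. Then the stabilizer H of any point is a Frobenius complement in G (nontrivial, proper, meeting its other conjugates trivially), and the Frobenius kernel of G with respect to H (the identity together with the elements lying in no conjugate of H) is exactly the set consisting of the identity and the elements fixing no point. -/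
theorem result {G Ω : Type*} [Group G] [Finite G] [Fintype Ω] [MulAction G Ω] (hΩ : 1 < Fintype.card Ω)
    (htrans : ∀ α β : Ω, ∃ g : G, g • α = β) (hnreg : ∃ g : G, g ≠ 1 ∧ ∃ α : Ω, g • α = α)
    (hfix : ∀ g : G, g ≠ 1 → ∀ α β : Ω, g • α = α → g • β = β → α = β) (α : Ω) :
    Cfsg.IsFrobeniusComplement (MulAction.stabilizer G α) ∧
      Cfsg.frobeniusKernel (MulAction.stabilizer G α) = {g : G | g = 1 ∨ ∀ ω : Ω, g • ω ≠ ω} := by
  classical
  have hmem : ∀ (x g : G) (β : Ω), x ∈ MulAut.conj g • MulAction.stabilizer G β ↔
      x ∈ MulAction.stabilizer G (g • β) := by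
    intro x g β
    rw [MulAction.stabilizer_smul_eq_stabilizer_map_conj, Subgroup.pointwise_smul_def]
    rfl
  obtain ⟨g₀, hg₀, β, hβ⟩ := hnreg
  refine ⟨⟨?_, ?_, ?_⟩, ?_⟩
  · obtain ⟨k, rfl⟩ := htrans α β
    intro h
    apply hg₀
    have h1 : k⁻¹ * g₀ * k ∈ MulAction.stabilizer G α := by
      rw [MulAction.mem_stabilizer_iff]
      simp [mul_smul, hβ]
    rw [h, Subgroup.mem_bot] at h1
    simpa [mul_assoc] using congrArg (fun t => k * t * k⁻¹) h1
  · intro h
    obtain ⟨γ, hγ⟩ := Fintype.exists_ne_of_one_lt_card hΩ α
    obtain ⟨k, hk⟩ := htrans α γ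
    have : k ∈ MulAction.stabilizer G α := h ▸ Subgroup.mem_top k
    exact hγ (hk ▸ (MulAction.mem_stabilizer_iff.1 this))
  · intro g hg
    rw [Subgroup.eq_bot_iff_forall]
    rintro x ⟨hx1, hx2⟩
    by_contra hx
    exact hg (hfix x hx (g • α) α ((hmem x g α).1 hx2) hx1)
  · ext x
    simp only [Cfsg.frobeniusKernel, Set.mem_ofPred_eq, hmem, MulAction.mem_stabilizer_iff]
    refine or_congr Iff.rfl ⟨fun h ω => ?_, fun h g => h _⟩
    obtain ⟨k, rfl⟩ := htrans α ω
    exact h k

end Cfsg.Agent.S4252
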