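import Cfsg.Statements.S4253

set_option autoImplicit false
open Cfsg

set_option linter.style.haveILetI false

namespace Cfsg.Agent.S4253

open scoped Pointwise commutatorElement


/-- Let H be a Frobenius complement in a finite group G (a nontrivial proper subgroup meeting each conjugate gHg⁻¹ with g outside H trivially). Then in the action of G on the left cosets of H by left multiplication, no non-identity element of G fixes two distinct cosets. -/
theorem result {G : Type*} [Group G] [Finite G] (H : Subgroup G) (hH : Cfsg.IsFrobeniusComplement H)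
    (g : G) (hg : g ≠ 1) (a b : G ⧸ H) (ha : g • a = a) (hb : g • b = b) : a = b := by
  induction a using QuotientGroup.induction_on with
  | H a =>
  induction b using QuotientGroup.induction_on with
  | H b =>
  by_contra hne
  have key : a⁻¹ * g * a ∈ H := by
    have := ha
    rw [MulAction.Quotient.smul_coe, QuotientGroup.eq] at this
    have h2 := H.inv_mem this
    simpa [mul_assoc] using h2
  have keyb : b⁻¹ * g * b ∈ H := by
    have := hb
    rw [MulAction.Quotient.smul_coe, QuotientGroup.eq] at this
    have h2 := H.inv_mem this
    simpa [mul_assoc] using h2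
  have hc : a⁻¹ * b ∉ H := fun h => hne (QuotientGroup.eq.2 h)
  have hmem : a⁻¹ * g * a ∈ H ⊓ MulAut.conj (a⁻¹ * b) • H := by
    refine ⟨key, ?_⟩
    show a⁻¹ * g * a ∈ MulAut.conj (a⁻¹ * b) • H
    rw [Subgroup.mem_pointwise_smul_iff_inv_smul_mem]
    simpa [MulAut.smul_def, mul_assoc] using keyb
  rw [hH.2.2 _ hc, Subgroup.mem_bot] at hmem
  apply hg
  simpa [mul_eq_one_iff_eq_inv, mul_assoc] using congrArg (fun t => a * t * a⁻¹) hmem

end Cfsg.Agent.S4253
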