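import Cfsg.Statements.S4255
import Cfsg.Agent.ClassSizeGraph.Remote

set_option autoImplicit false
set_option linter.style.haveILetI false
open Cfsg

namespace Cfsg.Agent.S4255

open Subgroup CfsgLib.ClassSizeGraph
open scoped Pointwise

/-- Let G be a finite group. Call a prime a vertex if it divides some conjugacy class size of G, and two distinct vertices adjacent if their product divides some class size. Suppose this graph is disconnected: the vertices split into two nonempty parts with no vertex of one part adjacent to a vertex of the other. Then G/Z(G) is a Frobenius group with abelian Frobenius complement and with a Frobenius kernel all of whose elements commute. -/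
theorem result {G : Type*} [Group G] [Finite G] (S : Set ℕ) (hS : ∃ p ∈ S, (p.Prime ∧ ∃ g : G, p ∣ (Subgroup.centralizer ({g} : Set G)).index)) (hS' : ∃ q ∉ S, (q.Prime ∧ ∃ g : G, q ∣ (Subgroup.centralizer ({g} : Set G)).index))
    (hdisc : ∀ p q : ℕ, (p.Prime ∧ ∃ g : G, p ∣ (Subgroup.centralizer ({g} : Set G)).index) → (q.Prime ∧ ∃ g : G, q ∣ (Subgroup.centralizer ({g} : Set G)).index) → p ∈ S → q ∉ S → ¬ (∃ g : G, p * q ∣ (Subgroup.centralizer ({g} : Set G)).index)) :
    ∃ H : Subgroup (G ⧸ Subgroup.center G), Cfsg.IsFrobeniusComplement H ∧ IsMulCommutative H ∧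
      ∀ x ∈ Cfsg.frobeniusKernel H, ∀ y ∈ Cfsg.frobeniusKernel H, x * y = y * x := by
  classical
  let A : ℕ → ℕ → Prop := fun a b => ∃ g : G, a * b ∣ cs g
  let V : ℕ → Prop := fun a => a.Prime ∧ ∃ g : G, a ∣ cs g
  have hmk : ∀ {a b : ℕ} {g : G}, a.Prime → b.Prime → a ≠ b → a ∣ cs g → b ∣ cs g → A a b :=
    fun {a b g} ha hb hne h1 h2 => ⟨g, ((Nat.coprime_primes ha hb).2 hne).mul_dvd_of_dvd_of_dvd h1 h2⟩
  -- two primes of one class size lie on the same side
  have hside : ∀ {a b : ℕ} {g : G}, a.Prime → b.Prime → a ∣ cs g → b ∣ cs g → (a ∈ S ↔ b ∈ S) := by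
    intro a b g ha hb h1 h2
    by_cases hab : a = b
    · rw [hab]
    · exact ⟨fun h => by_contra fun h' => hdisc a b ⟨ha, g, h1⟩ ⟨hb, g, h2⟩ h h' (hmk ha hb hab h1 h2),
        fun h => by_contra fun h' => hdisc b a ⟨hb, g, h2⟩ ⟨ha, g, h1⟩ h h'
          (hmk hb ha (Ne.symm hab) h2 h1)⟩
  obtain ⟨y, hmax⟩ := Finite.exists_max (fun g : G => cs g)
  obtain ⟨p, hpS, hp, gp, hgp⟩ := hS
  obtain ⟨q, hqS, hq, gq, hgq⟩ := hS'
  obtain ⟨u₀, hu₀, hu₀y⟩ := Nat.exists_prime_and_dvd
    (show cs y ≠ 1 from fun h => by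
      have h' : cs gp ≤ cs y := hmax gp
      have := Nat.le_of_dvd (cs_pos gp) hgp
      have := hp.two_le
      omega)
  -- a vertex on the other side is remote
  obtain ⟨r, hrp, gr, hgr, hrside⟩ : ∃ r : ℕ, r.Prime ∧ ∃ g : G, r ∣ cs g ∧ ¬ (r ∈ S ↔ u₀ ∈ S) := by
    by_cases h : u₀ ∈ S
    · exact ⟨q, hq, gq, hgq, fun h' => hqS (h'.2 h)⟩
    · exact ⟨p, hp, gp, hgp, fun h' => h (h'.1 hpS)⟩
  have hr : Remote y r := ⟨hrp, ⟨gr, hgr⟩, fun g hrg => Nat.coprime_of_dvd fun u hu hug huy =>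
    hrside ((hside hrp hu hrg hug).trans (hside hu hu₀ huy hu₀y)), hmax⟩
  haveI : Fact r.Prime := ⟨hrp⟩
  obtain ⟨R⟩ : Nonempty (Sylow r G) := inferInstance
  obtain ⟨w, hw, hwh, hrw⟩ := exists_cs_eq_index hr
  obtain ⟨u, hu, huv⟩ := Nat.exists_prime_and_dvd (one_lt_vv hr R).ne'
  have huy : u ∣ cs y := huv.trans (vv_dvd_max hr R)
  haveI := hub_normal y
  set W := hub y with hWdef
  set C := cen R with hCdef
  -- outside `W` the class sizes are coprime to the index of `W`
  have hcopW : ∀ g : G, g ∉ W → Nat.Coprime (cs g) W.index := by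
    intro g hg
    refine Nat.coprime_of_dvd fun t ht htg htW => hrside ?_
    refine (hside hrp ht hrw (hwh ▸ htW)).trans ((hside ht hu htg (huv.trans (vv_dvd_cs hr R hg))).trans
      (hside hu hu₀ huy hu₀y))
  have hcover : ∀ g : G, g ∉ W → ∀ a : G, ∃ w ∈ W, ∃ b, Commute b g ∧ a = w * b := by
    intro g hg a
    have htop : W ⊔ centralizer ({g} : Set G) = ⊤ := index_eq_one.1
      (Nat.eq_one_of_dvd_coprimes (hcopW g hg) (index_dvd_of_le le_sup_right)
        (index_dvd_of_le le_sup_left))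
    have h : a ∈ ((W ⊔ centralizer ({g} : Set G) : Subgroup G) : Set G) := by
      rw [htop]; exact mem_top a
    rw [normal_mul] at h
    obtain ⟨w, hw, b, hb, rfl⟩ := h
    exact ⟨w, hw, b, commute_of_mem_centralizer hb, rfl⟩
  -- the Sylow subgroup lies in its centralizer
  have hRC : (R : Subgroup G) ≤ C := by
    have hidx : C.index = vv y R := by
      have h1 := Subgroup.relIndex_sup_left C W
      rw [show W ⊔ C = ⊤ from sup_eq_top hr R, relIndex_top_right] at h1
      have h3 := Subgroup.relIndex_mul_index (inf_le_right : C ⊓ W ≤ W)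
      have h4 := Subgroup.relIndex_mul_index (inf_le_left : C ⊓ W ≤ C)
      rw [inf_relIndex_right] at h3
      rw [inf_relIndex_left, ← h1] at h4
      rw [vv]
      refine Nat.eq_of_mul_eq_mul_left (Nat.pos_of_ne_zero W.index_ne_zero_of_finite) ?_
      rw [h4, ← h3, mul_comm]
    have hndvd : ¬ r ∣ C.index := fun h =>
      hrp.ne_one (Nat.eq_one_of_dvd_coprimes (hr.coprime w hrw) hrw
        (h.trans (hidx ▸ vv_dvd_max hr R)))
    obtain ⟨T, -, hT⟩ := CfsgLib.GroupBasics.exists_sylow_le hndvd (IsPGroup.of_bot) bot_le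
    have hsup : IsPGroup r ((R : Subgroup G) ⊔ T : Subgroup G) :=
      R.2.to_sup_of_normal_left' T.2 (hT.trans (centralizer_le_normalizer _))
    have heq := R.3 hsup le_sup_left
    have hTR : T = R := Sylow.ext (T.3 R.2 (heq ▸ le_sup_right)).symm
    exact hTR ▸ hT
  obtain ⟨σ, hσR, hσW⟩ : ∃ σ ∈ (R : Subgroup G), σ ∉ W := by
    by_contra h
    push Not at h
    exact not_hub_le hr R fun a ha => mem_centralizer_iff.2 fun t ht => (hub_comm (h t ht) ha).eq
  have hσC : σ ∈ C := hRC hσR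
  -- `W ⊓ C` is the centre
  have hcen : ∀ d : G, d ∈ center G ↔ d ∈ W ∧ d ∈ C := by
    intro d
    constructor
    · intro hd
      refine ⟨?_, mem_centralizer_iff.2 fun t _ => (mem_center_iff.1 hd t)⟩
      by_contra hdW
      have h1 : cs d = 1 := index_eq_one.2 (centralizer_eq_top_iff_subset.2 (by simpa using hd))
      exact hu.ne_one (Nat.dvd_one.1 (h1 ▸ huv.trans (vv_dvd_cs hr R hdW)))
    · rintro ⟨hdW, hdC⟩
      have hgC : σ * d ∈ C := mul_mem hσC hdC
      have hgW : σ * d ∉ W := fun h => hσW (by simpa using mul_mem h (inv_mem hdW))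
      refine mem_center_iff.2 fun a => ?_
      obtain ⟨w₁, hw₁, b, hb, rfl⟩ := hcover _ hgW a
      have hbC : b ∈ C := by
        obtain ⟨w₂, hw₂, c, hc, rfl⟩ := exists_mul hr R b
        refine mul_mem ?_ hc
        have hc2 : c * (σ * d) * c⁻¹ ∈ C := mul_mem (mul_mem hc hgC) (inv_mem hc)
        have hc3 : c * (σ * d) * c⁻¹ ∉ W := fun h => hgW (by
          simpa [mul_assoc] using (hub_normal y).conj_mem _ h c⁻¹)
        refine fpf hr R hc2 hc3 hw₂ ?_
        have : w₂ * (c * (σ * d) * c⁻¹) * w₂⁻¹ = σ * d := by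
          calc w₂ * (c * (σ * d) * c⁻¹) * w₂⁻¹ = w₂ * c * (σ * d) * (w₂ * c)⁻¹ := by group
            _ = σ * d := by rw [hb.eq, mul_inv_cancel_right]
        rw [this]; exact hgC
      have hbσ : Commute b σ := (mem_centralizer_iff.1 hbC σ hσR).symm
      have hbd : Commute b d := by
        have := (hbσ.inv_right).mul_right hb
        rwa [inv_mul_cancel_left] at this
      exact ((hub_comm hw₁ hdW).mul_left hbd).eq
  have hzC : center G ≤ C := fun z hz => ((hcen z).1 hz).2
  let π := QuotientGroup.mk' (center G)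
  have hmem : ∀ c : G, π c ∈ C.map π ↔ c ∈ C := by
    intro c
    rw [← mem_comap, comap_map_eq_self (by rw [QuotientGroup.ker_mk']; exact hzC)]
  have hconj : ∀ a g : G, (π a ∈ MulAut.conj (π g) • C.map π) ↔ g⁻¹ * a * g ∈ C := by
    intro a g
    rw [mem_pointwise_smul_iff_inv_smul_mem, ← map_inv, ← hmem, MulAut.smul_def, MulAut.conj_apply]
    simp
  refine ⟨C.map π, ⟨?_, ?_, ?_⟩, ?_, ?_⟩
  · intro h
    have : π σ ∈ (⊥ : Subgroup (G ⧸ center G)) := h ▸ (hmem σ).2 hσC
    exact hσW ((hcen σ).1 ((QuotientGroup.eq_one_iff σ).1 this)).1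
  · intro h
    refine not_hub_le hr R fun a _ => (hmem a).1 (h ▸ mem_top _)
  · intro g
    obtain ⟨a, rfl⟩ := QuotientGroup.mk'_surjective (center G) g
    intro ha
    change π a ∉ C.map π at ha
    rw [hmem] at ha
    rw [eq_bot_iff]
    intro x hx
    obtain ⟨c, rfl⟩ := QuotientGroup.mk'_surjective (center G) x
    change π c = 1
    obtain ⟨hx1, hx2⟩ := hx
    have hc : c ∈ C := (hmem c).1 hx1
    have hc' : a⁻¹ * c * a ∈ C := (hconj c a).1 hx2
    by_cases hcW : c ∈ W
    · exact (QuotientGroup.eq_one_iff c).2 ((hcen c).2 ⟨hcW, hc⟩)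
    exfalso
    obtain ⟨w₁, hw₁, c₁, hc₁, rfl⟩ := exists_mul hr R a
    have h2 : w₁⁻¹ * c * w₁⁻¹⁻¹ ∈ C := by
      have := mul_mem (mul_mem hc₁ hc') (inv_mem hc₁)
      simpa [mul_assoc] using this
    exact ha (mul_mem (inv_mem_iff.1 (fpf hr R hc hcW (inv_mem hw₁) h2)) hc₁)
  · refine ⟨⟨?_⟩⟩
    rintro ⟨_, a, ha, rfl⟩ ⟨_, b, hb, rfl⟩
    apply Subtype.ext
    change π a * π b = π b * π a
    rw [← map_mul, ← map_mul]
    refine (QuotientGroup.eq).2 ((hcen _).2 ⟨?_, mul_mem (inv_mem (mul_mem ha hb)) (mul_mem hb ha)⟩)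
    rw [← QuotientGroup.eq (s := W), QuotientGroup.mk_mul, QuotientGroup.mk_mul]
    by_cases hbW : b ∈ W
    · rw [(QuotientGroup.eq_one_iff b).2 hbW, mul_one, one_mul]
    obtain ⟨w₁, hw₁, b', hb', rfl⟩ := hcover b hbW a
    rw [QuotientGroup.mk_mul, (QuotientGroup.eq_one_iff w₁).2 hw₁, one_mul, ← QuotientGroup.mk_mul,
      hb'.eq, QuotientGroup.mk_mul]
  · intro x hx x' hx'
    have hin : ∀ a : G, π a ∈ frobeniusKernel (C.map π) → a ∈ W := by
      intro a ha
      rcases ha with h | h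
      · exact ((hcen a).1 ((QuotientGroup.eq_one_iff a).1 h)).1
      by_contra haW
      obtain ⟨b, hb⟩ := exists_conj_mem hr R haW
      exact h (π b⁻¹) ((hconj a b⁻¹).2 (by rwa [inv_inv]))
    obtain ⟨a, rfl⟩ := QuotientGroup.mk'_surjective (center G) x
    obtain ⟨b, rfl⟩ := QuotientGroup.mk'_surjective (center G) x'
    rw [← map_mul, ← map_mul, (hub_comm (hin a hx) (hin b hx')).eq]

end Cfsg.Agent.S4255
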