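import Cfsg.Statements.S4257
import Cfsg.Agent.ClassSizeGraph.Remote

set_option autoImplicit false
set_option linter.style.haveILetI false
open Cfsg

namespace Cfsg.Agent.S4257

open CfsgLib.ClassSizeGraph

section Graph

variable {V : ℕ → Prop} {A : ℕ → ℕ → Prop}

/-- Two vertices within one step of two vertices that are at most one step apart. -/
theorem short_path (hA : ∀ a b, A a b → A b a) {p q a b : ℕ} (ha : V a) (hb : V b) (hpq : p ≠ q)
    (h1 : p = a ∨ A p a) (h2 : q = b ∨ A q b) (h3 : a = b ∨ A a b) :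
    A p q ∨ (∃ r, V r ∧ r ≠ p ∧ r ≠ q ∧ A p r ∧ A r q) ∨
      (∃ r s, V r ∧ V s ∧ r ≠ p ∧ s ≠ q ∧ r ≠ s ∧ r ≠ q ∧ s ≠ p ∧ A p r ∧ A r s ∧ A s q) := by
  have two : ∀ r, V r → A p r → A r q → A p q ∨ (∃ r, V r ∧ r ≠ p ∧ r ≠ q ∧ A p r ∧ A r q) := by
    intro r hr hpr hrq
    by_cases hrp : r = p
    · exact Or.inl (hrp ▸ hrq)
    by_cases hrq' : r = q
    · exact Or.inl (hrq' ▸ hpr)
    exact Or.inr ⟨r, hr, hrp, hrq', hpr, hrq⟩
  have lift : (A p q ∨ (∃ r, V r ∧ r ≠ p ∧ r ≠ q ∧ A p r ∧ A r q)) → A p q ∨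
      (∃ r, V r ∧ r ≠ p ∧ r ≠ q ∧ A p r ∧ A r q) ∨
      (∃ r s, V r ∧ V s ∧ r ≠ p ∧ s ≠ q ∧ r ≠ s ∧ r ≠ q ∧ s ≠ p ∧ A p r ∧ A r s ∧ A s q) := by
    rintro (h | h)
    · exact Or.inl h
    · exact Or.inr (Or.inl h)
  rcases h1 with rfl | h1 <;> rcases h2 with rfl | h2 <;> rcases h3 with rfl | h3
  · exact absurd rfl hpq
  · exact Or.inl h3
  · exact Or.inl (hA _ _ h2)
  · exact lift (two b hb h3 (hA _ _ h2))
  · exact Or.inl h1
  · exact lift (two a ha h1 h3)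
  · exact lift (two a ha h1 (hA _ _ h2))
  · by_cases hap : a = p
    · exact lift (two b hb (hap ▸ h3) (hA _ _ h2))
    by_cases hbq : b = q
    · exact lift (two a ha h1 (hbq ▸ h3))
    by_cases hab : a = b
    · exact lift (two a ha h1 (hab ▸ hA _ _ h2))
    by_cases haq : a = q
    · exact Or.inl (haq ▸ h1)
    by_cases hbp : b = p
    · exact Or.inl (hbp ▸ hA _ _ h2)
    exact Or.inr (Or.inr ⟨a, b, ha, hb, hap, hbq, hab, haq, hbp, h1, h3, hA _ _ h2⟩)

end Graph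

/-- Let G be a finite group. Call a prime a vertex if it divides some conjugacy class size of G, and two distinct vertices adjacent if their product divides some class size. If this graph is connected, then its diameter is at most 3: any two distinct vertices p and q are adjacent, or joined through one or two intermediate vertices. -/
theorem result {G : Type*} [Group G] [Finite G]
    (hconn : ∀ S : Set ℕ, (∃ p ∈ S, (p.Prime ∧ ∃ g : G, p ∣ (Subgroup.centralizer ({g} : Set G)).index)) → (∃ q ∉ S, (q.Prime ∧ ∃ g : G, q ∣ (Subgroup.centralizer ({g} : Set G)).index)) →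
      ∃ p q : ℕ, (p.Prime ∧ ∃ g : G, p ∣ (Subgroup.centralizer ({g} : Set G)).index) ∧ (q.Prime ∧ ∃ g : G, q ∣ (Subgroup.centralizer ({g} : Set G)).index) ∧ p ∈ S ∧ q ∉ S ∧ (∃ g : G, p * q ∣ (Subgroup.centralizer ({g} : Set G)).index))
    (p q : ℕ) (hp : (p.Prime ∧ ∃ g : G, p ∣ (Subgroup.centralizer ({g} : Set G)).index)) (hq : (q.Prime ∧ ∃ g : G, q ∣ (Subgroup.centralizer ({g} : Set G)).index)) (hpq : p ≠ q) :
    (∃ g : G, p * q ∣ (Subgroup.centralizer ({g} : Set G)).index) ∨ (∃ r : ℕ, (r.Prime ∧ ∃ g : G, r ∣ (Subgroup.centralizer ({g} : Set G)).index) ∧ r ≠ p ∧ r ≠ q ∧ (∃ g : G, p * r ∣ (Subgroup.centralizer ({g} : Set G)).index) ∧ (∃ g : G, r * q ∣ (Subgroup.centralizer ({g} : Set G)).index)) ∨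
      (∃ r s : ℕ, (r.Prime ∧ ∃ g : G, r ∣ (Subgroup.centralizer ({g} : Set G)).index) ∧ (s.Prime ∧ ∃ g : G, s ∣ (Subgroup.centralizer ({g} : Set G)).index) ∧ r ≠ p ∧ s ≠ q ∧ r ≠ s ∧ r ≠ q ∧ s ≠ p ∧
        (∃ g : G, p * r ∣ (Subgroup.centralizer ({g} : Set G)).index) ∧ (∃ g : G, r * s ∣ (Subgroup.centralizer ({g} : Set G)).index) ∧ (∃ g : G, s * q ∣ (Subgroup.centralizer ({g} : Set G)).index)) := by
  let A : ℕ → ℕ → Prop := fun a b => ∃ g : G, a * b ∣ cs g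
  let V : ℕ → Prop := fun a => a.Prime ∧ ∃ g : G, a ∣ cs g
  have hA : ∀ a b, A a b → A b a := fun a b ⟨g, hg⟩ => ⟨g, mul_comm a b ▸ hg⟩
  have hmk : ∀ {a b : ℕ} {g : G}, a.Prime → b.Prime → a ≠ b → a ∣ cs g → b ∣ cs g → A a b :=
    fun {a b g} ha hb hne h1 h2 => ⟨g, ((Nat.coprime_primes ha hb).2 hne).mul_dvd_of_dvd_of_dvd h1 h2⟩
  obtain ⟨y, hmax⟩ := Finite.exists_max (fun g : G => cs g)
  by_cases hrem : ∃ s : ℕ, Remote y s
  · obtain ⟨s, hr⟩ := hrem
    haveI : Fact s.Prime := ⟨hr.prime⟩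
    obtain ⟨S⟩ : Nonempty (Sylow s G) := inferInstance
    obtain ⟨w, hw, hwh, hsw⟩ := exists_cs_eq_index hr
    obtain ⟨u, hu, huv⟩ := Nat.exists_prime_and_dvd (one_lt_vv hr S).ne'
    have huy : u ∣ cs y := huv.trans (vv_dvd_max hr S)
    have hcop : Nat.Coprime (cs w) (cs y) := hr.coprime w hsw
    have hclass : ∀ {a : ℕ} {g : G}, a.Prime → a ∣ cs g → a ∣ cs w ∨ a = u ∨ A a u := by
      intro a g ha hag
      by_cases hg : g ∈ hub y
      · exact Or.inl (hwh ▸ hag.trans (cs_dvd_index hg))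
      · exact Or.inr (Classical.or_iff_not_imp_left.2 fun h =>
          hmk ha hu h hag (huv.trans (vv_dvd_cs hr S hg)))
    obtain ⟨t, t', ⟨ht, -⟩, ⟨ht', -⟩, htw, ht'w, g, hg⟩ := hconn {a : ℕ | a ∣ cs w}
      ⟨s, hsw, hr.prime, w, hsw⟩
      ⟨u, fun h => hu.ne_one (Nat.eq_one_of_dvd_coprimes hcop h huy), hu, y, huy⟩
    have htu : A t u := by
      have hgW : g ∉ hub y := fun h =>
        ht'w (hwh ▸ (dvd_of_mul_left_dvd hg).trans (cs_dvd_index h))
      refine hmk ht hu (fun h => ?_) (dvd_of_mul_right_dvd hg) (huv.trans (vv_dvd_cs hr S hgW))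
      subst h
      exact ht.ne_one (Nat.eq_one_of_dvd_coprimes hcop htw huy)
    have hnear : ∀ {a : ℕ}, V a → (a = t ∨ A a t) ∨ (a = u ∨ A a u) := by
      intro a ⟨ha, g', hg'⟩
      rcases hclass ha hg' with h | h
      · exact Or.inl (Classical.or_iff_not_imp_left.2 fun h' => hmk ha ht h' h htw)
      · exact Or.inr h
    have htV : V t := ⟨ht, w, htw⟩
    have huV : V u := ⟨hu, y, huy⟩
    rcases hnear hp with h1 | h1 <;> rcases hnear hq with h2 | h2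
    · exact short_path hA htV htV hpq h1 h2 (Or.inl rfl)
    · exact short_path hA htV huV hpq h1 h2 (Or.inr htu)
    · exact short_path hA huV htV hpq h1 h2 (Or.inr (hA _ _ htu))
    · exact short_path hA huV huV hpq h1 h2 (Or.inl rfl)
  · have key : ∀ {a : ℕ}, V a → ∃ u, V u ∧ u ∣ cs y ∧ (a = u ∨ A a u) := by
      intro a ha
      by_contra hcon
      refine hrem ⟨a, ha.1, ha.2, fun g hag => ?_, hmax⟩
      refine Nat.coprime_of_dvd fun u hu hug huy => hcon ⟨u, ⟨hu, g, hug⟩, huy, ?_⟩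
      exact Classical.or_iff_not_imp_left.2 fun h => hmk ha.1 hu h hag hug
    obtain ⟨a, ha, hay, h1⟩ := key hp
    obtain ⟨b, hb, hby, h2⟩ := key hq
    exact short_path hA ha hb hpq h1 h2
      (Classical.or_iff_not_imp_left.2 fun h => hmk ha.1 hb.1 h hay hby)

end Cfsg.Agent.S4257
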