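import Cfsg.Statements.S4260

set_option autoImplicit false
open Cfsg

set_option linter.style.haveILetI false

namespace Cfsg.Agent.S4260

theorem mem_of_orderOf_dvd {G : Type*} [Group G] [Finite G] (H : Subgroup G)
    (hHall : (Nat.card H).Coprime H.index) (hexp : ∀ x : G, x ^ H.index ∈ H) (y : G)
    (hy : orderOf y ∣ Nat.card H) : y ∈ H := by
  have hc : H.index.Coprime (orderOf y) := (hHall.symm).coprime_dvd_right hy
  obtain ⟨m, hm⟩ := exists_pow_eq_self_of_coprime hc
  rw [← hm]; exact H.pow_mem (hexp y) m


/-- Let H be a Hall subgroup of a finite group G (the order of H is coprime to its index) such that x^[G : H] lies in H for every x in G. Then H is normal in G. -/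
theorem result {G : Type*} [Group G] [Finite G] (H : Subgroup G) (hHall : (Nat.card H).Coprime H.index)
    (hexp : ∀ x : G, x ^ H.index ∈ H) : H.Normal := by
  constructor
  intro x hx g
  apply mem_of_orderOf_dvd H hHall hexp
  rw [show g * x * g⁻¹ = MulAut.conj g x from rfl, MulEquiv.orderOf_eq]
  exact Subgroup.orderOf_dvd_natCard H hx

end Cfsg.Agent.S4260
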