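import Cfsg.Statements.S4261

set_option autoImplicit false
open Cfsg

set_option linter.style.haveILetI false

namespace Cfsg.Agent.S4261

open scoped Pointwise commutatorElement

universe u

theorem exists_normal_pSubgroup (G : Type u) [Group G] [Finite G] [Nontrivial G]
    (hG : Group.IsSolvable G) : ∃ (q : ℕ) (A : Subgroup G), q.Prime ∧ A.Normal ∧ A ≠ ⊥ ∧
      IsPGroup q A := by
  classical
  obtain ⟨n, hn⟩ := hG.solvable
  have hex : ∃ m, derivedSeries G m = ⊥ := ⟨n, hn⟩
  have hspec := Nat.find_spec hex
  have hpos : Nat.find hex ≠ 0 := by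
    intro h
    rw [h, derivedSeries_zero] at hspec
    exact top_ne_bot hspec
  obtain ⟨j, hj⟩ := Nat.exists_eq_succ_of_ne_zero hpos
  set A := derivedSeries G j
  have hA : A ≠ ⊥ := Nat.find_min hex (by omega)
  haveI hAn : A.Normal := derivedSeries_normal G j
  have hAab : ∀ a b : A, a * b = b * a := by
    intro a b
    have h1 : ⁅(a : G), (b : G)⁆ ∈ derivedSeries G (Nat.find hex) := by
      rw [hj, derivedSeries_succ]
      exact Subgroup.commutator_mem_commutator a.2 b.2
    rw [hspec, Subgroup.mem_bot, commutatorElement_eq_one_iff_mul_comm] at h1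
    exact Subtype.ext h1
  have hne : Nat.card A ≠ 1 := fun h => hA (Subgroup.card_eq_one.1 h)
  obtain ⟨q, hq, hqd⟩ := Nat.exists_prime_and_dvd hne
  haveI := Fact.mk hq
  haveI : IsMulCommutative A := ⟨⟨hAab⟩⟩
  let P : Sylow q A := default
  haveI hPn : (P : Subgroup A).Normal := inferInstance
  haveI : (P : Subgroup A).Characteristic := P.characteristic_of_normal hPn
  refine ⟨q, (P : Subgroup A).map A.subtype, hq, inferInstance, ?_, P.2.map _⟩
  intro h
  rw [Subgroup.map_eq_bot_iff_of_injective _ A.subtype_injective] at h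
  have := P.dvd_card_of_dvd_card hqd
  rw [h, Subgroup.card_bot] at this
  exact hq.one_lt.ne' (Nat.dvd_one.1 this)

theorem index_primePow : ∀ (n : ℕ) (G : Type u) [Group G] [Finite G], Nat.card G = n →
    Group.IsSolvable G → ∀ M : Subgroup G, IsCoatom M →
      ∃ (q k : ℕ), q.Prime ∧ M.index = q ^ k := by
  intro n
  induction n using Nat.strong_induction_on with
  | _ n ih =>
  intro G _ _ hn hG M hM
  rcases subsingleton_or_nontrivial G with hs | hs
  · exact absurd (Subsingleton.elim M ⊤) hM.1
  obtain ⟨q, A, hq, hAn, hA, hAp⟩ := exists_normal_pSubgroup G hG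
  haveI := Fact.mk hq
  haveI := hG
  rcases em (A ≤ M) with hle | h
  · have hlt : Nat.card (G ⧸ A) < n := by
      rw [← hn, Subgroup.card_eq_card_quotient_mul_card_subgroup A]
      exact lt_mul_of_one_lt_right Nat.card_pos ((Subgroup.one_lt_card_iff_ne_bot A).2 hA)
    have hsurj := QuotientGroup.mk'_surjective A
    have hker : (QuotientGroup.mk' A).ker ≤ M := by rwa [QuotientGroup.ker_mk']
    have hM' : IsCoatom (M.map (QuotientGroup.mk' A)) := by
      refine ⟨fun h => hM.1 ?_, fun K hK => ?_⟩
      · rw [← Subgroup.comap_map_eq_self hker, h, Subgroup.comap_top]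
      · have h2 : M < K.comap (QuotientGroup.mk' A) := by
          rw [← Subgroup.comap_map_eq_self hker]
          exact (Subgroup.comap_lt_comap_of_surjective hsurj).2 hK
        have h3 := hM.2 _ h2
        rw [← Subgroup.map_comap_eq_self_of_surjective hsurj K, h3, Subgroup.map_top_of_surjective _ hsurj]
    obtain ⟨r, k, hr, hk⟩ := ih _ hlt (G ⧸ A) rfl (solvable_of_surjective hsurj) _ hM'
    exact ⟨r, k, hr, by rw [← Subgroup.index_map_eq _ hsurj hker, hk]⟩
  · have hsup : A ⊔ M = ⊤ := hM.2 _ (lt_of_le_of_ne le_sup_right fun h' =>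
      h (h'.symm ▸ le_sup_left))
    have e1 := Subgroup.relIndex_mul_index (inf_le_left : A ⊓ M ≤ A)
    have e2 := Subgroup.relIndex_mul_index (inf_le_right : A ⊓ M ≤ M)
    rw [Subgroup.inf_relIndex_left] at e1
    rw [Subgroup.inf_relIndex_right] at e2
    have e3 : A.relIndex M = A.index := by
      have h1 := Subgroup.relIndex_sup_right M A
      rw [sup_comm, hsup, Subgroup.relIndex_top_right] at h1
      exact h1.symm
    obtain ⟨k, hk⟩ := hAp.index (M.subgroupOf A)
    refine ⟨q, k, hq, ?_⟩
    rw [e3] at e2
    have h4 : M.relIndex A * A.index = A.index * M.index := by rw [e1, e2]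
    rw [mul_comm A.index M.index] at h4
    exact (Nat.eq_of_mul_eq_mul_right (Nat.pos_of_ne_zero Subgroup.index_ne_zero_of_finite) h4).symm.trans hk


/-- Let M be a maximal subgroup of a finite solvable group G such that x^[G : M] lies in M for every x in G. Then M is normal in G. -/
theorem result {G : Type*} [Group G] [Finite G] (hG : Group.IsSolvable G) (M : Subgroup G) (hM : IsCoatom M)
    (hexp : ∀ x : G, x ^ M.index ∈ M) : M.Normal := by
  obtain ⟨q, k, hq, hk⟩ := index_primePow _ G rfl hG M hM
  have hnN : (Subgroup.closure {x : G | (orderOf x).Coprime q}).Normal := by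
    constructor
    intro n hn g
    induction hn using Subgroup.closure_induction with
    | mem x hx =>
      exact Subgroup.subset_closure (by
        show (orderOf (g * x * g⁻¹)).Coprime q
        rw [show g * x * g⁻¹ = MulAut.conj g x from rfl, MulEquiv.orderOf_eq]; exact hx)
    | one => simp
    | mul x y _ _ hx hy => simpa [mul_assoc] using mul_mem hx hy
    | inv x _ hx => simpa [mul_assoc] using inv_mem hx
  haveI := hnN
  set N := Subgroup.closure {x : G | (orderOf x).Coprime q}
  have hle : N ≤ M := by
    rw [Subgroup.closure_le]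
    intro x hx
    have hc : M.index.Coprime (orderOf x) := by
      rw [hk]; exact (Nat.Coprime.pow_left _ (Nat.Coprime.symm hx))
    obtain ⟨m, hm⟩ := exists_pow_eq_self_of_coprime hc
    rw [← hm]; exact M.pow_mem (hexp x) m
  haveI := Fact.mk hq
  have hQ : IsPGroup q (G ⧸ N) := by
    intro z
    induction z using QuotientGroup.induction_on with
    | H x =>
      obtain ⟨e, c, hc, hec⟩ := Nat.exists_eq_pow_mul_and_not_dvd (orderOf_pos x).ne' q hq.ne_one
      refine ⟨e, ?_⟩
      rw [← QuotientGroup.mk_pow, QuotientGroup.eq_one_iff]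
      apply Subgroup.subset_closure
      show (orderOf (x ^ q ^ e)).Coprime q
      rw [orderOf_pow_of_dvd (pow_ne_zero _ hq.ne_zero) ⟨c, hec⟩, hec,
        Nat.mul_div_cancel_left _ (pow_pos hq.pos e)]
      exact (hq.coprime_iff_not_dvd.2 hc).symm
  haveI := hQ.isNilpotent
  have hsurj := QuotientGroup.mk'_surjective N
  have hker : (QuotientGroup.mk' N).ker ≤ M := by rwa [QuotientGroup.ker_mk']
  have hM' : IsCoatom (M.map (QuotientGroup.mk' N)) := by
    refine ⟨fun h => hM.1 ?_, fun K hK => ?_⟩
    · rw [← Subgroup.comap_map_eq_self hker, h, Subgroup.comap_top]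
    · have h2 : M < K.comap (QuotientGroup.mk' N) := by
        rw [← Subgroup.comap_map_eq_self hker]
        exact (Subgroup.comap_lt_comap_of_surjective hsurj).2 hK
      have h3 := hM.2 _ h2
      rw [← Subgroup.map_comap_eq_self_of_surjective hsurj K, h3, Subgroup.map_top_of_surjective _ hsurj]
  have hn2 := Subgroup.NormalizerCondition.normal_of_coatom _ normalizerCondition_of_isNilpotent hM'
  rw [← Subgroup.comap_map_eq_self hker]
  exact hn2.comap _

end Cfsg.Agent.S4261
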