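import Mathlib
import Cfsg.Prelude.Def_Solvable

set_option linter.style.haveILetI false

namespace Cfsg.Agent.S4263

open Subgroup

theorem pow_index_mem_of_isSubnormal {G : Type*} [Group G] {H : Subgroup G} (hH : H.IsSubnormal)
    (x : G) : x ^ H.index ∈ H := by
  induction hH with
  | top => simp
  | step H K hle hK hN ih =>
    have := hN
    have h2 := Subgroup.pow_index_mem (H.subgroupOf K) ⟨x ^ K.index, ih⟩
    rw [Subgroup.mem_subgroupOf] at h2
    have e : H.index = K.index * (H.subgroupOf K).index := by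
      rw [← Subgroup.relIndex_mul_index hle]
      simp [Subgroup.relIndex, mul_comm]
    rw [e, pow_mul]
    simpa using h2

theorem isSubnormal_of_isNilpotent {G : Type*} [Group G] [Finite G] [Group.IsNilpotent G]
    (H : Subgroup G) : H.IsSubnormal := by
  induction H using WellFoundedGT.induction with
  | _ H ih =>
    rcases eq_or_ne H ⊤ with rfl | hne
    · exact Subgroup.IsSubnormal.top
    · have hlt := normalizerCondition_of_isNilpotent (G := G) H (lt_top_iff_ne_top.2 hne)
      exact Subgroup.IsSubnormal.step H _ hlt.le (ih _ hlt) inferInstance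

theorem pow_index_mem_of_mem_normal_pGroup {G : Type*} [Group G] [Finite G] {p : ℕ} [Fact p.Prime]
    {R : Subgroup G} [R.Normal] (hR : IsPGroup p R) (H : Subgroup G) (y : G) (hy : y ∈ R) :
    y ^ H.index ∈ H := by
  have := hR.isNilpotent
  have h1 := pow_index_mem_of_isSubnormal (isSubnormal_of_isNilpotent (H.subgroupOf R)) ⟨y, hy⟩
  rw [Subgroup.mem_subgroupOf] at h1
  obtain ⟨c, hc⟩ : (H.subgroupOf R).index ∣ H.index := by
    change H.relIndex R ∣ H.index
    obtain ⟨d, hd⟩ := Subgroup.relIndex_dvd_index_of_normal R H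
    have e1 := Subgroup.relIndex_mul_index (inf_le_left : H ⊓ R ≤ H)
    have e2 := Subgroup.relIndex_mul_index (inf_le_right : H ⊓ R ≤ R)
    rw [Subgroup.inf_relIndex_left] at e1
    rw [Subgroup.inf_relIndex_right] at e2
    refine ⟨d, Nat.eq_of_mul_eq_mul_left
      (Nat.pos_of_ne_zero (Subgroup.index_ne_zero_of_finite (H := R.subgroupOf H))) ?_⟩
    change R.relIndex H * H.index = R.relIndex H * (H.relIndex R * d)
    rw [e1, ← e2, hd]; ring
  rw [hc, pow_mul]
  exact H.pow_mem (by simpa using h1) c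

theorem pElement_mem_pCore {G : Type*} [Group G] [Finite G] {p : ℕ} [Fact p.Prime] (y : G)
    (hy : ∃ k, orderOf y = p ^ k) (h : ∀ H : Subgroup G, y ^ H.index ∈ H) :
    y ∈ ⨅ P : Sylow p G, (P : Subgroup G) := by
  rw [Subgroup.mem_iInf]
  intro P
  obtain ⟨k, hk⟩ := hy
  have hp : ¬ p ∣ (P : Subgroup G).index := P.not_dvd_index
  have hcop : (P : Subgroup G).index.Coprime (orderOf y) := by
    rw [hk]; exact Nat.Coprime.pow_right _ ((Fact.out : p.Prime).coprime_iff_not_dvd.2 hp).symm
  obtain ⟨m, hm⟩ := exists_pow_eq_self_of_coprime hcop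
  rw [← hm]; exact (P : Subgroup G).pow_mem (h _) m

theorem fitting_le_iSup {G : Type*} [Group G] [Finite G] :
    Cfsg.fittingSubgroup G ≤ ⨆ p : (Nat.card G).primeFactors, Cfsg.pCore (p : ℕ) G := by
  apply sSup_le
  rintro N ⟨hN, hnil⟩
  set S := ⨆ p : (Nat.card G).primeFactors, Cfsg.pCore (p : ℕ) G
  suffices h : S.subgroupOf N = ⊤ by
    rwa [Subgroup.subgroupOf_eq_top] at h
  apply Subgroup.eq_top_of_card_eq
  apply Nat.dvd_antisymm (Subgroup.card_subgroup_dvd_card _)
  rw [Nat.dvd_iff_prime_pow_dvd_dvd]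
  intro p k hp hdvd
  rcases k.eq_zero_or_pos with rfl | hk
  · simp
  haveI := Fact.mk hp
  let P : Sylow p N := default
  haveI : Group.IsNilpotent N := hnil
  have hc : (P : Subgroup N).Characteristic := P.characteristic_of_normal inferInstance
  haveI := hN
  have hn : ((P : Subgroup N).map N.subtype).Normal := inferInstance
  have hmem : p ∈ (Nat.card G).primeFactors := by
    refine Nat.mem_primeFactors.2 ⟨hp, ?_, Nat.card_pos.ne'⟩
    exact dvd_trans (dvd_trans (dvd_pow_self p hk.ne') hdvd) (Subgroup.card_subgroup_dvd_card N)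
  have hle : (P : Subgroup N).map N.subtype ≤ S :=
    le_trans (le_sSup (show _ ∈ {N : Subgroup G | N.Normal ∧ IsPGroup p N} from
      ⟨hn, P.2.map _⟩)) (le_iSup (fun q : (Nat.card G).primeFactors => Cfsg.pCore (q : ℕ) G) ⟨p, hmem⟩)
  have hle' : (P : Subgroup N) ≤ S.subgroupOf N := fun x hx => hle ⟨x, hx, rfl⟩
  exact ((hp.pow_dvd_iff_le_factorization Nat.card_pos.ne').1 hdvd |> fun h =>
    (pow_dvd_pow p h).trans (P.card_eq_multiplicity ▸ dvd_refl _)).trans
    (Subgroup.card_dvd_of_le hle')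

theorem pCore_le_sylow {G : Type*} [Group G] [Finite G] (p : ℕ) [Fact p.Prime] (P : Sylow p G) :
    Cfsg.pCore p G ≤ P := by
  apply sSup_le
  rintro N ⟨hN, hp⟩
  obtain ⟨Q, hQ⟩ := hp.exists_le_sylow
  obtain ⟨g, rfl⟩ := MulAction.exists_smul_eq G Q P
  intro x hx
  rw [Sylow.coe_subgroup_smul]
  refine Subgroup.mem_pointwise_smul_iff_inv_smul_mem.2 (hQ ?_)
  simpa [MulAut.smul_def] using hN.conj_mem x hx g⁻¹

/-- Let G be a finite group. An element x lies in the Fitting subgroup F(G) if and only if, for every subgroup H of G, the power x^[G : H] lies in H. -/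
theorem result {G : Type*} [Group G] [Finite G] (x : G) :
    x ∈ Cfsg.fittingSubgroup G ↔ ∀ H : Subgroup G, x ^ H.index ∈ H := by
  classical
  have hprime : ∀ q : (Nat.card G).primeFactors, Fact (q : ℕ).Prime :=
    fun q => ⟨Nat.prime_of_mem_primeFactors q.2⟩
  have hnormal : ∀ p : ℕ, (Cfsg.pCore p G).Normal := fun p =>
    Subgroup.sSup_normal _ fun _ h => h.1
  have hpgrp : ∀ q : (Nat.card G).primeFactors, IsPGroup (q : ℕ) (Cfsg.pCore (q : ℕ) G) := by
    intro q
    haveI := hprime q
    let P : Sylow (q : ℕ) G := default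
    exact P.2.to_le (pCore_le_sylow _ P)
  constructor
  · intro hx H
    have hcomm : Pairwise fun i j : (Nat.card G).primeFactors => ∀ a b : G,
        a ∈ Cfsg.pCore (i : ℕ) G → b ∈ Cfsg.pCore (j : ℕ) G → Commute a b := by
      intro i j hij a b ha hb
      haveI := hprime i
      haveI := hprime j
      refine Subgroup.commute_of_normal_of_disjoint _ _ (hnormal _) (hnormal _) ?_ a b ha hb
      exact IsPGroup.disjoint_of_ne _ _ (fun h => hij (Subtype.ext h)) _ _ (hpgrp i) (hpgrp j)
    have hx' := fitting_le_iSup hx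
    rw [← Subgroup.noncommPiCoprod_range (hcomm := hcomm)] at hx'
    obtain ⟨f, rfl⟩ := hx'
    rw [← map_pow, Subgroup.noncommPiCoprod_apply]
    apply Subgroup.noncommProd_mem
    intro i _
    haveI := hprime i
    haveI := hnormal (i : ℕ)
    simpa using pow_index_mem_of_mem_normal_pGroup (hpgrp i) H (f i : G) (f i).2
  · intro h
    -- the subgroup of powers of `x` lying in the Fitting subgroup is everything
    suffices hs : (Cfsg.fittingSubgroup G).subgroupOf (Subgroup.zpowers x) = ⊤ by
      rw [Subgroup.subgroupOf_eq_top] at hs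
      exact hs (Subgroup.mem_zpowers x)
    apply Subgroup.eq_top_of_card_eq
    apply Nat.dvd_antisymm (Subgroup.card_subgroup_dvd_card _)
    rw [Nat.dvd_iff_prime_pow_dvd_dvd]
    intro p k hp hdvd
    haveI := Fact.mk hp
    rw [Nat.card_zpowers] at hdvd
    obtain ⟨c, hc⟩ := hdvd
    have hc0 : c ≠ 0 := fun h0 => (orderOf_pos x).ne' (by simp [hc, h0])
    have hyo : orderOf (x ^ c) = p ^ k := by
      rw [orderOf_pow_of_dvd hc0 ⟨p ^ k, by rw [hc]; ring⟩, hc, Nat.mul_div_cancel _ (by omega)]
    have hy : x ^ c ∈ ⨅ P : Sylow p G, (P : Subgroup G) := pElement_mem_pCore _ ⟨k, hyo⟩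
      fun H => by rw [← pow_mul, mul_comm, pow_mul]; exact H.pow_mem (h H) c
    have hnc : (⨅ P : Sylow p G, (P : Subgroup G)).Normal := by
      constructor
      intro a ha g
      rw [Subgroup.mem_iInf] at ha ⊢
      intro P
      have := ha (g⁻¹ • P)
      rw [Sylow.coe_subgroup_smul, Subgroup.mem_pointwise_smul_iff_inv_smul_mem] at this
      simpa [MulAut.smul_def] using this
    have hpn : IsPGroup p (⨅ P : Sylow p G, (P : Subgroup G) : Subgroup G) :=
      (default : Sylow p G).2.to_le (iInf_le _ _)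
    have hle : Subgroup.zpowers (x ^ c) ≤ Cfsg.fittingSubgroup G :=
      le_trans (Subgroup.zpowers_le.2 hy) (le_sSup ⟨hnc, hpn.isNilpotent⟩)
    have hsub : (Subgroup.zpowers (x ^ c)).subgroupOf (Subgroup.zpowers x) ≤
        (Cfsg.fittingSubgroup G).subgroupOf (Subgroup.zpowers x) :=
      fun a ha => hle ha
    refine dvd_trans ?_ (Subgroup.card_dvd_of_le hsub)
    rw [Nat.card_congr (Subgroup.subgroupOfEquivOfLe
      (Subgroup.zpowers_le.2 (Subgroup.pow_mem _ (Subgroup.mem_zpowers x) c))).toEquiv,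
      Nat.card_zpowers, hyo]

end Cfsg.Agent.S4263
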