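import Cfsg.Statements.S4265
import Cfsg.Agent.ClassFitting.Main
import Cfsg.Agent.ClassFitting.Reduce
-- import your own Cfsg.Agent.* helpers here

set_option autoImplicit false
open Cfsg

namespace Cfsg.Agent.S4265

/-- Let G be a finite solvable subgroup of GL_r(ℂ), r ≥ 1, with Fitting subgroup F(G) normal in G. Then for every subgroup H of G the quotient H/(H ∩ F(G)) has at most 3^{r−1} conjugacy classes. -/
theorem result (r : ℕ) (hr : 1 ≤ r) (G : Subgroup (GL (Fin r) ℂ)) [Finite ↥G] (hsolv : Group.IsSolvable ↥G) [hF : (Cfsg.fittingSubgroup ↥G).Normal] (H : Subgroup ↥G) : Nat.card (ConjClasses (↥H ⧸ (Cfsg.fittingSubgroup ↥G).subgroupOf H)) ≤ 3 ^ (r - 1) := by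
  haveI := hsolv
  haveI := Fintype.ofFinite G
  let R : G →* Matrix (Fin r) (Fin r) ℂ := (Units.coeHom _).comp G.subtype
  have hR : Function.Injective R := fun a b e => Subtype.ext (Units.ext e)
  obtain ⟨l, hl, ρ, hρ, hlG⟩ := CfsgLib.ClassFitting.exists_zmod_rep R hR
  let ρ' : G →* Module.End (ZMod l) (Fin r → ZMod l) :=
    (Matrix.toLinAlgEquiv' : _ ≃ₐ[ZMod l] _).toMonoidHom.comp ρ
  have hρ' : Function.Injective ρ' := Matrix.toLinAlgEquiv'.injective.comp hρ
  letI : DistribMulAction G (Fin r → ZMod l) :=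
    { smul := fun g v => ρ' g v
      one_smul := fun v => show ρ' 1 v = v by rw [map_one, Module.End.one_apply]
      mul_smul := fun g h v => show ρ' (g * h) v = ρ' g (ρ' h v) by
        rw [map_mul, Module.End.mul_apply]
      smul_zero := fun g => map_zero (ρ' g)
      smul_add := fun g v w => map_add (ρ' g) v w }
  have hf : CfsgLib.SolvKGV.Faith G (Fin r → ZMod l) := fun g hg =>
    hρ' ((LinearMap.ext fun v => hg v).trans (map_one ρ').symm)
  have hs : CfsgLib.SolvKGV.Semi G (Fin r → ZMod l) :=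
    CfsgLib.SolvKGV.semi_of_coprime (p := l) hlG fun v => by
      rw [← Nat.cast_smul_eq_nsmul (ZMod l), ZMod.natCast_self, zero_smul]
  have hV : Nat.card (Fin r → ZMod l) = l ^ r := by
    rw [Nat.card_fun, Nat.card_zmod, Nat.card_fin]
  have hK := CfsgLib.ClassFitting.subK_fitting hl.out r hV hr hs hf
  set f := (QuotientGroup.mk' (Cfsg.fittingSubgroup ↥G)).comp H.subtype
  have hker : (Cfsg.fittingSubgroup ↥G).subgroupOf H = f.ker := by
    ext x
    rw [MonoidHom.mem_ker, Subgroup.mem_subgroupOf]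
    exact (QuotientGroup.eq_one_iff _).symm
  refine le_trans (le_of_eq ?_) (hK f.range)
  exact CfsgLib.ClassFitting.k_congr
    ((QuotientGroup.quotientMulEquivOfEq hker).trans (QuotientGroup.quotientKerEquivRange f))

end Cfsg.Agent.S4265
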