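import Cfsg.Statements.S4269
import Cfsg.Agent.SolvCrit.Pronormal

set_option autoImplicit false
open Cfsg

namespace Cfsg.Agent.S4269

open Subgroup CfsgLib.SolvCrit.Pronormal

open scoped commutatorElement

/-- Let G be a finite group, V an abelian normal subgroup and H a subgroup with HV = G. Then H is pronormal in G (H and gHg⁻¹ are conjugate inside the subgroup they generate, for every g) if and only if every H-invariant subgroup U of V satisfies U = N_U(H)·[H, U], that is, U is the join of U ∩ N_G(H) and the commutator subgroup [H, U]. -/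
theorem result {G : Type*} [Group G] [Finite G]
    (V : Subgroup G) [V.Normal] (hV : IsMulCommutative ↥V) (H : Subgroup G) (hHV : H ⊔ V = ⊤) :
    Cfsg.IsPronormal H ↔
      ∀ U : Subgroup G, U ≤ V → (∀ h ∈ H, U.map (MulAut.conj h).toMonoidHom = U) →
        U = (U ⊓ Subgroup.normalizer (H : Set G)) ⊔ ⁅H, U⁆ := by
  have comm : ∀ a ∈ V, ∀ b ∈ V, a * b = b * a := fun a ha b hb =>
    congrArg Subtype.val (hV.is_comm.comm ⟨a, ha⟩ ⟨b, hb⟩)
  rw [pronormal_iff]
  constructor
  · intro hp U hUV hUH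
    have hHU : H ≤ normalizer (U : Set G) := fun h hh => cj_eq_self_iff.1 (hUH h hh)
    have hC : ⁅H, U⁆ ≤ U := commutator_le.2 fun h hh u hu => by
      rw [commutatorElement_def]
      exact mul_mem ((mem_normalizer_iff.1 (hHU hh) u).1 hu) (inv_mem hu)
    refine le_antisymm (fun u hu => ?_) (sup_le inf_le_left hC)
    obtain ⟨x, hx, hxe⟩ := hp u
    have hHC : H ≤ normalizer ((⁅H, U⁆ : Subgroup G) : Set G) := by
      intro h hh
      rw [← cj_eq_self_iff]
      show (⁅H, U⁆).map (MulAut.conj h).toMonoidHom = _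
      rw [map_commutator, hUH h hh]
      exact congrArg (⁅·, U⁆) (cj_of_mem hh)
    have hJ : H ⊔ cj u H ≤ ⁅H, U⁆ ⊔ H := by
      refine sup_le le_sup_right (fun y hy => ?_)
      rw [mem_cj] at hy
      have h1 : y = ⁅u⁻¹ * y * u, u⁆⁻¹ * (u⁻¹ * y * u) := by
        rw [commutatorElement_def]; group
      rw [h1]
      exact mul_mem (mem_sup_left (inv_mem (commutator_mem_commutator hy hu)))
        (mem_sup_right hy)
    have hx' : x ∈ (⁅H, U⁆ ⊔ H : Subgroup G) := hJ hx
    rw [← SetLike.mem_coe, coe_mul_of_right_le_normalizer_left _ _ hHC] at hx'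
    obtain ⟨c, hc, h, hh, rfl⟩ := hx'
    rw [cj_mul, cj_of_mem hh] at hxe
    have hn : c⁻¹ * u ∈ normalizer (H : Set G) :=
      cj_eq_self_iff.1 (by rw [cj_mul, hxe, cj_inv_cancel])
    rw [← mul_inv_cancel_left c u]
    exact mul_mem (mem_sup_right hc)
      (mem_sup_left (Subgroup.mem_inf.2 ⟨mul_mem (inv_mem (hC hc)) hu, hn⟩))
  · intro hU g
    have hg : g ∈ (V ⊔ H : Subgroup G) := by rw [sup_comm, hHV]; exact mem_top g
    rw [← SetLike.mem_coe, normal_mul] at hg
    obtain ⟨v, hv, h, hh, rfl⟩ := hg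
    rw [show cj (v * h) H = cj v H by rw [cj_mul, cj_of_mem hh]]
    set J := H ⊔ cj v H with hJ
    have hW0 : ∀ y ∈ H, ⁅y, v⁆ ∈ J ⊓ V := by
      intro y hy
      refine Subgroup.mem_inf.2 ⟨?_, ?_⟩
      · have : v * y⁻¹ * v⁻¹ ∈ J := mem_sup_right (conj_mem_cj v (inv_mem hy))
        have h1 := mul_mem (mem_sup_left (T := cj v H) hy) this
        rw [commutatorElement_def]
        simpa [mul_assoc] using h1
      · rw [commutatorElement_def]
        exact mul_mem ((inferInstance : V.Normal).conj_mem v hv y) (inv_mem hv)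
    let W : Subgroup G :=
      { carrier := {u | u ∈ V ∧ ∀ y ∈ H, ⁅y, u⁆ ∈ J ⊓ V}
        one_mem' := ⟨one_mem V, fun y _ => by rw [commutatorElement_one_right]; exact one_mem _⟩
        mul_mem' := by
          rintro a b ⟨ha, ha'⟩ ⟨hb, hb'⟩
          refine ⟨mul_mem ha hb, fun y hy => ?_⟩
          have h1 : ⁅y, a * b⁆ = ⁅y, a⁆ * (a * ⁅y, b⁆ * a⁻¹) := by
            simp only [commutatorElement_def]; group
          rw [h1, comm a ha _ (Subgroup.mem_inf.1 (hb' y hy)).2, mul_inv_cancel_right]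
          exact mul_mem (ha' y hy) (hb' y hy)
        inv_mem' := by
          rintro a ⟨ha, ha'⟩
          refine ⟨inv_mem ha, fun y hy => ?_⟩
          have h1 : ⁅y, a⁻¹⁆ = a⁻¹ * ⁅y, a⁆⁻¹ * a := by
            simp only [commutatorElement_def]; group
          rw [h1, comm a⁻¹ (inv_mem ha) _ (inv_mem (Subgroup.mem_inf.1 (ha' y hy)).2),
            inv_mul_cancel_right]
          exact inv_mem (ha' y hy) }
    set U := zpowers v ⊔ (J ⊓ V) with hUdef
    have hUW : U ≤ W := by
      refine sup_le (zpowers_le.2 ⟨hv, hW0⟩) (fun u hu => ?_)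
      obtain ⟨huJ, huV⟩ := Subgroup.mem_inf.1 hu
      refine ⟨huV, fun y hy => Subgroup.mem_inf.2 ⟨?_, ?_⟩⟩
      · rw [commutatorElement_def]
        have hyJ : y ∈ J := mem_sup_left hy
        exact mul_mem (mul_mem (mul_mem hyJ huJ) (inv_mem hyJ)) (inv_mem huJ)
      · rw [commutatorElement_def]
        exact mul_mem ((inferInstance : V.Normal).conj_mem u huV y) (inv_mem huV)
    have hUV : U ≤ V := fun u hu => (hUW hu).1
    have hinv : ∀ y ∈ H, U.map (MulAut.conj y).toMonoidHom = U := by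
      intro y hy
      refine eq_of_le_of_card_ge ?_ ?_
      · rintro _ ⟨u, hu, rfl⟩
        show MulAut.conj y u ∈ U
        rw [MulAut.conj_apply]
        have : y * u * y⁻¹ = ⁅y, u⁆ * u := by rw [commutatorElement_def]; group
        rw [this]
        exact mul_mem (mem_sup_right ((hUW hu).2 y hy)) hu
      · rw [card_map_of_injective (MulAut.conj y).injective]
    have hCJ : ⁅H, U⁆ ≤ J ⊓ V := commutator_le.2 fun y hy u hu => (hUW hu).2 y hy
    have hvU : v ∈ U := mem_sup_left (mem_zpowers v)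
    rw [hU U hUV hinv, ← SetLike.mem_coe,
      coe_mul_of_left_le_normalizer_right] at hvU
    · obtain ⟨n, hn, c, hc, rfl⟩ := hvU
      obtain ⟨hcJ, hcV⟩ := Subgroup.mem_inf.1 (hCJ hc)
      obtain ⟨hnU, hnN⟩ := Subgroup.mem_inf.1 hn
      refine ⟨c, hcJ, ?_⟩
      show cj (n * c) H = cj c H
      rw [comm n (hUV hnU) c hcV, cj_mul, cj_eq_self_iff.2 hnN]
    · intro n hn
      rw [mem_normalizer_iff]
      intro c
      have hnV : n ∈ V := hUV (Subgroup.mem_inf.1 hn).1
      constructor
      · intro hc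
        have hcV : c ∈ V := (Subgroup.mem_inf.1 (hCJ hc)).2
        rw [comm n hnV c hcV, mul_inv_cancel_right]
        exact hc
      · intro hc
        have hcV : n * c * n⁻¹ ∈ V := (Subgroup.mem_inf.1 (hCJ hc)).2
        have hcV' : c ∈ V := by
          have := mul_mem (mul_mem (inv_mem hnV) hcV) hnV
          simpa [mul_assoc] using this
        rwa [comm n hnV c hcV', mul_inv_cancel_right] at hc

end Cfsg.Agent.S4269
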