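import Cfsg.Statements.S4270
import Cfsg.Agent.SolvCrit.Pronormal

set_option autoImplicit false
open Cfsg

namespace Cfsg.Agent.S4270

open Subgroup CfsgLib.SolvCrit.Pronormal

variable {G : Type*} [Group G] [Finite G] {p : ℕ} [Fact p.Prime]

/-- `T` is a Sylow `p`-subgroup of `A`, seen in `G`. -/
def SylIn (p : ℕ) (A T : Subgroup G) : Prop :=
  T ≤ A ∧ IsPGroup p T ∧ ∀ S : Subgroup G, IsPGroup p S → S ≤ A → Nat.card S ≤ Nat.card T

omit [Finite G] [Fact p.Prime] in
theorem SylIn.mono {A R T : Subgroup G} (h : SylIn p A T) (hTR : T ≤ R) (hR : R ≤ A) :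
    SylIn p R T :=
  ⟨hTR, h.2.1, fun S hS hSR => h.2.2 S hS (hSR.trans hR)⟩

omit [Fact p.Prime] in
theorem SylIn.eq_of_le {A T S : Subgroup G} (h : SylIn p A T) (hS : IsPGroup p S) (hSA : S ≤ A)
    (hTS : T ≤ S) : S = T :=
  (eq_of_le_of_card_ge hTS (h.2.2 S hS hSA)).symm

theorem sylIn_map {A : Subgroup G} (P : Sylow p A) :
    SylIn p A ((P : Subgroup A).map A.subtype) := by
  refine ⟨map_subtype_le _, P.2.map _, fun S hS hSA => ?_⟩
  obtain ⟨R, hR⟩ := (hS.comap_subtype (H := S) (K := A)).exists_le_sylow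
  rw [card_map_of_injective A.subtype_injective, ← Nat.card_congr (P.equiv R).symm.toEquiv]
  rw [← Nat.card_congr (subgroupOfEquivOfLe hSA).toEquiv]
  exact card_le_of_le hR

omit [Fact p.Prime] in
theorem SylIn.toSylow {A T : Subgroup G} (h : SylIn p A T) :
    ∃ P : Sylow p A, (P : Subgroup A) = T.subgroupOf A := by
  obtain ⟨R, hR⟩ := (h.2.1.comap_subtype (H := T) (K := A)).exists_le_sylow
  refine ⟨R, (eq_of_le_of_card_ge hR ?_).symm⟩
  show Nat.card (R : Subgroup A) ≤ Nat.card (T.subgroupOf A)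
  rw [Nat.card_congr (subgroupOfEquivOfLe h.1).toEquiv,
    ← card_map_of_injective A.subtype_injective]
  exact h.2.2 _ (R.2.map _) (map_subtype_le _)

/-- Two Sylow subgroups of `R` are conjugate by an element of `R`. -/
theorem SylIn.conj {R T S : Subgroup G} (hT : SylIn p R T) (hS : SylIn p R S) :
    ∃ r ∈ R, cj r T = S := by
  obtain ⟨P, hP⟩ := hT.toSylow
  obtain ⟨Q, hQ⟩ := hS.toSylow
  obtain ⟨r, hr⟩ := MulAction.exists_smul_eq R P Q
  refine ⟨r, r.2, ?_⟩
  have h1 : cj r (P : Subgroup R) = (Q : Subgroup R) := by rw [← hr]; rfl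
  have h2 := congrArg (fun X : Subgroup R => X.map R.subtype) h1
  rw [map_cj, hP, hQ, map_subgroupOf_eq_of_le hT.1, map_subgroupOf_eq_of_le hS.1] at h2
  exact h2

omit [Finite G] [Fact p.Prime] in
theorem SylIn.cj_normal {A T : Subgroup G} [A.Normal] (h : SylIn p A T) (c : G) :
    SylIn p A (cj c T) := by
  refine ⟨?_, isPGroup_cj c h.2.1, fun S hS hSA => (card_cj c T).symm ▸ h.2.2 S hS hSA⟩
  exact (cj_mono c h.1).trans (CfsgLib.SolvCrit.Pronormal.cj_normal c A).le

/-- Frattini argument inside `R`. -/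
theorem frattini {A R T : Subgroup G} [A.Normal] (hT : SylIn p A T) (hTR : T ≤ R) (hRA : R ≤ A)
    {k : G} (hk : k ∈ normalizer (R : Set G)) :
    ∃ r ∈ R, r⁻¹ * k ∈ normalizer (T : Set G) := by
  have hS : SylIn p R (cj k T) := by
    refine (hT.cj_normal k).mono ?_ hRA
    exact (cj_mono k hTR).trans (cj_eq_self_iff.2 hk).le
  obtain ⟨r, hr, hre⟩ := (hT.mono hTR hRA).conj hS
  refine ⟨r, hr, cj_eq_self_iff.1 ?_⟩
  rw [cj_mul, ← hre, cj_inv_cancel]

theorem sylow_inf_sylIn {A : Subgroup G} [A.Normal] (P : Sylow p G) :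
    SylIn p A ((P : Subgroup G) ⊓ A) := by
  refine ⟨inf_le_right, P.2.to_le inf_le_left, fun S hS hSA => ?_⟩
  obtain ⟨Q, hQ⟩ := hS.exists_le_sylow
  obtain ⟨g, hg⟩ := MulAction.exists_smul_eq G Q P
  have hg' : cj g (Q : Subgroup G) = (P : Subgroup G) := by rw [← hg]; rfl
  rw [← card_cj g S]
  refine card_le_of_le (le_inf (hg' ▸ cj_mono g hQ) ?_)
  exact (cj_mono g hSA).trans (CfsgLib.SolvCrit.Pronormal.cj_normal g A).le

omit [Finite G] [Fact p.Prime] in
theorem sylow_le_normalizer_inf {A : Subgroup G} [A.Normal] (P : Sylow p G) :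
    (P : Subgroup G) ≤ normalizer (((P : Subgroup G) ⊓ A : Subgroup G) : Set G) := by
  intro x hx
  rw [← cj_eq_self_iff, cj_inf, cj_of_mem hx, CfsgLib.SolvCrit.Pronormal.cj_normal]

omit [Fact p.Prime] in
/-- A conjugate of a Sylow subgroup meets `A` exactly in `T`. -/
theorem exists_sylow_inf {A T : Subgroup G} [A.Normal] (hT : SylIn p A T) :
    ∃ P : Sylow p G, (P : Subgroup G) ⊓ A = T := by
  obtain ⟨P, hP⟩ := hT.2.1.exists_le_sylow
  exact ⟨P, hT.eq_of_le (P.2.to_le inf_le_left) inf_le_right (le_inf hP hT.1)⟩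

theorem exists_cj_inf {A T : Subgroup G} [A.Normal] (hT : SylIn p A T) (P : Sylow p G) :
    ∃ c : G, ((c • P : Sylow p G) : Subgroup G) ⊓ A = T := by
  obtain ⟨P0, hP0⟩ := exists_sylow_inf hT
  obtain ⟨c, hc⟩ := MulAction.exists_smul_eq G P P0
  exact ⟨c, by rw [hc, hP0]⟩

omit [Fact p.Prime] in
theorem exists_sylow_le_map {A : Subgroup G} [A.Normal] {K : Subgroup G}
    (h : ∃ P : Sylow p G, (P : Subgroup G) ≤ K) [Fact p.Prime] :
    ∃ P : Sylow p (G ⧸ A), (P : Subgroup (G ⧸ A)) ≤ K.map (QuotientGroup.mk' A) := by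
  obtain ⟨P, hP⟩ := h
  refine ⟨P.mapSurjective (QuotientGroup.mk'_surjective A), ?_⟩
  exact map_mono hP

/-- The main step: sufficiency. -/
theorem main (A : Subgroup G) [A.Normal]
    (hA : ∀ K : Subgroup ↥A, (∃ P : Sylow p ↥A, (P : Subgroup ↥A) ≤ K) → Cfsg.IsPronormal K)
    (hQ : ∀ K : Subgroup (G ⧸ A), (∃ P : Sylow p (G ⧸ A), (P : Subgroup (G ⧸ A)) ≤ K) →
      Cfsg.IsPronormal K)
    {T : Subgroup G} (hT : SylIn p A T) [(T.subgroupOf (normalizer (T : Set G))).Normal]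
    (hi : ∀ K : Subgroup (↥(normalizer (T : Set G)) ⧸ T.subgroupOf (normalizer (T : Set G))),
      (∃ P : Sylow p (↥(normalizer (T : Set G)) ⧸ T.subgroupOf (normalizer (T : Set G))),
        (P : Subgroup _) ≤ K) → Cfsg.IsPronormal K)
    (hii : ∀ K : Subgroup G, (∃ P : Sylow p G, (P : Subgroup G) ≤ K) →
      (normalizer (K : Set G)).map (QuotientGroup.mk' A) =
        normalizer ((K.map (QuotientGroup.mk' A) : Subgroup (G ⧸ A)) : Set (G ⧸ A)))
    {K : Subgroup G} {P : Sylow p G} (hPK : (P : Subgroup G) ≤ K)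
    (hPT : (P : Subgroup G) ⊓ A = T) : Cfsg.IsPronormal K := by
  rw [pronormal_iff]
  intro g
  -- modulo `A`
  set π := QuotientGroup.mk' A with hπ
  obtain ⟨x', hx', hxe⟩ := pronormal_iff.1 (hQ _ (exists_sylow_le_map ⟨P, hPK⟩)) (π g)
  rw [← hπ, ← map_cj, ← Subgroup.map_sup] at hx'
  obtain ⟨x, hx, rfl⟩ := hx'
  refine reduce hx ?_
  have hg1 : π (x⁻¹ * g) ∈ normalizer ((K.map π : Subgroup (G ⧸ A)) : Set (G ⧸ A)) := by
    rw [← cj_eq_self_iff, map_mul, map_inv, cj_mul, hxe, cj_inv_cancel]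
  rw [← hii K ⟨P, hPK⟩] at hg1
  obtain ⟨n, hn, hne⟩ := hg1
  set g1 := x⁻¹ * g with hg1def
  clear_value g1
  have ha : g1 * n⁻¹ ∈ A := by
    rw [← QuotientGroup.ker_mk' A, MonoidHom.mem_ker]
    rw [map_mul, map_inv, hπ] at *
    simp [hne]
  have hK1 : cj g1 K = cj (g1 * n⁻¹) K := by
    rw [cj_mul, cj_eq_self_iff.2 (inv_mem hn)]
  suffices ∃ y ∈ K ⊔ cj (g1 * n⁻¹) K, cj (g1 * n⁻¹) K = cj y K by
    rwa [hK1]
  generalize g1 * n⁻¹ = a at ha
  -- inside `A`
  set R := K ⊓ A with hR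
  have hTP : T ≤ (P : Subgroup G) := hPT ▸ inf_le_left
  have hTR : T ≤ R := le_inf (hTP.trans hPK) hT.1
  obtain ⟨TA, hTA⟩ := hT.toSylow
  have hRA : R ≤ A := inf_le_right
  obtain ⟨y', hy', hye⟩ := pronormal_iff.1
    (hA (R.subgroupOf A) ⟨TA, hTA ▸ comap_mono hTR⟩) ⟨a, ha⟩
  have hRmap : (R.subgroupOf A).map A.subtype = R := map_subgroupOf_eq_of_le hRA
  have hy : (y' : G) ∈ R ⊔ cj a R := by
    have h1 := mem_map_of_mem A.subtype hy'
    rw [Subgroup.map_sup, map_cj, hRmap] at h1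
    exact h1
  have hye' : cj a R = cj (y' : G) R := by
    have h1 := congrArg (fun X : Subgroup A => X.map A.subtype) hye
    rw [map_cj, map_cj, hRmap] at h1
    exact h1
  refine reduce ((sup_le_sup inf_le_left (cj_mono a inf_le_left) : R ⊔ cj a R ≤ K ⊔ cj a K) hy) ?_
  have hb : (y' : G)⁻¹ * a ∈ A := mul_mem (inv_mem y'.2) ha
  have hbR : (y' : G)⁻¹ * a ∈ normalizer (R : Set G) := by
    rw [← cj_eq_self_iff, cj_mul, hye', cj_inv_cancel]
  generalize (y' : G)⁻¹ * a = b at hb hbR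
  clear hye hy hye' hy'
  -- move into the normaliser of `T`
  obtain ⟨r, hr, hrb⟩ := frattini hT hTR hRA hbR
  have hrK : r ∈ K ⊔ cj b K := mem_sup_left (inf_le_left (a := K) (b := A) hr)
  refine reduce hrK ?_
  have hcR : r⁻¹ * b ∈ normalizer (R : Set G) := mul_mem (inv_mem (le_normalizer hr)) hbR
  generalize r⁻¹ * b = e at hrb hcR
  set N := normalizer (T : Set G) with hN
  set K0 := K ⊓ N with hK0
  have hPN : (P : Subgroup G) ≤ N := by
    have h1 := sylow_le_normalizer_inf (A := A) P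
    rw [hPT] at h1
    exact h1
  have hK0N : K0 ≤ N := inf_le_right
  have hsurj := QuotientGroup.mk'_surjective (T.subgroupOf N)
  have hpro : Cfsg.IsPronormal (K0.subgroupOf N) := by
    refine pronormal_of_map (f := QuotientGroup.mk' (T.subgroupOf N)) ?_ (hi _ ?_)
    · rw [QuotientGroup.ker_mk']
      exact comap_mono (le_inf (hTP.trans hPK) le_normalizer)
    · refine ⟨(P.subtype hPN).mapSurjective hsurj, map_mono ?_⟩
      exact comap_mono (le_inf hPK hPN)
  obtain ⟨w', hw', hwe⟩ := pronormal_iff.1 hpro ⟨e, hrb⟩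
  have hKmap : (K0.subgroupOf N).map N.subtype = K0 := map_subgroupOf_eq_of_le hK0N
  have hw : (w' : G) ∈ K0 ⊔ cj e K0 := by
    have h1 := mem_map_of_mem N.subtype hw'
    rw [Subgroup.map_sup, map_cj, hKmap] at h1
    exact h1
  have hwe' : cj e K0 = cj (w' : G) K0 := by
    have h1 := congrArg (fun X : Subgroup N => X.map N.subtype) hwe
    rw [map_cj, map_cj, hKmap] at h1
    exact h1
  refine ⟨w', (sup_le_sup inf_le_left (cj_mono e inf_le_left) : K0 ⊔ cj e K0 ≤ K ⊔ cj e K) hw, ?_⟩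
  -- `K = R ⊔ K0`
  have hKR : K ≤ normalizer (R : Set G) := by
    intro k hk
    rw [← cj_eq_self_iff, hR, cj_inf, cj_of_mem hk, CfsgLib.SolvCrit.Pronormal.cj_normal]
  have hKeq : K = R ⊔ K0 := by
    refine le_antisymm (fun k hk => ?_) (sup_le inf_le_left inf_le_left)
    obtain ⟨s, hs, hsk⟩ := frattini hT hTR hRA (hKR hk)
    have hsK' : s ∈ K := (inf_le_left : R ≤ K) hs
    have hsK : s⁻¹ * k ∈ K0 := Subgroup.mem_inf.2 ⟨mul_mem (inv_mem hsK') hk, hsk⟩
    rw [← mul_inv_cancel_left s k]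
    exact mul_mem (mem_sup_left hs) (mem_sup_right hsK)
  have hwR : (w' : G) ∈ normalizer (R : Set G) := by
    refine (sup_le (inf_le_left.trans hKR) ?_ : K0 ⊔ cj e K0 ≤ normalizer (R : Set G)) hw
    intro y hy
    have h0 : e⁻¹ * y * e ∈ K0 := mem_cj.1 hy
    have h0' : e⁻¹ * y * e ∈ normalizer (R : Set G) := hKR (inf_le_left (b := N) h0)
    have h1 : e * (e⁻¹ * y * e) * e⁻¹ ∈ normalizer (R : Set G) :=
      mul_mem (mul_mem hcR h0') (inv_mem hcR)
    simpa [mul_assoc] using h1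
  conv_lhs => rw [hKeq, cj_sup, cj_eq_self_iff.2 hcR, hwe']
  conv_rhs => rw [hKeq, cj_sup, cj_eq_self_iff.2 hwR]

theorem pronormal_all (A : Subgroup G) [A.Normal]
    (hA : ∀ K : Subgroup ↥A, (∃ P : Sylow p ↥A, (P : Subgroup ↥A) ≤ K) → Cfsg.IsPronormal K)
    (hQ : ∀ K : Subgroup (G ⧸ A), (∃ P : Sylow p (G ⧸ A), (P : Subgroup (G ⧸ A)) ≤ K) →
      Cfsg.IsPronormal K)
    {T : Subgroup G} (hT : SylIn p A T) [(T.subgroupOf (normalizer (T : Set G))).Normal]
    (hi : ∀ K : Subgroup (↥(normalizer (T : Set G)) ⧸ T.subgroupOf (normalizer (T : Set G))),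
      (∃ P : Sylow p (↥(normalizer (T : Set G)) ⧸ T.subgroupOf (normalizer (T : Set G))),
        (P : Subgroup _) ≤ K) → Cfsg.IsPronormal K)
    (hii : ∀ K : Subgroup G, (∃ P : Sylow p G, (P : Subgroup G) ≤ K) →
      (normalizer (K : Set G)).map (QuotientGroup.mk' A) =
        normalizer ((K.map (QuotientGroup.mk' A) : Subgroup (G ⧸ A)) : Set (G ⧸ A)))
    (K : Subgroup G) (hK : ∃ P : Sylow p G, (P : Subgroup G) ≤ K) : Cfsg.IsPronormal K := by
  obtain ⟨P, hP⟩ := hK
  obtain ⟨c, hc⟩ := exists_cj_inf hT P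
  have h1 : Cfsg.IsPronormal (cj c K) :=
    main A hA hQ hT hi hii (P := c • P) (cj_mono c hP) hc
  exact cj_inv_cancel c K ▸ pronormal_cj c⁻¹ h1

theorem local_of_pronormal (A : Subgroup G) [A.Normal] {T : Subgroup G} (hT : SylIn p A T)
    [(T.subgroupOf (normalizer (T : Set G))).Normal]
    (h : ∀ K : Subgroup G, (∃ P : Sylow p G, (P : Subgroup G) ≤ K) → Cfsg.IsPronormal K)
    (K : Subgroup (↥(normalizer (T : Set G)) ⧸ T.subgroupOf (normalizer (T : Set G))))
    (hK : ∃ P : Sylow p (↥(normalizer (T : Set G)) ⧸ T.subgroupOf (normalizer (T : Set G))),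
      (P : Subgroup _) ≤ K) : Cfsg.IsPronormal K := by
  set N := normalizer (T : Set G) with hN
  obtain ⟨P0, hP0⟩ := exists_sylow_inf hT
  have hPN : (P0 : Subgroup G) ≤ N := by
    have h1 := sylow_le_normalizer_inf (A := A) P0
    rw [hP0] at h1
    exact h1
  set f := QuotientGroup.mk' (T.subgroupOf N)
  have hsurj : Function.Surjective f := QuotientGroup.mk'_surjective _
  obtain ⟨Q, hQK⟩ := hK
  obtain ⟨q, hq⟩ := MulAction.exists_smul_eq (↥N ⧸ T.subgroupOf N)
    ((P0.subtype hPN).mapSurjective hsurj) Q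
  obtain ⟨n, rfl⟩ := hsurj q
  have hcj : cj n ((P0.subtype hPN : Sylow p N) : Subgroup N) ≤ K.comap f := by
    rw [← Subgroup.map_le_iff_le_comap, map_cj]
    refine le_trans (le_of_eq ?_) hQK
    rw [← hq]
    rfl
  have hK' : ∃ P : Sylow p G, (P : Subgroup G) ≤ (K.comap f).map N.subtype := by
    refine ⟨(n : G) • P0, ?_⟩
    have h1 := map_mono (f := N.subtype) hcj
    rw [map_cj, Sylow.coe_subtype, map_subgroupOf_eq_of_le hPN] at h1
    exact h1
  have h2 := pronormal_subgroupOf (map_subtype_le _) (h _ hK')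
  have h3 : ((K.comap f).map N.subtype).subgroupOf N = K.comap f :=
    comap_map_eq_self_of_injective N.subtype_injective _
  rw [h3] at h2
  exact map_comap_eq_self_of_surjective hsurj K ▸ pronormal_map hsurj h2

/-- Let p be a prime and G a finite group with a normal subgroup A such that, both in A and in G/A, every subgroup containing a Sylow p-subgroup of that group is pronormal in that group. Let T be a Sylow p-subgroup of A. Then every subgroup of G containing a Sylow p-subgroup of G is pronormal in G if and only if (i) every subgroup of N_G(T)/T containing a Sylow p-subgroup of N_G(T)/T is pronormal there, and (ii) for every subgroup H of G containing a Sylow p-subgroup of G, the image of N_G(H) in G/A is the full normalizer of the image of H. (Pronormal: H and gHg⁻¹ are conjugate inside the subgroup they generate, for every g.) -/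
theorem result {G : Type*} [Group G] [Finite G] {p : ℕ} [Fact p.Prime]
    (A : Subgroup G) [A.Normal] (hA : (∀ K : Subgroup ↥A, (∃ P : Sylow p ↥A, (P : Subgroup ↥A) ≤ K) → Cfsg.IsPronormal K)) (hQ : (∀ K : Subgroup (G ⧸ A), (∃ P : Sylow p (G ⧸ A), (P : Subgroup (G ⧸ A)) ≤ K) → Cfsg.IsPronormal K))
    (T : Subgroup G) (hT : ∃ P : Sylow p ↥A, (P : Subgroup ↥A).map A.subtype = T) [(T.subgroupOf (Subgroup.normalizer (T : Set G))).Normal] :
    (∀ K : Subgroup G, (∃ P : Sylow p G, (P : Subgroup G) ≤ K) → Cfsg.IsPronormal K) ↔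
      ((∀ K : Subgroup (↥(Subgroup.normalizer (T : Set G)) ⧸ T.subgroupOf (Subgroup.normalizer (T : Set G))), (∃ P : Sylow p (↥(Subgroup.normalizer (T : Set G)) ⧸ T.subgroupOf (Subgroup.normalizer (T : Set G))), (P : Subgroup (↥(Subgroup.normalizer (T : Set G)) ⧸ T.subgroupOf (Subgroup.normalizer (T : Set G)))) ≤ K) → Cfsg.IsPronormal K) ∧
        ∀ K : Subgroup G, (∃ P : Sylow p G, (P : Subgroup G) ≤ K) →
          (Subgroup.normalizer (K : Set G)).map (QuotientGroup.mk' A) = Subgroup.normalizer ((K.map (QuotientGroup.mk' A) : Subgroup (G ⧸ A)) : Set (G ⧸ A))) := by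
  obtain ⟨PA, rfl⟩ := hT
  constructor
  · intro h
    exact ⟨local_of_pronormal A (sylIn_map PA) h, fun K hK => map_normalizer_eq (h K hK)⟩
  · rintro ⟨hi, hii⟩
    exact pronormal_all A hA hQ (sylIn_map PA) hi hii

end Cfsg.Agent.S4270
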