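import Cfsg.Statements.S4271
import Cfsg.Agent.S4270

set_option autoImplicit false
open Cfsg

namespace Cfsg.Agent.S4271

open Subgroup CfsgLib.SolvCrit.Pronormal

/-- Let p be a prime and G a finite group with a normal subgroup A such that every subgroup of A containing a Sylow p-subgroup of A is pronormal in A, and the Sylow p-subgroups of G/A are self-normalizing. Let T be a Sylow p-subgroup of A. Then every subgroup of G containing a Sylow p-subgroup of G is pronormal in G if and only if every subgroup of N_G(T)/T containing a Sylow p-subgroup of N_G(T)/T is pronormal in N_G(T)/T. (Pronormal: H and gHg⁻¹ are conjugate inside the subgroup they generate, for every g.) -/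
theorem result {G : Type*} [Group G] [Finite G] {p : ℕ} [Fact p.Prime]
    (A : Subgroup G) [A.Normal] (hA : (∀ K : Subgroup ↥A, (∃ P : Sylow p ↥A, (P : Subgroup ↥A) ≤ K) → Cfsg.IsPronormal K))
    (hQ : ∀ P : Sylow p (G ⧸ A), Subgroup.normalizer ((P : Subgroup (G ⧸ A)) : Set (G ⧸ A)) = P)
    (T : Subgroup G) (hT : ∃ P : Sylow p ↥A, (P : Subgroup ↥A).map A.subtype = T) [(T.subgroupOf (Subgroup.normalizer (T : Set G))).Normal] :
    (∀ K : Subgroup G, (∃ P : Sylow p G, (P : Subgroup G) ≤ K) → Cfsg.IsPronormal K) ↔ (∀ K : Subgroup (↥(Subgroup.normalizer (T : Set G)) ⧸ T.subgroupOf (Subgroup.normalizer (T : Set G))), (∃ P : Sylow p (↥(Subgroup.normalizer (T : Set G)) ⧸ T.subgroupOf (Subgroup.normalizer (T : Set G))), (P : Subgroup (↥(Subgroup.normalizer (T : Set G)) ⧸ T.subgroupOf (Subgroup.normalizer (T : Set G)))) ≤ K) → Cfsg.IsPronormal K) := by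
  -- an overgroup of a self-normalising Sylow subgroup is pronormal and self-normalising
  have key : ∀ (K : Subgroup (G ⧸ A)), (∃ P : Sylow p (G ⧸ A), (P : Subgroup (G ⧸ A)) ≤ K) →
      ∀ g : G ⧸ A, ∃ x ∈ K ⊔ cj g K, x⁻¹ * g ∈ K := by
    rintro K ⟨P, hP⟩ g
    set J := K ⊔ cj g K with hJ
    have h1 : (P : Subgroup (G ⧸ A)) ≤ J := hP.trans le_sup_left
    have h2 : ((g • P : Sylow p (G ⧸ A)) : Subgroup (G ⧸ A)) ≤ J :=
      (cj_mono g hP).trans le_sup_right
    obtain ⟨x, hx⟩ := MulAction.exists_smul_eq J (P.subtype h1) ((g • P).subtype h2)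
    refine ⟨x, x.2, hP ?_⟩
    rw [← hQ P, ← cj_eq_self_iff, cj_mul]
    have h3 : cj x ((P : Subgroup (G ⧸ A)).subgroupOf J) =
        ((g • P : Sylow p (G ⧸ A)) : Subgroup (G ⧸ A)).subgroupOf J := by
      have := congrArg (fun S : Sylow p J => (S : Subgroup J)) hx
      exact this
    have h4 := congrArg (fun X : Subgroup J => X.map J.subtype) h3
    rw [map_cj, map_subgroupOf_eq_of_le h1, map_subgroupOf_eq_of_le h2] at h4
    show cj (x : G ⧸ A)⁻¹ ((g • P : Sylow p (G ⧸ A)) : Subgroup (G ⧸ A)) = _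
    rw [← h4]
    exact cj_inv_cancel _ _
  have hQ' : ∀ K : Subgroup (G ⧸ A), (∃ P : Sylow p (G ⧸ A), (P : Subgroup (G ⧸ A)) ≤ K) →
      Cfsg.IsPronormal K := by
    intro K hK
    rw [pronormal_iff]
    intro g
    obtain ⟨x, hx, hxg⟩ := key K hK g
    refine ⟨x, hx, ?_⟩
    conv_lhs => rw [← mul_inv_cancel_left x g, cj_mul, cj_of_mem hxg]
  have hii : ∀ K : Subgroup G, (∃ P : Sylow p G, (P : Subgroup G) ≤ K) →
      (normalizer (K : Set G)).map (QuotientGroup.mk' A) =
        normalizer ((K.map (QuotientGroup.mk' A) : Subgroup (G ⧸ A)) : Set (G ⧸ A)) := by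
    intro K hK
    refine le_antisymm (le_normalizer_map _) (fun y hy => ?_)
    obtain ⟨x, hx, hxy⟩ := key _ (S4270.exists_sylow_le_map hK) y
    rw [cj_eq_self_iff.2 hy, sup_idem] at hx
    have : y ∈ K.map (QuotientGroup.mk' A) := by
      rw [← mul_inv_cancel_left x y]
      exact mul_mem hx hxy
    exact map_mono le_normalizer this
  rw [Cfsg.Agent.S4270.result A hA hQ' T hT]
  exact ⟨fun h => h.1, fun h => ⟨h, hii⟩⟩

end Cfsg.Agent.S4271
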