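import Cfsg.Statements.S4274
import Cfsg.Agent.SolvCrit.Order175560

set_option autoImplicit false
set_option linter.style.haveILetI false
open Cfsg

namespace Cfsg.Agent.S4274

open Subgroup
open CfsgLib.SolvCrit.Order175560

universe u

theorem sq_not_dvd {n : ℕ} (h : n ∣ 175560) : ¬ 19 ^ 2 ∣ n := fun h' => by
  have := h'.trans h
  norm_num at this

theorem prime_pow_le {r j : ℕ} (hr : r.Prime) (h : r ^ j ∣ 9240) : r ^ j ≤ 11 := by
  rcases Nat.eq_zero_or_pos j with rfl | hj
  · simp
  have h1 : r ∣ 2 ^ 3 * (3 * (5 * (7 * 11))) :=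
    ((dvd_pow_self r hj.ne').trans h).trans (dvd_of_eq (by norm_num))
  have hr11 : r ≤ 11 := by
    rcases hr.dvd_mul.1 h1 with h3 | h3
    · have := Nat.le_of_dvd (by norm_num) (hr.dvd_of_dvd_pow h3); omega
    rcases hr.dvd_mul.1 h3 with h4 | h4
    · have := Nat.le_of_dvd (by norm_num) h4; omega
    rcases hr.dvd_mul.1 h4 with h4 | h4
    · have := Nat.le_of_dvd (by norm_num) h4; omega
    rcases hr.dvd_mul.1 h4 with h4 | h4
    · have := Nat.le_of_dvd (by norm_num) h4; omega
    · have := Nat.le_of_dvd (by norm_num) h4; omega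
  rcases eq_or_ne r 2 with rfl | hr2
  · have hj3 : j ≤ 3 := by
      by_contra h'
      have := (pow_dvd_pow 2 (show 4 ≤ j by omega)).trans h
      norm_num at this
    calc 2 ^ j ≤ 2 ^ 3 := Nat.pow_le_pow_right (by norm_num) hj3
      _ ≤ 11 := by norm_num
  · have hj1 : j ≤ 1 := by
      by_contra h'
      have := (pow_dvd_pow r (show 2 ≤ j by omega)).trans h
      interval_cases r <;> first | exact absurd rfl hr2 | exact absurd hr (by decide) | norm_num at this
    rw [show j = 1 by omega, pow_one]
    exact hr11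

/-- A subgroup of order 19 centralises a normal subgroup of order dividing `9240` if all its
conjugates do so with some Sylow subgroup. -/
theorem normal_of_centralizes {G : Type*} [Group G] [Finite G] (hN : Nat.card G ∣ 175560)
    (M : Subgroup G) [M.Normal] (hM : Nat.card M ∣ 9240) (hcard : Nat.card G = Nat.card M * 19)
    (K : Subgroup G) (hK : Nat.card K = 19) : K.Normal := by
  haveI : Fact (Nat.Prime 19) := ⟨by norm_num⟩
  have h19 : 19 ∣ Nat.card G := hcard ▸ dvd_mul_left 19 _
  have h2 := sq_not_dvd hN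
  have hcop : Nat.Coprime (Nat.card M) 19 := Nat.Coprime.coprime_dvd_left hM (by norm_num)
  -- every prime power dividing `card M` divides the order of the centralizer of `K` in `M`
  have key : Nat.card M ∣ Nat.card (centralizer (K : Set G) ⊓ M : Subgroup G) := by
    rw [Nat.dvd_iff_prime_pow_dvd_dvd]
    intro r k hr hk
    rcases Nat.eq_zero_or_pos k with rfl | hk0
    · simp
    haveI := Fact.mk hr
    obtain ⟨R⟩ : Nonempty (Sylow r M) := inferInstance
    set RG := (R : Subgroup M).map M.subtype with hRG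
    have hsup := Sylow.normalizer_sup_eq_top R
    rw [← hRG] at hsup
    have hdvd : Nat.card G ∣ Nat.card (normalizer (RG : Set G)) * Nat.card M := by
      have h := Subgroup.relIndex_sup_left (normalizer (RG : Set G)) M
      rw [sup_comm, hsup, relIndex_top_right] at h
      have h' := Subgroup.relIndex_dvd_card M (normalizer (RG : Set G))
      rw [← h] at h'
      obtain ⟨q, hq⟩ := h'
      exact ⟨q, by rw [hq, ← M.card_mul_index]; ring⟩
    have h19N : 19 ∣ Nat.card (normalizer (RG : Set G)) :=
      (Nat.Coprime.dvd_mul_right hcop.symm).1 (h19.trans hdvd)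
    obtain ⟨y, hy⟩ := exists_prime_orderOf_dvd_card' (G := normalizer (RG : Set G)) 19 h19N
    -- `y` centralises the small Sylow subgroup
    have hR11 : Nat.card RG ≤ 11 := by
      obtain ⟨j, hj⟩ := IsPGroup.iff_card.1 R.2
      have h1 : r ^ j ∣ 9240 := hj ▸ (card_subgroup_dvd_card _).trans hM
      rw [hRG, card_map_of_injective M.subtype_injective, hj]
      exact prime_pow_le hr h1
    let φ : normalizer (RG : Set G) →* Equiv.Perm RG :=
      (MulAut.toPerm RG).comp (normalizerMonoidHom RG)
    have hφy : φ y = 1 := by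
      rw [← orderOf_eq_one_iff]
      have h1 : orderOf (φ y) ∣ 19 := hy ▸ orderOf_map_dvd φ y
      rcases (Nat.dvd_prime (by norm_num)).1 h1 with h | h
      · exact h
      · exfalso
        have h3 : orderOf (φ y) ∣ Nat.card (Equiv.Perm RG) := orderOf_dvd_natCard _
        rw [h, Nat.card_perm] at h3
        have := (Nat.Prime.dvd_factorial (by norm_num : Nat.Prime 19)).1 h3
        omega
    have hcomm : ∀ z ∈ RG, z * (y : G) = (y : G) * z := by
      intro z hz
      have h := congrArg Subtype.val (Equiv.congr_fun hφy ⟨z, hz⟩)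
      have h' : (y : G) * z * (y : G)⁻¹ = z := h
      exact (mul_inv_eq_iff_eq_mul.1 h').symm
    obtain ⟨g, hg⟩ := exists_conj h19 h2
      (H := zpowers (y : G)) (by rw [Nat.card_zpowers, orderOf_coe, hy]) hK
    have hle : RG.map (MulAut.conj g).toMonoidHom ≤ centralizer (K : Set G) ⊓ M := by
      refine le_inf ?_ ?_
      · rw [← hg, centralizer_map]
        refine map_mono fun z hz => mem_centralizer_iff.2 ?_
        rintro _ ⟨i, rfl⟩
        exact ((Commute.symm (hcomm z hz)).zpow_left i).eq
      · rintro _ ⟨z, hz, rfl⟩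
        exact ‹M.Normal›.conj_mem z (map_subtype_le _ hz) g
    refine dvd_trans ?_ (card_dvd_of_le hle)
    rw [card_map_of_injective (MulEquiv.injective _), hRG,
      card_map_of_injective M.subtype_injective]
    exact R.pow_dvd_card_of_pow_dvd_card hk
  have hMC : M ≤ centralizer (K : Set G) :=
    (eq_of_le_of_card_ge inf_le_right (Nat.le_of_dvd Nat.card_pos key)).ge.trans inf_le_left
  have htop : normalizer (K : Set G) = ⊤ := by
    rw [← card_eq_iff_eq_top]
    refine Nat.dvd_antisymm (card_subgroup_dvd_card _) ?_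
    rw [hcard]
    exact hcop.mul_dvd_of_dvd_of_dvd (card_dvd_of_le (hMC.trans (centralizer_le_normalizer _)))
      (hK ▸ card_dvd_of_le le_normalizer)
  exact normalizer_eq_top_iff.1 htop

/-- The statement for all divisors. -/
theorem aux : ∀ (n : ℕ) (G : Type u) [Group G] [Finite G], Nat.card G = n → n ∣ 175560 → 19 ∣ n →
    (IsSimpleGroup G ∧ n = 175560) ∨ ∀ K : Subgroup G, Nat.card K = 19 → K.Normal := by
  intro n
  induction n using Nat.strong_induction_on with
  | _ n ih =>
  intro G _ _ hG hn h19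
  haveI : Fact (Nat.Prime 19) := ⟨by norm_num⟩
  obtain ⟨d, rfl⟩ := h19
  have hd : d ∣ 9240 := (Nat.mul_dvd_mul_iff_left (by norm_num : 0 < 19)).1
    (hn.trans (dvd_of_eq (by norm_num)))
  by_cases hs : IsSimpleGroup G
  · by_cases hab : IsMulCommutative G
    · exact Or.inr fun K _ => ⟨fun k hk g => by
        rwa [hab.1.1 g k, mul_inv_cancel_right]⟩
    · rcases eq_or_ne d 9240 with rfl | hd'
      · exact Or.inl ⟨hs, by norm_num⟩
      · exact (no_simple hab hd hd' hG).elim
  haveI : Nontrivial G := by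
    rw [← Finite.one_lt_card_iff_nontrivial, hG]
    have := Nat.pos_of_dvd_of_pos hd (by norm_num)
    omega
  obtain ⟨M, hMn, hM1, hM2⟩ : ∃ M : Subgroup G, M.Normal ∧ M ≠ ⊥ ∧ M ≠ ⊤ := by
    by_contra h
    push Not at h
    exact hs ⟨fun H hH => Classical.or_iff_not_imp_left.2 (h H hH)⟩
  -- enlarge `M` to a maximal normal subgroup
  obtain ⟨M₁, hle, ⟨hM₁n, hM₁2⟩, hmax⟩ := (Set.toFinite
    {H : Subgroup G | H.Normal ∧ H ≠ ⊤}).exists_le_maximal (a := M) ⟨hMn, hM2⟩
  have hM₁1 : M₁ ≠ ⊥ := fun h => hM1 (le_bot_iff.1 (h ▸ hle))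
  haveI := hM₁n
  have hcardM := M₁.card_mul_index
  have hidx : 1 < M₁.index := by
    have := index_ne_zero_of_finite (H := M₁)
    have : M₁.index ≠ 1 := fun h => hM₁2 (index_eq_one.1 h)
    omega
  have hMpos : 1 < Nat.card M₁ := by
    have := (one_lt_card_iff_ne_bot M₁).2 hM₁1
    exact this
  have h2 := sq_not_dvd hn
  rw [← hG] at h2
  refine Or.inr fun K hK => ?_
  by_cases h19M : 19 ∣ Nat.card M₁
  · -- all subgroups of order 19 lie in the maximal normal subgroup
    rcases ih (Nat.card M₁) (by rw [← hG, ← hcardM]; exact lt_mul_of_one_lt_right (by omega) hidx)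
      M₁ rfl ((card_subgroup_dvd_card _).trans (hG ▸ hn)) h19M with ⟨-, h⟩ | h
    · exfalso
      have h1 : Nat.card M₁ * M₁.index ∣ 175560 := hcardM.trans hG ▸ hn
      rw [h] at h1
      have := Nat.le_of_dvd (by norm_num) h1
      omega
    have hKM : ∀ L : Subgroup G, Nat.card L = 19 → L ≤ M₁ := by
      intro L hL x hx
      rw [← QuotientGroup.eq_one_iff]
      rw [← orderOf_eq_one_iff]
      have h1 : orderOf (x : G ⧸ M₁) ∣ 19 :=
        (orderOf_map_dvd (QuotientGroup.mk' M₁) x).trans (hL ▸ Subgroup.orderOf_dvd_natCard L hx)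
      rcases (Nat.dvd_prime (by norm_num)).1 h1 with h' | h'
      · exact h'
      · exfalso
        apply h2
        rw [sq, ← hcardM]
        refine mul_dvd_mul h19M ?_
        rw [index_eq_card, ← h']
        exact orderOf_dvd_natCard _
    haveI := h (K.subgroupOf M₁)
      (by rw [Nat.card_congr (subgroupOfEquivOfLe (hKM K hK)).toEquiv, hK])
    have huniq : ∀ L : Subgroup G, Nat.card L = 19 → L = K := by
      intro L hL
      have h2M : ¬ 19 ^ 2 ∣ Nat.card M₁ := fun h' => h2 (h'.trans (card_subgroup_dvd_card _))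
      have hA := Nat.card_congr (subgroupOfEquivOfLe (hKM K hK)).toEquiv
      have hB := Nat.card_congr (subgroupOfEquivOfLe (hKM L hL)).toEquiv
      obtain ⟨g, hg⟩ := exists_conj h19M h2M (hA.trans hK) (hB.trans hL)
      have hKg : (K.subgroupOf M₁).map (MulAut.conj g).toMonoidHom = K.subgroupOf M₁ := by
        refine eq_of_le_of_card_ge ?_ (by rw [card_map_of_injective (MulEquiv.injective _)])
        rintro _ ⟨z, hz, rfl⟩
        exact this.conj_mem z hz g
      rw [hKg] at hg
      have := congrArg (map M₁.subtype) hg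
      rwa [subgroupOf_map_subtype, subgroupOf_map_subtype, inf_eq_left.2 (hKM K hK),
        inf_eq_left.2 (hKM L hL), eq_comm] at this
    exact ⟨fun k hk g => (huniq (K.map (MulAut.conj g).toMonoidHom)
      (by rw [card_map_of_injective (MulEquiv.injective _), hK])) ▸ ⟨k, hk, rfl⟩⟩
  -- the quotient is of order 19
  have h19Q : 19 ∣ Nat.card (G ⧸ M₁) := by
    rw [← index_eq_card]
    have h : 19 ∣ Nat.card M₁ * M₁.index := hcardM.trans hG ▸ dvd_mul_right 19 d
    exact ((Nat.Prime.dvd_mul (by norm_num)).1 h).resolve_left h19M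
  haveI : Nontrivial (G ⧸ M₁) := by
    rw [← Finite.one_lt_card_iff_nontrivial, ← index_eq_card]; exact hidx
  have hQs : IsSimpleGroup (G ⧸ M₁) := by
    refine ⟨fun H hH => ?_⟩
    by_cases hH' : H.comap (QuotientGroup.mk' M₁) = ⊤
    · right
      rw [← map_comap_eq_self_of_surjective (QuotientGroup.mk'_surjective M₁) H, hH',
        map_top_of_surjective _ (QuotientGroup.mk'_surjective M₁)]
    · left
      have hle' : M₁ ≤ H.comap (QuotientGroup.mk' M₁) := fun x hx => by
        rw [mem_comap, QuotientGroup.mk'_apply, (QuotientGroup.eq_one_iff x).2 hx]; exact one_mem H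
      have h := hmax (y := H.comap (QuotientGroup.mk' M₁)) ⟨hH.comap _, hH'⟩ hle'
      rw [← map_comap_eq_self_of_surjective (QuotientGroup.mk'_surjective M₁) H,
        le_antisymm h hle', QuotientGroup.map_mk'_self]
  have hQd : Nat.card (G ⧸ M₁) ∣ 19 * d := hG ▸ card_quotient_dvd_card M₁
  rcases ih (Nat.card (G ⧸ M₁)) (by
      rw [← hG, ← hcardM, ← index_eq_card]; exact lt_mul_of_one_lt_left (by omega) hMpos)
    (G ⧸ M₁) rfl (hQd.trans hn) h19Q with ⟨-, h⟩ | h
  · exfalso
    have h1 : Nat.card M₁ * M₁.index ∣ 175560 := hcardM.trans hG ▸ hn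
    rw [index_eq_card, h] at h1
    have := Nat.le_of_dvd (by norm_num) h1
    omega
  · obtain ⟨L, hL⟩ := Sylow.exists_subgroup_card_pow_prime (G := G ⧸ M₁) 19 (n := 1)
      (by rwa [pow_one])
    rw [pow_one] at hL
    rcases (h L hL).eq_bot_or_eq_top with h' | h'
    · rw [h', card_bot] at hL
      norm_num at hL
    · rw [h', card_top, ← index_eq_card] at hL
      rw [hL] at hcardM
      refine normal_of_centralizes (hG ▸ hn) M₁ ?_ hcardM.symm K hK
      refine (Nat.Coprime.dvd_mul_left ((Nat.Prime.coprime_iff_not_dvd (by norm_num)).2 h19M).symm).1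
        (show Nat.card M₁ ∣ 19 * 9240 from (card_subgroup_dvd_card _).trans ?_)
      rw [hG]
      exact Nat.mul_dvd_mul_left 19 hd

/-- A finite group of order 175560 = 2³·3·5·7·11·19 is either simple or has a normal Sylow 19-subgroup. -/
theorem result {G : Type*} [Group G] [Finite G] (hG : Nat.card G = 175560) : IsSimpleGroup G ∨ ∀ P : Sylow 19 G, (P : Subgroup G).Normal := by
  haveI : Fact (Nat.Prime 19) := ⟨by norm_num⟩
  rcases aux 175560 G hG dvd_rfl (by norm_num) with ⟨h, -⟩ | h
  · exact Or.inl h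
  · exact Or.inr fun P => h P (card_sylow' (by rw [hG]; norm_num) (sq_not_dvd (hG ▸ dvd_rfl)) P)

end Cfsg.Agent.S4274
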