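import Cfsg.Statements.S4277
import Cfsg.Agent.Perm.AutFromNormalizer
import Cfsg.Agent.Perm.BurnsidePrime

set_option autoImplicit false
open Cfsg

namespace Cfsg.Agent.S4277

/-- A case of the Schreier conjecture: if a finite simple group G has a subgroup of prime index, then the outer automorphism group of G is solvable. -/
theorem result {G : Type*} [Group G] [Finite G] [IsSimpleGroup G] (H : Subgroup G) (hH : H.index.Prime) : Group.IsSolvable (Cfsg.Out G) := by
  classical
  by_cases hab : ∀ a b : G, a * b = b * a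
  · let _ : CommGroup G := { (inferInstance : Group G) with mul_comm := hab }
    have hcyc : IsCyclic G := inferInstance
    have : Group.IsSolvable (MulAut G) :=
      Group.isSolvable_of_comm fun a b => by
        have : Std.Commutative (α := MulAut G) (· * ·) := ⟨fun a b =>
          (IsCyclic.mulAutMulEquiv G).injective (by rw [map_mul, map_mul, mul_comm])⟩
        exact this.comm a b
    exact Group.isSolvable_of_surjective (QuotientGroup.mk'_surjective (Cfsg.Inn G))
  have hnsol : ¬ Group.IsSolvable G := fun h => hab (IsSimpleGroup.comm_iff_isSolvable.mpr h)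
  set p := H.index
  have := Fact.mk hH
  let _ := Fintype.ofFinite (G ⧸ H)
  have hcard : Fintype.card (G ⧸ H) = p := Nat.card_eq_fintype_card.symm
  let ρ : G →* Equiv.Perm (G ⧸ H) := MulAction.toPermHom G (G ⧸ H)
  have hρ : Function.Injective ρ := by
    rw [← MonoidHom.ker_eq_bot_iff]
    refine (MonoidHom.normal_ker ρ).eq_bot_or_eq_top.resolve_right fun h => hH.ne_one ?_
    refine Subgroup.index_eq_one.mpr (eq_top_iff.mpr fun g _ => ?_)
    have h1 : ρ g ((1 : G) : G ⧸ H) = ((1 : G) : G ⧸ H) := by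
      rw [MonoidHom.mem_ker.mp (show g ∈ ρ.ker from h ▸ Subgroup.mem_top g)]; rfl
    have h2 : ((g * 1 : G) : G ⧸ H) = ((1 : G) : G ⧸ H) := h1
    rw [mul_one, QuotientGroup.eq, mul_one] at h2
    exact (inv_mem_iff).mp h2
  have htrr : MulAction.IsPretransitive ρ.range (G ⧸ H) := ⟨fun a b => by
    obtain ⟨g, hg⟩ := MulAction.exists_smul_eq G a b
    exact ⟨⟨ρ g, g, rfl⟩, hg⟩⟩
  have h2 : MulAction.IsMultiplyPretransitive G (G ⧸ H) 2 := by
    rcases CfsgLib.Perm.PrimeDegree.burnside hcard ρ.range with h | h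
    · refine absurd ?_ hnsol
      exact Group.isSolvable_of_isSolvable_injective (MonoidHom.rangeRestrict_injective_iff.mpr hρ)
    · rw [MulAction.is_two_pretransitive_iff] at h ⊢
      intro a b c d hab hcd
      obtain ⟨⟨_, g, rfl⟩, h1, h2⟩ := h hab hcd
      exact ⟨g, h1, h2⟩
  -- the Hall property
  have hpG : p ∣ Nat.card G := H.index_dvd_card
  have hcopH : (Nat.card H).Coprime p := by
    rw [Nat.coprime_comm, hH.coprime_iff_not_dvd]
    intro h
    have h1 : p * p ∣ Nat.factorial p := by
      refine (dvd_trans ?_ (Subgroup.card_dvd_of_injective ρ hρ)).trans (dvd_of_eq ?_)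
      · rw [← H.card_mul_index]; exact mul_dvd_mul h dvd_rfl
      · rw [Nat.card_eq_fintype_card, Fintype.card_perm, hcard]
    rw [← Nat.mul_factorial_pred hH.ne_zero, mul_dvd_mul_iff_left hH.ne_zero,
      hH.dvd_factorial] at h1
    have := hH.one_lt; omega
  have hstab : MulAction.stabilizer G ((1 : G) : G ⧸ H) = H := by
    ext g
    rw [MulAction.mem_stabilizer_iff]
    show ((g * 1 : G) : G ⧸ H) = _ ↔ _
    rw [mul_one, QuotientGroup.eq, mul_one, inv_mem_iff]
  -- odd automorphisms fix the class of `H`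
  have hodd : ∀ α : MulAut G, Odd (orderOf α) → ∃ x : G, ∀ h ∈ H, x⁻¹ * α h * x ∈ H := by
    intro α hα
    obtain ⟨z, hz⟩ := CfsgLib.Perm.AutNormalizer.exists_fixed_of_coprime_orbit h2
      ((1 : G) : G ⧸ H) ((1 : G) : G ⧸ H) α hα (by
        rw [hcard]
        have hdvd : ∀ (K : Subgroup G) (o : G ⧸ H), Nat.card (MulAction.orbit K o) ∣ Nat.card K :=
          fun K o => ⟨_, ((Nat.card_congr (MulAction.orbitProdStabilizerEquivGroup K o)).symm.trans
            (Nat.card_prod _ _))⟩
        refine hcopH.coprime_dvd_left ((hdvd _ _).trans ?_)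
        rw [Subgroup.card_map_of_injective α.injective, hstab])
    induction z using QuotientGroup.induction_on with
    | _ x =>
    refine ⟨x, fun h hh => ?_⟩
    have h1 := hz (α h) ⟨h, by rw [SetLike.mem_coe, hstab]; exact hh, rfl⟩
    have h2 : ((α h * x : G) : G ⧸ H) = (x : G ⧸ H) := h1
    rw [QuotientGroup.eq] at h2
    have h3 := inv_mem h2
    simpa [mul_assoc] using h3
  -- the automorphisms fixing `H` and a Sylow subgroup `P`
  obtain ⟨P⟩ : Nonempty (Sylow p G) := Sylow.nonempty
  let T : Subgroup (MulAut G) :=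
    { carrier := {α | (∀ x, x ∈ H ↔ α x ∈ H) ∧ ∀ x, x ∈ (P : Subgroup G) ↔ α x ∈ (P : Subgroup G)}
      one_mem' := ⟨fun _ => Iff.rfl, fun _ => Iff.rfl⟩
      mul_mem' := fun {a b} ha hb =>
        ⟨fun x => (hb.1 x).trans (ha.1 (b x)), fun x => (hb.2 x).trans (ha.2 (b x))⟩
      inv_mem' := fun {a} ha => ⟨fun x => by
          have := (ha.1 (a⁻¹ x)).symm
          rwa [MulAut.apply_inv_self] at this,
        fun x => by
          have := (ha.2 (a⁻¹ x)).symm
          rwa [MulAut.apply_inv_self] at this⟩ }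
  have hP : Nat.card P = p := by
    rw [P.card_eq_multiplicity, ← H.card_mul_index, Nat.factorization_mul Nat.card_pos.ne' hH.ne_zero,
      Finsupp.add_apply, hH.factorization_self,
      Nat.factorization_eq_zero_of_not_dvd (hH.coprime_iff_not_dvd.mp hcopH.symm), zero_add, pow_one]
  have hcompl : Subgroup.IsComplement' (P : Subgroup G) H :=
    Subgroup.isComplement'_of_coprime (by rw [hP, mul_comm]; exact H.card_mul_index)
      (by rw [hP]; exact hcopH.symm)
  have hTcomm : ∀ a ∈ T, ∀ b ∈ T, a * b = b * a := by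
    intro a ha b hb
    -- both commute on `P`, hence everywhere
    have hPc : IsCyclic P := isCyclic_of_prime_card hP
    let res : T →* MulAut P :=
      { toFun := fun t =>
          { toFun := fun x => ⟨t.1 x, (t.2.2 x).mp x.2⟩
            invFun := fun x => ⟨t.1⁻¹ x, ((t⁻¹).2.2 x).mp x.2⟩
            left_inv := fun x => Subtype.ext (t.1.symm_apply_apply _)
            right_inv := fun x => Subtype.ext (t.1.apply_symm_apply _)
            map_mul' := fun x y => Subtype.ext (map_mul t.1 (x : G) (y : G)) }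
        map_one' := rfl
        map_mul' := fun _ _ => rfl }
    have hres : Function.Injective res := by
      intro s t hst
      refine Subtype.ext (MulEquiv.ext fun g => ?_)
      refine hρ (Equiv.ext fun q => ?_)
      induction q using QuotientGroup.induction_on with
      | _ y =>
      obtain ⟨⟨x, h⟩, rfl⟩ := (hcompl.existsUnique y).exists
      obtain ⟨⟨x', h'⟩, hgx⟩ := (hcompl.existsUnique (g * x)).exists
      have key : ∀ u : T, ((u.1 g * u.1 (x : G) : G) : G ⧸ H) = ((u.1 (x' : G) : G) : G ⧸ H) := by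
        intro u
        rw [← map_mul, ← hgx, map_mul, QuotientGroup.eq, ← inv_mem_iff]
        simp only [mul_inv_rev, inv_inv, inv_mul_cancel_left]
        exact (u.2.1 h').mp h'.2
      have hPeq : ∀ u : (P : Subgroup G), s.1 (u : G) = t.1 u := fun u =>
        congrArg Subtype.val (DFunLike.congr_fun hst u)
      obtain ⟨x₁, hx₁⟩ : ∃ x₁ : (P : Subgroup G), s.1 (x₁ : G) = x := by
        refine ⟨⟨s.1⁻¹ (x : G), ((s⁻¹).2.2 x).mp x.2⟩, s.1.apply_symm_apply _⟩
      obtain ⟨⟨x₁', h₁'⟩, hgx₁⟩ := (hcompl.existsUnique (g * x₁)).exists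
      have key₁ : ∀ u : T, ((u.1 g * u.1 (x₁ : G) : G) : G ⧸ H) = ((u.1 (x₁' : G) : G) : G ⧸ H) := by
        intro u
        rw [← map_mul, ← hgx₁, map_mul, QuotientGroup.eq, ← inv_mem_iff]
        simp only [mul_inv_rev, inv_inv, inv_mul_cancel_left]
        exact (u.2.1 h₁').mp h₁'.2
      show ((s.1 g * ((x : G) * h) : G) : G ⧸ H) = ((t.1 g * ((x : G) * h) : G) : G ⧸ H)
      rw [← mul_assoc, ← mul_assoc, QuotientGroup.mk_mul_of_mem _ h.2,
        QuotientGroup.mk_mul_of_mem _ h.2, ← hx₁]
      conv_rhs => rw [hPeq x₁]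
      rw [key₁ s, key₁ t, hPeq x₁']
    have h1 : res ⟨a, ha⟩ * res ⟨b, hb⟩ = res ⟨b, hb⟩ * res ⟨a, ha⟩ :=
      (IsCyclic.mulAutMulEquiv P).injective (by rw [map_mul, map_mul, mul_comm])
    rw [← map_mul, ← map_mul] at h1
    exact congrArg Subtype.val (hres h1)
  -- Frattini
  set π := QuotientGroup.mk' (Cfsg.Inn G)
  have hinn : ∀ g : G, π (MulAut.conj g) = 1 := fun g =>
    (QuotientGroup.eq_one_iff _).mpr ⟨g, rfl⟩
  have hin : ∀ α : MulAut G, Odd (orderOf α) → π α ∈ T.map π := by
    intro α hα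
    obtain ⟨x, hx⟩ := hodd α hα
    have hsurjα : ∀ g, ∃ g', α g' = g := α.surjective
    let Q : Sylow p G := P.mapSurjective (f := α.toMonoidHom) α.surjective
    obtain ⟨n, hn⟩ := MulAction.exists_smul_eq G Q P
    have hn' : ∀ y, y ∈ (P : Subgroup G) ↔ n * α y * n⁻¹ ∈ (P : Subgroup G) := by
      intro y
      have h1 : ((n • Q : Sylow p G) : Subgroup G) = P := by rw [hn]
      constructor
      · intro hy
        rw [← h1]
        exact ⟨α y, ⟨y, hy, rfl⟩, rfl⟩
      · intro hy
        rw [← h1] at hy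
        obtain ⟨z, hz, hz'⟩ := hy
        obtain ⟨w, hw, rfl⟩ := hz
        have h2 : n * α w * n⁻¹ = n * α y * n⁻¹ := hz'
        rw [mul_left_inj, mul_right_inj] at h2
        exact α.injective h2 ▸ hw
    -- choose the conjugating element of `H` inside `P`
    obtain ⟨⟨u, h0⟩, hu⟩ := (hcompl.existsUnique (n * x)).exists
    let β : MulAut G := MulAut.conj ((u : G)⁻¹ * n) * α
    have hβ : ∀ y, β y = (u : G)⁻¹ * (n * α y * n⁻¹) * u := fun y => by
      show ((u : G)⁻¹ * n) * α y * ((u : G)⁻¹ * n)⁻¹ = _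
      group
    have hβH : ∀ y, y ∈ H ↔ β y ∈ H := by
      have hle : H.map β.toMonoidHom ≤ H := by
        rintro _ ⟨y, hy, rfl⟩
        show β y ∈ H
        rw [hβ, show (u : G) = n * x * (h0 : G)⁻¹ by rw [← hu]; group]
        have := H.mul_mem (H.mul_mem h0.2 (hx y hy)) (H.inv_mem h0.2)
        convert this using 1
        group
      have heq : H.map β.toMonoidHom = H :=
        Subgroup.eq_of_le_of_card_ge hle (Subgroup.card_map_of_injective β.injective).ge
      intro y
      constructor
      · exact fun hy => hle ⟨y, hy, rfl⟩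
      · intro hy
        rw [← heq] at hy
        obtain ⟨z, hz, hz'⟩ := hy
        exact β.injective hz' ▸ hz
    refine ⟨β, ⟨hβH, fun y => ?_⟩, ?_⟩
    · rw [hn' y, hβ]
      constructor
      · exact fun h => mul_mem (mul_mem (inv_mem u.2) h) u.2
      · intro h
        have := mul_mem (mul_mem u.2 h) (inv_mem u.2)
        convert this using 1
        group
    · show π (MulAut.conj _ * α) = π α
      rw [map_mul, hinn, one_mul]
  let O : Subgroup (Cfsg.Out G) := Subgroup.closure {q | Odd (orderOf q)}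
  have hpow : ∀ q : Cfsg.Out G, ∃ k : ℕ, Odd (orderOf (q ^ 2 ^ k)) := fun q =>
    ⟨(orderOf q).factorization 2, by
      rw [orderOf_pow_of_dvd (by positivity) (Nat.ordProj_dvd _ 2)]
      rw [← Nat.not_even_iff_odd, even_iff_two_dvd]
      exact Nat.not_dvd_ordCompl Nat.prime_two (orderOf_pos q).ne'⟩
  have hO : O ≤ T.map π := by
    rw [Subgroup.closure_le]
    intro q (hq : Odd (orderOf q))
    obtain ⟨α, rfl⟩ := QuotientGroup.mk'_surjective (Cfsg.Inn G) q
    obtain ⟨k, hk⟩ : ∃ k : ℕ, Odd (orderOf (α ^ 2 ^ k)) :=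
      ⟨(orderOf α).factorization 2, by
        rw [orderOf_pow_of_dvd (by positivity) (Nat.ordProj_dvd _ 2)]
        rw [← Nat.not_even_iff_odd, even_iff_two_dvd]
        exact Nat.not_dvd_ordCompl Nat.prime_two (orderOf_pos α).ne'⟩
    have h1 := hin _ hk
    rw [map_pow] at h1
    obtain ⟨j, hj⟩ := exists_pow_eq_self_of_coprime (x := π α) (n := 2 ^ k)
      (Nat.Coprime.pow_left _ (Nat.coprime_two_left.mpr hq))
    rw [SetLike.mem_coe, ← hj]
    exact pow_mem h1 j
  have hOn : O.Normal := ⟨fun q hq g => by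
    have hle : O ≤ O.comap (MulAut.conj g).toMonoidHom := by
      refine (Subgroup.closure_le _).mpr fun z (hz : Odd (orderOf z)) => ?_
      refine Subgroup.subset_closure ?_
      show Odd (orderOf (MulAut.conj g z))
      rw [MulEquiv.orderOf_eq]
      exact hz
    exact hle hq⟩
  have hOs : Group.IsSolvable O := Group.isSolvable_of_comm fun a b => by
    obtain ⟨s, hs, hs'⟩ := hO a.2
    obtain ⟨t, ht, ht'⟩ := hO b.2
    refine Subtype.ext ?_
    rw [Subgroup.coe_mul, Subgroup.coe_mul, ← hs', ← ht', ← map_mul, ← map_mul, hTcomm s hs t ht]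
  have hQ : IsPGroup 2 (Cfsg.Out G ⧸ O) := fun q => by
    induction q using QuotientGroup.induction_on with
    | _ z =>
    obtain ⟨k, hk⟩ := hpow z
    exact ⟨k, (QuotientGroup.eq_one_iff _).mpr (Subgroup.subset_closure hk)⟩
  have hQs : Group.IsSolvable (Cfsg.Out G ⧸ O) := by
    have := hQ.isNilpotent
    infer_instance
  exact Group.isSolvable_of_ker_le_range O.subtype (QuotientGroup.mk' O)
    (by rw [QuotientGroup.ker_mk', Subgroup.range_subtype])

end Cfsg.Agent.S4277
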