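import Cfsg.Statements.S4279
import Cfsg.Agent.ChevOddInvol.G2
import Cfsg.Agent.InvOddG2.G2

set_option autoImplicit false
open Cfsg

namespace Cfsg.Agent.S4279

/-- In the Chevalley group G of type G₂ over a finite field F of odd order q, the centralizer of an involution t has order q²(q² − 1)² and contains two elementwise commuting subgroups, each isomorphic to SL(2, F), which meet exactly in the subgroup generated by t and whose join has index 2 in the centralizer. -/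
theorem result {F : Type*} [Field F] [Fintype F] (hF : Odd (Fintype.card F)) (t : ↥(Cfsg.Lie.chevG2.group F)) (ht : orderOf t = 2) : Nat.card (Subgroup.centralizer ({t} : Set ↥(Cfsg.Lie.chevG2.group F))) = Fintype.card F ^ 2 * (Fintype.card F ^ 2 - 1) ^ 2 ∧ ∃ L₁ L₂ : Subgroup ↥(Cfsg.Lie.chevG2.group F), Nonempty (L₁ ≃* Matrix.SpecialLinearGroup (Fin 2) F) ∧ Nonempty (L₂ ≃* Matrix.SpecialLinearGroup (Fin 2) F) ∧ (∀ x ∈ L₁, ∀ y ∈ L₂, x * y = y * x) ∧ L₁ ⊓ L₂ = Subgroup.zpowers t ∧ L₁ ⊔ L₂ ≤ Subgroup.centralizer ({t} : Set ↥(Cfsg.Lie.chevG2.group F)) ∧ (L₁ ⊔ L₂).relIndex (Subgroup.centralizer ({t} : Set ↥(Cfsg.Lie.chevG2.group F))) = 2 := by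
  have h1 := CfsgLib.ChevOddInvol.isConj_tG2 hF ht
  have h2 := CfsgLib.ChevOddInvol.isConj_tG2 hF (CfsgLib.InvOddG2.orderOf_tA (F := F) hF)
  have hcard := (CfsgLib.ChevOddInvol.card_centralizer_congr h1).trans
    (CfsgLib.ChevOddInvol.card_centralizer_tG2 hF)
  obtain ⟨g, rfl⟩ := isConj_iff.1 (h2.trans h1.symm)
  exact ⟨hcard, CfsgLib.InvOddG2.exists_pair_conj hF g hcard⟩

end Cfsg.Agent.S4279
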