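import Cfsg.Statements.S4280
import Cfsg.Agent.ChevOddInvol.DataF4
import Cfsg.Agent.ChevOddInvol.CertF4
import Cfsg.Agent.ChevOddInvol.Main

set_option autoImplicit false
open Cfsg

namespace Cfsg.Agent.S4280

open CfsgLib CfsgLib.ChevOddInvol

private theorem unimodular : Unimodular Cfsg.Lie.chevF4 :=
  ⟨_, _, _, _, _, ChevTorus.smithF4, (by decide : ∀ i : Fin 4, (![1, 1, 1, 1] : Fin 4 → ℕ) i = 1)⟩


/-- In the Chevalley group of type F₄ over a finite field of odd order q there are exactly two conjugacy classes of involutions; the centralizer of an involution in one class has order q¹⁶(q² − 1)(q⁴ − 1)(q⁶ − 1)(q⁸ − 1), and in the other class q¹⁰(q² − 1)²(q⁴ − 1)(q⁶ − 1). -/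
theorem result {F : Type*} [Field F] [Fintype F] (hF : Odd (Fintype.card F)) : ∃ s t : ↥(Cfsg.Lie.chevF4.group F), orderOf s = 2 ∧ orderOf t = 2 ∧ ¬ IsConj s t ∧ (∀ u : ↥(Cfsg.Lie.chevF4.group F), orderOf u = 2 → IsConj u s ∨ IsConj u t) ∧ Nat.card (Subgroup.centralizer ({s} : Set ↥(Cfsg.Lie.chevF4.group F))) = Fintype.card F ^ 16 * (Fintype.card F ^ 2 - 1) * (Fintype.card F ^ 4 - 1) * (Fintype.card F ^ 6 - 1) * (Fintype.card F ^ 8 - 1) ∧ Nat.card (Subgroup.centralizer ({t} : Set ↥(Cfsg.Lie.chevF4.group F))) = Fintype.card F ^ 10 * (Fintype.card F ^ 2 - 1) ^ 2 * (Fintype.card F ^ 4 - 1) * (Fintype.card F ^ 6 - 1) := by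
  have hW := CfsgLib.Chevalley.goodWeyl_of_mem (D := Cfsg.Lie.chevF4) (by simp)
  have h := Weyl.rootF4_good
  have hG := involGood_of_cert hW h involCertF4 involF4_ok
  have h2 := two_ne_zero_of_odd hF
  have hb1 : (1 : ℕ) < 2 ^ Cfsg.Lie.chevF4.rank := Nat.one_lt_two_pow (by decide)
  have hb4 : (4 : ℕ) < 2 ^ Cfsg.Lie.chevF4.rank := show 4 < 2 ^ 4 by norm_num
  have hs := card_centralizer_tElt (F := F) unimodular hW h hF maskF4_ok hb1 stabF4_0_ok
    (N := 16) (by decide +kernel) rfl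
  have ht := card_centralizer_tElt (F := F) unimodular hW h hF maskF4_ok hb4 stabF4_1_ok
    (N := 10) (by decide +kernel) rfl
  refine ⟨tElt unimodular hW maskF4_ok hb1, tElt unimodular hW maskF4_ok hb4,
    orderOf_tElt _ hW h2 _ _ one_ne_zero, orderOf_tElt _ hW h2 _ _ (by norm_num), ?_, ?_, ?_, ?_⟩
  · intro e
    have := card_centralizer_congr e
    rw [hs, ht] at this
    exact orders_ne (Fintype.one_lt_card (α := F)) (by norm_num) (by simp) (by simp) this
  · intro u hu
    obtain ⟨s, hs, e⟩ := isConj_tElt (F := F) unimodular hW h hG hF maskF4_ok fuseF4_ok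
      potF4_ok hu
    simp only [List.mem_cons, List.not_mem_nil, or_false] at hs
    rcases hs with rfl | rfl
    · exact Or.inl (e hb1)
    · exact Or.inr (e hb4)
  · rw [hs]
    simp [mul_assoc, mul_comm, mul_left_comm, pow_two]
  · rw [ht]
    simp [mul_assoc, mul_comm, mul_left_comm, pow_two]

end Cfsg.Agent.S4280
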