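import Cfsg.Statements.S4281
import Cfsg.Agent.ChevOddInvol.E8Mask
import Cfsg.Agent.ChevOddInvol.E8Fuse
import Cfsg.Agent.ChevOddInvol.E8Stab0
import Cfsg.Agent.ChevOddInvol.E8Stab1
import Cfsg.Agent.ChevOddInvol.CertE8
import Cfsg.Agent.ChevOddInvol.Main

set_option autoImplicit false
open scoped BigOperators
open Cfsg

namespace Cfsg.Agent.S4281

open CfsgLib CfsgLib.ChevOddInvol

private theorem unimodular : Unimodular Cfsg.Lie.chevE8 :=
  ⟨_, _, _, _, _, ChevTorus.smithE8, (by decide : ∀ i : Fin 8, (![1, 1, 1, 1, 1, 1, 1, 1] : Fin 8 → ℕ) i = 1)⟩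


/-- In the Chevalley group of type E₈ over a finite field of odd order q there are exactly two conjugacy classes of involutions; the centralizer of an involution in one class has order q⁵⁶(q⁸ − 1)·∏_{i=1}^{7}(q^{2i} − 1), and in the other class q⁶⁴(q² − 1)²(q⁶ − 1)(q⁸ − 1)(q¹⁰ − 1)(q¹² − 1)(q¹⁴ − 1)(q¹⁸ − 1). -/
theorem result {F : Type*} [Field F] [Fintype F] (hF : Odd (Fintype.card F)) : ∃ s t : ↥(Cfsg.Lie.chevE8.group F), orderOf s = 2 ∧ orderOf t = 2 ∧ ¬ IsConj s t ∧ (∀ u : ↥(Cfsg.Lie.chevE8.group F), orderOf u = 2 → IsConj u s ∨ IsConj u t) ∧ Nat.card (Subgroup.centralizer ({s} : Set ↥(Cfsg.Lie.chevE8.group F))) = Fintype.card F ^ 56 * (Fintype.card F ^ 8 - 1) * ∏ i ∈ Finset.Icc 1 7, (Fintype.card F ^ (2 * i) - 1) ∧ Nat.card (Subgroup.centralizer ({t} : Set ↥(Cfsg.Lie.chevE8.group F))) = Fintype.card F ^ 64 * (Fintype.card F ^ 2 - 1) ^ 2 * (Fintype.card F ^ 6 - 1) * (Fintype.card F ^ 8 - 1) * (Fintype.card F ^ 10 - 1) * (Fintype.card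 F ^ 12 - 1) * (Fintype.card F ^ 14 - 1) * (Fintype.card F ^ 18 - 1) := by
  have hW := CfsgLib.Chevalley.goodWeyl_of_mem (D := Cfsg.Lie.chevE8) (by simp)
  have h := Weyl.rootE8_good
  have hG := involGood_of_cert hW h involCertE8 involE8_ok
  have h2 := two_ne_zero_of_odd hF
  have hb1 : (1 : ℕ) < 2 ^ Cfsg.Lie.chevE8.rank := Nat.one_lt_two_pow (by decide)
  have hb4 : (4 : ℕ) < 2 ^ Cfsg.Lie.chevE8.rank := show 4 < 2 ^ 8 by norm_num
  have hs := card_centralizer_tElt (F := F) unimodular hW h hF maskE8_ok hb1 stabE8_0_ok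
    (N := 56) (by decide +kernel) rfl
  have ht := card_centralizer_tElt (F := F) unimodular hW h hF maskE8_ok hb4 stabE8_1_ok
    (N := 64) (by decide +kernel) rfl
  refine ⟨tElt unimodular hW maskE8_ok hb1, tElt unimodular hW maskE8_ok hb4,
    orderOf_tElt _ hW h2 _ _ one_ne_zero, orderOf_tElt _ hW h2 _ _ (by norm_num), ?_, ?_, ?_, ?_⟩
  · intro e
    have := card_centralizer_congr e
    rw [hs, ht] at this
    exact orders_ne (Fintype.one_lt_card (α := F)) (by norm_num) (by simp) (by simp) this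
  · intro u hu
    obtain ⟨s, hs, e⟩ := isConj_tElt (F := F) unimodular hW h hG hF maskE8_ok fuseE8_ok
      potE8_ok hu
    simp only [List.mem_cons, List.not_mem_nil, or_false] at hs
    rcases hs with rfl | rfl
    · exact Or.inl (e hb1)
    · exact Or.inr (e hb4)
  · rw [hs]
    simp [mul_assoc, mul_comm, mul_left_comm, pow_two, Finset.prod_Icc_succ_top]
  · rw [ht]
    simp [mul_assoc, mul_comm, mul_left_comm, pow_two]

end Cfsg.Agent.S4281
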