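import Cfsg.Statements.S4283
import Cfsg.Agent.FrobComp.Malnormal

set_option autoImplicit false
open Cfsg

namespace Cfsg.Agent.S4283

/-- Let G be a finite group with centre Z and let K, H be abelian subgroups of G containing Z such that G/Z is a Frobenius group with complement H/Z and kernel K/Z. Then the conjugacy class sizes of G are exactly 1, [G : K] and [G : H], and these two indices are coprime. (This is the converse half of the characterization of finite groups whose conjugacy class sizes are exactly 1, m and n with m and n coprime.) -/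
theorem result {G : Type*} [Group G] [Finite G] (K H : Subgroup G) (hZK : Subgroup.center G ≤ K) (hZH : Subgroup.center G ≤ H) (hK : IsMulCommutative K) (hH : IsMulCommutative H) (hFrob : Cfsg.IsFrobeniusComplement (H.map (QuotientGroup.mk' (Subgroup.center G)))) (hker : Cfsg.frobeniusKernel (H.map (QuotientGroup.mk' (Subgroup.center G))) = (K.map (QuotientGroup.mk' (Subgroup.center G)) : Set (G ⧸ Subgroup.center G))) : Set.range (fun x : G => (Subgroup.centralizer ({x} : Set G)).index) = ({1, K.index, H.index} : Set ℕ) ∧ K.index.Coprime H.index := by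
  classical
  set f := QuotientGroup.mk' (Subgroup.center G) with hf
  set Hb := H.map f with hHb
  set Kb := K.map f with hKb
  have hfk : f.ker = Subgroup.center G := QuotientGroup.ker_mk' _
  have hfK : ∀ x : G, f x ∈ Kb ↔ x ∈ K := fun x => by
    rw [← Subgroup.mem_comap, hKb, Subgroup.comap_map_eq_self (hfk.trans_le hZK)]
  have hfH : ∀ x : G, f x ∈ Hb ↔ x ∈ H := fun x => by
    rw [← Subgroup.mem_comap, hHb, Subgroup.comap_map_eq_self (hfk.trans_le hZH)]
  have hone : ∀ x : G, f x = 1 ↔ x ∈ Subgroup.center G := fun x => by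
    exact QuotientGroup.eq_one_iff x
  have hsurj : Function.Surjective f := QuotientGroup.mk'_surjective _
  have hKi : Kb.index = K.index := Subgroup.index_map_eq _ hsurj (hfk.trans_le hZK)
  have hHi : Hb.index = H.index := Subgroup.index_map_eq _ hsurj (hfk.trans_le hZH)
  have hbound : Hb.index ≤ Nat.card Kb := by
    rw [← SetLike.coe_sort_coe, Nat.card_coe_set_eq, ← hker]
    exact CfsgLib.FrobComp.index_le_ncard_kernel Hb
  have hdisj : Kb ⊓ Hb = ⊥ := by
    rw [Subgroup.eq_bot_iff_forall]
    rintro x ⟨hxK, hxH⟩
    refine CfsgLib.FrobComp.eq_one_of_mem_kernel_of_mem (H := Hb) ?_ hxH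
    rw [hker]; exact hxK
  have hcard : Kb.index = Nat.card Hb := by
    have h1 : Nat.card (↥Kb × ↥Hb) ≤ Nat.card (G ⧸ Subgroup.center G) :=
      Nat.card_le_card_of_injective (fun p => (p.1 : G ⧸ Subgroup.center G) * p.2)
        (Subgroup.mul_injective_of_disjoint (disjoint_iff.mpr hdisj))
    rw [Nat.card_prod] at h1
    have h2 := Subgroup.card_mul_index Hb
    have h3 := Subgroup.card_mul_index Kb
    have h4 : Nat.card Kb * Nat.card Hb = Nat.card (G ⧸ Subgroup.center G) := by
      refine le_antisymm h1 ?_
      rw [← h2, mul_comm]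
      exact Nat.mul_le_mul hbound le_rfl
    exact Nat.eq_of_mul_eq_mul_left Nat.card_pos (h3.trans h4.symm)
  have hcop : K.index.Coprime H.index := by
    rw [← hKi, ← hHi, hcard]
    exact CfsgLib.FrobComp.coprime_card_index hFrob
  refine ⟨?_, hcop⟩
  have hcl : ∀ (M : Subgroup G), IsMulCommutative M → ∀ x ∈ M,
      M ≤ Subgroup.centralizer ({x} : Set G) := fun M hM x hx g hg =>
    Subgroup.mem_centralizer_iff.mpr fun z hz => by
      rw [Set.mem_singleton_iff.mp hz]
      exact congrArg Subtype.val (hM.is_comm.comm (⟨x, hx⟩ : M) ⟨g, hg⟩)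
  have hcomm : ∀ x g : G, g ∈ Subgroup.centralizer ({x} : Set G) → Commute (f x) (f g) :=
    fun x g hg => Commute.map (Subgroup.mem_centralizer_iff.mp hg x rfl) f
  have hH' : ∀ x : G, x ∈ H → x ∉ Subgroup.center G →
      Subgroup.centralizer ({x} : Set G) = H := fun x hx hxz => by
    refine le_antisymm (fun g hg => (hfH g).mp ?_) (hcl H hH x hx)
    refine CfsgLib.FrobComp.centralizer_le hFrob ((hfH x).mpr hx) (fun e => hxz ((hone x).mp e)) ?_
    rw [Subgroup.mem_centralizer_iff]
    rintro _ rfl
    exact (hcomm x g hg).eq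
  have hK' : ∀ x : G, x ∈ K → x ∉ Subgroup.center G →
      Subgroup.centralizer ({x} : Set G) = K := fun x hx hxz => by
    refine le_antisymm (fun g hg => ?_) (hcl K hK x hx)
    by_contra hgK
    have hxk : f x ∈ Cfsg.frobeniusKernel Hb := by rw [hker]; exact (hfK x).mpr hx
    have hgk : f g ∉ Cfsg.frobeniusKernel Hb := by rw [hker]; exact fun h => hgK ((hfK g).mp h)
    exact hxz ((hone x).mp (CfsgLib.FrobComp.eq_one_of_commute hFrob hxk hgk (hcomm x g hg)))
  apply Set.Subset.antisymm
  · rintro _ ⟨x, rfl⟩
    by_cases hxz : x ∈ Subgroup.center G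
    · left
      show (Subgroup.centralizer ({x} : Set G)).index = 1
      rw [Subgroup.index_eq_one, eq_top_iff]
      intro g _
      rw [Subgroup.mem_centralizer_iff]
      rintro _ rfl
      exact ((Subgroup.mem_center_iff.mp hxz) g).symm
    by_cases hxK : x ∈ K
    · right; left
      exact congrArg Subgroup.index (hK' x hxK hxz)
    · right; right
      show (Subgroup.centralizer ({x} : Set G)).index = H.index
      have hxk : f x ∉ Cfsg.frobeniusKernel Hb := by rw [hker]; exact fun h => hxK ((hfK x).mp h)
      obtain ⟨-, a, h, hh, -, he⟩ := CfsgLib.FrobComp.exists_conj_of_notMem_kernel hxk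
      obtain ⟨a, rfl⟩ := hsurj a
      have hy : f (a⁻¹ * x * a) = h := by rw [map_mul, map_mul, map_inv, he]; group
      have hyz : a⁻¹ * x * a ∉ Subgroup.center G := fun h' => hxz (by
        have := (inferInstance : (Subgroup.center G).Normal).conj_mem _ h' a
        simpa [mul_assoc] using this)
      have e : (Subgroup.centralizer ({a⁻¹ * x * a} : Set G)) =
          (Subgroup.centralizer ({x} : Set G)).comap (MulAut.conj a).toMonoidHom := by
        ext g
        simp only [Subgroup.mem_comap, Subgroup.mem_centralizer_iff, Set.mem_singleton_iff,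
          forall_eq, MulEquiv.coe_toMonoidHom, MulAut.conj_apply]
        constructor <;> intro h'
        · calc x * (a * g * a⁻¹) = a * ((a⁻¹ * x * a) * g) * a⁻¹ := by group
            _ = a * g * a⁻¹ * x := by rw [h']; group
        · calc a⁻¹ * x * a * g = a⁻¹ * (x * (a * g * a⁻¹)) * a := by group
            _ = g * (a⁻¹ * x * a) := by rw [h']; group
      have := congrArg Subgroup.index ((hH' _ ((hfH _).mp (hy ▸ hh)) hyz).symm.trans e)
      rw [this, Subgroup.index_comap_of_surjective _ (MulAut.conj a).surjective]
  · have hHne : ∃ x ∈ H, x ∉ Subgroup.center G := by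
      by_contra h
      push Not at h
      refine hFrob.1 ((Subgroup.eq_bot_iff_forall _).mpr ?_)
      rintro _ ⟨x, hx, rfl⟩
      exact (hone x).mpr (h x hx)
    have hKne : ∃ x ∈ K, x ∉ Subgroup.center G := by
      by_contra h
      push Not at h
      have hK1 : Kb = ⊥ := by
        rw [Subgroup.eq_bot_iff_forall]
        rintro _ ⟨x, hx, rfl⟩
        exact (hone x).mpr (h x hx)
      rw [hK1, Subgroup.card_bot] at hbound
      refine hFrob.2.1 (Subgroup.index_eq_one.mp ?_)
      have := Subgroup.index_ne_zero_of_finite (H := Hb)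
      omega
    obtain ⟨a, ha, haz⟩ := hHne
    obtain ⟨b, hb, hbz⟩ := hKne
    intro n hn
    simp only [Set.mem_insert_iff, Set.mem_singleton_iff] at hn
    rcases hn with rfl | rfl | rfl
    · refine ⟨1, ?_⟩
      show (Subgroup.centralizer ({1} : Set G)).index = 1
      rw [Subgroup.index_eq_one, eq_top_iff]
      intro g _
      rw [Subgroup.mem_centralizer_iff]
      rintro _ rfl
      rw [one_mul, mul_one]
    · exact ⟨b, congrArg Subgroup.index (hK' b hb hbz)⟩
    · exact ⟨a, congrArg Subgroup.index (hH' a ha haz)⟩

end Cfsg.Agent.S4283
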