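import Cfsg.Statements.S4291
import Cfsg.Agent.FrobComp.SmallQuotient

set_option autoImplicit false
set_option linter.style.haveILetI false
open Cfsg

namespace Cfsg.Agent.S4291

/-- Let G be a finite group that occurs as a Frobenius complement. Then G has exactly one normal subgroup N such that every Sylow subgroup of N is cyclic and the quotient of G by N is trivial or isomorphic to one of the following five groups: the Klein four-group, the alternating group of degree 4, the symmetric group of degree 4, the alternating group of degree 5, the symmetric group of degree 5. (The quotient is described by a surjective homomorphism with kernel N; the Klein four-group is written as the dihedral group of order 4.) -/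
theorem result {G : Type*} [Group G] [Finite G]
    (hFC : (∃ (L : Type) (_ : Group L) (_ : Finite L) (H : Subgroup L), Cfsg.IsFrobeniusComplement H ∧ Nonempty (G ≃* H))) :
    ∃! N : Subgroup G, N.Normal ∧ (∀ (p : ℕ) [Fact p.Prime] (P : Sylow p N), IsCyclic P) ∧
      (N = ⊤ ∨
        (∃ f : G →* DihedralGroup 2, Function.Surjective f ∧ f.ker = N) ∨
        (∃ f : G →* alternatingGroup (Fin 4), Function.Surjective f ∧ f.ker = N) ∨
        (∃ f : G →* Equiv.Perm (Fin 4), Function.Surjective f ∧ f.ker = N) ∨
        (∃ f : G →* alternatingGroup (Fin 5), Function.Surjective f ∧ f.ker = N) ∨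
        (∃ f : G →* Equiv.Perm (Fin 5), Function.Surjective f ∧ f.ker = N)) := by
  obtain ⟨L, _, _, H, hH, ⟨e⟩⟩ := hFC
  obtain ⟨p, hp, hdvd⟩ := Nat.exists_prime_and_dvd (n := H.index)
    (fun h => hH.2.1 (Subgroup.index_eq_one.mp h))
  haveI := Fact.mk hp
  obtain ⟨V, _, _, _, ρ, hV, hρ⟩ := CfsgLib.FrobComp.exists_free_module hH hdvd
  have hρ' := CfsgLib.FrobComp.map_free hρ (f := e.toMonoidHom) e.injective
  obtain ⟨N, hn, hz, hq⟩ := CfsgLib.FrobComp.exists_zgroup_quotient hρ' hV
  refine ⟨N, ⟨hn, fun q hq' P => hz.isZGroup q hq'.out P, hq⟩, fun N' hN' => ?_⟩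
  obtain ⟨hn', hz', hq'⟩ := hN'
  haveI := hn
  haveI := hz
  haveI := hn'
  haveI : IsZGroup N' := ⟨fun q hq'' P => @hz' q ⟨hq''⟩ P⟩
  exact CfsgLib.FrobComp.eq_of_quotient_conditions hρ' hq' hq

end Cfsg.Agent.S4291
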