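import Cfsg.Statements.S4292
import Cfsg.Agent.FrobComp.KernelOrder
import Cfsg.Agent.FrobComp.DivisionRing

set_option autoImplicit false
open Cfsg

namespace Cfsg.Agent.S4292

/-- Let A and B be nontrivial finite groups. Then the direct product A × B occurs as a Frobenius complement if and only if A and B both occur as Frobenius complements and the orders of A and B are coprime. -/
theorem result {A B : Type*} [Group A] [Finite A] [Nontrivial A] [Group B] [Finite B] [Nontrivial B] :
    (∃ (L : Type) (_ : Group L) (_ : Finite L) (H : Subgroup L), Cfsg.IsFrobeniusComplement H ∧ Nonempty ((A × B) ≃* H)) ↔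
    ((∃ (L : Type) (_ : Group L) (_ : Finite L) (H : Subgroup L), Cfsg.IsFrobeniusComplement H ∧ Nonempty (A ≃* H)) ∧
     (∃ (L : Type) (_ : Group L) (_ : Finite L) (H : Subgroup L), Cfsg.IsFrobeniusComplement H ∧ Nonempty (B ≃* H)) ∧
     (Nat.card A).Coprime (Nat.card B)) := by
  constructor
  · rintro ⟨L, hL, hLf, H, hH, ⟨e⟩⟩
    obtain ⟨L₁, hL₁, hF₁, C₁, hC₁, he₁⟩ := CfsgLib.FrobComp.exists_frobenius_of_injective hH
      (e.toMonoidHom.comp (MonoidHom.inl A B)) (e.injective.comp fun x y h => congrArg Prod.fst h)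
    obtain ⟨L₂, hL₂, hF₂, C₂, hC₂, he₂⟩ := CfsgLib.FrobComp.exists_frobenius_of_injective hH
      (e.toMonoidHom.comp (MonoidHom.inr A B)) (e.injective.comp fun x y h => congrArg Prod.snd h)
    refine ⟨⟨L₁, hL₁, hF₁, C₁, hC₁, he₁⟩, ⟨L₂, hL₂, hF₂, C₂, hC₂, he₂⟩, ?_⟩
    refine Nat.coprime_of_dvd fun p hp hpA hpB => ?_
    have := Fact.mk hp
    obtain ⟨q, hq, hqd⟩ := Nat.exists_prime_and_dvd (n := H.index)
      (fun h => hH.2.1 (Subgroup.index_eq_one.mp h))
    have := Fact.mk hq
    obtain ⟨V, _, _, _, ρ, -, hρ⟩ := CfsgLib.FrobComp.exists_free_module hH hqd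
    obtain ⟨a, ha⟩ := exists_prime_orderOf_dvd_card' p hpA
    obtain ⟨b, hb⟩ := exists_prime_orderOf_dvd_card' p hpB
    let a' : H := e (a, 1)
    let b' : H := e (1, b)
    have ha' : orderOf a' = p := by
      rw [MulEquiv.orderOf_eq, ← ha]
      exact orderOf_injective (MonoidHom.inl A B) (fun x y h => congrArg Prod.fst h) a
    have hb' : b' ^ p = 1 := by
      rw [← map_pow, Prod.pow_mk, one_pow, ← hb, pow_orderOf_eq_one]
      exact map_one e
    have hcomm : Commute a' b' := (show Commute (a, (1 : B)) ((1 : A), b) by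
      rw [Commute, SemiconjBy, Prod.mk_mul_mk, Prod.mk_mul_mk, mul_one, one_mul, mul_one, one_mul]).map e
    obtain ⟨j, hj⟩ := Subgroup.mem_zpowers_iff.mp
      (CfsgLib.FrobComp.mem_zpowers_of_free hρ ha' hb' hcomm)
    rw [← map_zpow, e.injective.eq_iff] at hj
    have h2 := congrArg Prod.snd hj
    change MonoidHom.snd A B ((a, 1) ^ j) = b at h2
    rw [map_zpow, MonoidHom.coe_snd, one_zpow] at h2
    rw [← h2, orderOf_one] at hb
    exact hp.ne_one hb.symm
  · rintro ⟨⟨L₁, hL₁, hF₁, C₁, hC₁, ⟨e₁⟩⟩, ⟨L₂, hL₂, hF₂, C₂, hC₂, ⟨e₂⟩⟩, hcop⟩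
    obtain ⟨V, _, _, hVn, σ, hσ⟩ := CfsgLib.FrobComp.exists_free_rat_module_of_isFrobeniusComplement hC₁
    obtain ⟨W, _, _, hWn, τ, hτ⟩ := CfsgLib.FrobComp.exists_free_rat_module_of_isFrobeniusComplement hC₂
    let ρ : A × B →* AddMonoid.End (TensorProduct ℚ V W) :=
      { toFun := fun g => (TensorProduct.map (σ (e₁ g.1)) (τ (e₂ g.2))).toAddMonoidHom
        map_one' := AddMonoidHom.ext fun x => by
          show TensorProduct.map (σ (e₁ 1)) (τ (e₂ 1)) x = x
          rw [map_one e₁, map_one e₂, map_one σ, map_one τ, TensorProduct.map_one]; rfl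
        map_mul' := fun g h => AddMonoidHom.ext fun x => by
          show TensorProduct.map (σ (e₁ (g.1 * h.1))) (τ (e₂ (g.2 * h.2))) x = _
          rw [map_mul e₁, map_mul e₂, map_mul σ, map_mul τ, TensorProduct.map_mul]; rfl }
    have hzero : ∀ (a : A), a ≠ 1 → ∀ x, ρ (a, 1) x = x → x = 0 := by
      intro a ha x hx
      have hmap : ∀ i : ℕ, ρ ((a, (1 : B)) ^ i) x =
          TensorProduct.map (σ (e₁ (a ^ i))) (1 : W →ₗ[ℚ] W) x := fun i => by
        show TensorProduct.map (σ (e₁ ((a, (1 : B)) ^ i).1)) (τ (e₂ ((a, (1 : B)) ^ i).2)) x = _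
        rw [Prod.pow_mk, one_pow, map_one e₂, map_one τ]
      have ho : orderOf (a, (1 : B)) = orderOf a :=
        orderOf_injective (MonoidHom.inl A B) (fun x y h => congrArg Prod.fst h) a
      have hs : ∑ i ∈ Finset.range (orderOf (a, (1 : B))), ρ ((a, (1 : B)) ^ i) x = 0 := by
        rw [Finset.sum_congr rfl fun i _ => hmap i, ho]
        have hsum : ∑ i ∈ Finset.range (orderOf a), σ (e₁ (a ^ i)) = 0 := by
          refine LinearMap.ext fun v => ?_
          rw [LinearMap.sum_apply, LinearMap.zero_apply]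
          refine hσ (e₁ a) (fun h => ha (e₁.injective (h.trans (map_one e₁).symm))) _ ?_
          rw [map_sum]
          have h1 : ∀ i, σ (e₁ a) (σ (e₁ (a ^ i)) v) = σ (e₁ (a ^ (i + 1))) v := fun i => by
            rw [pow_succ', map_mul e₁, map_mul σ]; rfl
          simp only [h1]
          have h2 := Finset.sum_range_succ' (fun i => σ (e₁ (a ^ i)) v) (orderOf a)
          rw [Finset.sum_range_succ, pow_orderOf_eq_one, pow_zero, add_left_inj] at h2
          exact h2.symm
        have h3 := congrArg (fun f => TensorProduct.mapBilinear (RingHom.id ℚ) V W V W f (1 : W →ₗ[ℚ] W) x) hsum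
        simp only [map_sum, map_zero, LinearMap.sum_apply, LinearMap.zero_apply] at h3
        exact h3
      have h4 := CfsgLib.FrobComp.orderOf_nsmul_eq_zero hs hx
      rw [← Nat.cast_smul_eq_nsmul ℚ] at h4
      exact (smul_eq_zero.mp h4).resolve_left (by exact_mod_cast (orderOf_pos (a, (1 : B))).ne')
    have hzero' : ∀ (b : B), b ≠ 1 → ∀ x, ρ (1, b) x = x → x = 0 := by
      intro b hb x hx
      have hmap : ∀ i : ℕ, ρ (((1 : A), b) ^ i) x =
          TensorProduct.map (1 : V →ₗ[ℚ] V) (τ (e₂ (b ^ i))) x := fun i => by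
        show TensorProduct.map (σ (e₁ (((1 : A), b) ^ i).1)) (τ (e₂ (((1 : A), b) ^ i).2)) x = _
        rw [Prod.pow_mk, one_pow, map_one e₁, map_one σ]
      have ho : orderOf ((1 : A), b) = orderOf b :=
        orderOf_injective (MonoidHom.inr A B) (fun x y h => congrArg Prod.snd h) b
      have hs : ∑ i ∈ Finset.range (orderOf ((1 : A), b)), ρ (((1 : A), b) ^ i) x = 0 := by
        rw [Finset.sum_congr rfl fun i _ => hmap i, ho]
        have hsum : ∑ i ∈ Finset.range (orderOf b), τ (e₂ (b ^ i)) = 0 := by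
          refine LinearMap.ext fun v => ?_
          rw [LinearMap.sum_apply, LinearMap.zero_apply]
          refine hτ (e₂ b) (fun h => hb (e₂.injective (h.trans (map_one e₂).symm))) _ ?_
          rw [map_sum]
          have h1 : ∀ i, τ (e₂ b) (τ (e₂ (b ^ i)) v) = τ (e₂ (b ^ (i + 1))) v := fun i => by
            rw [pow_succ', map_mul e₂, map_mul τ]; rfl
          simp only [h1]
          have h2 := Finset.sum_range_succ' (fun i => τ (e₂ (b ^ i)) v) (orderOf b)
          rw [Finset.sum_range_succ, pow_orderOf_eq_one, pow_zero, add_left_inj] at h2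
          exact h2.symm
        have h3 := congrArg (fun f => TensorProduct.mapBilinear (RingHom.id ℚ) V W V W (1 : V →ₗ[ℚ] V) f x) hsum
        simp only [map_sum, map_zero, LinearMap.sum_apply, LinearMap.zero_apply] at h3
        exact h3
      have h4 := CfsgLib.FrobComp.orderOf_nsmul_eq_zero hs hx
      rw [← Nat.cast_smul_eq_nsmul ℚ] at h4
      exact (smul_eq_zero.mp h4).resolve_left (by exact_mod_cast (orderOf_pos ((1 : A), b)).ne')
    have hfree : CfsgLib.FrobComp.IsFree ρ := by
      rintro ⟨a, b⟩ hab x hx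
      have hpow : ∀ j : ℕ, ρ ((a, b) ^ j) x = x := fun j => by
        induction j with
        | zero => rw [pow_zero, map_one]; rfl
        | succ j ih => rw [pow_succ, map_mul]; show ρ ((a, b) ^ j) (ρ (a, b) x) = x; rw [hx, ih]
      by_cases ha : a = 1
      · subst ha
        exact hzero' b (fun hb => hab (by rw [hb]; rfl)) x hx
      · have h1 := hpow (orderOf b)
        rw [Prod.pow_mk, pow_orderOf_eq_one] at h1
        refine hzero _ ?_ x h1
        intro h
        refine ha (orderOf_eq_one_iff.mp ?_)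
        exact Nat.eq_one_of_dvd_coprimes hcop (orderOf_dvd_natCard a)
          ((orderOf_dvd_of_pow_eq_one h).trans (orderOf_dvd_natCard b))
    obtain ⟨v, hv⟩ := exists_ne (0 : V)
    obtain ⟨w, hw⟩ := exists_ne (0 : W)
    have : Nontrivial (TensorProduct ℚ V W) := nontrivial_of_ne (TensorProduct.tmul ℚ v w) 0 fun h => by
      obtain ⟨f, hf⟩ : ∃ f : Module.Dual ℚ V, f v ≠ 0 :=
        not_forall.mp fun h => hv ((Module.forall_dual_apply_eq_zero_iff _ v).mp h)
      have := congrArg (TensorProduct.lid ℚ W ∘ TensorProduct.map f LinearMap.id) h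
      simp [hf, hw] at this
    have : IsAddTorsionFree (TensorProduct ℚ V W) := IsAddTorsionFree.of_isTorsionFree ℚ _
    exact CfsgLib.FrobComp.exists_frobenius_of_free_torsionFree hfree

end Cfsg.Agent.S4292
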