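import Cfsg.Statements.S4294
import Cfsg.Agent.DivisionRing25.SLPairs
import Cfsg.Agent.DivisionRing25.Icosian
import Cfsg.Agent.FrobComp.DivisionRing
import Cfsg.Agent.S3359

set_option autoImplicit false
set_option linter.style.haveILetI false
open Cfsg

namespace Cfsg.Agent.S4294

open CfsgLib.DivisionRing25

variable {D : Type*} [DivisionRing D]

/-- A finite group with a faithful map into a division ring of positive characteristic is
commutative. -/
theorem comm_of_charP {G : Type*} [Group G] [Finite G] (f : G →* D) (p : ℕ) [CharP D p]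
    (hp : 0 < p) (x y : G) : f x * f y = f y * f x := by
  let R : Subring D := Subring.closure (Set.range f)
  have hcl : (Submonoid.closure (Set.range f) : Set D) = Set.range f := by
    rw [← MonoidHom.coe_mrange, Submonoid.closure_eq]
  have hR : ∀ z, z ∈ R ↔ z ∈ AddSubgroup.closure (Set.range f) := fun z => by
    show z ∈ Subring.closure _ ↔ _
    rw [Subring.mem_closure_iff, hcl]
  have : AddGroup.FG (AddSubgroup.closure (Set.range f)) := by
    rw [AddGroup.fg_iff_addSubgroup_fg]
    exact (AddSubgroup.fg_iff _).mpr ⟨Set.range f, rfl, Set.finite_range f⟩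
  have : Finite (AddSubgroup.closure (Set.range f)) :=
    AddCommGroup.finite_of_fg_isAddTorsion _ fun x =>
      isOfFinAddOrder_iff_nsmul_eq_zero.mpr ⟨p, hp, Subtype.ext (by simp)⟩
  haveI : Finite R := Finite.of_injective
    (fun z => (⟨z.1, (hR z.1).1 z.2⟩ : AddSubgroup.closure (Set.range f)))
    fun u v h => Subtype.ext (congrArg Subtype.val h :)
  have hF := Finite.isDomain_to_isField R
  exact congrArg Subtype.val (hF.mul_comm (⟨f x, Subring.subset_closure ⟨x, rfl⟩⟩ : R)
    ⟨f y, Subring.subset_closure ⟨y, rfl⟩⟩)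

theorem map_eq_neg_one {G : Type*} [Group G] (f : G →* D) (hf : Function.Injective f) {z : G}
    (hz : z * z = 1) (hz1 : z ≠ 1) : f z = -1 :=
  (mul_self_eq_one_iff.1 (by rw [← map_mul, hz, map_one])).resolve_left
    fun h => hz1 (hf (h.trans (map_one f).symm))

theorem triple_of_injective (φ : SL25 →* D) (hφ : Function.Injective φ) :
    Triple (φ elA) (φ elB) (φ (elA * elB)) := by
  have hn : φ negI = -1 := map_eq_neg_one φ hφ negI_mul_self negI_ne_one
  refine ⟨(map_mul _ _ _).symm, ?_, fun h => elA_ne (hφ (h.trans hn.symm)), ?_,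
    fun h => elB_ne (hφ (h.trans hn.symm)), ?_⟩
  · rw [← map_mul, ← map_mul, ← hn, ← elA_cube, pow_three']
  · rw [← hn, ← elB_five, map_pow]
    noncomm_ring
  · rw [← map_mul, elAB_sq, hn]

theorem eps_apply {φ : SL25 →* D} (hφ : Function.Injective φ) :
    eps (φ elA) (φ elB) (φ (elA * elB)) = φ elB + φ elB⁻¹ := by
  have T := triple_of_injective φ hφ
  rw [eps]
  congr 1
  have h1 : φ elB⁻¹ * φ elB = 1 := by rw [← map_mul, inv_mul_cancel, map_one]
  exact (left_inv_eq_right_inv h1 T.b_mul_inv).symm

theorem eps_elB2 (φ : SL25 →* D) (hφ : Function.Injective φ) :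
    φ elB2 + φ elB2⁻¹ = 1 - (φ elB + φ elB⁻¹) := by
  have T := triple_of_injective φ hφ
  have hb : φ elB * φ elB⁻¹ = 1 := by rw [← map_mul, mul_inv_cancel, map_one]
  have hb' : φ elB⁻¹ * φ elB = 1 := by rw [← map_mul, inv_mul_cancel, map_one]
  set e := φ elB + φ elB⁻¹ with he
  have he2 : e * e = e + 1 := by rw [he, ← eps_apply hφ]; exact T.eps_sq
  have hea : Commute e (φ elA) := by rw [he, ← eps_apply hφ]; exact T.eps_comm_a
  have heb : Commute e (φ elB) := by rw [he, ← eps_apply hφ]; exact T.eps_comm_b
  set s := elB * elB * elA * elA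
  have hes : Commute e (φ s) := by
    simp only [s, map_mul]
    exact ((heb.mul_right heb).mul_right hea).mul_right hea
  have hcube : φ elB ^ 3 + φ elB⁻¹ ^ 3 = 1 - e := by
    have h3 : e * e * e = φ elB ^ 3 + φ elB⁻¹ ^ 3 + 3 * e := by
      have k : ∀ x, φ elB * (φ elB⁻¹ * x) = x := fun x => by rw [← mul_assoc, hb, one_mul]
      have k' : ∀ x, φ elB⁻¹ * (φ elB * x) = x := fun x => by rw [← mul_assoc, hb', one_mul]
      rw [he, show (3 : D) = 1 + 1 + 1 by norm_num, pow_three, pow_three]
      simp only [add_mul, mul_add, one_mul, mul_assoc, hb, hb', mul_one]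
      abel
    have h4 : e * e * e = e + e + 1 := by rw [he2, add_mul, one_mul, he2]; abel
    rw [eq_sub_of_add_eq h3.symm, h4, show (3 : D) = 1 + 1 + 1 by norm_num, add_mul, add_mul,
      one_mul]
    abel
  have hs0 : φ s ≠ 0 := fun h => by
    have : φ s⁻¹ * φ s = 1 := by rw [← map_mul, inv_mul_cancel, map_one]
    rw [h, mul_zero] at this; exact zero_ne_one this
  refine mul_right_cancel₀ hs0 ?_
  rw [add_mul, ← map_mul, ← map_mul, elB2_conj.1, elB2_conj.2, map_mul, map_mul φ s, map_pow,
    map_pow, ← mul_add, hcube]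
  exact (((Commute.one_left _).sub_left hes).symm).eq

/-- A finite non-solvable subgroup of the multiplicative group of a division ring is isomorphic to the binary icosahedral group SL(2,5). -/
theorem result {D : Type*} [DivisionRing D] (H : Subgroup Dˣ) [Finite H] (hH : ¬ Group.IsSolvable H) :
    Nonempty (H ≃* Matrix.SpecialLinearGroup (Fin 2) (ZMod 5)) := by
  let f : H →* D := (Units.coeHom D).comp H.subtype
  have hf : Function.Injective f := Units.val_injective.comp Subtype.val_injective
  have hnc : ¬ ∀ x y : H, f x * f y = f y * f x := fun h =>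
    hH (Group.isSolvable_of_comm fun x y => hf (by rw [map_mul, map_mul, h x y]))
  obtain ⟨p, hchar⟩ := CharP.exists D
  rcases CharP.char_is_prime_or_zero D p with hp | rfl
  · exact absurd (comm_of_charP f p hp.pos) hnc
  haveI : CharZero D := CharP.charP_to_charZero D
  haveI : Nontrivial H := by
    rw [← not_subsingleton_iff_nontrivial]
    exact fun _ => hnc fun x y => by rw [Subsingleton.elim x y]
  obtain ⟨G₀, hG₀, hidx, S, M, hSM, -, hcomm, ⟨e⟩, -, hcop⟩ := Cfsg.Agent.S3359.result hH
    (CfsgLib.FrobComp.exists_frobenius_of_injective_divisionRing f hf)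
  let i : SL25 →* H := S.subtype.comp e.symm.toMonoidHom
  have hi : ∀ x, i x ∈ S := fun x => (e.symm x).2
  let φ : SL25 →* D := f.comp i
  have hφ : Function.Injective φ := hf.comp (Subtype.val_injective.comp e.symm.injective)
  have T := triple_of_injective φ hφ
  have hM : M = ⊥ := by
    by_contra hne
    have hcard : Nat.card M ≠ 1 := fun h => hne (Subgroup.card_eq_one.1 h)
    obtain ⟨l, hlp, hld⟩ := Nat.exists_prime_and_dvd hcard
    have hl : 7 ≤ l := by
      have hco : Nat.Coprime l 30 := hcop.coprime_dvd_left hld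
      by_contra hlt
      have h2 := hlp.two_le
      interval_cases l <;> revert hlp hco <;> decide
    haveI := Fact.mk hlp
    obtain ⟨η, hη⟩ := exists_prime_orderOf_dvd_card' l hld
    refine not_commute_rootOfUnity T hlp hl (η := f η.1) ?_ ?_ ?_ ?_
    · rw [← map_pow, ← SubmonoidClass.coe_pow, ← hη, pow_orderOf_eq_one]; exact map_one f
    · intro h
      have : η = 1 := Subtype.val_injective (hf (h.trans (map_one f).symm))
      rw [this, orderOf_one] at hη
      exact hlp.one_lt.ne hη
    · show f η.1 * f (i elA) = f (i elA) * f η.1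
      rw [← map_mul, ← map_mul, hcomm _ (hi _) _ η.2]
    · show f η.1 * f (i (elA * elB)) = f (i (elA * elB)) * f η.1
      rw [← map_mul, ← map_mul, hcomm _ (hi _) _ η.2]
  subst hM
  rw [sup_bot_eq] at hSM
  subst hSM
  rcases hidx with h1 | h2
  · rw [Subgroup.index_eq_one] at h1
    subst h1
    exact ⟨Subgroup.topEquiv.symm.trans e⟩
  exfalso
  obtain ⟨h, hh⟩ : ∃ h, h ∉ S := by
    by_contra hall
    push Not at hall
    rw [(Subgroup.index_eq_one.2 (top_unique fun x _ => hall x))] at h2
    norm_num at h2
  let σ : SL25 ≃* SL25 := (e.symm.trans (MulAut.conjNormal h : MulAut S)).trans e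
  have hσ : ∀ x, i (σ x) * h = h * i x := fun x => by
    show ((e.symm (e ((MulAut.conjNormal h : MulAut S) (e.symm x))) : S) : H) * h = _
    rw [e.symm_apply_apply, MulAut.conjNormal_apply, inv_mul_cancel_right]
    rfl
  obtain ⟨s, hsA, hsB⟩ := exists_normal_form σ
  set g := i s * h with hg
  have hgS : g ∉ S := fun hc => hh (by
    have := S.mul_mem (S.inv_mem (hi s)) hc
    rwa [hg, inv_mul_cancel_left] at this)
  have hgx : ∀ x y, s * σ x = y * s → g * i x = i y * g := fun x y hxy => by
    rw [hg, mul_assoc, ← hσ, ← mul_assoc, ← map_mul, hxy, map_mul, mul_assoc]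
  have hgA : g * i elA = i elA * g := hgx _ _ hsA
  have hgg : g * g ∈ S := Subgroup.mul_self_mem_of_index_two h2 g
  obtain ⟨t, ht⟩ : ∃ t, i t = g * g := ⟨e ⟨g * g, hgg⟩, by simp [i]⟩
  have hii : Function.Injective i := Subtype.val_injective.comp e.symm.injective
  have hneg : f (i negI) = -1 := map_eq_neg_one φ hφ negI_mul_self negI_ne_one
  have hfg_sq : (∀ y, g * i y = i y * g → t * y = y * t) := fun y hy => hii (by
    rw [map_mul, map_mul, ht, mul_assoc, hy, ← mul_assoc, hy, mul_assoc])
  rcases hsB with hB | hB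
  · -- `g` centralizes `S`
    have hgB := hgx _ _ hB
    have ht2 := central_of_commute t (hfg_sq _ hgA) (hfg_sq _ hgB)
    have hg2 : f g * f g = -1 := by
      rw [← map_mul, ← ht]
      rcases ht2 with rfl | rfl
      · exfalso
        rw [map_one] at ht
        rcases mul_self_eq_one_iff.1 (show f g * f g = 1 by rw [← map_mul, ← ht, map_one]) with
          hc | hc
        · exact hgS (hf (hc.trans (map_one f).symm) ▸ S.one_mem)
        · exact hgS (hf (hc.trans hneg.symm) ▸ hi negI)
      · exact hneg
    have hgc : f g * φ (elA * elB) = φ (elA * elB) * f g := by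
      show f g * f (i (elA * elB)) = f (i (elA * elB)) * f g
      rw [← map_mul, ← map_mul, map_mul i, ← mul_assoc, hgA, mul_assoc, hgB, mul_assoc]
    rcases eq_or_eq_neg_of_commute T.c_sq hg2 hgc with hc | hc
    · exact hgS (hf (show f g = f (i (elA * elB)) from hc) ▸ hi _)
    · exact hgS (hf (show f g = f (i (negI * (elA * elB))) by
        rw [map_mul i, map_mul f (i negI), hneg, neg_one_mul]; exact hc) ▸ hi _)
  · -- `g` induces the outer automorphism
    have hgB := hgx _ _ hB
    have hgB' : g * i elB⁻¹ = i elB2⁻¹ * g := by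
      rw [map_inv, map_inv, eq_inv_mul_iff_mul_eq, ← mul_assoc, ← hgB, mul_inv_cancel_right]
    have he : f g * eps (φ elA) (φ elB) (φ (elA * elB)) =
        (1 - eps (φ elA) (φ elB) (φ (elA * elB))) * f g := by
      rw [eps_apply hφ, ← eps_elB2 φ hφ, mul_add, add_mul]
      show f g * f (i elB) + f g * f (i elB⁻¹) = f (i elB2) * f g + f (i elB2⁻¹) * f g
      rw [← map_mul, ← map_mul, ← map_mul, ← map_mul, hgB, hgB']
    -- `g²` commutes with `A` and with `B`, hence is `±1`
    have cA : MulAut.conj g (i elA) = i elA := by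
      rw [MulAut.conj_apply, hgA, mul_inv_cancel_right]
    have cB : MulAut.conj g (i elB) = i elB2 := by
      rw [MulAut.conj_apply, hgB, mul_inv_cancel_right]
    have cB2 : MulAut.conj g (i elB2) = i elB := by
      conv_lhs => rw [elB2_eq]
      simp only [map_mul, map_pow, map_inv, cA, cB]
      simp only [← map_mul, ← map_pow, ← map_inv]
      rw [elB_eq]
    rw [MulAut.conj_apply, mul_inv_eq_iff_eq_mul] at cB2
    have ht2 : t = 1 ∨ t = negI := by
      refine central_of_commute t (hfg_sq _ hgA) (hii ?_)
      rw [map_mul, map_mul, ht, mul_assoc, hgB, ← mul_assoc, cB2, mul_assoc]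
    have hg2 : f g * f g = -1 := by
      rw [← map_mul, ← ht]
      rcases ht2 with rfl | rfl
      · exfalso
        rw [map_one] at ht
        rcases mul_self_eq_one_iff.1 (show f g * f g = 1 by rw [← map_mul, ← ht, map_one]) with
          hc | hc
        · exact hgS (hf (hc.trans (map_one f).symm) ▸ S.one_mem)
        · exact hgS (hf (hc.trans hneg.symm) ▸ hi negI)
      · exact hneg
    exact not_anticommute T hg2 he

end Cfsg.Agent.S4294
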