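import Cfsg.Statements.S4295
import Cfsg.Agent.FrobComp.KernelOrder
import Cfsg.Agent.FrobComp.DivisionRing

set_option autoImplicit false
open Cfsg

namespace Cfsg.Agent.S4295

/-- For odd `k`, a module of order `k²` with anticommuting square roots of `-1`. -/
theorem exists_anticommuting (k : ℕ) (hk : Odd k) :
    ∃ (V : Type) (_ : AddCommGroup V) (_ : Finite V), Nat.card V = k * k ∧
      ∃ i j : AddMonoid.End V, i * i = -1 ∧ j * j = -1 ∧ j * i = -(i * j) := by
  induction k using Nat.recOnMul with
  | zero => exact absurd hk (by decide)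
  | one => exact ⟨PUnit, inferInstance, inferInstance, by simp, 1, 1,
      AddMonoidHom.ext fun _ => Subsingleton.elim _ _, AddMonoidHom.ext fun _ => Subsingleton.elim _ _,
      AddMonoidHom.ext fun _ => Subsingleton.elim _ _⟩
  | prime p hp =>
    have := Fact.mk hp
    obtain ⟨a, b, hab⟩ := ZMod.sq_add_sq p (-1)
    let i : AddMonoid.End (ZMod p × ZMod p) :=
      AddMonoidHom.mk' (fun x => (-x.2, x.1)) fun x y => by simp [add_comm]
    let j : AddMonoid.End (ZMod p × ZMod p) :=
      AddMonoidHom.mk' (fun x => (a * x.1 + b * x.2, b * x.1 - a * x.2)) fun x y => by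
        ext <;> simp <;> ring
    refine ⟨ZMod p × ZMod p, inferInstance, inferInstance, by simp [Nat.card_prod], i, j,
      AddMonoidHom.ext fun x => ?_, AddMonoidHom.ext fun x => ?_, AddMonoidHom.ext fun x => ?_⟩
    · show (-x.1, -x.2) = -x
      rfl
    · show (a * (a * x.1 + b * x.2) + b * (b * x.1 - a * x.2),
        b * (a * x.1 + b * x.2) - a * (b * x.1 - a * x.2)) = (-x.1, -x.2)
      refine Prod.ext ?_ ?_
      · show a * (a * x.1 + b * x.2) + b * (b * x.1 - a * x.2) = -x.1
        linear_combination x.1 * hab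
      · show b * (a * x.1 + b * x.2) - a * (b * x.1 - a * x.2) = -x.2
        linear_combination x.2 * hab
    · show (a * (-x.2) + b * x.1, b * (-x.2) - a * x.1) =
        (-(-(b * x.1 - a * x.2)), -(a * x.1 + b * x.2))
      refine Prod.ext ?_ ?_
      · show a * (-x.2) + b * x.1 = -(-(b * x.1 - a * x.2))
        ring
      · show b * (-x.2) - a * x.1 = -(a * x.1 + b * x.2)
        ring
  | mul m n hm hn =>
    obtain ⟨V, _, _, hV, i, j, hi, hj, hji⟩ := hm (Nat.Odd.of_mul_left hk)
    obtain ⟨W, _, _, hW, i', j', hi', hj', hji'⟩ := hn (Nat.Odd.of_mul_right hk)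
    refine ⟨V × W, inferInstance, inferInstance, by rw [Nat.card_prod, hV, hW]; ring,
      AddMonoidHom.prodMap i i', AddMonoidHom.prodMap j j', AddMonoidHom.ext fun x => ?_,
      AddMonoidHom.ext fun x => ?_, AddMonoidHom.ext fun x => ?_⟩
    · exact Prod.ext (DFunLike.congr_fun hi x.1) (DFunLike.congr_fun hi' x.2)
    · exact Prod.ext (DFunLike.congr_fun hj x.1) (DFunLike.congr_fun hj' x.2)
    · exact Prod.ext (DFunLike.congr_fun hji x.1) (DFunLike.congr_fun hji' x.2)

/-- For a natural number m the following are equivalent: (a) some finite group has a Frobenius complement isomorphic to the quaternion group of order 8 whose Frobenius kernel (the identity together with the elements lying in no conjugate of the complement) has exactly m elements; (b) m is an odd perfect square greater than 1. -/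
theorem result (m : ℕ) :
    (∃ (L : Type) (_ : Group L) (_ : Finite L) (H : Subgroup L), Cfsg.IsFrobeniusComplement H ∧
        Nonempty (H ≃* QuaternionGroup 2) ∧ Nat.card (Cfsg.frobeniusKernel H) = m) ↔
    (Odd m ∧ IsSquare m ∧ 1 < m) := by
  constructor
  · rintro ⟨L, hL, hLf, H, hH, ⟨e⟩, rfl⟩
    have h8 : Nat.card H = 2 ^ 3 := by
      rw [Nat.card_congr e.toEquiv, Nat.card_eq_fintype_card, QuaternionGroup.card]; norm_num
    have hnc : ¬ IsCyclic H := fun h => by
      have hQ : IsCyclic (QuaternionGroup 2) := isCyclic_of_surjective e.toMonoidHom e.surjective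
      have := hQ.isMulCommutative
      exact absurd (mul_comm' (QuaternionGroup.a (1 : ZMod (2 * 2))) (QuaternionGroup.xa 0)) (by decide)
    have : Fact (Nat.Prime 2) := ⟨Nat.prime_two⟩
    obtain ⟨P⟩ : Nonempty (Sylow 2 H) := Sylow.nonempty
    have hP : ¬ IsCyclic P := fun h => by
      refine hnc ?_
      have hcard : Nat.card P = Nat.card H := by
        rw [P.card_eq_multiplicity, h8, Nat.Prime.factorization_pow Nat.prime_two, Finsupp.single_eq_same]
      have htop : (P : Subgroup H) = ⊤ := Subgroup.eq_top_of_card_eq _ hcard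
      exact isCyclic_of_surjective ((P : Subgroup H).subtype) fun x =>
        ⟨⟨x, htop ▸ Subgroup.mem_top x⟩, rfl⟩
    obtain ⟨hodd, hsq⟩ := CfsgLib.FrobComp.odd_square_kernel hH hP
    refine ⟨hodd, hsq, ?_⟩
    rw [Nat.card_coe_set_eq, CfsgLib.Solvable.ncard_kernel_eq hH]
    have h1 := Subgroup.index_ne_zero_of_finite (H := H)
    have h2 : H.index ≠ 1 := fun h => hH.2.1 (Subgroup.index_eq_one.mp h)
    omega
  · rintro ⟨hodd, ⟨k, rfl⟩, hm⟩
    obtain ⟨V, _, hVf, hcard, i, j, hi, hj, hji⟩ := exists_anticommuting k (Nat.Odd.of_mul_left hodd)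
    have : Nontrivial V := Finite.one_lt_card_iff_nontrivial.mp (by rw [hcard]; exact hm)
    have hi2 : i ^ 2 = (-1 : AddMonoid.End V) := by rw [pow_two, hi]
    let ρ : QuaternionGroup 2 →* AddMonoid.End V := CfsgLib.FrobComp.quaternionHom 2 i j
      (by rw [pow_mul, hi2, neg_one_sq]) (by rw [hi2, hj])
      (by rw [show 2 * 2 - 1 = 2 + 1 from rfl, pow_succ, hi2, hji, neg_mul, neg_mul, one_mul])
    have hneg : ∀ x : V, ρ (QuaternionGroup.a 2) x = -x := fun x => by
      show (i ^ (2 : ZMod (2 * 2)).val) x = -x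
      rw [show (2 : ZMod (2 * 2)).val = 2 from rfl, hi2]
      rfl
    have hρ : CfsgLib.FrobComp.IsFree ρ := by
      intro h h1 x hx
      have hfix : ρ (QuaternionGroup.a 2) x = x := by
        have hcases : ∀ h : QuaternionGroup 2, h ≠ 1 → h = .a 2 ∨ h * h = .a 2 := by decide
        rcases hcases h h1 with rfl | e
        · exact hx
        · rw [← e, map_mul]
          show ρ h (ρ h x) = x
          rw [hx, hx]
      rw [hneg, neg_eq_iff_add_eq_zero] at hfix
      have h2 : addOrderOf x ∣ 2 := addOrderOf_dvd_of_nsmul_eq_zero (by rw [two_nsmul, hfix])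
      have h3 : addOrderOf x ∣ k * k := hcard ▸ addOrderOf_dvd_natCard x
      have h4 := Nat.eq_one_of_dvd_coprimes (Nat.coprime_two_left.mpr hodd) h2 h3
      exact AddMonoid.addOrderOf_eq_one_iff.mp h4
    have : Nontrivial (QuaternionGroup 2) := ⟨⟨.a 0, .xa 0, fun h => by cases h⟩⟩
    obtain ⟨L, hL, hLf, C, hC, ⟨e⟩, hk⟩ := CfsgLib.FrobComp.exists_frobenius_of_free hρ
    exact ⟨L, hL, hLf, C, hC, ⟨e.symm⟩, hk.trans hcard⟩

end Cfsg.Agent.S4295
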