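import Cfsg.Statements.S4297
import Cfsg.Agent.FrobComp.DivisionRing

set_option autoImplicit false
open Cfsg

namespace Cfsg.Agent.S4297

/-- For every n ≥ 2 the dicyclic group of order 4n (generated by an element a of order 2n and an element x with x² = aⁿ and x a x⁻¹ = a⁻¹) occurs as a Frobenius complement of some finite Frobenius group. -/
theorem result (n : ℕ) (hn : 2 ≤ n) :
    ∃ (L : Type) (_ : Group L) (_ : Finite L) (H : Subgroup L), Cfsg.IsFrobeniusComplement H ∧ Nonempty (H ≃* QuaternionGroup n) := by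
  have hn0 : n ≠ 0 := by omega
  have : NeZero n := ⟨hn0⟩
  have : NeZero (2 * n) := ⟨by omega⟩
  have hz := Complex.isPrimitiveRoot_exp (2 * n) (by omega)
  set z := Complex.exp (2 * Real.pi * Complex.I / ((2 * n : ℕ) : ℂ))
  let u : Quaternion ℝ := (z : Quaternion ℝ)
  obtain ⟨v, hv1, hv2, hv3, hv4⟩ : ∃ v : Quaternion ℝ, v.re = 0 ∧ v.imI = 0 ∧ v.imJ = 1 ∧ v.imK = 0 :=
    ⟨⟨0, 0, 1, 0⟩, rfl, rfl, rfl, rfl⟩
  have hpow : ∀ k : ℕ, u ^ k = ((z ^ k : ℂ) : Quaternion ℝ) := fun k => by
    induction k with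
    | zero => simp [u]
    | succ k ih => rw [pow_succ, ih, pow_succ, Quaternion.coeComplex_mul]
  have hu : u ^ (2 * n) = 1 := by rw [hpow, hz.pow_eq_one, Quaternion.coeComplex_one]
  have hhalf : z ^ n = -1 := by
    refine (eq_or_eq_neg_of_sq_eq_sq (z ^ n) 1 ?_).resolve_left ?_
    · rw [one_pow, ← pow_mul, mul_comm, hz.pow_eq_one]
    · exact hz.pow_ne_one_of_pos_of_lt hn0 (by omega)
  have hv : v * v = u ^ n := by
    rw [hpow, hhalf]
    ext <;> simp [hv1, hv2, hv3, hv4, Quaternion.re_mul, Quaternion.imI_mul, Quaternion.imJ_mul, Quaternion.imK_mul]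
  have hzinv : z ^ (2 * n - 1) = (starRingEnd ℂ) z := by
    have h1 : z ^ (2 * n - 1) * z = 1 := by
      rw [← pow_succ, show 2 * n - 1 + 1 = 2 * n by omega, hz.pow_eq_one]
    have hnorm : ‖z‖ = 1 := hz.norm'_eq_one (by omega)
    have h2 : (starRingEnd ℂ) z * z = 1 := by
      rw [Complex.conj_mul', hnorm]; simp
    exact mul_right_cancel₀ (hz.ne_zero (by omega)) (h1.trans h2.symm)
  have hc : v * u = u ^ (2 * n - 1) * v := by
    rw [hpow, hzinv]
    ext <;> simp [hv1, hv2, hv3, hv4, u, Quaternion.re_mul, Quaternion.imI_mul, Quaternion.imJ_mul, Quaternion.imK_mul]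
  let f := CfsgLib.FrobComp.quaternionHom n u v hu hv hc
  have : Nontrivial (QuaternionGroup n) := ⟨⟨.a 0, .xa 0, fun h => by cases h⟩⟩
  refine (CfsgLib.FrobComp.exists_frobenius_of_injective_divisionRing f ?_).elim
    fun L ⟨hL, hLf, C, hC, ⟨e⟩⟩ => ⟨L, hL, hLf, C, hC, ⟨e.symm⟩⟩
  have hinj : ∀ i j : ZMod (2 * n), u ^ i.val = u ^ j.val → i = j := by
    intro i j h
    rw [hpow, hpow] at h
    have h' : z ^ i.val = z ^ j.val := by
      apply Complex.ext
      · simpa using congrArg QuaternionAlgebra.re h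
      · simpa using congrArg QuaternionAlgebra.imI h
    exact ZMod.val_injective _ (hz.pow_inj (ZMod.val_lt i) (ZMod.val_lt j) h')
  have hne : ∀ i j : ZMod (2 * n), u ^ i.val ≠ v * u ^ j.val := by
    intro i j h
    rw [hpow, hpow] at h
    refine pow_ne_zero j.val (hz.ne_zero (by omega)) ?_
    apply Complex.ext
    · simpa [hv1, hv2, hv3, hv4, Quaternion.re_mul, Quaternion.imI_mul, Quaternion.imJ_mul, Quaternion.imK_mul] using (congrArg QuaternionAlgebra.imJ h).symm
    · simpa [hv1, hv2, hv3, hv4, Quaternion.re_mul, Quaternion.imI_mul, Quaternion.imJ_mul, Quaternion.imK_mul] using (congrArg QuaternionAlgebra.imK h).symm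
  have hv0 : v ≠ 0 := fun h => by rw [h] at hv3; exact zero_ne_one hv3
  rintro (i | i) (j | j) h
  · exact congrArg _ (hinj i j h)
  · exact absurd h (hne i j)
  · exact absurd h.symm (hne j i)
  · exact congrArg _ (hinj i j (mul_left_cancel₀ hv0 h))

end Cfsg.Agent.S4297
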