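import Cfsg.Statements.S4298
import Cfsg.Agent.FrobComp.DivisionRing

set_option autoImplicit false
open Cfsg

namespace Cfsg.Agent.S4298

/-- Images of an element of `SL(2,3)` in `SL(2,5)`, indexed by its entries in base 3. -/
def table : List ℕ :=
  [126, 126, 126, 126, 126, 126, 126, 126, 126, 126, 126, 126, 126, 126, 126, 382, 309, 94, 126, 126, 126, 273, 61, 471, 126, 126, 126, 126, 126, 126, 126, 292, 126, 126, 362, 126, 126, 49, 126, 126, 126, 541, 215, 126, 126, 126, 605, 126, 597, 126, 126, 126, 126, 328, 126, 126, 504, 126, 126, 418, 126, 126, 488, 126, 126, 170, 126, 427, 126, 183, 126, 126, 126, 126, 106, 560, 126, 126, 126, 239, 126]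

/-- The embedding of `SL(2,3)` into `SL(2,5)`, on entries. -/
def image (a b c d : ZMod 3) : ZMod 5 × ZMod 5 × ZMod 5 × ZMod 5 :=
  let n := table.getD (27 * a.val + 9 * b.val + 3 * c.val + d.val) 126
  ((n / 125 : ℕ), ((n / 25) % 5 : ℕ), ((n / 5) % 5 : ℕ), (n % 5 : ℕ))

/-- The linear map with the given matrix entries. -/
def endo (m : ZMod 5 × ZMod 5 × ZMod 5 × ZMod 5) : AddMonoid.End (ZMod 5 × ZMod 5) :=
  AddMonoidHom.mk' (fun x => (m.1 * x.1 + m.2.1 * x.2, m.2.2.1 * x.1 + m.2.2.2 * x.2))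
    fun x y => by ext <;> simp <;> ring

/-- Product of two quadruples as matrices. -/
def qmul {R : Type*} [CommRing R] (m n : R × R × R × R) : R × R × R × R :=
  (m.1 * n.1 + m.2.1 * n.2.2.1, m.1 * n.2.1 + m.2.1 * n.2.2.2,
    m.2.2.1 * n.1 + m.2.2.2 * n.2.2.1, m.2.2.1 * n.2.1 + m.2.2.2 * n.2.2.2)

theorem endo_one (x : ZMod 5 × ZMod 5) : endo (image 1 0 0 1) x = x := by
  obtain ⟨a, b⟩ := x
  revert a b
  decide

theorem endo_endo (m n : ZMod 5 × ZMod 5 × ZMod 5 × ZMod 5) (x : ZMod 5 × ZMod 5) :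
    endo m (endo n x) = endo (qmul m n) x := by
  show (m.1 * (n.1 * x.1 + n.2.1 * x.2) + m.2.1 * (n.2.2.1 * x.1 + n.2.2.2 * x.2),
      m.2.2.1 * (n.1 * x.1 + n.2.1 * x.2) + m.2.2.2 * (n.2.2.1 * x.1 + n.2.2.2 * x.2)) =
    ((qmul m n).1 * x.1 + (qmul m n).2.1 * x.2, (qmul m n).2.2.1 * x.1 + (qmul m n).2.2.2 * x.2)
  simp only [qmul, Prod.mk.injEq]
  constructor <;> ring

theorem image_mul : ∀ a b c d : ZMod 3, a * d - b * c = 1 → ∀ a' b' c' d' : ZMod 3,
    a' * d' - b' * c' = 1 → image (a * a' + b * c') (a * b' + b * d') (c * a' + d * c') (c * b' + d * d') =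
      qmul (image a b c d) (image a' b' c' d') := by
  decide +kernel

theorem image_free : ∀ a b c d : ZMod 3, a * d - b * c = 1 → (a, b, c, d) ≠ (1, 0, 0, 1) →
    ∀ x : ZMod 5 × ZMod 5, endo (image a b c d) x = x → x = 0 := by
  decide +kernel

/-- The group SL(2,3) of order 24 (the binary tetrahedral group) occurs as a Frobenius complement of some finite Frobenius group. -/
theorem result :
    ∃ (L : Type) (_ : Group L) (_ : Finite L) (H : Subgroup L), Cfsg.IsFrobeniusComplement H ∧ Nonempty (H ≃* Matrix.SpecialLinearGroup (Fin 2) (ZMod 3)) := by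
  let M := AddMonoid.End (ZMod 5 × ZMod 5)
  let ρ : Matrix.SpecialLinearGroup (Fin 2) (ZMod 3) →* M :=
    { toFun := fun g => endo (image (g 0 0) (g 0 1) (g 1 0) (g 1 1))
      map_one' := AddMonoidHom.ext fun x => endo_one x
      map_mul' := fun g h => AddMonoidHom.ext fun x => by
        show endo _ x = endo _ (endo _ x)
        rw [endo_endo]
        congr 1
        simp only [Matrix.SpecialLinearGroup.coe_mul, Matrix.mul_apply, Fin.sum_univ_two]
        have hg := g.2
        have hh := h.2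
        rw [Matrix.det_fin_two] at hg hh
        rw [image_mul _ _ _ _ hg _ _ _ _ hh] }
  have hρ : CfsgLib.FrobComp.IsFree ρ := by
    intro g hg x hx
    have hdet := g.2
    rw [Matrix.det_fin_two] at hdet
    refine image_free _ _ _ _ hdet ?_ x hx
    intro h
    simp only [Prod.mk.injEq] at h
    obtain ⟨h1, h2, h3, h4⟩ := h
    refine hg (Subtype.ext (Matrix.ext fun i j => ?_))
    fin_cases i <;> fin_cases j <;> simp_all
  have : Nontrivial (Matrix.SpecialLinearGroup (Fin 2) (ZMod 3)) :=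
    ⟨⟨1, -1, fun h => absurd (congrArg (fun m : Matrix.SpecialLinearGroup (Fin 2) (ZMod 3) => m 0 0) h) (by decide)⟩⟩
  have : Nontrivial (ZMod 5 × ZMod 5) := ⟨⟨(0, 0), (1, 0), by decide⟩⟩
  obtain ⟨L, hL, hLf, C, hC, ⟨e⟩, -⟩ := CfsgLib.FrobComp.exists_frobenius_of_free hρ
  exact ⟨L, hL, hLf, C, hC, ⟨e.symm⟩⟩

end Cfsg.Agent.S4298
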