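import Cfsg.Statements.S4299
import Cfsg.Agent.FrobComp.DivisionRing

set_option autoImplicit false
open Cfsg

namespace Cfsg.Agent.S4299

/-- Every nontrivial finite cyclic group occurs as a Frobenius complement of some finite Frobenius group. -/
theorem result {C : Type*} [Group C] [Finite C] [IsCyclic C] [Nontrivial C] :
    ∃ (L : Type) (_ : Group L) (_ : Finite L) (H : Subgroup L), Cfsg.IsFrobeniusComplement H ∧ Nonempty (C ≃* H) := by
  have hn : Nat.card C ≠ 0 := Nat.card_pos.ne'
  have hζ := Complex.isPrimitiveRoot_exp (Nat.card C) hn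
  set ζ := Complex.exp (2 * Real.pi * Complex.I / Nat.card C)
  obtain ⟨u, hu⟩ := hζ.isUnit hn
  have hu' : IsPrimitiveRoot u (Nat.card C) := IsPrimitiveRoot.coe_units_iff.mp (hu ▸ hζ)
  have hcard : Nat.card C = Nat.card (Subgroup.zpowers u) := by
    rw [Nat.card_zpowers, ← hu'.eq_orderOf]
  let e : C ≃* Subgroup.zpowers u := mulEquivOfCyclicCardEq hcard
  exact CfsgLib.FrobComp.exists_frobenius_of_injective_divisionRing
    ((Units.coeHom ℂ).comp ((Subgroup.zpowers u).subtype.comp e.toMonoidHom))
    (Units.val_injective.comp (Subtype.val_injective.comp e.injective))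

end Cfsg.Agent.S4299
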