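import Cfsg.Statements.S4300

set_option autoImplicit false
open Cfsg

namespace Cfsg.Agent.S4300

/-- Let G act faithfully and primitively on a set X, and suppose the stabilizer of some point is a simple group. Then either G is simple, or G has a normal subgroup, neither trivial nor the whole group, that acts regularly on X (transitively with trivial point stabilizers). -/
theorem result {G : Type*} [Group G] {X : Type*} [MulAction G X] [FaithfulSMul G X]
    (hprim : MulAction.IsPreprimitive G X) (x : X) (hsimple : IsSimpleGroup (MulAction.stabilizer G x)) :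
    IsSimpleGroup G ∨ ∃ N : Subgroup G, N.Normal ∧ N ≠ ⊥ ∧ N ≠ ⊤ ∧
      MulAction.IsPretransitive N X ∧ ∀ y : X, MulAction.stabilizer N y = ⊥ := by
  classical
  have := hprim.toIsPretransitive
  by_cases hsG : IsSimpleGroup G
  · exact Or.inl hsG
  right
  have hne : Nontrivial G :=
    (Subgroup.subtype_injective (MulAction.stabilizer G x)).nontrivial
  obtain ⟨N, hN, hN1, hN2⟩ : ∃ N : Subgroup G, N.Normal ∧ N ≠ ⊥ ∧ N ≠ ⊤ := by
    by_contra h
    push Not at h
    exact hsG ⟨fun N hN => or_iff_not_imp_left.mpr (h N hN)⟩
  have hfix : MulAction.fixedPoints N X ≠ Set.univ := fun h => hN1 <| by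
    rw [Subgroup.eq_bot_iff_forall]
    intro g hg
    refine eq_of_smul_eq_smul (α := X) fun a => ?_
    rw [one_smul]
    exact (h ▸ Set.mem_univ a : a ∈ MulAction.fixedPoints N X) ⟨g, hg⟩
  have htr : MulAction.IsPretransitive N X :=
    MulAction.IsQuasiPreprimitive.isPretransitive_of_normal (G := G) hfix
  have hbot : MulAction.stabilizer N x = ⊥ := by
    have hn : (N.subgroupOf (MulAction.stabilizer G x)).Normal := inferInstance
    rcases hn.eq_bot_or_eq_top with h | h
    · rw [Subgroup.eq_bot_iff_forall]
      intro g hg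
      have : (⟨g.1, hg⟩ : MulAction.stabilizer G x) ∈ N.subgroupOf _ := g.2
      rw [h, Subgroup.mem_bot] at this
      have := congrArg Subtype.val this
      exact Subtype.ext this
    · rw [Subgroup.subgroupOf_eq_top] at h
      refine absurd (eq_top_iff.mpr fun g _ => ?_) hN2
      obtain ⟨n, hn⟩ := MulAction.exists_smul_eq N x (g • x)
      have h1 : (n : G)⁻¹ * g ∈ MulAction.stabilizer G x := by
        rw [MulAction.mem_stabilizer_iff, mul_smul, inv_smul_eq_iff]
        exact hn.symm
      simpa using N.mul_mem n.2 (h h1)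
  refine ⟨N, hN, hN1, hN2, htr, fun y => ?_⟩
  obtain ⟨n, rfl⟩ := MulAction.exists_smul_eq N x y
  rw [MulAction.stabilizer_smul_eq_stabilizer_map_conj, hbot, Subgroup.map_bot]

end Cfsg.Agent.S4300
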