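import Cfsg.Statements.S4301

set_option autoImplicit false
open Cfsg

namespace Cfsg.Agent.S4301

/-- One-point extension of a multiply transitive group. Let X be a set and G a group of permutations of Option X (the set X with one extra point ∗ = none) all of whose elements fix ∗, such that G is k-transitive on the points of X for some k ≥ 2, X having at least k points. Suppose a permutation h of Option X and an element g of G satisfy: h interchanges ∗ with a point x of X and fixes a point y of X; g interchanges x and y; (g h)³ and h² lie in G; and for every f in G fixing x, the product h f h lies in G and fixes x. Then an element of the group generated by G and h fixes ∗ exactly when it lies in G, and that group acts (k+1)-transitively on Option X. -/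
theorem result {X : Type*} (G : Subgroup (Equiv.Perm (Option X))) (hfix : ∀ f ∈ G, f none = none)
    (k : ℕ) (hk : 2 ≤ k) (hkX : Nonempty (Fin k ↪ X))
    (htrans : ∀ a b : Fin k ↪ X, ∃ f ∈ G, ∀ i, f (some (a i)) = some (b i))
    (h g : Equiv.Perm (Option X)) (hg : g ∈ G) (x y : X)
    (h1 : h none = some x) (h2 : h (some x) = none) (h3 : h (some y) = some y)
    (h4 : g (some x) = some y) (h5 : g (some y) = some x)
    (h6 : (g * h) ^ 3 ∈ G) (h7 : h ^ 2 ∈ G)
    (h8 : ∀ f ∈ G, f (some x) = some x → h * f * h ∈ G ∧ (h * f * h) (some x) = some x) :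
    (∀ f ∈ Subgroup.closure ((G : Set (Equiv.Perm (Option X))) ∪ {h}), f none = none ↔ f ∈ G) ∧
      MulAction.IsMultiplyPretransitive (Subgroup.closure ((G : Set (Equiv.Perm (Option X))) ∪ {h})) (Option X) (k + 1) := by
  classical
  obtain ⟨e⟩ := hkX
  have emb2 : ∀ u v : X, u ≠ v → ∃ a : Fin k ↪ X, a ⟨0, by omega⟩ = u ∧ a ⟨1, by omega⟩ = v := by
    intro u v huv
    let a₁ := e.trans (Equiv.swap (e ⟨0, by omega⟩) u).toEmbedding
    have h0 : a₁ ⟨0, by omega⟩ = u := by simp [a₁]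
    refine ⟨a₁.trans (Equiv.swap (a₁ ⟨1, by omega⟩) v).toEmbedding, ?_, by simp⟩
    simp only [Function.Embedding.trans_apply, Equiv.coe_toEmbedding, h0]
    refine Equiv.swap_apply_of_ne_of_ne (fun h => ?_) huv
    rw [← h0] at h
    simpa [Fin.ext_iff] using a₁.injective h
  have tr2 : ∀ u v u' v' : X, u ≠ v → u' ≠ v' →
      ∃ f ∈ G, f (some u) = some u' ∧ f (some v) = some v' := fun u v u' v' h1 h2 => by
    obtain ⟨a, ha, ha'⟩ := emb2 u v h1
    obtain ⟨b, hb, hb'⟩ := emb2 u' v' h2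
    obtain ⟨f, hf, hfab⟩ := htrans a b
    exact ⟨f, hf, by rw [← ha, ← hb]; exact hfab _, by rw [← ha', ← hb']; exact hfab _⟩
  have hxy : x ≠ y := fun h => by rw [← h, h2] at h3; cases h3
  -- the double coset set
  let S : Set (Equiv.Perm (Option X)) := {f | f ∈ G ∨ ∃ a ∈ G, ∃ b ∈ G, f = a * h * b}
  have hinv : ∃ c ∈ G, h⁻¹ = h * c := ⟨(h ^ 2)⁻¹, inv_mem h7, by group⟩
  have hinv' : ∃ c ∈ G, h⁻¹ = c * h := ⟨(h ^ 2)⁻¹, inv_mem h7, by group⟩
  have hleft : ∀ a ∈ G, ∀ f ∈ S, a * f ∈ S := by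
    rintro a ha f (hf | ⟨b, hb, c, hc, rfl⟩)
    · exact Or.inl (mul_mem ha hf)
    · exact Or.inr ⟨a * b, mul_mem ha hb, c, hc, by group⟩
  have hright : ∀ f ∈ S, ∀ a ∈ G, f * a ∈ S := by
    rintro f (hf | ⟨b, hb, c, hc, rfl⟩) a ha
    · exact Or.inl (mul_mem hf ha)
    · exact Or.inr ⟨b, hb, c * a, mul_mem hc ha, by group⟩
  have hhgh : h * g * h ∈ S := by
    obtain ⟨c, hc, hc'⟩ := hinv
    refine Or.inr ⟨g⁻¹ * (g * h) ^ 3, mul_mem (inv_mem hg) h6, c * g⁻¹,
      mul_mem hc (inv_mem hg), ?_⟩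
    calc h * g * h = g⁻¹ * (g * h) ^ 3 * h⁻¹ * g⁻¹ := by rw [pow_succ, pow_two]; group
      _ = _ := by rw [hc']; group
  have hfh : ∀ f ∈ G, h * f * h ∈ S := by
    intro f hf
    by_cases hfx : f (some x) = some x
    · exact Or.inl (h8 f hf hfx).1
    obtain ⟨z, hz⟩ : ∃ z, f (some x) = some z := by
      refine Option.ne_none_iff_exists'.mp fun hn => ?_
      exact Option.some_ne_none x (f.injective (hn.trans (hfix f hf).symm))
    obtain ⟨a, ha, hax, hay⟩ := tr2 x y x z hxy (fun h => hfx (h ▸ hz))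
    have hb : g⁻¹ * a⁻¹ * f ∈ G := mul_mem (mul_mem (inv_mem hg) (inv_mem ha)) hf
    have hbx : (g⁻¹ * a⁻¹ * f) (some x) = some x := by
      simp only [Equiv.Perm.mul_apply, hz]
      rw [← hay, Equiv.Perm.coe_inv, Equiv.Perm.coe_inv, Equiv.symm_apply_apply,
        Equiv.symm_apply_eq, h4]
    have h9 : h * f * h = (h * a * h) * (h ^ 2)⁻¹ * (h * g * h) * (h ^ 2)⁻¹ *
        (h * (g⁻¹ * a⁻¹ * f) * h) := by group
    rw [h9]
    exact hright _ (hright _ (hleft _ (mul_mem (h8 a ha hax).1 (inv_mem h7)) _ hhgh) _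
      (inv_mem h7)) _ (h8 _ hb hbx).1
  have hsh : ∀ f ∈ S, f * h ∈ S := by
    rintro f (hf | ⟨a, ha, b, hb, rfl⟩)
    · exact Or.inr ⟨f, hf, 1, one_mem G, by group⟩
    · rw [show a * h * b * h = a * (h * b * h) by group]
      exact hleft a ha _ (hfh b hb)
  have hS : ∀ f ∈ Subgroup.closure ((G : Set (Equiv.Perm (Option X))) ∪ {h}), f ∈ S := by
    intro f hf
    induction hf using Subgroup.closure_induction_right with
    | one => exact Or.inl (one_mem G)
    | mul_right f _ z hz ih =>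
      rcases hz with hz | hz
      · exact hright f ih z hz
      · rw [Set.mem_singleton_iff.mp hz]; exact hsh f ih
    | mul_inv_cancel f _ z hz ih =>
      rcases hz with hz | hz
      · exact hright f ih z⁻¹ (inv_mem hz)
      · obtain ⟨c, hc, hc'⟩ := hinv
        rw [Set.mem_singleton_iff.mp hz, hc', ← mul_assoc]
        exact hright _ (hsh f ih) c hc
  refine ⟨fun f hf => ⟨fun hn => ?_, hfix f⟩, ?_⟩
  · rcases hS f hf with hf' | ⟨a, ha, b, hb, rfl⟩
    · exact hf'
    · simp only [Equiv.Perm.mul_apply, hfix b hb, h1] at hn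
      exact absurd (a.injective (hn.trans (hfix a ha).symm)) (Option.some_ne_none x)
  set K := Subgroup.closure ((G : Set (Equiv.Perm (Option X))) ∪ {h}) with hK
  have hGK : G ≤ K := fun f hf => Subgroup.subset_closure (Or.inl hf)
  have hhK : h ∈ K := Subgroup.subset_closure (Or.inr rfl)
  have tonone : ∀ a : Option X, ∃ f ∈ K, f a = none := by
    rintro (_ | z)
    · exact ⟨1, one_mem K, rfl⟩
    · obtain ⟨f, hf, hfz⟩ : ∃ f ∈ G, f (some z) = some x := by
        rcases eq_or_ne z x with rfl | hzx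
        · exact ⟨1, one_mem G, rfl⟩
        · obtain ⟨f, hf, h', -⟩ := tr2 z x x y hzx hxy
          exact ⟨f, hf, h'⟩
      exact ⟨h * f, mul_mem hhK (hGK hf), by rw [Equiv.Perm.mul_apply, hfz, h2]⟩
  have lift : ∀ a : Fin (k + 1) ↪ Option X, a 0 = none →
      ∃ a' : Fin k ↪ X, ∀ i, a i.succ = some (a' i) := by
    intro a ha
    have : ∀ i : Fin k, ∃ z, a i.succ = some z := fun i =>
      Option.ne_none_iff_exists'.mp fun h => Fin.succ_ne_zero i (a.injective (h.trans ha.symm))
    choose z hz using this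
    refine ⟨⟨z, fun i j hij => Fin.succ_injective _ (a.injective ?_)⟩, hz⟩
    rw [hz, hz, hij]
  refine ⟨fun a b => ?_⟩
  obtain ⟨u, hu, hu'⟩ := tonone (a 0)
  obtain ⟨v, hv, hv'⟩ := tonone (b 0)
  obtain ⟨a', ha'⟩ := lift (a.trans u.toEmbedding) hu'
  obtain ⟨b', hb'⟩ := lift (b.trans v.toEmbedding) hv'
  obtain ⟨f, hf, hfab⟩ := htrans a' b'
  refine ⟨⟨v⁻¹ * f * u, mul_mem (mul_mem (inv_mem hv) (hGK hf)) hu⟩, ?_⟩
  ext1 i
  show (v⁻¹ * f * u) (a i) = b i
  simp only [Equiv.Perm.mul_apply, Equiv.Perm.coe_inv, Equiv.symm_apply_eq]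
  refine Fin.cases ?_ (fun i => ?_) i
  · rw [hu', hv', hfix f hf]
  · have ha2 := ha' i; have hb2 := hb' i
    simp only [Function.Embedding.trans_apply, Equiv.coe_toEmbedding] at ha2 hb2
    rw [ha2, hb2, hfab]

end Cfsg.Agent.S4301
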