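import Cfsg.Statements.S4302
import Cfsg.Agent.JOffender.Abelian
import Cfsg.Agent.JOffender.Product
import Cfsg.Agent.Solvable.Fitting
import Cfsg.Agent.PLocal.Thompson

set_option autoImplicit false
set_option linter.style.haveILetI false
open Cfsg

namespace Cfsg.Agent.S4302

open Subgroup CfsgLib.JComp CfsgLib.JOffender

variable {G : Type*} [Group G] [Finite G]

/-- The trace of a Sylow subgroup on a normal subgroup has index prime to `p`. -/
theorem sylow_relIndex_normal {p : ℕ} [Fact p.Prime] (P : Sylow p G) (L : Subgroup G) [L.Normal] :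
    ¬ p ∣ (P : Subgroup G).relIndex L := by
  intro h
  refine P.not_dvd_index (h.trans ?_)
  refine dvd_trans (dvd_of_eq ?_) (relIndex_dvd_index_of_le (le_sup_left : (P : Subgroup G) ≤ _ ⊔ L))
  have h1 := CfsgLib.PLocal.card_mul_relIndex (inf_le_left : (P : Subgroup G) ⊓ L ≤ P)
  have h2 := CfsgLib.PLocal.card_mul_relIndex (inf_le_right : (P : Subgroup G) ⊓ L ≤ L)
  have h3 := CfsgLib.PLocal.card_mul_relIndex (le_sup_right : L ≤ (P : Subgroup G) ⊔ L)
  have h4 := CfsgLib.PLocal.card_mul_relIndex (le_sup_left : (P : Subgroup G) ≤ _ ⊔ L)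
  rw [inf_relIndex_left] at h1
  rw [inf_relIndex_right] at h2
  rw [relIndex_sup_right, ← h2, mul_assoc] at h3
  rw [← h1, mul_assoc, ← h3] at h4
  have h5 := Nat.eq_of_mul_eq_mul_left Nat.card_pos h4
  rw [mul_comm _ (L.relIndex _)] at h5
  exact (Nat.eq_of_mul_eq_mul_left (Nat.pos_of_ne_zero Subgroup.index_ne_zero_of_finite) h5).symm

omit [Finite G] in
/-- An element of odd order centralizing the elements of order two of an abelian `2`-group that it
normalizes centralizes it. -/
theorem conj_eq_self_of_omega {g : G} (hg : Odd (orderOf g)) {V : Subgroup G} [V.Normal]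
    (hVc : ∀ a ∈ V, ∀ b ∈ V, a * b = b * a) (h1 : ∀ v ∈ V, v * v = 1 → g * v = v * g) :
    ∀ k : ℕ, ∀ v ∈ V, v ^ 2 ^ k = 1 → g * v = v * g := by
  intro k
  induction k with
  | zero => intro v _ hv; rw [pow_zero, pow_one] at hv; rw [hv, one_mul, mul_one]
  | succ k ih =>
    intro v hv hk
    have hsq : g * (v * v) = v * v * g :=
      ih _ (mul_mem hv hv) (by rw [← pow_two, ← pow_mul, ← pow_succ']; exact hk)
    set w := g * v * g⁻¹ * v⁻¹ with hw
    have hwV : w ∈ V := mul_mem (Subgroup.Normal.conj_mem ‹_› v hv g) (inv_mem hv)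
    have hc : Commute (g * v * g⁻¹) v⁻¹ := hVc _ (Subgroup.Normal.conj_mem ‹_› v hv g) _ (inv_mem hv)
    have hww : w * w = 1 := by
      rw [hw, hc.symm.mul_mul_mul_comm, conj_mul, hsq]
      group
    have hwg : g * w = w * g := h1 w hwV hww
    have hgv : g * v * g⁻¹ = w * v := by rw [hw, inv_mul_cancel_right]
    have hiter : ∀ n : ℕ, g ^ n * v * (g ^ n)⁻¹ = w ^ n * v := by
      intro n
      induction n with
      | zero => simp
      | succ n ihn =>
        have e : g * w ^ n * g⁻¹ = w ^ n := by
          rw [((show Commute g w from hwg).pow_right n).eq, mul_inv_cancel_right]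
        calc g ^ (n + 1) * v * (g ^ (n + 1))⁻¹ = g * (g ^ n * v * (g ^ n)⁻¹) * g⁻¹ := by
              rw [pow_succ']; group
          _ = (g * w ^ n * g⁻¹) * (g * v * g⁻¹) := by rw [ihn]; group
          _ = w ^ (n + 1) * v := by rw [e, pow_succ, mul_assoc (w ^ n), hgv]
    have h2 := hiter (orderOf g)
    obtain ⟨m, hm⟩ := hg
    rw [pow_orderOf_eq_one, one_mul, inv_one, mul_one, hm, pow_succ, pow_mul, pow_two, hww,
      one_pow, one_mul] at h2
    have h3 : w = 1 := by simpa using h2.symm
    rw [h3, one_mul] at hgv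
    exact mul_inv_eq_iff_eq_mul.mp hgv


/-- Let `X` be a finite solvable group whose Fitting subgroup is a 2-group (equivalently `F(X) = O₂(X)`), `T` a Sylow 2-subgroup of `X`, `J(T)` the subgroup generated by the abelian subgroups of `T` of largest order, `C` the largest normal subgroup of `X` centralizing the centre `Z(T)`, and `Y` the normal closure of `J(T)` in `X`. Then `X = C · Y · N_X(J(T))`, and either `Y ≤ C`, or `CY/C` is isomorphic to a direct product of at least one copy of the symmetric group of degree 3. -/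
theorem result {X : Type*} [Group X] [Finite X]
    [Group.IsSolvable X] (hF : Cfsg.fittingSubgroup X = Cfsg.pCore 2 X) (T : Sylow 2 X) :
    ((Subgroup.centralizer (((T : Subgroup X) ⊓ Subgroup.centralizer ((T : Subgroup X) : Set X) : Subgroup X) : Set X)).normalCore
        ⊔ Subgroup.normalClosure (Cfsg.thompsonSubgroupAOf (T : Subgroup X) : Set X)
        ⊔ Subgroup.normalizer (Cfsg.thompsonSubgroupAOf (T : Subgroup X) : Set X) = ⊤) ∧
    (Subgroup.normalClosure (Cfsg.thompsonSubgroupAOf (T : Subgroup X) : Set X)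
        ≤ (Subgroup.centralizer (((T : Subgroup X) ⊓ Subgroup.centralizer ((T : Subgroup X) : Set X) : Subgroup X) : Set X)).normalCore
      ∨ ∃ n : ℕ, 1 ≤ n ∧
        Nonempty (↥(Subgroup.normalClosure (Cfsg.thompsonSubgroupAOf (T : Subgroup X) : Set X)) ⧸
            ((Subgroup.centralizer (((T : Subgroup X) ⊓ Subgroup.centralizer ((T : Subgroup X) : Set X) : Subgroup X) : Set X)).normalCore).subgroupOf
              (Subgroup.normalClosure (Cfsg.thompsonSubgroupAOf (T : Subgroup X) : Set X))
          ≃* (Fin n → Equiv.Perm (Fin 3)))) := by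
  classical
  haveI : Fact (Nat.Prime 2) := ⟨Nat.prime_two⟩
  set Z : Subgroup X := (T : Subgroup X) ⊓ centralizer ((T : Subgroup X) : Set X) with hZ
  set C := (centralizer (Z : Set X)).normalCore with hCdef
  set J := Cfsg.thompsonSubgroupAOf (T : Subgroup X) with hJdef
  set Y := normalClosure (J : Set X) with hYdef
  -- `V`, an abelian normal 2-subgroup
  set O := Cfsg.pCore 2 X with hO
  haveI hOn : O.Normal := CfsgLib.Solvable.pCore_normal 2
  have hOT : O ≤ (T : Subgroup X) := CfsgLib.Solvable.pCore_le_sylow T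
  have hcO : centralizer (O : Set X) ≤ O := by
    rw [← hF]; exact CfsgLib.Solvable.centralizer_fittingSubgroup_le
  haveI : (centralizer (O : Set X)).Normal := inferInstance
  set V := normalClosure (Z : Set X) with hVdef
  have hZc : Z ≤ centralizer (O : Set X) := inf_le_right.trans (centralizer_le hOT)
  have hVle : V ≤ O ⊓ centralizer (O : Set X) := by
    haveI : (O ⊓ centralizer (O : Set X)).Normal := inferInstance
    exact normalClosure_le_normal (fun z hz => ⟨hcO (hZc hz), hZc hz⟩)
  have hVc : ∀ a ∈ V, ∀ b ∈ V, a * b = b * a := fun a ha b hb =>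
    mem_centralizer_iff.mp (hVle hb).2 a (hVle ha).1
  have hVT : V ≤ (T : Subgroup X) := hVle.trans (inf_le_left.trans hOT)
  haveI hCn : C.Normal := normalCore_normal _
  have hCZ : C ≤ centralizer (Z : Set X) := normalCore_le _
  have hCV : C = centralizer (V : Set X) := by
    refine le_antisymm ?_ ?_
    · rw [Subgroup.le_centralizer_iff]
      exact normalClosure_le_normal ((Subgroup.le_centralizer_iff).mp hCZ)
    · haveI : (centralizer (V : Set X)).Normal := inferInstance
      exact (normal_le_normalCore).mpr (centralizer_le (subset_normalClosure))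
  -- the odd criterion
  have le_C_of : ∀ L : Subgroup X, L.Normal → (∀ g ∈ L, Odd (orderOf g) → g ∈ C) → L ≤ C := by
    intro L hL hodd
    refine (normal_le_normalCore).mpr ?_
    have h1 : ¬ 2 ∣ (T : Subgroup X).relIndex L := sylow_relIndex_normal T L
    have hp : IsPGroup 2 (L.map (QuotientGroup.mk' C)) := by
      rintro ⟨_, g, hg, rfl⟩
      obtain ⟨k, m, hm, hkm⟩ := Nat.exists_eq_pow_mul_and_not_dvd (orderOf_pos g).ne' 2 (by norm_num)
      refine ⟨k, Subtype.ext ?_⟩
      rw [SubgroupClass.coe_pow, OneMemClass.coe_one, ← map_pow]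
      refine (QuotientGroup.eq_one_iff _).mpr (hodd _ (pow_mem hg _) ?_)
      rw [orderOf_pow, hkm, Nat.gcd_eq_right (dvd_mul_right _ _),
        Nat.mul_div_cancel_left _ (by positivity)]
      exact Nat.odd_iff.mpr (Nat.two_dvd_ne_zero.mp hm)
    obtain ⟨k, hk⟩ := hp.exists_card_eq
    have h2 : C.relIndex L = 2 ^ k := by
      rw [← hk, ← relIndex_ker L (QuotientGroup.mk' C), QuotientGroup.ker_mk']
    set H := L ⊓ centralizer (Z : Set X)
    have hT : (T : Subgroup X) ⊓ L ≤ H := le_inf inf_le_right (inf_le_left.trans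
      (Subgroup.le_centralizer_iff.mp (inf_le_right : Z ≤ _)))
    have hC' : C ⊓ L ≤ H := le_inf inf_le_right (inf_le_left.trans hCZ)
    have d1 : H.relIndex L ∣ (T : Subgroup X).relIndex L :=
      inf_relIndex_right (T : Subgroup X) L ▸ relIndex_dvd_of_le_left L hT
    have d2 : H.relIndex L ∣ 2 ^ k :=
      h2 ▸ inf_relIndex_right C L ▸ relIndex_dvd_of_le_left L hC'
    have hone : H.relIndex L = 1 := by
      refine Nat.eq_one_of_dvd_coprimes ?_ d1 d2
      exact (Nat.coprime_comm.mp ((Nat.prime_two.coprime_iff_not_dvd).mpr h1)).pow_right k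
    exact (relIndex_eq_one.mp hone).trans inf_le_right
  -- the module
  let V1 : Subgroup X :=
    { carrier := {v | v ∈ V ∧ v * v = 1}
      one_mem' := ⟨one_mem _, one_mul 1⟩
      mul_mem' := fun {a b} ha hb => ⟨mul_mem ha.1 hb.1, by
        rw [(show Commute b a from hVc b hb.1 a ha.1).mul_mul_mul_comm, ha.2, hb.2, one_mul]⟩
      inv_mem' := fun {a} ha => ⟨inv_mem ha.1, by rw [← mul_inv_rev, ha.2, inv_one]⟩ }
  haveI : V1.Normal := ⟨fun v hv g => ⟨normalClosure_normal.conj_mem v hv.1 g, by
    rw [conj_mul, hv.2, mul_one, mul_inv_cancel]⟩⟩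
  letI : CommGroup V1 :=
    { (inferInstance : Group V1) with
      mul_comm := fun a b => Subtype.ext (hVc a a.2.1 b b.2.1) }
  let ρ : X →* MulAut V1 := MulAut.conjNormal
  haveI : Finite ρ.range := Finite.of_surjective _ ρ.rangeRestrict_surjective
  have hker : ρ.ker = C := by
    have hmem : ∀ g, g ∈ ρ.ker ↔ ∀ v ∈ V1, g * v = v * g := by
      intro g
      rw [MonoidHom.mem_ker, MulEquiv.ext_iff]
      constructor
      · intro h v hv
        have := congrArg Subtype.val (h ⟨v, hv⟩)
        simp only [ρ, MulAut.conjNormal_apply, MulAut.one_apply] at this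
        exact mul_inv_eq_iff_eq_mul.mp this
      · intro h v
        refine Subtype.ext ?_
        simp only [ρ, MulAut.conjNormal_apply, MulAut.one_apply]
        exact mul_inv_eq_iff_eq_mul.mpr (h v v.2)
    refine le_antisymm (le_C_of _ inferInstance fun g hg hodd => ?_) fun g hg => ?_
    · rw [hCV]
      refine mem_centralizer_iff.mpr fun v hv => ?_
      obtain ⟨k, hk⟩ := (IsPGroup.iff_orderOf.mp (T.isPGroup'.to_le hVT)) ⟨v, hv⟩
      rw [Subgroup.orderOf_mk] at hk
      haveI : V.Normal := normalClosure_normal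
      exact (conj_eq_self_of_omega hodd hVc (fun u hu hu2 => (hmem g).mp hg u ⟨hu, hu2⟩) k v hv
        (by rw [← hk, pow_orderOf_eq_one])).symm
    · refine (hmem g).mpr fun v hv => ?_
      rw [hCV] at hg
      exact (mem_centralizer_iff.mp hg v hv.1).symm
  set π := ρ.rangeRestrict with hπ
  have hπker : π.ker = C := by rw [hπ, MonoidHom.ker_rangeRestrict, hker]
  haveI : Group.IsSolvable ρ.range := Group.isSolvable_of_surjective ρ.rangeRestrict_surjective
  set F := Cfsg.fittingSubgroup ρ.range with hFdef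
  haveI hFn : F.Normal := CfsgLib.Solvable.fittingSubgroup_normal
  have hO1 : ∀ N : Subgroup ρ.range, N.Normal → IsPGroup 2 N → N = ⊥ := by
    intro N hN hp
    have hL : N.comap π ≤ C := by
      refine le_C_of _ (hN.comap π) fun g hg hodd => ?_
      rw [← hπker, MonoidHom.mem_ker]
      have h1 : Odd (orderOf (π g)) := hodd.of_dvd_nat (orderOf_map_dvd π g)
      obtain ⟨k, hk⟩ := IsPGroup.iff_orderOf.mp hp ⟨π g, hg⟩
      replace hk : orderOf (π g) = 2 ^ k := by rw [← hk]; exact Subgroup.orderOf_coe (H := N) ⟨π g, hg⟩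
      rw [← orderOf_eq_one_iff, hk]
      rcases k.eq_zero_or_pos with rfl | hk0
      · rfl
      · rw [hk, Nat.odd_pow_iff hk0.ne'] at h1
        exact absurd h1 (by decide)
    rw [eq_bot_iff, ← map_comap_eq_self_of_surjective ρ.rangeRestrict_surjective N,
      map_le_iff_le_comap, MonoidHom.comap_bot, ← hπ, hπker]
    exact hL
  have hset : Setting ρ.range V1 F := by
    refine ⟨fun v => Subtype.ext v.2.2, fun g hg => Subtype.ext (MulEquiv.ext fun v => hg v), ?_, hFn,
      CfsgLib.Solvable.fittingSubgroup_isNilpotent, CfsgLib.Solvable.centralizer_fittingSubgroup_le⟩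
    rw [Nat.odd_iff, ← Nat.two_dvd_ne_zero]
    intro h2
    haveI : Group.IsNilpotent F := CfsgLib.Solvable.fittingSubgroup_isNilpotent
    obtain ⟨P⟩ := (inferInstance : Nonempty (Sylow 2 F))
    haveI hPn : (P : Subgroup F).Normal :=
      P.normal_of_normalizerCondition Group.normalizerCondition_of_isNilpotent
    haveI := P.characteristic_of_normal hPn
    have hb := hO1 ((P : Subgroup F).map F.subtype) inferInstance (P.isPGroup'.map _)
    rw [Subgroup.map_eq_bot_iff_of_injective _ F.subtype_injective] at hb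
    exact P.ne_bot_of_dvd_card h2 hb
  -- offenders
  have hoff : ∀ A ∈ CfsgLib.PLocal.maxAbIn (T : Subgroup X),
      A.map π ≤ closure {t | t ∈ A.map π ∧ IsTransvection V1 t} := by
    rintro A ⟨hAT, hAc, hmax⟩
    have hAc' : ∀ a ∈ A, ∀ b ∈ A, Commute a b := fun a ha b hb =>
      le_centralizer_iff_isMulCommutative.mpr hAc hb a ha
    have hV1T : V1 ≤ (T : Subgroup X) := fun v hv => hVT hv.1
    have hV1C : V1 ≤ C := fun v hv => by
      rw [hCV]; exact mem_centralizer_iff.mpr fun u hu => hVc u hu v hv.1
    have hBc : IsMulCommutative ↥(A ⊓ C ⊔ V1) := by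
      refine CfsgLib.PLocal.isMulCommutative_sup (CfsgLib.PLocal.isMulCommutative_of_le hAc inf_le_left)
        ⟨⟨fun a b => Subtype.ext (hVc a a.2.1 b b.2.1)⟩⟩ ?_
      intro a ha b hb
      have h2 : a ∈ centralizer (V : Set X) := hCV ▸ ha.2
      exact mem_centralizer_iff.mp h2 b hb.1
    have hB := hmax _ (sup_le (inf_le_left.trans hAT) hV1T) hBc
    rw [← CfsgLib.PLocal.card_mul_relIndex (le_sup_left : A ⊓ C ≤ A ⊓ C ⊔ V1),
      ← CfsgLib.PLocal.card_mul_relIndex (inf_le_left : A ⊓ C ≤ A), inf_relIndex_left] at hB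
    have hB' := Nat.le_of_mul_le_mul_left hB Nat.card_pos
    have h3 : A.relIndex V1 ≤ C.relIndex A := by
      refine le_trans ?_ hB'
      refine le_trans (le_of_eq ?_) (relIndex_le_of_le_right le_sup_right
        Subgroup.index_ne_zero_of_finite)
      refine le_antisymm ?_ ?_
      · exact Nat.le_of_dvd (Nat.pos_of_ne_zero Subgroup.index_ne_zero_of_finite)
          (relIndex_dvd_of_le_left _ inf_le_left)
      · refine Nat.le_of_dvd (Nat.pos_of_ne_zero Subgroup.index_ne_zero_of_finite) ?_
        rw [← inf_relIndex_right A V1]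
        exact relIndex_dvd_of_le_left _ (le_inf inf_le_left (inf_le_right.trans hV1C))
    have hcard : Nat.card (A.map π) = C.relIndex A := by rw [← relIndex_ker A π, hπker]
    have hidx : (fix (V := V1) ((A.map π : Subgroup ρ.range) : Set ρ.range)).index
        ≤ A.relIndex V1 := by
      refine Nat.le_of_dvd (Nat.pos_of_ne_zero Subgroup.index_ne_zero_of_finite)
        (index_dvd_of_le ?_)
      intro v hv
      rintro _ ⟨a, ha, rfl⟩
      refine Subtype.ext ?_
      show a * (v : X) * a⁻¹ = v
      exact mul_inv_eq_iff_eq_mul.mpr (hAc' a ha v hv).eq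
    obtain ⟨hle, heq⟩ := offender_abelian hset (A := A.map π) ((T.isPGroup'.to_le hAT).map π)
      (by rintro _ ⟨a, ha, rfl⟩ _ ⟨b, hb, rfl⟩; exact (hAc' a ha b hb).map π)
    exact heq (le_antisymm hle (by omega))
  constructor
  · haveI : Y.Normal := normalClosure_normal
    set M := C ⊔ Y
    have hJP : J ≤ (T : Subgroup X) ⊓ M :=
      le_inf (CfsgLib.PLocal.thompsonSubgroupAOf_le _) (le_normalClosure.trans le_sup_right)
    have hp : IsPGroup 2 ((T : Subgroup X).subgroupOf M) :=
      T.isPGroup'.comap_of_injective M.subtype M.subtype_injective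
    have hfr := Sylow.normalizer_sup_eq_top
      (hp.toSylow (sylow_relIndex_normal T M))
    rw [show ((hp.toSylow (sylow_relIndex_normal T M) : Sylow 2 M) : Subgroup M) = (T : Subgroup X).subgroupOf M from rfl, subgroupOf_map_subtype] at hfr
    rw [eq_top_iff, ← hfr, sup_le_iff]
    refine ⟨le_trans ?_ le_sup_right, le_sup_left⟩
    rw [hJdef, ← CfsgLib.PLocal.thompsonSubgroupAOf_eq_of_le (inf_le_left : (T : Subgroup X) ⊓ M ≤ T) hJP]
    exact CfsgLib.PLocal.normalizer_le_normalizer_thompsonSubgroupAOf _
  · let S : Set ρ.range := {t | ∃ g : ρ.range, ∃ s ∈ J.map π, IsTransvection V1 s ∧ g * s * g⁻¹ = t}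
    have hS : ∀ t ∈ S, IsTransvection V1 t := by
      rintro _ ⟨g, s, -, hs, rfl⟩
      exact ⟨by rw [conj_mul, hs.1, mul_one, mul_inv_cancel], by rw [card_modComm_conj]; exact hs.2⟩
    have hconj : ∀ g : ρ.range, ∀ t ∈ S, g * t * g⁻¹ ∈ S := by
      rintro g _ ⟨g', s, hsJ, hs, rfl⟩
      exact ⟨g * g', s, hsJ, hs, by group⟩
    haveI : (closure S).Normal := by
      refine ⟨fun n hn g => ?_⟩
      induction hn using Subgroup.closure_induction with
      | mem t ht => exact subset_closure (hconj g t ht)
      | one => simp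
      | mul a b _ _ iha ihb => rw [← conj_mul]; exact mul_mem iha ihb
      | inv a _ iha => rw [← conj_inv]; exact inv_mem iha
    have hYS : Y.map π = closure S := by
      refine le_antisymm ?_ ((closure_le _).mpr ?_)
      · rw [map_le_iff_le_comap]
        haveI : ((closure S).comap π).Normal := inferInstance
        refine normalClosure_le_normal ?_
        show J ≤ (closure S).comap π
        rw [hJdef, CfsgLib.PLocal.thompsonSubgroupAOf_eq, sSup_le_iff]
        intro A hA
        rw [← map_le_iff_le_comap]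
        refine (hoff A hA).trans ((closure_le _).mpr fun t ht => subset_closure ?_)
        exact ⟨1, t, map_mono (CfsgLib.PLocal.le_thompsonSubgroupAOf hA) ht.1, ht.2, by simp⟩
      · rintro _ ⟨g, s, hs, -, rfl⟩
        haveI : (Y.map π).Normal :=
          (normalClosure_normal : Y.Normal).map π ρ.rangeRestrict_surjective
        exact Subgroup.Normal.conj_mem inferInstance s (map_mono subset_normalClosure hs) g
    rcases S.eq_empty_or_nonempty with hS0 | hne
    · left
      show Y ≤ C
      rw [← hπker, ← MonoidHom.comap_bot, ← map_le_iff_le_comap, hYS, hS0, Subgroup.closure_empty]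
    · right
      obtain ⟨n, hn, ⟨e⟩⟩ := exists_equiv_of_transvections hset hS hconj hne
      refine ⟨n, hn, ⟨?_⟩⟩
      have hk : C.subgroupOf Y = (π.comp Y.subtype).ker := by
        rw [← MonoidHom.comap_ker, hπker]; rfl
      have hr : (π.comp Y.subtype).range = closure S := by
        rw [MonoidHom.range_comp, range_subtype, hYS]
      exact ((QuotientGroup.quotientMulEquivOfEq hk).trans
        (QuotientGroup.quotientKerEquivRange _)).trans ((MulEquiv.subgroupCongr hr).trans e)

end Cfsg.Agent.S4302
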