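import Cfsg.Statements.S4303
import Cfsg.Agent.SylowNumber.MaxNormal

set_option autoImplicit false
universe u
open Cfsg

namespace Cfsg.Agent.S4303

/-- For a finite group `G` and a prime `p`, the number of Sylow `p`-subgroups of `G` is a product of natural numbers each of which is either a prime power congruent to 1 modulo `p` or the number of Sylow `p`-subgroups of some finite simple group. -/
theorem result {G : Type u} [Group G] [Finite G]
    (p : ℕ) [Fact p.Prime] :
    ∃ l : List ℕ, l.prod = Nat.card (Sylow p G) ∧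
      ∀ m ∈ l, (IsPrimePow m ∧ m % p = 1) ∨
        ∃ (S : Type u) (_ : Group S) (_ : Finite S), IsSimpleGroup S ∧ m = Nat.card (Sylow p S) := by
  suffices h : ∀ n, ∀ (G : Type u) [Group G] [Finite G], Nat.card G = n →
      ∃ l : List ℕ, l.prod = Nat.card (Sylow p G) ∧
        ∀ m ∈ l, (IsPrimePow m ∧ m % p = 1) ∨
          ∃ (S : Type u) (_ : Group S) (_ : Finite S), IsSimpleGroup S ∧ m = Nat.card (Sylow p S) from
    h _ G rfl
  intro n
  induction n using Nat.strong_induction_on with
  | _ n ih =>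
  intro G _ _ hn
  classical
  rcases subsingleton_or_nontrivial G with hG | hG
  · refine ⟨[], ?_, by simp⟩
    obtain ⟨P⟩ : Nonempty (Sylow p G) := Sylow.nonempty
    rw [List.prod_nil, eq_comm, Nat.card_eq_one_iff_unique]
    exact ⟨⟨fun P Q => Sylow.ext (Subsingleton.elim _ _)⟩, ⟨P⟩⟩
  obtain ⟨N, hN, hs, hlt⟩ := CfsgLib.SylowNumber.exists_normal_simple_quotient G
  obtain ⟨c, -, hc, hmod⟩ := CfsgLib.SylowNumber.card_sylow_eq (p := p) N
  obtain ⟨l, hl, hl'⟩ := ih _ (hn ▸ hlt) N rfl
  have hc0 : c ≠ 0 := fun h => (Nat.card_pos (α := Sylow p G)).ne' (by rw [hc, h, mul_zero])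
  refine ⟨Nat.card (Sylow p (G ⧸ N)) ::
    (l ++ c.primeFactors.toList.map fun r => r ^ c.factorization r), ?_, ?_⟩
  · rw [List.prod_cons, List.prod_append, hl, Finset.prod_map_toList,
      ← Nat.prod_factorization_eq_prod_primeFactors, Nat.prod_factorization_pow_eq_self hc0,
      hc, mul_assoc]
  intro m hm
  rcases List.mem_cons.mp hm with rfl | hm
  · exact Or.inr ⟨G ⧸ N, inferInstance, inferInstance, hs, rfl⟩
  rcases List.mem_append.mp hm with hm | hm
  · exact hl' m hm
  simp only [List.mem_map, Finset.mem_toList, Nat.mem_primeFactors] at hm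
  obtain ⟨r, ⟨hr, hrc, -⟩, rfl⟩ := hm
  refine Or.inl ⟨hr.isPrimePow.pow (hr.factorization_pos_of_dvd hc0 hrc).ne', ?_⟩
  have := hmod r hr
  rwa [Nat.ModEq, Nat.one_mod_eq_one.mpr (Fact.out : p.Prime).ne_one] at this

end Cfsg.Agent.S4303
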