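import Cfsg.Statements.S4304
import Cfsg.Agent.SylowNumber.MaxNormal
import Cfsg.Agent.S0713

set_option autoImplicit false
set_option linter.unusedSectionVars false
open Cfsg

namespace Cfsg.Agent.S4304

open MulAction
open scoped Pointwise

theorem fix_of_pow_seven {M α : Type*} [Group M] [MulAction M α] {x : M} (hx : x ^ 7 = 1)
    {S : Set α} (hS : S.Finite) (hS7 : S.ncard < 7) (hinv : ∀ a ∈ S, x • a ∈ S) {a : α}
    (ha : a ∈ S) : x • a = a := by
  by_contra hne
  have hper : period x a = 7 := by
    have h1 : period x a ∣ 7 := pow_smul_eq_iff_period_dvd.mp (by rw [hx, one_smul])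
    rcases (Nat.dvd_prime (by norm_num)).mp h1 with h | h
    · exact absurd (pow_smul_eq_iff_period_dvd.mpr (by rw [h]) : x ^ 1 • a = a) (by rwa [pow_one])
    · exact h
  have hmem : ∀ i : ℕ, x ^ i • a ∈ S := by
    intro i
    induction i with
    | zero => simpa using ha
    | succ i ih => rw [pow_succ', mul_smul]; exact hinv _ ih
  have hinj : Function.Injective fun i : Fin 7 => (⟨x ^ (i : ℕ) • a, hmem i⟩ : S) := by
    intro i j hij
    have hij' : x ^ (i : ℕ) • a = x ^ (j : ℕ) • a := congrArg Subtype.val hij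
    rcases le_total (i : ℕ) j with h | h
    · have : x ^ ((j : ℕ) - i) • a = a := by
        rw [← smul_left_cancel_iff (x ^ (i : ℕ)), ← mul_smul, ← pow_add, Nat.add_sub_cancel' h]
        exact hij'.symm
      have := pow_smul_eq_iff_period_dvd.mp this
      rw [hper] at this
      exact Fin.ext (by omega)
    · have : x ^ ((i : ℕ) - j) • a = a := by
        rw [← smul_left_cancel_iff (x ^ (j : ℕ)), ← mul_smul, ← pow_add, Nat.add_sub_cancel' h]
        exact hij'
      have := pow_smul_eq_iff_period_dvd.mp this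
      rw [hper] at this
      exact Fin.ext (by omega)
  have := hS.to_subtype
  have h7 := Nat.card_le_card_of_injective _ hinj
  rw [Nat.card_coe_set_eq, Nat.card_eq_fintype_card, Fintype.card_fin] at h7
  omega

variable {G : Type*} [Group G] [Finite G]

theorem card_sylow_eq_one_of_burnside {p : ℕ} [Fact p.Prime] [IsSimpleGroup G] (P : Sylow p G)
    (hp : p ∣ Nat.card G)
    (h : Subgroup.normalizer ((P : Subgroup G) : Set G) ≤ Subgroup.centralizer ((P : Subgroup G) : Set G)) :
    Nat.card (Sylow p G) = 1 := by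
  have hc := MonoidHom.ker_transferSylow_isComplement' P h
  rcases (MonoidHom.normal_ker (MonoidHom.transferSylow P h)).eq_bot_or_eq_top with h1 | h1
  · rw [h1] at hc
    have h2 := Subgroup.isComplement'_bot_left.mp hc
    rw [P.card_eq_index_normalizer, ← Sylow.coe_coe, h2, Subgroup.index_eq_one, eq_top_iff]
    exact Subgroup.le_normalizer
  · rw [h1] at hc
    exact absurd (Subgroup.isComplement'_top_left.mp hc) (P.ne_bot_of_dvd_card hp)

theorem mem_of_smul_eq {p : ℕ} [Fact p.Prime] {P : Sylow p G} {x : G} {n : ℕ} (hx : x ^ p ^ n = 1)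
    (h : x • P = P) : x ∈ P := by
  have hP : IsPGroup p (Subgroup.zpowers x) := by
    obtain ⟨k, -, hk⟩ := (Nat.dvd_prime_pow Fact.out).mp (orderOf_dvd_of_pow_eq_one hx)
    exact IsPGroup.of_card (n := k) (by rw [Nat.card_zpowers, hk])
  have h1 : x ∈ Subgroup.zpowers x ⊓ Subgroup.normalizer ((P : Subgroup G) : Set G) :=
    ⟨Subgroup.mem_zpowers x, Sylow.smul_eq_iff_mem_normalizer.mp h⟩
  rw [Sylow.coe_coe, hP.inf_normalizer_sylow] at h1
  exact h1.2

theorem card_sylow_congr {A B : Type*} [Group A] [Group B] [Finite A] [Finite B] (p : ℕ)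
    [Fact p.Prime] (e : A ≃* B) : Nat.card (Sylow p A) = Nat.card (Sylow p B) := by
  obtain ⟨P⟩ : Nonempty (Sylow p A) := Sylow.nonempty
  have hsurj : Function.Surjective e.toMonoidHom := e.surjective
  rw [P.card_eq_index_normalizer,
    (P.mapSurjective hsurj).card_eq_index_normalizer, ← Sylow.coe_coe,
    ← Sylow.coe_coe (P.mapSurjective hsurj), Sylow.coe_mapSurjective]
  rw [← Subgroup.index_comap_of_surjective (Subgroup.normalizer _) hsurj,
    Subgroup.comap_normalizer_eq_of_surjective _ hsurj, Subgroup.comap_map_eq_self_of_injective e.injective]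

theorem isPreprimitive_fifteen {X : Type*} [MulAction G X] [IsPretransitive G X]
    [Finite X] (hX : Nat.card X = 15) {x : G} (hx : x ^ 7 = 1) {a₀ : X} (hne : x • a₀ ≠ a₀) :
    IsPreprimitive G X := by
  constructor
  intro B hB
  rcases B.eq_empty_or_nonempty with rfl | hBne
  · exact Or.inl Set.subsingleton_empty
  have hmul := hB.ncard_block_mul_ncard_orbit_eq hBne
  rw [hX] at hmul
  have hdvd : B.ncard ∈ Nat.divisors 15 := Nat.mem_divisors.mpr ⟨⟨_, hmul.symm⟩, by norm_num⟩
  have hdiv : Nat.divisors 15 = {1, 3, 5, 15} := by decide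
  rw [hdiv] at hdvd
  simp only [Finset.mem_insert, Finset.mem_singleton] at hdvd
  by_cases h1 : B.ncard = 1
  · exact Or.inl (Set.ncard_le_one_iff_subsingleton.mp h1.le)
  by_cases h15 : B.ncard = 15
  · right
    exact Set.eq_of_subset_of_ncard_le (Set.subset_univ B) (by rw [Set.ncard_univ, hX, h15])
      (Set.toFinite _)
  exfalso
  obtain ⟨b, hb⟩ := hBne
  obtain ⟨g, hg⟩ := exists_smul_eq G b a₀
  have ha : a₀ ∈ g • B := ⟨b, hb, hg⟩
  have hB' : x • (g • B) = g • B := by
    refine fix_of_pow_seven hx (S := orbit G B) (Set.toFinite _) ?_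
      (fun C hC => mem_orbit_of_mem_orbit x hC) (mem_orbit B g)
    rcases hdvd with h | h | h | h <;> simp [h] at hmul h1 h15 <;> omega
  refine hne (fix_of_pow_seven hx (S := g • B) (Set.toFinite _) ?_ (fun c hc => ?_) ha)
  · rw [Set.ncard_smul_set]; omega
  · rw [← hB']
    exact Set.smul_mem_smul_set hc

theorem false_of_simple [IsSimpleGroup G] (h15 : Nat.card (Sylow 7 G) = 15) : False := by
  classical
  have hp7 : Fact (Nat.Prime 7) := ⟨by norm_num⟩
  obtain ⟨P⟩ : Nonempty (Sylow 7 G) := Sylow.nonempty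
  let _ := Fintype.ofFinite (Sylow 7 G)
  have hcardΩ : Fintype.card (Sylow 7 G) = 15 := by rw [← Nat.card_eq_fintype_card, h15]
  set ρ : G →* Equiv.Perm (Sylow 7 G) := MulAction.toPermHom G (Sylow 7 G) with hρdef
  have hρ_apply : ∀ (g : G) (Q : Sylow 7 G), ρ g Q = g • Q := fun _ _ => rfl
  have hρ : Function.Injective ρ := by
    rw [← MonoidHom.ker_eq_bot_iff]
    refine (MonoidHom.normal_ker ρ).eq_bot_or_eq_top.resolve_right fun h => ?_
    have : Subsingleton (Sylow 7 G) := ⟨fun Q R => by
      obtain ⟨g, hg⟩ := exists_smul_eq G Q R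
      have hg' : g ∈ ρ.ker := by rw [h]; exact Subgroup.mem_top g
      rw [MonoidHom.mem_ker] at hg'
      rw [← hg, ← hρ_apply, hg']
      rfl⟩
    have := Nat.card_of_subsingleton P
    omega
  have h7G : 7 ∣ Nat.card G := by
    by_contra h
    have : Subsingleton (Sylow 7 G) := ⟨fun Q R => by
      have hbot : ∀ T : Sylow 7 G, (T : Subgroup G) = ⊥ := fun T => Subgroup.eq_bot_of_card_eq _ (by
        rw [T.card_eq_multiplicity, Nat.factorization_eq_zero_of_not_dvd h, pow_zero])
      exact Sylow.ext ((hbot Q).trans (hbot R).symm)⟩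
    have := Nat.card_of_subsingleton P
    omega
  by_cases hA : ∃ x : G, orderOf x = 7 ∧ (ρ x).support.card = 7
  · -- some element of order 7 is a 7-cycle: Jordan's theorem
    obtain ⟨x, hx, hsupp⟩ := hA
    have hx7 : x ^ 7 = 1 := hx ▸ pow_orderOf_eq_one x
    have hord : orderOf (ρ x) = 7 := by rw [orderOf_injective ρ hρ, hx]
    have hcyc : (ρ x).IsCycle :=
      Equiv.Perm.isCycle_of_prime_order (by rw [hord]; norm_num) (by rw [hord, hsupp]; norm_num)
    obtain ⟨a, ha⟩ : (ρ x).support.Nonempty := Finset.card_pos.mp (by omega)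
    have hprimG : IsPreprimitive G (Sylow 7 G) :=
      isPreprimitive_fifteen h15 hx7 (a₀ := a) (by simpa [hρ_apply] using ha)
    have hprim : IsPreprimitive ρ.range (Sylow 7 G) :=
      IsPreprimitive.of_surjective (φ := ρ.rangeRestrict)
        (f := ⟨id, fun g Q => (hρ_apply g Q).symm ▸ rfl⟩) Function.surjective_id
    have hJ := S0713.result ρ.range hprim (p := 7) (by norm_num) (by omega) (by omega) hcyc hsupp
      ⟨x, rfl⟩
    obtain ⟨Q, hQ⟩ := IsPGroup.exists_le_sylow
      (IsPGroup.of_card (n := 1) (by rw [Nat.card_zpowers, hx, pow_one]) :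
        IsPGroup 7 (Subgroup.zpowers x))
    have hxQ : x ∈ Q := hQ (Subgroup.mem_zpowers x)
    have hQfix : ρ x Q = Q := by
      rw [hρ_apply, Sylow.smul_eq_iff_mem_normalizer]
      exact Subgroup.le_normalizer hxQ
    set s := (ρ x).support
    have hQs : Q ∉ s := by simp [s, hQfix]
    obtain ⟨b, hb, hba⟩ := Finset.exists_mem_ne (s := s) (by omega) a
    obtain ⟨c, hc, hcQ⟩ : ∃ c ∈ sᶜ, c ≠ Q :=
      Finset.exists_mem_ne (by rw [Finset.card_compl, hcardΩ]; omega) Q
    rw [Finset.mem_compl] at hc
    have hac : a ≠ c := fun e => hc (e ▸ ha)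
    have hbc : b ≠ c := fun e => hc (e ▸ hb)
    set τ : Equiv.Perm (Sylow 7 G) := Equiv.swap a b * Equiv.swap a c with hτ
    have hτmem : τ ∈ alternatingGroup (Sylow 7 G) :=
      (Equiv.Perm.isThreeCycle_swap_mul_swap_same hba.symm hac hbc).mem_alternatingGroup
    obtain ⟨t, ht⟩ := hJ hτmem
    have htQ : t • Q = Q := by
      rw [← hρ_apply, ht, hτ, Equiv.Perm.mul_apply,
        Equiv.swap_apply_of_ne_of_ne (ne_of_mem_of_not_mem ha hQs).symm hcQ.symm,
        Equiv.swap_apply_of_ne_of_ne (ne_of_mem_of_not_mem ha hQs).symm (ne_of_mem_of_not_mem hb hQs).symm]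
    have hy : t * x * t⁻¹ ∈ Q := (Subgroup.mem_normalizer_iff.mp
      (Sylow.smul_eq_iff_mem_normalizer.mp htQ) x).mp hxQ
    -- the Q-orbit of `a` contains eight points
    have hsub : (↑(insert c s) : Set (Sylow 7 G)) ⊆ orbit ↥(Q : Subgroup G) a := by
      have hpow : ∀ z : G, z ∈ Q → ∀ u v : Sylow 7 G, (ρ z).SameCycle u v →
          u ∈ orbit ↥(Q : Subgroup G) a → v ∈ orbit ↥(Q : Subgroup G) a := by
        rintro z hz u v ⟨i, hi⟩ hu
        rw [← map_zpow, hρ_apply] at hi
        rw [← hi]
        exact mem_orbit_of_mem_orbit (⟨z ^ i, zpow_mem hz i⟩ : ↥(Q : Subgroup G)) hu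
      have hs : ∀ u ∈ s, u ∈ orbit ↥(Q : Subgroup G) a := fun u hu =>
        hpow x hxQ a u (hcyc.sameCycle (Equiv.Perm.mem_support.mp ha) (Equiv.Perm.mem_support.mp hu))
          (mem_orbit_self a)
      intro u hu
      rw [Finset.coe_insert, Set.mem_insert_iff] at hu
      rcases hu with rfl | hu
      · -- `c` and `a` are in the support of the conjugate cycle
        have e : ρ (t * x * t⁻¹) = τ * ρ x * τ⁻¹ := by rw [map_mul, map_mul, map_inv, ht]
        have hcy : (ρ (t * x * t⁻¹)).IsCycle := e ▸ hcyc.conj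
        have h1 : ∀ v, v ∈ s → ρ (t * x * t⁻¹) (τ v) ≠ τ v := fun v hv h => by
          rw [e, Equiv.Perm.mul_apply, Equiv.Perm.mul_apply, Equiv.Perm.coe_inv,
            Equiv.symm_apply_apply] at h
          exact Equiv.Perm.mem_support.mp hv (τ.injective h)
        have e1 : τ a = u := by
          rw [hτ, Equiv.Perm.mul_apply, Equiv.swap_apply_left,
            Equiv.swap_apply_of_ne_of_ne hac.symm hbc.symm]
        have e2 : τ b = a := by
          rw [hτ, Equiv.Perm.mul_apply, Equiv.swap_apply_of_ne_of_ne hba hbc,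
            Equiv.swap_apply_right]
        exact hpow _ hy a u (hcy.sameCycle (e2 ▸ h1 b hb) (e1 ▸ h1 a ha)) (mem_orbit_self a)
      · exact hs u hu
    obtain ⟨n, hn⟩ := Q.2.card_orbit a
    have h8 : 8 ≤ 7 ^ n := by
      rw [← hn, Nat.card_coe_set_eq]
      refine le_trans (le_of_eq ?_) (Set.ncard_le_ncard hsub (Set.toFinite _))
      rw [Set.ncard_coe_finset, Finset.card_insert_of_notMem hc, hsupp]
    have h15' : 7 ^ n ≤ 15 := by
      rw [← hn, Nat.card_coe_set_eq, ← hcardΩ, ← Nat.card_eq_fintype_card, ← Set.ncard_univ]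
      exact Set.ncard_le_ncard (Set.subset_univ _) (Set.toFinite _)
    rcases n with _ | _ | n
    · norm_num at h8
    · norm_num at h8
    · rw [pow_succ, pow_succ] at h15'
      have := Nat.one_le_pow n 7 (by norm_num)
      omega
  -- every element of order 7 fixes exactly one Sylow 7-subgroup
  push Not at hA
  have hfix1 : ∀ x : G, orderOf x = 7 → (ρ x).support.card = 14 := by
    intro x hx
    have hord : orderOf (ρ x) = 7 := by rw [orderOf_injective ρ hρ, hx]
    obtain ⟨n, hn⟩ := Equiv.Perm.cycleType_prime_order (σ := ρ x) (by rw [hord]; norm_num)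
    have h1 := (ρ x).sum_cycleType
    rw [hn, hord, Multiset.sum_replicate, smul_eq_mul] at h1
    have h2 : (ρ x).support.card ≤ 15 := hcardΩ ▸ Finset.card_le_univ _
    have := hA x hx
    omega
  have honly : ∀ x : G, orderOf x = 7 → ∀ Q R : Sylow 7 G, x • Q = Q → x • R = R → Q = R := by
    intro x hx Q R hQ hR
    by_contra hne
    have : ({Q, R} : Finset (Sylow 7 G)) ⊆ (ρ x).supportᶜ := by
      intro u hu
      simp only [Finset.mem_insert, Finset.mem_singleton] at hu
      rcases hu with rfl | rfl <;> simpa [hρ_apply]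
    have := Finset.card_le_card this
    rw [Finset.card_pair hne, Finset.card_compl, hcardΩ, hfix1 x hx] at this
    omega
  -- hence `|P| = 7`
  have hPfix : ∀ y ∈ P, y • P = P := fun y hy =>
    Sylow.smul_eq_iff_mem_normalizer.mpr (Subgroup.le_normalizer hy)
  have hPne : (P : Subgroup G) ≠ ⊥ := P.ne_bot_of_dvd_card h7G
  obtain ⟨Q, hQP⟩ : ∃ Q, Q ≠ P := Fintype.exists_ne_of_one_lt_card (by omega) P
  have hstab : stabilizer ↥(P : Subgroup G) Q = ⊥ := by
    by_contra h
    obtain ⟨k, hk⟩ := (P.2.to_subgroup (stabilizer ↥(P : Subgroup G) Q)).exists_card_eq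
    rcases k with _ | k
    · exact h (Subgroup.eq_bot_of_card_eq _ (by simpa using hk))
    obtain ⟨y, hy⟩ := exists_prime_orderOf_dvd_card' 7
      (hk ▸ dvd_pow_self 7 (Nat.succ_ne_zero k) : 7 ∣ Nat.card (stabilizer ↥(P : Subgroup G) Q))
    refine hQP (honly (y.1 : G) ?_ Q P y.2 (hPfix _ y.1.2))
    rw [Subgroup.orderOf_coe, Subgroup.orderOf_coe, hy]
  have hP7 : Nat.card P = 7 := by
    obtain ⟨k, hk⟩ := P.2.exists_card_eq
    have horb : Nat.card (orbit ↥(P : Subgroup G) Q) = 7 ^ k := by
      rw [Nat.card_congr (orbitEquivQuotientStabilizer _ Q)]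
      show (stabilizer ↥(P : Subgroup G) Q).index = _
      rw [hstab, Subgroup.index_bot, hk]
    have hle : 7 ^ k ≤ 14 := by
      rw [← horb, Nat.card_coe_set_eq]
      have hsub : orbit ↥(P : Subgroup G) Q ⊆ {P}ᶜ := by
        rintro _ ⟨y, rfl⟩ e
        rw [Set.mem_singleton_iff] at e
        change (y : G) • Q = P at e
        refine hQP ?_
        calc Q = (y : G)⁻¹ • ((y : G) • Q) := (inv_smul_smul _ _).symm
          _ = P := by rw [e]; exact hPfix _ (inv_mem y.2)
      refine (Set.ncard_le_ncard hsub (Set.toFinite _)).trans ?_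
      have := Set.ncard_add_ncard_compl ({P} : Set (Sylow 7 G))
      rw [Set.ncard_singleton, h15] at this
      omega
    rcases k with _ | _ | k
    · exact absurd (Subgroup.eq_bot_of_card_eq _ (by simpa using hk)) hPne
    · simpa using hk
    · rw [pow_succ, pow_succ] at hle
      have := Nat.one_le_pow k 7 (by norm_num)
      omega
  -- the centraliser of `P` is `P`
  have hcyc7 : IsCyclic P := isCyclic_of_prime_card hP7
  obtain ⟨x, hx⟩ := exists_prime_orderOf_dvd_card' 7 (dvd_of_eq hP7.symm)
  have hxG : orderOf (x : G) = 7 := by rw [Subgroup.orderOf_coe, hx]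
  have hxs := hfix1 _ hxG
  have hsgn : ∀ g : G, Equiv.Perm.sign (ρ g) = 1 := by
    have : (Equiv.Perm.sign.comp ρ).ker = ⊤ := by
      refine (MonoidHom.normal_ker _).eq_bot_or_eq_top.resolve_left fun h => ?_
      have h1 := Nat.card_le_card_of_injective _ ((MonoidHom.ker_eq_bot_iff _).mp h)
      rw [Nat.card_eq_fintype_card (α := ℤˣ), Fintype.card_units_int] at h1
      have := Nat.le_of_dvd Nat.card_pos h7G
      omega
    intro g
    have hg : g ∈ (Equiv.Perm.sign.comp ρ).ker := by rw [this]; exact Subgroup.mem_top g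
    exact MonoidHom.mem_ker.mp hg
  set C := Subgroup.centralizer ((P : Subgroup G) : Set G) with hCdef
  set N := Subgroup.normalizer ((P : Subgroup G) : Set G) with hNdef
  have hPC : (P : Subgroup G) ≤ C := by
    intro a ha
    rw [hCdef, Subgroup.mem_centralizer_iff]
    intro b hb
    have := hcyc7.isMulCommutative
    exact congrArg Subtype.val (mul_comm' (⟨b, hb⟩ : P) ⟨a, ha⟩)
  have hC : Nat.card C = 7 := by
    obtain ⟨m, hm⟩ := Subgroup.card_dvd_of_le hPC
    rw [hP7] at hm
    by_contra hne
    have hm1 : m ≠ 1 := fun e => hne (by omega)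
    obtain ⟨r, hr, hrm⟩ := Nat.exists_prime_and_dvd hm1
    have hr7 : r ≠ 7 := by
      rintro rfl
      have h49 : 7 ^ 2 ∣ Nat.card G :=
        (hm ▸ (mul_dvd_mul_left 7 hrm : 7 * 7 ∣ 7 * m)).trans (Subgroup.card_subgroup_dvd_card C)
      have := P.card_eq_multiplicity
      rw [hP7] at this
      have h2 := (Nat.Prime.pow_dvd_iff_le_factorization hp7.out Nat.card_pos.ne').mp h49
      have h3 := Nat.pow_le_pow_right (by norm_num : 7 > 0) h2
      omega
    have := Fact.mk hr
    obtain ⟨c, hc⟩ := exists_prime_orderOf_dvd_card' r (hm ▸ hrm.mul_left 7 : r ∣ Nat.card C)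
    have hcG : orderOf (c : G) = r := by rw [Subgroup.orderOf_coe, hc]
    have hcP : (c : G) • P = P :=
      Sylow.smul_eq_iff_mem_normalizer.mpr (Subgroup.centralizer_le_normalizer _ c.2)
    have hcomm : Commute (c : G) (x : G) :=
      ((Subgroup.mem_centralizer_iff.mp c.2) x x.2).symm
    have hx7' : (x : G) ^ 7 = 1 := by
      have := pow_orderOf_eq_one (x : G)
      rwa [hxG] at this
    have hperx : ∀ b : Sylow 7 G, b ≠ P → period (x : G) b = 7 := fun b hb => by
      have h1 : period (x : G) b ∣ 7 :=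
        pow_smul_eq_iff_period_dvd.mp (by rw [hx7', one_smul])
      rcases (Nat.dvd_prime hp7.out).mp h1 with h | h
      · refine absurd ?_ hb
        refine honly _ hxG b P ?_ (hPfix _ x.2)
        simpa using (pow_smul_eq_iff_period_dvd.mpr (by rw [h]) : (x : G) ^ 1 • b = b)
      · exact h
    have hall : ∀ a, a ≠ P → (c : G) • a ≠ a := by
      intro a haP (hca : (c : G) • a = a)
      have horbit : ∀ i : ℕ, (c : G) • ((x : G) ^ i • a) = (x : G) ^ i • a := fun i => by
        rw [← mul_smul, (hcomm.pow_right i).eq, mul_smul, hca]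
      obtain ⟨b, hb⟩ : ∃ b, (c : G) • b ≠ b := not_forall.mp fun h => hr.ne_one (by
        rw [← hcG, orderOf_eq_one_iff]
        exact hρ (Equiv.ext fun b => by rw [hρ_apply, h b, map_one, Equiv.Perm.one_apply]))
      have hbP : b ≠ P := fun e => hb (e.symm ▸ hcP)
      let O : Set (Sylow 7 G) := Set.range fun i : Fin 7 => (x : G) ^ (i : ℕ) • a
      let O' : Set (Sylow 7 G) := Set.range fun i : Fin 7 => (x : G) ^ (i : ℕ) • b
      have hcard : ∀ u : Sylow 7 G, u ≠ P →
          (Set.range fun i : Fin 7 => (x : G) ^ (i : ℕ) • u).ncard = 7 := fun u hu => by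
        rw [Set.ncard_range_of_injective, Nat.card_eq_fintype_card, Fintype.card_fin]
        intro i j hij
        change (x : G) ^ (i : ℕ) • u = (x : G) ^ (j : ℕ) • u at hij
        have h1 : (x : G) ^ ((j : ℕ) + 7 - i) • u = u := by
          rw [← smul_left_cancel_iff ((x : G) ^ (i : ℕ)), ← mul_smul, ← pow_add,
            show (i : ℕ) + ((j : ℕ) + 7 - i) = j + 7 by omega, pow_add, mul_smul,
            hx7', one_smul, hij]
        have h2 := pow_smul_eq_iff_period_dvd.mp h1
        rw [hperx u hu] at h2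
        exact Fin.ext (by omega)
      -- `b` lies outside `{P} ∪ O`, so `{P} ∪ O ∪ O'` is everything
      have hdisj : Disjoint O O' := by
        rw [Set.disjoint_left]
        rintro _ ⟨i, rfl⟩ ⟨j, hj⟩
        change (x : G) ^ (j : ℕ) • b = (x : G) ^ (i : ℕ) • a at hj
        apply hb
        have hb' : b = ((x : G) ^ (j : ℕ))⁻¹ • ((x : G) ^ (i : ℕ) • a) := by
          rw [← hj, inv_smul_smul]
        rw [hb', ← mul_smul (c : G), ((hcomm.pow_right (j : ℕ)).inv_right).eq, mul_smul,
          horbit]
      have hPO : P ∉ O ∪ O' := by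
        rintro (⟨i, hi⟩ | ⟨i, hi⟩)
        · refine haP ?_
          rw [← inv_smul_smul ((x : G) ^ (i : ℕ)) a, show (x : G) ^ (i : ℕ) • a = P from hi]
          exact hPfix _ (inv_mem (pow_mem x.2 _))
        · refine hbP ?_
          rw [← inv_smul_smul ((x : G) ^ (i : ℕ)) b, show (x : G) ^ (i : ℕ) • b = P from hi]
          exact hPfix _ (inv_mem (pow_mem x.2 _))
      have huniv : insert P (O ∪ O') = Set.univ :=
        Set.eq_of_subset_of_ncard_le (Set.subset_univ _) (by
          rw [Set.ncard_univ, h15, Set.ncard_insert_of_notMem hPO (Set.toFinite _),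
            Set.ncard_union_eq hdisj (Set.toFinite _) (Set.toFinite _), hcard a haP, hcard b hbP])
          (Set.toFinite _)
      have hcb : (c : G) • b ∈ insert P (O ∪ O') := huniv ▸ Set.mem_univ _
      rcases hcb with h | h | h
      · exact hbP (smul_left_cancel (c : G) (h.trans hcP.symm))
      · obtain ⟨i, hi⟩ := h
        change (x : G) ^ (i : ℕ) • a = (c : G) • b at hi
        rw [← horbit] at hi
        have := smul_left_cancel (c : G) hi
        exact hb (by rw [← this, horbit])
      · obtain ⟨i, hi⟩ := h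
        change (x : G) ^ (i : ℕ) • b = (c : G) • b at hi
        have hpw : ∀ n : ℕ, (c : G) ^ n • b = (x : G) ^ ((i : ℕ) * n) • b := by
          intro n
          induction n with
          | zero => simp
          | succ n ih =>
            rw [pow_succ', mul_smul, ih, ← mul_smul, (hcomm.pow_right _).eq, mul_smul, ← hi,
              ← mul_smul, ← pow_add]
            ring_nf
        have h1 := hpw r
        rw [← hcG, pow_orderOf_eq_one, one_smul, hcG] at h1
        have h2 := pow_smul_eq_iff_period_dvd.mp h1.symm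
        rw [hperx b hbP] at h2
        rcases hp7.out.dvd_mul.mp h2 with h | h
        · exact hb (by rw [← hi, show (i : ℕ) = 0 by omega, pow_zero, one_smul])
        · exact hr7 ((Nat.prime_dvd_prime_iff_eq hp7.out hr).mp h).symm
    have hsup : (ρ (c : G)).support = Finset.univ.erase P := by
      ext a
      simp only [Equiv.Perm.mem_support, hρ_apply, Finset.mem_erase, Finset.mem_univ, and_true]
      exact ⟨fun h e => h (e.symm ▸ hcP), hall a⟩
    have hord : orderOf (ρ (c : G)) = r := by rw [orderOf_injective ρ hρ, hcG]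
    obtain ⟨n, hn⟩ := Equiv.Perm.cycleType_prime_order (σ := ρ (c : G)) (by rw [hord]; exact hr)
    have h1 := (ρ (c : G)).sum_cycleType
    rw [hn, hord, Multiset.sum_replicate, smul_eq_mul, hsup,
      Finset.card_erase_of_mem (Finset.mem_univ P), Finset.card_univ, hcardΩ] at h1
    have hr2 : r = 2 := by
      have hrd : r ∣ 2 * 7 := ⟨n + 1, by rw [mul_comm r]; exact h1.symm⟩
      rcases hr.dvd_mul.mp hrd with h | h
      · exact (Nat.prime_dvd_prime_iff_eq hr Nat.prime_two).mp h
      · exact absurd ((Nat.prime_dvd_prime_iff_eq hr hp7.out).mp h) hr7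
    have h2 := hsgn (c : G)
    rw [Equiv.Perm.sign_of_cycleType, hn, hord, hr2, Multiset.sum_replicate,
      Multiset.card_replicate, smul_eq_mul] at h2
    rw [hr2] at h1
    obtain rfl : n = 6 := by omega
    revert h2
    decide
  -- `N/C` embeds in `Aut P`
  have hCN : C ≤ N := Subgroup.centralizer_le_normalizer _
  obtain ⟨d, hd, hd6⟩ : ∃ d, Nat.card N = 7 * d ∧ d ∣ 6 := by
    refine ⟨C.relIndex N, ?_, ?_⟩
    · rw [← hC]
      simpa using (Subgroup.relIndex_mul_relIndex (⊥ : Subgroup G) C N bot_le hCN).symm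
    have key := Subgroup.card_dvd_of_injective _
      (QuotientGroup.kerLift_injective (P : Subgroup G).normalizerMonoidHom)
    rw [Subgroup.normalizerMonoidHom_ker, ← Subgroup.index, IsCyclic.card_mulAut, hP7,
      Nat.totient_prime hp7.out] at key
    exact key
  have hG : Nat.card G = 15 * (7 * d) := by
    rw [← Subgroup.card_mul_index N, hd, hNdef, ← h15, P.card_eq_index_normalizer, mul_comm]
    rfl
  have hd1 : d ≠ 1 := by
    rintro rfl
    have : N = C := (Subgroup.eq_of_le_of_card_ge hCN (by rw [hd, hC])).symm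
    have := card_sylow_eq_one_of_burnside P h7G this.le
    omega
  have hd' : d = 2 ∨ d = 3 ∨ d = 6 := by
    have : d ≤ 6 := Nat.le_of_dvd (by norm_num) hd6
    interval_cases d <;> omega
  rcases hd' with rfl | rfl | rfl
  · exact false_of_two hG (by norm_num) h15
  · exact false_of_315 hG h15
  · exact false_of_two hG (by norm_num) h15
where
  false_of_two {n : ℕ} (hG : Nat.card G = n) (hn : n % 4 = 2 ∧ 3 ≤ n)
      (_h15 : Nat.card (Sylow 7 G) = 15) : False := by
    have hp2 : Fact (Nat.Prime 2) := ⟨Nat.prime_two⟩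
    obtain ⟨T⟩ : Nonempty (Sylow 2 G) := Sylow.nonempty
    have hT : Nat.card T = 2 := by
      rw [T.card_eq_multiplicity]
      have h1 : 1 ≤ (Nat.card G).factorization 2 :=
        (Nat.prime_two.pow_dvd_iff_le_factorization Nat.card_pos.ne').mp (by rw [pow_one]; omega)
      have h2 : ¬ 2 ≤ (Nat.card G).factorization 2 := fun h => by
        have := (Nat.prime_two.pow_dvd_iff_le_factorization (k := 2) Nat.card_pos.ne').mpr h
        omega
      rw [show (Nat.card G).factorization 2 = 1 by omega, pow_one]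
    have hmin : (Nat.card G).minFac = 2 := by rw [Nat.minFac_eq_two_iff]; omega
    have hc := IsCyclic.isComplement' hmin (P := T) (isCyclic_of_prime_card hT)
    have hcard := hc.card_mul_card
    rw [hT] at hcard
    rcases (MonoidHom.normal_ker (MonoidHom.transferSylow T
      ((isCyclic_of_prime_card hT).normalizer_le_centralizer hmin))).eq_bot_or_eq_top with h | h
    · rw [h, Subgroup.card_bot] at hcard; omega
    · rw [h, Subgroup.card_top] at hcard; omega
  false_of_315 (hG : Nat.card G = 15 * (7 * 3)) (_h15 : Nat.card (Sylow 7 G) = 15) : False := by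
    have hp5 : Fact (Nat.Prime 5) := ⟨by norm_num⟩
    obtain ⟨T⟩ : Nonempty (Sylow 5 G) := Sylow.nonempty
    have h5G : 5 ∣ Nat.card G := by rw [hG]; norm_num
    have hT : Nat.card T = 5 := by
      rw [T.card_eq_multiplicity]
      have h1 : 1 ≤ (Nat.card G).factorization 5 :=
        (hp5.out.pow_dvd_iff_le_factorization Nat.card_pos.ne').mp (by rwa [pow_one])
      have h2 : ¬ 2 ≤ (Nat.card G).factorization 5 := fun h => by
        have := (hp5.out.pow_dvd_iff_le_factorization (k := 2) Nat.card_pos.ne').mpr h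
        omega
      rw [show (Nat.card G).factorization 5 = 1 by omega, pow_one]
    have hmod := card_sylow_modEq_one 5 G
    have hdvd := T.card_dvd_index
    have hidx : (T : Subgroup G).index = 63 := by
      have := Subgroup.card_mul_index (T : Subgroup G)
      rw [hT, hG] at this; omega
    rw [hidx] at hdvd
    have hn5 : Nat.card (Sylow 5 G) = 1 ∨ Nat.card (Sylow 5 G) = 21 := by
      have := Nat.le_of_dvd (by norm_num) hdvd
      rw [Nat.ModEq] at hmod
      generalize Nat.card (Sylow 5 G) = m at *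
      interval_cases m <;> omega
    have hone : Nat.card (Sylow 5 G) ≠ 1 := fun h => by
      have h' := T.card_eq_index_normalizer
      rw [h, eq_comm, Subgroup.index_eq_one, ← Sylow.coe_coe,
        Subgroup.normalizer_eq_top_iff] at h'
      rcases h'.eq_bot_or_eq_top with e | e
      · rw [e, Subgroup.card_bot] at hT; omega
      · rw [e, Subgroup.card_top] at hT; omega
    refine hone (card_sylow_eq_one_of_burnside T h5G ?_)
    have key := Subgroup.card_dvd_of_injective _
      (QuotientGroup.kerLift_injective (T : Subgroup G).normalizerMonoidHom)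
    have := isCyclic_of_prime_card hT
    rw [Subgroup.normalizerMonoidHom_ker, ← Subgroup.index, IsCyclic.card_mulAut, hT,
      Nat.totient_prime hp5.out] at key
    have hN : Nat.card (Subgroup.normalizer ((T : Subgroup G) : Set G)) = 15 := by
      have := Subgroup.card_mul_index (Subgroup.normalizer ((T : Subgroup G) : Set G))
      rw [Sylow.coe_coe, ← T.card_eq_index_normalizer, hn5.resolve_left hone, hG] at this
      rw [Sylow.coe_coe]; omega
    refine Subgroup.relIndex_eq_one.mp (Nat.eq_one_of_dvd_coprimes (a := 4) (b := 15) (by norm_num) key ?_)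
    exact hN ▸ Subgroup.relIndex_dvd_card _ _

/-- No finite group has exactly 15 Sylow 7-subgroups. -/
theorem result {G : Type*} [Group G] [Finite G] : Nat.card (Sylow 7 G) ≠ 15 := by
  have : Fact (Nat.Prime 7) := ⟨by norm_num⟩
  suffices h : ∀ n, ∀ (H : Subgroup G), Nat.card H = n → Nat.card (Sylow 7 H) ≠ 15 by
    intro h15
    exact h _ ⊤ rfl ((card_sylow_congr 7 Subgroup.topEquiv).trans h15)
  intro n
  induction n using Nat.strong_induction_on with
  | _ n ih =>
  intro H hn h15
  rcases subsingleton_or_nontrivial H with hH | hH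
  · obtain ⟨P⟩ : Nonempty (Sylow 7 H) := Sylow.nonempty
    have : Subsingleton (Sylow 7 H) := ⟨fun _ _ => Sylow.ext (Subsingleton.elim _ _)⟩
    have := Nat.card_of_subsingleton P
    omega
  obtain ⟨N, hN, hs, hlt⟩ := CfsgLib.SylowNumber.exists_normal_simple_quotient H
  obtain ⟨c, -, hc, hmod⟩ := CfsgLib.SylowNumber.card_sylow_eq (p := 7) N
  rw [h15] at hc
  have hq := card_sylow_modEq_one 7 (H ⧸ N)
  have hn' := card_sylow_modEq_one 7 N
  have hc3 := hmod 3 Nat.prime_three
  have hc5 := hmod 5 Nat.prime_five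
  have hcd : c ∣ 15 := ⟨_, hc.trans (mul_comm _ _)⟩
  have hc1 : c = 1 := by
    have hdiv : Nat.divisors 15 = {1, 3, 5, 15} := by decide
    have := Nat.mem_divisors.mpr ⟨hcd, by norm_num⟩
    rw [hdiv] at this
    simp only [Finset.mem_insert, Finset.mem_singleton] at this
    rcases this with rfl | rfl | rfl | rfl
    · rfl
    · rw [Nat.prime_three.factorization_self] at hc3; exact absurd hc3 (by decide)
    · rw [Nat.prime_five.factorization_self] at hc5; exact absurd hc5 (by decide)
    · rw [show (15 : ℕ) = 3 * 5 from rfl, Nat.factorization_mul (by norm_num) (by norm_num),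
        Finsupp.add_apply, Nat.prime_three.factorization_self,
        Nat.factorization_eq_zero_of_not_dvd (by norm_num)] at hc3
      exact absurd hc3 (by decide)
  rw [hc1, mul_one] at hc
  have hdiv : Nat.divisors 15 = {1, 3, 5, 15} := by decide
  have hmem := Nat.mem_divisors.mpr ⟨(⟨_, hc⟩ : Nat.card (Sylow 7 (↥H ⧸ N)) ∣ 15), by norm_num⟩
  rw [hdiv] at hmem
  simp only [Finset.mem_insert, Finset.mem_singleton] at hmem
  rcases hmem with h | h | h | h
  · rw [h, one_mul] at hc
    refine ih _ (hn ▸ hlt) (N.map H.subtype) (Subgroup.card_map_of_injective H.subtype_injective) ?_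
    exact (card_sylow_congr 7 (N.equivMapOfInjective _ H.subtype_injective)).symm.trans hc.symm
  · rw [h] at hq; exact absurd hq (by decide)
  · rw [h] at hq; exact absurd hq (by decide)
  · exact false_of_simple h

end Cfsg.Agent.S4304
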