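import Cfsg.Statements.S4305
import Cfsg.Agent.FpfAction.S3Derived

set_option autoImplicit false
open Cfsg

namespace Cfsg.Agent.S4305

/-- Let the symmetric group of degree 3 act by automorphisms on a finite solvable group `G` of order prime to 6, so that only the identity of `G` is fixed by all of it. Then the derived subgroup of `G` is nilpotent. -/
theorem result {G : Type*} [Group G] [Finite G] [Group.IsSolvable G]
    [MulDistribMulAction (Equiv.Perm (Fin 3)) G] (hcop : (Nat.card G).Coprime 6)
    (hfpf : ∀ g : G, (∀ a : Equiv.Perm (Fin 3), a • g = g) → g = 1) :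
    Group.IsNilpotent ↥(commutator G) := by
  have hcard : Nat.card (Equiv.Perm (Fin 3)) = 6 := by
    rw [Nat.card_perm, Nat.card_fin]; rfl
  have h3 : ∀ u f : Equiv.Perm (Fin 3), u * u = 1 → f * f * f = 1 → u ≠ 1 → u * f * u⁻¹ = f⁻¹ := by
    decide
  have hdih : ∀ u f : Equiv.Perm (Fin 3), orderOf u = 2 → orderOf f = 3 → u * f * u⁻¹ = f⁻¹ := by
    intro u f hu hf
    refine h3 u f ?_ ?_ ?_
    · rw [← pow_two, ← hu, pow_orderOf_eq_one]
    · have h := pow_orderOf_eq_one f
      rwa [hf, pow_succ, pow_two] at h
    · intro h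
      rw [h, orderOf_one] at hu
      exact absurd hu (by norm_num)
  have hle := CfsgLib.FpfAction.commutator_le_fittingSubgroup
    (φ := MulDistribMulAction.toMulAut (Equiv.Perm (Fin 3)) G) hcard hdih hcop fun g hg => hfpf g hg
  have := CfsgLib.Solvable.fittingSubgroup_isNilpotent (G := G)
  exact Group.nilpotent_of_surjective (Subgroup.subgroupOfEquivOfLe hle).toMonoidHom
    (Subgroup.subgroupOfEquivOfLe hle).surjective

end Cfsg.Agent.S4305
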