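import Cfsg.Statements.S4309

set_option autoImplicit false
open Cfsg

namespace Cfsg.Agent.S4309

/-- Let `π` be a set of primes, `G` a finite group with a Hall `π`-subgroup `H` (every prime divisor of the order of `H` lies in `π` and no prime of `π` divides its index), and `A` a normal subgroup of `G`. Then `H ∩ A` is a Hall `π`-subgroup of `A` and the image of `H` in `G/A` is a Hall `π`-subgroup of `G/A`. -/
theorem result {G : Type*} [Group G] [Finite G] (π : Set ℕ)
    (H A : Subgroup G) [A.Normal] (hH : Cfsg.IsPiHall π H) :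
    Cfsg.IsPiHall π ((H ⊓ A).subgroupOf A) ∧ Cfsg.IsPiHall π (H.map (QuotientGroup.mk' A)) := by
  obtain ⟨hH1, hH2⟩ := hH
  refine ⟨⟨fun p hp hd => hH1 p hp (hd.trans ?_), fun p hp hpπ hd => hH2 p hp hpπ (hd.trans ?_)⟩,
    ⟨fun p hp hd => hH1 p hp (hd.trans ?_), fun p hp hpπ hd => hH2 p hp hpπ (hd.trans ?_)⟩⟩
  · rw [Nat.card_congr (Subgroup.subgroupOfEquivOfLe (inf_le_right (a := H) (b := A))).toEquiv]
    exact Subgroup.card_dvd_of_le inf_le_left
  · change (H ⊓ A).relIndex A ∣ H.index
    rw [Subgroup.inf_relIndex_right]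
    have hle : H.relIndex (H ⊔ A) = H.relIndex A := by
      have hc : ∀ {U V : Subgroup G}, U ≤ V → Nat.card U * U.relIndex V = Nat.card V :=
        fun h => by simpa using Subgroup.relIndex_mul_relIndex (⊥ : Subgroup G) _ _ bot_le h
      have h1 := hc (le_sup_left : H ≤ H ⊔ A)
      have h2 := hc (le_sup_right : A ≤ H ⊔ A)
      rw [Subgroup.relIndex_sup_right] at h2
      have h3 := hc (inf_le_right : H ⊓ A ≤ A)
      have h4 := hc (inf_le_left : H ⊓ A ≤ H)
      rw [Subgroup.inf_relIndex_right] at h3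
      rw [Subgroup.inf_relIndex_left] at h4
      apply Nat.eq_of_mul_eq_mul_left (Nat.card_pos (α := H))
      rw [h1, ← h2, ← h3, ← h4]
      ring
    rw [← hle, ← Subgroup.relIndex_mul_index (le_sup_left : H ≤ H ⊔ A)]
    exact dvd_mul_right _ _
  · exact Subgroup.card_map_dvd H _
  · exact Subgroup.index_map_dvd _ (QuotientGroup.mk'_surjective A)

end Cfsg.Agent.S4309
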