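import Cfsg.Statements.S4316
import Cfsg.Agent.RankThreeCommutator.Main

set_option autoImplicit false
universe u
open Cfsg

namespace Cfsg.Agent.S4316

/-- There is a function `f` of two natural-number arguments with the following property. Let `q` be a prime and `A` an elementary abelian group of order `q³` acting by automorphisms on a finite group `G` of order prime to `q`, and suppose that for every non-identity `a ∈ A` the derived subgroup of the fixed-point subgroup `C_G(a)` has order at most `m`. Then the derived subgroup of `G` has order at most `f(q, m)`. -/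
theorem result :
    ∃ f : ℕ → ℕ → ℕ, ∀ (q m : ℕ) (A G : Type u) [Group A] [Finite A] [Group G] [Finite G] [MulDistribMulAction A G],
      q.Prime → Nat.card A = q ^ 3 → (∀ a b : A, a * b = b * a) → (∀ a : A, a ^ q = 1) → ¬ q ∣ Nat.card G →
      (∀ a : A, a ≠ 1 → Nat.card ↥(commutator ↥(FixedPoints.subgroup (Subgroup.zpowers a) G)) ≤ m) →
      Nat.card ↥(commutator G) ≤ f q m := by
  refine ⟨CfsgLib.RankThreeCommutator.derivedBound, ?_⟩
  intro q m A G _ _ _ _ _ hq hcard hcomm hexp hcop hm
  have := Fact.mk hq
  let φ : A →* MulAut G := MulDistribMulAction.toMulAut A G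
  have := CfsgLib.Coprime.finite_semidirectProduct φ
  let ι : G →* SemidirectProduct G A φ := SemidirectProduct.inl
  have hι : Function.Injective ι := SemidirectProduct.inl_injective
  have hfix : ∀ a : A, ι.range ⊓ Subgroup.centralizer {SemidirectProduct.inr a} =
      (FixedPoints.subgroup (Subgroup.zpowers a) G).map ι := by
    intro a
    ext x
    constructor
    · rintro ⟨⟨g, rfl⟩, hg⟩
      refine ⟨g, ?_, rfl⟩
      have h1 : a • g = g := by
        refine hι ?_
        show SemidirectProduct.inl (φ a g) = _
        rw [SemidirectProduct.inl_aut, map_inv]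
        exact mul_inv_eq_iff_eq_mul.2 (Subgroup.mem_centralizer_singleton_iff.1 hg).symm
      rintro ⟨b, hb⟩
      exact (show Subgroup.zpowers a ≤ MulAction.stabilizer A g from Subgroup.zpowers_le.2 h1) hb
    · rintro ⟨g, hg, rfl⟩
      refine ⟨⟨g, rfl⟩, Subgroup.mem_centralizer_singleton_iff.2 ?_⟩
      have h1 : a • g = g := hg ⟨a, Subgroup.mem_zpowers a⟩
      have h2 := SemidirectProduct.inl_aut (φ := φ) a g
      rw [show φ a g = g from h1, map_inv] at h2
      exact (mul_inv_eq_iff_eq_mul.1 h2.symm).symm
  have key := CfsgLib.RankThreeCommutator.card_commutator_le (q := q) (m := m)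
    (A := (SemidirectProduct.inr : A →* SemidirectProduct G A φ).range) (L := ι.range)
    ⟨⟨⟨fun x y => by
      obtain ⟨⟨_, a, rfl⟩, ⟨_, b, rfl⟩⟩ := x, y
      exact Subtype.ext (by simp only [Subgroup.coe_mul, ← map_mul, hcomm a b])⟩⟩, by
      rintro _ ⟨a, rfl⟩
      rw [← map_pow, hexp, map_one]⟩
    (by rw [← hcard]; exact (Nat.card_congr
      (MonoidHom.ofInjective SemidirectProduct.inr_injective).toEquiv).symm)
    (CfsgLib.Coprime.range_inr_le_normalizer_range_inl φ)
    (by rw [CfsgLib.Coprime.card_range_inl]; exact hcop)
    (by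
      rintro _ ⟨a, rfl⟩ ha
      rw [hfix a, ← Subgroup.map_commutator, Subgroup.card_map_of_injective hι]
      refine le_trans (le_of_eq ?_) (hm a fun h => ha (by rw [h, map_one]))
      rw [← Subgroup.card_map_of_injective (K := commutator _)
        (FixedPoints.subgroup (Subgroup.zpowers a) G).subtype_injective,
        Subgroup.map_subtype_commutator])
  rw [show ι.range = (⊤ : Subgroup G).map ι from MonoidHom.range_eq_map ι,
    ← Subgroup.map_commutator, Subgroup.card_map_of_injective hι] at key
  exact key

end Cfsg.Agent.S4316
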