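import Cfsg.Statements.S4320
import Mathlib

set_option autoImplicit false
open Cfsg

namespace Cfsg.Agent.S4320

/-- A sublattice containing `h • ℤ^G` has full rank. -/
theorem finrank_le_of_smul_mem {G : Type*} [Fintype G] (L : Submodule ℤ (G → ℤ)) {h : ℤ}
    (hh : h ≠ 0) (hmem : ∀ x, h • x ∈ L) : Fintype.card G ≤ Module.finrank ℤ L := by
  have hf : Function.Injective (LinearMap.codRestrict L (h • LinearMap.id) hmem) := by
    intro x y e
    refine funext fun i => mul_left_cancel₀ hh ?_
    exact congrArg (fun z : L => (z : G → ℤ) i) e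
  exact (Module.finrank_fintype_fun_eq_card ℤ).symm.le.trans
    (LinearMap.finrank_le_finrank_of_injective hf)

open MonoidAlgebra in
/- Algebraic core: a derivation into a module over `ℤ[Q]`, `Q` the abelianisation, whose
projection is `g ↦ ḡ - 1`, is killed by the norm element. -/
set_option maxHeartbeats 800000 in
theorem norm_smul_eq_zero {G : Type*} [Group G] [Finite G] {M : Type*} [AddCommGroup M]
    [Module (MonoidAlgebra ℤ (Abelianization G)) M] [Fintype (Abelianization G)] (d : G → M)
    (π : M →ₗ[MonoidAlgebra ℤ (Abelianization G)] MonoidAlgebra ℤ (Abelianization G))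
    (hd : ∀ g g', d (g * g') = d g + single (Abelianization.of g) (1 : ℤ) • d g')
    (hπ : ∀ g, π (d g) = single (Abelianization.of g) 1 - 1) (g : G) :
    (∑ x : Abelianization G, single x (1 : ℤ)) • d g = 0 := by
  classical
  let _ := Fintype.ofFinite G
  let R := MonoidAlgebra ℤ (Abelianization G)
  let ε : R →ₐ[ℤ] ℤ := MonoidAlgebra.lift ℤ ℤ (Abelianization G) 1
  have hε : ∀ x n, ε (single x n) = n := fun x n => by
    show MonoidAlgebra.lift ℤ ℤ (Abelianization G) 1 (single x n) = n
    rw [lift_single]; simp
  set I : Ideal R := RingHom.ker ε.toRingHom with hI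
  set J : Submodule R M := I • Submodule.span R (Set.range d) with hJ
  have hψ : ∀ a b, d (a * b) - (d a + d b) ∈ J := fun a b => by
    rw [hd, add_sub_add_left_eq_sub]
    nth_rewrite 2 [← one_smul R (d b)]
    rw [← sub_smul]
    refine Submodule.smul_mem_smul ?_ (Submodule.subset_span ⟨b, rfl⟩)
    rw [hI, RingHom.mem_ker, map_sub, map_one]
    show ε _ - 1 = 0
    rw [hε, sub_self]
  let ψ : G →* Multiplicative (M ⧸ J) :=
    MonoidHom.mk' (fun a => Multiplicative.ofAdd (Submodule.Quotient.mk (d a))) fun a b => by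
      rw [← ofAdd_add, ← Submodule.Quotient.mk_add, EmbeddingLike.apply_eq_iff_eq,
        Submodule.Quotient.eq]
      exact hψ a b
  let ψ' : Abelianization G →* Multiplicative (M ⧸ J) := Abelianization.lift ψ
  -- the relation lattice
  let φ : (G → ℤ) →ₗ[ℤ] Additive (Abelianization G) :=
    Fintype.linearCombination ℤ (fun a => Additive.ofMul (Abelianization.of a))
  set L : Submodule ℤ (G → ℤ) := LinearMap.ker φ with hL
  have hsurj : Function.Surjective φ := fun x => by
    obtain ⟨a, ha⟩ := QuotientGroup.mk_surjective x.toMul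
    refine ⟨Pi.single a 1, ?_⟩
    rw [Fintype.linearCombination_apply_single, one_smul]
    exact congrArg Additive.ofMul ha
  have hindex : Nat.card ((G → ℤ) ⧸ L) = Nat.card (Abelianization G) :=
    Nat.card_congr ((LinearMap.quotKerEquivOfSurjective φ hsurj).toEquiv.trans Additive.toMul)
  obtain ⟨h, hh⟩ : ∃ h : ℕ, h = Nat.card (Abelianization G) := ⟨_, rfl⟩
  have hh0 : (h : ℤ) ≠ 0 := by
    rw [hh]; exact_mod_cast Nat.card_pos.ne'
  rw [← hh] at hindex
  have hrank : Module.finrank ℤ L = Fintype.card G := by
    refine le_antisymm (le_of_le_of_eq (Submodule.finrank_le L) (Module.finrank_fintype_fun_eq_card ℤ)) ?_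
    have hmem : ∀ x : G → ℤ, (h : ℤ) • x ∈ L := fun x => by
      rw [hL, LinearMap.mem_ker, map_smul, natCast_zsmul]
      show Additive.ofMul ((φ x).toMul ^ h) = 0
      rw [hh, pow_card_eq_one']
      rfl
    exact finrank_le_of_smul_mem L hh0 hmem
  let bL : Module.Basis G ℤ L :=
    (Module.finBasisOfFinrankEq ℤ L hrank).reindex (Fintype.equivFin G).symm
  have hdet : ((Pi.basisFun ℤ G).det ((↑) ∘ bL)).natAbs = h := by
    rw [Submodule.natAbs_det_basis_change (Pi.basisFun ℤ G) L bL, hindex]
  -- the matrix of relations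
  have hrel : ∀ j, ∑ i, (bL j : G → ℤ) i • d i ∈ J := fun j => by
    have h1 : φ (bL j : G → ℤ) = 0 := (bL j).2
    rw [Fintype.linearCombination_apply] at h1
    have h2 := congrArg (MonoidHom.toAdditive ψ') h1
    rw [map_sum, map_zero] at h2
    simp only [map_zsmul] at h2
    rw [← Submodule.Quotient.mk_eq_zero, ← Submodule.mkQ_apply, map_sum]
    simp only [map_zsmul]
    exact h2
  have hcoef : ∀ j, ∃ c : G → R, (∀ i, ε (c i) = 0) ∧
      ∑ i, c i • d i = ∑ i, (bL j : G → ℤ) i • d i := fun j => by
    obtain ⟨c, hc, hce⟩ := (Submodule.mem_ideal_smul_span_iff_exists_sum I d _).mp (hrel j)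
    refine ⟨fun i => c i, fun i => hc i, ?_⟩
    rw [← hce, Finsupp.sum_fintype _ _ (fun i => by rw [zero_smul])]
  choose c hc hce using hcoef
  let P : Matrix G G R := fun j i => ((bL j : G → ℤ) i : R) - c j i
  have hP : ∀ j, ∑ i, P j i • d i = 0 := fun j => by
    simp only [P, sub_smul, Finset.sum_sub_distrib, hce j, Int.cast_smul_eq_zsmul, sub_self]
  set δ := P.det with hδ
  have hkill : ∀ a, δ • d a = 0 := fun a => by
    have h1 : ∑ i, (P.adjugate * P) a i • d i = 0 := by
      simp only [Matrix.mul_apply, Finset.sum_smul, mul_smul]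
      rw [Finset.sum_comm]
      refine Finset.sum_eq_zero fun j _ => ?_
      rw [← Finset.smul_sum, hP j, smul_zero]
    rw [Matrix.adjugate_mul, Finset.sum_eq_single a] at h1
    · simpa [← hδ] using h1
    · intro b _ hb; simp [Matrix.one_apply_ne (Ne.symm hb)]
    · intro hb; exact absurd (Finset.mem_univ a) hb
  have hεδ : (ε δ).natAbs = h := by
    rw [← hdet, Module.Basis.det_apply, ← Matrix.det_transpose]
    congr 1
    rw [hδ]
    have := RingHom.map_det ε.toRingHom P
    rw [show ε P.det = ε.toRingHom P.det from rfl, this]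
    congr 1
    ext j i
    rw [Matrix.transpose_apply, Module.Basis.toMatrix_apply, Pi.basisFun_repr]
    show ε (P j i) = _
    simp only [P]
    rw [map_sub, hc, sub_zero, map_intCast, Int.cast_id]
    rfl
  -- `δ` is constant
  have hconst : ∀ x, δ.coeff x = δ.coeff 1 := fun x => by
    obtain ⟨a, rfl⟩ : ∃ a, Abelianization.of a = x := QuotientGroup.mk_surjective x
    have h1 : δ * (single (Abelianization.of a) 1 - 1) = 0 := by
      rw [← hπ a, ← smul_eq_mul, ← map_smul, hkill a, map_zero]
    rw [mul_sub, mul_one, sub_eq_zero] at h1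
    have h2 := congrArg (fun z => z.coeff (Abelianization.of a)) h1
    rw [mul_comm, coeff_single_mul_apply, one_mul, inv_mul_cancel] at h2
    exact h2.symm
  set k : ℤ := δ.coeff 1
  have hδN : δ = k • ∑ x : Abelianization G, single x (1 : ℤ) := by
    refine MonoidAlgebra.ext (Finsupp.ext fun x => ?_)
    rw [coeff_smul_apply, coeff_sum, Finsupp.finsetSum_apply, Finset.sum_eq_single x (fun y _ hy => by
      rw [coeff_single, Finsupp.single_eq_of_ne (Ne.symm hy)]) (fun hx => absurd (Finset.mem_univ x) hx),
      coeff_single, Finsupp.single_eq_same, smul_eq_mul, mul_one, hconst x]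
  have hk : k.natAbs = 1 := by
    rw [hδN, map_zsmul, map_sum, Finset.sum_congr rfl (fun x _ => hε x 1), Finset.sum_const,
      Finset.card_univ, nsmul_one, smul_eq_mul, Int.natAbs_mul, Int.natAbs_natCast,
      ← Nat.card_eq_fintype_card, ← hh] at hεδ
    exact Nat.eq_of_mul_eq_mul_right (Nat.pos_of_ne_zero (by exact_mod_cast hh0)) (hεδ.trans (one_mul h).symm)
  have h1 := hkill g
  rw [hδN, smul_assoc] at h1
  rcases Int.natAbs_eq_iff.mp hk with e | e <;> simpa [e] using h1


/-- The Principal Ideal Theorem of class field theory in its group-theoretic form: for every finite group `G`, the transfer homomorphism from `G` into the abelianization `G'/G''` of its derived subgroup `G'` is the trivial homomorphism. -/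
theorem result {G : Type*} [Group G] [Finite G] :
    MonoidHom.transfer (Abelianization.of : ↥(commutator G) →* Abelianization ↥(commutator G)) =
      (1 : G →* Abelianization ↥(commutator G)) := by
  classical
  let _ := Fintype.ofFinite (Abelianization G)
  let Q := Abelianization G
  let A := Additive (Abelianization ↥(commutator G))
  let R := MonoidAlgebra ℤ Q
  let τ : Q →* Module.End ℤ (Q → A) :=
    { toFun := fun y => LinearMap.funLeft ℤ A (fun x => y⁻¹ * x)
      map_one' := LinearMap.ext fun f => funext fun x => by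
        show f (1⁻¹ * x) = f x
        rw [inv_one, one_mul]
      map_mul' := fun y z => LinearMap.ext fun f => funext fun x => by
        show f ((y * z)⁻¹ * x) = f (z⁻¹ * (y⁻¹ * x))
        rw [mul_inv_rev, mul_assoc] }
  let Φ : R →ₐ[ℤ] Module.End ℤ (Q → A) := MonoidAlgebra.lift ℤ (Module.End ℤ (Q → A)) Q τ
  let _ : Module R (Q → A) := Module.compHom (Q → A) Φ.toRingHom
  have hsmul : ∀ (y : Q) (f : Q → A) (x : Q), (MonoidAlgebra.single y (1 : ℤ) • f : Q → A) x =
      f (y⁻¹ * x) := fun y f x => by
    show Φ (MonoidAlgebra.single y 1) f x = _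
    show MonoidAlgebra.lift ℤ (Module.End ℤ (Q → A)) Q τ (MonoidAlgebra.single y 1) f x = _
    rw [MonoidAlgebra.lift_single, one_smul]
    rfl
  obtain ⟨out, hout⟩ : ∃ out : Q → G, ∀ q, Abelianization.of (out q) = q :=
    ⟨_, Function.surjInv_eq (f := (Abelianization.of : G →* Q)) QuotientGroup.mk_surjective⟩
  let T : (commutator G).LeftTransversal :=
    ⟨Set.range out, Subgroup.isComplement_range_left (f := out) hout⟩
  have hmem : ∀ (a : G) (x : Q), (out x)⁻¹ * a * out ((Abelianization.of a)⁻¹ * x) ∈ commutator G := by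
    intro a x
    refine (QuotientGroup.eq_one_iff _).mp ?_
    show Abelianization.of ((out x)⁻¹ * a * out ((Abelianization.of a)⁻¹ * x)) = (1 : Q)
    rw [map_mul, map_mul, map_inv, hout, hout, mul_assoc, mul_inv_cancel_left, inv_mul_cancel]
  let f : G → Q → A := fun a x => Additive.ofMul (Abelianization.of (⟨_, hmem a x⟩ : commutator G))
  let d : G → R × (Q → A) := fun a => (MonoidAlgebra.single (Abelianization.of a) 1 - 1, f a)
  have hd : ∀ a b, d (a * b) = d a + MonoidAlgebra.single (Abelianization.of a) (1 : ℤ) • d b := by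
    intro a b
    refine Prod.ext ?_ (funext fun x => ?_)
    · show (MonoidAlgebra.single (Abelianization.of (a * b)) 1 - 1 : R) =
        (MonoidAlgebra.single (Abelianization.of a) 1 - 1) + MonoidAlgebra.single (Abelianization.of a) 1 *
          (MonoidAlgebra.single (Abelianization.of b) 1 - 1)
      rw [mul_sub, MonoidAlgebra.single_mul_single, one_mul, mul_one, map_mul]
      abel
    · show f (a * b) x = f a x + (MonoidAlgebra.single (Abelianization.of a) (1 : ℤ) • f b : Q → A) x
      rw [hsmul]
      show Additive.ofMul (Abelianization.of (⟨_, hmem (a * b) x⟩ : commutator G)) =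
        Additive.ofMul (Abelianization.of (⟨_, hmem a x⟩ : commutator G) *
          Abelianization.of (⟨_, hmem b ((Abelianization.of a)⁻¹ * x)⟩ : commutator G))
      rw [← map_mul]
      refine congrArg _ (congrArg _ (Subtype.ext ?_))
      show (out x)⁻¹ * (a * b) * out ((Abelianization.of (a * b))⁻¹ * x) =
        (out x)⁻¹ * a * out ((Abelianization.of a)⁻¹ * x) *
          ((out ((Abelianization.of a)⁻¹ * x))⁻¹ * b *
            out ((Abelianization.of b)⁻¹ * ((Abelianization.of a)⁻¹ * x)))
      rw [show (Abelianization.of b)⁻¹ * ((Abelianization.of a)⁻¹ * x) =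
        (Abelianization.of (a * b))⁻¹ * x by rw [map_mul, mul_inv_rev, mul_assoc]]
      group
  refine MonoidHom.ext fun g => ?_
  have key := norm_smul_eq_zero d (LinearMap.fst R R (Q → A)) hd (fun _ => rfl) g
  have key2 := congrFun (congrArg Prod.snd key) 1
  simp only [Finset.sum_smul, Prod.snd_sum, Prod.smul_snd, Finset.sum_apply, Prod.snd_zero,
    Pi.zero_apply, hsmul] at key2
  rw [MonoidHom.transfer_def _ T g, MonoidHom.one_apply]
  let _ := (commutator G).fintypeQuotientOfFiniteIndex
  refine Additive.ofMul.injective ?_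
  rw [ofMul_one, Subgroup.leftTransversals.diff]
  refine Eq.trans ?_ key2
  rw [ofMul_prod]
  refine Fintype.sum_equiv (Equiv.inv Q) _ _ fun x => ?_
  show Additive.ofMul (Abelianization.of _) =
    Additive.ofMul (Abelianization.of (⟨_, hmem g _⟩ : commutator G))
  refine congrArg _ (congrArg _ (Subtype.ext ?_))
  show (T.2.leftQuotientEquiv x : G)⁻¹ * ((g • T).2.leftQuotientEquiv x : G) = _
  have hT : ∀ q : G ⧸ commutator G, (T.2.leftQuotientEquiv q : G) = out q :=
    Subgroup.IsComplement.leftQuotientEquiv_apply hout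
  refine (congrArg₂ (fun u v : G => u⁻¹ * v) (hT x)
    ((Subgroup.smul_apply_eq_smul_apply_inv_smul g T x).trans
      (congrArg (fun v : G => g * v) (hT (g⁻¹ • (show G ⧸ commutator G from x)))))).trans ?_
  have hact : ∀ q : G ⧸ commutator G, out (g⁻¹ • q) = out ((Abelianization.of g)⁻¹ * (show Q from q)) := by
    intro q
    induction q using QuotientGroup.induction_on with
    | _ z => rfl
  simp only [Equiv.inv_apply, inv_inv, mul_one]
  exact (congrArg (fun v : G => (out x)⁻¹ * (g * v)) (hact x)).trans (mul_assoc _ _ _).symm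

end Cfsg.Agent.S4320
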