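import Cfsg.Statements.S4321
import Cfsg.Agent.SingularClassGraph.Coprime

set_option autoImplicit false
open Cfsg

namespace Cfsg.Agent.S4321

/-- Let `G` be a finite group and `p` a prime not dividing the order of the centre of `G`. Consider the primes dividing the size of some conjugacy class of a `p`-singular element (an element of order divisible by `p`), two of them adjacent when their product divides such a class size. Then any two distinct such primes are joined by a path with at most 3 edges (the graph is connected of diameter at most 3). -/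
theorem result {G : Type*} [Group G] [Finite G] (p : ℕ) [Fact p.Prime]
    (hZ : ¬ p ∣ Nat.card ↥(Subgroup.center G)) (r s : ℕ) (hr : (r.Prime ∧ ∃ x : G, p ∣ orderOf x ∧ r ∣ (Subgroup.centralizer ({x} : Set G)).index)) (hs : (s.Prime ∧ ∃ x : G, p ∣ orderOf x ∧ s ∣ (Subgroup.centralizer ({x} : Set G)).index)) (hrs : r ≠ s) :
    (∃ x : G, p ∣ orderOf x ∧ r * s ∣ (Subgroup.centralizer ({x} : Set G)).index) ∨ (∃ t : ℕ, (t.Prime ∧ ∃ x : G, p ∣ orderOf x ∧ t ∣ (Subgroup.centralizer ({x} : Set G)).index) ∧ t ≠ r ∧ t ≠ s ∧ (∃ x : G, p ∣ orderOf x ∧ r * t ∣ (Subgroup.centralizer ({x} : Set G)).index) ∧ (∃ x : G, p ∣ orderOf x ∧ t * s ∣ (Subgroup.centralizer ({x} : Set G)).index)) ∨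
      (∃ t u : ℕ, (t.Prime ∧ ∃ x : G, p ∣ orderOf x ∧ t ∣ (Subgroup.centralizer ({x} : Set G)).index) ∧ (u.Prime ∧ ∃ x : G, p ∣ orderOf x ∧ u ∣ (Subgroup.centralizer ({x} : Set G)).index) ∧ t ≠ r ∧ u ≠ s ∧ t ≠ u ∧ (∃ x : G, p ∣ orderOf x ∧ r * t ∣ (Subgroup.centralizer ({x} : Set G)).index) ∧ (∃ x : G, p ∣ orderOf x ∧ t * u ∣ (Subgroup.centralizer ({x} : Set G)).index) ∧ (∃ x : G, p ∣ orderOf x ∧ u * s ∣ (Subgroup.centralizer ({x} : Set G)).index)) := by
  obtain ⟨hr', yr, hyr, hry⟩ := hr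
  obtain ⟨hs', ys, hys, hsy⟩ := hs
  have hpp : p.Prime := Fact.out
  have hpart : ∀ y : G, p ∣ orderOf y → ∃ u : G, (∃ i : ℕ, u ^ p ^ i = 1) ∧ p ∣ orderOf u ∧
      (Subgroup.centralizer ({u} : Set G)).index ∣ (Subgroup.centralizer ({y} : Set G)).index ∧
      1 < (Subgroup.centralizer ({u} : Set G)).index := by
    intro y hy
    obtain ⟨a, b, ha, hb, ⟨k, hk⟩, hbp, hab⟩ := CfsgLib.LocalStructure.exists_pPart_mul (p := p) y
    have hk0 : k ≠ 0 := by
      rintro rfl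
      rw [pow_zero, orderOf_eq_one_iff] at hk
      rw [← hab, hk, one_mul] at hy
      exact hpp.ne_one (Nat.eq_one_of_dvd_coprimes hbp hy dvd_rfl)
    have hpa : p ∣ orderOf a := hk ▸ dvd_pow_self p hk0
    refine ⟨a, ⟨k, by rw [← hk, pow_orderOf_eq_one]⟩, hpa,
      Subgroup.index_dvd_of_le fun d hd => ?_, ?_⟩
    · obtain ⟨j, rfl⟩ := Subgroup.mem_zpowers_iff.mp ha
      exact Subgroup.mem_centralizer_singleton_iff.mpr
        ((show Commute d y from Subgroup.mem_centralizer_singleton_iff.mp hd).zpow_right j).eq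
    · by_contra hle
      have h1 : (Subgroup.centralizer ({a} : Set G)).index = 1 :=
        le_antisymm (not_lt.mp hle) (Nat.pos_of_ne_zero Subgroup.index_ne_zero_of_finite)
      refine hZ (hpa.trans (Subgroup.orderOf_dvd_natCard _ (Subgroup.mem_center_iff.mpr fun g => ?_)))
      exact Subgroup.mem_centralizer_singleton_iff.mp
        ((Subgroup.index_eq_one.mp h1).ge (Subgroup.mem_top g))
  obtain ⟨u, hu, hpu, hdu, hu1⟩ := hpart yr hyr
  obtain ⟨v, hv, hpv, hdv, hv1⟩ := hpart ys hys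
  by_cases hcop : (Subgroup.centralizer ({u} : Set G)).index.Coprime
      (Subgroup.centralizer ({v} : Set G)).index
  · obtain ⟨w, hw, hwu, hwv⟩ := CfsgLib.SingularClassGraph.exists_link hu hv hu1 hv1 hcop
    obtain ⟨t, ht, htw, htu⟩ := Nat.Prime.not_coprime_iff_dvd.mp hwu
    obtain ⟨t', ht', htw', htv⟩ := Nat.Prime.not_coprime_iff_dvd.mp hwv
    have htne : t ≠ t' := fun h => ht.ne_one (Nat.eq_one_of_dvd_coprimes hcop htu (h ▸ htv))
    have htt : t * t' ∣ (Subgroup.centralizer ({w} : Set G)).index :=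
      ((Nat.coprime_primes ht ht').mpr htne).mul_dvd_of_dvd_of_dvd htw htw'
    by_cases h1 : t = s
    · exact Or.inl ⟨yr, hyr, ((Nat.coprime_primes hr' hs').mpr hrs).mul_dvd_of_dvd_of_dvd hry
        (h1 ▸ htu.trans hdu)⟩
    by_cases h2 : t' = r
    · exact Or.inl ⟨ys, hys, ((Nat.coprime_primes hr' hs').mpr hrs).mul_dvd_of_dvd_of_dvd
        (h2 ▸ htv.trans hdv) hsy⟩
    by_cases h3 : t = r
    · by_cases h4 : t' = s
      · exact Or.inl ⟨w, hw, h3 ▸ h4 ▸ htt⟩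
      · exact Or.inr (Or.inl ⟨t', ⟨ht', ys, hys, htv.trans hdv⟩, h2, h4, ⟨w, hw, h3 ▸ htt⟩, ys, hys,
          ((Nat.coprime_primes ht' hs').mpr h4).mul_dvd_of_dvd_of_dvd (htv.trans hdv) hsy⟩)
    have hrt : r * t ∣ (Subgroup.centralizer ({yr} : Set G)).index :=
      ((Nat.coprime_primes hr' ht).mpr (Ne.symm h3)).mul_dvd_of_dvd_of_dvd hry (htu.trans hdu)
    by_cases h4 : t' = s
    · exact Or.inr (Or.inl ⟨t, ⟨ht, yr, hyr, htu.trans hdu⟩, h3, h1, ⟨yr, hyr, hrt⟩, w, hw,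
        h4 ▸ htt⟩)
    · exact Or.inr (Or.inr ⟨t, t', ⟨ht, yr, hyr, htu.trans hdu⟩, ⟨ht', ys, hys, htv.trans hdv⟩,
        h3, h4, htne, ⟨yr, hyr, hrt⟩, ⟨w, hw, htt⟩, ys, hys,
        ((Nat.coprime_primes ht' hs').mpr h4).mul_dvd_of_dvd_of_dvd (htv.trans hdv) hsy⟩)
  · obtain ⟨t, ht, htu, htv⟩ := Nat.Prime.not_coprime_iff_dvd.mp hcop
    by_cases h1 : t = r
    · exact Or.inl ⟨ys, hys, ((Nat.coprime_primes hr' hs').mpr hrs).mul_dvd_of_dvd_of_dvd
        (h1 ▸ htv.trans hdv) hsy⟩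
    by_cases h2 : t = s
    · exact Or.inl ⟨yr, hyr, ((Nat.coprime_primes hr' hs').mpr hrs).mul_dvd_of_dvd_of_dvd hry
        (h2 ▸ htu.trans hdu)⟩
    exact Or.inr (Or.inl ⟨t, ⟨ht, yr, hyr, htu.trans hdu⟩, h1, h2,
      ⟨yr, hyr, ((Nat.coprime_primes hr' ht).mpr (Ne.symm h1)).mul_dvd_of_dvd_of_dvd hry
        (htu.trans hdu)⟩,
      ys, hys, ((Nat.coprime_primes ht hs').mpr h2).mul_dvd_of_dvd_of_dvd (htv.trans hdv) hsy⟩)

end Cfsg.Agent.S4321
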