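import Cfsg.Statements.S4325
import Cfsg.Agent.SwapClosure.Basic

set_option autoImplicit false
open Cfsg

namespace Cfsg.Agent.S4325

open CfsgLib.SwapClosure Equiv

/-- Let r be a prime and m a natural number with m + 1 < r, and let π be a set of primes containing every prime below r but not r itself. Then in the symmetric group of degree r any m transpositions generate a π-subgroup, while O_π of the symmetric group is trivial. (So no bound on the number of conjugates that works for all π exists in the π-radical analogue of the Baer–Suzuki Theorem.) -/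
theorem result (r m : ℕ) (hr : r.Prime)
    (hm : m + 1 < r) (π : Set ℕ) (hπ : ∀ q : ℕ, q.Prime → q < r → q ∈ π) (hrπ : r ∉ π)
    (t : Fin m → Equiv.Perm (Fin r)) (ht : ∀ i, (t i).IsSwap) :
    Cfsg.IsPiSubgroup π (Subgroup.closure (Set.range t)) ∧ Cfsg.piCore π (Equiv.Perm (Fin r)) = ⊥ := by
  have : Fact r.Prime := ⟨hr⟩
  have hcyc : ∀ σ : Perm (Fin r), orderOf σ = r → ∀ x y, Perm.SameCycle σ x y := by
    intro σ hσ
    have hc : σ.IsCycle := Perm.isCycle_of_prime_order'' (by rwa [Fintype.card_fin]) (by rwa [Fintype.card_fin])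
    have hs : σ.support.card = r := hc.orderOf.symm.trans hσ
    have hu : σ.support = Finset.univ := Finset.eq_univ_of_card _ (by rw [hs, Fintype.card_fin])
    exact fun x y => hc.sameCycle (Perm.mem_support.mp (hu ▸ Finset.mem_univ x))
      (Perm.mem_support.mp (hu ▸ Finset.mem_univ y))
  have hprimes : ∀ H : Subgroup (Perm (Fin r)), ∀ q : ℕ, q.Prime → q ∣ Nat.card H → q ≤ r := by
    intro H q hq hd
    have := hd.trans (Subgroup.card_subgroup_dvd_card H)
    rwa [Nat.card_perm, Nat.card_fin, hq.dvd_factorial] at this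
  constructor
  · intro q hq hd
    refine hπ q hq (lt_of_le_of_ne (hprimes _ q hq hd) ?_)
    rintro rfl
    obtain ⟨⟨σ, hσ⟩, ho⟩ := exists_prime_orderOf_dvd_card' q hd
    rw [Subgroup.orderOf_mk] at ho
    obtain ⟨f, hf, hcard⟩ := exists_label (List.ofFn t) (by
      intro s hs
      obtain ⟨i, rfl⟩ := List.mem_ofFn.mp hs
      exact ht i)
    have hinv : ∀ x, f (σ x) = f x := label_closure (f := f) (s := Set.range t)
      (by rintro _ ⟨i, rfl⟩ x; exact hf _ (List.mem_ofFn.mpr ⟨i, rfl⟩) x) hσ
    have hconst : ∀ x y, f x = f y := by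
      intro x y
      obtain ⟨i, rfl⟩ := (hcyc σ ho x y).exists_nat_pow_eq
      clear * - hinv
      induction i with
      | zero => simp
      | succ i ih => rw [pow_succ', Perm.mul_apply, hinv]; exact ih
    have h1 : (Finset.univ.image f).card ≤ 1 := Finset.card_le_one.mpr (by
      intro a ha b hb
      obtain ⟨x, -, rfl⟩ := Finset.mem_image.mp ha
      obtain ⟨y, -, rfl⟩ := Finset.mem_image.mp hb
      exact hconst x y)
    rw [Fintype.card_fin, List.length_ofFn] at hcard
    omega
  · rw [Cfsg.piCore, sSup_eq_bot]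
    rintro N ⟨hN, hpi⟩
    by_contra hne
    obtain ⟨σ, hσN, hσ⟩ := (Subgroup.bot_or_exists_ne_one N).resolve_left hne
    obtain ⟨a, ha⟩ : ∃ a, σ a ≠ a := by
      by_contra h
      push Not at h
      exact hσ (Equiv.ext h)
    -- the orbit of `a` under the normal subgroup is everything
    have hall : ∀ b, ∃ s ∈ N, s a = b := by
      intro b
      rcases eq_or_ne b a with rfl | hb
      · exact ⟨1, N.one_mem, rfl⟩
      · refine ⟨Equiv.swap (σ a) b * σ * (Equiv.swap (σ a) b)⁻¹, hN.conj_mem σ hσN _, ?_⟩
        rw [Perm.mul_apply, Perm.mul_apply, Equiv.swap_inv,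
          Equiv.swap_apply_of_ne_of_ne (fun h => ha h.symm) (fun h => hb h.symm), Equiv.swap_apply_left]
    have hdvd : r ∣ Nat.card N := by
      have horb : MulAction.orbit N a = Set.univ := by
        ext b
        simp only [Set.mem_univ, iff_true]
        obtain ⟨s, hs, hsb⟩ := hall b
        exact ⟨⟨s, hs⟩, hsb⟩
      have h := MulAction.index_stabilizer N a
      rw [horb, Set.ncard_univ, Nat.card_fin] at h
      exact (dvd_of_eq h.symm).trans (Subgroup.index_dvd_card (MulAction.stabilizer N a))
    exact hrπ (hpi r hr hdvd)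

end Cfsg.Agent.S4325
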