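import Cfsg.Statements.S4326

set_option autoImplicit false
open Pointwise
open Cfsg

namespace Cfsg.Agent.S4326

open MulAction

/-- Let G be a finite group, p a prime, x an automorphism of G of p-power order and M the subgroup of fixed points of x. Suppose that p divides the index of M and that either M is self-normalizing or M has trivial center. Then some conjugate of M is mapped onto itself by x but is not fixed elementwise by x. -/
theorem result {G : Type*} [Group G] [Finite G]
    (p : ℕ) [Fact p.Prime] (x : MulAut G) (hx : ∃ k : ℕ, orderOf x = p ^ k) (M : Subgroup G)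
    (hM : ∀ g : G, g ∈ M ↔ x g = g) (hp : p ∣ M.index)
    (hself : Subgroup.normalizer (M : Set G) = M ∨ Subgroup.center M = ⊥) :
    ∃ g : G, (∀ y ∈ MulAut.conj g • M, x y ∈ MulAut.conj g • M) ∧ ∃ y ∈ MulAut.conj g • M, x y ≠ y := by
  have hp' : p.Prime := Fact.out
  let H := Subgroup.zpowers x
  have hfix : ∀ h : H, ∀ m ∈ M, (h : MulAut G) m = m := by
    rintro ⟨h, hh⟩ m hm
    obtain ⟨i, rfl⟩ := Subgroup.mem_zpowers_iff.mp hh
    have hxs : x ∈ stabilizer (MulAut G) m := (hM m).mp hm
    exact Subgroup.zpow_mem _ hxs i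
  let _ : MulAction H (G ⧸ M) :=
    { smul := fun h => Quotient.map' (fun g => (h : MulAut G) g) (fun a b hab => by
        rw [QuotientGroup.leftRel_apply] at hab ⊢
        rw [← map_inv, ← map_mul, hfix h _ hab]; exact hab)
      one_smul := fun c => Quotient.inductionOn' c fun g => rfl
      mul_smul := fun a b c => Quotient.inductionOn' c fun g => rfl }
  have hH : IsPGroup p H := IsPGroup.of_card (n := hx.choose) (by rw [Nat.card_zpowers]; exact hx.choose_spec)
  obtain ⟨c, hc, hcne⟩ := hH.exists_fixed_point_of_prime_dvd_card_of_fixed_point (α := G ⧸ M)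
    (by rw [← Subgroup.index_eq_card]; exact hp) (a := ((1 : G) : G ⧸ M))
    (fun h => congrArg QuotientGroup.mk (map_one (h : MulAut G)))
  obtain ⟨g, rfl⟩ := QuotientGroup.mk_surjective c
  have hgM : g ∉ M := fun h => hcne (QuotientGroup.eq.mpr (by simpa using h))
  have hm : g⁻¹ * x g ∈ M := by
    have h : QuotientGroup.mk (s := M) g = QuotientGroup.mk (s := M) (x g) := (hc ⟨x, Subgroup.mem_zpowers x⟩).symm
    exact QuotientGroup.eq.mp h
  have himg : ∀ y ∈ M, x (g * y * g⁻¹) = g * ((g⁻¹ * x g) * y * (g⁻¹ * x g)⁻¹) * g⁻¹ := by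
    intro y hy
    rw [map_mul, map_mul, map_inv, (hM y).mp hy]
    group
  refine ⟨g, ?_, ?_⟩
  · rintro _ ⟨y, hy, rfl⟩
    refine ⟨(g⁻¹ * x g) * y * (g⁻¹ * x g)⁻¹, M.mul_mem (M.mul_mem hm hy) (M.inv_mem hm), ?_⟩
    exact (himg y hy).symm
  · by_contra hall
    push Not at hall
    have hall' : ∀ y ∈ M, x (g * y * g⁻¹) = g * y * g⁻¹ := fun y hy => hall _ ⟨y, hy, rfl⟩
    rcases hself with hN | hZ
    · apply hgM
      rw [← hN, Subgroup.mem_normalizer_iff]
      have hsub : M.map (MulAut.conj g).toMonoidHom ≤ M := by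
        rintro _ ⟨y, hy, rfl⟩
        exact (hM _).mpr (hall' y hy)
      have heq : M.map (MulAut.conj g).toMonoidHom = M := Subgroup.eq_of_le_of_card_ge hsub
        (Nat.card_congr (Subgroup.equivMapOfInjective M _ (MulAut.conj g).injective).toEquiv).le
      intro y
      constructor
      · exact fun hy => hsub ⟨y, hy, rfl⟩
      · intro hy
        rw [← heq] at hy
        obtain ⟨z, hz, he⟩ := (Subgroup.mem_map).mp hy
        rwa [(MulAut.conj g).injective (he : (MulAut.conj g) z = (MulAut.conj g) y)] at hz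
    · have hcen : (⟨g⁻¹ * x g, hm⟩ : M) ∈ Subgroup.center M := by
        rw [Subgroup.mem_center_iff]
        rintro ⟨y, hy⟩
        apply Subtype.ext
        show y * (g⁻¹ * x g) = g⁻¹ * x g * y
        have := mul_left_cancel (mul_right_cancel ((himg y hy).symm.trans (hall' y hy)))
        rw [mul_inv_eq_iff_eq_mul] at this
        exact this.symm
      rw [hZ, Subgroup.mem_bot] at hcen
      apply hgM
      rw [hM]
      have h1 : g⁻¹ * x g = 1 := congrArg Subtype.val hcen
      exact (inv_mul_eq_one.mp h1).symm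

end Cfsg.Agent.S4326
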