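import Cfsg.Statements.S4330
import Cfsg.Agent.ClassSubnormal.Module
import Cfsg.Agent.PLocal.Cores
import Cfsg.Agent.Solvable.Basic

set_option autoImplicit false
open Pointwise
open Cfsg

namespace Cfsg.Agent.S4330

universe u

/-- Group-theoretic form of `exists_moved` for an elementary abelian `q`-group. -/
theorem exists_moved_abelem {G : Type u} [Group G] {E : Type u} [CommGroup E] [Finite E] (q : ℕ)
    [Fact q.Prime] (hexp : ∀ x : E, x ^ q = 1) (p : ℕ) [hp : Fact p.Prime] (hp2 : p ≠ 2) (hqp : q ≠ p)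
    (φ : G →* MulAut E) (P L : Subgroup G) [L.Normal] (hP : IsPGroup p P)
    (himg : P.map φ.rangeRestrict = L.map φ.rangeRestrict) {a : G} (haP : a ∈ P) (hap : a ^ p = 1)
    (ha : φ a ≠ 1) : ∃ v : E, ∀ t : G, φ (t * a * t⁻¹) v ≠ v := by
  have : Module (ZMod q) (Additive E) := AddCommGroup.zmodModule fun x => hexp x.toMul
  have : FiniteDimensional (ZMod q) (Additive E) := Module.Finite.of_finite
  let σ : MulAut E →* Module.End (ZMod q) (Additive E) :=
    { toFun := fun y => (MonoidHom.toAdditive y.toMonoidHom).toZModLinearMap q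
      map_one' := LinearMap.ext fun x => rfl
      map_mul' := fun y z => LinearMap.ext fun x => rfl }
  have hpF : ((p : ℕ) : ZMod q) ≠ 0 := fun e =>
    hqp ((Nat.prime_dvd_prime_iff_eq Fact.out hp.out).mp ((ZMod.natCast_eq_zero_iff p q).mp e))
  have hn : (P.map φ.rangeRestrict).Normal :=
    himg ▸ Subgroup.Normal.map inferInstance _ φ.rangeRestrict_surjective
  obtain ⟨v, hv⟩ := CfsgLib.ClassSubnormal.exists_moved.{u, 0} p hp2 hpF _ (σ.comp φ.range.subtype)
    (P.map φ.rangeRestrict) hn (hP.map _) (φ.rangeRestrict a) ⟨a, haP, rfl⟩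
    (by rw [← map_pow, hap, map_one])
    (fun e => ha (MulEquiv.ext fun m =>
      congrArg Additive.toMul (LinearMap.congr_fun e (Additive.ofMul m)))) le_rfl
  refine ⟨Additive.toMul v, fun t e => hv (φ.rangeRestrict t) ?_⟩
  rw [← map_inv, ← map_mul, ← map_mul]
  exact congrArg Additive.ofMul e

open CfsgLib.PLocal in
theorem aux (p : ℕ) [hp : Fact p.Prime] (hp2 : p ≠ 2) :
    ∀ (n : ℕ) {G : Type u} [Group G] [Finite G], Nat.card G = n → Group.IsSolvable G →
      ∀ (k : ℕ) (a : G), a ^ p ^ k = 1 →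
        (∀ c : G, ∃ g : G, IsConj c g ∧ ∃ J : Subgroup G, a ∈ J ∧ g * a * g⁻¹ ∈ J ∧
          ∃ N : Subgroup G, N ≤ J ∧ (N.subgroupOf J).Normal ∧ IsPGroup p N ∧ a ∈ N) →
        a ∈ Cfsg.pCore p G := by
  intro n
  induction n using Nat.strong_induction_on with
  | _ n ih =>
  intro G _ _ hn hG k
  induction k with
  | zero =>
    intro a ha _
    rw [pow_zero, pow_one] at ha
    rw [ha]; exact one_mem _
  | succ k ihk =>
    intro a ha h
    classical
    -- the quotient by a normal subgroup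
    have hquot : ∀ (N : Subgroup G) [N.Normal], N ≠ ⊥ →
        QuotientGroup.mk' N a ∈ Cfsg.pCore p (G ⧸ N) := by
      intro N _ hN
      have hlt : Nat.card (G ⧸ N) < n := by
        rw [← hn, Subgroup.card_eq_card_quotient_mul_card_subgroup N]
        exact lt_mul_of_one_lt_right Nat.card_pos (N.one_lt_card_iff_ne_bot.mpr hN)
      refine ih _ hlt rfl inferInstance (k + 1) _ (by rw [← map_pow, ha, map_one]) fun c => ?_
      obtain ⟨c, rfl⟩ := QuotientGroup.mk'_surjective N c
      obtain ⟨g, hg, J, haJ, hgJ, M, hMJ, hMn, hM, haM⟩ := h c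
      refine ⟨QuotientGroup.mk' N g, (QuotientGroup.mk' N).map_isConj hg , J.map (QuotientGroup.mk' N),
        ⟨a, haJ, rfl⟩, ⟨_, hgJ, by simp⟩, M.map (QuotientGroup.mk' N), Subgroup.map_mono hMJ, ?_,
        hM.map _, ⟨a, haM, rfl⟩⟩
      rw [Subgroup.normal_subgroupOf_iff_le_normalizer (Subgroup.map_mono hMJ)]
      rw [Subgroup.normal_subgroupOf_iff_le_normalizer hMJ] at hMn
      exact (Subgroup.map_mono hMn).trans (Subgroup.le_normalizer_map _)
    by_cases hcore : Cfsg.pCore p G = ⊥
    swap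
    · have := hquot (Cfsg.pCore p G) hcore
      rw [← Subgroup.mem_comap, comap_pCore_quotient _ (isPGroup_pCore p G)] at this
      exact this
    have hap : a ^ p = 1 := by
      have := ihk (a ^ p) (by rw [← pow_mul, ← pow_succ']; exact ha) fun c => by
        obtain ⟨g, hg, J, haJ, hgJ, M, hMJ, hMn, hM, haM⟩ := h c
        refine ⟨g, hg, J, pow_mem haJ p, ?_, M, hMJ, hMn, hM, pow_mem haM p⟩
        rw [← conj_pow]
        exact pow_mem hgJ p
      rwa [hcore, Subgroup.mem_bot] at this
    by_contra hmem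
    rw [hcore, Subgroup.mem_bot] at hmem
    have : Nontrivial G := ⟨⟨a, 1, hmem⟩⟩
    obtain ⟨V, hVn, hVne, hVmin⟩ := CfsgLib.Solvable.exists_minimal_normal (G := G)
    obtain ⟨q, hq, hVq⟩ := CfsgLib.Solvable.exists_prime_pow_eq_one_of_minimal_normal hVne hVmin
    have := Fact.mk hq
    have hVc := CfsgLib.Solvable.mul_comm_of_minimal_normal hVne hVmin
    have hVpow : ∀ x ∈ V, ∀ m : ℕ, (q : ℕ) ∣ m → x ^ m = 1 := fun x hx m ⟨d, hd⟩ => by
      rw [hd, pow_mul, hVq x hx, one_pow]
    have hqp : q ≠ p := by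
      rintro rfl
      refine hVne (le_bot_iff.mp ?_)
      rw [← hcore]
      exact le_pCore fun x => ⟨1, Subtype.ext (by rw [pow_one]; exact hVq x x.2)⟩
    have hVcop : ∀ {x : G}, x ∈ V → ∀ i : ℕ, x ^ p ^ i = 1 → x = 1 := by
      intro x hx i hxi
      have := pow_gcd_eq_one.mpr ⟨hxi, hVq x hx⟩
      rwa [Nat.coprime_iff_gcd_eq_one.mp (Nat.Coprime.pow_left i ((Nat.coprime_primes hp.out hq).mpr hqp.symm)),
        pow_one] at this
    set L := (Cfsg.pCore p (G ⧸ V)).comap (QuotientGroup.mk' V) with hL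
    have haL : a ∈ L := hquot V hVne
    have hVL : V ≤ L := fun x hx => by
      rw [hL, Subgroup.mem_comap, show QuotientGroup.mk' V x = 1 from (QuotientGroup.eq_one_iff x).mpr hx]
      exact one_mem _
    have hLn : L.Normal := Subgroup.Normal.comap inferInstance _
    obtain ⟨S, hS⟩ := IsPGroup.exists_le_sylow (G := L) (p := p)
      (IsPGroup.of_card (n := if a = 1 then 0 else 1) (by
        rw [if_neg hmem, pow_one, Nat.card_zpowers]
        exact orderOf_eq_prime (Subtype.ext hap) (fun e => hmem (congrArg Subtype.val e))) :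
        IsPGroup p (Subgroup.zpowers (⟨a, haL⟩ : L)))
    set P : Subgroup G := (S : Subgroup L).map L.subtype with hP
    have hPp : IsPGroup p P := S.2.map _
    have haP : a ∈ P := ⟨_, hS (Subgroup.mem_zpowers _), rfl⟩
    have hLPV : L ≤ P ⊔ V := by
      set Q := ((P ⊔ V).subgroupOf L).index with hQ
      suffices Q = 1 from Subgroup.relIndex_eq_one.mp this
      have h1 : Q ∣ (S : Subgroup L).index := Subgroup.index_dvd_of_le fun x hx =>
        Subgroup.mem_sup_left ⟨x, hx, rfl⟩
      have h2 : Q ∣ V.relIndex L := Subgroup.relIndex_dvd_of_le_left _ le_sup_right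
      have h3 : V.relIndex L = Nat.card (L.map (QuotientGroup.mk' V)) := by
        rw [← Subgroup.relIndex_ker, QuotientGroup.ker_mk']
      have h4 : L.map (QuotientGroup.mk' V) = Cfsg.pCore p (G ⧸ V) :=
        Subgroup.map_comap_eq_self_of_surjective (QuotientGroup.mk'_surjective V) _
      obtain ⟨i, hi⟩ := IsPGroup.exists_card_eq (isPGroup_pCore p (G ⧸ V))
      rw [h3, h4, hi] at h2
      exact Nat.eq_one_of_dvd_coprimes (Nat.Coprime.pow_left i
        ((hp.out.coprime_iff_not_dvd).mpr S.not_dvd_index)) h2 h1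
    -- conjugation on `V`
    have hVi : IsMulCommutative V := ⟨⟨fun x y => Subtype.ext (hVc x x.2 y y.2)⟩⟩
    open scoped IsMulCommutative in
    set φ : G →* MulAut V := MulAut.conjNormal with hφ
    have hφV : ∀ x ∈ V, φ x = 1 := fun x hx => MulEquiv.ext fun y => Subtype.ext <| by
      rw [hφ, MulAut.conjNormal_apply, MulAut.one_apply, hVc x hx y y.2, mul_inv_cancel_right]
    have himg : P.map φ.rangeRestrict = L.map φ.rangeRestrict := by
      refine le_antisymm (Subgroup.map_mono (Subgroup.map_subtype_le _)) ?_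
      refine (Subgroup.map_mono hLPV).trans ?_
      rw [Subgroup.map_sup]
      refine sup_le le_rfl ?_
      rintro _ ⟨x, hx, rfl⟩
      rw [show φ.rangeRestrict x = 1 from Subtype.ext (hφV x hx)]
      exact one_mem _
    have hφa : φ a ≠ 1 := by
      intro e
      have hac : ∀ x ∈ V, a * x = x * a := fun x hx => by
        have := congrArg (fun ψ : MulAut V => ((ψ (⟨x, hx⟩ : V) : V) : G)) e
        simp only [hφ, MulAut.conjNormal_apply, MulAut.one_apply] at this
        exact mul_inv_eq_iff_eq_mul.mp this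
      set C := Subgroup.centralizer (V : Set G)
      have hPCn : (P ⊓ C).Normal := by
        have hVP : ∀ x ∈ V, ∀ y ∈ P ⊓ C, x * y = y * x := fun x hx y hy =>
          Subgroup.mem_centralizer_iff.mp hy.2 x hx
        -- `P ⊓ C` is the set of `p`-elements of `L ⊓ C`
        have hchar : ∀ y, y ∈ P ⊓ C ↔ y ∈ L ⊓ C ∧ ∃ i : ℕ, y ^ p ^ i = 1 := by
          intro y
          constructor
          · intro hy
            obtain ⟨i, hi⟩ := hPp ⟨y, hy.1⟩
            exact ⟨⟨Subgroup.map_subtype_le _ hy.1, hy.2⟩, i, congrArg Subtype.val hi⟩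
          · rintro ⟨⟨hyL, hyC⟩, i, hi⟩
            obtain ⟨u, hu, v, hv, rfl⟩ := Subgroup.mem_sup_of_normal_right.mp (hLPV hyL)
            have huC : u ∈ C := by
              have hvC : v ∈ C := Subgroup.mem_centralizer_iff.mpr fun z hz => hVc z hz v hv
              simpa using C.mul_mem hyC (C.inv_mem hvC)
            have hcuv : Commute u v := (Subgroup.mem_centralizer_iff.mp huC v hv).symm
            obtain ⟨j, hj⟩ := hPp ⟨u, hu⟩
            have hj' : u ^ p ^ j = 1 := congrArg Subtype.val hj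
            have hv1 : v = 1 := by
              refine hVcop hv (i + j) ?_
              have : (u * v) ^ p ^ (i + j) = 1 := by rw [pow_add, pow_mul, hi, one_pow]
              rwa [hcuv.mul_pow, show u ^ p ^ (i + j) = 1 by rw [pow_add, mul_comm, pow_mul, hj', one_pow],
                one_mul] at this
            rw [hv1, mul_one]
            exact ⟨hu, huC⟩
        refine ⟨fun y hy g => (hchar _).mpr ⟨?_, ?_⟩⟩
        · exact (inferInstance : (L ⊓ C).Normal).conj_mem y ((hchar y).mp hy).1 g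
        · obtain ⟨i, hi⟩ := ((hchar y).mp hy).2
          exact ⟨i, by rw [conj_pow, hi, mul_one, mul_inv_cancel]⟩
      refine hmem (Subgroup.mem_bot.mp (hcore ▸ le_pCore (hPp.to_le (inf_le_left : P ⊓ C ≤ P)) ?_))
      exact ⟨haP, Subgroup.mem_centralizer_iff.mpr fun x hx => (hac x hx).symm⟩
    open scoped IsMulCommutative in
    obtain ⟨v, hv⟩ := exists_moved_abelem q (fun x : V => Subtype.ext (hVq x x.2)) p hp2 hqp φ P L hPp
      himg haP hap hφa
    -- apply the hypothesis to the class of `v`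
    obtain ⟨g, hg, J, haJ, hgJ, N, hNJ, hNn, hN, haN⟩ := h (v : G)
    obtain ⟨t, rfl⟩ := isConj_iff.mp hg
    set w := t * (v : G) * t⁻¹ with hw
    have hwV : w ∈ V := hVn.conj_mem _ v.2 t
    set d := w * a * w⁻¹ * a⁻¹ with hd
    have hdV : d ∈ V := by
      rw [hd, show w * a * w⁻¹ * a⁻¹ = w * (a * w⁻¹ * a⁻¹) by group]
      exact mul_mem hwV (hVn.conj_mem _ (inv_mem hwV) a)
    have hdJ : d ∈ J := mul_mem hgJ (inv_mem haJ)
    have hda : Commute d a := by
      rw [Subgroup.normal_subgroupOf_iff_le_normalizer hNJ] at hNn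
      have h1 : d * a * d⁻¹ * a⁻¹ ∈ N :=
        mul_mem ((Subgroup.mem_normalizer_iff.mp (hNn hdJ) a).mp haN) (inv_mem haN)
      have h2 : d * a * d⁻¹ * a⁻¹ ∈ V := by
        rw [show d * a * d⁻¹ * a⁻¹ = d * (a * d⁻¹ * a⁻¹) by group]
        exact mul_mem hdV (hVn.conj_mem _ (inv_mem hdV) a)
      obtain ⟨i, hi⟩ := hN ⟨_, h1⟩
      have h3 := hVcop h2 i (congrArg Subtype.val hi)
      rw [mul_inv_eq_one, mul_inv_eq_iff_eq_mul] at h3
      exact h3
    have hwa : d = 1 := by
      refine hVcop hdV 1 ?_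
      have hn' : ∀ m : ℕ, a ^ m * w * (a ^ m)⁻¹ = (d⁻¹) ^ m * w := by
        intro m
        induction m with
        | zero => simp
        | succ m ihm =>
          rw [pow_succ' a, show a * a ^ m * w * (a * a ^ m)⁻¹ = a * (a ^ m * w * (a ^ m)⁻¹) * a⁻¹ by group,
            ihm, show a * ((d⁻¹) ^ m * w) * a⁻¹ = (a * (d⁻¹) ^ m * a⁻¹) * (a * w * a⁻¹) by group,
            show a * (d⁻¹) ^ m * a⁻¹ = (d⁻¹) ^ m by
              rw [(hda.symm.inv_right.pow_right m).eq, mul_inv_cancel_right],
            show a * w * a⁻¹ = d⁻¹ * w by rw [hd]; group, ← mul_assoc, ← pow_succ]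
      have := hn' p
      rw [hap, inv_one, mul_one, one_mul] at this
      have h2 : (d⁻¹) ^ p = 1 := mul_right_cancel (this.symm.trans (one_mul w).symm)
      rw [inv_pow, inv_eq_one] at h2
      rw [pow_one]; exact h2
    refine hv t⁻¹ (Subtype.ext ?_)
    rw [hφ, MulAut.conjNormal_apply, inv_inv]
    have hcomm : w * a = a * w := by rwa [hd, mul_inv_eq_one, mul_inv_eq_iff_eq_mul] at hwa
    calc (t⁻¹ * a * t) * (v : G) * (t⁻¹ * a * t)⁻¹
        = t⁻¹ * (a * w) * a⁻¹ * t := by rw [hw]; group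
      _ = t⁻¹ * (w * a) * a⁻¹ * t := by rw [hcomm]
      _ = (v : G) := by rw [hw]; group

/-- Let G be a finite solvable group, p an odd prime and A a p-subgroup of G such that every conjugacy class of G contains an element g for which A is subnormal in the subgroup generated by A and its conjugate by g. Then A is contained in O_p(G). (The hypothesis that p is odd is needed.) -/
theorem result {G : Type*} [Group G] [Finite G]
    (hG : Group.IsSolvable G) (p : ℕ) [Fact p.Prime] (hp : p ≠ 2) (A : Subgroup G) (hA : IsPGroup p A)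
    (h : ∀ c : G, ∃ g : G, IsConj c g ∧ (A.subgroupOf (A ⊔ MulAut.conj g • A)).IsSubnormal) :
    A ≤ Cfsg.pCore p G := by
  intro a ha
  obtain ⟨k, hk⟩ := hA ⟨a, ha⟩
  refine aux p hp _ rfl hG k a (congrArg Subtype.val hk) fun c => ?_
  obtain ⟨g, hg, hsn⟩ := h c
  set J := A ⊔ MulAut.conj g • A
  refine ⟨g, hg, J, Subgroup.mem_sup_left ha, Subgroup.mem_sup_right ⟨a, ha, rfl⟩,
    (Cfsg.pCore p J).map J.subtype, Subgroup.map_subtype_le _, ?_, (CfsgLib.PLocal.isPGroup_pCore p J).map _, ?_⟩
  · rw [Subgroup.subgroupOf, Subgroup.comap_map_eq_self_of_injective J.subtype_injective]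
    infer_instance
  · exact ⟨⟨a, Subgroup.mem_sup_left ha⟩,
      CfsgLib.PLocal.le_pCore_of_isSubnormal hsn (hA.comap_subtype) (Subgroup.mem_subgroupOf.mpr ha), rfl⟩

end Cfsg.Agent.S4330
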