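import Cfsg.Statements.S4331

set_option autoImplicit false
open Cfsg

namespace Cfsg.Agent.S4331

open Subgroup

attribute [local instance 2000] List.decidableBAll List.decidableBEx

/-- The plane over the field with three elements. -/
abbrev Pt : Type := Fin 3 × Fin 3

/-- Translations. -/
def tr (v : Pt) : Equiv.Perm Pt :=
  ⟨fun x => x + v, fun x => x - v, fun x => add_sub_cancel_right x v, fun x => sub_add_cancel x v⟩

/-- The action of a two by two matrix. -/
def ev (m : Fin 3 × Fin 3 × Fin 3 × Fin 3) (x : Pt) : Pt :=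
  (m.1 * x.1 + m.2.1 * x.2, m.2.2.1 * x.1 + m.2.2.2 * x.2)

/-- A permutation from a matrix and its inverse. -/
def mk2 (m n : Fin 3 × Fin 3 × Fin 3 × Fin 3) (h : ∀ x, ev n (ev m x) = x ∧ ev m (ev n x) = x) :
    Equiv.Perm Pt :=
  ⟨ev m, ev n, fun x => (h x).1, fun x => (h x).2⟩

/-- Conjugation on the field with nine elements. -/
def frob : Equiv.Perm Pt := mk2 (1,0,0,2) (1,0,0,2) (by decide +kernel)

/-- The semidihedral group of order sixteen. -/
def lin : List (Equiv.Perm Pt) := [
  mk2 (1,0,0,1) (1,0,0,1) (by decide +kernel),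
  mk2 (1,2,1,1) (2,2,1,2) (by decide +kernel),
  mk2 (0,1,2,0) (0,2,1,0) (by decide +kernel),
  mk2 (1,1,2,1) (2,1,2,2) (by decide +kernel),
  mk2 (2,0,0,2) (2,0,0,2) (by decide +kernel),
  mk2 (2,1,2,2) (1,1,2,1) (by decide +kernel),
  mk2 (0,2,1,0) (0,1,2,0) (by decide +kernel),
  mk2 (2,2,1,2) (1,2,1,1) (by decide +kernel),
  mk2 (1,0,0,2) (1,0,0,2) (by decide +kernel),
  mk2 (1,1,1,2) (2,2,2,1) (by decide +kernel),
  mk2 (0,2,2,0) (0,2,2,0) (by decide +kernel),
  mk2 (1,2,2,2) (2,1,1,1) (by decide +kernel),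
  mk2 (2,0,0,1) (2,0,0,1) (by decide +kernel),
  mk2 (2,2,2,1) (1,1,1,2) (by decide +kernel),
  mk2 (0,1,1,0) (0,1,1,0) (by decide +kernel),
  mk2 (2,1,1,1) (1,2,2,2) (by decide +kernel)
]

theorem lin_linear : ∀ h ∈ lin, ∀ x y : Pt, h (x + y) = h x + h y := by decide +kernel
theorem lin_mul : ∀ h ∈ lin, ∀ k ∈ lin, h * k ∈ lin := by decide +kernel
theorem lin_inv : ∀ h ∈ lin, ∃ k ∈ lin, k * h = 1 := by decide +kernel
theorem lin_one : (1 : Equiv.Perm Pt) ∈ lin := by decide +kernel
theorem frob_mem : frob ∈ lin := by decide +kernel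
theorem frob_sq : frob * frob = 1 := by decide +kernel
theorem frob_ne : frob ≠ 1 := by decide +kernel
theorem lin_pow : ∀ h ∈ lin, h ^ 16 = 1 := by
  have e : ∀ h ∈ lin, h * h * (h * h) * (h * h * (h * h)) = 1 := by decide +kernel
  intro h hh
  have h8 : h ^ 8 = 1 := by simpa [pow_succ, mul_assoc] using e h hh
  rw [show 16 = 8 * 2 from rfl, pow_mul, h8, one_pow]

theorem classes : ∀ h ∈ lin, ∀ t : Pt, (∃ x, (tr t * h) x = x) ∨
    ∃ k ∈ lin, ∃ s : Pt, ((tr s * k) * (tr t * h) * (tr s * k)⁻¹) * frob =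
      frob * ((tr s * k) * (tr t * h) * (tr s * k)⁻¹) := by decide +kernel

theorem tr_mul {h : Equiv.Perm Pt} (hh : h ∈ lin) (v : Pt) : h * tr v = tr (h v) * h :=
  Equiv.ext fun x => by simp [tr, lin_linear h hh]

theorem tr_add (v w : Pt) : tr v * tr w = tr (w + v) := Equiv.ext fun x => by simp [tr, add_assoc]

/-- The affine semilinear group. -/
def aff : Subgroup (Equiv.Perm Pt) where
  carrier := {g | ∃ h ∈ lin, ∃ v, g = tr v * h}
  one_mem' := ⟨1, lin_one, 0, Equiv.ext fun x => by simp [tr]⟩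
  mul_mem' := by
    rintro _ _ ⟨h, hh, v, rfl⟩ ⟨k, hk, w, rfl⟩
    refine ⟨h * k, lin_mul h hh k hk, h w + v, ?_⟩
    rw [← tr_add, mul_assoc, ← mul_assoc h, tr_mul hh]
    simp [mul_assoc]
  inv_mem' := by
    rintro _ ⟨h, hh, v, rfl⟩
    obtain ⟨k, hk, hkh⟩ := lin_inv h hh
    refine ⟨k, hk, k (-v), ?_⟩
    rw [← tr_mul hk, mul_inv_rev, inv_eq_of_mul_eq_one_left hkh]
    congr 1
    exact inv_eq_of_mul_eq_one_left (Equiv.ext fun x => by simp [tr])

theorem mem_lin_of_fix {g : aff} (h0 : (g : Equiv.Perm Pt) 0 = 0) : (g : Equiv.Perm Pt) ∈ lin := by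
  obtain ⟨h, hh, v, hg⟩ := g.2
  have h1 : h 0 = 0 := by
    have := lin_linear h hh 0 0
    simpa using this
  rw [hg] at h0 ⊢
  have hv : v = 0 := by simpa [tr, h1] using h0
  subst hv
  rwa [show tr 0 = 1 from Equiv.ext fun x => by simp [tr], one_mul]

/-- The linear part. -/
def linPart : aff →* Equiv.Perm Pt where
  toFun g := (tr ((g : Equiv.Perm Pt) 0))⁻¹ * (g : Equiv.Perm Pt)
  map_one' := Equiv.ext fun x => by simp [tr]
  map_mul' := by
    rintro ⟨_, h, hh, v, rfl⟩ ⟨_, k, hk, w, rfl⟩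
    have h0 : h 0 = 0 := by simpa using lin_linear h hh 0 0
    have k0 : k 0 = 0 := by simpa using lin_linear k hk 0 0
    apply Equiv.ext
    intro x
    simp [tr, h0, k0, lin_linear h hh]

theorem linPart_mem (g : aff) : linPart g ∈ lin := by
  obtain ⟨h, hh, v, hg⟩ := g.2
  have h0 : h 0 = 0 := by simpa using lin_linear h hh 0 0
  have : linPart g = h := Equiv.ext fun x => by simp [linPart, hg, tr, h0]
  rwa [this]

theorem isSolvable_aff : Group.IsSolvable aff := by
  have h1 : IsPGroup 2 linPart.range := by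
    rintro ⟨_, g, rfl⟩
    exact ⟨4, Subtype.ext (lin_pow _ (linPart_mem g))⟩
  have : Fact (Nat.Prime 2) := ⟨Nat.prime_two⟩
  have : Group.IsNilpotent linPart.range := h1.isNilpotent
  have h2 : ∀ a b : linPart.ker, a * b = b * a := by
    rintro ⟨a, ha⟩ ⟨b, hb⟩
    have e : ∀ c : aff, linPart c = 1 → (c : Equiv.Perm Pt) = tr ((c : Equiv.Perm Pt) 0) := fun c hc =>
      (inv_mul_eq_one.mp hc).symm
    apply Subtype.ext; apply Subtype.ext
    change (a : Equiv.Perm Pt) * b = b * a
    rw [e a ha, e b hb, tr_add, tr_add, add_comm]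
  have : Group.IsSolvable linPart.ker := Group.isSolvable_of_comm h2
  exact Group.isSolvable_of_ker_le_range linPart.ker.subtype linPart.rangeRestrict
    (by rw [MonoidHom.ker_rangeRestrict, range_subtype])

/-- The involution. -/
def a₀ : aff := ⟨frob, frob, frob_mem, 0, Equiv.ext fun x => by simp [tr]⟩

theorem subnormal_of_nilpotent {G : Type*} [Group G] [Finite G] [Group.IsNilpotent G] :
    ∀ (n : ℕ) (H : Subgroup G), H.index ≤ n → H.IsSubnormal := by
  intro n
  induction n with
  | zero => intro H h; exact absurd (Nat.le_zero.mp h) index_ne_zero_of_finite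
  | succ n ih =>
    intro H h
    rcases eq_or_ne H ⊤ with rfl | hne
    · exact Subgroup.Normal.isSubnormal inferInstance
    have hlt := Group.normalizerCondition_of_isNilpotent (G := G) H (lt_top_iff_ne_top.mpr hne)
    refine IsSubnormal.trans hlt.le (Subgroup.Normal.isSubnormal ?_) (ih _ ?_)
    · exact normal_in_normalizer
    · have h1 := relIndex_mul_index hlt.le
      have h2 : H.relIndex (normalizer (H : Set G)) ≠ 1 := fun e => hlt.not_ge (relIndex_eq_one.mp e)
      have h3 : 0 < (normalizer (H : Set G)).index := Nat.pos_of_ne_zero index_ne_zero_of_finite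
      rcases Nat.lt_or_ge (H.relIndex (normalizer (H : Set G))) 2 with h4 | h4
      · interval_cases hr : H.relIndex (normalizer (H : Set G))
        · simp at h1; exact absurd h1.symm index_ne_zero_of_finite
        · exact absurd rfl h2
      · nlinarith

/-- There is a finite solvable group G with a subgroup A of order 2 such that every conjugacy class of G contains an element g for which A is subnormal in the subgroup generated by A and g, and yet A is not contained in O_2(G). (So the corresponding criteria for odd primes fail at the prime 2, even for solvable groups.) -/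
theorem result :
    ∃ (G : Type) (_ : Group G) (_ : Finite G) (A : Subgroup G), Group.IsSolvable G ∧ Nat.card A = 2 ∧
      (∀ c : G, ∃ g : G, IsConj c g ∧ (A.subgroupOf (A ⊔ Subgroup.zpowers g)).IsSubnormal) ∧
      ¬ A ≤ Cfsg.pCore 2 G := by
  refine ⟨aff, inferInstance, inferInstance, zpowers a₀, isSolvable_aff, ?_, ?_, ?_⟩
  · rw [Nat.card_zpowers]
    refine orderOf_eq_prime (hp := ⟨Nat.prime_two⟩) ?_ ?_
    · rw [pow_two]; exact Subtype.ext frob_sq
    · exact fun h => frob_ne (congrArg Subtype.val h)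
  · intro c
    obtain ⟨h, hh, t, hc⟩ := c.2
    rcases classes h hh t with ⟨x, hx⟩ | ⟨k, hk, s, hcomm⟩
    · -- a fixed point: conjugate into the linear group
      let T : aff := ⟨tr (-x), 1, lin_one, -x, by rw [mul_one]⟩
      refine ⟨T * c * T⁻¹, isConj_iff.mpr ⟨T, rfl⟩, ?_⟩
      set g := T * c * T⁻¹
      have hg0 : (g : Equiv.Perm Pt) 0 = 0 := by
        have hT : (T : Equiv.Perm Pt)⁻¹ 0 = x := by
          rw [Equiv.Perm.inv_eq_iff_eq]; simp [T, tr]
        simp only [g, Subgroup.coe_mul, Subgroup.coe_inv, Equiv.Perm.mul_apply, hT]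
        rw [hc, hx]
        simp [T, tr]
      let L : Subgroup aff :=
        { carrier := {u | (u : Equiv.Perm Pt) 0 = 0}
          mul_mem' := fun {u v} hu hv => by
            simp only [Set.mem_ofPred_eq, Subgroup.coe_mul, Equiv.Perm.mul_apply] at *
            rw [hv, hu]
          one_mem' := rfl
          inv_mem' := fun {u} hu => by
            simp only [Set.mem_ofPred_eq, Subgroup.coe_inv] at *
            rw [Equiv.Perm.inv_eq_iff_eq]; exact hu.symm }
      have hL : IsPGroup 2 L := fun u =>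
        ⟨4, Subtype.ext (Subtype.ext (lin_pow _ (mem_lin_of_fix u.2)))⟩
      have hle : zpowers a₀ ⊔ zpowers g ≤ L :=
        sup_le (zpowers_le.mpr (by show frob 0 = 0; decide +kernel)) (zpowers_le.mpr hg0)
      have hp := hL.to_le hle
      have : Fact (Nat.Prime 2) := ⟨Nat.prime_two⟩
      have : Group.IsNilpotent (zpowers a₀ ⊔ zpowers g : Subgroup aff) := hp.isNilpotent
      exact subnormal_of_nilpotent _ _ le_rfl
    · let F : aff := ⟨tr s * k, k, hk, s, rfl⟩
      refine ⟨F * c * F⁻¹, isConj_iff.mpr ⟨F, rfl⟩, Subgroup.Normal.isSubnormal ?_⟩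
      rw [normal_subgroupOf_iff_le_normalizer le_sup_left]
      refine sup_le le_normalizer (le_trans ?_ (centralizer_le_normalizer _))
      rw [zpowers_le, mem_centralizer_iff]
      intro u hu
      obtain ⟨j, rfl⟩ := mem_zpowers_iff.mp hu
      refine (Commute.zpow_left ?_ j).eq
      apply Subtype.ext
      show frob * ((tr s * k) * (c : Equiv.Perm Pt) * (tr s * k)⁻¹) =
        ((tr s * k) * (c : Equiv.Perm Pt) * (tr s * k)⁻¹) * frob
      rw [hc]; exact hcomm.symm
  · intro hle
    have ha : a₀ ∈ Cfsg.pCore 2 aff := hle (mem_zpowers _)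
    have hp : IsPGroup 2 (Cfsg.pCore 2 aff) := Sylow.sSup_of_normal _ (fun H hH => hH.2) (fun H hH => hH.1)
    have hn : (Cfsg.pCore 2 aff).Normal := Subgroup.sSup_normal _ (fun _ h => h.1)
    let T : aff := ⟨tr (0, 1), 1, lin_one, (0, 1), by rw [mul_one]⟩
    have hm := (Cfsg.pCore 2 aff).mul_mem (hn.conj_mem a₀ ha T) ha
    obtain ⟨j, hj⟩ := hp ⟨_, hm⟩
    have h3 : (T * a₀ * T⁻¹ * a₀) ^ 3 = 1 := Subtype.ext (by decide +kernel)
    have h2 : (T * a₀ * T⁻¹ * a₀) ^ 2 ^ j = 1 := congrArg Subtype.val hj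
    have h1 := pow_gcd_eq_one.mpr ⟨h2, h3⟩
    rw [Nat.coprime_iff_gcd_eq_one.mp (Nat.Coprime.pow_left j (by norm_num : Nat.Coprime 2 3)), pow_one] at h1
    exact absurd (congrArg (fun u : aff => (u : Equiv.Perm Pt) 0) h1) (by decide +kernel)

end Cfsg.Agent.S4331
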