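import Cfsg.Statements.S4332

set_option autoImplicit false
open Pointwise
open Cfsg

namespace Cfsg.Agent.S4332

open Subgroup Equiv

/-- For each cycle type, a permutation `g` with that type such that `g (0 1 2) g⁻¹` commutes with `(0 1 2)`. -/
def witnesses : List (Multiset ℕ × Equiv.Perm (Fin 8)) := [
  (({8} : Multiset ℕ), (List.formPerm ([0,3,1,4,2,5,6,7] : List (Fin 8)) : Equiv.Perm (Fin 8))),
  (({7} : Multiset ℕ), (List.formPerm ([0,3,1,4,2,5,6] : List (Fin 8)) : Equiv.Perm (Fin 8))),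
  (({6,2} : Multiset ℕ), (List.formPerm ([0,3] : List (Fin 8)) * List.formPerm ([1,4,2,5,6,7] : List (Fin 8)) : Equiv.Perm (Fin 8))),
  (({6} : Multiset ℕ), (List.formPerm ([0,3,1,4,2,5] : List (Fin 8)) : Equiv.Perm (Fin 8))),
  (({5,3} : Multiset ℕ), (List.formPerm ([0,1,2] : List (Fin 8)) * List.formPerm ([3,4,5,6,7] : List (Fin 8)) : Equiv.Perm (Fin 8))),
  (({5,2} : Multiset ℕ), (List.formPerm ([1,2] : List (Fin 8)) * List.formPerm ([3,4,5,6,7] : List (Fin 8)) : Equiv.Perm (Fin 8))),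
  (({5} : Multiset ℕ), (List.formPerm ([3,4,5,6,7] : List (Fin 8)) : Equiv.Perm (Fin 8))),
  (({4,4} : Multiset ℕ), (List.formPerm ([0,3,1,4] : List (Fin 8)) * List.formPerm ([2,5,6,7] : List (Fin 8)) : Equiv.Perm (Fin 8))),
  (({4,3} : Multiset ℕ), (List.formPerm ([0,1,2] : List (Fin 8)) * List.formPerm ([4,5,6,7] : List (Fin 8)) : Equiv.Perm (Fin 8))),
  (({4,2,2} : Multiset ℕ), (List.formPerm ([0,3] : List (Fin 8)) * List.formPerm ([1,4] : List (Fin 8)) * List.formPerm ([2,5,6,7] : List (Fin 8)) : Equiv.Perm (Fin 8))),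
  (({4,2} : Multiset ℕ), (List.formPerm ([1,2] : List (Fin 8)) * List.formPerm ([4,5,6,7] : List (Fin 8)) : Equiv.Perm (Fin 8))),
  (({4} : Multiset ℕ), (List.formPerm ([4,5,6,7] : List (Fin 8)) : Equiv.Perm (Fin 8))),
  (({3,3,2} : Multiset ℕ), (List.formPerm ([0,1,2] : List (Fin 8)) * List.formPerm ([3,4] : List (Fin 8)) * List.formPerm ([5,6,7] : List (Fin 8)) : Equiv.Perm (Fin 8))),
  (({3,3} : Multiset ℕ), (List.formPerm ([0,1,2] : List (Fin 8)) * List.formPerm ([5,6,7] : List (Fin 8)) : Equiv.Perm (Fin 8))),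
  (({3,2,2} : Multiset ℕ), (List.formPerm ([1,2] : List (Fin 8)) * List.formPerm ([3,4] : List (Fin 8)) * List.formPerm ([5,6,7] : List (Fin 8)) : Equiv.Perm (Fin 8))),
  (({3,2} : Multiset ℕ), (List.formPerm ([3,4] : List (Fin 8)) * List.formPerm ([5,6,7] : List (Fin 8)) : Equiv.Perm (Fin 8))),
  (({3} : Multiset ℕ), (List.formPerm ([5,6,7] : List (Fin 8)) : Equiv.Perm (Fin 8))),
  (({2,2,2,2} : Multiset ℕ), (List.formPerm ([0,3] : List (Fin 8)) * List.formPerm ([1,4] : List (Fin 8)) * List.formPerm ([2,5] : List (Fin 8)) * List.formPerm ([6,7] : List (Fin 8)) : Equiv.Perm (Fin 8))),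
  (({2,2,2} : Multiset ℕ), (List.formPerm ([1,2] : List (Fin 8)) * List.formPerm ([4,5] : List (Fin 8)) * List.formPerm ([6,7] : List (Fin 8)) : Equiv.Perm (Fin 8))),
  (({2,2} : Multiset ℕ), (List.formPerm ([4,5] : List (Fin 8)) * List.formPerm ([6,7] : List (Fin 8)) : Equiv.Perm (Fin 8))),
  (({2} : Multiset ℕ), (List.formPerm ([6,7] : List (Fin 8)) : Equiv.Perm (Fin 8))),
  ((0 : Multiset ℕ), (1 : Equiv.Perm (Fin 8)))
]

/-- The standard three-cycle. -/
def s₀ : Equiv.Perm (Fin 8) := List.formPerm ([0, 1, 2] : List (Fin 8))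

theorem witnesses_spec : ∀ w ∈ witnesses,
    w.2.cycleType = w.1 ∧ (w.2 * s₀ * w.2⁻¹) * s₀ = s₀ * (w.2 * s₀ * w.2⁻¹) := by
  decide +kernel

/-- Multisets of at most `k` parts in `2..8` of sum at most 8. -/
def gen : ℕ → List (Multiset ℕ)
  | 0 => [0]
  | k + 1 => gen k ++ ((List.range' 2 7).flatMap fun a =>
      ((gen k).map fun m => a ::ₘ m).filter fun m => m.sum ≤ 8)

theorem gen_covered : ∀ m ∈ gen 4, m ∈ witnesses.map Prod.fst := by decide +kernel

theorem mem_gen : ∀ (k : ℕ) (m : Multiset ℕ), m.card ≤ k → (∀ a ∈ m, 2 ≤ a) → m.sum ≤ 8 → m ∈ gen k := by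
  intro k
  induction k with
  | zero => intro m h _ _; simp [gen, Multiset.card_eq_zero.mp (Nat.le_zero.mp h)]
  | succ k ih =>
    intro m h h2 h8
    rcases Nat.lt_or_eq_of_le h with hlt | heq
    · exact List.mem_append_left _ (ih m (Nat.lt_succ_iff.mp hlt) h2 h8)
    · obtain ⟨a, ha⟩ := Multiset.card_pos_iff_exists_mem.mp (by omega : 0 < m.card)
      obtain ⟨m', rfl⟩ := Multiset.exists_cons_of_mem ha
      rw [Multiset.card_cons] at heq
      rw [Multiset.sum_cons] at h8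
      refine List.mem_append_right _ (List.mem_flatMap.mpr ⟨a, ?_, List.mem_filter.mpr ⟨List.mem_map.mpr
        ⟨m', ih m' (by omega) (fun x hx => h2 x (Multiset.mem_cons_of_mem hx)) (by omega), rfl⟩, ?_⟩⟩)
      · rw [List.mem_range'_1]; exact ⟨h2 a (Multiset.mem_cons_self _ _), by omega⟩
      · simpa using h8

theorem cycleType_mem (c : Equiv.Perm (Fin 8)) : c.cycleType ∈ witnesses.map Prod.fst := by
  have hsum : c.cycleType.sum ≤ 8 := by
    rw [Equiv.Perm.sum_cycleType]; exact c.support.card_le_univ.trans (by rw [Fintype.card_fin])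
  have hge : ∀ a ∈ c.cycleType, 2 ≤ a := fun a ha => Equiv.Perm.two_le_of_mem_cycleType ha
  refine gen_covered _ (mem_gen 4 _ ?_ hge hsum)
  have h := Multiset.card_nsmul_le_sum hge
  rw [smul_eq_mul] at h
  omega

theorem s₀_isThreeCycle : s₀.IsThreeCycle :=
  (show s₀.cycleType = {3} by decide +kernel)

theorem exists_commuting (σ : Equiv.Perm (Fin 8)) (hσ : σ.IsThreeCycle) (c : Equiv.Perm (Fin 8)) :
    ∃ g, IsConj c g ∧ (g * σ * g⁻¹) * σ = σ * (g * σ * g⁻¹) := by
  obtain ⟨t, ht⟩ := isConj_iff.mp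
    (Equiv.Perm.isConj_iff_cycleType_eq.mpr (s₀_isThreeCycle.cycleType.trans hσ.cycleType.symm))
  obtain ⟨w, hw, hwc⟩ := List.mem_map.mp (cycleType_mem c)
  obtain ⟨h1, h2⟩ := witnesses_spec w hw
  refine ⟨t * w.2 * t⁻¹, (Equiv.Perm.isConj_iff_cycleType_eq.mpr ?_), ?_⟩
  · rw [Equiv.Perm.cycleType_conj, h1, hwc]
  · subst ht
    calc _ = t * ((w.2 * s₀ * w.2⁻¹) * s₀) * t⁻¹ := by group
      _ = t * (s₀ * (w.2 * s₀ * w.2⁻¹)) * t⁻¹ := by rw [h2]
      _ = _ := by group

/-- In the symmetric group of degree 8, let A be the subgroup generated by a 3-cycle. Then every conjugacy class contains an element g for which A is subnormal in the subgroup generated by A and its conjugate by g, although O_3 of the symmetric group of degree 8 is trivial. -/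
theorem result
    (σ : Equiv.Perm (Fin 8)) (hσ : σ.IsThreeCycle) :
    (∀ c : Equiv.Perm (Fin 8), ∃ g : Equiv.Perm (Fin 8), IsConj c g ∧
      ((Subgroup.zpowers σ).subgroupOf (Subgroup.zpowers σ ⊔ MulAut.conj g • Subgroup.zpowers σ)).IsSubnormal) ∧
    Cfsg.pCore 3 (Equiv.Perm (Fin 8)) = ⊥ := by
  constructor
  · intro c
    obtain ⟨g, hg, hcomm⟩ := exists_commuting σ hσ c
    refine ⟨g, hg, Subgroup.Normal.isSubnormal ?_⟩
    rw [normal_subgroupOf_iff_le_normalizer le_sup_left]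
    refine sup_le le_normalizer (le_trans ?_ (centralizer_le_normalizer _))
    intro y hy
    rw [mem_pointwise_smul_iff_inv_smul_mem, MulAut.smul_def, mem_zpowers_iff] at hy
    obtain ⟨i, hi⟩ := hy
    have hy' : y = (g * σ * g⁻¹) ^ i := by
      have h := congrArg (MulAut.conj g) hi
      rw [map_zpow, MulAut.apply_inv_self] at h
      exact h.symm
    rw [mem_centralizer_iff]
    intro a ha
    obtain ⟨j, rfl⟩ := mem_zpowers_iff.mp ha
    subst hy'
    exact ((Commute.zpow_zpow (show Commute σ (g * σ * g⁻¹) from hcomm.symm) j i)).eq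
  · rw [Cfsg.pCore, sSup_eq_bot]
    rintro N ⟨hN, hp⟩
    by_contra hne
    obtain ⟨s, hsN, hs⟩ := (Subgroup.bot_or_exists_ne_one N).resolve_left hne
    obtain ⟨a, ha⟩ : ∃ a, s a ≠ a := by
      by_contra h
      push Not at h
      exact hs (Equiv.ext h)
    have horb : MulAction.orbit N a = Set.univ := by
      ext b
      simp only [Set.mem_univ, iff_true]
      rcases eq_or_ne b a with rfl | hb
      · exact MulAction.mem_orbit_self _
      · refine ⟨⟨Equiv.swap (s a) b * s * (Equiv.swap (s a) b)⁻¹, hN.conj_mem s hsN _⟩, ?_⟩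
        show (Equiv.swap (s a) b * s * (Equiv.swap (s a) b)⁻¹) a = b
        rw [Perm.mul_apply, Perm.mul_apply, Equiv.swap_inv,
          Equiv.swap_apply_of_ne_of_ne (fun h => ha h.symm) (fun h => hb h.symm), Equiv.swap_apply_left]
    have h := MulAction.index_stabilizer N a
    rw [horb, Set.ncard_univ, Nat.card_fin] at h
    have : Fact (Nat.Prime 3) := ⟨Nat.prime_three⟩
    obtain ⟨k, hk⟩ := IsPGroup.iff_card.mp hp
    have hd := (dvd_of_eq h.symm).trans (index_dvd_card (MulAction.stabilizer N a))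
    rw [hk] at hd
    have h2 := Nat.prime_two.dvd_of_dvd_pow ((show (2 : ℕ) ∣ 8 by norm_num).trans hd)
    omega

end Cfsg.Agent.S4332
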