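import Cfsg.Statements.S4333
import Cfsg.Agent.Zipper.Basic

set_option autoImplicit false
open Pointwise
open Cfsg

namespace Cfsg.Agent.S4333

open Subgroup CfsgLib.Zipper
open Pointwise

theorem main (n : ℕ) : ∀ (G : Type*) [Group G] [Finite G], Nat.card G ≤ n → ∀ A : Subgroup G,
    (∀ a ∈ A, ∀ g : G, (A.subgroupOf (A ⊔ MulAut.conj (g⁻¹ * a * g) • A)).IsSubnormal) →
    A.IsSubnormal := by
  induction n with
  | zero => intro G _ _ h; exact absurd (Nat.card_pos (α := G)) (by omega)
  | succ n ih =>
    intro G _ _ hc A h
    by_contra hns
    have hsn : ∀ H : Subgroup G, H ≠ ⊤ → A ≤ H → SnIn A H := by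
      intro H hH hAH
      refine ih H ?_ _ ?_
      · have := card_lt_of_lt (lt_top_iff_ne_top.mpr hH)
        rw [card_top] at this
        omega
      · intro a ha g
        set J := A ⊔ MulAut.conj ((g : G)⁻¹ * a * g) • A
        set J' := A.subgroupOf H ⊔ MulAut.conj (g⁻¹ * a * g) • A.subgroupOf H
        have hJ : ∀ x ∈ J', (x : G) ∈ J := by
          intro x hx
          refine (show J' ≤ J.subgroupOf H from sup_le ?_ ?_) hx
          · exact fun y hy => mem_subgroupOf.mpr (le_sup_left (b := MulAut.conj ((g : G)⁻¹ * a * g) • A) (mem_subgroupOf.mp hy))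
          · rintro _ ⟨y, hy, rfl⟩
            exact mem_subgroupOf.mpr (le_sup_right (a := A)
              (smul_mem_pointwise_smul _ (MulAut.conj ((g : G)⁻¹ * a * g)) _ (mem_subgroupOf.mp hy)))
        let f : J' →* J :=
          { toFun := fun x => ⟨(x : H), hJ x x.2⟩
            map_one' := rfl
            map_mul' := fun x y => rfl }
        exact IsSubnormal.comap f (h (a : G) ha g)
    have hAtop : A ≠ ⊤ := fun e => hns (e ▸ (Normal.isSubnormal inferInstance))
    obtain ⟨M, hM, hAM⟩ := (eq_top_or_exists_le_coatom A).resolve_left hAtop
    have hMn : ¬ M.Normal := fun hn => hns (IsSubnormal.trans hAM (hsn M hM.1 hAM) hn.isSubnormal)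
    have hnorm : normalizer (M : Set G) = M := (hM.le_iff.mp le_normalizer).resolve_left
      fun e => hMn (normalizer_eq_top_iff.mp e)
    have hcl : normalClosure (A : Set G) ≤ M := by
      rw [normalClosure, closure_le]
      intro x hx
      obtain ⟨a, ha, hax⟩ := Group.mem_conjugatesOfSet_iff.mp hx
      obtain ⟨c, rfl⟩ := isConj_iff.mp hax
      set y := c * a * c⁻¹
      have hy : c⁻¹⁻¹ * a * c⁻¹ = y := by rw [inv_inv]
      have hJ : A ⊔ MulAut.conj y • A ≠ ⊤ := by
        intro e
        have h1 := h a ha c⁻¹
        rw [hy, e] at h1
        exact hns (isSubnormal_of_snIn_top h1)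
      obtain ⟨K, hK, hJK⟩ := (eq_top_or_exists_le_coatom _).resolve_left hJ
      obtain rfl := coatom_eq hns hsn hK hM (le_sup_left.trans hJK) hAM
      have hco : IsCoatom (MulAut.conj y⁻¹ • K) := by
        constructor
        · intro e
          apply hK.1
          have := congrArg (fun L => MulAut.conj y • L) e
          simpa [map_inv, smul_inv_smul, conj_smul_top] using this
        · intro L hL
          have := hK.2 (MulAut.conj y • L) ?_
          · have := congrArg (fun L => MulAut.conj y⁻¹ • L) this
            rwa [conj_smul_top, map_inv, inv_smul_smul] at this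
          · refine lt_of_le_of_ne ?_ ?_
            · intro z hz
              have := hL.le (smul_mem_pointwise_smul z (MulAut.conj y⁻¹) K hz)
              rw [mem_pointwise_smul_iff_inv_smul_mem, ← map_inv]
              exact this
            · intro e
              apply hL.ne
              rw [e, map_inv, inv_smul_smul]
      have hAco : A ≤ MulAut.conj y⁻¹ • K := fun a ha => by
        rw [mem_pointwise_smul_iff_inv_smul_mem, ← map_inv, inv_inv]
        exact (le_sup_right.trans hJK) (smul_mem_pointwise_smul _ (MulAut.conj y) _ ha)
      have heq := coatom_eq hns hsn hco hM hAco hAM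
      rw [SetLike.mem_coe, ← hnorm]
      have : y⁻¹ ∈ normalizer (K : Set G) := by
        rw [mem_normalizer_iff]
        intro z
        constructor
        · intro hz
          conv => rw [← heq]
          exact smul_mem_pointwise_smul z (MulAut.conj y⁻¹) K hz
        · intro hz
          rw [← heq, mem_pointwise_smul_iff_inv_smul_mem] at hz
          simpa [MulAut.smul_def, mul_assoc] using hz
      exact inv_mem_iff.mp this
    have hn : (normalClosure (A : Set G)).Normal := normalClosure_normal
    exact hns (IsSubnormal.trans (subset_normalClosure (s := (A : Set G)))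
      ((hsn M hM.1 hAM).restrict hcl) hn.isSubnormal)

/-- Let A be a subgroup of a finite group G. If A is subnormal in the subgroup generated by A and its conjugate by g⁻¹ a g, for every a ∈ A and every g ∈ G, then A is subnormal in G. (A sharpening of Wielandt's subnormality criterion: only conjugates of A by conjugates of elements of A are needed.) -/
theorem result {G : Type*} [Group G] [Finite G]
    (A : Subgroup G)
    (h : ∀ a ∈ A, ∀ g : G, (A.subgroupOf (A ⊔ MulAut.conj (g⁻¹ * a * g) • A)).IsSubnormal) :
    A.IsSubnormal := by
  exact main (Nat.card G) G le_rfl A h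

end Cfsg.Agent.S4333
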