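import Cfsg.Statements.S4334
import Cfsg.Agent.Transfer.Frobenius
import Cfsg.Agent.Coprime.Action

set_option autoImplicit false
open Cfsg

namespace Cfsg.Agent.S4334

open Subgroup

variable {G : Type*} [Group G] [Finite G]

/-- Elementwise commuting of two subgroups, up to conjugation. -/
theorem le_centralizer_conj {A B : Subgroup G} (h : A ≤ centralizer (B : Set G)) (φ : MulAut G) :
    A.map φ.toMonoidHom ≤ centralizer ((B.map φ.toMonoidHom : Subgroup G) : Set G) := by
  rintro _ ⟨a, ha, rfl⟩
  rw [mem_centralizer_iff]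
  rintro _ ⟨b, hb, rfl⟩
  change φ b * φ a = φ a * φ b
  rw [← map_mul, ← map_mul, mem_centralizer_iff.mp (h ha) b hb]

/-- A subgroup containing all elements of prime power order of `L` contains `L`. -/
theorem le_of_forall_primePow {L C : Subgroup G}
    (h : ∀ r : ℕ, r.Prime → ∀ y ∈ L, IsPGroup r (zpowers y) → y ∈ C) : L ≤ C := by
  rw [← relIndex_eq_one]
  by_contra hne
  obtain ⟨r, hr, hd⟩ := Nat.exists_prime_and_dvd hne
  have : Fact r.Prime := ⟨hr⟩
  inhabit Sylow r L
  let R : Sylow r L := default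
  have hle : (R : Subgroup L) ≤ C.subgroupOf L := by
    intro y hy
    rw [mem_subgroupOf]
    refine h r hr y y.2 ?_
    have : zpowers (y : G) ≤ (R : Subgroup L).map L.subtype := by
      rw [zpowers_le]; exact ⟨y, hy, rfl⟩
    exact (R.2.map _).to_le this
  exact R.not_dvd_index (hd.trans (index_dvd_of_le hle))

/-- If a Sylow `p`- and a Sylow `r`-subgroup commute, then `p`-elements centralise the `r`-subgroups
they normalise. -/
theorem mem_centralizer_of_commuting {p r : ℕ} [Fact p.Prime] [Fact r.Prime] (S : Sylow p G)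
    (T : Sylow r G) (hST : (S : Subgroup G) ≤ centralizer ((T : Subgroup G) : Set G)) {R : Subgroup G}
    (hR : IsPGroup r R) {g : G} (hgp : IsPGroup p (zpowers g)) (hg : g ∈ normalizer (R : Set G)) :
    g ∈ centralizer (R : Set G) := by
  obtain ⟨T', hT'⟩ := hR.exists_le_sylow
  obtain ⟨a, ha⟩ := MulAction.exists_smul_eq G T T'
  have h1 : ((a • S : Sylow p G) : Subgroup G) ≤ centralizer (R : Set G) := by
    refine (le_centralizer_conj hST (MulAut.conj a)).trans (centralizer_le ?_)
    intro x hx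
    have hx' := hT' hx
    rw [← ha] at hx'
    exact hx'
  set C := centralizer (R : Set G) with hC
  set N := normalizer (R : Set G) with hN
  have hCN : C ≤ N := (centralizer_le_normalizer _)
  have : (C.subgroupOf N).Normal := normal_subgroupOf_centralizer_normalizer (R : Set G)
  have hidx : ¬ p ∣ (C.subgroupOf N).index := fun hd =>
    (a • S).not_dvd_index ((hd.trans (relIndex_dvd_of_le_left (L := N) h1)).trans
      (relIndex_dvd_index_of_le (h1.trans hCN)))
  obtain ⟨k, hk⟩ := hgp ⟨g, mem_zpowers g⟩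
  have hk1 : ((⟨g, hg⟩ : N) : N ⧸ C.subgroupOf N) ^ p ^ k = 1 := by
    have hk' : g ^ p ^ k = 1 := congrArg Subtype.val hk
    have hsub : ((⟨g, hg⟩ : N)) ^ p ^ k = 1 := Subtype.ext hk'
    rw [← QuotientGroup.mk_pow, hsub]
    rfl
  have hk2 : ((⟨g, hg⟩ : N) : N ⧸ C.subgroupOf N) ^ Nat.card (N ⧸ C.subgroupOf N) = 1 := pow_card_eq_one'
  have hcop : (p ^ k).Coprime (Nat.card (N ⧸ C.subgroupOf N)) :=
    Nat.Coprime.pow_left k ((Nat.Prime.coprime_iff_not_dvd Fact.out).mpr hidx)
  have h := pow_gcd_eq_one.mpr ⟨hk1, hk2⟩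
  rw [Nat.coprime_iff_gcd_eq_one.mp hcop, pow_one, QuotientGroup.eq_one_iff] at h
  exact h

variable {p : ℕ} [Fact p.Prime] {π : Set ℕ}

/-- If for every `r ∈ π \ {p}` some Sylow `p`-subgroup commutes with some Sylow `r`-subgroup, every
`π`-subgroup is the product of a `p`-subgroup and a `p'`-subgroup centralising each other. -/
theorem exists_decomposition
    (hp : ∀ r : ℕ, r.Prime → r ∈ π → r ≠ p → ∃ (S : Sylow p G) (T : Sylow r G),
      (S : Subgroup G) ≤ centralizer ((T : Subgroup G) : Set G))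
    (K : Subgroup G) (hK : Cfsg.IsPiSubgroup π K) :
    ∃ A N : Subgroup G, A ≤ K ∧ N ≤ K ∧ A ⊔ N = K ∧ IsPGroup p A ∧ ¬ p ∣ Nat.card N ∧
      A ≤ centralizer (N : Set G) := by
  have hrpi : ∀ {r : ℕ} {y : G}, r.Prime → y ∈ K → y ≠ 1 → IsPGroup r (zpowers y) → r ∈ π := by
    intro r y hr hy hy1 hry
    refine hK r hr (dvd_trans ?_ (card_dvd_of_le (zpowers_le.mpr hy)))
    have := Fact.mk hr
    exact (hry.card_eq_or_dvd).resolve_left fun h => hy1 (zpowers_eq_bot.mp (card_eq_one.mp h))
  have hnc : Cfsg.HasNormalPComplement p K := by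
    refine CfsgLib.Transfer.hasNormalPComplement_of_local default fun Q hQ g hg hgp => ?_
    have hQp : IsPGroup p (Q.map K.subtype) := ((default : Sylow p K).2.to_le hQ).map _
    have key : zpowers (g : G) ≤ centralizer ((Q.map K.subtype : Subgroup G) : Set G) := by
      refine le_of_forall_primePow fun r hr y hy hry => ?_
      rcases eq_or_ne y 1 with rfl | hy1
      · exact one_mem _
      have : Fact r.Prime := ⟨hr⟩
      have hrp : r ≠ p := by
        rintro rfl
        have h1 : r ∣ Nat.card (zpowers (g : G)) :=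
          ((hry.card_eq_or_dvd).resolve_left fun h => hy1 (zpowers_eq_bot.mp (card_eq_one.mp h))).trans
            (card_dvd_of_le (zpowers_le.mpr hy))
        rw [Nat.card_zpowers, Subgroup.orderOf_coe] at h1
        exact hr.ne_one (Nat.dvd_one.mp (hgp ▸ Nat.dvd_gcd h1 dvd_rfl))
      obtain ⟨S, T, hST⟩ := hp r hr (hrpi hr ((zpowers_le.mpr g.2) hy) hy1 hry) hrp
      refine mem_centralizer_of_commuting T S (le_centralizer_iff.mp hST) hQp hry ?_
      refine (zpowers_le (g := (g : G))).mpr ?_ hy
      rw [mem_normalizer_iff]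
      intro x
      constructor
      · rintro ⟨q, hq, rfl⟩
        exact ⟨g * q * g⁻¹, (mem_normalizer_iff.mp hg q).mp hq, rfl⟩
      · rintro ⟨q, hq, he⟩
        refine ⟨g⁻¹ * q * g, (mem_normalizer_iff''.mp hg q).mp hq, ?_⟩
        change (g : G)⁻¹ * (q : G) * g = x
        rw [show (q : G) = g * x * (g : G)⁻¹ from he]
        group
    intro q hq
    apply Subtype.ext
    exact key (mem_zpowers _) _ ⟨q, hq, rfl⟩
  obtain ⟨N₀, hN₀, hc⟩ := CfsgLib.Transfer.exists_isComplement' hnc default
  set A := ((default : Sylow p K) : Subgroup K).map K.subtype with hA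
  set N := N₀.map K.subtype with hN
  have hcardN : ¬ p ∣ Nat.card N := by
    rw [hN, Subgroup.card_map_of_injective K.subtype_injective]
    exact CfsgLib.Transfer.not_dvd_card_of_isComplement' hc
  have hAp : IsPGroup p A := (default : Sylow p K).2.map _
  have hsup : A ⊔ N = K := by
    rw [hA, hN, ← Subgroup.map_sup, sup_comm, hc.sup_eq_top, ← MonoidHom.range_eq_map, range_subtype]
  refine ⟨A, N, map_subtype_le _, map_subtype_le _, hsup, hAp, hcardN, ?_⟩
  have hAN : A ≤ normalizer (N : Set G) := by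
    rintro _ ⟨a, -, rfl⟩
    rw [mem_normalizer_iff]
    intro x
    constructor
    · rintro ⟨n, hn, rfl⟩
      exact ⟨a * n * a⁻¹, hN₀.conj_mem n hn a, rfl⟩
    · rintro ⟨n, hn, he⟩
      refine ⟨a⁻¹ * n * a, ?_, ?_⟩
      · have h := hN₀.conj_mem n hn a⁻¹
        rwa [inv_inv] at h
      · change (a : G)⁻¹ * (n : G) * a = x
        rw [show (n : G) = a * x * (a : G)⁻¹ from he]
        group
  have hcop : (Nat.card A).Coprime (Nat.card N) := by
    obtain ⟨k, hk⟩ := IsPGroup.iff_card.mp hAp
    rw [hk]; exact Nat.Coprime.pow_left k ((Nat.Prime.coprime_iff_not_dvd Fact.out).mpr hcardN)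
  have hAsolv : Group.IsSolvable A := by
    have : Group.IsNilpotent A := hAp.isNilpotent
    infer_instance
  rw [le_centralizer_iff]
  refine le_of_forall_primePow fun r hr y hy hry => ?_
  rcases eq_or_ne y 1 with rfl | hy1
  · exact one_mem _
  have : Fact r.Prime := ⟨hr⟩
  have hyK : y ∈ K := map_subtype_le _ hy
  have hrp : r ≠ p := by
    rintro rfl
    exact hcardN (((hry.card_eq_or_dvd).resolve_left fun h => hy1 (zpowers_eq_bot.mp
      (card_eq_one.mp h))).trans (card_dvd_of_le (zpowers_le.mpr hy)))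
  obtain ⟨S, T, hST⟩ := hp r hr (hrpi hr hyK hy1 hry) hrp
  obtain ⟨R, hR⟩ := CfsgLib.Coprime.exists_invariant_sylow hAN hcop (Or.inl hAsolv) r
  have hRC : ∀ a ∈ A, a ∈ centralizer (((R : Subgroup N).map N.subtype : Subgroup G) : Set G) :=
    fun a ha => mem_centralizer_of_commuting S T hST (R.2.map _) (hAp.to_le (zpowers_le.mpr ha)) (hR ha)
  -- `y` is conjugate in `N` into `R`; `A` centralises all of `N`
  have hall : N ≤ centralizer (A : Set G) := by
    rw [← relIndex_eq_one]
    by_contra hne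
    obtain ⟨s, hs, hd⟩ := Nat.exists_prime_and_dvd hne
    have : Fact s.Prime := ⟨hs⟩
    have hsN : s ∣ Nat.card N := hd.trans (relIndex_dvd_card _ _)
    have hsp : s ≠ p := fun h => hcardN (h ▸ hsN)
    obtain ⟨S', T', hST'⟩ := hp s hs (hK s hs (hsN.trans (card_dvd_of_le (map_subtype_le _)))) hsp
    obtain ⟨R', hR'⟩ := CfsgLib.Coprime.exists_invariant_sylow hAN hcop (Or.inl hAsolv) s
    have hle : (R' : Subgroup N) ≤ (centralizer (A : Set G)).subgroupOf N := by
      intro z hz
      rw [mem_subgroupOf, mem_centralizer_iff]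
      intro a ha
      exact ((mem_centralizer_iff.mp (mem_centralizer_of_commuting S' T' hST' (R'.2.map _)
        (hAp.to_le (zpowers_le.mpr ha)) (hR' ha))) z ⟨z, hz, rfl⟩).symm
    exact R'.not_dvd_index (hd.trans (index_dvd_of_le hle))
  exact hall hy

/-- Let σ and τ be disjoint sets of primes with union π. Suppose a finite group G has a Hall π-subgroup H which is the direct product of a nilpotent σ-subgroup and a τ-subgroup (two elementwise-commuting subgroups generating H), and that the maximal τ-subgroups of G are pairwise conjugate. Then the maximal π-subgroups of G are pairwise conjugate. -/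
theorem result {G : Type*} [Group G] [Finite G]
    (σ τ π : Set ℕ) (hπ : π = σ ∪ τ) (hd : Disjoint σ τ) (H Hs Ht : Subgroup G) (hH : Cfsg.IsPiHall π H)
    (hs : Cfsg.IsPiSubgroup σ Hs) (ht : Cfsg.IsPiSubgroup τ Ht) (hsn : Group.IsNilpotent Hs)
    (hjoin : Hs ⊔ Ht = H) (hcomm : ∀ a ∈ Hs, ∀ b ∈ Ht, a * b = b * a) (hD : Cfsg.IsDPiGroup τ G) :
    Cfsg.IsDPiGroup π G := by
  classical
  subst hπ
  have hHsH : Hs ≤ H := hjoin ▸ le_sup_left
  have hHtH : Ht ≤ H := hjoin ▸ le_sup_right
  have hst : Hs ≤ centralizer (Ht : Set G) := fun a ha =>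
    mem_centralizer_iff.mpr fun b hb => (hcomm a ha b hb).symm
  have hHs_norm : (Hs.subgroupOf H).Normal := by
    rw [normal_subgroupOf_iff_le_normalizer hHsH, ← hjoin]
    exact sup_le le_normalizer ((le_centralizer_iff.mp hst).trans (centralizer_le_normalizer _))
  have hHt_norm : (Ht.subgroupOf H).Normal := by
    rw [normal_subgroupOf_iff_le_normalizer hHtH, ← hjoin]
    exact sup_le (hst.trans (centralizer_le_normalizer _)) le_normalizer
  have hHsupp : ∀ q : ℕ, q.Prime → q ∈ σ ∪ τ → ¬ q ∣ H.index := hH.2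
  -- Sylow subgroups of the factors are Sylow subgroups of `G`
  have hfac : ∀ (X Y : Subgroup G), X ⊔ Y = H → (Y.subgroupOf H).Normal →
      ∀ q : ℕ, q.Prime → q ∈ σ ∪ τ → ¬ q ∣ Nat.card Y → ¬ q ∣ X.index := by
    intro X Y hXY hY q hq hqπ hqY hd
    have hXH : X ≤ H := hXY ▸ le_sup_left
    rw [← relIndex_mul_index hXH] at hd
    rcases hq.dvd_mul.mp hd with h | h
    · have e : X.relIndex H ∣ Nat.card Y := by
        have hYH : Y ≤ H := hXY ▸ le_sup_right
        have h1 : (X.subgroupOf H).index ∣ Nat.card (Y.subgroupOf H) := by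
          have htop : X.subgroupOf H ⊔ Y.subgroupOf H = ⊤ := by
            rw [← subgroupOf_sup hXH hYH, hXY, subgroupOf_self]
          have := relIndex_sup_right (X.subgroupOf H) (Y.subgroupOf H)
          have h2 := relIndex_mul_relIndex (X.subgroupOf H ⊓ Y.subgroupOf H) (Y.subgroupOf H) ⊤
            inf_le_right le_top
          have h3 := relIndex_mul_relIndex (X.subgroupOf H ⊓ Y.subgroupOf H) (X.subgroupOf H) ⊤
            inf_le_left le_top
          rw [inf_relIndex_right, relIndex_top_right] at h2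
          rw [inf_relIndex_left, relIndex_top_right] at h3
          rw [htop, relIndex_top_right] at this
          rw [this, mul_comm, ← h3] at h2
          exact (Nat.eq_of_mul_eq_mul_left (Nat.pos_of_ne_zero
            (Nat.card_pos (α := X.subgroupOf H ⧸ (Y.subgroupOf H).subgroupOf (X.subgroupOf H))).ne') h2).symm ▸
            relIndex_dvd_card (X.subgroupOf H) (Y.subgroupOf H)
        rwa [Nat.card_congr (subgroupOfEquivOfLe hYH).toEquiv] at h1
      exact hqY (h.trans e)
    · exact hHsupp q hq hqπ h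
  have hHs_idx : ∀ q : ℕ, q.Prime → q ∈ σ → ¬ q ∣ Hs.index := fun q hq hqs =>
    hfac Hs Ht hjoin hHt_norm q hq (Or.inl hqs) fun h => Set.disjoint_left.mp hd hqs (ht q hq h)
  have hHt_idx : ∀ q : ℕ, q.Prime → q ∈ τ → ¬ q ∣ Ht.index := fun q hq hqt =>
    hfac Ht Hs (by rw [sup_comm]; exact hjoin) hHs_norm q hq (Or.inr hqt)
      fun h => Set.disjoint_left.mp hd (hs q hq h) hqt
  -- commuting Sylow subgroups
  have hsyl : ∀ (q : ℕ) (X : Subgroup G), q.Prime → ¬ q ∣ X.index →
      ∃ S : Sylow q G, (S : Subgroup G) ≤ X := by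
    intro q X hq hqX
    have : Fact q.Prime := ⟨hq⟩
    inhabit Sylow q X
    let R : Sylow q X := default
    have hR : ¬ q ∣ ((R : Subgroup X).map X.subtype).index := by
      rw [index_map_subtype]
      exact hq.not_dvd_mul R.not_dvd_index hqX
    exact ⟨(R.2.map _).toSylow hR, by rw [IsPGroup.toSylow_coe]; exact map_subtype_le _⟩
  have hpair : ∀ p : ℕ, ∀ [Fact p.Prime], p ∈ σ → ∀ r : ℕ, r.Prime → r ∈ σ ∪ τ → r ≠ p →
      ∃ (S : Sylow p G) (T : Sylow r G), (S : Subgroup G) ≤ centralizer ((T : Subgroup G) : Set G) := by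
    intro p _ hpσ r hr hrπ hrp
    have : Fact r.Prime := ⟨hr⟩
    obtain ⟨S, hS⟩ := hsyl p Hs Fact.out (hHs_idx p Fact.out hpσ)
    rcases hrπ with hrσ | hrτ
    · obtain ⟨T, hT⟩ := hsyl r Hs hr (hHs_idx r hr hrσ)
      refine ⟨S, T, fun a ha => mem_centralizer_iff.mpr fun b hb => ?_⟩
      have hn1 : ((S.subtype hS : Sylow p Hs) : Subgroup Hs).Normal :=
        Sylow.normal_of_normalizerCondition Group.normalizerCondition_of_isNilpotent _
      have hn2 : ((T.subtype hT : Sylow r Hs) : Subgroup Hs).Normal :=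
        Sylow.normal_of_normalizerCondition Group.normalizerCondition_of_isNilpotent _
      have hdis : Disjoint ((S.subtype hS : Sylow p Hs) : Subgroup Hs) ((T.subtype hT : Sylow r Hs) : Subgroup Hs) :=
        IsPGroup.disjoint_of_ne p r hrp.symm _ _ (S.subtype hS).2 (T.subtype hT).2
      exact congrArg Subtype.val (commute_of_normal_of_disjoint _ _ hn1 hn2 hdis ⟨a, hS ha⟩ ⟨b, hT hb⟩
        (by rw [Sylow.coe_subtype, mem_subgroupOf]; exact ha)
        (by rw [Sylow.coe_subtype, mem_subgroupOf]; exact hb)).eq.symm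
    · obtain ⟨T, hT⟩ := hsyl r Ht hr (hHt_idx r hr hrτ)
      exact ⟨S, T, (hS.trans hst).trans (centralizer_le hT)⟩
  have hmain : ∀ (n : ℕ) (K : Subgroup G), Nat.card K ≤ n → Cfsg.IsPiSubgroup (σ ∪ τ) K →
      ∃ g : G, K.map (MulAut.conj g).toMonoidHom ≤ H := by
    intro n
    induction n with
    | zero => intro K hc; exact absurd (Nat.card_pos (α := K)) (by omega)
    | succ n ih =>
      intro K hc hK
      by_cases hsig : ∃ p, p.Prime ∧ p ∈ σ ∧ p ∣ Nat.card K
      · obtain ⟨p, hp, hpσ, hpK⟩ := hsig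
        have : Fact p.Prime := ⟨hp⟩
        obtain ⟨A, N, hAK, hNK, hsup, hA, hN, hAN⟩ := exists_decomposition (hpair p hpσ) K hK
        have hlt : N < K := lt_of_le_of_ne hNK fun h => hN (h ▸ hpK)
        obtain ⟨g, hg⟩ := ih N (by
            have := (Nat.le_of_dvd Nat.card_pos (card_dvd_of_le hNK)).lt_of_ne fun h =>
              hlt.ne (eq_of_le_of_card_ge hNK h.ge)
            omega)
          (fun q hq h => hK q hq (h.trans (card_dvd_of_le hNK)))
        set φ := (MulAut.conj g).toMonoidHom with hφ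
        obtain ⟨S, hS⟩ := hsyl p Hs hp (hHs_idx p hp hpσ)
        have hHnorm : H ≤ normalizer ((S : Subgroup G) : Set G) := by
          rw [← hjoin]
          refine sup_le ?_ ((le_centralizer_iff.mp hst).trans ((centralizer_le hS).trans (centralizer_le_normalizer _)))
          have hn1 : ((S.subtype hS : Sylow p Hs) : Subgroup Hs).Normal :=
            Sylow.normal_of_normalizerCondition Group.normalizerCondition_of_isNilpotent _
          rw [Sylow.coe_subtype] at hn1
          exact (normal_subgroupOf_iff_le_normalizer hS).mp hn1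
        have hSC : (S : Subgroup G) ≤ centralizer ((N.map φ : Subgroup G) : Set G) := by
          rw [le_centralizer_iff]
          refine le_of_forall_primePow fun r hr y hy hry => ?_
          rcases eq_or_ne y 1 with rfl | hy1
          · exact one_mem _
          have : Fact r.Prime := ⟨hr⟩
          have hrN : r ∣ Nat.card (N.map φ) :=
            ((hry.card_eq_or_dvd).resolve_left fun h => hy1 (zpowers_eq_bot.mp (card_eq_one.mp h))).trans
              (card_dvd_of_le (zpowers_le.mpr hy))
          rw [hφ, card_map_of_injective (MulAut.conj g).injective] at hrN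
          obtain ⟨S', T', hST'⟩ := hpair p hpσ r hr (hK r hr (hrN.trans (card_dvd_of_le hNK)))
            (fun h => hN (h ▸ hrN))
          exact mem_centralizer_of_commuting T' S' (le_centralizer_iff.mp hST') S.2 hry (hHnorm (hg hy))
        set C := centralizer ((N.map φ : Subgroup G) : Set G) with hC
        have hAC : A.map φ ≤ C := le_centralizer_conj hAN _
        obtain ⟨R, hR⟩ := ((hA.map φ).comap_subtype (K := C)).exists_le_sylow
        obtain ⟨c, hcR⟩ := MulAction.exists_smul_eq C R (S.subtype hSC)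
        refine ⟨(c : G) * g, ?_⟩
        rw [← hsup, Subgroup.map_sup, sup_le_iff]
        have e : (MulAut.conj ((c : G) * g)).toMonoidHom = ((MulAut.conj (c : G)).toMonoidHom).comp φ := by
          rw [hφ, map_mul]; rfl
        constructor
        · rw [e, ← map_map]
          rintro _ ⟨x, hx, rfl⟩
          have hxR : (⟨x, hAC hx⟩ : C) ∈ (R : Subgroup C) := hR (mem_subgroupOf.mpr hx)
          have hm : c * ⟨x, hAC hx⟩ * c⁻¹ ∈ ((c • R : Sylow p C) : Subgroup C) := by
            rw [Sylow.coe_subgroup_smul]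
            exact smul_mem_pointwise_smul _ (MulAut.conj c) _ hxR
          rw [hcR, Sylow.coe_subtype, mem_subgroupOf] at hm
          exact hHsH (hS hm)
        · rw [e, ← map_map]
          rintro _ ⟨x, hx, rfl⟩
          have h1 : (MulAut.conj (c : G)).toMonoidHom x = x := by
            change (c : G) * x * (c : G)⁻¹ = x
            rw [← mem_centralizer_iff.mp c.2 x hx, mul_inv_cancel_right]
          rw [h1]; exact hg hx
      · push Not at hsig
        have hKτ : Cfsg.IsPiSubgroup τ K := fun q hq h =>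
          (hK q hq h).resolve_left fun hqs => hsig q hq hqs h
        obtain ⟨M, hKM, hM⟩ := Finite.exists_le_maximal (p := fun X : Subgroup G => Cfsg.IsPiSubgroup τ X) hKτ
        have hHtmax : Maximal (Cfsg.IsPiSubgroup τ) Ht := by
          refine ⟨ht, fun X hX hle => relIndex_eq_one.mp (by_contra fun hne => ?_)⟩
          obtain ⟨q, hq, hqd⟩ := Nat.exists_prime_and_dvd hne
          exact hHt_idx q hq (hX q hq (hqd.trans (relIndex_dvd_card _ _)))
            (hqd.trans (relIndex_dvd_index_of_le hle))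
        obtain ⟨g, hg⟩ := hD M Ht hM hHtmax
        exact ⟨g, (map_mono hKM).trans (hg ▸ hHtH)⟩
  have hHπ : Cfsg.IsPiSubgroup (σ ∪ τ) H := hH.1
  intro A B hA hB
  have hconj : ∀ X : Subgroup G, Maximal (Cfsg.IsPiSubgroup (σ ∪ τ)) X →
      ∃ g : G, X.map (MulAut.conj g).toMonoidHom = H := by
    intro X hX
    obtain ⟨g, hg⟩ := hmain _ X le_rfl hX.1
    refine ⟨g, le_antisymm hg ?_⟩
    have hXle : X ≤ H.map (MulAut.conj g⁻¹).toMonoidHom := fun x hx =>
      ⟨g * x * g⁻¹, hg ⟨x, hx, rfl⟩, by simp [mul_assoc]⟩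
    have hle := hX.2 (y := H.map (MulAut.conj g⁻¹).toMonoidHom)
      (fun q hq h => hHπ q hq (by rwa [card_map_of_injective (MulAut.conj g⁻¹).injective] at h)) hXle
    intro h hh
    exact ⟨g⁻¹ * h * g, hle ⟨h, hh, by simp⟩, by simp [mul_assoc]⟩
  obtain ⟨a, ha⟩ := hconj A hA
  obtain ⟨b, hb⟩ := hconj B hB
  refine ⟨b⁻¹ * a, (map_injective (f := (MulAut.conj b).toMonoidHom) (MulAut.conj b).injective ?_)⟩
  rw [hb, ← ha, map_map]
  congr 1
  ext x
  simp [mul_assoc]

end Cfsg.Agent.S4334
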