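import Cfsg.Statements.S4344

set_option autoImplicit false
open Cfsg

namespace Cfsg.Agent.S4344

open Subgroup

/-- Let S be a finite non-abelian simple group, M a maximal subgroup of S and C a cyclic normal subgroup of M. If a Sylow p-subgroup P of S (for a prime p dividing the order of S) is contained in C, then the number of Sylow p-subgroups of S equals the index of M. -/
theorem result {S : Type*} [Group S] [Finite S]
    [IsSimpleGroup S] (hS : ¬ IsMulCommutative S) (p : ℕ) [Fact p.Prime] (hp : p ∣ Nat.card S)
    (M : Subgroup S) (hM : IsCoatom M) (C : Subgroup S) (hCM : C ≤ M) (hCn : (C.subgroupOf M).Normal)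
    (hC : IsCyclic C) (P : Sylow p S) (hP : (P : Subgroup S) ≤ C) :
    Nat.card (Sylow p S) = M.index := by
  have hconj : M ≤ normalizer ((P : Subgroup S) : Set S) := by
    intro m hm
    rw [Subgroup.mem_normalizer_iff]
    have key : ∀ n ∈ M, ∀ x ∈ (P : Subgroup S), n * x * n⁻¹ ∈ (P : Subgroup S) := by
      intro n hn x hx
      have hyC : n * x * n⁻¹ ∈ C := by
        have := hCn.conj_mem ⟨x, hCM (hP hx)⟩ (hP hx) ⟨n, hn⟩
        simpa [Subgroup.mem_subgroupOf] using this
      have hp' : IsPGroup p (zpowers (n * x * n⁻¹)) := by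
        have hmap : zpowers (n * x * n⁻¹) ≤ (P : Subgroup S).map (MulAut.conj n).toMonoidHom := by
          rw [zpowers_le]; exact ⟨x, hx, rfl⟩
        exact (P.2.map _).to_le hmap
      have hnorm : zpowers (n * x * n⁻¹) ≤ normalizer ((P : Subgroup S) : Set S) := by
        rw [zpowers_le, Subgroup.mem_normalizer_iff]
        intro z
        have hcommC : ∀ a ∈ C, ∀ b ∈ C, a * b = b * a := fun a ha b hb => by
          have := IsMulCommutative.is_comm.comm (⟨a, ha⟩ : C) ⟨b, hb⟩
          exact congrArg Subtype.val this
        constructor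
        · intro hz
          rw [hcommC _ hyC _ (hP hz), mul_inv_cancel_right]; exact hz
        · intro hz
          have e := hcommC _ (C.inv_mem hyC) _ (hP hz)
          have : z = n * x * n⁻¹ * z * (n * x * n⁻¹)⁻¹ := by
            calc z = (n * x * n⁻¹)⁻¹ * (n * x * n⁻¹ * z * (n * x * n⁻¹)⁻¹) * (n * x * n⁻¹) := by group
              _ = _ := by rw [e, inv_mul_cancel_right]
          rwa [this]
      have hsup := IsPGroup.to_sup_of_normal_left' P.2 hp' hnorm
      rw [← P.3 hsup le_sup_left]
      exact le_sup_right (a := (P : Subgroup S)) (mem_zpowers _)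
    intro x
    refine ⟨key m hm x, fun hx => ?_⟩
    have := key m⁻¹ (M.inv_mem hm) _ hx
    simpa [mul_assoc] using this
  rcases hM.le_iff.mp hconj with htop | heq
  · exfalso
    have hnorm : (P : Subgroup S).Normal := normalizer_eq_top_iff.mp htop
    rcases hnorm.eq_bot_or_eq_top with hb | ht
    · exact P.ne_bot_of_dvd_card hp hb
    · have hpg : IsPGroup p S := fun g => by
        obtain ⟨k, hk⟩ := P.2 ⟨g, ht ▸ mem_top g⟩
        exact ⟨k, by simpa using congrArg Subtype.val hk⟩
      have hnt : Nontrivial S := inferInstance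
      rcases (inferInstance : (center S).Normal).eq_bot_or_eq_top with hb | ht'
      · exact absurd hb (bot_lt_iff_ne_bot.mp hpg.bot_lt_center)
      · exact hS ⟨⟨fun a b => (Subgroup.mem_center_iff.mp (ht' ▸ mem_top a) b).symm⟩⟩
  · rw [P.card_eq_index_normalizer]
    exact congrArg Subgroup.index heq

end Cfsg.Agent.S4344
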