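import Cfsg.Statements.S4345
import Cfsg.Agent.SylowCount.Basic

set_option autoImplicit false
open Cfsg

namespace Cfsg.Agent.S4345

open Subgroup CfsgLib.SylowCount

/-- A nontrivial finite solvable group has a nontrivial normal subgroup of prime power order. -/
theorem exists_normal_primePow {G : Type*} [Group G] [Finite G] [Nontrivial G] (hG : Group.IsSolvable G) :
    ∃ (q : ℕ) (K : Subgroup G), q.Prime ∧ K.Normal ∧ K ≠ ⊥ ∧ IsPGroup q K := by
  classical
  obtain ⟨n, hn⟩ := hG
  have hex : ∃ n, derivedSeries G n = ⊥ := ⟨n, hn⟩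
  have h0 : Nat.find hex ≠ 0 := fun h => top_ne_bot (α := Subgroup G)
    (by have := Nat.find_spec hex; rwa [h, derivedSeries_zero] at this)
  obtain ⟨m, hm⟩ := Nat.exists_eq_succ_of_ne_zero h0
  set A := derivedSeries G m with hA
  have hAne : A ≠ ⊥ := Nat.find_min hex (m := m) (by omega)
  have hcomm : ⁅A, A⁆ = ⊥ := by
    have h := Nat.find_spec hex
    rw [hm] at h
    rw [hA, ← derivedSeries_succ]; exact h
  have hAn : A.Normal := derivedSeries_normal G m
  have hab : ∀ a b : A, a * b = b * a := fun a b =>
    Subtype.ext ((mem_centralizer_iff.mp (commutator_eq_bot_iff_le_centralizer.mp hcomm a.2) _ b.2).symm)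
  have hcard : Nat.card A ≠ 1 := fun h => hAne (card_eq_one.mp h)
  obtain ⟨q, hq, hqd⟩ := Nat.exists_prime_and_dvd hcard
  have : Fact q.Prime := ⟨hq⟩
  inhabit Sylow q A
  have hQn : ((default : Sylow q A) : Subgroup A).Normal := ⟨fun a ha b => by rwa [hab b a, mul_inv_cancel_right]⟩
  have := Sylow.characteristic_of_normal _ hQn
  refine ⟨q, ((default : Sylow q A) : Subgroup A).map A.subtype, hq, inferInstance, ?_, ?_⟩
  · rw [Ne, map_eq_bot_iff_of_injective _ A.subtype_injective]
    exact Sylow.ne_bot_of_dvd_card _ hqd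
  · exact (default : Sylow q A).2.map _

theorem main (N : ℕ) : ∀ (G : Type*) [Group G] [Finite G], Nat.card G ≤ N → Group.IsSolvable G →
    ∀ (p ℓ : ℕ) [Fact p.Prime], ℓ.Prime → ℓ ^ (Nat.card (Sylow p G)).factorization ℓ ≡ 1 [MOD p] := by
  induction N with
  | zero => intro G _ _ h; exact absurd (Nat.card_pos (α := G)) (by omega)
  | succ N ih =>
    intro G _ _ hc hG p ℓ _ hℓ
    rcases subsingleton_or_nontrivial G with hs | hnt
    · have hle := Nat.card_le_card_of_injective (fun Q : Sylow p G => (Q : Subgroup G)) fun A B h => Sylow.ext h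
      have : Nat.card (Sylow p G) = 1 := by
        have : Subsingleton (Sylow p G) := ⟨fun A B => Sylow.ext (Subsingleton.elim _ _)⟩
        exact Nat.card_of_subsingleton default
      simp [this, Nat.ModEq.refl]
    · obtain ⟨q, K, hq, hKn, hK, hKq⟩ := exists_normal_primePow hG
      inhabit Sylow p G
      set P : Sylow p G := default with hP
      rw [card_sylow_eq_quotient_mul_sup K P, Nat.factorization_mul Nat.card_pos.ne' Nat.card_pos.ne',
        Finsupp.add_apply, pow_add]
      have h1 : ℓ ^ (Nat.card (Sylow p (G ⧸ K))).factorization ℓ ≡ 1 [MOD p] := by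
        refine ih _ ?_ inferInstance p ℓ hℓ
        have h2 : 1 < Nat.card K := one_lt_card_iff_ne_bot K |>.mpr hK
        rw [card_eq_card_quotient_mul_card_subgroup K] at hc
        have h3 := Nat.mul_le_mul_left (Nat.card (G ⧸ K)) h2
        have h4 : 0 < Nat.card (G ⧸ K) := Nat.card_pos
        nlinarith
      set L : Subgroup G := (P : Subgroup G) ⊔ K with hL
      have h2 : ℓ ^ (Nat.card (Sylow p L)).factorization ℓ ≡ 1 [MOD p] := by
        have hdvd : Nat.card (Sylow p L) ∣ Nat.card K := by
          refine (Sylow.card_dvd_index (P.subtype (le_sup_left (b := K)))).trans ?_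
          rw [Sylow.coe_subtype]
          change (P : Subgroup G).relIndex L ∣ _
          rw [hL, ← relIndex_eq_relIndex_sup]
          exact relIndex_dvd_card _ _
        have : Fact q.Prime := ⟨hq⟩
        obtain ⟨k, hk⟩ := IsPGroup.iff_card.mp hKq
        obtain ⟨j, -, hj⟩ := (Nat.dvd_prime_pow hq).mp (hk ▸ hdvd)
        rcases eq_or_ne ℓ q with rfl | hne
        · rw [hj, Nat.Prime.factorization_pow hℓ, Finsupp.single_eq_same, ← hj]
          exact card_sylow_modEq_one p L
        · rw [hj, Nat.Prime.factorization_pow hq, Finsupp.single_eq_of_ne hne, pow_zero]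
      simpa using h1.mul h2

/-- Let G be a finite solvable group and p, ℓ primes. Then the largest power of ℓ dividing the number of Sylow p-subgroups of G is congruent to 1 modulo p. -/
theorem result {G : Type*} [Group G] [Finite G]
    (hG : Group.IsSolvable G) (p ℓ : ℕ) [Fact p.Prime] (hℓ : ℓ.Prime) :
    ℓ ^ (Nat.card (Sylow p G)).factorization ℓ ≡ 1 [MOD p] := by
  exact main (Nat.card G) G le_rfl hG p ℓ hℓ

end Cfsg.Agent.S4345
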