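import Cfsg.Statements.S4346
import Cfsg.Agent.SylowNumber.MaxNormal
import Cfsg.Agent.TwentyTwo.Cases

set_option autoImplicit false
open Cfsg

namespace Cfsg.Agent.S4346

theorem card_sylow_congr {A B : Type*} [Group A] [Group B] [Finite A] [Finite B] (p : ℕ)
    [Fact p.Prime] (e : A ≃* B) : Nat.card (Sylow p A) = Nat.card (Sylow p B) := by
  obtain ⟨P⟩ : Nonempty (Sylow p A) := Sylow.nonempty
  have hsurj : Function.Surjective e.toMonoidHom := e.surjective
  rw [P.card_eq_index_normalizer,
    (P.mapSurjective hsurj).card_eq_index_normalizer, ← Sylow.coe_coe,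
    ← Sylow.coe_coe (P.mapSurjective hsurj), Sylow.coe_mapSurjective]
  rw [← Subgroup.index_comap_of_surjective (Subgroup.normalizer _) hsurj,
    Subgroup.comap_normalizer_eq_of_surjective _ hsurj, Subgroup.comap_map_eq_self_of_injective e.injective]

/-- No finite group has exactly 22 Sylow 3-subgroups. -/
theorem result {G : Type*} [Group G] [Finite G] : Nat.card (Sylow 3 G) ≠ 22 := by
  suffices h : ∀ n, ∀ (H : Subgroup G), Nat.card H = n → Nat.card (Sylow 3 H) ≠ 22 by
    intro h22
    exact h _ ⊤ rfl ((card_sylow_congr 3 Subgroup.topEquiv).trans h22)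
  intro n
  induction n using Nat.strong_induction_on with
  | _ n ih =>
  intro H hn h22
  rcases subsingleton_or_nontrivial H with hH | hH
  · obtain ⟨P⟩ : Nonempty (Sylow 3 H) := Sylow.nonempty
    have : Subsingleton (Sylow 3 H) := ⟨fun _ _ => Sylow.ext (Subsingleton.elim _ _)⟩
    have := Nat.card_of_subsingleton P
    omega
  obtain ⟨N, hN, hs, hlt⟩ := CfsgLib.SylowNumber.exists_normal_simple_quotient H
  obtain ⟨c, -, hc, hmod⟩ := CfsgLib.SylowNumber.card_sylow_eq (p := 3) N
  rw [h22] at hc
  have hq := card_sylow_modEq_one 3 (H ⧸ N)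
  have hn' := card_sylow_modEq_one 3 N
  have hc2 := hmod 2 Nat.prime_two
  have hc11 := hmod 11 (by norm_num)
  have hdiv : Nat.divisors 22 = {1, 2, 11, 22} := by decide
  have hc1 : c = 1 := by
    have := Nat.mem_divisors.mpr ⟨(⟨_, hc.trans (mul_comm _ _)⟩ : c ∣ 22), by norm_num⟩
    rw [hdiv] at this
    simp only [Finset.mem_insert, Finset.mem_singleton] at this
    rcases this with rfl | rfl | rfl | rfl
    · rfl
    · rw [Nat.prime_two.factorization_self] at hc2; exact absurd hc2 (by decide)
    · rw [(by norm_num : Nat.Prime 11).factorization_self] at hc11; exact absurd hc11 (by decide)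
    · rw [show (22 : ℕ) = 2 * 11 from rfl, Nat.factorization_mul (by norm_num) (by norm_num),
        Finsupp.add_apply, Nat.prime_two.factorization_self,
        Nat.factorization_eq_zero_of_not_dvd (by norm_num)] at hc2
      exact absurd hc2 (by decide)
  rw [hc1, mul_one] at hc
  have hmem := Nat.mem_divisors.mpr ⟨(⟨_, hc⟩ : Nat.card (Sylow 3 (↥H ⧸ N)) ∣ 22), by norm_num⟩
  rw [hdiv] at hmem
  simp only [Finset.mem_insert, Finset.mem_singleton] at hmem
  rcases hmem with h | h | h | h
  · rw [h, one_mul] at hc
    refine ih _ (hn ▸ hlt) (N.map H.subtype) (Subgroup.card_map_of_injective H.subtype_injective) ?_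
    exact (card_sylow_congr 3 (N.equivMapOfInjective _ H.subtype_injective)).symm.trans hc.symm
  · rw [h] at hq; exact absurd hq (by decide)
  · rw [h] at hq; exact absurd hq (by decide)
  · exact CfsgLib.TwentyTwo.false_of_simple h

end Cfsg.Agent.S4346
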