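import Cfsg.Statements.S4347

set_option autoImplicit false
open Cfsg

namespace Cfsg.Agent.S4347


/-- Let G be a finite group and p a prime. Say a Sylow p-subgroup Q is redundant when every element of p-power order lies in some Sylow p-subgroup other than Q. Then G has no redundant Sylow p-subgroup if and only if some element of p-power order lies in exactly one Sylow p-subgroup. -/
theorem result {G : Type*} [Group G] [Finite G]
    (p : ℕ) [Fact p.Prime] :
    (¬ ∃ Q : Sylow p G, ∀ x : G, (∃ k : ℕ, orderOf x = p ^ k) → ∃ P : Sylow p G, P ≠ Q ∧ x ∈ P) ↔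
      ∃ x : G, (∃ k : ℕ, orderOf x = p ^ k) ∧ ∃! P : Sylow p G, x ∈ P := by
  constructor
  · intro h
    push Not at h
    obtain ⟨x, hx, hu⟩ := h default
    obtain ⟨P, hP⟩ := (IsPGroup.of_card (G := Subgroup.zpowers x) (n := hx.choose)
      (by rw [Nat.card_zpowers]; exact hx.choose_spec)).exists_le_sylow
    refine ⟨x, hx, default, ?_, fun Q hQ => by_contra fun hne => hu Q hne hQ⟩
    have hxP : x ∈ P := hP (Subgroup.mem_zpowers x)
    have : P = default := by_contra fun hne => hu P hne hxP
    exact this ▸ hxP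
  · rintro ⟨x, ⟨k, hk⟩, P, hP, hPu⟩ ⟨Q, hQ⟩
    obtain ⟨g, hg⟩ := MulAction.exists_smul_eq G P Q
    obtain ⟨R, hR, hxR⟩ := hQ (MulAut.conj g x) ⟨k, by rw [MulEquiv.orderOf_eq]; exact hk⟩
    apply hR
    have hmem : x ∈ g⁻¹ • R := by
      show x ∈ ((g⁻¹ • R : Sylow p G) : Subgroup G)
      rw [Sylow.coe_subgroup_smul, Subgroup.mem_pointwise_smul_iff_inv_smul_mem]
      have h' : (MulAut.conj g) x ∈ (R : Subgroup G) := hxR
      simpa [MulAut.smul_def] using h'
    rw [← hg, ← hPu _ hmem, smul_inv_smul]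

end Cfsg.Agent.S4347
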