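import Cfsg.Statements.S4354
import Cfsg.Agent.SylowCount.Basic
import Cfsg.Agent.Solvable.Basic
import Cfsg.Agent.Transfer.NormalPComplement

set_option autoImplicit false
open Cfsg

namespace Cfsg.Agent.S4354

open Subgroup

variable {G : Type*} [Group G] [Finite G] {p : ℕ} [Fact p.Prime]

/-- Every `p`-element of `G` has centraliser of index prime to `p`. -/
def ClassCond (p : ℕ) (G : Type*) [Group G] : Prop :=
  ∀ x : G, (∃ k : ℕ, orderOf x = p ^ k) → ¬ p ∣ (centralizer ({x} : Set G)).index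

theorem classCond_subgroup (h : ClassCond p G) (N : Subgroup G) [N.Normal] : ClassCond p N := by
  intro x hx hd
  obtain ⟨k, hk⟩ := hx
  refine h (x : G) ⟨k, by rw [orderOf_coe]; exact hk⟩ ?_
  have e : centralizer ({x} : Set N) = (centralizer ({(x : G)} : Set G)).subgroupOf N := by
    ext y
    rw [mem_subgroupOf, mem_centralizer_singleton_iff, mem_centralizer_singleton_iff]
    exact ⟨congrArg Subtype.val, fun h => Subtype.ext h⟩
  rw [e] at hd
  have hd' : p ∣ (centralizer ({(x : G)} : Set G)).relIndex N := hd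
  rw [CfsgLib.SylowCount.relIndex_eq_relIndex_sup] at hd'
  exact hd'.trans (relIndex_dvd_index_of_le le_sup_left)

theorem classCond_quotient (h : ClassCond p G) (N : Subgroup G) [N.Normal] : ClassCond p (G ⧸ N) := by
  intro x hx hd
  obtain ⟨Q, hQ⟩ := ((IsPGroup.of_card (G := zpowers x) (n := hx.choose)
    (by rw [Nat.card_zpowers]; exact hx.choose_spec))).exists_le_sylow
  obtain ⟨R, rfl⟩ := Sylow.mapSurjective_surjective (QuotientGroup.mk'_surjective N) p Q
  obtain ⟨y, hy, rfl⟩ := hQ (mem_zpowers x)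
  obtain ⟨j, hj⟩ := IsPGroup.iff_orderOf.mp R.2 ⟨y, hy⟩
  refine h y ⟨j, by rw [← hj, orderOf_mk]⟩ (hd.trans ?_)
  refine (index_dvd_of_le ?_).trans (index_map_dvd _ (QuotientGroup.mk'_surjective N))
  rintro _ ⟨c, hc, rfl⟩
  rw [mem_centralizer_singleton_iff]
  rw [SetLike.mem_coe, mem_centralizer_singleton_iff] at hc
  rw [← map_mul, hc, map_mul]

theorem le_sylow_of_centralizes {x : G} (hx : IsPGroup p (zpowers x)) (P : Sylow p G)
    (h : x ∈ centralizer ((P : Subgroup G) : Set G)) : x ∈ (P : Subgroup G) := by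
  have h1 : zpowers x ≤ (normalizer ((P : Subgroup G) : Set G)) :=
    zpowers_le.mpr (centralizer_le_normalizer _ h)
  have h2 := hx.inf_normalizer_sylow P
  rw [show (normalizer (P : Set G) : Subgroup G) = normalizer ((P : Subgroup G) : Set G) from rfl,
    inf_eq_left.mpr h1] at h2
  exact (inf_eq_left.mp h2.symm) (mem_zpowers x)

theorem exists_sylow_le_centralizer (h : ClassCond p G) {x : G} (hx : IsPGroup p (zpowers x)) :
    ∃ P : Sylow p G, (P : Subgroup G) ≤ centralizer ({x} : Set G) ∧ x ∈ (P : Subgroup G) := by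
  obtain ⟨k, hk⟩ := IsPGroup.iff_card.mp hx
  rw [Nat.card_zpowers] at hk
  have hidx := h x ⟨k, hk⟩
  inhabit Sylow p (centralizer ({x} : Set G))
  let R : Sylow p (centralizer ({x} : Set G)) := default
  have hR : ¬ p ∣ ((R : Subgroup _).map (centralizer ({x} : Set G)).subtype).index := by
    rw [index_map_subtype]
    exact Nat.Prime.not_dvd_mul Fact.out R.not_dvd_index hidx
  refine ⟨(R.2.map _).toSylow hR, by rw [IsPGroup.toSylow_coe]; exact map_subtype_le _,
    le_sylow_of_centralizes hx _ ?_⟩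
  rw [IsPGroup.toSylow_coe, mem_centralizer_iff]
  rintro _ ⟨a, -, rfl⟩
  exact mem_centralizer_singleton_iff.mp a.2

/-- Let G be a finite group and p a prime such that the Sylow p-subgroups of G are non-abelian while every element of p-power order has conjugacy class size prime to p, and suppose no nontrivial proper normal subgroup N of G has this property and no quotient G/N by such an N has it. Then G is simple. -/
theorem result {G : Type*} [Group G] [Finite G]
    (p : ℕ) [Fact p.Prime] (h : ((∃ P : Sylow p G, ¬ IsMulCommutative P) ∧ ∀ x : G, (∃ k : ℕ, orderOf x = p ^ k) → ¬ p ∣ (Subgroup.centralizer ({x} : Set G)).index))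
    (hmin : ∀ (N : Subgroup G) [N.Normal], N ≠ ⊥ → N ≠ ⊤ →
      ¬ ((∃ P : Sylow p N, ¬ IsMulCommutative P) ∧ ∀ x : N, (∃ k : ℕ, orderOf x = p ^ k) → ¬ p ∣ (Subgroup.centralizer ({x} : Set N)).index) ∧
      ¬ ((∃ P : Sylow p (G ⧸ N), ¬ IsMulCommutative P) ∧ ∀ x : (G ⧸ N), (∃ k : ℕ, orderOf x = p ^ k) → ¬ p ∣ (Subgroup.centralizer ({x} : Set (G ⧸ N))).index)) :
    IsSimpleGroup G := by
  classical
  obtain ⟨⟨P₀, hP₀⟩, hc⟩ := h
  have hc : ClassCond p G := hc
  have hnt : Nontrivial G := by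
    by_contra hn
    rw [not_nontrivial_iff_subsingleton] at hn
    exact hP₀ ⟨⟨fun a b => Subsingleton.elim _ _⟩⟩
  by_contra hns
  obtain ⟨N, hN, hN0, hN1, hNmin⟩ : ∃ N : Subgroup G, N.Normal ∧ N ≠ ⊥ ∧ N ≠ ⊤ ∧
      ∀ M : Subgroup G, M.Normal → M ≤ N → M = ⊥ ∨ M = N := by
    obtain ⟨N, hN, hN0, hN1⟩ : ∃ N : Subgroup G, N.Normal ∧ N ≠ ⊥ ∧ N ≠ ⊤ := by
      by_contra hall
      push Not at hall
      exact hns ⟨fun H hH => or_iff_not_imp_left.mpr (hall H hH)⟩
    obtain ⟨M, hMN, hM⟩ := (Set.toFinite {M : Subgroup G | M.Normal ∧ M ≠ ⊥}).exists_le_minimal (a := N) ⟨hN, hN0⟩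
    refine ⟨M, hM.1.1, hM.1.2, fun h => hN1 (top_le_iff.mp (h ▸ hMN)), fun L hL hLM => ?_⟩
    by_cases hL0 : L = ⊥
    · exact Or.inl hL0
    · exact Or.inr (le_antisymm hLM (hM.2 ⟨hL, hL0⟩ hLM))
  -- abelian Sylow subgroups of proper normal subgroups and quotients
  have hcommN : ∀ M : Subgroup G, M.Normal → M ≠ ⊥ → M ≠ ⊤ → ∀ P : Sylow p G, ∀ a ∈ (P : Subgroup G),
      ∀ b ∈ (P : Subgroup G), (a ∈ M → b ∈ M → a * b = b * a) ∧ a * b * a⁻¹ * b⁻¹ ∈ M := by
    intro M hM h0 h1 P a ha b hb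
    obtain ⟨hm1, hm2⟩ := @hmin M hM h0 h1
    have e1 : ∀ R : Sylow p M, IsMulCommutative R := fun R => by_contra fun hR =>
      hm1 ⟨⟨R, hR⟩, classCond_subgroup hc M⟩
    have e2 : ∀ R : Sylow p (G ⧸ M), IsMulCommutative R := fun R => by_contra fun hR =>
      hm2 ⟨⟨R, hR⟩, classCond_quotient hc M⟩
    constructor
    · intro haM hbM
      have := (e1 (CfsgLib.SylowCount.restrict M P)).is_comm.comm
        ⟨⟨a, haM⟩, ha⟩ ⟨⟨b, hbM⟩, hb⟩
      exact congrArg (fun z : (CfsgLib.SylowCount.restrict M P : Sylow p M) => ((z : M) : G)) this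
    · have hPbar := (e2 (P.mapSurjective (QuotientGroup.mk'_surjective M))).is_comm.comm
        ⟨_, mem_map_of_mem (QuotientGroup.mk' M) ha⟩ ⟨_, mem_map_of_mem (QuotientGroup.mk' M) hb⟩
      have h3 : (a : G ⧸ M) * b = b * a := congrArg Subtype.val hPbar
      rw [← QuotientGroup.eq_one_iff]
      simp [h3]
  have hP₀comm : ∃ a ∈ (P₀ : Subgroup G), ∃ b ∈ (P₀ : Subgroup G), a * b ≠ b * a := by
    by_contra hall
    push Not at hall
    exact hP₀ ⟨⟨fun a b => Subtype.ext (hall a a.2 b b.2)⟩⟩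
  have habel : ∀ P : Sylow p G, ∃ a ∈ (P : Subgroup G), ∃ b ∈ (P : Subgroup G), a * b ≠ b * a := by
    intro P
    obtain ⟨a, ha, b, hb, hab⟩ := hP₀comm
    obtain ⟨g, rfl⟩ := MulAction.exists_smul_eq G P₀ P
    refine ⟨g * a * g⁻¹, ?_, g * b * g⁻¹, ?_, ?_⟩
    · rw [Sylow.coe_subgroup_smul]; exact smul_mem_pointwise_smul _ (MulAut.conj g) _ ha
    · rw [Sylow.coe_subgroup_smul]; exact smul_mem_pointwise_smul _ (MulAut.conj g) _ hb
    · intro h; apply hab
      have := congrArg (fun z => g⁻¹ * z * g) h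
      simpa [mul_assoc] using this
  have htopP : ∀ M : Subgroup G, M.Normal → (∀ x : G, IsPGroup p (zpowers x) → x ∈ M) → M = ⊤ := by
    intro M hM hall
    by_contra hne
    obtain ⟨a, ha, b, hb, hab⟩ := habel P₀
    have haM := hall a (P₀.2.to_le (zpowers_le.mpr ha))
    have hbM := hall b (P₀.2.to_le (zpowers_le.mpr hb))
    refine hab (((hcommN M hM (fun h0 => ?_) hne P₀ a ha b hb).1) haM hbM)
    rw [h0, mem_bot] at haM
    exact hab (by simp [haM])
  -- (A) there is no nontrivial normal p-subgroup other than G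
  have hA : ∀ M : Subgroup G, M.Normal → M ≠ ⊤ → IsPGroup p M → M = ⊥ := by
    intro M hM h1 hMp
    by_contra h0
    have hcen : ∀ z ∈ M, ∀ g : G, g * z = z * g := by
      have : centralizer (M : Set G) = ⊤ := by
        refine htopP _ inferInstance fun x hx => ?_
        obtain ⟨P, hPC, -⟩ := exists_sylow_le_centralizer hc hx
        rw [mem_centralizer_iff]
        intro m hm
        exact (mem_centralizer_singleton_iff.mp (hPC (hMp.le_sylow_of_normal P hm))) 
      intro z hz g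
      exact (mem_centralizer_iff.mp (this ▸ mem_top g : g ∈ centralizer (M : Set G)) z hz).symm
    obtain ⟨x, hx, y, hy, hxy⟩ := habel P₀
    set z := y * x * y⁻¹ * x⁻¹ with hz
    have hzM : z ∈ M := (hcommN M hM h0 h1 P₀ y hy x hx).2
    have hxp : IsPGroup p (zpowers x) := P₀.2.to_le (zpowers_le.mpr hx)
    obtain ⟨P₁, hP₁, hxP₁⟩ := exists_sylow_le_centralizer hc hxp
    have hxC : x ∈ centralizer ((P₁ : Subgroup G) : Set G) := mem_centralizer_iff.mpr fun a ha =>
      mem_centralizer_singleton_iff.mp (hP₁ ha)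
    have hzC : z * x ∈ centralizer ((P₁ : Subgroup G) : Set G) := mem_centralizer_iff.mpr fun a ha => by
      rw [← mul_assoc, hcen z hzM a, mul_assoc, mem_centralizer_iff.mp hxC a ha, ← mul_assoc]
    obtain ⟨n, hn, hnx⟩ := P₁.conj_eq_normalizer_conj_of_mem_centralizer x y⁻¹ hxC
      (by rw [inv_inv]; simpa [z, mul_assoc] using hzC)
    have hnx' : n⁻¹ * x * n = z * x := by rw [← hnx, hz]; group
    have hiter : ∀ k : ℕ, (n ^ k)⁻¹ * x * n ^ k = z ^ k * x := by
      intro k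
      induction k with
      | zero => simp
      | succ k ih =>
        calc (n ^ (k + 1))⁻¹ * x * n ^ (k + 1) = n⁻¹ * ((n ^ k)⁻¹ * x * n ^ k) * n := by
              rw [pow_succ]; group
          _ = n⁻¹ * (z ^ k * x) * n := by rw [ih]
          _ = n⁻¹ * z ^ k * n * (n⁻¹ * x * n) := by group
          _ = z ^ k * (z * x) := by
              rw [hnx', mul_assoc n⁻¹ _ n, ← hcen _ (M.pow_mem hzM k) n, inv_mul_cancel_left]
          _ = _ := by rw [pow_succ, mul_assoc (z ^ k) z x]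
    set m := orderOf n / p ^ (orderOf n).factorization p with hm
    have hmp : ¬ p ∣ m := Nat.not_dvd_ordCompl Fact.out (orderOf_pos n).ne'
    have hnm : n ^ m ∈ (P₁ : Subgroup G) := by
      have hpg : IsPGroup p (zpowers (n ^ m)) := by
        refine IsPGroup.of_card_dvd_pow (n := (orderOf n).factorization p) ?_
        rw [Nat.card_zpowers]
        apply orderOf_dvd_of_pow_eq_one
        rw [← pow_mul, mul_comm, Nat.ordProj_mul_ordCompl_eq_self, pow_orderOf_eq_one]
      have h1' : zpowers (n ^ m) ≤ normalizer (P₁ : Set G) := zpowers_le.mpr (pow_mem hn m)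
      have h2' := hpg.inf_normalizer_sylow P₁
      rw [inf_eq_left.mpr h1'] at h2'
      exact (inf_eq_left.mp h2'.symm) (mem_zpowers _)
    have hzm : z ^ m = 1 := by
      have h3 := hiter m
      rw [mul_assoc, ← mem_centralizer_iff.mp hxC _ hnm, inv_mul_cancel_left] at h3
      exact (right_eq_mul.mp h3)
    obtain ⟨j, hj⟩ := IsPGroup.iff_orderOf.mp hMp ⟨z, hzM⟩
    rw [orderOf_mk] at hj
    have hz1 : z = 1 := by
      have h4 := pow_gcd_eq_one.mpr ⟨(pow_orderOf_eq_one z), hzm⟩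
      rwa [hj, Nat.coprime_iff_gcd_eq_one.mp (Nat.Coprime.pow_left j
        ((Nat.Prime.coprime_iff_not_dvd Fact.out).mpr hmp)), pow_one] at h4
    apply hxy
    rw [hz, mul_inv_eq_one, mul_inv_eq_iff_eq_mul] at hz1
    exact hz1.symm
  -- `Q = P ∩ N` is central in a Sylow subgroup
  set Q₀ : Sylow p N := CfsgLib.SylowCount.restrict N P₀ with hQ₀
  set Q : Subgroup G := (P₀ : Subgroup G) ⊓ N with hQ
  have hQmap : (Q₀ : Subgroup N).map N.subtype = Q := by
    rw [hQ₀, CfsgLib.SylowCount.coe_restrict, subgroupOf_map_subtype]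
  have hgen : centralizer (Q : Set G) ⊔ N = ⊤ := by
    have hnorm : (centralizer (Q : Set G) ⊔ N).Normal := by
      rw [← normalizer_eq_top_iff, eq_top_iff, ← Sylow.normalizer_sup_eq_top Q₀, hQmap]
      refine sup_le ?_ (le_sup_right.trans le_normalizer)
      intro g hg
      rw [mem_normalizer_iff]
      have key : ∀ g ∈ normalizer (Q : Set G), ∀ x ∈ centralizer (Q : Set G) ⊔ N,
          g * x * g⁻¹ ∈ centralizer (Q : Set G) ⊔ N := by
        intro g hg x hx
        rw [← SetLike.mem_coe, mul_normal] at hx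
        obtain ⟨c, hc', n, hn, rfl⟩ := hx
        rw [show g * (c * n) * g⁻¹ = (g * c * g⁻¹) * (g * n * g⁻¹) by group]
        refine mul_mem (mem_sup_left (mem_centralizer_iff.mpr fun q hq => ?_)) (mem_sup_right (hN.conj_mem n hn g))
        have h1 := mem_centralizer_iff.mp hc' _ ((mem_normalizer_iff''.mp hg q).mp hq)
        calc q * (g * c * g⁻¹) = g * (g⁻¹ * q * g * c) * g⁻¹ := by group
          _ = g * (c * (g⁻¹ * q * g)) * g⁻¹ := by rw [h1]
          _ = g * c * g⁻¹ * q := by group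
      intro x
      refine ⟨key g hg x, fun hx => ?_⟩
      have := key g⁻¹ (inv_mem hg) _ hx
      simpa [mul_assoc] using this
    refine htopP _ hnorm fun x hx => ?_
    obtain ⟨P₁, hP₁, -⟩ := exists_sylow_le_centralizer hc hx
    obtain ⟨k, hk⟩ := MulAction.exists_smul_eq N Q₀ (CfsgLib.SylowCount.restrict N P₁)
    have hmem : (k : G)⁻¹ * x * k ∈ centralizer (Q : Set G) := by
      rw [mem_centralizer_iff]
      intro q hq
      have hq' : k * ⟨q, hq.2⟩ * k⁻¹ ∈ ((k • Q₀ : Sylow p N) : Subgroup N) := by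
        rw [Sylow.coe_subgroup_smul]
        exact smul_mem_pointwise_smul _ (MulAut.conj k) _ hq.1
      rw [hk] at hq'
      have h2 := mem_centralizer_singleton_iff.mp (hP₁ hq')
      calc q * ((k : G)⁻¹ * x * k) = (k : G)⁻¹ * (((k : G) * q * (k : G)⁻¹) * x) * k := by group
        _ = (k : G)⁻¹ * (x * ((k : G) * q * (k : G)⁻¹)) * k := congrArg (fun z => (k : G)⁻¹ * z * k) h2
        _ = (k : G)⁻¹ * x * k * q := by group
    rw [show x = (k : G) * ((k : G)⁻¹ * x * k) * (k : G)⁻¹ by group]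
    exact mul_mem (mul_mem (mem_sup_right k.2) (mem_sup_left hmem)) (mem_sup_right (inv_mem k.2))
  have hQC : Q ≤ centralizer (Q : Set G) := fun a ha =>
    mem_centralizer_iff.mpr fun b hb => ((hcommN N hN hN0 hN1 P₀ b hb.1 a ha.1).1 hb.2 ha.2)
  have hidx : ¬ p ∣ (centralizer (Q : Set G)).index := by
    intro hd
    have e : (centralizer (Q : Set G)).relIndex N = (centralizer (Q : Set G)).index := by
      rw [CfsgLib.SylowCount.relIndex_eq_relIndex_sup, hgen, relIndex_top_right]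
    rw [← e] at hd
    have h5 : p ∣ (Q₀ : Subgroup N).index := by
      rw [hQ₀, CfsgLib.SylowCount.coe_restrict]
      refine hd.trans (index_dvd_of_le ?_)
      intro a ha
      exact hQC ⟨ha, a.2⟩
    exact Q₀.not_dvd_index h5
  inhabit Sylow p (centralizer (Q : Set G))
  let R : Sylow p (centralizer (Q : Set G)) := default
  have hR : ¬ p ∣ ((R : Subgroup _).map (centralizer (Q : Set G)).subtype).index := by
    rw [index_map_subtype]
    exact Nat.Prime.not_dvd_mul Fact.out R.not_dvd_index hidx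
  set P : Sylow p G := (R.2.map _).toSylow hR with hP
  have hPC : (P : Subgroup G) ≤ centralizer (Q : Set G) := by
    rw [hP, IsPGroup.toSylow_coe]; exact map_subtype_le _
  have hQP : Q ≤ (P : Subgroup G) := fun q hq => le_sylow_of_centralizes
    (P₀.2.to_le (zpowers_le.mpr hq.1)) P (mem_centralizer_iff.mpr fun a ha =>
      (mem_centralizer_iff.mp (hPC ha) q hq).symm)
  have hPQ : ∀ a ∈ (P : Subgroup G), a ∈ N → a ∈ Q := by
    intro a ha haN
    have := Q₀.3 (CfsgLib.SylowCount.restrict N P).2 (fun b hb => hQP ⟨hb, b.2⟩)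
    have h6 : (⟨a, haN⟩ : N) ∈ (CfsgLib.SylowCount.restrict N P : Subgroup N) := ha
    rw [this] at h6
    exact ⟨h6, haN⟩
  -- minimal normal: perfect or abelian
  have : N.Normal := hN
  rcases hNmin ⁅N, N⁆ inferInstance (commutator_le_left N N) with hab | hperf
  · -- abelian: its Sylow subgroup is normal in G
    have hQn : Q.Normal := by
      rw [← normalizer_eq_top_iff, eq_top_iff, ← Sylow.normalizer_sup_eq_top Q₀, hQmap]
      refine sup_le le_rfl fun n hn => centralizer_le_normalizer _ (mem_centralizer_iff.mpr fun q hq => ?_)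
      exact mem_centralizer_iff.mp (commutator_eq_bot_iff_le_centralizer.mp hab hn) q hq.2
    have hQb : Q = ⊥ := hA Q hQn (fun h => hN1 (top_le_iff.mp (h ▸ inf_le_right))) P₀.2.to_inf_left
    obtain ⟨a, ha, b, hb, hxy⟩ := habel P
    have := hPQ _ (mul_mem (mul_mem (mul_mem ha hb) (inv_mem ha)) (inv_mem hb)) (hcommN N hN hN0 hN1 P a ha b hb).2
    rw [hQb, mem_bot, mul_inv_eq_one, mul_inv_eq_iff_eq_mul] at this
    exact hxy this
  · -- perfect: fixed points of the normalizer on `Q` are trivial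
    set M := N ⊓ normalizer (Q : Set G) with hM
    have : IsMulCommutative (Q₀ : Subgroup N) := ⟨⟨fun a b => Subtype.ext (Subtype.ext
      (hcommN N hN hN0 hN1 P₀ _ a.2 _ b.2 |>.1 a.1.2 b.1.2))⟩⟩
    have hfix : ∀ z ∈ Q, (∀ m ∈ M, m * z * m⁻¹ = z) → z = 1 := by
      intro z hz hzM
      set z' : N := ⟨z, hz.2⟩
      have hz' : z' ∈ (Q₀ : Subgroup N) := hz.1
      have key : ∀ (k : ℕ) (g₀ : N), g₀⁻¹ * z' ^ k * g₀ ∈ (Q₀ : Subgroup N) → g₀⁻¹ * z' ^ k * g₀ = z' ^ k := by
        intro k g₀ hk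
        obtain ⟨n, hn, hne⟩ := Q₀.conj_eq_normalizer_conj_of_mem (z' ^ k) g₀ (pow_mem hz' k) hk
        rw [hne]
        have hnM : (n : G)⁻¹ ∈ M := by
          refine inv_mem (mem_inf.mpr ⟨n.2, ?_⟩)
          rw [← hQmap, mem_normalizer_iff]
          intro q
          constructor
          · rintro ⟨a, ha, rfl⟩
            exact ⟨n * a * n⁻¹, (mem_normalizer_iff.mp hn a).mp ha, rfl⟩
          · rintro ⟨a, ha, he⟩
            refine ⟨n⁻¹ * a * n, (mem_normalizer_iff''.mp hn a).mp ha, ?_⟩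
            change (n : G)⁻¹ * (a : G) * n = q
            rw [show (a : G) = n * q * (n : G)⁻¹ from he]
            group
        apply Subtype.ext
        have e1 := hzM _ hnM
        rw [inv_inv] at e1
        have e2 : ((n : G)⁻¹ * z * n) ^ k = z ^ k := by rw [e1]
        have e3 : ((n : G)⁻¹ * z * n) ^ k = (n : G)⁻¹ * z ^ k * n := by
          have := conj_pow (a := (n : G)⁻¹) (b := z) (i := k)
          rw [inv_inv] at this
          exact this
        rw [e3] at e2
        simpa [z'] using e2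
      open scoped IsMulCommutative in
      have htr := MonoidHom.transfer_eq_pow (MonoidHom.id (Q₀ : Subgroup N)) z' key
      open scoped IsMulCommutative in
      have hker : MonoidHom.transfer (MonoidHom.id (Q₀ : Subgroup N)) z' = 1 := by
        have h7 : commutator N ≤ (MonoidHom.transfer (MonoidHom.id (Q₀ : Subgroup N))).ker :=
          Abelianization.commutator_subset_ker _
        refine MonoidHom.mem_ker.mp (h7 ?_)
        have e : z' ∈ (⁅N, N⁆).subgroupOf N := by rw [mem_subgroupOf, hperf]; exact hz.2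
        rwa [← map_subtype_commutator, ← comap_subtype, comap_map_eq_self_of_injective N.subtype_injective] at e
      rw [htr] at hker
      have hpow : z' ^ (Q₀ : Subgroup N).index = 1 := congrArg Subtype.val hker
      obtain ⟨j, hj⟩ := IsPGroup.iff_orderOf.mp Q₀.2 ⟨z', hz'⟩
      rw [orderOf_mk] at hj
      have h8 := pow_gcd_eq_one.mpr ⟨pow_orderOf_eq_one z', hpow⟩
      rw [hj, Nat.coprime_iff_gcd_eq_one.mp (Nat.Coprime.pow_left j
        ((Nat.Prime.coprime_iff_not_dvd Fact.out).mpr Q₀.not_dvd_index)), pow_one] at h8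
      exact congrArg Subtype.val h8
    -- the centraliser of `Q` in `N` is `Q × D`
    set C := N ⊓ centralizer (Q : Set G) with hC
    have hQleC : Q ≤ C := le_inf inf_le_right hQC
    have hQCsyl : ¬ p ∣ (Q.subgroupOf C).index := by
      intro hd
      have h9 : p ∣ Q.relIndex N := hd.trans (Dvd.intro _ (relIndex_mul_relIndex Q C N hQleC inf_le_left))
      rw [← hQmap] at h9
      have : ((Q₀ : Subgroup N).map N.subtype).relIndex N = (Q₀ : Subgroup N).index := by
        rw [relIndex, ← comap_subtype, comap_map_eq_self_of_injective N.subtype_injective]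
      exact Q₀.not_dvd_index (this ▸ h9)
    let S : Sylow p C := (P₀.2.to_inf_left.comap_subtype (K := C)).toSylow (show ¬ p ∣ (Q.subgroupOf C).index from hQCsyl)
    have hS : (S : Subgroup C) = Q.subgroupOf C := IsPGroup.toSylow_coe _ _
    have hnc : normalizer ((S : Subgroup C) : Set C) ≤ centralizer ((S : Subgroup C) : Set C) := by
      intro c _
      rw [mem_centralizer_iff]
      intro q hq
      rw [hS, SetLike.mem_coe, mem_subgroupOf] at hq
      exact Subtype.ext (mem_centralizer_iff.mp c.2.2 (q : G) hq)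
    have hncp : Cfsg.HasNormalPComplement p C :=
      ⟨S, _, MonoidHom.normal_ker _, MonoidHom.ker_transferSylow_isComplement' S hnc⟩
    set D := (Cfsg.pResidual p C).map C.subtype with hD
    have hDC : D ≤ C := map_subtype_le _
    have hDp : ¬ p ∣ Nat.card D := by
      rw [hD, card_map_of_injective C.subtype_injective]
      exact CfsgLib.Transfer.hasNormalPComplement_iff.mp hncp
    have hdec : ∀ c ∈ C, ∃ d ∈ D, ∃ q ∈ Q, c = d * q := by
      intro c hc'
      obtain ⟨K, hK, hKc⟩ := CfsgLib.Transfer.exists_isComplement' hncp S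
      obtain ⟨⟨k, s⟩, hks⟩ := hKc.2 ⟨c, hc'⟩
      refine ⟨(k : C), ⟨k, ?_, rfl⟩, (s : C), ?_, (congrArg Subtype.val hks).symm⟩
      · exact CfsgLib.Transfer.eq_pResidual_of_isComplement' hKc ▸ k.2
      · exact mem_subgroupOf.mp (hS ▸ s.2)
    set L := normalizer (D : Set G) with hL
    have hmemL : ∀ g : G, (∀ c : G, c ∈ C ↔ g * c * g⁻¹ ∈ C) → g ∈ L := by
      intro g hg
      have key : ∀ g : G, (∀ c : G, c ∈ C → g * c * g⁻¹ ∈ C) → ∀ d ∈ D, g * d * g⁻¹ ∈ D := by
        rintro g hg _ ⟨d, hd, rfl⟩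
        refine ⟨⟨g * d * g⁻¹, hg _ d.2⟩, ?_, rfl⟩
        rw [SetLike.mem_coe, CfsgLib.Transfer.mem_pResidual_iff hncp] at hd ⊢
        rw [orderOf_mk]
        rw [← orderOf_coe, ← MulEquiv.orderOf_eq (MulAut.conj g)] at hd
        exact hd
      rw [hL, mem_normalizer_iff]
      intro d
      refine ⟨key g (fun c => (hg c).mp) d, fun hd => ?_⟩
      have := key g⁻¹ (fun c hc' => (hg _).mpr (by simpa [mul_assoc] using hc')) _ hd
      simpa [mul_assoc] using this
    have hnormC : ∀ g ∈ normalizer (Q : Set G), ∀ c : G, c ∈ C ↔ g * c * g⁻¹ ∈ C := by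
      intro g hg c
      have key : ∀ g ∈ normalizer (Q : Set G), ∀ c ∈ C, g * c * g⁻¹ ∈ C := by
        intro g hg c hc'
        refine ⟨hN.conj_mem c hc'.1 g, mem_centralizer_iff.mpr fun q hq => ?_⟩
        have h1 := mem_centralizer_iff.mp hc'.2 _ ((mem_normalizer_iff''.mp hg q).mp hq)
        calc q * (g * c * g⁻¹) = g * (g⁻¹ * q * g * c) * g⁻¹ := by group
          _ = g * (c * (g⁻¹ * q * g)) * g⁻¹ := by rw [h1]
          _ = g * c * g⁻¹ * q := by group
      refine ⟨key g hg c, fun hc' => ?_⟩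
      have := key g⁻¹ (inv_mem hg) _ hc'
      simpa [mul_assoc] using this
    have hPL : ∀ a ∈ (P : Subgroup G), a ∈ L := fun a ha =>
      hmemL a (hnormC a (centralizer_le_normalizer _ (hPC ha)))
    have hQL : ∀ a ∈ Q, a ∈ L := fun a ha => hPL a (hQP ha)
    have hDL : D ≤ L := le_normalizer
    have hDn : (D.subgroupOf L).Normal := normal_subgroupOf_iff_le_normalizer hDL |>.mpr le_rfl
    obtain ⟨x, hx, y, hy, hxy⟩ := habel P
    apply hxy
    set z := x * y * x⁻¹ * y⁻¹ with hz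
    have hzQ : z ∈ Q := hPQ z (mul_mem (mul_mem (mul_mem hx hy) (inv_mem hx)) (inv_mem hy))
      (hcommN N hN hN0 hN1 P x hx y hy).2
    suffices hz1 : z = 1 by
      rw [hz, mul_inv_eq_one, mul_inv_eq_iff_eq_mul] at hz1
      exact hz1
    refine hfix z hzQ fun m hm => ?_
    have hmL : m ∈ L := hmemL m (hnormC m hm.2)
    -- `m a m⁻¹ ∈ D Q a` for `a ∈ P`
    have hconj : ∀ a ∈ (P : Subgroup G), ∃ d ∈ D, ∃ q ∈ Q, m * a * m⁻¹ = d * q * a := by
      intro a ha
      have h1 : m * a * m⁻¹ * a⁻¹ ∈ N := by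
        rw [show m * a * m⁻¹ * a⁻¹ = m * (a * m⁻¹ * a⁻¹) by group]
        exact mul_mem hm.1 (hN.conj_mem _ (inv_mem hm.1) a)
      have h2 : m * a * m⁻¹ * a⁻¹ ∈ centralizer (Q : Set G) := by
        refine mul_mem (mem_centralizer_iff.mpr fun q hq => ?_) (inv_mem (hPC ha))
        have h1 := mem_centralizer_iff.mp (hPC ha) _ ((mem_normalizer_iff''.mp hm.2 q).mp hq)
        calc q * (m * a * m⁻¹) = m * (m⁻¹ * q * m * a) * m⁻¹ := by group
          _ = m * (a * (m⁻¹ * q * m)) * m⁻¹ := by rw [h1]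
          _ = m * a * m⁻¹ * q := by group
      obtain ⟨d, hd, q, hq, he⟩ := hdec (m * a * m⁻¹ * a⁻¹) (mem_inf.mpr ⟨h1, h2⟩)
      exact ⟨d, hd, q, hq, mul_inv_eq_iff_eq_mul.mp he⟩
    obtain ⟨d, hd, q, hq, hxm⟩ := hconj x hx
    obtain ⟨d', hd', q', hq', hym⟩ := hconj y hy
    let π' := QuotientGroup.mk' (D.subgroupOf L)
    have hπ : ∀ (e : G) (he : e ∈ D), π' ⟨e, hDL he⟩ = 1 := fun e he =>
      (QuotientGroup.eq_one_iff _).mpr (mem_subgroupOf.mpr he)
    have hxm' : π' ⟨m * x * m⁻¹, mul_mem (mul_mem hmL (hPL x hx)) (inv_mem hmL)⟩ = π' ⟨q, hQL q hq⟩ * π' ⟨x, hPL x hx⟩ := by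
      rw [show (⟨m * x * m⁻¹, _⟩ : L) = ⟨d, hDL hd⟩ * ⟨q, hQL q hq⟩ * ⟨x, hPL x hx⟩ from Subtype.ext hxm,
        map_mul, map_mul, hπ d hd, one_mul]
    have hym' : π' ⟨m * y * m⁻¹, mul_mem (mul_mem hmL (hPL y hy)) (inv_mem hmL)⟩ = π' ⟨q', hQL q' hq'⟩ * π' ⟨y, hPL y hy⟩ := by
      rw [show (⟨m * y * m⁻¹, _⟩ : L) = ⟨d', hDL hd'⟩ * ⟨q', hQL q' hq'⟩ * ⟨y, hPL y hy⟩ from Subtype.ext hym,
        map_mul, map_mul, hπ d' hd', one_mul]
    have hcm : ∀ (a : G) (ha : a ∈ (P : Subgroup G)) (b : G) (hb : b ∈ Q),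
        Commute (π' ⟨b, hQL b hb⟩) (π' ⟨a, hPL a ha⟩) := fun a ha b hb =>
      Commute.map (Subtype.ext (mem_centralizer_iff.mp (hPC ha) b hb) : Commute (⟨b, hQL b hb⟩ : L) ⟨a, hPL a ha⟩) π'
    have heq : π' ⟨m * z * m⁻¹, mul_mem (mul_mem hmL (hQL z hzQ)) (inv_mem hmL)⟩ = π' ⟨z, hQL z hzQ⟩ := by
      set X := π' ⟨x, hPL x hx⟩
      set Y := π' ⟨y, hPL y hy⟩
      set A := π' ⟨q, hQL q hq⟩
      set B := π' ⟨q', hQL q' hq'⟩
      have e1 : (⟨m * z * m⁻¹, mul_mem (mul_mem hmL (hQL z hzQ)) (inv_mem hmL)⟩ : L) =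
          ⟨m * x * m⁻¹, mul_mem (mul_mem hmL (hPL x hx)) (inv_mem hmL)⟩ *
          ⟨m * y * m⁻¹, mul_mem (mul_mem hmL (hPL y hy)) (inv_mem hmL)⟩ *
          (⟨m * x * m⁻¹, mul_mem (mul_mem hmL (hPL x hx)) (inv_mem hmL)⟩ : L)⁻¹ *
          (⟨m * y * m⁻¹, mul_mem (mul_mem hmL (hPL y hy)) (inv_mem hmL)⟩ : L)⁻¹ := by
        apply Subtype.ext; simp [z, mul_assoc]
      have e2 : (⟨z, hQL z hzQ⟩ : L) = ⟨x, hPL x hx⟩ * ⟨y, hPL y hy⟩ * (⟨x, hPL x hx⟩ : L)⁻¹ * (⟨y, hPL y hy⟩ : L)⁻¹ :=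
        Subtype.ext rfl
      rw [e1, e2]
      simp only [map_mul, map_inv, hxm', hym', mul_inv_rev]
      have cAX : Commute A X := hcm x hx q hq
      have cAY : Commute A Y := hcm y hy q hq
      have cBX : Commute B X := hcm x hx q' hq'
      have cBY : Commute B Y := hcm y hy q' hq'
      have cAB : Commute A B := hcm q' (hQP hq') q hq
      calc A * X * (B * Y) * (X⁻¹ * A⁻¹) * (Y⁻¹ * B⁻¹)
          = A * (X * B) * Y * X⁻¹ * (A⁻¹ * Y⁻¹) * B⁻¹ := by group
        _ = A * (B * X) * Y * X⁻¹ * (Y⁻¹ * A⁻¹) * B⁻¹ := by rw [cBX.eq, cAY.inv_inv.eq]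
        _ = (A * B) * (X * Y * X⁻¹ * Y⁻¹) * (B * A)⁻¹ := by group
        _ = X * Y * X⁻¹ * Y⁻¹ := by
            rw [← cAB.eq]
            have : Commute (A * B) (X * Y * X⁻¹ * Y⁻¹) :=
              ((((cAX.mul_left cBX).mul_right (cAY.mul_left cBY)).mul_right (cAX.mul_left cBX).inv_right).mul_right
                (cAY.mul_left cBY).inv_right)
            rw [this.eq, mul_inv_cancel_right]
    have hmzQ : m * z * m⁻¹ ∈ Q := (mem_normalizer_iff.mp hm.2 z).mp hzQ
    have h10 := QuotientGroup.eq.mp heq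
    rw [mem_subgroupOf] at h10
    have h11 : (m * z * m⁻¹)⁻¹ * z ∈ D ⊓ Q := mem_inf.mpr ⟨by simpa using h10, mul_mem (inv_mem hmzQ) hzQ⟩
    have hdis : D ⊓ Q = ⊥ := by
      refine card_eq_one.mp ((P₀.2.to_inf_left.to_le (inf_le_right (a := D))).card_eq_or_dvd.resolve_right
        fun h => hDp (h.trans (card_dvd_of_le inf_le_left)))
    rw [hdis, mem_bot, inv_mul_eq_one] at h11
    exact h11

end Cfsg.Agent.S4354
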