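import Cfsg.Statements.S4363
import Cfsg.Agent.Turull73.Main

set_option autoImplicit false
open Cfsg

namespace Cfsg.Agent.S4363

/-- Let G be a finite solvable group and σ an automorphism of G of prime order r not dividing the order of G, with fixed-point subgroup C. Then the Fitting height of G exceeds that of C by at most 2: if C has a chain of normal subgroups 1 = C₀ ≤ ⋯ ≤ Cₙ = C with nilpotent factors, then G has such a chain of length n + 2. -/
theorem result {G : Type*} [Group G] [Finite G]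
    (hG : Group.IsSolvable G) (σ : MulAut G) (r : ℕ) (hr : r.Prime) (hσ : orderOf σ = r) (hcop : ¬ r ∣ Nat.card G)
    (C : Subgroup G) (hC : ∀ g : G, g ∈ C ↔ σ g = g) (n : ℕ) (hn : (∃ F : Fin (n + 1) → Subgroup ↥C, F 0 = ⊥ ∧ F (Fin.last n) = ⊤ ∧ Monotone F ∧ (∀ i, (F i).Normal) ∧ ∀ i : Fin n, ∃ k : ℕ, (F i.succ).lowerCentralSeries k ≤ F i.castSucc)) :
    (∃ F : Fin ((n + 2) + 1) → Subgroup G, F 0 = ⊥ ∧ F (Fin.last (n + 2)) = ⊤ ∧ Monotone F ∧ (∀ i, (F i).Normal) ∧ ∀ i : Fin (n + 2), ∃ k : ℕ, (F i.succ).lowerCentralSeries k ≤ F i.castSucc) := by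
  have hσr : σ ^ r = 1 := by rw [← hσ]; exact pow_orderOf_eq_one σ
  obtain ⟨F, h0, hl, -, -, hs⟩ := hn
  have hbot := CfsgLib.Turull73.nilRes_eq_bot hG σ hr hσr hcop hC
    (CfsgLib.FittingLength.nilRes_eq_bot_of_chain F h0 hl hs)
  refine ⟨fun i => CfsgLib.FittingLength.nilRes (⊤ : Subgroup G) (n + 2 - i), ?_, ?_, ?_, ?_, ?_⟩
  · simpa using hbot
  · simp [CfsgLib.FittingLength.nilRes]
  · intro a b hab
    exact CfsgLib.Turull73.nilRes_le_of_le _ (by have : (a : ℕ) ≤ b := hab; omega)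
  · exact fun i => CfsgLib.Turull73.nilRes_normal ⊤ _
  · intro i
    obtain ⟨k, hk⟩ := CfsgLib.Turull73.exists_lowerCentralSeries_le_succ (⊤ : Subgroup G)
      (n + 2 - (i : ℕ) - 1)
    refine ⟨k, ?_⟩
    rw [show n + 2 - (i : ℕ) - 1 + 1 = n + 2 - (i : ℕ) by omega] at hk
    simpa [Fin.val_succ, Fin.val_castSucc, Nat.sub_sub] using hk

end Cfsg.Agent.S4363
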