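import Cfsg.Statements.S4365

set_option autoImplicit false
open Cfsg

namespace Cfsg.Agent.S4365

open Subgroup
open scoped IsMulCommutative

/-- If the norms of all `t s^j` and of `s` map into `Z`, then so does the `p`-th power map. -/
theorem pow_mem_of_norms {A : Type*} [CommGroup A] {p : ℕ} [Fact p.Prime] (s t : MulAut A)
    (hst : Commute s t) (hs : s ^ p = 1) (Z : Subgroup A) (a : A)
    (hNs : ∀ b, ∏ j ∈ Finset.range p, (s ^ j) b ∈ Z)
    (hNt : ∀ j : ℕ, ∏ i ∈ Finset.range p, ((t * s ^ j) ^ i) a ∈ Z) : a ^ p ∈ Z := by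
  have hp : p.Prime := Fact.out
  have h1 : ∏ j ∈ Finset.range p, ∏ i ∈ Finset.range p, ((t * s ^ j) ^ i) a ∈ Z :=
    prod_mem fun j _ => hNt j
  rw [Finset.prod_comm, ← Finset.insert_erase (Finset.mem_range.mpr hp.pos),
    Finset.prod_insert (Finset.notMem_erase _ _), Finset.insert_erase (Finset.mem_range.mpr hp.pos)] at h1
  have h0 : ∏ _j ∈ Finset.range p, ((t * s ^ _j) ^ 0) a = a ^ p := by simp
  rw [h0] at h1
  refine (mul_mem_cancel_right ?_).mp h1
  refine prod_mem fun i hi => ?_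
  rw [Finset.mem_erase, Finset.mem_range] at hi
  have hnd : ¬ p ∣ i := fun h => absurd (Nat.le_of_dvd (Nat.pos_of_ne_zero hi.1) h) (not_le.mpr hi.2)
  have hcongr : ∏ j ∈ Finset.range p, ((t * s ^ j) ^ i) a = ∏ j ∈ Finset.range p, (s ^ j) ((t ^ i) a) := by
    have hterm : ∀ j : ℕ, ((t * s ^ j) ^ i) a = (s ^ ((j * i) % p)) ((t ^ i) a) := by
      intro j
      rw [((hst.pow_left j).symm).mul_pow, (((hst.pow_left j).pow_left i).pow_right i).symm.eq, ← pow_mul,
        pow_eq_pow_mod (j * i) hs]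
      rfl
    simp_rw [hterm]
    refine Finset.prod_bij' (fun j _ => (j * i) % p) (fun j _ => (j * ((i : ZMod p)⁻¹).val) % p)
      (fun j _ => Finset.mem_range.mpr (Nat.mod_lt _ hp.pos))
      (fun j _ => Finset.mem_range.mpr (Nat.mod_lt _ hp.pos)) ?_ ?_ (fun j _ => rfl)
    all_goals
      intro j hj
      rw [Finset.mem_range] at hj
      have hi0 : (i : ZMod p) ≠ 0 := fun h => hnd ((ZMod.natCast_eq_zero_iff _ _).mp h)
      conv_rhs => rw [← Nat.mod_eq_of_lt hj]
      refine (ZMod.natCast_eq_natCast_iff' _ _ p).mp ?_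
      push_cast
      simp only [ZMod.natCast_mod, Nat.cast_mul, ZMod.natCast_zmod_val]
      field_simp
  rw [hcongr]
  exact hNs _

theorem norm_eq {G : Type*} [Group G] {A : Subgroup G} [A.Normal] [IsMulCommutative A] (w : G) (a : A) :
    ∀ n : ℕ, ((∏ i ∈ Finset.range n, ((MulAut.conjNormal w : MulAut A) ^ i) a : A) : G) = ((a : G) * w) ^ n * (w ^ n)⁻¹ := by
  intro n
  induction n with
  | zero => simp
  | succ n ih =>
    rw [Finset.prod_range_succ, Subgroup.coe_mul, ih, ← map_pow, MulAut.conjNormal_apply, pow_succ ((a : G) * w), pow_succ w]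
    group

theorem main {P : Type*} [Group P] [Finite P] (p : ℕ) [Fact p.Prime] (hP : IsPGroup p P)
    (a : ℕ) (ha : 1 ≤ a)
    (hidx : ∀ x : P, (centralizer ({x} : Set P)).index = 1 ∨ (centralizer ({x} : Set P)).index = p ^ a)
    (x₀ : P) : x₀ ^ p ∈ center P := by
  classical
  have hp : p.Prime := Fact.out
  set Z := center P with hZ
  let C : P → Subgroup P := fun x => centralizer ({x} : Set P)
  have hmemC : ∀ {x y : P}, y ∈ C x ↔ y * x = x * y := fun {x y} => mem_centralizer_singleton_iff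
  have hCtop : ∀ x, x ∈ Z ↔ C x = ⊤ := fun x => by
    rw [eq_top_iff]
    exact ⟨fun h g _ => hmemC.mpr (mem_center_iff.mp h g), fun h => mem_center_iff.mpr fun g => hmemC.mp (h (mem_top g))⟩
  have hsize : ∀ x, x ∉ Z → (C x).index = p ^ a := fun x hx =>
    (hidx x).resolve_left fun h => hx ((hCtop x).mpr (index_eq_one.mp h))
  have heq : ∀ {x y}, x ∉ Z → y ∉ Z → C x ≤ C y → C x = C y := by
    intro x y hx hy hle
    have h := relIndex_mul_index hle
    rw [hsize x hx, hsize y hy] at h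
    exact le_antisymm hle (relIndex_eq_one.mp
      (Nat.eq_of_mul_eq_mul_right (pow_pos hp.pos a) (h.trans (one_mul _).symm)))
  have hCmul : ∀ z ∈ Z, ∀ x, C (z * x) = C x := by
    intro z hz x
    ext g
    rw [hmemC, hmemC, ← mul_assoc g, mem_center_iff.mp hz g, mul_assoc, mul_assoc, mul_right_inj]
  have hpowC : ∀ (x : P) (n : ℕ), C x ≤ C (x ^ n) := fun x n g hg =>
    hmemC.mpr ((Commute.pow_right (hmemC.mp hg) n).eq)
  have hself : ∀ x, x ∈ C x := fun x => hmemC.mpr rfl
  -- commuting elements with different centralisers have order `p` modulo the centre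
  have hL0 : ∀ {x b}, x ∉ Z → b ∉ Z → x * b = b * x → C x ≠ C b → b ^ p ∈ Z → x ^ p ∈ Z := by
    intro x b hx hb hxb hne hbp
    by_contra hxp
    have h1 : C x = C (x ^ p) := heq hx hxp (hpowC x p)
    have hxbZ : x * b ∉ Z := by
      intro h
      apply hne
      have hzb : b = x⁻¹ * (x * b) := by group
      have hinv : C x⁻¹ = C x := by
        ext g; rw [hmemC, hmemC]; exact ⟨fun h => by simpa using (Commute.inv_right (h : Commute g x⁻¹)).eq, fun h => (Commute.inv_right (h : Commute g x)).eq⟩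
      rw [hzb, ← (mem_center_iff.mp h x⁻¹).symm, hCmul _ h, hinv]
    have h2 : C ((x * b) ^ p) = C x := by
      rw [Commute.mul_pow hxb, mem_center_iff.mp hbp (x ^ p), hCmul _ hbp, ← h1]
    have hxbp : (x * b) ^ p ∉ Z := fun h => hx ((hCtop x).mpr (h2 ▸ (hCtop _).mp h))
    have h3 : C (x * b) = C x := (heq hxbZ hxbp (hpowC _ p)).trans h2
    refine hne (heq hx hb fun g hg => hmemC.mpr ?_)
    have e1 := hmemC.mp hg
    have e2 := hmemC.mp (h3.symm ▸ hg : g ∈ C (x * b))
    apply mul_left_cancel (a := x)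
    calc x * (g * b) = g * x * b := by rw [← mul_assoc, ← e1]
      _ = x * b * g := by rw [mul_assoc, e2]
      _ = x * (b * g) := mul_assoc _ _ _
  have hL1 : ∀ {x b}, x ∉ Z → b ∉ Z → x * b = b * x → C x ≠ C b → x ^ p ∈ Z := by
    intro x b hx hb hxb hne
    have hex : ∃ n, b ^ p ^ n ∈ Z := ⟨(hP b).choose, by rw [(hP b).choose_spec]; exact one_mem _⟩
    obtain ⟨n, hn⟩ := Nat.exists_eq_succ_of_ne_zero (fun h => hb (by have := Nat.find_spec hex; rwa [h, pow_zero, pow_one] at this) : Nat.find hex ≠ 0)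
    have hb' : b ^ p ^ n ∉ Z := Nat.find_min hex (m := n) (by omega)
    have hbp : (b ^ p ^ n) ^ p ∈ Z := by
      have h := Nat.find_spec hex
      rw [hn] at h
      rw [← pow_mul, ← pow_succ]; exact h
    refine hL0 hx hb' (Commute.pow_right hxb _).eq ?_ hbp
    rw [← heq hb hb' (hpowC b _)]
    exact hne
  by_contra hbig
  have hbigC : ∀ {x}, x ^ p ∉ Z → ∀ b ∈ C x, b ∉ Z → C b = C x := by
    intro x hx b hb hbZ
    by_contra hne
    exact hx (hL1 (fun h => hx (pow_mem h p)) hbZ (hmemC.mp hb).symm (Ne.symm hne))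
  have hx₀ : x₀ ∉ Z := fun h => hbig (pow_mem h p)
  have hnt : Nontrivial (P ⧸ Z) := ⟨(x₀ : P ⧸ Z), 1, fun h => hx₀ ((QuotientGroup.eq_one_iff _).mp h)⟩
  have := (hP.to_quotient Z).center_nontrivial
  obtain ⟨⟨uq, huq⟩, huq1⟩ := exists_ne (1 : center (P ⧸ Z))
  obtain ⟨k, hk⟩ := IsPGroup.iff_orderOf.mp (hP.to_quotient Z) uq
  obtain ⟨j, rfl⟩ : ∃ j, k = j + 1 := Nat.exists_eq_succ_of_ne_zero
    (fun e => huq1 (Subtype.ext (orderOf_eq_one_iff.mp (by rw [hk, e, pow_zero]))))
  obtain ⟨u', rfl⟩ := QuotientGroup.mk_surjective uq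
  set u := u' ^ p ^ j with hu
  have huZ : u ∉ Z := by
    intro h
    have h1 : orderOf (u' : P ⧸ Z) ∣ p ^ j := by
      rw [orderOf_dvd_iff_pow_eq_one, ← QuotientGroup.mk_pow, QuotientGroup.eq_one_iff]; exact h
    rw [hk] at h1
    exact absurd (Nat.le_of_dvd (pow_pos hp.pos _) h1) (not_le.mpr (Nat.pow_lt_pow_right hp.one_lt (Nat.lt_succ_self j)))
  have hup : u ^ p ∈ Z := by
    rw [← QuotientGroup.eq_one_iff, hu, ← pow_mul, ← pow_succ, QuotientGroup.mk_pow, ← hk, pow_orderOf_eq_one]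
  have hu2 : ∀ g : P, u * g * u⁻¹ * g⁻¹ ∈ Z := by
    intro g
    have h := mem_center_iff.mp (pow_mem huq (p ^ j)) (g : P ⧸ Z)
    rw [← QuotientGroup.eq_one_iff, hu]
    simp only [QuotientGroup.mk_mul, QuotientGroup.mk_inv, QuotientGroup.mk_pow]
    rw [← h]; group
  have hcommu : ∀ g : P, u * g ^ p = g ^ p * u := by
    intro g
    set z := u * g * u⁻¹ * g⁻¹ with hz
    have hzZ : ∀ g' : P, g' * z = z * g' := mem_center_iff.mp (hu2 g)
    have e1 : u * g * u⁻¹ = z * g := by rw [hz]; group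
    have hit : ∀ n : ℕ, u ^ n * g * (u ^ n)⁻¹ = z ^ n * g := by
      intro n
      induction n with
      | zero => simp
      | succ n ih =>
        calc u ^ (n + 1) * g * (u ^ (n + 1))⁻¹ = u * (u ^ n * g * (u ^ n)⁻¹) * u⁻¹ := by rw [pow_succ']; group
          _ = u * (z ^ n * g) * u⁻¹ := by rw [ih]
          _ = z ^ n * (u * g * u⁻¹) := by
            rw [← mul_assoc u, (Commute.pow_right (hzZ u : Commute u z) n).eq]
            simp only [mul_assoc]
          _ = _ := by rw [e1, ← mul_assoc, pow_succ]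
    have hzp : z ^ p = 1 := by
      have h := hit p
      rw [← mem_center_iff.mp hup g, mul_inv_cancel_right] at h
      exact (right_eq_mul.mp h)
    have e2 : u * g ^ p * u⁻¹ = g ^ p := by
      rw [← conj_pow, e1, Commute.mul_pow (hzZ g : Commute g z).symm, hzp, one_mul]
    exact mul_inv_eq_iff_eq_mul.mp e2
  set A := C u with hA
  have hbigA : ∀ x, x ^ p ∉ Z → C x = A := by
    intro x hx
    refine (hbigC hx u ?_ huZ).symm
    rw [heq (fun h => hx (pow_mem h p)) hx (hpowC x p)]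
    exact hmemC.mpr (hcommu x)
  have hx₀A : x₀ ∈ A := hbigA x₀ hbig ▸ hself x₀
  have hAC : ∀ b ∈ A, b ∉ Z → C b = A := fun b hb hbZ =>
    (hbigC hbig b (hbigA x₀ hbig ▸ hb) hbZ).trans (hbigA x₀ hbig)
  have hAcomm : IsMulCommutative A := ⟨⟨fun b c => Subtype.ext (by
    by_cases hbZ : (b : P) ∈ Z
    · exact (mem_center_iff.mp hbZ c).symm
    · have hc : (c : P) ∈ C b := by rw [hAC b b.2 hbZ]; exact c.2
      exact (hmemC.mp hc).symm)⟩⟩
  have hAn : A.Normal := ⟨fun b hb g => by
    have hconj : g⁻¹ * u * g = (g⁻¹ * u * g * u⁻¹) * u := by group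
    have hzc : g⁻¹ * u * g * u⁻¹ ∈ Z := by
      have h := (inferInstance : Z.Normal).conj_mem _ (hu2 g) g⁻¹
      simpa [mul_assoc] using h
    have hC : C (g⁻¹ * u * g) = A := by rw [hconj]; exact hCmul _ hzc u
    have h := hmemC.mp (hC.symm ▸ hb : b ∈ C (g⁻¹ * u * g))
    refine hmemC.mpr ?_
    calc g * b * g⁻¹ * u = g * (b * (g⁻¹ * u * g)) * g⁻¹ := by group
      _ = g * ((g⁻¹ * u * g) * b) * g⁻¹ := by rw [h]
      _ = u * (g * b * g⁻¹) := by group⟩
  have hsmall : ∀ y, y ∉ A → y ^ p ∈ Z := fun y hy => by_contra fun h => hy (hbigA y h ▸ hself y)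
  have hZA : Z ≤ A := fun z hz => hmemC.mpr (mem_center_iff.mp hz u).symm
  obtain ⟨y, hy⟩ : ∃ y, y ∉ A := by
    by_contra h
    push Not at h
    exact huZ ((hCtop u).mpr (eq_top_iff.mpr fun g _ => h g))
  have hntA : Nontrivial (P ⧸ A) := ⟨(y : P ⧸ A), 1, fun h => hy ((QuotientGroup.eq_one_iff _).mp h)⟩
  have := (hP.to_quotient A).center_nontrivial
  obtain ⟨⟨gq, hgq⟩, hgq1⟩ := exists_ne (1 : center (P ⧸ A))
  obtain ⟨g, rfl⟩ := QuotientGroup.mk_surjective gq
  have hg : g ∉ A := fun h => hgq1 (Subtype.ext ((QuotientGroup.eq_one_iff _).mpr h))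
  by_cases hall : ∀ h : P, (h : P ⧸ A) ∈ zpowers (g : P ⧸ A)
  · -- index `p`
    have hord : orderOf (g : P ⧸ A) = p := by
      refine orderOf_eq_prime ?_ fun h => hg ((QuotientGroup.eq_one_iff _).mp h)
      rw [← QuotientGroup.mk_pow, QuotientGroup.eq_one_iff]; exact hZA (hsmall g hg)
    have hidxA : A.index = p := by
      rw [index_eq_card, ← hord, ← Nat.card_zpowers]
      rw [show zpowers (g : P ⧸ A) = ⊤ from eq_top_iff.mpr fun q _ => by
        obtain ⟨h, rfl⟩ := QuotientGroup.mk_surjective q; exact hall h, card_top]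
    rw [hA, hsize u huZ] at hidxA
    have hyZ : y ∉ Z := fun h => hy (hZA h)
    have hcy : (C y).index = p := (hsize y hyZ).trans hidxA
    have hinf : C y ⊓ A = Z := by
      refine le_antisymm (fun b hb => by_contra fun hbZ => hy ?_) (le_inf (fun z hz => hmemC.mpr (mem_center_iff.mp hz y).symm) hZA)
      rw [← hAC b hb.2 hbZ]
      exact hmemC.mpr (hmemC.mp hb.1).symm
    have hrel : Z.relIndex A ∣ p ∨ Z.relIndex A = 1 := by
      left
      rw [← hinf, inf_relIndex_right]
      have hle : (C y).relIndex A ≤ p := hcy ▸ relIndex_top_right (C y) ▸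
        relIndex_le_of_le_right le_top (by rw [relIndex_top_right, hcy]; exact hp.pos.ne')
      obtain ⟨m, hm⟩ := (hP.to_subgroup A).index ((C y).subgroupOf A)
      rw [relIndex, hm] at hle ⊢
      have hm1 : m ≤ 1 := (Nat.pow_le_pow_iff_right hp.one_lt).mp (by rwa [pow_one])
      exact dvd_trans (pow_dvd_pow p hm1) (pow_one p).dvd
    have h1 : x₀ ^ p ∈ Z := by
      rcases hrel with ⟨c, hc⟩ | h1
      · have h := pow_mem (Subgroup.pow_index_mem (Z.subgroupOf A) ⟨x₀, hx₀A⟩) c
        rw [← pow_mul, ← relIndex, ← hc, mem_subgroupOf] at h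
        simpa using h
      · exact pow_mem (relIndex_eq_one.mp h1 hx₀A) p
    exact hbig h1
  · push Not at hall
    obtain ⟨h, hh⟩ := hall
    let ρ : P →* MulAut A := MulAut.conjNormal
    have hker : ∀ b ∈ A, ρ b = 1 := fun b hb => by
      ext c
      rw [MulAut.conjNormal_apply, MulAut.one_apply,
        show b * (c : P) = c * b from congrArg Subtype.val (hAcomm.is_comm.comm ⟨b, hb⟩ c), mul_inv_cancel_right]
    have hnorm : ∀ w, w ∉ A → ∀ b : A,
        ∏ i ∈ Finset.range p, (ρ w ^ i) b ∈ Z.subgroupOf A := by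
      intro w hw b
      rw [mem_subgroupOf, norm_eq w b p]
      exact mul_mem (hsmall _ fun hm => hw ((mul_mem_cancel_left b.2).mp hm)) (inv_mem (hsmall w hw))
    have hst : Commute (ρ g) (ρ h) := by
      have hc := mem_center_iff.mp hgq (h : P ⧸ A)
      rw [← QuotientGroup.mk_mul, ← QuotientGroup.mk_mul, QuotientGroup.eq] at hc
      have := hker _ hc
      rw [map_mul, map_inv, inv_mul_eq_one, map_mul, map_mul] at this
      exact this.symm
    refine hbig ?_
    have hfin := pow_mem_of_norms (p := p) (ρ g) (ρ h) hst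
      (by rw [← map_pow]; exact hker _ (hZA (hsmall g hg))) (Z.subgroupOf A) ⟨x₀, hx₀A⟩
      (hnorm g hg) (fun j => by
        have hw : h * g ^ j ∉ A := by
          intro hm
          apply hh
          have h1 : (h : P ⧸ A) * (g : P ⧸ A) ^ j = 1 := by
            rw [← QuotientGroup.mk_pow, ← QuotientGroup.mk_mul, QuotientGroup.eq_one_iff]; exact hm
          rw [eq_inv_of_mul_eq_one_left h1]
          exact inv_mem (pow_mem (mem_zpowers _) j)
        have := hnorm (h * g ^ j) hw ⟨x₀, hx₀A⟩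
        rwa [map_mul, map_pow] at this)
    simpa [mem_subgroupOf] using hfin

/-- Let P be a finite p-group whose conjugacy class sizes are exactly 1 and pᵃ for some a ≥ 1. Then every element of P has its p-th power in the center of P (P/Z(P) has exponent p). -/
theorem result {P : Type*} [Group P] [Finite P] (p : ℕ) [Fact p.Prime]
    (hP : IsPGroup p P) (a : ℕ) (ha : 1 ≤ a)
    (hcs : {k : ℕ | ∃ x : P, (Subgroup.centralizer ({x} : Set P)).index = k} = {1, p ^ a}) (x : P) :
    x ^ p ∈ Subgroup.center P := by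
  refine main p hP a ha (fun y => ?_) x
  have h : (Subgroup.centralizer ({y} : Set P)).index ∈ ({1, p ^ a} : Set ℕ) := hcs ▸ ⟨y, rfl⟩
  simpa using h

end Cfsg.Agent.S4365
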