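import Cfsg.Statements.S4370
import Cfsg.Agent.TwoGroupsQ.UniqueInvolution
import Cfsg.Agent.Transfer.NormalPComplement

set_option autoImplicit false
open Cfsg

namespace Cfsg.Agent.S4370

open Subgroup

theorem two_mul_eq_zero {n : ℕ} [NeZero n] {x : ZMod (2 * n)} (h : x + x = 0) :
    x = 0 ∨ x = (n : ZMod (2 * n)) := by
  have hv : x.val < 2 * n := ZMod.val_lt x
  have h2 : 2 * n ∣ x.val + x.val := by
    rw [← ZMod.natCast_eq_zero_iff]; push_cast; rw [ZMod.natCast_zmod_val]; exact h
  obtain ⟨k, hk⟩ := h2
  have hk2 : k < 2 := by nlinarith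
  interval_cases k
  · left; rw [← ZMod.natCast_zmod_val x, show x.val = 0 by omega, Nat.cast_zero]
  · right; rw [← ZMod.natCast_zmod_val x, show x.val = n by omega]

theorem quaternion_centralizer {n : ℕ} [NeZero n] (q : QuaternionGroup n)
    (hq : q ∉ center (QuaternionGroup n)) : IsCyclic (centralizer ({q} : Set (QuaternionGroup n))) := by
  rcases q with i | i
  · have hi : i + i ≠ 0 := by
      intro h
      apply hq
      rw [mem_center_iff]
      rintro (j | j)
      · rw [QuaternionGroup.a_mul_a, QuaternionGroup.a_mul_a, add_comm]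
      · rw [QuaternionGroup.a_mul_xa, QuaternionGroup.xa_mul_a]
        congr 1
        linear_combination h
    refine isCyclic_of_le (H' := zpowers (QuaternionGroup.a 1)) ?_
    rintro (j | j) hj
    · exact ⟨(j.val : ℤ), by simp only [zpow_natCast]; rw [QuaternionGroup.a_one_pow, ZMod.natCast_zmod_val]⟩
    · rw [mem_centralizer_singleton_iff, QuaternionGroup.a_mul_xa, QuaternionGroup.xa_mul_a] at hj
      exact absurd (by linear_combination (QuaternionGroup.xa.inj hj)) hi
  · refine isCyclic_of_le (H' := zpowers (QuaternionGroup.xa i)) ?_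
    rintro (j | j) hj
    · rw [mem_centralizer_singleton_iff, QuaternionGroup.a_mul_xa, QuaternionGroup.xa_mul_a] at hj
      rcases two_mul_eq_zero (x := j) (by linear_combination (QuaternionGroup.xa.inj hj).symm) with rfl | rfl
      · rw [QuaternionGroup.a_zero]; exact one_mem _
      · exact ⟨2, by rw [← QuaternionGroup.xa_sq i]; norm_cast⟩
    · rw [mem_centralizer_singleton_iff, QuaternionGroup.xa_mul_xa, QuaternionGroup.xa_mul_xa] at hj
      rcases two_mul_eq_zero (x := j - i) (by linear_combination (QuaternionGroup.a.inj hj).symm) with h | h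
      · rw [sub_eq_zero.mp h]; exact mem_zpowers _
      · rw [show j = i + n by rw [← h]; ring, ← QuaternionGroup.xa_mul_a, ← QuaternionGroup.xa_sq i]
        exact mul_mem (mem_zpowers _) (pow_mem (mem_zpowers _) 2)

theorem forward {G : Type*} [Group G] [Finite G] (hG : Group.IsNilpotent G)
    (hna : ¬ IsMulCommutative G)
    (h : ∀ x : G, x ∉ center G → IsCyclic (centralizer ({x} : Set G))) :
    ∃ (k m : ℕ), 1 ≤ k ∧ Odd m ∧ Nonempty (G ≃* QuaternionGroup (2 ^ k) × Multiplicative (ZMod m)) := by
  classical
  -- centralisers of non-central elements contain no non-commuting pair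
  have hkey : ∀ x : G, x ∉ center G → ∀ a ∈ centralizer ({x} : Set G), ∀ b ∈ centralizer ({x} : Set G), a * b = b * a := by
    intro x hx a ha b hb
    have := h x hx
    obtain ⟨g, hg⟩ := this.exists_generator
    obtain ⟨i, hi⟩ := mem_zpowers_iff.mp (hg ⟨a, ha⟩)
    obtain ⟨j, hj⟩ := mem_zpowers_iff.mp (hg ⟨b, hb⟩)
    have e := (Commute.zpow_zpow_self g i j).eq
    rw [hi, hj] at e
    exact congrArg Subtype.val e
  -- a prime with non-abelian Sylow subgroup
  obtain ⟨p, hp, P, hP⟩ : ∃ (p : ℕ) (_ : Fact p.Prime) (P : Sylow p G), ∃ a ∈ (P : Subgroup G), ∃ b ∈ (P : Subgroup G), a * b ≠ b * a := by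
    by_contra hall
    push Not at hall
    apply hna
    have hgen : ∀ r : ℕ, ∀ [Fact r.Prime], ∀ R : Sylow r G, (R : Subgroup G) ≤ center G := by
      intro r hr R a ha
      rw [mem_center_iff]
      have htop : centralizer ({a} : Set G) = ⊤ := by
        rw [← index_eq_one]
        by_contra hne
        obtain ⟨s, hs, hsd⟩ := Nat.exists_prime_and_dvd hne
        have : Fact s.Prime := ⟨hs⟩
        inhabit Sylow s G
        refine (default : Sylow s G).not_dvd_index (hsd.trans (index_dvd_of_le ?_))
        intro b hb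
        rw [mem_centralizer_singleton_iff]
        rcases eq_or_ne r s with rfl | hne'
        · have := Sylow.unique_of_normal R (Sylow.normal_of_normalizerCondition Group.normalizerCondition_of_isNilpotent R)
          have e : (default : Sylow r G) = R := Subsingleton.elim _ _
          exact hall r hr R b (e ▸ hb) a ha
        · exact (commute_of_normal_of_disjoint _ _
            (Sylow.normal_of_normalizerCondition Group.normalizerCondition_of_isNilpotent _)
            (Sylow.normal_of_normalizerCondition Group.normalizerCondition_of_isNilpotent R)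
            (IsPGroup.disjoint_of_ne s r hne'.symm _ _ (default : Sylow s G).2 R.2) b a hb ha).eq
      intro g
      exact mem_centralizer_singleton_iff.mp (htop ▸ mem_top g : g ∈ centralizer ({a} : Set G))
    have hc : center G = ⊤ := by
      rw [← index_eq_one]
      by_contra hne
      obtain ⟨s, hs, hsd⟩ := Nat.exists_prime_and_dvd hne
      have : Fact s.Prime := ⟨hs⟩
      inhabit Sylow s G
      exact (default : Sylow s G).not_dvd_index (hsd.trans (index_dvd_of_le (hgen s default)))
    exact ⟨⟨fun a b => (mem_center_iff.mp (hc ▸ mem_top a) b).symm⟩⟩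
  obtain ⟨a₁, ha₁, b₁, hb₁, hab⟩ := hP
  have hPn : (P : Subgroup G).Normal := Sylow.normal_of_normalizerCondition Group.normalizerCondition_of_isNilpotent P
  obtain ⟨N, hN, hNP⟩ := CfsgLib.Transfer.exists_isComplement'
    (CfsgLib.Transfer.hasNormalPComplement_of_isNilpotent (G := G) (p := p)) P
  have hcomm : ∀ n ∈ N, ∀ y ∈ (P : Subgroup G), n * y = y * n := fun n hn y hy =>
    (commute_of_normal_of_disjoint N P hN hPn hNP.disjoint n y hn hy).eq
  have hNc : N ≤ center G := by
    intro n hn
    by_contra hnc
    exact hab (hkey n hnc a₁ (mem_centralizer_singleton_iff.mpr (hcomm n hn a₁ ha₁).symm) b₁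
      (mem_centralizer_singleton_iff.mpr (hcomm n hn b₁ hb₁).symm))
  have ha₁c : a₁ ∉ center G := fun hc => hab (mem_center_iff.mp hc b₁).symm
  have hcyc := h a₁ ha₁c
  have hNcyc : IsCyclic N := isCyclic_of_le (H' := centralizer ({a₁} : Set G)) (hNc.trans (center_le_centralizer _))
  -- `P` has one subgroup of order `p`
  have hu : CfsgLib.TwoGroupsQ.HasUniqueOrderP (P : Subgroup G) p := by
    have hPnt : Nontrivial (P : Subgroup G) := ⟨⟨⟨a₁, ha₁⟩, 1, fun e => ha₁c (by have e' : a₁ = 1 := congrArg Subtype.val e; rw [e']; exact one_mem _)⟩⟩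
    have := P.2.center_nontrivial
    obtain ⟨⟨z₀, hz₀⟩, hz₀1⟩ := exists_ne (1 : center (P : Subgroup G))
    obtain ⟨k, hk⟩ := IsPGroup.iff_orderOf.mp P.2 z₀
    obtain ⟨j, rfl⟩ : ∃ j, k = j + 1 := Nat.exists_eq_succ_of_ne_zero (fun e => hz₀1 (Subtype.ext (orderOf_eq_one_iff.mp (by rw [hk, e, pow_zero]))))
    set z := z₀ ^ p ^ j
    have hzc : z ∈ center (P : Subgroup G) := pow_mem hz₀ _
    have hzo : orderOf z = p := by
      rw [orderOf_pow' _ (pow_pos hp.out.pos _).ne', hk, Nat.gcd_eq_right (pow_dvd_pow p (Nat.le_succ j)),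
        pow_succ, Nat.mul_div_cancel_left _ (pow_pos hp.out.pos _)]
    have hzG : (z : G) ∈ center G := by
      rw [mem_center_iff]
      intro g
      obtain ⟨⟨n, y⟩, rfl⟩ := hNP.2 g
      have h1 := mem_center_iff.mp hzc y
      have h2 := mem_center_iff.mp (hNc n.2) (z : G)
      calc (n : G) * y * z = n * (y * z : G) := mul_assoc _ _ _
        _ = n * (z * y : G) := by rw [show (y : G) * z = z * y from congrArg Subtype.val h1]
        _ = z * (n * y) := by rw [← mul_assoc, ← h2, mul_assoc]
    -- every element of order `p` of `P` is a power of `z`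
    have hall : ∀ u : (P : Subgroup G), u ^ p = 1 → u ∈ zpowers z := by
      intro u hu
      rcases eq_or_ne u 1 with rfl | hu1
      · exact one_mem _
      have huo : orderOf u = p := orderOf_eq_prime hu hu1
      have key : ∀ x : G, x ∉ center G → (u : G) ∈ centralizer ({x} : Set G) → (u : G) ∈ zpowers (z : G) := by
        intro x hx hux
        have := h x hx
        set C := centralizer ({x} : Set G)
        let zC : C := ⟨z, center_le_centralizer _ hzG⟩
        let uC : C := ⟨u, hux⟩
        have : Fintype C := Fintype.ofFinite C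
        have huC : uC ^ p = 1 := Subtype.ext (by simpa using congrArg Subtype.val hu)
        have hzCo : orderOf zC = p := by rw [← orderOf_coe zC]; exact (orderOf_coe z).trans hzo
        have h1 : (Finset.univ.filter fun w : C => w ∈ zpowers zC) = Finset.univ.filter fun w : C => w ^ p = 1 := by
          refine Finset.eq_of_subset_of_card_le ?_ ?_
          · intro w hw
            simp only [Finset.mem_filter, Finset.mem_univ, true_and] at hw ⊢
            obtain ⟨i, rfl⟩ := hw
            dsimp only
            rw [← zpow_natCast, ← zpow_mul, mul_comm, zpow_mul, zpow_natCast, ← hzCo, pow_orderOf_eq_one, one_zpow]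
          · refine (IsCyclic.card_pow_eq_one_le hp.out.pos).trans ?_
            rw [← Fintype.card_subtype, ← Nat.card_eq_fintype_card]
            exact ((Nat.card_zpowers zC).trans hzCo).ge
        have h2 : uC ∈ zpowers zC := by
          have : uC ∈ Finset.univ.filter fun w : C => w ^ p = 1 := Finset.mem_filter.mpr ⟨Finset.mem_univ _, huC⟩
          rw [← h1] at this
          exact (Finset.mem_filter.mp this).2
        obtain ⟨i, hi⟩ := mem_zpowers_iff.mp h2
        exact ⟨i, congrArg Subtype.val hi⟩
      have h2 : (u : G) ∈ zpowers (z : G) := by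
        by_cases huc : (u : G) ∈ center G
        · exact key a₁ ha₁c (center_le_centralizer _ huc)
        · exact key u huc (mem_centralizer_singleton_iff.mpr rfl)
      obtain ⟨i, hi⟩ := h2
      exact ⟨i, Subtype.ext (by simpa using hi)⟩
    intro x y hx hy hy1
    obtain ⟨i, hi⟩ := mem_zpowers_iff.mp (hall y hy)
    have h3 : zpowers y = zpowers z :=
      eq_of_le_of_card_ge (zpowers_le.mpr ⟨i, hi⟩)
        (by rw [Nat.card_zpowers, Nat.card_zpowers, orderOf_eq_prime hy hy1, hzo])
    exact h3 ▸ hall x hx
  rcases CfsgLib.TwoGroupsQ.isCyclic_or_quaternion P.2 hu with hc | ⟨rfl, k, hk, ⟨e⟩⟩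
  · exfalso
    obtain ⟨g, hg⟩ := hc.exists_generator
    obtain ⟨i, hi⟩ := mem_zpowers_iff.mp (hg ⟨a₁, ha₁⟩)
    obtain ⟨j, hj⟩ := mem_zpowers_iff.mp (hg ⟨b₁, hb₁⟩)
    have e := (Commute.zpow_zpow_self g i j).eq
    rw [hi, hj] at e
    exact hab (congrArg Subtype.val e)
  · refine ⟨k, Nat.card N, hk, ?_, ⟨?_⟩⟩
    · rw [← Nat.not_even_iff_odd, even_iff_two_dvd]
      exact CfsgLib.Transfer.not_dvd_card_of_isComplement' hNP
    · let φ : N × (P : Subgroup G) →* G :=
        { toFun := fun x => x.1 * x.2
          map_one' := by simp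
          map_mul' := fun x y => by
            show ((x.1 * y.1 : N) : G) * ((x.2 * y.2 : (P : Subgroup G)) : G) = _
            rw [Subgroup.coe_mul, Subgroup.coe_mul]
            calc (x.1 : G) * y.1 * (x.2 * y.2 : G) = x.1 * ((y.1 : G) * x.2) * y.2 := by group
              _ = x.1 * ((x.2 : G) * y.1) * y.2 := by rw [hcomm _ y.1.2 _ x.2.2]
              _ = _ := by group }
      exact ((MulEquiv.ofBijective φ hNP).symm.trans MulEquiv.prodComm).trans
        (MulEquiv.prodCongr e (zmodCyclicMulEquiv hNcyc).symm)

/-- Let G be a finite non-abelian nilpotent group. Then the centralizer of every non-central element of G is cyclic if and only if G is isomorphic to the direct product of a generalized quaternion group and a cyclic group of odd order. -/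
theorem result {G : Type*} [Group G] [Finite G] (hG : Group.IsNilpotent G)
    (hna : ¬ IsMulCommutative G) :
    (∀ x : G, x ∉ Subgroup.center G → IsCyclic (Subgroup.centralizer ({x} : Set G))) ↔
      ∃ (k m : ℕ), 1 ≤ k ∧ Odd m ∧ Nonempty (G ≃* QuaternionGroup (2 ^ k) × Multiplicative (ZMod m)) := by
  refine ⟨forward hG hna, ?_⟩
  rintro ⟨k, m, hk, hm, ⟨e⟩⟩ x hx
  have : NeZero m := ⟨fun h => by simp [h] at hm⟩
  rcases hy : e x with ⟨q, c⟩
  have hq : q ∉ center (QuaternionGroup (2 ^ k)) := fun hq => by
    apply hx
    rw [mem_center_iff]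
    intro g
    apply e.injective
    rw [map_mul, map_mul, hy]
    exact Prod.ext (mem_center_iff.mp hq _) (mul_comm _ _)
  have := quaternion_centralizer q hq
  have hcop : (Nat.card (centralizer ({q} : Set (QuaternionGroup (2 ^ k))))).Coprime (Nat.card (Multiplicative (ZMod m))) := by
    have h4 : Nat.card (QuaternionGroup (2 ^ k)) = 2 ^ (k + 2) := by
      rw [Nat.card_eq_fintype_card, QuaternionGroup.card]; ring
    refine Nat.Coprime.coprime_dvd_left (h4 ▸ card_subgroup_dvd_card _) ?_
    rw [Nat.card_eq_of_bijective _ Multiplicative.toAdd.bijective, Nat.card_zmod]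
    exact Nat.Coprime.pow_left _ ((Nat.Prime.coprime_iff_not_dvd Nat.prime_two).mpr (Nat.not_even_iff_odd.mpr hm |> fun h' h2 => h' (even_iff_two_dvd.mpr h2)))
  have hprod : IsCyclic (centralizer ({q} : Set (QuaternionGroup (2 ^ k))) × Multiplicative (ZMod m)) :=
    Group.isCyclic_prod_iff.mpr ⟨inferInstance, inferInstance, hcop⟩
  let f : centralizer ({x} : Set G) →* centralizer ({q} : Set (QuaternionGroup (2 ^ k))) × Multiplicative (ZMod m) :=
    { toFun := fun g => (⟨(e g).1, by
        rw [mem_centralizer_singleton_iff]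
        have h := congrArg (fun u => (e u).1) (mem_centralizer_singleton_iff.mp g.2)
        simpa [map_mul, hy] using h⟩, (e g).2)
      map_one' := by ext <;> simp
      map_mul' := fun a b => by ext <;> simp }
  exact isCyclic_of_injective f fun a b hab => Subtype.ext (e.injective
    (Prod.ext (congrArg (fun u => (u.1 : QuaternionGroup (2 ^ k))) hab) (congrArg (fun u : centralizer ({q} : Set (QuaternionGroup (2 ^ k))) × Multiplicative (ZMod m) => u.2) hab :)))

end Cfsg.Agent.S4370
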