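import Cfsg.Statements.S4377
-- import your own Cfsg.Agent.* helpers here

set_option autoImplicit false
open Cfsg

namespace Cfsg.Agent.S4377

theorem card_pow_eq_one_eq_sum {K : Type*} [Group K] [Finite K] (n : ℕ) (hn : 0 < n) :
    Nat.card {g : K // g ^ n = 1} = ∑ d ∈ n.divisors, Nat.card {g : K // orderOf g = d} := by
  classical
  cases nonempty_fintype K
  simp only [Nat.card_eq_fintype_card, Fintype.card_subtype]
  exact (sum_card_orderOf_eq_card_pow_eq_one hn.ne').symm

/-- Two finite groups have the same number of elements of each order if and only if, for every n, they have the same number of elements g with gⁿ = 1. -/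
theorem result {G H : Type*} [Group G] [Finite G] [Group H] [Finite H] :
    (∀ n : ℕ, Nat.card {g : G // orderOf g = n} = Nat.card {h : H // orderOf h = n}) ↔
      ∀ n : ℕ, Nat.card {g : G // g ^ n = 1} = Nat.card {h : H // h ^ n = 1} := by
  classical
  cases nonempty_fintype G
  cases nonempty_fintype H
  constructor
  · intro h n
    rcases Nat.eq_zero_or_pos n with rfl | hn
    · have hN : 0 < Nat.card G * Nat.card H := Nat.mul_pos Nat.card_pos Nat.card_pos
      rw [Nat.card_congr (Equiv.subtypeUnivEquiv (by simp : ∀ g : G, g ^ 0 = 1)),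
        Nat.card_congr (Equiv.subtypeUnivEquiv (by simp : ∀ g : H, g ^ 0 = 1))]
      have a1 : Nat.card {g : G // g ^ (Nat.card G * Nat.card H) = 1} = Nat.card G :=
        Nat.card_congr (Equiv.subtypeUnivEquiv (fun g => by rw [pow_mul, pow_card_eq_one', one_pow]))
      have a2 : Nat.card {g : H // g ^ (Nat.card G * Nat.card H) = 1} = Nat.card H :=
        Nat.card_congr (Equiv.subtypeUnivEquiv (fun g => by
          rw [mul_comm, pow_mul, pow_card_eq_one', one_pow]))
      rw [← a1, card_pow_eq_one_eq_sum (K := G) _ hN, Finset.sum_congr rfl (fun d _ => h d), ← card_pow_eq_one_eq_sum (K := H) _ hN, a2]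
    · rw [card_pow_eq_one_eq_sum (K := G) n hn, card_pow_eq_one_eq_sum (K := H) n hn]
      exact Finset.sum_congr rfl (fun d _ => h d)
  · intro h n
    induction n using Nat.strong_induction_on with
    | _ n ih =>
      rcases Nat.eq_zero_or_pos n with rfl | hn
      · rw [Nat.card_eq_zero.2 (Or.inl ⟨fun g => (orderOf_pos g.1).ne' g.2⟩),
          Nat.card_eq_zero.2 (Or.inl ⟨fun g => (orderOf_pos g.1).ne' g.2⟩)]
      · have g1 := card_pow_eq_one_eq_sum (K := G) n hn
        have g2 := card_pow_eq_one_eq_sum (K := H) n hn
        rw [h n, g2, ← Nat.cons_self_properDivisors hn.ne', Finset.sum_cons, Finset.sum_cons,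
          Finset.sum_congr rfl (fun d hd => ih d (Nat.mem_properDivisors.1 hd).2)] at g1
        omega

end Cfsg.Agent.S4377
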