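import Cfsg.Statements.S4376
import Cfsg.Agent.S4377
import Cfsg.Agent.OrderType.Factors1
import Cfsg.Agent.OrderType.Factors2
import Cfsg.Agent.OrderType.L27
-- import your own Cfsg.Agent.* helpers here

set_option autoImplicit false
open Cfsg

namespace Cfsg.Agent.S4376

open CfsgLib.OrderType

/-- The solvable group. -/
abbrev SolGroup : Type :=
  (Fin 24 → K01) ×
  (Fin 16 → K02) ×
  (Fin 24 → K03) ×
  (Fin 36 → K04) ×
  (Fin 24 → K05) ×
  (Fin 24 → K07) ×
  (Fin 24 → K13) ×
  (Fin 6 → K14) ×
  (Fin 30 → K20) ×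
  (Fin 8 → K21) ×
  (Fin 12 → K22) ×
  (Fin 39 → K23) ×
  (Fin 6 → K24) ×
  (Fin 18 → K27) ×
  (Fin 45 → K28)

/-- The non-solvable group with the same order type. -/
abbrev NonSolGroup : Type :=
  (Fin 24 → L27) ×
  (Fin 24 → K00) ×
  (Fin 6 → K06) ×
  (Fin 24 → K08) ×
  (Fin 12 → K09) ×
  (Fin 16 → K10) ×
  (Fin 6 → K11) ×
  (Fin 6 → K12) ×
  (Fin 42 → K15) ×
  (Fin 18 → K16) ×
  (Fin 36 → K17) ×
  (Fin 24 → K18) ×
  (Fin 39 → K19) ×
  (Fin 30 → K25) ×
  (Fin 8 → K26) ×
  (Fin 93 → K29)

instance instSolvablePiFin (A : Type) [Group A] [Group.IsSolvable A] (k : ℕ) :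
    Group.IsSolvable (Fin k → A) := isSolvable_pi _

instance instFinitePiFin (A : Type) [Finite A] (k : ℕ) : Finite (Fin k → A) := inferInstance

theorem finite_prod {A B : Type} (hA : Finite A) (hB : Finite B) : Finite (A × B) := inferInstance

theorem isSolvable_prodGroup {A B : Type} [Group A] [Group B] (hA : Group.IsSolvable A)
    (hB : Group.IsSolvable B) : Group.IsSolvable (A × B) := inferInstance

theorem nonSolGroup_not_isSolvable : ¬ Group.IsSolvable NonSolGroup := fun h =>
  not_isSolvable_L27 (Group.isSolvable_of_surjective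
    (f := ((Pi.evalMonoidHom (fun _ : Fin 24 => L27) 0).comp (MonoidHom.fst _ _) : NonSolGroup →* L27))
    (fun a => ⟨(fun _ => a, 1), rfl⟩))

theorem rootCount_eq (n : ℕ) : rootCount SolGroup n = rootCount NonSolGroup n := by
  have hG : Spec SolGroup _ := ((specK01.pi 24).prod
    ((specK02.pi 16).prod
    ((specK03.pi 24).prod
    ((specK04.pi 36).prod
    ((specK05.pi 24).prod
    ((specK07.pi 24).prod
    ((specK13.pi 24).prod
    ((specK14.pi 6).prod
    ((specK20.pi 30).prod
    ((specK21.pi 8).prod
    ((specK22.pi 12).prod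
    ((specK23.pi 39).prod
    ((specK24.pi 6).prod
    ((specK27.pi 18).prod
    (specK28.pi 45)))))))))))))))
  have hH : Spec NonSolGroup _ := ((specL27.pi 24).prod
    ((specK00.pi 24).prod
    ((specK06.pi 6).prod
    ((specK08.pi 24).prod
    ((specK09.pi 12).prod
    ((specK10.pi 16).prod
    ((specK11.pi 6).prod
    ((specK12.pi 6).prod
    ((specK15.pi 42).prod
    ((specK16.pi 18).prod
    ((specK17.pi 36).prod
    ((specK18.pi 24).prod
    ((specK19.pi 39).prod
    ((specK25.pi 30).prod
    ((specK26.pi 8).prod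
    (specK29.pi 93))))))))))))))))
  refine Spec.rootCount_eq hG ?_ n
  convert hH using 1
  decide +kernel

/-- There are finite groups G and H having the same number of elements of each order (the same order type) with G solvable and H not solvable. -/
theorem result :
    ∃ (G : Type) (_ : Group G) (_ : Finite G) (H : Type) (_ : Group H) (_ : Finite H),
      Group.IsSolvable G ∧ ¬ Group.IsSolvable H ∧ ∀ n : ℕ, Nat.card {g : G // orderOf g = n} = Nat.card {h : H // orderOf h = n} := by
  haveI hfG : Finite SolGroup := by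
    repeat' first
      | exact inferInstanceAs (Finite (Fin _ → _))
      | apply finite_prod
  haveI hfH : Finite NonSolGroup := by
    repeat' first
      | exact inferInstanceAs (Finite (Fin _ → _))
      | apply finite_prod
  haveI hsG : Group.IsSolvable SolGroup := by
    repeat' first
      | exact isSolvable_pi _
      | apply isSolvable_prodGroup
  refine ⟨SolGroup, inferInstance, hfG, NonSolGroup, inferInstance, hfH,
    hsG, nonSolGroup_not_isSolvable, ?_⟩
  rw [Cfsg.Agent.S4377.result]
  exact rootCount_eq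

end Cfsg.Agent.S4376
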