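import Cfsg.Statements.S4381
import Cfsg.Agent.Solvable.Frattini
import Cfsg.Agent.Coprime.ActionHom
import Cfsg.Agent.NilpotentLinear.DerivedLength
-- import your own Cfsg.Agent.* helpers here

set_option autoImplicit false
open Pointwise
open Cfsg

namespace Cfsg.Agent.S4381

open Subgroup
open scoped Pointwise commutatorElement

section

variable {A G : Type*} [Group A] [Group G] [MulDistribMulAction A G]

private theorem smul_mem_frattini (a : A) {x : G} (hx : x ∈ frattini G) : a • x ∈ frattini G := by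
  have h : (frattini G).map ((MulDistribMulAction.toMulAut A G) a).toMonoidHom = frattini G :=
    Subgroup.characteristic_iff_map_eq.1 inferInstance _
  rw [← h]
  exact ⟨x, hx, rfl⟩

/-- Invariant complements in an abelian group of prime exponent. -/
private theorem compl_comm {A : Type*} [Group A] [Finite A] {Q : Type*} [CommGroup Q] {p : ℕ}
    [Fact p.Prime] (hA : (Nat.card A).Coprime p) (hexp : ∀ x : Q, x ^ p = 1) (act : A → Q →* Q)
    (h1 : ∀ x, act 1 x = x) (hmul : ∀ a b x, act (a * b) x = act a (act b x))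
    (U : Subgroup Q) (hU : ∀ a, ∀ x ∈ U, act a x ∈ U) :
    ∃ W : Subgroup Q, (∀ a, ∀ x ∈ W, act a x ∈ W) ∧ (∀ x ∈ U, x ∈ W → x = 1) ∧
      ∀ x, ∃ u ∈ U, ∃ w ∈ W, u * w = x := by
  classical
  have := Fintype.ofFinite A
  letI := AddCommGroup.zmodModule (n := p) (G := Additive Q) fun x => hexp x.toMul
  let ρ₀ : A → (Additive Q →ₗ[ZMod p] Additive Q) := fun a =>
    (MonoidHom.toAdditive (act a)).toZModLinearMap p
  let ρ : A →* Module.End (ZMod p) (Additive Q) :=
    { toFun := ρ₀
      map_one' := LinearMap.ext fun x => h1 x.toMul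
      map_mul' := fun a b => LinearMap.ext fun x => hmul a b x.toMul }
  have hcard : (Fintype.card A : ZMod p) ≠ 0 := by
    rw [Ne, ZMod.natCast_eq_zero_iff, ← Nat.card_eq_fintype_card]
    exact fun hd => (Fact.out : p.Prime).one_lt.ne' (Nat.eq_one_of_dvd_coprimes hA hd dvd_rfl)
  let U' : Submodule (ZMod p) (Additive Q) := AddSubgroup.toZModSubmodule p (Subgroup.toAddSubgroup U)
  obtain ⟨W, hW, hWinv⟩ := CfsgLib.NilpotentLinear.exists_invariant_compl hcard ρ U'
    fun a x hx => hU a x.toMul hx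
  refine ⟨AddSubgroup.toSubgroup' W.toAddSubgroup, fun a x hx => hWinv a (Additive.ofMul x) hx,
    fun x hxU hxW => ?_, fun x => ?_⟩
  · exact congrArg Additive.toMul ((Submodule.mem_bot _).1 (hW.disjoint.le_bot
      (⟨hxU, hxW⟩ : Additive.ofMul x ∈ U' ∧ Additive.ofMul x ∈ W)))
  · obtain ⟨u, hu, w, hw, huw⟩ := Submodule.mem_sup.1
      (hW.codisjoint.eq_top.ge (Submodule.mem_top : Additive.ofMul x ∈ ⊤))
    exact ⟨u.toMul, hu, w.toMul, hw, congrArg Additive.toMul huw⟩

variable [Finite A] [Finite G]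

/-- Invariant complements in an elementary abelian quotient by the Frattini subgroup. -/
private theorem exists_compl (hcop : (Nat.card A).Coprime (Nat.card G)) {p : ℕ} [hp : Fact p.Prime]
    (hG : IsPGroup p G) (L : Subgroup G) (hL : frattini G < L)
    (hinv : ∀ a : A, ∀ x ∈ L, a • x ∈ L) (hne : L ≠ ⊤) :
    ∃ N : Subgroup G, N ≠ ⊤ ∧ (∀ a : A, ∀ x ∈ N, a • x ∈ N) ∧ N ⊔ L = ⊤ := by
  classical
  have hΦc := CfsgLib.Solvable.commutator_le_frattini hG
  letI : CommGroup (G ⧸ frattini G) :=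
    { (inferInstance : Group (G ⧸ frattini G)) with
      mul_comm := fun a b => (Subgroup.Normal.quotient_commutative_iff_commutator_le.2 hΦc).is_comm.comm a b }
  let act : A → (G ⧸ frattini G →* G ⧸ frattini G) := fun a =>
    QuotientGroup.map _ _ ((MulDistribMulAction.toMulAut A G) a).toMonoidHom
      fun x hx => smul_mem_frattini a hx
  have hact : ∀ (a : A) (g : G), act a (QuotientGroup.mk g) = QuotientGroup.mk (a • g) := fun a g => rfl
  have hA : (Nat.card A).Coprime p := by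
    have hG1 : Nat.card G ≠ 1 := fun h => hne (Subgroup.eq_top_of_card_eq L (by
      have := Subgroup.card_subgroup_dvd_card L
      rw [h, Nat.dvd_one] at this
      rw [h, this]))
    obtain ⟨n, hn⟩ := IsPGroup.iff_card.1 hG
    have hn0 : n ≠ 0 := by rintro rfl; exact hG1 (by simpa using hn)
    exact hcop.coprime_dvd_right (hn ▸ dvd_pow_self p hn0)
  obtain ⟨W, hWinv, hdisj, hsup⟩ := compl_comm (p := p) hA
    (fun x => by
      obtain ⟨g, rfl⟩ := QuotientGroup.mk'_surjective (frattini G) x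
      rw [← map_pow]
      exact (QuotientGroup.eq_one_iff _).2 (CfsgLib.Solvable.pow_mem_frattini hG g))
    act (fun x => by
      obtain ⟨g, rfl⟩ := QuotientGroup.mk'_surjective (frattini G) x
      rw [QuotientGroup.mk'_apply, hact, one_smul])
    (fun a b x => by
      obtain ⟨g, rfl⟩ := QuotientGroup.mk'_surjective (frattini G) x
      rw [QuotientGroup.mk'_apply, hact, hact, hact, mul_smul])
    (L.map (QuotientGroup.mk' (frattini G)))
    (fun a x hx => by
      obtain ⟨g, hg, rfl⟩ := hx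
      exact ⟨a • g, hinv a g hg, rfl⟩)
  refine ⟨W.comap (QuotientGroup.mk' (frattini G)), fun hN => ?_, fun a x hx => hWinv a _ hx, ?_⟩
  · obtain ⟨g, hgL, hgΦ⟩ := SetLike.exists_of_lt hL
    have := hdisj _ ⟨g, hgL, rfl⟩ (hN.ge (mem_top g) : g ∈ W.comap (QuotientGroup.mk' (frattini G)))
    exact hgΦ ((QuotientGroup.eq_one_iff g).1 this)
  · refine top_le_iff.1 fun g _ => ?_
    obtain ⟨_, ⟨l, hl, rfl⟩, w, hw, huw⟩ := hsup (QuotientGroup.mk' (frattini G) g)
    rw [show g = l * (l⁻¹ * g) by group]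
    refine mul_mem (mem_sup_right hl) (mem_sup_left ?_)
    rw [mem_comap, map_mul, map_inv, ← huw, inv_mul_cancel_left]
    exact hw

private def MaxInv (A : Type*) {G : Type*} [Group A] [Group G] [MulDistribMulAction A G]
    (M : Subgroup G) : Prop :=
  M ≠ ⊤ ∧ (∀ a : A, ∀ x ∈ M, a • x ∈ M) ∧
    ∀ L : Subgroup G, M < L → (∀ a : A, ∀ x ∈ L, a • x ∈ L) → L = ⊤

omit [Finite A] in
private theorem exists_maxInv {H : Subgroup G} (hH : H ≠ ⊤) (hinv : ∀ a : A, ∀ x ∈ H, a • x ∈ H) :
    ∃ M : Subgroup G, H ≤ M ∧ MaxInv A M := by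
  obtain ⟨M, hM⟩ := (Set.toFinite {M : Subgroup G | H ≤ M ∧ M ≠ ⊤ ∧ ∀ a : A, ∀ x ∈ M, a • x ∈ M}).exists_maximal
    ⟨H, le_rfl, hH, hinv⟩
  refine ⟨M, hM.1.1, hM.1.2.1, hM.1.2.2, fun L hL hLinv => ?_⟩
  by_contra hne
  exact hL.not_ge (hM.2 ⟨hM.1.1.trans hL.le, hne, hLinv⟩ hL.le)

omit [Finite A] in
private theorem eq_frattini {M : Subgroup G} (hM : MaxInv A M)
    (h : ∀ L : Subgroup G, frattini G < L → (∀ a : A, ∀ x ∈ L, a • x ∈ L) → L = ⊤) :
    M = frattini G := by
  have hle : frattini G ≤ M := by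
    by_contra hnot
    have hinv : ∀ a : A, ∀ x ∈ M ⊔ frattini G, a • x ∈ M ⊔ frattini G := by
      intro a x hx
      have hm := mem_map_of_mem ((MulDistribMulAction.toMulAut A G) a).toMonoidHom hx
      rw [Subgroup.map_sup] at hm
      refine SetLike.le_def.1 (sup_le_sup ?_ ?_) hm
      · rintro _ ⟨y, hy, rfl⟩; exact hM.2.1 a y hy
      · rintro _ ⟨y, hy, rfl⟩; exact smul_mem_frattini a hy
    exact hM.1 (CfsgLib.Solvable.eq_top_of_sup_frattini
      (hM.2.2 _ (lt_of_le_of_ne le_sup_left fun e => hnot (e ▸ le_sup_right)) hinv))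
  by_contra hne
  exact hM.1 (h M (lt_of_le_of_ne hle (Ne.symm hne)) hM.2.1)

end

/-- Let the finite group A act by automorphisms on the finite group G with the orders of A and G coprime, and assume that A or G is solvable. Call a proper A-invariant subgroup of G maximal A-invariant when no A-invariant subgroup lies strictly between it and G. Then all maximal A-invariant subgroups of G are conjugate under elements of the fixed-point subgroup C_G(A) if and only if G is a p-group for some prime p and A leaves invariant no subgroup strictly between the Frattini subgroup of G and G. In that case, if G is nontrivial, the Frattini subgroup is the only maximal A-invariant subgroup (a trivial G has none). -/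
theorem result {A G : Type*} [Group A] [Finite A]
    [Group G] [Finite G] [MulDistribMulAction A G] (hcop : (Nat.card A).Coprime (Nat.card G)) (hsol : Group.IsSolvable A ∨ Group.IsSolvable G) :
    ((∀ M N : Subgroup G, (M ≠ ⊤ ∧ (∀ a : A, ∀ x ∈ M, a • x ∈ M) ∧ ∀ L : Subgroup G, M < L → (∀ a : A, ∀ x ∈ L, a • x ∈ L) → L = ⊤) → (N ≠ ⊤ ∧ (∀ a : A, ∀ x ∈ N, a • x ∈ N) ∧ ∀ L : Subgroup G, N < L → (∀ a : A, ∀ x ∈ L, a • x ∈ L) → L = ⊤) →
        ∃ c : G, (∀ a : A, a • c = c) ∧ N = MulAut.conj c • M) ↔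
      ((∃ p : ℕ, p.Prime ∧ IsPGroup p G) ∧ ∀ L : Subgroup G, frattini G < L → (∀ a : A, ∀ x ∈ L, a • x ∈ L) → L = ⊤)) ∧
    (((∃ p : ℕ, p.Prime ∧ IsPGroup p G) ∧ ∀ L : Subgroup G, frattini G < L → (∀ a : A, ∀ x ∈ L, a • x ∈ L) → L = ⊤) →
      ∀ M : Subgroup G, (M ≠ ⊤ ∧ (∀ a : A, ∀ x ∈ M, a • x ∈ M) ∧ ∀ L : Subgroup G, M < L → (∀ a : A, ∀ x ∈ L, a • x ∈ L) → L = ⊤) ↔ (M = frattini G ∧ M ≠ ⊤)) := by
  classical
  refine ⟨⟨fun hconj => ?_, fun hR M N hM hN => ?_⟩, fun hR M => ⟨fun hM => ⟨eq_frattini hM hR.2, hM.1⟩, ?_⟩⟩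
  · have hp : ∃ p : ℕ, p.Prime ∧ IsPGroup p G := by
      by_cases htop : ∃ M : Subgroup G, MaxInv A M
      · obtain ⟨M, hM⟩ := htop
        by_contra hnp
        push Not at hnp
        refine hM.1 (Subgroup.eq_top_of_card_eq M (Nat.dvd_antisymm (Subgroup.card_subgroup_dvd_card M) ?_))
        rw [← Nat.factorization_prime_le_iff_dvd Nat.card_pos.ne' Nat.card_pos.ne']
        intro q hq
        have : Fact q.Prime := ⟨hq⟩
        obtain ⟨P, hP⟩ := CfsgLib.Coprime.exists_invariant_sylow_hom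
          (φ := MulDistribMulAction.toMulAut A G) hcop hsol q
        have hPne : (P : Subgroup G) ≠ ⊤ := fun e =>
          hnp q hq (IsPGroup.of_equiv (e ▸ P.isPGroup' : IsPGroup q (⊤ : Subgroup G)) Subgroup.topEquiv)
        obtain ⟨N, hPN, hN⟩ := exists_maxInv (A := A) hPne hP
        obtain ⟨c, -, rfl⟩ := hconj M N hM hN
        have hd := Subgroup.card_dvd_of_le hPN
        rw [CfsgLib.Coprime.card_conj_smul, P.card_eq_multiplicity] at hd
        exact (hq.pow_dvd_iff_le_factorization Nat.card_pos.ne').1 hd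
      · push Not at htop
        have h1 : (⊥ : Subgroup G) = ⊤ := by
          by_contra hne
          obtain ⟨M, -, hM⟩ := exists_maxInv (A := A) hne (fun a x hx => by
            rw [Subgroup.mem_bot] at hx; simp [hx])
          exact htop M hM
        exact ⟨2, Nat.prime_two, IsPGroup.of_equiv (h1 ▸ (IsPGroup.of_bot : IsPGroup 2 (⊥ : Subgroup G)))
          Subgroup.topEquiv⟩
    refine ⟨hp, fun L hL hinv => ?_⟩
    by_contra hne
    obtain ⟨p, hp', hG⟩ := hp
    have : Fact p.Prime := ⟨hp'⟩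
    obtain ⟨N, hN, hNinv, hNL⟩ := exists_compl hcop hG L hL hinv hne
    obtain ⟨M, hLM, hM⟩ := exists_maxInv (A := A) hne hinv
    obtain ⟨M', hNM', hM'⟩ := exists_maxInv (A := A) hN hNinv
    obtain ⟨c, -, hc⟩ := hconj M M' hM hM'
    have hMn : M.Normal := by
      refine ⟨fun x hx g => ?_⟩
      have hcm : ⁅g, x⁆ ∈ frattini G := CfsgLib.Solvable.commutator_le_frattini hG
        (Subgroup.commutator_mem_commutator (Subgroup.mem_top g) (Subgroup.mem_top x))
      have : g * x * g⁻¹ = ⁅g, x⁆ * x := by rw [commutatorElement_def]; group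
      rw [this]
      exact mul_mem (hLM (hL.le hcm)) hx
    rw [CfsgLib.Coprime.conj_smul_eq_self (Subgroup.le_normalizer_of_normal (K := (⊤ : Subgroup G)) (Subgroup.mem_top c))] at hc
    exact hM.1 (top_le_iff.1 (hNL ▸ sup_le (hc ▸ hNM') hLM))
  · refine ⟨1, fun a => smul_one a, ?_⟩
    rw [eq_frattini hM hR.2, eq_frattini hN hR.2, map_one, one_smul]
  · rintro ⟨rfl, hne⟩
    exact ⟨hne, fun a x hx => smul_mem_frattini a hx, hR.2⟩

end Cfsg.Agent.S4381
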