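import Cfsg.Statements.S4394
import Cfsg.Agent.FGS74.AdmissibleSylow
import Cfsg.Agent.MinimalNonNilpotent.Basic
import Cfsg.Agent.OddOrder.BG6Fusion

set_option autoImplicit false
open Cfsg

namespace Cfsg.Agent.S4394

open Subgroup CfsgLib.FGS74.Admissible
open scoped commutatorElement

/-- Transport of admissible automorphisms along an isomorphism. -/
def dataMap {p : ℕ} {P Q : Type*} [Group P] [Group Q] (e : P ≃* Q) (D : Data p P) : Data p Q :=
  have hc : (commutator P).map e.toMonoidHom = commutator Q := by
    rw [commutator_def, commutator_def, Subgroup.map_commutator,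
      map_top_of_surjective _ e.surjective]
  have hmem : ∀ x : P, e x ∈ commutator Q ↔ x ∈ commutator P := fun x => by
    rw [← hc]
    exact mem_map_iff_mem e.injective
  { β := MulAut.congr e D.β
    fixed_mem := fun x hx => by
      have h : D.β (e.symm x) = e.symm x := e.injective (by simpa using hx)
      simpa using (hmem _).2 (D.fixed_mem _ h)
    commutator_fixed := fun x hx => by
      have h := D.commutator_fixed (e.symm x) ((hmem _).1 (by simpa using hx))
      show e (D.β (e.symm x)) = x
      rw [h, e.apply_symm_apply]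
    irr := fun R hR hinv x hx => by
      have h := D.irr (R.comap e.toMonoidHom) (fun h => hR (by
        rw [← map_comap_eq_self_of_surjective (f := e.toMonoidHom) e.surjective R, h,
          map_top_of_surjective _ e.surjective])) (fun y hy => by
        have h1 : e (D.β (e.symm (e y))) ∈ R := hinv (e y) hy
        rwa [e.symm_apply_apply] at h1) (show e.symm x ∈ R.comap e.toMonoidHom by
        show e (e.symm x) ∈ R
        rwa [e.apply_symm_apply])
      simpa using (hmem _).2 h
    central := fun x hx => mem_center_iff.2 fun y => by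
      have h := mem_center_iff.1 (D.central ((hmem _).1 (by simpa using hx : e (e.symm x) ∈ _)))
        (e.symm y)
      apply e.symm.injective
      rw [map_mul, map_mul, h]
    ne_top := fun h => D.ne_top (eq_top_iff.2 fun x _ => (hmem x).1 (h ▸ mem_top _))
    q := D.q
    q_prime := D.q_prime
    q_ne := D.q_ne
    ord := by
      obtain ⟨k, hk⟩ := D.ord
      exact ⟨k, by rw [← map_pow, hk, map_one]⟩
    invol := fun h => by rw [← map_pow, D.invol h, map_one] }

/-- The normal Sylow subgroup of a minimal non-nilpotent group is admissible. -/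
theorem schmidt_data {X : Type*} [Group X] [Finite X] (p : ℕ) [hp : Fact p.Prime]
    (hX : Cfsg.IsMinimalNonNilpotent X) (P : Sylow p X) (hPn : (P : Subgroup X).Normal)
    (hP1 : (P : Subgroup X) ≠ ⊥) : Nonempty (Data p (P : Subgroup X)) := by
  haveI := hPn
  obtain ⟨r, s, hr, hs, hrs, R, S, hRc, hSn, hRS, hnc⟩ :=
    CfsgLib.MinimalNonNilpotent.structure_theorem hX
  haveI := Fact.mk hr
  haveI := Fact.mk hs
  -- the normal Sylow subgroup of Schmidt's theorem is `P`
  have hdisj : ∀ {a b : ℕ} [Fact a.Prime] [Fact b.Prime], a ≠ b → ∀ A B : Subgroup X,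
      IsPGroup a A → IsPGroup b B → Disjoint A B := fun h A B hA hB =>
    IsPGroup.disjoint_of_ne _ _ h A B hA hB
  obtain rfl : s = p := by
    by_contra hsp
    have hrp : r = p := by
      by_contra hrp
      refine hP1 (eq_bot_iff.2 fun x hx => ?_)
      have h1 : Nat.card (P : Subgroup X) ∣ Nat.card (R : Subgroup X) * Nat.card (S : Subgroup X) := by
        haveI := hSn
        rw [← CfsgLib.Solvable.card_sup_of_disjoint (S : Subgroup X) R (hdisj hrs _ _ R.2 S.2), hRS,
          card_top]
        exact card_subgroup_dvd_card _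
      have h2 : (Nat.card (P : Subgroup X)).Coprime
          (Nat.card (R : Subgroup X) * Nat.card (S : Subgroup X)) := by
        obtain ⟨a, ha⟩ := P.2.exists_card_eq
        obtain ⟨b, hb⟩ := R.2.exists_card_eq
        obtain ⟨c, hc⟩ := S.2.exists_card_eq
        rw [ha, hb, hc]
        exact Nat.Coprime.mul_right (Nat.Coprime.pow _ _ ((Nat.coprime_primes hp.out hr).2 (Ne.symm hrp)))
          (Nat.Coprime.pow _ _ ((Nat.coprime_primes hp.out hs).2 (Ne.symm hsp)))
      rw [card_eq_one.1 (h2.eq_one_of_dvd h1)] at hx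
      exact hx
    subst hrp
    haveI := P.unique_of_normal hPn
    obtain rfl : R = P := Subsingleton.elim _ _
    exact hnc fun x hx => mem_centralizer_iff.2 fun y hy =>
      ((commute_of_normal_of_disjoint (R : Subgroup X) S hPn hSn (hdisj hrs _ _ R.2 S.2) x y hx hy).eq).symm
  haveI := S.unique_of_normal hSn
  obtain rfl : S = P := Subsingleton.elim _ _
  have hRP : (S : Subgroup X) ⊓ (R : Subgroup X) = ⊥ := disjoint_iff.1 (hdisj (Ne.symm hrs) _ _ S.2 R.2)
  have hcop : (Nat.card (R : Subgroup X)).Coprime (Nat.card (S : Subgroup X)) := by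
    obtain ⟨b, hb⟩ := R.2.exists_card_eq
    obtain ⟨c, hc⟩ := S.2.exists_card_eq
    rw [hb, hc]
    exact Nat.Coprime.pow _ _ ((Nat.coprime_primes hr hp.out).2 hrs)
  have hcardX : Nat.card X = Nat.card (S : Subgroup X) * Nat.card (R : Subgroup X) := by
    rw [← CfsgLib.Coprime.card_sup_eq le_normalizer_of_normal hRP, sup_comm, hRS, card_top]
  -- proper invariant subgroups are centralized
  have hfix : ∀ H : Subgroup X, H < S → (R : Subgroup X) ≤ normalizer (H : Set X) →
      (R : Subgroup X) ≤ centralizer (H : Set X) := by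
    intro H hH hn
    refine CfsgLib.MinimalNonNilpotent.commute_of_isNilpotent (H := H ⊔ R) hrs (hX.2 _ ?_)
      le_sup_right le_sup_left R.2 (S.2.to_le hH.le)
    intro htop
    have hd : H ⊓ (R : Subgroup X) = ⊥ := le_bot_iff.1 (hRP ▸ inf_le_inf_right _ hH.le)
    have h := CfsgLib.Coprime.card_sup_eq hn hd
    rw [htop, card_top, hcardX] at h
    exact hH.ne (eq_of_le_of_card_ge hH.le (Nat.eq_of_mul_eq_mul_right Nat.card_pos h).le)
  -- `[P,R] = P`
  have hPR : ⁅(S : Subgroup X), (R : Subgroup X)⁆ = S := by
    by_contra hne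
    refine hnc (CfsgLib.Coprime.le_centralizer_of_commutator_commutator_eq_bot
      le_normalizer_of_normal hcop ?_)
    rw [commutator_eq_bot_iff_le_centralizer, le_centralizer_iff]
    exact hfix _ (lt_of_le_of_ne (CfsgLib.Coprime.commutator_le_of_le_normalizer
      le_normalizer_of_normal) hne) (normalizer_commutator_ge_right _ _)
  -- the derived subgroup
  set D := (commutator (S : Subgroup X)).map (S : Subgroup X).subtype with hD
  haveI : D.Normal := CfsgLib.PLocal.normal_map_subtype _ _
  haveI : Nontrivial (S : Subgroup X) := nontrivial_iff_ne_bot _ |>.2 hP1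
  haveI := S.2.isNilpotent
  have hDlt : commutator (S : Subgroup X) < ⊤ :=
    Group.IsSolvable.commutator_lt_top_of_nontrivial _
  have hDS : D < S := by
    refine lt_of_le_of_ne (map_subtype_le _) fun e => hDlt.ne ?_
    refine eq_top_iff.2 fun x _ => ?_
    exact (mem_map_iff_mem (S : Subgroup X).subtype_injective).1 (e.symm.le x.2)
  have hDc : (R : Subgroup X) ≤ centralizer (D : Set X) := hfix D hDS le_normalizer_of_normal
  have hcentral : ⁅(S : Subgroup X), D⁆ = ⊥ := by
    rw [← hPR]
    refine commutator_commutator_eq_bot_of_rotate ?_ ?_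
    · rw [(commutator_eq_bot_iff_le_centralizer.2 hDc : ⁅(R : Subgroup X), D⁆ = ⊥), commutator_bot_left]
    · rw [eq_bot_iff]
      refine (commutator_mono (commutator_le_left D (S : Subgroup X)) le_rfl).trans ?_
      rw [commutator_comm, commutator_eq_bot_iff_le_centralizer.2 hDc]
  -- a generator of `R`
  obtain ⟨⟨y, hy⟩, hgen⟩ := IsCyclic.exists_generator (α := (R : Subgroup X))
  have hRy : (R : Subgroup X) = zpowers y := by
    refine le_antisymm (fun x hx => ?_) (zpowers_le.2 hy)
    obtain ⟨i, hi⟩ := hgen ⟨x, hx⟩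
    exact ⟨i, congrArg Subtype.val hi⟩
  set β : MulAut (S : Subgroup X) := MulAut.conjNormal y with hβ
  have hβc : ∀ x : (S : Subgroup X), β x = x ↔ (R : Subgroup X) ≤ centralizer {(x : X)} := by
    intro x
    rw [hRy, zpowers_le, mem_centralizer_singleton_iff, Subtype.ext_iff, hβ,
      MulAut.conjNormal_apply, mul_inv_eq_iff_eq_mul]
  have hfixed : ∀ x : (S : Subgroup X), β x = x → x ∈ commutator (S : Subgroup X) := by
    intro x hx
    set f := QuotientGroup.mk' D with hf
    haveI : IsMulCommutative ((S : Subgroup X).map f) := by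
      constructor
      constructor
      rintro ⟨_, a, ha, rfl⟩ ⟨_, b, hb, rfl⟩
      apply Subtype.ext
      show f a * f b = f b * f a
      rw [← commutatorElement_eq_one_iff_mul_comm, ← map_commutatorElement]
      refine (QuotientGroup.eq_one_iff _).2 ?_
      rw [hD, map_subtype_commutator]
      exact commutator_mem_commutator ha hb
    haveI : ((S : Subgroup X).map f).Normal :=
      hPn.map f (QuotientGroup.mk'_surjective D)
    have h := CfsgLib.Coprime.inf_centralizer_inf_commutator_eq_bot (V := (S : Subgroup X).map f)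
      (A := (R : Subgroup X).map f) le_normalizer_of_normal
      ((hcop.coprime_dvd_left (card_map_dvd (R : Subgroup X) f)).coprime_dvd_right
        (card_map_dvd (S : Subgroup X) f))
    rw [← map_commutator, hPR] at h
    have hxc : f x ∈ centralizer (((R : Subgroup X).map f : Subgroup (X ⧸ D)) : Set (X ⧸ D)) := by
      rintro _ ⟨a, ha, rfl⟩
      rw [← map_mul, ← map_mul, mem_centralizer_singleton_iff.1 ((hβc x).1 hx ha)]
    have h1 : f x = 1 := by
      rw [← mem_bot, ← h]
      exact ⟨⟨mem_map_of_mem f x.2, hxc⟩, mem_map_of_mem f x.2⟩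
    exact (mem_map_iff_mem (S : Subgroup X).subtype_injective).1 ((QuotientGroup.eq_one_iff _).1 h1)
  obtain ⟨k, hk⟩ := R.2 ⟨y, hy⟩
  have hyk : y ^ r ^ k = 1 := congrArg Subtype.val hk
  refine ⟨{
    β := β
    fixed_mem := hfixed
    commutator_fixed := fun x hx => (hβc x).2 fun a ha => by
      rw [mem_centralizer_singleton_iff]
      exact ((hDc ha) x (mem_map_of_mem _ hx)).symm
    irr := ?_
    central := fun x hx => mem_center_iff.2 fun z => Subtype.ext
      (commutatorElement_eq_one_iff_mul_comm.1 (mem_bot.1 (hcentral ▸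
        commutator_mem_commutator z.2 (mem_map_of_mem _ hx))))
    ne_top := hDlt.ne
    q := r
    q_prime := hr
    q_ne := hrs
    ord := ⟨k, by rw [hβ, ← map_pow, hyk, map_one]⟩
    invol := ?_ }⟩
  · intro T hT hinv x hx
    set H := T.map (S : Subgroup X).subtype with hH
    have hHS : H < S := by
      refine lt_of_le_of_ne (map_subtype_le _) fun e => hT (eq_top_iff.2 fun z _ => ?_)
      exact (mem_map_iff_mem (S : Subgroup X).subtype_injective).1 (e.symm.le z.2)
    have hyH : y ∈ normalizer (H : Set X) := by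
      have hsub : T.map β.toMonoidHom ≤ T := by
        rintro _ ⟨z, hz, rfl⟩
        exact hinv z hz
      have heq : T.map β.toMonoidHom = T :=
        eq_of_le_of_card_ge hsub (card_map_of_injective β.injective).ge
      rw [mem_normalizer_iff]
      intro z
      constructor
      · rintro ⟨z, hz, rfl⟩
        exact ⟨β z, hinv z hz, MulAut.conjNormal_apply y z⟩
      · rintro ⟨w, hw, e⟩
        obtain ⟨z', hz', rfl⟩ := heq.ge hw
        refine ⟨z', hz', ?_⟩
        have e' : y * (z' : X) * y⁻¹ = y * z * y⁻¹ := (MulAut.conjNormal_apply y z').symm.trans e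
        exact mul_left_cancel (mul_right_cancel e')
    have hcen := hfix H hHS (hRy ▸ zpowers_le.2 hyH)
    exact hfixed x ((hβc x).2 fun a ha => mem_centralizer_singleton_iff.2
      ((hcen ha) x (mem_map_of_mem _ hx)).symm)
  · rintro rfl
    have hlt : zpowers (y ^ 2) ⊔ (S : Subgroup X) ≠ ⊤ := by
      intro htop
      have hle : zpowers (y ^ 2) ≤ (R : Subgroup X) := zpowers_le.2 (pow_mem hy 2)
      have hd : (S : Subgroup X) ⊓ zpowers (y ^ 2) = ⊥ := le_bot_iff.1 (hRP ▸ inf_le_inf_left _ hle)
      have h := CfsgLib.Coprime.card_sup_eq (le_normalizer_of_normal : zpowers (y ^ 2) ≤ normalizer ((S : Subgroup X) : Set X)) hd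
      rw [sup_comm, htop, card_top, hcardX] at h
      have h1 : orderOf y = orderOf (y ^ 2) := by
        have := Nat.eq_of_mul_eq_mul_left Nat.card_pos h
        rwa [Nat.card_zpowers, hRy, Nat.card_zpowers] at this
      have h2 : 2 ∣ orderOf y := by
        obtain ⟨j, -, hj⟩ := (Nat.dvd_prime_pow Nat.prime_two).1 (orderOf_dvd_of_pow_eq_one hyk)
        rcases j.eq_zero_or_pos with rfl | hj0
        · refine absurd ?_ hnc
          rw [hRy, orderOf_eq_one_iff.1 (hj.trans (pow_zero 2)), zpowers_one_eq_bot]
          exact bot_le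
        · rw [hj]; exact dvd_pow_self 2 hj0.ne'
      rw [orderOf_pow' y two_ne_zero, Nat.gcd_eq_right h2] at h1
      have := orderOf_pos y
      omega
    have hc := CfsgLib.MinimalNonNilpotent.commute_of_isNilpotent hrs (hX.2 _ hlt) le_sup_left
      le_sup_right (R.2.to_le (zpowers_le.2 (pow_mem hy 2))) S.2 (mem_zpowers (y ^ 2))
    refine MulEquiv.ext fun x => Subtype.ext ?_
    rw [hβ, ← map_pow, MulAut.conjNormal_apply, ← mem_centralizer_iff.1 hc x x.2,
      mul_inv_cancel_right, MulAut.one_apply]

/-- Let X be a finite minimal non-nilpotent group (not nilpotent, every proper subgroup nilpotent) with a nontrivial normal Sylow p-subgroup P. If G is a finite p-solvable group whose Sylow p-subgroups are isomorphic to P, then G has p-length at most 1. -/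
theorem result {G X : Type*} [Group G] [Finite G] [Group X] [Finite X] (p : ℕ) [Fact p.Prime]
    (hX : Cfsg.IsMinimalNonNilpotent X) (P : Sylow p X) (hPn : (P : Subgroup X).Normal) (hP1 : (P : Subgroup X) ≠ ⊥)
    (hG : Cfsg.IsPSolvable p G) (Q : Sylow p G) (hQ : Nonempty (↥(Q : Subgroup G) ≃* ↥(P : Subgroup X))) : Cfsg.PLengthLE p 1 G := by
  obtain ⟨e⟩ := hQ
  obtain ⟨D⟩ := schmidt_data p hX P hPn hP1
  set N := Cfsg.pPrimeCore p G
  set f := QuotientGroup.mk' N with hf
  have hfs : Function.Surjective f := QuotientGroup.mk'_surjective N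
  have hd : (Q : Subgroup G) ⊓ N = ⊥ :=
    (CfsgLib.PLocal.disjoint_of_isPGroup_of_coprime Q.2 (CfsgLib.PLocal.coprime_card_pPrimeCore p G))
  have hinj : Function.Injective (f.subgroupMap (Q : Subgroup G)) := by
    rw [← MonoidHom.ker_eq_bot_iff, eq_bot_iff]
    intro x hx
    rw [MonoidHom.mem_ker, Subtype.ext_iff] at hx
    have hxN : (x : G) ∈ (Q : Subgroup G) ⊓ N := ⟨x.2, (QuotientGroup.eq_one_iff _).1 hx⟩
    rw [hd, mem_bot] at hxN
    exact Subtype.ext hxN
  let i : (Q : Subgroup G) ≃* ((Q.mapSurjective hfs : Sylow p (G ⧸ N)) : Subgroup (G ⧸ N)) :=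
    (MulEquiv.ofBijective _ ⟨hinj, f.subgroupMap_surjective _⟩).trans
      (MulEquiv.subgroupCongr (Sylow.coe_mapSurjective hfs Q).symm)
  have hle := sylow_le_pCore (CfsgLib.PLocal.isPSolvable_quotient hG N)
    (CfsgLib.PLocal.pPrimeCore_quotient_pPrimeCore_eq_bot p G) (Q.mapSurjective hfs)
    (dataMap i (dataMap e.symm D))
  have hQle : (Q : Subgroup G) ≤ Cfsg.pPrimePCore p G := fun x hx =>
    hle (by rw [Sylow.coe_mapSurjective]; exact mem_map_of_mem f hx)
  show (Cfsg.upperPSeries p G 3).1 = ⊤
  rw [CfsgLib.OddOrder.upperPSeries_three]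
  have hcop : (Nat.card (⊤ : Subgroup (G ⧸ Cfsg.pPrimePCore p G))).Coprime p := by
    rw [card_top, ← index_eq_card]
    exact Nat.Coprime.coprime_dvd_left (index_dvd_of_le hQle)
      ((Nat.Prime.coprime_iff_not_dvd Fact.out).2 Q.not_dvd_index).symm
  rw [top_le_iff.1 (CfsgLib.PLocal.le_pPrimeCore hcop), comap_top]

end Cfsg.Agent.S4394
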