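import Cfsg.Statements.S4396
import Cfsg.Agent.FGS74.FrobeniusFree
import Cfsg.Agent.Solvable.FrobeniusBasic
import Cfsg.Agent.LocalEven50.Basic
import Cfsg.Agent.PLocal.Cores

set_option autoImplicit false
open Cfsg

namespace Cfsg.Agent.S4396

open CfsgLib.FGS74 Module

/-- In a nilpotent normal subgroup without fixed vectors the part prime to the characteristic is
normal and has no fixed vectors either. -/
theorem exists_prime_to_char {k V A : Type*} [Field k] [AddCommGroup V] [Module k V] [Group A]
    [Finite A] (ρ : Representation k A V) (N : Subgroup A) [N.Normal] (hnil : Group.IsNilpotent N)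
    (hfix : FrobFree.fixedSub ρ N = ⊥) :
    ∃ F : Subgroup A, F ≤ N ∧ F.Normal ∧ (Nat.card F : k) ≠ 0 ∧
      FrobFree.fixedSub ρ F = ⊥ := by
  classical
  obtain ⟨p, hp⟩ := CharP.exists k
  rcases CharP.char_is_prime_or_zero k p with hpp | hp0
  · haveI : Fact p.Prime := ⟨hpp⟩
    let C : Subgroup N := Cfsg.pPrimeCore p N
    haveI : C.Characteristic := CfsgLib.PLocal.pPrimeCoreCharacteristic p N
    refine ⟨C.map N.subtype, Subgroup.map_subtype_le C, inferInstance, ?_, ?_⟩
    · rw [Ne, CharP.cast_eq_zero_iff k p, Subgroup.card_map_of_injective N.subtype_injective]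
      exact (hpp.coprime_iff_not_dvd).1 (CfsgLib.LocalEven50.pPrimeCore_coprime p).symm
    · have hQ : IsPGroup p (N ⧸ C) := by
        refine IsPGroup.of_card (n := (Nat.card (N ⧸ C)).primeFactorsList.length) ?_
        refine Nat.eq_prime_pow_of_unique_prime_dvd Nat.card_pos.ne' fun {q} hq hdvd => ?_
        by_contra hqp
        haveI : Fact q.Prime := ⟨hq⟩
        obtain ⟨Q⟩ : Nonempty (Sylow q N) := inferInstance
        haveI := hnil
        haveI : (Q : Subgroup N).Normal :=
          Q.normal_of_normalizerCondition Group.normalizerCondition_of_isNilpotent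
        obtain ⟨e, he⟩ := Q.2.exists_card_eq
        have hle : (Q : Subgroup N) ≤ C := CfsgLib.LocalEven50.le_pPrimeCore inferInstance
          (he ▸ ((Nat.coprime_primes hq hpp).2 hqp).pow_left e)
        exact Q.not_dvd_index ((C.index_eq_card ▸ hdvd).trans (Subgroup.index_dvd_of_le hle))
      by_contra hne
      obtain ⟨v, hv, hv0⟩ := (Submodule.ne_bot_iff _).1 hne
      have hU : ∀ a, ∀ x ∈ FrobFree.fixedSub ρ (C.map N.subtype),
          ρ a x ∈ FrobFree.fixedSub ρ (C.map N.subtype) :=
        fun a x hx => FrobFree.fixedSub_invariant ρ _ a hx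
      let σ := (FrobFree.subRep ρ _ hU).comp N.subtype
      have hker : C ≤ MonoidHom.ker σ := fun c hc => by
        rw [MonoidHom.mem_ker]
        exact LinearMap.ext fun x => Subtype.ext (x.2 c ⟨c, hc, rfl⟩)
      obtain ⟨w, hw0, hw⟩ := CfsgLib.FgsSix.exists_ne_zero_fixed hQ
        (QuotientGroup.lift C σ hker) (v := ⟨v, hv⟩) (fun e => hv0 (congrArg Subtype.val e))
      refine hw0 (Subtype.ext ((Submodule.mem_bot k).1 (hfix ▸ fun a ha => ?_)))
      exact congrArg Subtype.val (hw (QuotientGroup.mk ⟨a, ha⟩))
  · subst hp0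
    haveI := CharP.charP_to_charZero k
    exact ⟨N, le_rfl, inferInstance, Nat.cast_ne_zero.2 Nat.card_pos.ne', hfix⟩

/-- Let the finite group A act faithfully and linearly on a finite-dimensional vector space V over a field k, and suppose A is a Frobenius group with nilpotent kernel F (every Frobenius kernel is nilpotent) and complement H such that F fixes no nonzero vector. Then V is free as a module for H: there is a subspace W with V the direct sum of the translates hW, h ∈ H. (No assumption on the characteristic of k.) -/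
theorem result {k V A : Type*} [Field k] [AddCommGroup V] [Module k V] [FiniteDimensional k V] [Group A] [Finite A] [DecidableEq A]
    (ρ : Representation k A V) (hρ : Function.Injective ρ)
    (Fk Hc : Subgroup A) [Fk.Normal] (hHc : Cfsg.IsFrobeniusComplement Hc) (hker : Cfsg.frobeniusKernel Hc = (Fk : Set A)) (hnil : Group.IsNilpotent ↥Fk)
    (hCF : ∀ v : V, (∀ f ∈ Fk, ρ f v = v) → v = 0) :
    ∃ W : Submodule k V, DirectSum.IsInternal (fun h : ↥Hc => W.map (ρ (h : A))) := by
  classical
  letI := Fintype.ofFinite Hc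
  have hN : Fk.Normal := inferInstance
  have hmem : ∀ x ∈ Fk, x ∈ Hc → x = 1 := fun x hx hxH => by
    have h1 : x ∈ Cfsg.frobeniusKernel Hc := hker ▸ hx
    rcases (CfsgLib.FrobComp.mem_kernel_iff Hc x).1 h1 with h2 | h2
    · exact h2
    · exact absurd (by simpa using hxH) (h2 1)
  have hfpf : ∀ h ∈ Hc, h ≠ 1 → ∀ x ∈ Fk, h * x = x * h → x = 1 := fun h hh h1 x hx hc =>
    hmem x hx (CfsgLib.FrobComp.centralizer_le hHc hh h1
      (Subgroup.mem_centralizer_singleton_iff.2 hc.symm))
  have hcompl : Subgroup.IsComplement' Fk Hc := by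
    refine Subgroup.isComplement'_of_card_mul_and_disjoint ?_
      (Subgroup.disjoint_def.2 fun hx hxH => hmem _ hx hxH)
    rw [show Nat.card Fk = (Fk : Set A).ncard from (Nat.card_coe_set_eq _), ← hker,
      CfsgLib.Solvable.ncard_kernel_eq hHc, Subgroup.index_mul_card]
  let π : A →* Hc :=
    hcompl.symm.QuotientMulEquiv.toMonoidHom.comp (QuotientGroup.mk' Fk)
  have hπH : ∀ h : Hc, π h = h := fun h =>
    hcompl.symm.QuotientMulEquiv.apply_symm_apply h
  have hπF : ∀ x ∈ Fk, π x = 1 := fun x hx => by
    show hcompl.symm.QuotientMulEquiv (QuotientGroup.mk x) = 1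
    rw [(QuotientGroup.eq_one_iff x).2 hx, map_one]
  have hfixFk : FrobFree.fixedSub ρ Fk = ⊥ := by
    rw [Submodule.eq_bot_iff]
    exact hCF
  obtain ⟨F, hFle, hFnorm, hFcard, hFfix⟩ := exists_prime_to_char ρ Fk hnil hfixFk
  haveI := hFnorm
  haveI : Group.IsNilpotent Fk := hnil
  haveI : Group.IsSolvable F :=
    Group.isSolvable_of_isSolvable_injective (Subgroup.inclusion_injective hFle)
  have hfpfF : ∀ h ∈ Hc, h ≠ 1 → ∀ x ∈ F, h * x = x * h → x = 1 :=
    fun h hh h1 x hx => hfpf h hh h1 x (hFle hx)
  set n := finrank k (FrobFree.fixedSub ρ Hc) with hn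
  have hV : Nat.card Hc * n = finrank k V :=
    FrobFree.card_mul_finrank_fixed Hc F hfpfF hFcard ρ hFfix
  let ρH : Representation k Hc V := ρ.comp Hc.subtype
  have hpos : 0 < Nat.card Hc := Nat.card_pos
  obtain ⟨v, hv⟩ := FrobFree.exists_generators ρH n (fun S _ _ _ σ => by
    have hfixS : FrobFree.fixedSub (Representation.linHom ρ (σ.comp π)) F = ⊥ := by
      refine FrobFree.fixedSub_eq_bot _ hFcard ?_
      refine LinearMap.ext fun f => LinearMap.ext fun x => ?_
      letI := Fintype.ofFinite F
      have h0 : ∑ a : F, ρ ((a : A)⁻¹) x = 0 := by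
        have h1 := FrobFree.avg_eq_zero ρ hFfix
        simp only [FrobFree.avg, smul_eq_zero, inv_eq_zero, hFcard, false_or] at h1
        have h2 : ∑ a : F, ρ (a : A) x = 0 := by
          simpa using LinearMap.congr_fun h1 x
        rw [← h2]
        exact Fintype.sum_equiv (Equiv.inv F) _ _ (fun a => rfl)
      simp only [FrobFree.avg, LinearMap.smul_apply, LinearMap.coe_sum, Finset.sum_apply,
        Representation.linHom_apply, LinearMap.comp_apply, MonoidHom.comp_apply,
        LinearMap.zero_apply]
      have h3 : ∀ a : F, π (a : A) = 1 := fun a => hπF a (hFle a.2)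
      simp only [h3, map_one, Module.End.one_apply, ← map_sum, h0, map_zero, smul_zero]
    have h4 := FrobFree.card_mul_finrank_fixed Hc F hfpfF hFcard _ hfixS
    have h5 : FrobFree.fixedSub (Representation.linHom ρ (σ.comp π)) Hc
        = (Representation.linHom ρH σ).invariants := by
      ext f
      simp only [FrobFree.mem_fixedSub, Representation.mem_invariants, Representation.linHom_apply,
        MonoidHom.comp_apply]
      constructor
      · intro hf h
        have := hf h h.2
        rw [hπH] at this
        exact this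
      · intro hf a ha
        have := hf ⟨a, ha⟩
        rw [show π a = ⟨a, ha⟩ from hπH ⟨a, ha⟩]
        exact this
    rw [h5, Module.finrank_linearMap, ← hV, mul_assoc] at h4
    exact Nat.eq_of_mul_eq_mul_left hpos h4)
  let b : Hc × Fin n → V := fun p => ρ (p.1 : A) (v p.2)
  have hspan : ⊤ ≤ Submodule.span k (Set.range b) := hv.ge
  have hli : LinearIndependent k b := by
    refine linearIndependent_of_top_le_span_of_card_eq_finrank hspan ?_
    rw [Fintype.card_prod, Fintype.card_fin, ← Nat.card_eq_fintype_card, hV]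
  refine ⟨Submodule.span k (Set.range v), ?_⟩
  have hW : ∀ h : Hc, (Submodule.span k (Set.range v)).map (ρ (h : A))
      = Submodule.span k (b '' {p | p.1 = h}) := by
    intro h
    rw [Submodule.map_span]
    congr 1
    ext x
    simp only [Set.mem_image, Set.mem_range, Set.mem_setOf_eq, b]
    constructor
    · rintro ⟨_, ⟨i, rfl⟩, rfl⟩
      exact ⟨(h, i), rfl, rfl⟩
    · rintro ⟨⟨g, i⟩, rfl, rfl⟩
      exact ⟨v i, ⟨i, rfl⟩, rfl⟩
  rw [DirectSum.isInternal_submodule_iff_iSupIndep_and_iSup_eq_top]
  refine ⟨fun h => ?_, eq_top_iff.2 (hspan.trans (Submodule.span_le.2 ?_))⟩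
  · simp only [hW]
    refine (hli.disjoint_span_image (s := {p | p.1 = h}) (t := {p | p.1 ≠ h})
      (Set.disjoint_left.2 fun p hp hp' => hp' hp)).mono_right ?_
    refine iSup₂_le fun g hg => ?_
    exact Submodule.span_mono (Set.image_mono fun p (hp : p.1 = g) => by
      show p.1 ≠ h
      rw [hp]; exact hg)
  · rintro _ ⟨p, rfl⟩
    refine Submodule.mem_iSup_of_mem p.1 ?_
    exact Submodule.mem_map_of_mem (Submodule.subset_span ⟨p.2, rfl⟩)

end Cfsg.Agent.S4396
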