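import Cfsg.Statements.S4398
import Cfsg.Agent.FGS74.SectionalTwo
import Cfsg.Agent.S4399
-- import your own Cfsg.Agent.* helpers here

set_option autoImplicit false
open Cfsg

namespace Cfsg.Agent.S4398

/-- Let S be a finite 2-group of sectional 2-rank at most 2 that contains a subgroup isomorphic to the dihedral group of order 8 or to the quaternion group of order 8. Then S is dihedral of order at least 8, semidihedral of order at least 16 (order 2^(k+4) with an element a of order 2^(k+3) and an involution b with b a b⁻¹ = a^(2^(k+2)−1)), or generalized quaternion of order at least 8. -/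
theorem result {S : Type*} [Group S] [Finite S] (h2 : IsPGroup 2 S) (hr : Cfsg.SectionalPRankLE 2 2 S)
    (hsub : ∃ H : Subgroup S, Nonempty (↥H ≃* DihedralGroup 4) ∨ Nonempty (↥H ≃* QuaternionGroup 2)) :
    ((∃ k : ℕ, Nonempty (S ≃* DihedralGroup (2 ^ (k + 2)))) ∨
      (∃ k : ℕ, Nat.card S = 2 ^ (k + 4) ∧ ∃ a b : S, orderOf a = 2 ^ (k + 3) ∧ orderOf b = 2 ∧ b * a * b⁻¹ = a ^ (2 ^ (k + 2) - 1)) ∨
      (∃ k : ℕ, Nonempty (S ≃* QuaternionGroup (2 ^ (k + 1))))) := by
  have : Fact (Nat.Prime 2) := ⟨Nat.prime_two⟩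
  obtain ⟨n, hn⟩ := IsPGroup.iff_card.1 h2
  obtain ⟨H, hH⟩ := hsub
  have h8 : Nat.card H = 8 ∧ ¬ IsMulCommutative ↥H := by
    rcases hH with ⟨⟨e⟩⟩ | ⟨⟨e⟩⟩
    · refine ⟨by rw [Nat.card_congr e.toEquiv, DihedralGroup.nat_card], fun h => ?_⟩
      have := congrArg e (h.is_comm.comm (e.symm (.r 1)) (e.symm (.sr 0)))
      simp at this
      exact absurd this (by decide)
    · refine ⟨by rw [Nat.card_congr e.toEquiv, Nat.card_eq_fintype_card, QuaternionGroup.card], fun h => ?_⟩
      have := congrArg e (h.is_comm.comm (e.symm (.a 1)) (e.symm (.xa 0)))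
      simp at this
      exact absurd this (by decide)
  have h3 : 3 ≤ n := by
    have := Subgroup.card_subgroup_dvd_card H
    rw [h8.1, hn, show 8 = 2 ^ 3 by norm_num] at this
    exact (Nat.pow_dvd_pow_iff_le_right (by norm_num)).1 this
  exact Cfsg.Agent.S4399.shape_of_index_four h3 hn
    (CfsgLib.FGS74.index_commutator_of_nonabelian_eight h2 hr ⟨H, h8⟩)

end Cfsg.Agent.S4398
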