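import Cfsg.Statements.S4402
import Cfsg.Agent.FGS74.WreathEightSylow

set_option autoImplicit false
open Cfsg

namespace Cfsg.Agent.S4402

/-- Let S be a finite 2-group of sectional 2-rank at most 4 and P a proper subgroup isomorphic to the wreath product of the dihedral group of order 8 by a group of order 2 (equivalently, to a Sylow 2-subgroup of the symmetric group of degree 8; order 128). Then Z(S) = Z(P) has order 2, P has index 2 in its normalizer N_S(P), N_S(P)/Z(S) is again isomorphic to that wreath product, and every elementary abelian subgroup V of order 16 that is normal in P satisfies N_S(V) = P. -/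
theorem result {S : Type*} [Group S] [Finite S] (h2 : IsPGroup 2 S) (hr : Cfsg.SectionalPRankLE 2 4 S)
    (P : Subgroup S) (hPlt : P ≠ ⊤) (hP : ∃ T : Sylow 2 (Equiv.Perm (Fin 8)), Nonempty (↥P ≃* ↥(T : Subgroup (Equiv.Perm (Fin 8))))) :
    Subgroup.center S = (Subgroup.center ↥P).map P.subtype ∧ Nat.card ↥(Subgroup.center S) = 2 ∧
    P.relIndex (Subgroup.normalizer (P : Set S)) = 2 ∧
    (∃ (_ : ((Subgroup.center S).subgroupOf (Subgroup.normalizer (P : Set S))).Normal) (T : Sylow 2 (Equiv.Perm (Fin 8))),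
      Nonempty (↥(Subgroup.normalizer (P : Set S)) ⧸ (Subgroup.center S).subgroupOf (Subgroup.normalizer (P : Set S)) ≃*
        ↥(T : Subgroup (Equiv.Perm (Fin 8))))) ∧
    ∀ V : Subgroup S, V ≤ P → (∀ g ∈ P, ∀ v ∈ V, g * v * g⁻¹ ∈ V) → Cfsg.IsElementaryAbelian 2 V → Nat.card ↥V = 16 →
      Subgroup.normalizer (V : Set S) = P := by
  haveI : Fact (Nat.Prime 2) := ⟨Nat.prime_two⟩
  obtain ⟨T, ⟨e⟩⟩ := hP
  obtain ⟨e'⟩ := CfsgLib.FGS74.W8.nonempty_equiv_sylow T
  let f : CfsgLib.FGS74.W8.W →* S := P.subtype.comp (e'.trans e.symm).toMonoidHom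
  have hf : Function.Injective f := P.subtype_injective.comp (e'.trans e.symm).injective
  have hfr : f.range = P := by
    ext x
    constructor
    · rintro ⟨v, rfl⟩
      exact ((e'.trans e.symm) v).2
    · intro hx
      obtain ⟨v, hv⟩ := (e'.trans e.symm).surjective ⟨x, hx⟩
      exact ⟨v, congrArg Subtype.val hv⟩
  clear_value f
  subst hfr
  have hne : f.range ≠ ⊤ := hPlt
  obtain ⟨hcS, hc2⟩ := CfsgLib.FGS74.W8.center_eq h2 hr hf
  refine ⟨?_, hc2, CfsgLib.FGS74.W8.relIndex_normalizer h2 hr hf hne, ?_, ?_⟩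
  · refine le_antisymm (fun z hz => ?_) ?_
    · have hzP : z ∈ f.range := by
        rw [hcS] at hz
        obtain ⟨v, -, rfl⟩ := hz
        exact ⟨v, rfl⟩
      exact ⟨⟨z, hzP⟩, Subgroup.mem_center_iff.2 fun x => Subtype.ext (Subgroup.mem_center_iff.1 hz x), rfl⟩
    · rintro _ ⟨⟨_, v, rfl⟩, hv, rfl⟩
      rw [hcS]
      refine ⟨v, ?_, rfl⟩
      have hc : ∀ u, v * u = u * v := fun u => hf (by
        rw [map_mul, map_mul]
        exact (congrArg Subtype.val (Subgroup.mem_center_iff.1 hv ⟨f u, u, rfl⟩)).symm)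
      rcases CfsgLib.FGS74.W8.center_cases v (hc _) (hc _) (hc _) with h | h
      · rw [h]; exact one_mem _
      · rw [h]; exact Subgroup.mem_zpowers _
  · obtain ⟨hn, ⟨eq⟩⟩ := CfsgLib.FGS74.W8.quotient_equiv h2 hr hf hne
    exact ⟨hn, T, ⟨eq.trans e'⟩⟩
  intro V hVP hVn hVE hV16
  have hVe : ∀ v ∈ V, v * v = 1 := fun v hv => by rw [← pow_two]; exact hVE.2 v hv
  have hVc : ∀ v ∈ V, ∀ w ∈ V, v * w = w * v := fun v hv w hw =>
    congrArg Subtype.val (hVE.1.is_comm.comm (⟨v, hv⟩ : V) ⟨w, hw⟩)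
  haveI hn : (V.comap f).Normal := ⟨fun v hv g => by
    rw [Subgroup.mem_comap, map_mul, map_mul, map_inv]
    exact hVn _ ⟨g, rfl⟩ _ hv⟩
  have hmap : (V.comap f).map f = V := Subgroup.map_comap_eq_self hVP
  have hcard : Nat.card (V.comap f) = 16 := by
    rw [← Subgroup.card_map_of_injective (f := f) hf, hmap, hV16]
  have hPV : f.range ≤ Subgroup.normalizer (V : Set S) := fun g hg => by
    rw [Subgroup.mem_normalizer_iff]
    intro v
    refine ⟨hVn g hg v, fun h => ?_⟩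
    have := hVn g⁻¹ (inv_mem hg) _ h
    simpa [mul_assoc] using this
  refine le_antisymm ?_ hPV
  by_contra hle
  haveI := h2.isNilpotent
  have hlt : f.range.subgroupOf (Subgroup.normalizer (V : Set S)) < ⊤ :=
    lt_top_iff_ne_top.2 fun h => hle (Subgroup.subgroupOf_eq_top.1 h)
  obtain ⟨⟨g, hgV⟩, hg, hgP⟩ := SetLike.exists_of_lt (Group.normalizerCondition_of_isNilpotent _ hlt)
  rw [Subgroup.mem_subgroupOf] at hgP
  have hgN : g ∈ Subgroup.normalizer ((f.range : Subgroup S) : Set S) := by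
    rw [Subgroup.mem_normalizer_iff_conj_image_eq]
    refine Set.eq_of_subset_of_ncard_le ?_ ?_
    · rintro _ ⟨x, hx, rfl⟩
      exact (Subgroup.mem_normalizer_iff.1 hg ⟨x, hPV hx⟩).1 hx
    · exact le_of_eq (Set.ncard_image_of_injective _ (MulAut.conj g).injective).symm
  obtain ⟨α, hα⟩ := CfsgLib.FGS74.W8.exists_induced hf hgN
  have hsw := CfsgLib.FGS74.W8.swaps h2 hr hf hgN hgP hα
  have hfix : (V.comap f).map α.toMonoidHom ≤ V.comap f := by
    rintro _ ⟨v, hv, rfl⟩
    show f (α v) ∈ V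
    rw [hα]
    exact (Subgroup.mem_normalizer_iff.1 hgV (f v)).1 hv
  rcases CfsgLib.FGS74.W8.eq_V1_or_V2 (V.comap f) hn
      (fun v hv => hf (by rw [map_mul, map_one]; exact hVe _ hv))
      (fun v hv w hw => hf (by rw [map_mul, map_mul]; exact hVc _ hv _ hw)) hcard with h | h
  · rw [h, hsw] at hfix
    exact CfsgLib.FGS74.W8.V1_ne_V2 (Subgroup.eq_of_le_of_card_ge hfix
      (by rw [CfsgLib.FGS74.W8.card_V1, CfsgLib.FGS74.W8.card_V2])).symm
  · rw [h] at hfix
    have h12 : CfsgLib.FGS74.W8.V2.map α.toMonoidHom = CfsgLib.FGS74.W8.V1 :=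
      (CfsgLib.FGS74.W8.map_V2 α).resolve_right fun e =>
        CfsgLib.FGS74.W8.V1_ne_V2 (Subgroup.map_injective α.injective (hsw.trans e.symm))
    rw [h12] at hfix
    exact CfsgLib.FGS74.W8.V1_ne_V2 (Subgroup.eq_of_le_of_card_ge hfix
      (by rw [CfsgLib.FGS74.W8.card_V1, CfsgLib.FGS74.W8.card_V2]))

end Cfsg.Agent.S4402
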