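import Cfsg.Statements.S4403
import Cfsg.Agent.Balance.Core
import Cfsg.Agent.CharPLocal.Basic
import Cfsg.Agent.Coprime.Abelian
import Cfsg.Agent.Transfer.Abelian
-- import your own Cfsg.Agent.* helpers here

set_option autoImplicit false
open Cfsg

namespace Cfsg.Agent.S4403

open Subgroup

section

variable {K : Type*} [Group K] [Finite K] {p : ℕ} [hp : Fact p.Prime]

omit [Finite K] hp in
private theorem mem_zpowers_of_cyclic {S : Subgroup K} [Finite S] (hS : IsCyclic S) {x y : K}
    (hxS : x ∈ S) (hyS : y ∈ S) (hp0 : 0 < p) (hx : orderOf x = p) (hy : y ^ p = 1) :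
    y ∈ zpowers x := by
  classical
  have := Fintype.ofFinite S
  set x' : S := ⟨x, hxS⟩ with hx'
  have hox : orderOf x' = p := by rw [← Subgroup.orderOf_coe]; exact hx
  let A : Finset S := (Finset.range p).image (fun i => x' ^ i)
  let B : Finset S := Finset.univ.filter (fun a : S => a ^ p = 1)
  have hAB : A ⊆ B := by
    intro a ha
    obtain ⟨i, -, rfl⟩ := Finset.mem_image.1 ha
    refine Finset.mem_filter.2 ⟨Finset.mem_univ _, ?_⟩
    rw [← pow_mul, mul_comm, pow_mul, ← hox, pow_orderOf_eq_one, one_pow]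
  have hA : A.card = p := by
    rw [Finset.card_image_of_injOn, Finset.card_range]
    intro i hi j hj h
    exact pow_injOn_Iio_orderOf (by simpa [hox] using hi) (by simpa [hox] using hj) h
  have hB : B.card ≤ p := IsCyclic.card_pow_eq_one_le hp0
  have hy' : (⟨y, hyS⟩ : S) ∈ A := by
    rw [Finset.eq_of_subset_of_card_le hAB (by omega)]
    exact Finset.mem_filter.2 ⟨Finset.mem_univ _, Subtype.ext (by simpa using hy)⟩
  obtain ⟨i, -, hi⟩ := Finset.mem_image.1 hy'
  exact ⟨i, by simpa using congrArg Subtype.val hi⟩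

variable (P : Sylow p K) (hP : IsCyclic ↥(P : Subgroup K))
include hP

private theorem exists_cyclic_sylow {H : Subgroup K} (hH : IsPGroup p H) :
    ∃ S : Subgroup K, H ≤ S ∧ IsCyclic S := by
  obtain ⟨S, hS⟩ := hH.exists_le_sylow
  exact ⟨S, hS, (Sylow.equiv P S).isCyclic.1 hP⟩

private theorem commute_mem_zpowers {x y : K} (hx : orderOf x = p) (hy : orderOf y = p)
    (h : Commute x y) : y ∈ zpowers x := by
  have hxz : IsPGroup p (zpowers x) := IsPGroup.of_card (n := 1) (by rw [Nat.card_zpowers, hx, pow_one])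
  have hyz : IsPGroup p (zpowers y) := IsPGroup.of_card (n := 1) (by rw [Nat.card_zpowers, hy, pow_one])
  have hn : zpowers y ≤ normalizer (zpowers x : Set K) := by
    refine (zpowers_le.2 ?_).trans (centralizer_le_normalizer _)
    rintro _ ⟨i, rfl⟩
    exact (h.zpow_left i).eq
  obtain ⟨S, hS, hSc⟩ := exists_cyclic_sylow P hP (hxz.to_sup_of_normal_left' hyz hn)
  exact mem_zpowers_of_cyclic hSc (hS (mem_sup_left (mem_zpowers x)))
    (hS (mem_sup_right (mem_zpowers y))) hp.out.pos hx (by rw [← hy, pow_orderOf_eq_one])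

private theorem disjoint_cyclic {A B : Subgroup K} (hA : A ≤ P) (hB : B ≤ P) (h : A ⊓ B = ⊥) :
    A = ⊥ ∨ B = ⊥ := by
  by_contra hne
  push Not at hne
  have key : ∀ C : Subgroup K, C ≤ P → C ≠ ⊥ → ∃ c ∈ C, orderOf c = p := by
    intro C hC hCne
    obtain ⟨n, hn⟩ := IsPGroup.iff_card.1 (P.isPGroup'.to_le hC)
    have hn0 : n ≠ 0 := by
      rintro rfl
      exact hCne (Subgroup.card_eq_one.1 (by simpa using hn))
    obtain ⟨c, hc⟩ := exists_prime_orderOf_dvd_card' (G := C) p (hn ▸ dvd_pow_self p hn0)
    exact ⟨c, c.2, by rw [Subgroup.orderOf_coe, hc]⟩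
  obtain ⟨a, ha, hoa⟩ := key A hA hne.1
  obtain ⟨b, hb, hob⟩ := key B hB hne.2
  have hab : Commute a b := by
    have := hP
    exact congrArg Subtype.val (IsCyclic.commGroup.mul_comm (⟨a, hA ha⟩ : ↥(P : Subgroup K)) ⟨b, hB hb⟩)
  have hbA : b ∈ A ⊓ B := ⟨zpowers_le.2 ha (commute_mem_zpowers P hP hoa hob hab), hb⟩
  rw [h, mem_bot] at hbA
  rw [hbA, orderOf_one] at hob
  exact hp.out.one_lt.ne hob

end

private theorem no_component_case {K : Type*} [Group K] [Finite K] (p : ℕ) [Fact p.Prime]
    (P : Sylow p K) (hP : IsCyclic ↥(P : Subgroup K))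
    (hC : centralizer (pCore p K : Set K) ≤ pCore p K) :
    (P : Subgroup K).Normal ∧ Subgroup.centralizer ((P : Subgroup K) : Set K) = (P : Subgroup K) ∧
      (∀ (_ : (P : Subgroup K).Normal), IsCyclic (K ⧸ (P : Subgroup K))) ∧ (P : Subgroup K).index ∣ p - 1 := by
  have hp : p.Prime := Fact.out
  have hcomm : ∀ a ∈ (P : Subgroup K), ∀ b ∈ (P : Subgroup K), a * b = b * a := fun a ha b hb => by
    have := hP
    exact congrArg Subtype.val (IsCyclic.commGroup.mul_comm (⟨a, ha⟩ : ↥(P : Subgroup K)) ⟨b, hb⟩)
  have hle : pCore p K ≤ P := CfsgLib.PLocal.pCore_le_sylow P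
  have hPc : (P : Subgroup K) ≤ centralizer (pCore p K : Set K) := fun a ha =>
    mem_centralizer_iff.2 fun b hb => hcomm b (hle hb) a ha
  have hPeq : pCore p K = (P : Subgroup K) := le_antisymm hle (hPc.trans hC)
  have hnorm : (P : Subgroup K).Normal := hPeq ▸ inferInstance
  have hcent : centralizer ((P : Subgroup K) : Set K) = (P : Subgroup K) :=
    le_antisymm (by conv_rhs => rw [← hPeq]
                    rw [← hPeq]; exact hC)
      (fun a ha => mem_centralizer_iff.2 fun b hb => hcomm b hb a ha)
  obtain ⟨n, hn⟩ := IsPGroup.iff_card.1 P.isPGroup'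
  have := hP
  let f : K →* (ZMod (Nat.card ↥(P : Subgroup K)))ˣ :=
    (IsCyclic.mulAutMulEquiv ↥(P : Subgroup K)).toMonoidHom.comp MulAut.conjNormal
  have hker : f.ker = (P : Subgroup K) := by
    have : f.ker = (MulAut.conjNormal : K →* MulAut ↥(P : Subgroup K)).ker := by
      ext g; simp [f, MonoidHom.mem_ker]
    rw [this]
    conv_rhs => rw [← hcent]
    ext g
    rw [MonoidHom.mem_ker, mem_centralizer_iff]
    constructor
    · intro h b hb
      have := congrArg (fun e : MulAut ↥(P : Subgroup K) => ((e ⟨b, hb⟩ : ↥(P : Subgroup K)) : K)) h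
      simp only [MulAut.conjNormal_apply, MulAut.one_apply] at this
      exact (mul_inv_eq_iff_eq_mul.1 this).symm
    · intro h
      ext ⟨b, hb⟩
      simp only [MulAut.conjNormal_apply, MulAut.one_apply]
      rw [mul_inv_eq_iff_eq_mul, h b hb]
  have e : K ⧸ (P : Subgroup K) ≃* f.range :=
    (QuotientGroup.quotientMulEquivOfEq hker.symm).trans (QuotientGroup.quotientKerEquivRange f)
  have hidx : (P : Subgroup K).index = Nat.card f.range := by
    rw [Subgroup.index_eq_card]; exact Nat.card_congr e.toEquiv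
  have hdvd : (P : Subgroup K).index ∣ Nat.totient (p ^ n) := by
    rw [hidx]
    refine (Subgroup.card_subgroup_dvd_card f.range).trans (dvd_of_eq ?_)
    rw [Nat.card_eq_fintype_card, ZMod.card_units_eq_totient, hn]
  have hcop : (P : Subgroup K).index.Coprime p := by
    rw [Nat.coprime_comm]; exact (Nat.Prime.coprime_iff_not_dvd hp).2 P.not_dvd_index
  have hd : (P : Subgroup K).index ∣ p - 1 := by
    rcases Nat.eq_zero_or_pos n with rfl | hn0
    · simp only [pow_zero, Nat.totient_one] at hdvd
      exact hdvd.trans (one_dvd _)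
    · rw [Nat.totient_prime_pow hp hn0] at hdvd
      exact (hcop.pow_right _).dvd_of_dvd_mul_left hdvd
  refine ⟨hnorm, hcent, fun _ => ?_, hd⟩
  rcases eq_or_ne p 2 with rfl | h2
  · have h1 : Nat.card (K ⧸ (P : Subgroup K)) = 1 := by
      rw [← Subgroup.index_eq_card]; simpa using hd
    have := (Nat.card_eq_one_iff_unique.1 h1).1
    infer_instance
  · have : IsCyclic (ZMod (Nat.card ↥(P : Subgroup K)))ˣ := by
      rw [hn]; exact ZMod.isCyclic_units_of_prime_pow p hp h2 n
    exact e.isCyclic.2 inferInstance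

private theorem component_case {K : Type*} [Group K] [Finite K] (p : ℕ) [Fact p.Prime]
    (hO : Cfsg.pPrimeCore p K = ⊥) (P : Sylow p K) (hP : IsCyclic ↥(P : Subgroup K))
    (L : Subgroup K) (hL : Cfsg.IsComponent L) :
    IsSimpleGroup ↥(Cfsg.generalizedFittingSubgroup K) ∧
      ¬ IsMulCommutative ↥(Cfsg.generalizedFittingSubgroup K) ∧
      ¬ p ∣ (Cfsg.generalizedFittingSubgroup K).index := by
  have hp : p.Prime := Fact.out
  have hpL : p ∣ Nat.card L := CfsgLib.Balance.dvd_card_component hO hL
  have hperf : commutator ↥L = ⊤ := CfsgLib.Components.IsQuasisimple.perfect hL.2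
  -- the centre is trivial
  have hZ : center ↥L = ⊥ := by
    obtain ⟨Q⟩ : Nonempty (Sylow p ↥L) := inferInstance
    obtain ⟨S, hS, hSc⟩ := exists_cyclic_sylow P hP (Q.isPGroup'.map L.subtype)
    have h1 : IsCyclic ↥((Q : Subgroup ↥L).map L.subtype) :=
      isCyclic_of_injective (inclusion hS) (inclusion_injective hS)
    have h2 : IsCyclic ↥(Q : Subgroup ↥L) :=
      ((Q : Subgroup ↥L).equivMapOfInjective L.subtype L.subtype_injective).isCyclic.2 h1
    have h3 := CfsgLib.Transfer.inf_commutator_inf_center_eq_bot (Q : Subgroup ↥L)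
      (by have := h2; exact IsMulCommutative.mk ⟨IsCyclic.commGroup.mul_comm⟩) Q.card_coprime_index
    rw [hperf, inf_top_eq] at h3
    have hZp : IsPGroup p ↥(center ↥L) := by
      have hle : (center ↥L).map L.subtype ≤ pCore p K := by
        rw [CfsgLib.Components.map_subtype_center]
        exact CfsgLib.Balance.component_inf_centralizer_le_pCore hO hL
      exact ((CfsgLib.PLocal.isPGroup_pCore p K).to_le hle).of_equiv
        ((center ↥L).equivMapOfInjective L.subtype L.subtype_injective).symm
    have hZQ : center ↥L ≤ Q := (CfsgLib.PLocal.le_pCore hZp).trans (CfsgLib.PLocal.pCore_le_sylow Q)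
    rwa [inf_eq_right.2 hZQ] at h3
  have hsimp : IsSimpleGroup ↥L := by
    have := hL.2.2
    have : Nontrivial ↥L := CfsgLib.Components.IsQuasisimple.nontrivial hL.2
    exact ((QuotientGroup.quotientMulEquivOfEq hZ).trans QuotientGroup.quotientBot).symm.isSimpleGroup
  have hnab : ¬ IsMulCommutative ↥L := CfsgLib.Components.IsQuasisimple.not_isMulCommutative hL.2
  have hLC : L ⊓ centralizer (L : Set K) = ⊥ := by
    rw [← CfsgLib.Components.map_subtype_center, hZ, Subgroup.map_bot]
  -- nothing of order divisible by `p` centralises `L`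
  have no_two : ∀ A : Subgroup K, p ∣ Nat.card A → ⁅A, L⁆ = ⊥ → False := by
    intro A hA hAL
    obtain ⟨x, hx⟩ := exists_prime_orderOf_dvd_card' (G := L) p hpL
    obtain ⟨y, hy⟩ := exists_prime_orderOf_dvd_card' (G := A) p hA
    have hyC : (y : K) ∈ centralizer (L : Set K) := commutator_eq_bot_iff_le_centralizer.1 hAL y.2
    have hyx := commute_mem_zpowers P hP (x := (x : K)) (y := (y : K))
      (by rw [Subgroup.orderOf_coe, hx]) (by rw [Subgroup.orderOf_coe, hy])
      (mem_centralizer_iff.1 hyC x x.2)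
    have : (y : K) ∈ L ⊓ centralizer (L : Set K) := ⟨zpowers_le.2 x.2 hyx, hyC⟩
    rw [hLC, mem_bot] at this
    have := orderOf_one (G := K) ▸ congrArg orderOf this
    rw [Subgroup.orderOf_coe, hy] at this
    exact hp.one_lt.ne' this
  have huniq : ∀ M : Subgroup K, Cfsg.IsComponent M → M = L := by
    intro M hM
    by_contra hne
    exact no_two M (CfsgLib.Balance.dvd_card_component hO hM)
      (CfsgLib.Components.IsComponent.commutator_eq_bot_of_ne hM hL hne)
  have hlayer : Cfsg.layer K = L :=
    le_antisymm (sSup_le fun M hM => (huniq M hM).le) (le_sSup hL)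
  have hnorm : L.Normal := by
    refine ⟨fun x hx g => ?_⟩
    have h := huniq _ (CfsgLib.Components.IsComponent.conj hL g)
    rw [← h]
    exact ⟨x, hx, rfl⟩
  have hOp : pCore p K = ⊥ := by
    by_contra hne
    obtain ⟨n, hn⟩ := IsPGroup.iff_card.1 (CfsgLib.PLocal.isPGroup_pCore p K)
    have hn0 : n ≠ 0 := by
      rintro rfl
      exact hne (Subgroup.card_eq_one.1 (by simpa using hn))
    have := (CfsgLib.PLocal.isPGroup_pCore p K).isNilpotent
    refine no_two _ (hn ▸ dvd_pow_self p hn0) ?_
    rw [commutator_comm]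
    exact CfsgLib.Components.IsComponent.commutator_eq_bot_of_isSolvable hL inferInstance
      le_normalizer_of_normal
  have hF : Cfsg.generalizedFittingSubgroup K = L := by
    rw [Cfsg.generalizedFittingSubgroup, hlayer, CfsgLib.Balance.fittingSubgroup_eq_pCore hO, hOp,
      sup_bot_eq]
  rw [hF]
  refine ⟨hsimp, hnab, fun hidx => ?_⟩
  have hPL : ¬ (P : Subgroup K) ≤ L := fun hle =>
    P.not_dvd_index (hidx.trans (index_dvd_of_le hle))
  let M : Subgroup K := L ⊔ P
  let PM : Sylow p ↥M := P.subtype le_sup_right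
  have hN : normalizer (PM : Subgroup ↥M) ≤ centralizer ((PM : Subgroup ↥M) : Set ↥M) := by
    have key : ∀ l ∈ L, l ∈ normalizer ((P : Subgroup K) : Set K) →
        l ∈ centralizer ((P : Subgroup K) : Set K) := by
      intro l hlL hlN
      obtain ⟨a, b, ha, hb, ⟨k, hk⟩, hcop, hab⟩ :=
        CfsgLib.LocalStructure.exists_pPart_mul (p := p) l
      have haP : a ∈ (P : Subgroup K) := by
        have hpa : IsPGroup p (zpowers a) := IsPGroup.of_card (n := k) (by rw [Nat.card_zpowers, hk])
        have hs := P.isPGroup'.to_sup_of_normal_left' hpa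
          ((zpowers_le.2 (zpowers_le.2 hlN ha)))
        exact (P.is_maximal' hs le_sup_left).le (mem_sup_right (mem_zpowers a))
      have := hP
      have hPc : IsMulCommutative ↥(P : Subgroup K) := IsMulCommutative.mk ⟨IsCyclic.commGroup.mul_comm⟩
      have haC : a ∈ centralizer ((P : Subgroup K) : Set K) := mem_centralizer_iff.2 fun u hu =>
        congrArg Subtype.val (IsCyclic.commGroup.mul_comm (⟨u, hu⟩ : ↥(P : Subgroup K)) ⟨a, haP⟩)
      have hBN : zpowers b ≤ normalizer ((P : Subgroup K) : Set K) :=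
        zpowers_le.2 (zpowers_le.2 hlN hb)
      obtain ⟨n, hn⟩ := IsPGroup.iff_card.1 P.isPGroup'
      have hc : (Nat.card (zpowers b)).Coprime (Nat.card ↥(P : Subgroup K)) := by
        rw [Nat.card_zpowers, hn]; exact Nat.Coprime.pow_right n hcop
      have hcomm : ⁅(P : Subgroup K), zpowers b⁆ = ⊥ := by
        rcases disjoint_cyclic P hP inf_le_left
          (CfsgLib.Coprime.commutator_le_of_le_normalizer hBN)
          (CfsgLib.Coprime.inf_centralizer_inf_commutator_eq_bot hBN hc) with h | h
        · exfalso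
          have h' := CfsgLib.Coprime.inf_centralizer_sup_commutator_eq hBN hc
          rw [h, bot_sup_eq] at h'
          apply hPL
          rw [← h']
          exact (commutator_mono le_rfl (zpowers_le.2 (zpowers_le.2 hlL hb))).trans (commutator_le_right _ _)
        · exact h
      have hbC : b ∈ centralizer ((P : Subgroup K) : Set K) :=
        le_centralizer_iff.1 (commutator_eq_bot_iff_le_centralizer.1 hcomm) (mem_zpowers b)
      rw [← hab]
      exact mul_mem haC hbC
    intro m hm
    have hmN : (m : K) ∈ normalizer ((P : Subgroup K) : Set K) := by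
      refine mem_normalizer_iff.2 fun x => ?_
      constructor
      · intro hx
        have := (mem_normalizer_iff.1 hm ⟨x, (le_sup_right : (P : Subgroup K) ≤ M) hx⟩).1
          (mem_subgroupOf.2 hx)
        simpa [PM, mem_subgroupOf] using this
      · intro hx
        have hxM : x ∈ M := by
          have := mul_mem (mul_mem (inv_mem m.2) ((le_sup_right : (P : Subgroup K) ≤ M) hx)) m.2
          simpa [mul_assoc] using this
        have := (mem_normalizer_iff.1 hm ⟨x, hxM⟩).2 (by simpa [PM, mem_subgroupOf] using hx)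
        simpa [PM, mem_subgroupOf] using this
    have hmM : (m : K) ∈ ((L ⊔ (P : Subgroup K) : Subgroup K) : Set K) := m.2
    rw [normal_mul] at hmM
    obtain ⟨l, hl, u, hu, hlu⟩ := hmM
    have hlN : l ∈ normalizer ((P : Subgroup K) : Set K) := by
      have : l = (m : K) * u⁻¹ := by rw [← hlu]; group
      rw [this]
      exact mul_mem hmN (inv_mem (le_normalizer hu))
    have hmC : (m : K) ∈ centralizer ((P : Subgroup K) : Set K) := by
      rw [← hlu]
      refine mul_mem (key l hl hlN) (mem_centralizer_iff.2 fun v hv => ?_)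
      have := hP
      exact congrArg Subtype.val (IsCyclic.commGroup.mul_comm (⟨v, hv⟩ : ↥(P : Subgroup K)) ⟨u, hu⟩)
    exact mem_centralizer_iff.2 fun v hv => Subtype.ext
      (mem_centralizer_iff.1 hmC v (mem_subgroupOf.1 hv))
  let f := MonoidHom.transferSylow PM hN
  have hPMc : IsMulCommutative ↥(PM : Subgroup ↥M) :=
    ⟨⟨fun a b => Subtype.ext (hN (le_normalizer b.2) a a.2)⟩⟩
  have hcompl := MonoidHom.ker_transferSylow_isComplement' PM hN
  let g := f.comp (inclusion (le_sup_left : L ≤ M))
  rcases hsimp.eq_bot_or_eq_top_of_normal g.ker inferInstance with hk | hk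
  · exact hnab ⟨⟨fun a b => ((MonoidHom.ker_eq_bot_iff g).1 hk) (by
      rw [map_mul, map_mul]; exact hPMc.is_comm.comm _ _)⟩⟩
  · have hLle : L.subgroupOf M ≤ f.ker := by
      intro x hx
      have : (⟨x, mem_subgroupOf.1 hx⟩ : L) ∈ g.ker := hk ▸ mem_top _
      exact this
    have h1 : p ∣ Nat.card f.ker := by
      refine (hpL.trans (dvd_of_eq ?_)).trans (card_dvd_of_le hLle)
      exact (Nat.card_congr (subgroupOfEquivOfLe (le_sup_left : L ≤ M)).toEquiv).symm
    rw [← hcompl.index_eq_card] at h1
    exact PM.not_dvd_index h1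

/-- Let K be a finite group, p a prime dividing its order with O_{p'}(K) = 1 (no nontrivial normal subgroup of order prime to p), and P a cyclic Sylow p-subgroup of K. Then either P is normal and self-centralizing in K with K/P cyclic of order dividing p − 1 (so K is the semidirect product of P by a group of automorphisms of P of order dividing p − 1), or the generalized Fitting subgroup F*(K) is a non-abelian simple group and p does not divide the index of F*(K) in K. -/
theorem result {K : Type*} [Group K] [Finite K] (p : ℕ) [Fact p.Prime] (hp : p ∣ Nat.card K) (hO : Cfsg.pPrimeCore p K = ⊥)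
    (P : Sylow p K) (hP : IsCyclic ↥(P : Subgroup K)) :
    ((P : Subgroup K).Normal ∧ Subgroup.centralizer ((P : Subgroup K) : Set K) = (P : Subgroup K) ∧
      (∀ (_ : (P : Subgroup K).Normal), IsCyclic (K ⧸ (P : Subgroup K))) ∧ (P : Subgroup K).index ∣ p - 1) ∨
    (IsSimpleGroup ↥(Cfsg.generalizedFittingSubgroup K) ∧ ¬ IsMulCommutative ↥(Cfsg.generalizedFittingSubgroup K) ∧
      ¬ p ∣ (Cfsg.generalizedFittingSubgroup K).index) := by
  by_cases hc : ∃ L : Subgroup K, Cfsg.IsComponent L
  · obtain ⟨L, hL⟩ := hc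
    exact Or.inr (component_case p hO P hP L hL)
  · push Not at hc
    exact Or.inl (no_component_case p P hP
      (CfsgLib.CharPLocal.centralizer_pCore_le_of_no_component hO hc))

end Cfsg.Agent.S4403
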