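import Cfsg.Statements.S4404
import Cfsg.Agent.FGS74.TwoDimCommutator
import Cfsg.Agent.OddOrder.BG4.Aut2
import Cfsg.Agent.Solvable.Hall
import Cfsg.Agent.Transfer.Frobenius

set_option autoImplicit false
open Cfsg

namespace Cfsg.Agent.S4404

open Subgroup CfsgLib.FGS74.TwoDim
open scoped commutatorElement Pointwise

theorem not_isCyclic_of_sq_le {X : Type*} [Group X] [Finite X] {r : ℕ} (hr : 1 < r) {F : Subgroup X}
    (hF : ∀ a ∈ F, a ^ r = 1) (hcard : r ^ 2 ≤ Nat.card F) : ¬ IsCyclic F := by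
  intro h
  have hexp : Monoid.exponent F ∣ r :=
    Monoid.exponent_dvd_of_forall_pow_eq_one fun a => Subtype.ext (by simpa using hF a a.2)
  rw [IsCyclic.exponent_eq_card] at hexp
  have := Nat.le_of_dvd (by omega) hexp
  nlinarith

/-- A `{3,p}`-group (`p ≥ 5`) of `3`-rank at most `2` has a normal Sylow `p`-subgroup. -/
theorem sylow_normal_of_rank_two {H : Type*} [Group H] [Finite H] {p : ℕ} [hp : Fact p.Prime]
    (h5 : 5 ≤ p) (hπ : ∀ q, q.Prime → q ∣ Nat.card H → q = 3 ∨ q = p) (R : Sylow 3 H)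
    (hr : Cfsg.PRankLE 3 2 (R : Subgroup H)) :
    ∃ T : Sylow p H, (T : Subgroup H).Normal := by
  haveI : Fact (Nat.Prime 3) := ⟨Nat.prime_three⟩
  have hnpc : Cfsg.HasNormalPComplement 3 H := by
    refine CfsgLib.Transfer.hasNormalPComplement_of_local R fun Q hQ g hg hgp => ?_
    refine mem_centralizer_of_act_eq_one (P := normalizer (Q : Set H)) (U := Q) le_rfl (g := ⟨g, hg⟩) ?_
    set σ := act (P := normalizer (Q : Set H)) (U := Q) le_rfl ⟨g, hg⟩
    have hσ : orderOf σ ∣ orderOf g := by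
      refine (orderOf_map_dvd _ _).trans ?_
      rw [orderOf_mk]
    by_contra hne
    obtain ⟨q, hq, hqd⟩ := Nat.exists_prime_and_dvd (fun e => hne (orderOf_eq_one_iff.1 e))
    have hqg := hqd.trans hσ
    have hq3 : q ≠ 3 := by
      rintro rfl
      have := Nat.eq_one_of_dvd_coprimes hgp hqg dvd_rfl
      omega
    have hqp : q = p := (hπ q hq (hqg.trans (orderOf_dvd_natCard g))).resolve_left hq3
    have hrQ : Cfsg.PRankLE 3 2 Q :=
      CfsgLib.OddOrder.BG4.pRankLE_of_injective (Subgroup.inclusion hQ)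
        (Subgroup.inclusion_injective hQ) hr
    obtain ⟨-, hlt⟩ := CfsgLib.OddOrder.BG4.prime_dvd_card_aut (R := Q) (p := 3) (by norm_num)
      (R.2.to_le hQ) hrQ hq hq3 (hqd.trans (orderOf_dvd_natCard _))
    omega
  obtain ⟨P, N, hN, hc⟩ := hnpc
  have hNp : IsPGroup p N := by
    have hN3 : ¬ 3 ∣ Nat.card N := by
      rw [← hc.index_eq_card]; exact P.not_dvd_index
    refine IsPGroup.of_card (n := (Nat.card N).primeFactorsList.length)
      (Nat.eq_prime_pow_of_unique_prime_dvd Nat.card_pos.ne' fun {d} hd hdvd => ?_)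
    exact (hπ d hd (hdvd.trans (card_subgroup_dvd_card N))).resolve_left fun e => hN3 (e ▸ hdvd)
  haveI := hN
  have hidx : ¬ p ∣ N.index := by
    rw [hc.symm.index_eq_card]
    intro h
    obtain ⟨k, hk⟩ := P.2.exists_card_eq
    rw [hk] at h
    have := (Nat.prime_dvd_prime_iff_eq hp.out Nat.prime_three).1 (hp.out.dvd_of_dvd_pow h)
    omega
  exact ⟨hNp.toSylow hidx, by rw [IsPGroup.toSylow_coe]; exact hN⟩

/-- Let S be a finite solvable group and M a normal elementary abelian 2-subgroup of S. Suppose S contains an elementary abelian subgroup of order p³ for some odd prime p, and a cyclic 3-subgroup Q such that the cubes of the elements of Q centralize M and the commutator subgroup [Q, M] has order 4 (a four-group inside M). Then S contains an elementary abelian subgroup F of order r³, for some odd prime r, whose centralizer of [Q, M] in F — the subgroup C_F([Q, M]) — is not cyclic. -/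
theorem result {S : Type*} [Group S] [Finite S]
    [Group.IsSolvable S] (M : Subgroup S) [M.Normal] (hM : Cfsg.IsElementaryAbelian 2 M)
    (p : ℕ) (hp : p.Prime) (hp2 : p ≠ 2) (E : Subgroup S) (hE : Cfsg.IsElementaryAbelian p E) (hE3 : Nat.card ↥E = p ^ 3)
    (Q : Subgroup S) (hQc : IsCyclic ↥Q) (hQ3 : IsPGroup 3 ↥Q)
    (hQ1 : ∀ x ∈ Q, x ^ 3 ∈ Subgroup.centralizer (M : Set S)) (hQM : Nat.card ↥⁅Q, M⁆ = 4) :
    ∃ (r : ℕ) (F : Subgroup S), r.Prime ∧ r ≠ 2 ∧ Cfsg.IsElementaryAbelian r F ∧ Nat.card ↥F = r ^ 3 ∧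
      ¬ IsCyclic ↥(F ⊓ Subgroup.centralizer ((⁅Q, M⁆ : Subgroup S) : Set S)) := by
  haveI : Fact (Nat.Prime 3) := ⟨Nat.prime_three⟩
  haveI : Fact p.Prime := ⟨hp⟩
  have hMc : ∀ a ∈ M, ∀ b ∈ M, a * b = b * a := fun a ha b hb =>
    haveI := hM.1; setLike_mul_comm (s := M) ha hb
  obtain ⟨⟨x, hxQ⟩, hgen⟩ := IsCyclic.exists_generator (α := Q)
  have hQx : Q = zpowers x := by
    refine le_antisymm (fun y hy => ?_) (zpowers_le.2 hxQ)
    obtain ⟨i, hi⟩ := hgen ⟨y, hy⟩
    exact ⟨i, congrArg Subtype.val hi⟩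
  subst hQx
  have hV : ⁅zpowers x, M⁆ = im hMc x := by
    refine le_antisymm (commutator_le.2 fun y hy m hm => ?_) ?_
    · obtain ⟨n, rfl⟩ := mem_powers_iff_mem_zpowers.2 hy
      exact comm_pow_mem hMc x hm n
    · rintro _ ⟨m, hm, rfl⟩
      exact commutator_mem_commutator (mem_zpowers x) hm
  rw [hV] at hQM ⊢
  set V := im hMc x with hVdef
  obtain ⟨k, hk⟩ := IsPGroup.iff_orderOf.1 hQ3 ⟨x, mem_zpowers x⟩
  rw [orderOf_mk] at hk
  have hx : Hyp hMc x := ⟨fun m hm => hM.2 m hm, hk ▸ (show Odd 3 by decide).pow, hQM⟩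
  have hVsq : ∀ v ∈ V, v ^ 2 = 1 := fun v hv => hM.2 v (im_le hMc x hv)
  -- from a small index to the conclusion
  have finish' : ∀ (r : ℕ) (F : Subgroup S), r.Prime → r ≠ 2 → Cfsg.IsElementaryAbelian r F →
      Nat.card F = r ^ 3 → Nat.card F ≤ r * Nat.card (F ⊓ centralizer (V : Set S) : Subgroup S) →
      ∃ (r : ℕ) (F : Subgroup S), r.Prime ∧ r ≠ 2 ∧ Cfsg.IsElementaryAbelian r F ∧ Nat.card F = r ^ 3 ∧
        ¬ IsCyclic ↥(F ⊓ centralizer (V : Set S)) := by
    intro r F hr hr2 hF hF3 hle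
    refine ⟨r, F, hr, hr2, hF, hF3, not_isCyclic_of_sq_le hr.one_lt (fun a ha => hF.2 a ha.1) ?_⟩
    rw [hF3, pow_succ, mul_comm] at hle
    exact Nat.le_of_mul_le_mul_left hle hr.pos
  obtain ⟨R, hR⟩ := hQ3.exists_le_sylow
  have hxR : x ∈ (R : Subgroup S) := hR (mem_zpowers x)
  by_cases hr3 : Cfsg.PRankLE 3 2 (R : Subgroup S)
  swap
  · obtain ⟨B, hBn, hB, hBc⟩ : ∃ B : Subgroup (R : Subgroup S),
        B.Normal ∧ Cfsg.IsElementaryAbelian 3 B ∧ 3 ^ 3 ≤ Nat.card B := by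
      by_contra hcon
      push Not at hcon
      refine hr3 (CfsgLib.OddOrder.BG4.pRankLE_two_of_normal_le (by norm_num) R.2 fun B hBn hB => ?_)
      obtain ⟨n, hn⟩ := CfsgLib.OddOrder.BG4.card_elementary_eq_pow hB.2
      have h := hcon B hBn hB
      rw [hn] at h ⊢
      exact Nat.pow_le_pow_right (by norm_num) (by have := (Nat.pow_lt_pow_iff_right (by norm_num)).1 h; omega)
    haveI := hBn
    obtain ⟨B', hB'n, hB'B, hB'c⟩ := CfsgLib.OddOrder.BG4.exists_normal_card_le R.2 B 3 hBc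
    set F := B'.map (R : Subgroup S).subtype with hFdef
    have hFR : F ≤ (R : Subgroup S) := map_subtype_le _
    have hF3 : Nat.card F = 3 ^ 3 := by
      rw [hFdef, card_map_of_injective (R : Subgroup S).subtype_injective, hB'c]
    have hFc : ∀ a ∈ F, ∀ b ∈ F, a * b = b * a := by
      rintro _ ⟨a, ha, rfl⟩ _ ⟨b, hb, rfl⟩
      haveI := hB.1
      rw [← map_mul, ← map_mul, setLike_mul_comm (s := B) (hB'B ha) (hB'B hb)]
    have hF : Cfsg.IsElementaryAbelian 3 F := by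
      refine ⟨⟨⟨fun a b => Subtype.ext (hFc a a.2 b b.2)⟩⟩, ?_⟩
      rintro _ ⟨a, ha, rfl⟩
      rw [← map_pow, hB.2 a (hB'B ha), map_one]
    have hFn : (R : Subgroup S) ≤ normalizer (F : Set S) := fun g hg =>
      mem_normalizer_fintype fun w hw => by
        obtain ⟨a, ha, rfl⟩ := hw
        exact ⟨_, hB'n.conj_mem a ha ⟨g, hg⟩, rfl⟩
    have hFV : F ≤ normalizer (V : Set S) := fun a ha =>
      normalizes_of_normal_abelian hx R.2 hxR hFR hFn hFc ha
    exact finish' 3 F Nat.prime_three (by norm_num) hF hF3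
      (card_le_mul_centralizer (by norm_num) (R.2.to_le hFR) hVsq hFV (Or.inl hQM.le)).1
  -- `3`-rank at most two
  have hp3 : p ≠ 3 := by
    rintro rfl
    have hEp : IsPGroup 3 E := IsPGroup.of_card hE3
    obtain ⟨R', hR'⟩ := hEp.exists_le_sylow
    have h := CfsgLib.OddOrder.BG4.pRankLE_of_injective (R'.equiv R).toMonoidHom
      (R'.equiv R).injective hr3 (E.subgroupOf (R' : Subgroup S))
      ⟨⟨fun a b => Subtype.ext (Subtype.ext (by
        haveI := hE.1
        exact setLike_mul_comm (s := E) a.2 b.2))⟩⟩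
      (fun a ha => Subtype.ext (hE.2 a ha))
    rw [Nat.card_congr (subgroupOfEquivOfLe hR').toEquiv, hE3] at h
    norm_num at h
  have hp5 : 5 ≤ p := by
    by_contra hlt
    have := hp.two_le
    interval_cases p <;> norm_num at *
  obtain ⟨H₀, hH₀⟩ := CfsgLib.Solvable.exists_isPiHall ({3, p} : Set ℕ) S
  obtain ⟨g₁, hg₁⟩ := CfsgLib.Solvable.exists_conj_le_isPiHall hH₀ (U := (R : Subgroup S)) (by
    intro q hq hqd
    obtain ⟨j, hj⟩ := R.2.exists_card_eq
    rw [hj] at hqd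
    exact Or.inl ((Nat.prime_dvd_prime_iff_eq hq Nat.prime_three).1 (hq.dvd_of_dvd_pow hqd)))
  set H : Subgroup S := MulAut.conj g₁⁻¹ • H₀ with hHdef
  have hH : Cfsg.IsPiHall ({3, p} : Set ℕ) H := CfsgLib.Solvable.isPiHall_conj_smul hH₀ g₁⁻¹
  have hRH : (R : Subgroup S) ≤ H := by
    have h := Subgroup.pointwise_smul_le_pointwise_smul_iff (a := MulAut.conj g₁⁻¹).2 hg₁
    rwa [smul_smul, ← map_mul, inv_mul_cancel, map_one, one_smul] at h
  obtain ⟨g₂, hg₂⟩ := CfsgLib.Solvable.exists_conj_le_isPiHall hH (U := E) (by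
    intro q hq hqd
    rw [hE3] at hqd
    exact Or.inr ((Nat.prime_dvd_prime_iff_eq hq hp).1 (hq.dvd_of_dvd_pow hqd)))
  set E' : Subgroup S := MulAut.conj g₂ • E with hE'def
  have hRrank : Cfsg.PRankLE 3 2 ((R.subtype hRH : Sylow 3 H) : Subgroup H) := by
    refine CfsgLib.OddOrder.BG4.pRankLE_of_injective
      ((subgroupOfEquivOfLe hRH).toMonoidHom.comp
        (MulEquiv.subgroupCongr (Sylow.coe_subtype R hRH)).toMonoidHom) ?_ hr3
    exact (subgroupOfEquivOfLe hRH).injective.comp (MulEquiv.injective _)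
  obtain ⟨T₀, hT₀⟩ := sylow_normal_of_rank_two hp5 (fun q hq hqd => hH.1 q hq hqd) (R.subtype hRH) hRrank
  haveI := hT₀
  set T := (T₀ : Subgroup H).map H.subtype with hTdef
  have hxT : x ∈ normalizer (T : Set S) := mem_normalizer_fintype fun w hw => by
    obtain ⟨a, ha, rfl⟩ := hw
    exact ⟨_, hT₀.conj_mem a ha ⟨x, hRH hxR⟩, rfl⟩
  have hE'3 : Nat.card E' = p ^ 3 := by
    rw [hE'def, CfsgLib.Solvable.card_conj_smul, hE3]
  have hE'T : E' ≤ T := by
    haveI := T₀.unique_of_normal hT₀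
    obtain ⟨T₁, hT₁⟩ := (IsPGroup.of_card (G := (E'.subgroupOf H)) (n := 3)
      (by rw [Nat.card_congr (subgroupOfEquivOfLe hg₂).toEquiv, hE'3])).exists_le_sylow
    rw [Subsingleton.elim T₁ T₀] at hT₁
    intro e he
    exact ⟨⟨e, hg₂ he⟩, hT₁ he, rfl⟩
  have hE' : Cfsg.IsElementaryAbelian p E' := by
    have hmem : ∀ a ∈ E', ∃ b ∈ E, g₂ * b * g₂⁻¹ = a := fun a ha => by
      obtain ⟨b, hb, hb'⟩ := ha
      exact ⟨b, hb, hb'⟩
    refine ⟨⟨⟨fun a b => Subtype.ext ?_⟩⟩, fun a ha => ?_⟩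
    · obtain ⟨a', ha', hae⟩ := hmem a a.2
      obtain ⟨b', hb', hbe⟩ := hmem b b.2
      haveI := hE.1
      show (a : S) * b = b * a
      rw [← hae, ← hbe]
      calc g₂ * a' * g₂⁻¹ * (g₂ * b' * g₂⁻¹) = g₂ * (a' * b') * g₂⁻¹ := by group
        _ = _ := by rw [setLike_mul_comm (s := E) ha' hb']; group
    · obtain ⟨a', ha', rfl⟩ := hmem a ha
      rw [conj_pow, hE.2 a' ha', mul_one, mul_inv_cancel]
  exact finish' p E' hp hp2 hE' hE'3
    (exists_small_normalized hx hp5 (T₀.2.map H.subtype) hxT E' hE'T)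

end Cfsg.Agent.S4404
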