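import Cfsg.Statements.S4405
import Cfsg.Agent.Solvable.Fitting
import Cfsg.Agent.PLocal.Cores
import Cfsg.Agent.ExtraspecialBasic.Order
-- import your own Cfsg.Agent.* helpers here

set_option autoImplicit false
open Cfsg

namespace Cfsg.Agent.S4405

open Subgroup
open scoped commutatorElement

section

variable {G : Type*} [Group G] [Finite G]

private theorem quot_ten {Q : Type*} [Group Q] [Finite Q] (hQ : Nat.card Q = 10) :
    Group.IsSolvable Q ∧ ∀ a b : Q, ⁅a, b⁆ ≠ 1 → orderOf ⁅a, b⁆ = 5 := by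
  have h5 : Fact (Nat.Prime 5) := ⟨by norm_num⟩
  obtain ⟨P⟩ : Nonempty (Sylow 5 Q) := inferInstance
  have hPc : Nat.card P = 5 := by
    rw [P.card_eq_multiplicity, hQ]
    norm_num [show (10 : ℕ).factorization 5 = 1 by
      rw [show (10 : ℕ) = 2 * 5 by norm_num, Nat.factorization_mul (by norm_num) (by norm_num)]
      simp [Nat.Prime.factorization Nat.prime_two, Nat.Prime.factorization h5.out]]
  have hidx : (P : Subgroup Q).index = 2 := by
    have h := (P : Subgroup Q).card_mul_index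
    rw [hQ, show Nat.card ↥(P : Subgroup Q) = 5 from hPc] at h
    omega
  have hn := Subgroup.normal_of_index_eq_two hidx
  have hc : IsMulCommutative (Q ⧸ (P : Subgroup Q)) := by
    have h2 : Nat.card (Q ⧸ (P : Subgroup Q)) = 2 := by rw [← index_eq_card]; exact hidx
    have := isCyclic_of_prime_card (α := Q ⧸ (P : Subgroup Q)) (p := 2) h2
    exact IsMulCommutative.mk ⟨IsCyclic.commGroup.mul_comm⟩
  have hle := Normal.quotient_commutative_iff_commutator_le.1 hc
  refine ⟨?_, fun a b hab => ?_⟩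
  · have : IsCyclic ↥(P : Subgroup Q) := isCyclic_of_prime_card (p := 5) hPc
    have h1 : Group.IsSolvable ↥(P : Subgroup Q) :=
      Group.isSolvable_of_comm fun a b => IsCyclic.commGroup.mul_comm a b
    have h2 : Group.IsSolvable (Q ⧸ (P : Subgroup Q)) :=
      Group.isSolvable_of_comm fun a b => hc.is_comm.comm a b
    exact Group.isSolvable_of_ker_le_range (P : Subgroup Q).subtype (QuotientGroup.mk' (P : Subgroup Q))
      (by rw [QuotientGroup.ker_mk', range_subtype])
  · have hm : ⁅a, b⁆ ∈ (P : Subgroup Q) :=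
      hle (by rw [commutator_def]; exact commutator_mem_commutator (mem_top a) (mem_top b))
    have := orderOf_dvd_natCard (⟨⁅a, b⁆, hm⟩ : ↥(P : Subgroup Q))
    rw [hPc, ← Subgroup.orderOf_coe] at this
    rcases (Nat.dvd_prime h5.out).1 this with h | h
    · exact absurd (orderOf_eq_one_iff.1 h) hab
    · exact h

private theorem fixed_mod_five {H : Subgroup G} [H.Normal] (h32 : Nat.card H = 32)
    (hcen : ¬ ∃ c : G, orderOf c = 5 ∧ c ∈ centralizer (H : Set G))
    {c : G} (hc : orderOf c = 5) (h2 : 2 ≤ Nat.card ↥(H ⊓ centralizer ({c} : Set G))) :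
    Nat.card ↥(H ⊓ centralizer ({c} : Set G)) = 2 := by
  have h5 : Fact (Nat.Prime 5) := ⟨by norm_num⟩
  let φ : ↥(zpowers c) →* MulAut H := MulAut.conjNormal.comp (zpowers c).subtype
  let inst : MulAction ↥(zpowers c) H := MulAction.compHom H φ
  have hp : IsPGroup 5 ↥(zpowers c) := IsPGroup.of_card (n := 1) (by rw [Nat.card_zpowers, hc, pow_one])
  have hmod := hp.card_modEq_card_fixedPoints H
  rw [h32] at hmod
  have hact : ∀ (g : ↥(zpowers c)) (h : H), ((g • h : H) : G) = (g : G) * (h : G) * (g : G)⁻¹ :=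
    fun g h => MulAut.conjNormal_apply _ _
  have he : Nat.card (MulAction.fixedPoints ↥(zpowers c) H) =
      Nat.card ↥(H ⊓ centralizer ({c} : Set G)) := by
    refine Nat.card_congr
      { toFun := fun h => ⟨(h.1 : G), h.1.2, mem_centralizer_singleton_iff.2 ?_⟩
        invFun := fun h => ⟨⟨h.1, h.2.1⟩, fun g => ?_⟩
        left_inv := fun _ => rfl
        right_inv := fun _ => rfl }
    · have := congrArg Subtype.val (h.2 ⟨c, mem_zpowers c⟩)
      rw [hact] at this
      exact (mul_inv_eq_iff_eq_mul.1 this).symm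
    · apply Subtype.ext
      rw [hact]
      obtain ⟨i, hi⟩ := mem_zpowers_iff.1 g.2
      have hcomm : Commute c (h.1 : G) := (mem_centralizer_singleton_iff.1 h.2.2).symm
      show (g : G) * h.1 * (g : G)⁻¹ = h.1
      rw [← hi, (hcomm.zpow_left i).eq, mul_inv_cancel_right]
  rw [he] at hmod
  have hd : Nat.card ↥(H ⊓ centralizer ({c} : Set G)) ∣ 2 ^ 5 := by
    rw [show (2 : ℕ) ^ 5 = 32 by norm_num, ← h32]; exact card_dvd_of_le inf_le_left
  obtain ⟨k, hk, hk'⟩ := (Nat.dvd_prime_pow Nat.prime_two).1 hd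
  rw [hk'] at hmod h2 ⊢
  interval_cases k
  · norm_num at h2
  · norm_num
  · norm_num [Nat.ModEq] at hmod
  · norm_num [Nat.ModEq] at hmod
  · norm_num [Nat.ModEq] at hmod
  · exfalso
    refine hcen ⟨c, hc, mem_centralizer_iff.2 fun h hh => ?_⟩
    have heq : H ⊓ centralizer ({c} : Set G) = H := eq_of_le_of_card_ge inf_le_left (by rw [hk', h32]; norm_num)
    exact mem_centralizer_singleton_iff.1 (heq.ge hh).2

/-- Elements of `H` fixed by `a` modulo `Z`. -/
private def fixMod (H Z : Subgroup G) [H.Normal] [Z.Normal] (a : G) : Subgroup G :=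
  H ⊓ (centralizer ({(a : G ⧸ Z)} : Set (G ⧸ Z))).comap (QuotientGroup.mk' Z)

private theorem mem_fixMod {H Z : Subgroup G} [H.Normal] [Z.Normal] {a x : G} :
    x ∈ fixMod H Z a ↔ x ∈ H ∧ x⁻¹ * (a * x * a⁻¹) ∈ Z := by
  rw [fixMod, mem_inf, mem_comap, mem_centralizer_singleton_iff]
  refine and_congr Iff.rfl ?_
  rw [← QuotientGroup.eq_one_iff (N := Z)]
  simp only [QuotientGroup.mk'_apply, QuotientGroup.mk_mul, QuotientGroup.mk_inv]
  rw [inv_mul_eq_one, eq_mul_inv_iff_mul_eq]

end

/-- Let G be a finite group of order 320 = 64·5 whose largest normal 2-subgroup H = O₂(G) equals the Fitting subgroup F(G) and is extraspecial of order 32 containing no elementary abelian subgroup of order 8 (so H is the central product of a quaternion group and a dihedral group of order 8). If T is an involution of G outside H whose centralizer in H contains an elementary abelian subgroup of order 4, then C_H(T) itself is elementary abelian of order 4. -/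
theorem result {G : Type*} [Group G] [Finite G]
    (hG : Nat.card G = 320) (hHF : Cfsg.pCore 2 G = Cfsg.fittingSubgroup G)
    (hex : Cfsg.IsExtraspecial 2 ↥(Cfsg.pCore 2 G)) (h32 : Nat.card ↥(Cfsg.pCore 2 G) = 32)
    (hminus : ∀ A : Subgroup G, A ≤ Cfsg.pCore 2 G → Cfsg.IsElementaryAbelian 2 A → Nat.card ↥A ≤ 4)
    (T : G) (hT : orderOf T = 2) (hTH : T ∉ Cfsg.pCore 2 G)
    (V : Subgroup G) (hV : V ≤ Cfsg.pCore 2 G ⊓ Subgroup.centralizer ({T} : Set G)) (hV4 : Nat.card ↥V = 4) (hVe : Cfsg.IsElementaryAbelian 2 V) :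
    Nat.card ↥(Cfsg.pCore 2 G ⊓ Subgroup.centralizer ({T} : Set G)) = 4 ∧
      Cfsg.IsElementaryAbelian 2 (Cfsg.pCore 2 G ⊓ Subgroup.centralizer ({T} : Set G)) := by
  classical
  have h5 : Fact (Nat.Prime 5) := ⟨by norm_num⟩
  have : Fact (Nat.Prime 2) := ⟨Nat.prime_two⟩
  set H : Subgroup G := Cfsg.pCore 2 G with hH
  have hHn : H.Normal := by rw [hH]; exact CfsgLib.Solvable.pCore_normal 2
  have hQ : Nat.card (G ⧸ H) = 10 := by
    have := H.card_mul_index
    rw [h32, hG, Subgroup.index_eq_card] at this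
    omega
  obtain ⟨hQs, hQc⟩ := quot_ten hQ
  have hHp : IsPGroup 2 H := CfsgLib.PLocal.isPGroup_pCore 2 G
  have hsolv : Group.IsSolvable G := by
    have := hHp.isNilpotent
    exact Group.isSolvable_of_ker_le_range H.subtype (QuotientGroup.mk' H)
      (by rw [QuotientGroup.ker_mk', range_subtype])
  have hCF : centralizer (H : Set G) ≤ H := by
    rw [hHF]; exact CfsgLib.Solvable.centralizer_fittingSubgroup_le
  have hcen : ¬ ∃ c : G, orderOf c = 5 ∧ c ∈ centralizer (H : Set G) := by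
    rintro ⟨c, hc, hcC⟩
    have := orderOf_dvd_natCard (⟨c, hCF hcC⟩ : H)
    rw [← Subgroup.orderOf_coe, hc, h32] at this
    norm_num at this
  let Z : Subgroup G := (center ↥H).map H.subtype
  have hZn : Z.Normal := ConjAct.normal_of_characteristic_of_normal
  have hZ2 : Nat.card Z = 2 := by
    rw [← hex.2]; exact Nat.card_congr ((center ↥H).equivMapOfInjective H.subtype H.subtype_injective).toEquiv.symm
  have hZH : Z ≤ H := map_subtype_le _
  -- `Z` is central
  have hZc : ∀ g : G, ∀ w ∈ Z, g * w = w * g := by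
    intro g w hw
    rcases eq_or_ne w 1 with rfl | hw1
    · simp
    have hw' : g * w * g⁻¹ ∈ Z := hZn.conj_mem w hw g
    obtain ⟨u, v, huv, huniv⟩ := Nat.card_eq_two_iff.1 hZ2
    have key : ∀ a b : Z, (a : G) ≠ 1 → (b : G) ≠ 1 → a = b := by
      intro a b ha hb
      have h1 : (1 : Z) = u ∨ (1 : Z) = v := by
        have := huniv.ge (Set.mem_univ (1 : Z)); simpa using this
      have h2 : a = u ∨ a = v := by have := huniv.ge (Set.mem_univ a); simpa using this
      have h3 : b = u ∨ b = v := by have := huniv.ge (Set.mem_univ b); simpa using this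
      have ha' : a ≠ 1 := fun h => ha (by simp [h])
      have hb' : b ≠ 1 := fun h => hb (by simp [h])
      rcases h1 with rfl | rfl <;> rcases h2 with rfl | rfl <;> rcases h3 with rfl | rfl <;>
        first | rfl | exact absurd rfl ha' | exact absurd rfl hb'
    have := congrArg Subtype.val (key ⟨g * w * g⁻¹, hw'⟩ ⟨w, hw⟩ (by simpa using hw1) hw1)
    exact mul_inv_eq_iff_eq_mul.1 this
  have hZsq : ∀ w ∈ Z, w * w = 1 := by
    intro w hw
    have := pow_card_eq_one' (x := (⟨w, hw⟩ : Z))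
    rw [hZ2, pow_two] at this
    exact congrArg Subtype.val this
  -- an element of order five fixes only `Z` modulo `Z`
  have hfix5 : ∀ c : G, orderOf c = 5 → ∀ x ∈ H, x⁻¹ * (c * x * c⁻¹) ∈ Z → x ∈ Z := by
    intro c hc x hx hxz
    have hZD : Z ≤ H ⊓ centralizer ({c} : Set G) :=
      le_inf hZH fun w hw => mem_centralizer_singleton_iff.2 (hZc c w hw).symm
    have hD := fixed_mod_five h32 hcen hc (hZ2.ge.trans (Nat.card_mono (Set.toFinite _) hZD))
    have heq : Z = H ⊓ centralizer ({c} : Set G) := eq_of_le_of_card_ge hZD (by rw [hD, hZ2])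
    obtain ⟨w, hw⟩ : ∃ w, w = x⁻¹ * (c * x * c⁻¹) := ⟨_, rfl⟩
    have hwZ : w ∈ Z := hw ▸ hxz
    have hpow : ∀ i : ℕ, c ^ i * x * (c ^ i)⁻¹ = x * w ^ i := by
      intro i
      induction i with
      | zero => simp
      | succ i ih =>
        calc c ^ (i + 1) * x * (c ^ (i + 1))⁻¹ = c * (c ^ i * x * (c ^ i)⁻¹) * c⁻¹ := by
              rw [pow_succ']; group
          _ = c * (x * w ^ i) * c⁻¹ := by rw [ih]
          _ = c * x * c⁻¹ * w ^ i := by
            rw [mul_assoc (c * x), hZc c⁻¹ _ (pow_mem hwZ i)]; group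
          _ = x * w ^ (i + 1) := by
            rw [show c * x * c⁻¹ = x * w by rw [hw]; group, pow_succ']; group
    have h0 := hpow 5
    rw [← hc, pow_orderOf_eq_one, hc] at h0
    have hw5 : w ^ 5 = w := by
      rw [show 5 = 2 * 2 + 1 by norm_num, pow_succ, pow_mul, pow_two w, hZsq w hwZ]; simp
    rw [hw5, inv_one, mul_one, one_mul, left_eq_mul] at h0
    rw [heq]
    refine ⟨hx, mem_centralizer_singleton_iff.2 ?_⟩
    rw [h0, eq_comm, inv_mul_eq_one, eq_mul_inv_iff_mul_eq] at hw
    exact hw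
  have hT1 : (T : G ⧸ H) ≠ 1 := fun h => hTH ((QuotientGroup.eq_one_iff T).1 h)
  have hTT : T * T = 1 := by rw [← pow_two, ← hT, pow_orderOf_eq_one]
  have hTinv : T⁻¹ = T := inv_eq_of_mul_eq_one_right hTT
  obtain ⟨g, hg⟩ : ∃ g : G, ⁅g, T⁆ ∉ H := by
    by_contra hall
    push Not at hall
    have hn : (H ⊔ zpowers T).Normal := by
      refine ⟨fun w hw g => ?_⟩
      have hmap : (H ⊔ zpowers T).map (MulAut.conj g).toMonoidHom ≤ H ⊔ zpowers T := by
        rw [Subgroup.map_sup, sup_le_iff]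
        refine ⟨fun v hv => ?_, ?_⟩
        · obtain ⟨u, hu, rfl⟩ := hv
          exact mem_sup_left (hHn.conj_mem u hu g)
        · rw [MonoidHom.map_zpowers, zpowers_le]
          show g * T * g⁻¹ ∈ _
          have he : g * T * g⁻¹ = ⁅g, T⁆ * T := by rw [commutatorElement_def]; group
          rw [he]
          exact mul_mem (mem_sup_left (hall g)) (mem_sup_right (mem_zpowers T))
      exact hmap ⟨w, hw, rfl⟩
    have hp : IsPGroup 2 ↥(H ⊔ zpowers T) :=
      hHp.to_sup_of_normal_left (IsPGroup.of_card (n := 1) (by rw [Nat.card_zpowers, hT, pow_one]))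
    exact hTH (CfsgLib.PLocal.le_pCore hp (mem_sup_right (mem_zpowers T)))
  obtain ⟨a, ha⟩ : ∃ a, a = ⁅g, T⁆ := ⟨_, rfl⟩
  have ha5 : orderOf (a : G ⧸ H) = 5 := by
    have : (a : G ⧸ H) = ⁅(g : G ⧸ H), (T : G ⧸ H)⁆ := by
      rw [ha]; exact map_commutatorElement (QuotientGroup.mk' H) g T
    rw [this]
    refine hQc _ _ fun h => ?_
    rw [← this, QuotientGroup.eq_one_iff, ha] at h
    exact hg h
  obtain ⟨m, hm⟩ : 5 ∣ orderOf a := ha5 ▸ orderOf_map_dvd (QuotientGroup.mk' H) a
  have hm0 : m ≠ 0 := by rintro rfl; simp [(orderOf_pos a).ne'] at hm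
  have hc5 : orderOf (a ^ m) = 5 := by
    rw [orderOf_pow' a hm0, hm, Nat.gcd_eq_right (Dvd.intro_left 5 rfl), Nat.mul_div_cancel _ (by omega)]
  -- fixed points of `T` and its conjugate
  set F := fixMod H Z T with hF
  set T' := g * T * g⁻¹ with hT'
  set F' := fixMod H Z T' with hF'
  have hint : F ⊓ F' ≤ Z := by
    intro x hx
    have h1 := mem_fixMod.1 hx.1
    have h2 := mem_fixMod.1 hx.2
    have hq : ∀ b : G, x⁻¹ * (b * x * b⁻¹) ∈ Z → Commute (b : G ⧸ Z) (x : G ⧸ Z) := by
      intro b hb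
      rw [← QuotientGroup.eq_one_iff, QuotientGroup.mk_mul, QuotientGroup.mk_mul, QuotientGroup.mk_mul,
        QuotientGroup.mk_inv, QuotientGroup.mk_inv, inv_mul_eq_one, eq_mul_inv_iff_mul_eq] at hb
      exact hb.symm
    have hax : Commute ((a ^ m : G) : G ⧸ Z) (x : G ⧸ Z) := by
      have : (a : G) = T' * T := by rw [ha, hT', commutatorElement_def, hTinv]
      rw [QuotientGroup.mk_pow, this, QuotientGroup.mk_mul]
      exact ((hq T' h2.2).mul_left (hq T h1.2)).pow_left m
    refine hfix5 _ hc5 x h1.1 ?_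
    rw [← QuotientGroup.eq_one_iff, QuotientGroup.mk_mul, QuotientGroup.mk_mul, QuotientGroup.mk_mul,
      QuotientGroup.mk_inv, QuotientGroup.mk_inv, inv_mul_eq_one, eq_mul_inv_iff_mul_eq]
    exact hax.symm
  have hFF' : F' = F.map (MulAut.conj g).toMonoidHom := by
    ext x
    rw [mem_map]
    constructor
    · intro hx
      obtain ⟨hxH, hxZ⟩ := mem_fixMod.1 hx
      refine ⟨g⁻¹ * x * g, mem_fixMod.2 ⟨?_, ?_⟩, by simp [mul_assoc]⟩
      · simpa using hHn.conj_mem x hxH g⁻¹
      · have := hZn.conj_mem _ hxZ g⁻¹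
        convert this using 1
        rw [hT']; group
    · rintro ⟨y, hy, rfl⟩
      obtain ⟨hyH, hyZ⟩ := mem_fixMod.1 hy
      refine mem_fixMod.2 ⟨hHn.conj_mem y hyH g, ?_⟩
      have := hZn.conj_mem _ hyZ g
      convert this using 1
      show (g * y * g⁻¹)⁻¹ * (T' * (g * y * g⁻¹) * T'⁻¹) = _
      rw [hT']; group
  have hFc : Nat.card F ≤ 8 := by
    have hinj : Function.Injective (fun t : (↥F) × ↥F' ⧸ (Z.subgroupOf F') => (t.1 : G) * ((t.2.out : F') : G)) := by
      rintro ⟨u, q⟩ ⟨u', q'⟩ h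
      dsimp only at h
      have h' : (u' : G)⁻¹ * u = ((q'.out : F') : G) * ((q.out : F') : G)⁻¹ := by
        rw [eq_mul_inv_iff_mul_eq, mul_assoc, inv_mul_eq_iff_eq_mul]; exact h
      have hmem : (u' : G)⁻¹ * u ∈ Z := hint (mem_inf.2 ⟨F.mul_mem (F.inv_mem u'.2) u.2,
        h' ▸ F'.mul_mem q'.out.2 (F'.inv_mem q.out.2)⟩)
      have hq : q = q' := by
        rw [← q.out_eq, ← q'.out_eq]
        refine QuotientGroup.eq.2 (mem_subgroupOf.2 ?_)
        have e1 : ((q'.out : F') : G) = ((u' : G)⁻¹ * u) * ((q.out : F') : G) := by rw [h']; group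
        rw [Subgroup.coe_mul, Subgroup.coe_inv, e1, ← hZc ((q.out : F') : G) _ hmem,
          inv_mul_cancel_left]
        exact hmem
      subst hq
      simp only [mul_left_inj, SetLike.coe_eq_coe] at h
      rw [h]
    have hle : Nat.card (↥F × ↥F' ⧸ (Z.subgroupOf F')) ≤ Nat.card H :=
      Nat.card_le_card_of_injective (fun t => (⟨_, mul_mem (mem_fixMod.1 t.1.2).1
        (mem_fixMod.1 t.2.out.2).1⟩ : H)) fun a b h => hinj (congrArg Subtype.val h)
    have hZF' : Z ≤ F' := fun w hw => mem_fixMod.2 ⟨hZH hw, by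
      rw [hZc T' w hw, mul_inv_cancel_right, inv_mul_cancel]; exact one_mem _⟩
    have e1 := (Z.subgroupOf F').card_mul_index
    rw [Subgroup.index_eq_card, Nat.card_congr (subgroupOfEquivOfLe hZF').toEquiv, hZ2] at e1
    have e2 : Nat.card F' = Nat.card F := by
      rw [hFF']; exact Nat.card_congr (F.equivMapOfInjective _ (MulAut.conj g).injective).toEquiv.symm
    rw [Nat.card_prod, h32] at hle
    nlinarith
  set C := H ⊓ centralizer ({T} : Set G) with hC
  have hCF' : C ≤ F := fun x hx => mem_fixMod.2 ⟨hx.1, by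
    rw [← (mem_centralizer_singleton_iff.1 hx.2), mul_inv_cancel_right, inv_mul_cancel]; exact one_mem _⟩
  have hVC : V ≤ C := hV
  suffices hC4 : Nat.card C ≤ 4 by
    have : V = C := eq_of_le_of_card_ge hVC (by rw [hV4]; exact hC4)
    exact ⟨this ▸ hV4, this ▸ hVe⟩
  by_contra hgt
  push Not at hgt
  have hd : Nat.card C ∣ 2 ^ 5 := by
    rw [show (2 : ℕ) ^ 5 = 32 by norm_num, ← h32]; exact card_dvd_of_le inf_le_left
  obtain ⟨k, hk, hk'⟩ := (Nat.dvd_prime_pow Nat.prime_two).1 hd
  have hC8' : Nat.card C ≤ 8 := (Nat.card_mono (Set.toFinite _) hCF').trans hFc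
  have hk3 : k = 3 := by
    rw [hk'] at hgt hC8'
    interval_cases k <;> omega
  have hC8 : Nat.card C = 8 := by rw [hk', hk3]; norm_num
  have hFC : C = F := eq_of_le_of_card_ge hCF' (by omega)
  -- every element of `C` squares to one
  let D : G → G := fun x => x⁻¹ * (T * x * T)
  have hHsq : ∀ x ∈ H, x * x ∈ Z := fun x hx =>
    ⟨(⟨x, hx⟩ : H) ^ 2, CfsgLib.ExtraspecialBasic.pow_mem_center hex _, by simp [pow_two]⟩
  have hD : ∀ x ∈ H, D x ∈ C ∧ D x * D x = 1 := by
    intro x hx
    have hDH : D x ∈ H := mul_mem (inv_mem hx) (by have := hHn.conj_mem x hx T; rwa [hTinv] at this)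
    have hTD : T * D x * T = (D x)⁻¹ := by
      show T * (x⁻¹ * (T * x * T)) * T = (x⁻¹ * (T * x * T))⁻¹
      rw [mul_inv_rev, inv_inv, mul_inv_rev, mul_inv_rev, hTinv]
      simp only [mul_assoc, hTT, mul_one]
    have hDF : D x ∈ F := mem_fixMod.2 ⟨hDH, by
      rw [hTinv, hTD, ← mul_inv_rev]; exact inv_mem (hHsq _ hDH)⟩
    rw [← hFC] at hDF
    refine ⟨hDF, ?_⟩
    have hc := mem_centralizer_singleton_iff.1 hDF.2
    rw [← hc, mul_assoc, hTT, mul_one] at hTD
    exact eq_inv_iff_mul_eq_one.1 hTD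
  have hCsq : ∀ w ∈ C, w * w = 1 := by
    -- the cosets of `F` map injectively into `C / Z`
    intro w hw
    obtain ⟨x, hx, hxw⟩ : ∃ x ∈ H, (D x)⁻¹ * w ∈ Z := by
      let f : ↥H → ↥C ⧸ Z.subgroupOf C := fun x => QuotientGroup.mk ⟨D x, (hD x x.2).1⟩
      suffices hs : Function.Surjective f by
        obtain ⟨x, hx⟩ := hs (QuotientGroup.mk ⟨w, hw⟩)
        exact ⟨x, x.2, mem_subgroupOf.1 (QuotientGroup.eq.1 hx)⟩
      classical
      have : Fintype ↥H := Fintype.ofFinite _
      have : Fintype (↥C ⧸ Z.subgroupOf C) := Fintype.ofFinite _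
      have hfib : ∀ q ∈ Finset.univ.image f, (Finset.univ.filter fun x => f x = q).card ≤ 8 := by
        intro q hq'
        obtain ⟨y, -, rfl⟩ := Finset.mem_image.1 hq'
        have : ∀ x : ↥H, f x = f y → (x : G) * (y : G)⁻¹ ∈ F := by
          intro x hxy
          have h := mem_subgroupOf.1 (QuotientGroup.eq.1 hxy.symm)
          have h1 : (D y)⁻¹ * D x ∈ Z := h
          refine mem_fixMod.2 ⟨mul_mem x.2 (inv_mem y.2), ?_⟩
          have hxy' : ((T : G) : G ⧸ Z) * ((x : G) * (y : G)⁻¹ : G) * ((T : G) : G ⧸ Z)⁻¹ = ((x : G) * (y : G)⁻¹ : G) := by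
            rw [← QuotientGroup.mk_inv, hTinv]
            rw [← QuotientGroup.eq_one_iff] at h1
            simp only [D, QuotientGroup.mk_mul, QuotientGroup.mk_inv, inv_mul_eq_one] at h1
            simp only [QuotientGroup.mk_mul, QuotientGroup.mk_inv]
            have hTTq : (T : G ⧸ Z) * T = 1 := by rw [← QuotientGroup.mk_mul, hTT, QuotientGroup.mk_one]
            have e := congrArg (fun v => ((y : G) : G ⧸ Z) * v) h1
            simp only [mul_inv_cancel_left] at e
            calc (T : G ⧸ Z) * (((x : G) : G ⧸ Z) * ((y : G) : G ⧸ Z)⁻¹) * T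
                = ((T : G ⧸ Z) * ((x : G) : G ⧸ Z) * T) * ((T : G ⧸ Z) * ((y : G) : G ⧸ Z) * T)⁻¹ := by
                  simp only [mul_inv_rev, inv_eq_of_mul_eq_one_right hTTq, mul_assoc]
                  rw [← mul_assoc (T : G ⧸ Z) T, hTTq, one_mul]
              _ = _ := by rw [e]; group
          rw [← QuotientGroup.eq_one_iff, QuotientGroup.mk_mul, QuotientGroup.mk_inv, inv_mul_eq_one]
          exact hxy'.symm
        refine (Finset.card_le_card_of_injOn (t := (Set.toFinite (F : Set G)).toFinset)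
          (fun x : ↥H => (x : G) * (y : G)⁻¹) (fun x hx => by simpa using this x (Finset.mem_filter.1 hx).2)
          (fun x _ x' _ h => Subtype.ext (by simpa using h))).trans ?_
        rw [← Set.ncard_eq_toFinset_card _ (Set.toFinite _)]
        exact hFc
      have hcnt := Finset.card_le_mul_card_image (s := Finset.univ) (f := f) 8 hfib
      have e1 := (Z.subgroupOf C).card_mul_index
      have hZC : Z ≤ C := le_inf hZH fun u hu => mem_centralizer_singleton_iff.2 (hZc T u hu).symm
      rw [Subgroup.index_eq_card, Nat.card_congr (subgroupOfEquivOfLe hZC).toEquiv, hZ2, hC8] at e1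
      rw [Finset.card_univ, ← Nat.card_eq_fintype_card, h32] at hcnt
      have : (Finset.univ.image f) = Finset.univ := Finset.eq_univ_of_card _ (by
        rw [← Nat.card_eq_fintype_card]
        have := Finset.card_le_univ (Finset.univ.image f)
        rw [← Nat.card_eq_fintype_card] at this
        omega)
      intro q
      obtain ⟨x, -, hx⟩ := Finset.mem_image.1 (this.ge (Finset.mem_univ q))
      exact ⟨x, hx⟩
    obtain ⟨u, hu, rfl⟩ : ∃ u ∈ Z, w = D x * u := ⟨_, hxw, by group⟩
    rw [mul_assoc, ← mul_assoc u, ← hZc (D x) u hu, mul_assoc (D x) u u, hZsq u hu, mul_one, (hD x hx).2]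
  have hCe : Cfsg.IsElementaryAbelian 2 C :=
    ⟨⟨⟨fun a b => Subtype.ext (by
        have ha := hCsq _ a.2
        have hb := hCsq _ b.2
        have hab := hCsq _ (mul_mem a.2 b.2)
        show (a : G) * b = b * a
        calc (a : G) * b = ((a : G) * b)⁻¹ := (inv_eq_of_mul_eq_one_right hab).symm
          _ = b * a := by rw [mul_inv_rev, inv_eq_of_mul_eq_one_right hb, inv_eq_of_mul_eq_one_right ha])⟩⟩,
      fun w hw => by rw [pow_two]; exact hCsq w hw⟩
  have := hminus C inf_le_left hCe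
  omega

end Cfsg.Agent.S4405
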