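import Cfsg.Statements.S4406
-- import your own Cfsg.Agent.* helpers here

set_option autoImplicit false
open Cfsg

namespace Cfsg.Agent.S4406

abbrev A4 := ↥(alternatingGroup (Fin 4))

theorem a4_sq_of_pow_eight : ∀ x : A4, x ^ 4 = 1 → x ^ 2 = 1 := by decide +kernel

/-- One of the two diagonal rotations fixes the four-group spanned by the pairs. -/
def okPair (g h b₁ c₁ b₂ c₂ : A4) : Bool :=
    ((((g * b₁ * g⁻¹ == b₁ && h * b₂ * h⁻¹ == b₂) || (g * b₁ * g⁻¹ == c₁ && h * b₂ * h⁻¹ == c₂) ||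
        (g * b₁ * g⁻¹ == b₁ * c₁ && h * b₂ * h⁻¹ == b₂ * c₂)) &&
      ((g * c₁ * g⁻¹ == b₁ && h * c₂ * h⁻¹ == b₂) || (g * c₁ * g⁻¹ == c₁ && h * c₂ * h⁻¹ == c₂) ||
        (g * c₁ * g⁻¹ == b₁ * c₁ && h * c₂ * h⁻¹ == b₂ * c₂))) ||
    (((g * b₁ * g⁻¹ == b₁ && h⁻¹ * b₂ * h == b₂) || (g * b₁ * g⁻¹ == c₁ && h⁻¹ * b₂ * h == c₂) ||
        (g * b₁ * g⁻¹ == b₁ * c₁ && h⁻¹ * b₂ * h == b₂ * c₂)) &&
      ((g * c₁ * g⁻¹ == b₁ && h⁻¹ * c₂ * h == b₂) || (g * c₁ * g⁻¹ == c₁ && h⁻¹ * c₂ * h == c₂) ||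
        (g * c₁ * g⁻¹ == b₁ * c₁ && h⁻¹ * c₂ * h == b₂ * c₂))))

theorem a4_rotation_finset :
    ∀ g ∈ (Finset.univ.filter fun g : A4 => g ^ 3 = 1 ∧ g ≠ 1),
    ∀ h ∈ (Finset.univ.filter fun g : A4 => g ^ 3 = 1 ∧ g ≠ 1),
    ∀ b₁ ∈ (Finset.univ.filter fun g : A4 => g ^ 2 = 1 ∧ g ≠ 1),
    ∀ c₁ ∈ (Finset.univ.filter fun g : A4 => g ^ 2 = 1 ∧ g ≠ 1 ∧ g ≠ b₁),
    ∀ b₂ ∈ (Finset.univ.filter fun g : A4 => g ^ 2 = 1 ∧ g ≠ 1),
    ∀ c₂ ∈ (Finset.univ.filter fun g : A4 => g ^ 2 = 1 ∧ g ≠ 1 ∧ g ≠ b₂),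
    okPair g h b₁ c₁ b₂ c₂ = true := by
  decide +kernel

theorem card_A4 : Nat.card A4 = 12 := by
  rw [Nat.card_eq_fintype_card]
  decide +kernel

theorem card_three_subgroup (K : Subgroup A4) (h3 : IsPGroup 3 ↥K) : Nat.card K ≤ 3 := by
  haveI : Fact (Nat.Prime 3) := ⟨Nat.prime_three⟩
  obtain ⟨k, hk⟩ := IsPGroup.iff_card.1 h3
  have hd : Nat.card K ∣ 12 := card_A4 ▸ K.card_subgroup_dvd_card
  rw [hk] at hd ⊢
  rcases k with _ | _ | k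
  · norm_num
  · norm_num
  · exfalso
    have : 3 ^ 2 ∣ 12 := (pow_dvd_pow 3 (by omega)).trans hd
    norm_num at this

/-- A subgroup of order 9 contains the two rotations. -/
theorem exists_rotations (Q : Sylow 3 (A4 × A4)) :
    ∃ g h : A4, g ^ 3 = 1 ∧ g ≠ 1 ∧ h ^ 3 = 1 ∧ h ≠ 1 ∧
      ((g, 1) : A4 × A4) ∈ (Q : Subgroup _) ∧ ((1, h) : A4 × A4) ∈ (Q : Subgroup _) := by
  haveI : Fact (Nat.Prime 3) := ⟨Nat.prime_three⟩
  have hQ : Nat.card ↥(Q : Subgroup (A4 × A4)) = 9 := by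
    rw [Q.card_eq_multiplicity, Nat.card_prod, card_A4]
    have h144 : (12 * 12 : ℕ).factorization 3 = 2 := by
      rw [show (12 * 12 : ℕ) = 16 * 3 ^ 2 by norm_num, Nat.factorization_mul (by norm_num) (by norm_num),
        Finsupp.add_apply, Nat.factorization_eq_zero_of_not_dvd (by norm_num),
        Nat.Prime.factorization_pow Nat.prime_three]
      simp
    rw [h144]
    norm_num
  let K₁ := (Q : Subgroup (A4 × A4)).map (MonoidHom.fst A4 A4)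
  let K₂ := (Q : Subgroup (A4 × A4)).map (MonoidHom.snd A4 A4)
  have hle : (Q : Subgroup (A4 × A4)) ≤ K₁.prod K₂ := fun x hx =>
    ⟨⟨x, hx, rfl⟩, ⟨x, hx, rfl⟩⟩
  have h1 := card_three_subgroup K₁ (Q.isPGroup'.map _)
  have h2 := card_three_subgroup K₂ (Q.isPGroup'.map _)
  have hc : Nat.card (K₁.prod K₂ : Subgroup (A4 × A4)) = Nat.card K₁ * Nat.card K₂ := by
    rw [Nat.card_congr (Subgroup.prodEquiv K₁ K₂).toEquiv, Nat.card_prod]
  have h9 : 9 ≤ Nat.card K₁ * Nat.card K₂ := hc ▸ hQ ▸ Subgroup.card_le_of_le hle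
  have heq : (Q : Subgroup (A4 × A4)) = K₁.prod K₂ :=
    Subgroup.eq_of_le_of_card_ge hle (by rw [hQ, hc]; exact Nat.mul_le_mul h1 h2)
  have hK : ∀ K : Subgroup A4, Nat.card K = 3 → ∃ g ∈ K, g ^ 3 = 1 ∧ g ≠ 1 := by
    intro K hK
    have : K ≠ ⊥ := fun h => by simp [h] at hK
    obtain ⟨⟨g, hg⟩, hg'⟩ := K.ne_bot_iff_exists_ne_one.1 this
    have hg1 : g ≠ 1 := fun h => hg' (Subtype.ext h)
    refine ⟨g, hg, ?_, hg1⟩
    have := pow_card_eq_one' (x := (⟨g, hg⟩ : K))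
    rw [hK] at this
    exact congrArg Subtype.val this
  obtain ⟨g, hgK, hg⟩ := hK K₁ (by nlinarith)
  obtain ⟨h, hhK, hh⟩ := hK K₂ (by nlinarith)
  exact ⟨g, h, hg.1, hg.2, hh.1, hh.2, heq ▸ ⟨hgK, one_mem _⟩, heq ▸ ⟨one_mem _, hhK⟩⟩

/-- In the direct product P = A₄ × A₄, let X be the Sylow 2-subgroup, X₁ and X₂ its intersections with the two direct factors, Q a Sylow 3-subgroup and Q₁, Q₂ its intersections with the two factors. Then every subgroup B of X of order 4 either meets X₁ or X₂ nontrivially, or is normalized by one of the two subgroups of Q of order 3 other than Q₁ and Q₂. -/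
theorem result
    (X : Sylow 2 (↥(alternatingGroup (Fin 4)) × ↥(alternatingGroup (Fin 4))))
    (Q : Sylow 3 (↥(alternatingGroup (Fin 4)) × ↥(alternatingGroup (Fin 4))))
    (B : Subgroup (↥(alternatingGroup (Fin 4)) × ↥(alternatingGroup (Fin 4)))) (hBX : B ≤ (X : Subgroup _)) (hB4 : Nat.card ↥B = 4) :
    B ⊓ ((X : Subgroup _) ⊓ Subgroup.prod ⊤ ⊥) ≠ ⊥ ∨ B ⊓ ((X : Subgroup _) ⊓ Subgroup.prod ⊥ ⊤) ≠ ⊥ ∨
      ∃ R : Subgroup (↥(alternatingGroup (Fin 4)) × ↥(alternatingGroup (Fin 4))), R ≤ (Q : Subgroup _) ∧ Nat.card ↥R = 3 ∧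
        R ≠ (Q : Subgroup _) ⊓ Subgroup.prod ⊤ ⊥ ∧ R ≠ (Q : Subgroup _) ⊓ Subgroup.prod ⊥ ⊤ ∧ R ≤ Subgroup.normalizer (B : Set _) := by
  classical
  by_cases h1 : B ⊓ ((X : Subgroup (A4 × A4)) ⊓ Subgroup.prod ⊤ ⊥) ≠ ⊥
  · exact Or.inl h1
  by_cases h2 : B ⊓ ((X : Subgroup (A4 × A4)) ⊓ Subgroup.prod ⊥ ⊤) ≠ ⊥
  · exact Or.inr (Or.inl h2)
  push Not at h1 h2
  refine Or.inr (Or.inr ?_)
  obtain ⟨g, h, hg3, hg1, hh3, hh1, hgQ, hhQ⟩ := exists_rotations Q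
  have hsq : ∀ x ∈ B, x ^ 2 = 1 := by
    intro x hx
    have h4 : x ^ 4 = 1 := by
      have := congrArg Subtype.val (pow_card_eq_one' (x := (⟨x, hx⟩ : B)))
      rw [hB4] at this
      exact this
    exact Prod.ext (a4_sq_of_pow_eight _ (congrArg Prod.fst h4)) (a4_sq_of_pow_eight _ (congrArg Prod.snd h4))
  have hne1 : ∀ x ∈ B, x ≠ 1 → x.1 ≠ 1 ∧ x.2 ≠ 1 := by
    intro x hx hx1
    constructor <;> intro he <;> apply hx1
    · have hm : x ∈ B ⊓ ((X : Subgroup (A4 × A4)) ⊓ Subgroup.prod ⊥ ⊤) :=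
        ⟨hx, hBX hx, by simpa using he, Subgroup.mem_top _⟩
      rw [h2] at hm
      exact Subgroup.mem_bot.1 hm
    · have hm : x ∈ B ⊓ ((X : Subgroup (A4 × A4)) ⊓ Subgroup.prod ⊤ ⊥) :=
        ⟨hx, hBX hx, Subgroup.mem_top _, by simpa using he⟩
      rw [h1] at hm
      exact Subgroup.mem_bot.1 hm
  have hBne : B ≠ ⊥ := fun hb => by simp [hb] at hB4
  obtain ⟨⟨b, hb⟩, hb1⟩ := B.ne_bot_iff_exists_ne_one.1 hBne
  have hb1' : b ≠ 1 := fun h => hb1 (Subtype.ext h)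
  obtain ⟨c, hc, hc1, hcb⟩ : ∃ c ∈ B, c ≠ 1 ∧ c ≠ b := by
    by_contra hcon
    push Not at hcon
    have hsub : (B : Set (A4 × A4)) ⊆ {1, b} := fun x hx => by
      by_cases hx1 : x = 1
      · exact Or.inl hx1
      · exact Or.inr (hcon x hx hx1)
    have := Set.ncard_le_ncard hsub
    rw [← Nat.card_coe_set_eq, show Nat.card (B : Set (A4 × A4)) = 4 from hB4,
      Set.ncard_pair (Ne.symm hb1')] at this
    omega
  have hbi : b * b = 1 := by rw [← sq]; exact hsq b hb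
  have hd1 : c.1 ≠ b.1 := fun he => by
    have hmem : c * b ∈ B := mul_mem hc hb
    refine (hne1 _ hmem fun hcb1 => hcb ?_).1 ?_
    · rw [eq_inv_of_mul_eq_one_left hcb1, inv_eq_of_mul_eq_one_left hbi]
    · rw [Prod.fst_mul, he]; exact congrArg Prod.fst hbi
  have hd2 : c.2 ≠ b.2 := fun he => by
    have hmem : c * b ∈ B := mul_mem hc hb
    refine (hne1 _ hmem fun hcb1 => hcb ?_).2 ?_
    · rw [eq_inv_of_mul_eq_one_left hcb1, inv_eq_of_mul_eq_one_left hbi]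
    · rw [Prod.snd_mul, he]; exact congrArg Prod.snd hbi
  have hBset : ∀ x ∈ B, x = 1 ∨ x = b ∨ x = c ∨ x = b * c := by
    have hbc1 : b * c ≠ 1 := fun h => hcb (by
      rw [eq_inv_of_mul_eq_one_right h, inv_eq_of_mul_eq_one_left hbi])
    have hbcb : b * c ≠ b := fun h => hc1 (mul_eq_left.1 h)
    have hbcc : b * c ≠ c := fun h => hb1' (mul_eq_right.1 h)
    have hsub : ({1, b, c, b * c} : Set (A4 × A4)) ⊆ (B : Set (A4 × A4)) := by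
      rintro x (rfl | rfl | rfl | rfl)
      exacts [one_mem _, hb, hc, mul_mem hb hc]
    have hcard : ({1, b, c, b * c} : Set (A4 × A4)).ncard = 4 := by
      rw [Set.ncard_insert_of_notMem (by simp [Ne.symm hb1', Ne.symm hc1, Ne.symm hbc1]),
        Set.ncard_insert_of_notMem (by simp [Ne.symm hcb, Ne.symm hbcb]),
        Set.ncard_pair (Ne.symm hbcc)]
    have := Set.eq_of_subset_of_ncard_le hsub (by
      rw [hcard, ← Nat.card_coe_set_eq]; exact le_of_eq hB4) (Set.toFinite _)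
    intro x hx
    have hx' : x ∈ ({1, b, c, b * c} : Set (A4 × A4)) := by rw [this]; exact hx
    simpa using hx'
  have key : ∀ r : A4 × A4, r ∈ (Q : Subgroup (A4 × A4)) → r.1 ≠ 1 → r.2 ≠ 1 → r ^ 3 = 1 →
      r * b * r⁻¹ ∈ B → r * c * r⁻¹ ∈ B →
      ∃ R : Subgroup (A4 × A4), R ≤ (Q : Subgroup _) ∧ Nat.card ↥R = 3 ∧
        R ≠ (Q : Subgroup _) ⊓ Subgroup.prod ⊤ ⊥ ∧ R ≠ (Q : Subgroup _) ⊓ Subgroup.prod ⊥ ⊤ ∧
        R ≤ Subgroup.normalizer (B : Set _) := by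
    intro r hr h1' h2' h3 hrb hrc
    refine ⟨Subgroup.zpowers r, Subgroup.zpowers_le.2 hr, ?_, ?_, ?_, ?_⟩
    · rw [Nat.card_zpowers]
      haveI : Fact (Nat.Prime 3) := ⟨Nat.prime_three⟩
      exact orderOf_eq_prime h3 fun h => h1' (by rw [h]; simp)
    · intro he
      have := (he ▸ Subgroup.mem_zpowers r : r ∈ (Q : Subgroup _) ⊓ Subgroup.prod ⊤ ⊥).2.2
      exact h2' (by simpa using this)
    · intro he
      have := (he ▸ Subgroup.mem_zpowers r : r ∈ (Q : Subgroup _) ⊓ Subgroup.prod ⊥ ⊤).2.1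
      exact h1' (by simpa using this)
    · rw [Subgroup.zpowers_le, Subgroup.mem_normalizer_iff_map_conj_eq]
      refine Subgroup.eq_of_le_of_card_ge ?_
        (Subgroup.card_map_of_injective (f := (MulAut.conj r).toMonoidHom) (MulAut.conj r).injective).ge
      rintro _ ⟨x, hx, rfl⟩
      rcases hBset x hx with rfl | rfl | rfl | rfl
      · simp
      · exact hrb
      · exact hrc
      · rw [map_mul]; exact mul_mem hrb hrc
  have hgh : ((g, h) : A4 × A4) ∈ (Q : Subgroup (A4 × A4)) := by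
    simpa using mul_mem hgQ hhQ
  have hgh' : ((g, h⁻¹) : A4 × A4) ∈ (Q : Subgroup (A4 × A4)) := by
    simpa using mul_mem hgQ (inv_mem hhQ)
  have mk : ∀ (r x : A4 × A4), (r.1 * x.1 * r.1⁻¹ = b.1 ∧ r.2 * x.2 * r.2⁻¹ = b.2) ∨
      (r.1 * x.1 * r.1⁻¹ = c.1 ∧ r.2 * x.2 * r.2⁻¹ = c.2) ∨
      (r.1 * x.1 * r.1⁻¹ = b.1 * c.1 ∧ r.2 * x.2 * r.2⁻¹ = b.2 * c.2) → r * x * r⁻¹ ∈ B := by
    rintro r x (⟨e1, e2⟩ | ⟨e1, e2⟩ | ⟨e1, e2⟩)
    · rw [show r * x * r⁻¹ = b from Prod.ext e1 e2]; exact hb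
    · rw [show r * x * r⁻¹ = c from Prod.ext e1 e2]; exact hc
    · rw [show r * x * r⁻¹ = b * c from Prod.ext e1 e2]; exact mul_mem hb hc
  have hrot := a4_rotation_finset g (Finset.mem_filter.2 ⟨Finset.mem_univ _, hg3, hg1⟩)
      h (Finset.mem_filter.2 ⟨Finset.mem_univ _, hh3, hh1⟩)
      b.1 (Finset.mem_filter.2 ⟨Finset.mem_univ _, congrArg Prod.fst (hsq b hb), (hne1 b hb hb1').1⟩)
      c.1 (Finset.mem_filter.2 ⟨Finset.mem_univ _, congrArg Prod.fst (hsq c hc), (hne1 c hc hc1).1, hd1⟩)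
      b.2 (Finset.mem_filter.2 ⟨Finset.mem_univ _, congrArg Prod.snd (hsq b hb), (hne1 b hb hb1').2⟩)
      c.2 (Finset.mem_filter.2 ⟨Finset.mem_univ _, congrArg Prod.snd (hsq c hc), (hne1 c hc hc1).2, hd2⟩)
  simp only [okPair, Bool.or_eq_true, Bool.and_eq_true, beq_iff_eq, or_assoc] at hrot
  rcases hrot with ⟨e1, e2⟩ | ⟨e1, e2⟩
  · exact key (g, h) hgh hg1 hh1 (Prod.ext hg3 hh3) (mk _ _ e1) (mk _ _ e2)
  · refine key (g, h⁻¹) hgh' hg1 (by simpa using hh1) (Prod.ext hg3 (by simp [inv_pow, hh3]))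
      (mk _ _ ?_) (mk _ _ ?_)
    · simpa using e1
    · simpa using e2

end Cfsg.Agent.S4406
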