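import Cfsg.Statements.S4407
-- import your own Cfsg.Agent.* helpers here

set_option autoImplicit false
open Cfsg

namespace Cfsg.Agent.S4407

open Subgroup

section

/-- The four group of the dihedral group of order eight containing `sr i`. -/
private def four (i : ZMod 4) : Subgroup (DihedralGroup 4) where
  carrier := {d | d = 1 ∨ d = .r 2 ∨ d = .sr i ∨ d = .sr (i + 2)}
  one_mem' := Or.inl rfl
  mul_mem' := by
    have key : ∀ i : ZMod 4, ∀ d : DihedralGroup 4, ∀ d' : DihedralGroup 4,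
        (d = 1 ∨ d = .r 2 ∨ d = .sr i ∨ d = .sr (i + 2)) →
        (d' = 1 ∨ d' = .r 2 ∨ d' = .sr i ∨ d' = .sr (i + 2)) →
        (d * d' = 1 ∨ d * d' = .r 2 ∨ d * d' = .sr i ∨ d * d' = .sr (i + 2)) := by decide
    exact fun {d d'} h h' => key i d d' h h'
  inv_mem' := by
    have key : ∀ i : ZMod 4, ∀ d : DihedralGroup 4,
        (d = 1 ∨ d = .r 2 ∨ d = .sr i ∨ d = .sr (i + 2)) →
        (d⁻¹ = 1 ∨ d⁻¹ = .r 2 ∨ d⁻¹ = .sr i ∨ d⁻¹ = .sr (i + 2)) := by decide
    exact fun {d} h => key i d h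

private theorem mem_four {i : ZMod 4} {d : DihedralGroup 4} :
    d ∈ four i ↔ d = 1 ∨ d = .r 2 ∨ d = .sr i ∨ d = .sr (i + 2) := Iff.rfl

private theorem card_four (i : ZMod 4) : Nat.card (four i) = 4 := by
  have h : Nat.card (four i) =
      Nat.card {d : DihedralGroup 4 // d = 1 ∨ d = .r 2 ∨ d = .sr i ∨ d = .sr (i + 2)} :=
    Nat.card_congr (Equiv.subtypeEquivRight fun _ => mem_four)
  rw [h, Nat.card_eq_fintype_card]
  clear h
  revert i; decide

variable {S : Type*} [Group S] [Finite S]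

/-- A subgroup of `ι D₈` of order four and exponent two is the image of one of the two four groups. -/
private theorem eq_four (ι : DihedralGroup 4 →* S) (hι : Function.Injective ι) (i : ZMod 4)
    {B : Subgroup S} (hB : B ≤ ι.range) (hB4 : Nat.card B = 4) (hB2 : ∀ b ∈ B, b ^ 2 = 1) :
    B = (four i).map ι ∨ B = (four (i + 1)).map ι := by
  have key : ∀ i : ZMod 4, ∀ d : DihedralGroup 4, d * d = 1 →
      d ∈ ([1, .r 2, .sr i, .sr (i + 2), .sr (i + 1), .sr (i + 3)] : List (DihedralGroup 4)) := by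
    decide
  have noc : ∀ i : ZMod 4, ∀ d d' : DihedralGroup 4,
      (d = .sr i ∨ d = .sr (i + 2)) → (d' = .sr (i + 1) ∨ d' = .sr (i + 3)) →
      (d * d') * (d * d') ≠ 1 := by decide
  set C := B.comap ι with hC
  have hBC : C.map ι = B := map_comap_eq_self hB
  have hsq : ∀ d ∈ C, d * d = 1 := fun d hd => hι (by
    rw [map_mul, map_one, ← pow_two]; exact hB2 _ hd)
  have hC4 : Nat.card C = 4 := by
    refine (Nat.card_congr (C.equivMapOfInjective ι hι).toEquiv).trans ?_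
    rw [hBC]; exact hB4
  have hfin : ∀ j, C ≤ four j → B = (four j).map ι := fun j hj => by
    rw [← hBC, eq_of_le_of_card_ge hj (by rw [hC4, card_four])]
  by_cases h : ∃ d ∈ C, d = .sr (i + 1) ∨ d = .sr (i + 3)
  · obtain ⟨d', hd', hd'e⟩ := h
    refine Or.inr (hfin _ fun d hd => ?_)
    have hm := key i d (hsq d hd)
    simp only [List.mem_cons, List.not_mem_nil, or_false] at hm
    rw [mem_four]
    rcases hm with h | h | h | h | h | h
    · exact Or.inl h
    · exact Or.inr (Or.inl h)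
    · exact absurd (hsq _ (mul_mem hd hd')) (noc i d d' (Or.inl h) hd'e)
    · exact absurd (hsq _ (mul_mem hd hd')) (noc i d d' (Or.inr h) hd'e)
    · exact Or.inr (Or.inr (Or.inl h))
    · refine Or.inr (Or.inr (Or.inr ?_))
      rw [h, add_assoc]; rfl
  · refine Or.inl (hfin _ fun d hd => ?_)
    have hm := key i d (hsq d hd)
    simp only [List.mem_cons, List.not_mem_nil, or_false] at hm
    rw [mem_four]
    push Not at h
    have := h d hd
    tauto

variable {M : Type*} [AddCommGroup M] [Module (ZMod 2) M] [Finite M]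

/-- The module attached to a line of `A` with nonzero fixed points. -/
private theorem line_case (A : Subgroup S) [A.Normal] (hA : Cfsg.IsElementaryAbelian 3 A)
    (ι : DihedralGroup 4 →* S) (hι : Function.Injective ι) (hgen : A ⊔ ι.range = ⊤)
    (hz : ∀ x ∈ A, ι (.r 2) * x = x⁻¹ * ι (.r 2)) (ρ : Representation (ZMod 2) S M)
    (hirr : ∀ N : Submodule (ZMod 2) M, (∀ s : S, ∀ m ∈ N, ρ s m ∈ N) → N = ⊥ ∨ N = ⊤)
    (hfix : ∀ m : M, (∀ x ∈ A, ρ x m = m) → m = 0)
    (i : ZMod 4) (a : S) (haA : a ∈ A) (hsa : ι (.sr i) * a = a * ι (.sr i))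
    (hAab : ∀ x ∈ A, ∃ j k : ℕ, x = a ^ j * (ι (.r 1) * a * (ι (.r 1))⁻¹) ^ k)
    (m₀ : M) (hm₀ : m₀ ≠ 0) (ham₀ : ρ a m₀ = m₀) :
    Nat.card M = 16 ∧ ∃! B : Subgroup S, B ≤ ι.range ∧ Nat.card ↥B = 4 ∧ (∀ b ∈ B, b ^ 2 = 1) ∧
        Nat.card {m : M // ∀ b ∈ B, ρ b m = m} = 2 := by
  classical
  set r := ι (.r 1) with hr
  set s := ι (.sr i) with hs
  set z := ι (.r 2) with hzdef
  set b := r * a * r⁻¹ with hb
  have hbA : b ∈ A := ‹A.Normal›.conj_mem a haA r
  have ha3 : a ^ 3 = 1 := hA.2 a haA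
  have hb3 : b ^ 3 = 1 := hA.2 b hbA
  have hab : a * b = b * a := congrArg Subtype.val (hA.1.is_comm.comm (⟨a, haA⟩ : A) ⟨b, hbA⟩)
  have rel : ∀ i : ZMod 4, (DihedralGroup.r (1 : ZMod 4) * .r 1 = .r 2) ∧ (DihedralGroup.sr i * DihedralGroup.sr i = 1) ∧
      (DihedralGroup.r (2 : ZMod 4) * .r 2 = 1) ∧
      (DihedralGroup.sr i * DihedralGroup.r (1 : ZMod 4) = .r 1 * (.r 2 * .sr i)) ∧
      (DihedralGroup.r (2 : ZMod 4) * DihedralGroup.sr i = .sr i * .r 2) ∧
      (DihedralGroup.r (1 : ZMod 4) * DihedralGroup.r 2 = .r 2 * .r 1) ∧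
      (DihedralGroup.sr i * DihedralGroup.r (1 : ZMod 4) = .sr (i + 1)) := by decide
  obtain ⟨e1, e2, e3, e4, e5, e6, e7⟩ := rel i
  have hrr : r * r = z := by rw [hr, hzdef, ← map_mul, e1]
  have hss : s * s = 1 := by rw [hs, ← map_mul, e2, map_one]
  have hzz : z * z = 1 := by rw [hzdef, ← map_mul, e3, map_one]
  have hsr : s * r = r * (z * s) := by simp only [hs, hr, hzdef, ← map_mul, e4]
  have hzs : z * s = s * z := by simp only [hs, hzdef, ← map_mul, e5]
  have hrz : r * z = z * r := by simp only [hr, hzdef, ← map_mul, e6]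
  have hinv2 : ∀ x ∈ A, x⁻¹ = x ^ 2 := fun x hx => inv_eq_of_mul_eq_one_right (by
    rw [← pow_succ', hA.2 x hx])
  have hra : r * a = b * r := by rw [hb]; group
  have hza : z * a = a ^ 2 * z := by rw [← hinv2 a haA]; exact hz a haA
  have hzb : z * b = b ^ 2 * z := by rw [← hinv2 b hbA]; exact hz b hbA
  have hrb : r * b = a ^ 2 * r := by
    have : r * b = z * a * z⁻¹ * r := by
      rw [hb, ← hrr]; group
    rw [this, hza]; group
  have hsb : s * b = b ^ 2 * s := by
    calc s * b = s * r * a * r⁻¹ := by rw [hb]; group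
      _ = r * z * (s * a) * r⁻¹ := by rw [hsr]; group
      _ = r * z * (a * s) * r⁻¹ := by rw [hsa]
      _ = r * (z * a) * s * r⁻¹ := by group
      _ = r * (a ^ 2 * z) * s * r⁻¹ := by rw [hza]
      _ = r * a ^ 2 * r⁻¹ * (r * (z * s) * r⁻¹) := by group
      _ = b ^ 2 * s := by
        rw [← hsr, mul_inv_cancel_right, hb, conj_pow]
  have hbr' : b * r = r * a := hra.symm
  have har : a * r = r * b ^ 2 := by
    have h : (r * b) * b = a * r * (b ^ 3) * (b ^ 3) := by
      rw [hb3, mul_one, mul_one, mul_assoc r b b, ← pow_two]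
      have h2 : r * b ^ 2 = a ^ 4 * r := by
        calc r * b ^ 2 = (r * b) * b := by rw [pow_two, ← mul_assoc]
          _ = a ^ 2 * (r * b) := by
            conv_lhs => rw [hrb]
            rw [mul_assoc]
          _ = a ^ 4 * r := by rw [hrb, ← mul_assoc, ← pow_add]
      rw [h2, show a ^ 4 = a from by rw [pow_succ, ha3, one_mul]]
    rw [hb3, mul_one, mul_one] at h
    rw [← h, mul_assoc, ← pow_two]
  have pr : ∀ (g h : S) (m : M), ρ g (ρ h m) = ρ (g * h) m := fun g h m => by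
    rw [map_mul]; rfl
  have pr1 : ∀ m : M, ρ 1 m = m := fun m => by rw [map_one]; rfl
  have two : ∀ m : M, m + m = 0 := fun m => by
    rw [← two_smul (ZMod 2) m, show (2 : ZMod 2) = 0 from rfl, zero_smul]
  -- a common fixed point of `a`, `z`, `s`
  obtain ⟨m₁, hm₁, ham₁, hzm₁⟩ : ∃ m : M, m ≠ 0 ∧ ρ a m = m ∧ ρ z m = m := by
    by_cases h : m₀ + ρ z m₀ = 0
    · exact ⟨m₀, hm₀, ham₀, (eq_of_sub_eq_zero (by
        rw [sub_eq_add_neg, neg_eq_of_add_eq_zero_left (two m₀), add_comm]; exact h))⟩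
    · refine ⟨_, h, ?_, ?_⟩
      · have haz : a * z = z * a ^ 2 := by
          rw [pow_two, ← mul_assoc, hza, mul_assoc, hza, ← mul_assoc, ← pow_add,
            show a ^ (2 + 2) = a from by rw [pow_succ, ha3, one_mul]]
        rw [map_add, ham₀, pr, haz, ← pr, pow_two, ← pr a a, ham₀, ham₀]
      · rw [map_add, pr, hzz, pr1, add_comm]
  obtain ⟨v, hv0, hav, hzv, hsv⟩ : ∃ m : M, m ≠ 0 ∧ ρ a m = m ∧ ρ z m = m ∧ ρ s m = m := by
    by_cases h : m₁ + ρ s m₁ = 0
    · exact ⟨m₁, hm₁, ham₁, hzm₁, (eq_of_sub_eq_zero (by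
        rw [sub_eq_add_neg, neg_eq_of_add_eq_zero_left (two m₁), add_comm]; exact h))⟩
    · refine ⟨_, h, ?_, ?_, ?_⟩
      · rw [map_add, ham₁, pr, ← hsa, ← pr, ham₁]
      · rw [map_add, hzm₁, pr, hzs, ← pr, hzm₁]
      · rw [map_add, pr, hss, pr1, add_comm]
  set w := ρ b v with hw
  set u := ρ r v with hu
  set x := ρ r w with hx
  have haw : ρ a w = w := by rw [hw, pr, hab, ← pr, hav]
  have hb2v : ρ b w = v + w := by
    have h0 : v + w + ρ b w = 0 := by
      refine hfix _ fun g hg => ?_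
      have hfa : ρ a (v + w + ρ b w) = v + w + ρ b w := by
        rw [map_add, map_add, hav, haw, pr, hab, ← pr, haw]
      have hfb : ρ b (v + w + ρ b w) = v + w + ρ b w := by
        rw [map_add, map_add, pr b b w, hw, pr (b * b) b v, ← pow_two, ← pow_succ, hb3, pr1]
        abel
      obtain ⟨j, k, rfl⟩ := hAab g hg
      have hpow : ∀ (g : S) (m : M), ρ g m = m → ∀ j : ℕ, ρ (g ^ j) m = m := by
        intro g m h j
        induction j with
        | zero => rw [pow_zero, pr1]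
        | succ n ih => rw [pow_succ, ← pr, h, ih]
      rw [← pr, hpow _ _ hfb, hpow _ _ hfa]
    calc ρ b w = (v + w) + (v + w + ρ b w) := by rw [← add_assoc, two (v + w), zero_add]
      _ = v + w := by rw [h0, add_zero]
  have hbu : ρ b u = u := by rw [hu, pr, hbr', ← pr, hav]
  have hbx : ρ b x = x := by rw [hx, pr, hbr', ← pr, haw]
  have hau : ρ a u = u + x := by
    rw [hu, pr, har, ← pr, pow_two, ← pr b b, ← hw, hb2v, map_add]
  have hax : ρ a x = u := by
    rw [hx, pr, har, ← pr, hw, pr (b ^ 2) b, ← pow_succ, hb3, pr1]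
  have hru : ρ r u = v := by rw [hu, pr, hrr, hzv]
  have hzw : ρ z w = v + w := by rw [hw, pr, hzb, ← pr, hzv, pow_two, ← pr, ← hw, hb2v]
  have hrx : ρ r x = v + w := by rw [hx, pr, hrr, hzw]
  have hsw : ρ s w = v + w := by rw [hw, pr, hsb, ← pr, hsv, pow_two, ← pr, ← hw, hb2v]
  have hsu : ρ s u = u := by rw [hu, pr, hsr, ← pr, ← pr z, hsv, hzv]
  have hsx : ρ s x = x := by rw [hx, pr, hsr, ← pr, ← pr z, hsw, map_add, hzv, hzw, ← add_assoc, two, zero_add]
  have hzu : ρ z u = u := by rw [hu, pr, ← hrz, ← pr, hzv]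
  have hzx : ρ z x = u + x := by rw [hx, pr, ← hrz, ← pr, hzw, map_add]
  let φ : (Fin 4 → ZMod 2) →ₗ[ZMod 2] M := Fintype.linearCombination (ZMod 2) ![v, w, u, x]
  have hφ : ∀ c, φ c = c 0 • v + c 1 • w + c 2 • u + c 3 • x := by
    intro c
    simp [φ, Fintype.linearCombination_apply, Fin.sum_univ_four]
  have hmemv : ∀ y : M, y = v ∨ y = w ∨ y = u ∨ y = x → y ∈ LinearMap.range φ := by
    rintro y (rfl | rfl | rfl | rfl)
    · exact ⟨![1, 0, 0, 0], by simp [hφ]⟩
    · exact ⟨![0, 1, 0, 0], by simp [hφ]⟩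
    · exact ⟨![0, 0, 1, 0], by simp [hφ]⟩
    · exact ⟨![0, 0, 0, 1], by simp [hφ]⟩
  let N := LinearMap.range φ
  let St : Submonoid S :=
    { carrier := {g | ∀ m ∈ N, ρ g m ∈ N}
      one_mem' := fun m hm => by rw [pr1]; exact hm
      mul_mem' := fun {g h} hg hh m hm => by rw [← pr]; exact hg _ (hh m hm) }
  have hSt : ∀ g : S, ρ g v ∈ N → ρ g w ∈ N → ρ g u ∈ N → ρ g x ∈ N → g ∈ St := by
    intro g h1 h2 h3 h4 m hm
    obtain ⟨c, rfl⟩ := hm
    rw [hφ, map_add, map_add, map_add, map_smul, map_smul, map_smul, map_smul]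
    exact add_mem (add_mem (add_mem (N.smul_mem _ h1) (N.smul_mem _ h2)) (N.smul_mem _ h3)) (N.smul_mem _ h4)
  have hv' : v ∈ N := hmemv v (Or.inl rfl)
  have hw' : w ∈ N := hmemv w (Or.inr (Or.inl rfl))
  have hu' : u ∈ N := hmemv u (Or.inr (Or.inr (Or.inl rfl)))
  have hx' : x ∈ N := hmemv x (Or.inr (Or.inr (Or.inr rfl)))
  have haS : a ∈ St := hSt a (by rw [hav]; exact hv') (by rw [haw]; exact hw')
    (by rw [hau]; exact add_mem hu' hx') (by rw [hax]; exact hu')
  have hbS : b ∈ St := hSt b hw' (by rw [hb2v]; exact add_mem hv' hw')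
    (by rw [hbu]; exact hu') (by rw [hbx]; exact hx')
  have hrS : r ∈ St := hSt r hu' hx' (by rw [hru]; exact hv') (by rw [hrx]; exact add_mem hv' hw')
  have hsS : s ∈ St := hSt s (by rw [hsv]; exact hv') (by rw [hsw]; exact add_mem hv' hw')
    (by rw [hsu]; exact hu') (by rw [hsx]; exact hx')
  have hall : ∀ g : S, g ∈ St := by
    intro g
    have hg : g ∈ A ⊔ ι.range := hgen ▸ mem_top g
    rw [← SetLike.mem_coe, normal_mul] at hg
    obtain ⟨y, hy, q, ⟨d, rfl⟩, rfl⟩ := hg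
    obtain ⟨j, k, rfl⟩ := hAab y hy
    refine St.mul_mem (St.mul_mem (St.pow_mem haS j) (St.pow_mem hbS k)) ?_
    have hd : ∀ i : ZMod 4, ∀ d : DihedralGroup 4, ∃ n : Fin 4,
        d = DihedralGroup.r 1 ^ (n : ℕ) ∨ d = DihedralGroup.sr i * DihedralGroup.r 1 ^ (n : ℕ) := by
      decide
    obtain ⟨n, rfl | rfl⟩ := hd i d
    · rw [map_pow]; exact St.pow_mem hrS _
    · rw [map_mul, map_pow]; exact St.mul_mem hsS (St.pow_mem hrS _)
  have hsurj : Function.Surjective φ := by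
    rw [← LinearMap.range_eq_top]
    exact (hirr N fun g m hm => hall g m hm).resolve_left fun h =>
      hv0 ((Submodule.mem_bot _).1 (h ▸ hv'))
  have hinj : Function.Injective φ := by
    rw [injective_iff_map_eq_zero]
    intro c hc
    rw [hφ] at hc
    set p := c 0 • v + c 1 • w with hp
    set q := c 2 • u + c 3 • x with hq
    have hpq : p = q := by
      have h0 : p + q = 0 := by rw [hp, hq, ← add_assoc]; exact hc
      calc p = p + (q + q) := by rw [two, add_zero]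
        _ = q := by rw [← add_assoc, h0, zero_add]
    have hpa : ρ a p = p := by rw [hp, map_add, map_smul, map_smul, hav, haw]
    have hpb : ρ b p = p := by rw [hpq, hq, map_add, map_smul, map_smul, hbu, hbx]
    have hp0 : p = 0 := hfix p fun g hg => by
      obtain ⟨j, k, rfl⟩ := hAab g hg
      have hpow : ∀ (g : S) (m : M), ρ g m = m → ∀ j : ℕ, ρ (g ^ j) m = m := by
        intro g m h j
        induction j with
        | zero => rw [pow_zero, pr1]
        | succ n ih => rw [pow_succ, ← pr, h, ih]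
      rw [← pr, hpow _ _ hpb, hpow _ _ hpa]
    have hw0 : w ≠ 0 := fun h => hv0 (by
      have := hb2v; rw [h, map_zero, add_zero] at this; exact this.symm)
    have hvw : v + w ≠ 0 := fun h => hw0 (by
      rw [← hb2v] at h
      calc w = ρ (b ^ 2 * b) w := by rw [← pow_succ, hb3, pr1]
        _ = 0 := by rw [← pr, h, map_zero])
    have key : ∀ (y y' : M) (cy cy' : ZMod 2), y ≠ 0 → y' ≠ 0 → y + y' ≠ 0 →
        cy • y + cy' • y' = 0 → cy = 0 ∧ cy' = 0 := by
      intro y y' cy cy' h1 h2 h3 h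
      have hcases : ∀ t : ZMod 2, t = 0 ∨ t = 1 := by decide
      rcases hcases cy with rfl | rfl <;> rcases hcases cy' with rfl | rfl <;>
        simp only [zero_smul, one_smul, zero_add, add_zero] at h <;>
        first | exact ⟨rfl, rfl⟩ | exact absurd h h1 | exact absurd h h2 | exact absurd h h3
    have hq0 : q = 0 := hpq ▸ hp0
    obtain ⟨c0, c1⟩ := key v w _ _ hv0 hw0 hvw hp0
    have hrinj : ∀ y : M, ρ r y = 0 → y = 0 := fun y hy => by
      calc y = ρ (r⁻¹ * r) y := by rw [inv_mul_cancel, pr1]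
        _ = 0 := by rw [← pr, hy, map_zero]
    obtain ⟨c2, c3⟩ := key u x _ _ (fun h => hv0 (hrinj v h)) (fun h => hw0 (hrinj w h))
      (fun h => hvw (hrinj _ (by rw [map_add]; exact h))) hq0
    funext k
    fin_cases k <;> assumption
  have hM : Nat.card M = 16 := by
    rw [← Nat.card_congr (Equiv.ofBijective φ ⟨hinj, hsurj⟩), Nat.card_fun, Nat.card_zmod, Nat.card_fin]
    norm_num
  refine ⟨hM, (four (i + 1)).map ι, ⟨?_, ?_, ?_, ?_⟩, ?_⟩
  · exact map_le_range ι _
  · exact (Nat.card_congr ((four (i + 1)).equivMapOfInjective ι hι).toEquiv).symm.trans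
      (card_four (i + 1))
  · rintro _ ⟨d, hd, rfl⟩
    have : ∀ j : ZMod 4, ∀ d : DihedralGroup 4,
        (d = 1 ∨ d = .r 2 ∨ d = .sr j ∨ d = .sr (j + 2)) → d * d = 1 := by decide
    rw [pow_two, ← map_mul, this _ d hd, map_one]
  · set t := ι (.sr (i + 1)) with ht
    have htsr : t = s * r := by rw [ht, hs, hr, ← map_mul, e7]
    have htv : ρ t v = u := by rw [htsr, ← pr, ← hu, hsu]
    have htu : ρ t u = v := by rw [htsr, ← pr, hru, hsv]
    rw [Nat.card_eq_two_iff' (⟨0, fun b _ => map_zero _⟩ : {m : M // ∀ b ∈ (four (i + 1)).map ι, ρ b m = m})]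
    have hfixv : ∀ g ∈ (four (i + 1)).map ι, ρ g (v + u) = v + u := by
      rintro _ ⟨d, hd, rfl⟩
      rcases mem_four.1 hd with rfl | rfl | rfl | rfl
      · rw [map_one ι, pr1]
      · rw [← hzdef, map_add, hzv, hzu]
      · rw [← ht, map_add, htv, htu, add_comm]
      · have : ι (.sr (i + 1 + 2)) = t * z := by
          rw [ht, hzdef, ← map_mul]; congr 1
        rw [this, ← pr, map_add (ρ z), hzv, hzu, map_add, htv, htu, add_comm]
    have hvu : v + u ≠ 0 := fun h => by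
      have h0 : φ ![1, 0, 1, 0] = φ 0 := by rw [hφ, map_zero]; simpa using h
      exact absurd (congrFun (hinj h0) 0) (by decide)
    refine ⟨⟨v + u, hfixv⟩, fun h => hvu (congrArg Subtype.val h), ?_⟩
    rintro ⟨m, hm⟩ hne
    apply Subtype.ext
    obtain ⟨c, rfl⟩ := hsurj m
    have hzf := hm _ ⟨.r 2, mem_four.2 (Or.inr (Or.inl rfl)), rfl⟩
    rw [← hzdef, hφ, map_add, map_add, map_add, map_smul, map_smul, map_smul, map_smul, hzv, hzw, hzu,
      hzx] at hzf
    have h1 : φ ![c 0 + c 1, c 1, c 2 + c 3, c 3] = φ c := by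
      rw [hφ, hφ, ← hzf]
      simp only [Matrix.cons_val_zero, Matrix.cons_val_one, Matrix.cons_val, smul_add, add_smul]
      abel
    have h2 := hinj h1
    have hc1 : c 1 = 0 := by simpa using congrFun h2 0
    have hc3 : c 3 = 0 := by simpa using congrFun h2 2
    have htf := hm _ ⟨.sr (i + 1), mem_four.2 (Or.inr (Or.inr (Or.inl rfl))), rfl⟩
    rw [← ht, hφ, hc1, hc3, zero_smul, zero_smul, add_zero, add_zero, map_add, map_smul, map_smul,
      htv, htu] at htf
    have h3 : φ ![c 2, 0, c 0, 0] = φ ![c 0, 0, c 2, 0] := by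
      rw [hφ, hφ]
      simp only [Matrix.cons_val_zero, Matrix.cons_val_one, Matrix.cons_val, zero_smul, add_zero]
      rw [← htf]; abel
    have hc02 : c 2 = c 0 := by simpa using congrFun (hinj h3) 0
    show φ c = v + u
    have hc0 : c 0 = 1 := by
      have hcases : ∀ t : ZMod 2, t = 0 ∨ t = 1 := by decide
      refine (hcases (c 0)).resolve_left fun h => hne (Subtype.ext ?_)
      show φ c = 0
      rw [hφ, hc02, h, hc1, hc3]; simp
    rw [hφ, hc02, hc0, hc1, hc3]; simp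
  · rintro B ⟨hB, hB4, hB2, hBfix⟩
    refine (eq_four ι hι i hB hB4 hB2).resolve_left fun h => ?_
    subst h
    have hf : ∀ y : M, (y = v ∨ y = u) → ∀ g ∈ (four i).map ι, ρ g y = y := by
      rintro y hy _ ⟨d, hd, rfl⟩
      have hyz : ρ z y = y ∧ ρ s y = y := by rcases hy with rfl | rfl <;> constructor <;> assumption
      rcases mem_four.1 hd with rfl | rfl | rfl | rfl
      · rw [map_one ι, pr1]
      · exact hyz.1
      · exact hyz.2
      · have : ι (.sr (i + 2)) = s * z := by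
          rw [hs, hzdef, ← map_mul]; congr 1
        rw [this, ← pr, hyz.1, hyz.2]
    rw [Nat.card_eq_two_iff' (⟨0, fun b _ => map_zero _⟩ : {m : M // ∀ b ∈ (four i).map ι, ρ b m = m})] at hBfix
    obtain ⟨_, -, huniq⟩ := hBfix
    have hu0 : u ≠ 0 := fun h => hv0 (by
      rw [← hru, h, map_zero])
    have h1 := huniq ⟨v, hf v (Or.inl rfl)⟩ (fun h => hv0 (congrArg Subtype.val h))
    have h2 := huniq ⟨u, hf u (Or.inr rfl)⟩ (fun h => hu0 (congrArg Subtype.val h))
    have hvu : v = u := congrArg Subtype.val (h1.trans h2.symm)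
    have h0 : φ ![1, 0, 0, 0] = φ ![0, 0, 1, 0] := by simp [hφ, hvu]
    exact absurd (congrFun (hinj h0) 0) (by decide)

end

/-- Let S be a finite group with a normal elementary abelian subgroup A of order 9 that is self-centralizing (C_S(A) = A), and a dihedral subgroup X of order 8 with S = AX. Let M be a finite-dimensional module for S over the field with two elements that is faithful and irreducible. Then M has 16 elements, and X contains exactly one subgroup B of order 4 and exponent 2 whose fixed points on M form a subspace with exactly 2 elements (equivalently, M is free of rank one over the group algebra of B). -/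
theorem result {S : Type*} [Group S] [Finite S]
    (A : Subgroup S) [A.Normal] (hA : Cfsg.IsElementaryAbelian 3 A) (hA9 : Nat.card ↥A = 9)
    (hAC : Subgroup.centralizer (A : Set S) = A) (X : Subgroup S) (hX : Nonempty (↥X ≃* DihedralGroup 4)) (hAX : A ⊔ X = ⊤)
    {M : Type*} [AddCommGroup M] [Module (ZMod 2) M] [Finite M] (ρ : Representation (ZMod 2) S M)
    (hfaith : Function.Injective ρ)
    (hirr : ∀ N : Submodule (ZMod 2) M, (∀ s : S, ∀ m ∈ N, ρ s m ∈ N) → N = ⊥ ∨ N = ⊤) (hM : Nontrivial M) :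
    Nat.card M = 16 ∧
      ∃! B : Subgroup S, B ≤ X ∧ Nat.card ↥B = 4 ∧ (∀ b ∈ B, b ^ 2 = 1) ∧
        Nat.card {m : M // ∀ b ∈ B, ρ b m = m} = 2 := by
  classical
  obtain ⟨e⟩ := hX
  let ι : DihedralGroup 4 →* S := X.subtype.comp e.symm.toMonoidHom
  have hι : Function.Injective ι := X.subtype_injective.comp e.symm.injective
  have hιX : ι.range = X := by
    rw [MonoidHom.range_comp, MonoidHom.range_eq_top.2 e.symm.surjective,
      ← MonoidHom.range_eq_map, range_subtype]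
  have hA3 : ∀ x ∈ A, x ^ 3 = 1 := hA.2
  have hcomm : ∀ x ∈ A, ∀ y ∈ A, x * y = y * x := fun x hx y hy =>
    congrArg Subtype.val (hA.1.is_comm.comm (⟨x, hx⟩ : A) ⟨y, hy⟩)
  have hconj : ∀ (g : S), ∀ x ∈ A, g * x * g⁻¹ ∈ A := fun g x hx => ‹A.Normal›.conj_mem x hx g
  -- elements of `ι D₈` centralising `A` are trivial
  have hcen : ∀ d : DihedralGroup 4, (∀ x ∈ A, ι d * x = x * ι d) → d = 1 := by
    intro d h
    have hd : ι d ∈ A := hAC.le (mem_centralizer_iff.2 fun x hx => (h x hx).symm)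
    have h1 : ι (d ^ 3) = ι 1 := by rw [map_pow, map_one, hA3 _ hd]
    have h3 : ∀ d : DihedralGroup 4, d ^ 3 = 1 → d = 1 := by decide
    exact h3 d (hι h1)
  have hA0 : ∀ x ∈ A, x * x = 1 → x = 1 := fun x hx h => by
    have := hA3 x hx
    rwa [pow_succ, pow_two, h, one_mul] at this
  -- powers in a subgroup of order three
  have hline : ∀ (F : Subgroup S), F < A → ∀ u ∈ F, u ≠ 1 → ∀ v ∈ F, v = 1 ∨ v = u ∨ v = u⁻¹ := by
    intro F hF u hu hu1 v hv
    have hc : Nat.card F = 3 := by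
      have hd := card_dvd_of_le hF.le
      rw [hA9, show (9 : ℕ) = 3 ^ 2 by norm_num] at hd
      obtain ⟨k, hk, hk'⟩ := (Nat.dvd_prime_pow Nat.prime_three).1 hd
      interval_cases k
      · exfalso
        have := Subgroup.card_eq_one.1 (by simpa using hk')
        rw [this, mem_bot] at hu
        exact hu1 hu
      · simpa using hk'
      · exact absurd (eq_of_le_of_card_ge hF.le (by rw [hA9, hk']; norm_num)) hF.ne
    have hne : (⟨u, hu⟩ : F) ≠ 1 := fun h => hu1 (congrArg Subtype.val h)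
    have : Fact (Nat.Prime 3) := ⟨Nat.prime_three⟩
    obtain ⟨j, hj⟩ := mem_zpowers_iff.1 (mem_zpowers_of_prime_card hc hne (g' := ⟨v, hv⟩))
    have hj' : u ^ j = v := by simpa using congrArg Subtype.val hj
    have ho : u ^ (3 : ℤ) = 1 := by exact_mod_cast hA3 u (hF.le hu)
    rw [← Int.emod_add_mul_ediv j 3, zpow_add, zpow_mul, ho, one_zpow, mul_one] at hj'
    have h3 : j % 3 = 0 ∨ j % 3 = 1 ∨ j % 3 = 2 := by omega
    rcases h3 with h | h | h <;> rw [h] at hj'
    · exact Or.inl (by simpa using hj'.symm)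
    · exact Or.inr (Or.inl (by simpa using hj'.symm))
    · refine Or.inr (Or.inr ?_)
      rw [← hj', eq_inv_iff_mul_eq_one]
      calc u ^ (2 : ℤ) * u = u ^ (3 : ℤ) := by group
        _ = 1 := ho
  have hz : ∀ x ∈ A, ι (.r 2) * x = x⁻¹ * ι (.r 2) := by
    set z := ι (.r 2) with hzdef
    have hzz : z * z = 1 := by rw [hzdef, ← map_mul]; exact map_one ι
    have hzi : z⁻¹ = z := inv_eq_of_mul_eq_one_right hzz
    have hzc : ∀ d : DihedralGroup 4, Commute (ι d) z := by
      have : ∀ d : DihedralGroup 4, d * .r 2 = .r 2 * d := by decide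
      exact fun d => by show ι d * ι (.r 2) = ι (.r 2) * ι d; rw [← map_mul, ← map_mul, this d]
    by_contra hall
    push Not at hall
    obtain ⟨x₀, hx₀, hx₀'⟩ := hall
    let Fx : Subgroup S :=
      { carrier := {x | x ∈ A ∧ z * x * z⁻¹ = x}
        one_mem' := ⟨one_mem _, by group⟩
        mul_mem' := fun {x y} hx hy => ⟨mul_mem hx.1 hy.1, by
          calc z * (x * y) * z⁻¹ = (z * x * z⁻¹) * (z * y * z⁻¹) := by group
            _ = x * y := by rw [hx.2, hy.2]⟩
        inv_mem' := fun {x} hx => ⟨inv_mem hx.1, by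
          calc z * x⁻¹ * z⁻¹ = (z * x * z⁻¹)⁻¹ := by group
            _ = x⁻¹ := by rw [hx.2]⟩ }
    let Iv : Subgroup S :=
      { carrier := {x | x ∈ A ∧ z * x * z⁻¹ = x⁻¹}
        one_mem' := ⟨one_mem _, by group⟩
        mul_mem' := fun {x y} hx hy => ⟨mul_mem hx.1 hy.1, by
          calc z * (x * y) * z⁻¹ = (z * x * z⁻¹) * (z * y * z⁻¹) := by group
            _ = (y * x)⁻¹ := by rw [hx.2, hy.2]; group
            _ = (x * y)⁻¹ := by rw [hcomm x hx.1 y hy.1]⟩
        inv_mem' := fun {x} hx => ⟨inv_mem hx.1, by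
          calc z * x⁻¹ * z⁻¹ = (z * x * z⁻¹)⁻¹ := by group
            _ = (x⁻¹)⁻¹ := by rw [hx.2]⟩ }
    have hzA : ∀ x ∈ A, x * (z * x * z⁻¹) ∈ Fx ∧ x * (z * x * z⁻¹)⁻¹ ∈ Iv := by
      intro x hx
      have hy := hconj z x hx
      have hzy : z * (z * x * z⁻¹) * z⁻¹ = x := by
        rw [hzi, show z * (z * x * z) * z = z * z * x * (z * z) by group, hzz]; group
      refine ⟨⟨mul_mem hx hy, ?_⟩, mul_mem hx (inv_mem hy), ?_⟩
      · calc z * (x * (z * x * z⁻¹)) * z⁻¹ = (z * x * z⁻¹) * (z * (z * x * z⁻¹) * z⁻¹) := by group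
          _ = x * (z * x * z⁻¹) := by rw [hzy, hcomm _ hy _ hx]
      · calc z * (x * (z * x * z⁻¹)⁻¹) * z⁻¹ = (z * x * z⁻¹) * (z * (z * x * z⁻¹) * z⁻¹)⁻¹ := by group
          _ = (x * (z * x * z⁻¹)⁻¹)⁻¹ := by rw [hzy, mul_inv_rev, inv_inv]
    have hIlt : Iv < A := lt_of_le_of_ne (fun x hx => hx.1) fun h => hx₀' (by
      have := (h.ge hx₀).2
      exact mul_inv_eq_iff_eq_mul.1 this)
    have hFlt : Fx < A := lt_of_le_of_ne (fun x hx => hx.1) fun h => by
      have := hcen (.r 2) fun x hx => mul_inv_eq_iff_eq_mul.1 (h.ge hx).2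
      exact absurd this (by decide)
    -- conjugations by `ι D₈` commute on both lines
    have hact : ∀ (d d' : DihedralGroup 4) (F : Subgroup S), F < A →
        (∀ d : DihedralGroup 4, ∀ u ∈ F, ι d * u * (ι d)⁻¹ ∈ F) → ∀ u ∈ F,
        ι (d * d') * u * (ι (d * d'))⁻¹ = ι (d' * d) * u * (ι (d' * d))⁻¹ := by
      intro d d' F hF hinv u hu
      rcases eq_or_ne u 1 with rfl | hu1
      · group
      have hd := hline F hF u hu hu1 _ (hinv d u hu)
      have hd' := hline F hF u hu hu1 _ (hinv d' u hu)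
      have n1 : ∀ g : S, g * u * g⁻¹ ≠ 1 := fun g h => hu1 (conj_eq_one_iff.1 h)
      have e : ∀ g h : S, (g * h) * u * (g * h)⁻¹ = g * (h * u * h⁻¹) * g⁻¹ := fun g h => by group
      have e' : ∀ g : S, g * u⁻¹ * g⁻¹ = (g * u * g⁻¹)⁻¹ := fun g => by group
      rw [map_mul, map_mul, e, e]
      rcases hd.resolve_left (n1 _) with h | h <;> rcases hd'.resolve_left (n1 _) with h' | h' <;>
        simp only [h, h', e', inv_inv]
    have hinvF : ∀ d : DihedralGroup 4, ∀ u ∈ Fx, ι d * u * (ι d)⁻¹ ∈ Fx := fun d u hu =>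
      ⟨hconj _ u hu.1, by
        calc z * (ι d * u * (ι d)⁻¹) * z⁻¹ = (z * ι d) * u * (z * ι d)⁻¹ := by group
          _ = (ι d * z) * u * (ι d * z)⁻¹ := by rw [(hzc d).eq]
          _ = ι d * (z * u * z⁻¹) * (ι d)⁻¹ := by group
          _ = ι d * u * (ι d)⁻¹ := by rw [hu.2]⟩
    have hinvI : ∀ d : DihedralGroup 4, ∀ u ∈ Iv, ι d * u * (ι d)⁻¹ ∈ Iv := fun d u hu =>
      ⟨hconj _ u hu.1, by
        calc z * (ι d * u * (ι d)⁻¹) * z⁻¹ = (z * ι d) * u * (z * ι d)⁻¹ := by group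
          _ = (ι d * z) * u * (ι d * z)⁻¹ := by rw [(hzc d).eq]
          _ = ι d * (z * u * z⁻¹) * (ι d)⁻¹ := by group
          _ = (ι d * u * (ι d)⁻¹)⁻¹ := by rw [hu.2]; group⟩
    -- a commutator of `D₈` then centralises `A`
    let c : DihedralGroup 4 := (.sr 0 * .r 1)⁻¹ * (.r 1 * .sr 0)
    have hc1 : c ≠ 1 := by decide
    refine hc1 (hcen c fun x hx => ?_)
    have hfix : ∀ F : Subgroup S, F < A → (∀ d : DihedralGroup 4, ∀ u ∈ F, ι d * u * (ι d)⁻¹ ∈ F) →
        ∀ u ∈ F, ι c * u = u * ι c := by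
      intro F hF hinv u hu
      have h := hact (.r 1) (.sr 0) F hF hinv u hu
      rw [← mul_inv_eq_iff_eq_mul, map_mul, map_inv]
      calc (ι (.sr 0 * .r 1))⁻¹ * ι (.r 1 * .sr 0) * u * ((ι (.sr 0 * .r 1))⁻¹ * ι (.r 1 * .sr 0))⁻¹
          = (ι (.sr 0 * .r 1))⁻¹ * (ι (.r 1 * .sr 0) * u * (ι (.r 1 * .sr 0))⁻¹) * ι (.sr 0 * .r 1) := by group
        _ = u := by rw [h]; group
    obtain ⟨hf, hi⟩ := hzA x hx
    have e1 : (x * (z * x * z⁻¹)) ^ 2 * (x * (z * x * z⁻¹)⁻¹) ^ 2 = x := by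
      have hy := hconj z x hx
      have hcxy : Commute x (z * x * z⁻¹) := hcomm x hx _ hy
      rw [hcxy.mul_pow, hcxy.inv_right.mul_pow, inv_pow]
      rw [mul_assoc, ← mul_assoc ((z * x * z⁻¹) ^ 2) (x ^ 2), (hcxy.pow_pow 2 2).symm.eq,
        mul_assoc (x ^ 2) ((z * x * z⁻¹) ^ 2), mul_inv_cancel, mul_one, ← pow_add,
        show x ^ (2 + 2) = x from by rw [pow_succ, hA3 x hx, one_mul]]
    rw [← e1]
    exact Commute.mul_right (Commute.pow_right (hfix Fx hFlt hinvF _ hf) 2)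
      (Commute.pow_right (hfix Iv hIlt hinvI _ hi) 2)
  -- a line fixed by a reflection
  set s := ι (.sr 0) with hs
  have hss : s * s = 1 := by rw [hs, ← map_mul]; exact map_one ι
  obtain ⟨x, hx, hxa⟩ : ∃ x ∈ A, x * (s * x * s⁻¹) ≠ 1 := by
    by_contra hall
    push Not at hall
    have := hcen (.r 2 * .sr 0) fun x hx => by
      have h1 : s * x * s⁻¹ = x⁻¹ := (inv_eq_of_mul_eq_one_right (hall x hx)).symm
      rw [mul_inv_eq_iff_eq_mul] at h1
      rw [map_mul, ← hs, mul_assoc, h1, ← mul_assoc, hz _ (inv_mem hx), inv_inv, mul_assoc]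
    exact absurd this (by decide)
  set a := x * (s * x * s⁻¹) with ha
  have haA : a ∈ A := mul_mem hx (hconj s x hx)
  have hsa : s * a = a * s := by
    have hsi : s⁻¹ = s := inv_eq_of_mul_eq_one_right hss
    rw [ha, hcomm x hx _ (hconj s x hx), hsi]
    calc s * (s * x * s * x) = s * s * x * s * x := by group
      _ = x * s * x := by rw [hss, one_mul]
      _ = x * s * x * (s * s) := by rw [hss, mul_one]
      _ = x * (s * x * s) * s := by group
      _ = s * x * s * x * s := by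
        have := hcomm x hx _ (hconj s x hx)
        rw [hsi] at this; rw [this]
  -- generators of `A`
  have hgen2 : ∀ (i : ZMod 4) (a : S), a ∈ A → a ≠ 1 → ι (.sr i) * a = a * ι (.sr i) →
      ∀ y ∈ A, ∃ j k : ℕ, y = a ^ j * (ι (.r 1) * a * (ι (.r 1))⁻¹) ^ k := by
    intro i a haA ha1 hsa y hy
    set b := ι (.r 1) * a * (ι (.r 1))⁻¹ with hb
    have hbA := hconj (ι (.r 1)) a haA
    have hb1 : b ≠ 1 := fun h => ha1 (conj_eq_one_iff.1 h)
    have hsb : ι (.sr i) * b = b⁻¹ * ι (.sr i) := by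
      have e : ∀ i : ZMod 4, DihedralGroup.sr i * DihedralGroup.r (1 : ZMod 4) = .r 1 * (.r 2 * .sr i) := by
        decide
      have e' : ι (.sr i) * ι (.r 1) = ι (.r 1) * (ι (.r 2) * ι (.sr i)) := by
        simp only [← map_mul, e i]
      calc ι (.sr i) * b = ι (.sr i) * ι (.r 1) * a * (ι (.r 1))⁻¹ := by rw [hb]; group
        _ = ι (.r 1) * ι (.r 2) * (ι (.sr i) * a) * (ι (.r 1))⁻¹ := by rw [e']; group
        _ = ι (.r 1) * (ι (.r 2) * a) * ι (.sr i) * (ι (.r 1))⁻¹ := by rw [hsa]; group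
        _ = ι (.r 1) * (a⁻¹ * ι (.r 2)) * ι (.sr i) * (ι (.r 1))⁻¹ := by rw [hz a haA]
        _ = b⁻¹ * (ι (.r 1) * (ι (.r 2) * ι (.sr i)) * (ι (.r 1))⁻¹) := by rw [hb]; group
        _ = b⁻¹ * ι (.sr i) := by rw [← e', mul_inv_cancel_right]
    let f : Fin 3 × Fin 3 → A := fun t => ⟨a ^ (t.1 : ℕ) * b ^ (t.2 : ℕ),
      mul_mem (pow_mem haA _) (pow_mem hbA _)⟩
    have hf : Function.Bijective f := by
      refine (Nat.bijective_iff_injective_and_card f).2 ⟨?_, by simp [hA9]⟩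
      rintro ⟨j, k⟩ ⟨j', k'⟩ h
      have h' : a ^ (j : ℕ) * b ^ (k : ℕ) = a ^ (j' : ℕ) * b ^ (k' : ℕ) := congrArg Subtype.val h
      have h2 : (a ^ (j' : ℕ))⁻¹ * a ^ (j : ℕ) = b ^ (k' : ℕ) * (b ^ (k : ℕ))⁻¹ := by
        rw [eq_mul_inv_iff_mul_eq, mul_assoc, inv_mul_eq_iff_eq_mul]; exact h'
      set w := (a ^ (j' : ℕ))⁻¹ * a ^ (j : ℕ) with hw
      have hw1 : ι (.sr i) * w = w * ι (.sr i) :=
        (((show Commute (ι (.sr i)) a from hsa).pow_right _).inv_right.mul_right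
          ((show Commute (ι (.sr i)) a from hsa).pow_right _)).eq
      have hwA : w ∈ A := mul_mem (inv_mem (pow_mem haA _)) (pow_mem haA _)
      have hw2 : ι (.sr i) * w = w⁻¹ * ι (.sr i) := by
        have hs' : ι (.sr i) * b * (ι (.sr i))⁻¹ = b⁻¹ := by rw [hsb, mul_inv_cancel_right]
        rw [← mul_inv_eq_iff_eq_mul, h2]
        calc ι (.sr i) * (b ^ (k' : ℕ) * (b ^ (k : ℕ))⁻¹) * (ι (.sr i))⁻¹
            = (ι (.sr i) * b ^ (k' : ℕ) * (ι (.sr i))⁻¹) * (ι (.sr i) * b ^ (k : ℕ) * (ι (.sr i))⁻¹)⁻¹ := by group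
          _ = (b⁻¹) ^ (k' : ℕ) * ((b⁻¹) ^ (k : ℕ))⁻¹ := by rw [← conj_pow, ← conj_pow, hs']
          _ = (b ^ (k' : ℕ) * (b ^ (k : ℕ))⁻¹)⁻¹ := by
            rw [inv_pow, inv_pow, inv_inv, mul_inv_rev, inv_inv]
            exact ((Commute.refl b).pow_pow _ _).inv_left.eq
      have hw0 : w = 1 := hA0 w hwA (by
        rw [hw1] at hw2
        exact eq_inv_iff_mul_eq_one.1 (mul_right_cancel hw2))
      have hpow : ∀ c : S, c ∈ A → c ≠ 1 → ∀ p q : Fin 3, c ^ (p : ℕ) = c ^ (q : ℕ) → p = q := by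
        intro c hc hc1 p q hpq
        have ho : orderOf c = 3 := by
          have : Fact (Nat.Prime 3) := ⟨Nat.prime_three⟩
          exact orderOf_eq_prime (hA3 c hc) hc1
        exact Fin.ext (pow_injOn_Iio_orderOf (by simp [ho]) (by simp [ho]) hpq)
      have hj : j = j' := hpow a haA ha1 _ _ (inv_mul_eq_one.1 hw0).symm
      rw [hw0] at h2
      have hk : k = k' := hpow b hbA hb1 _ _ (mul_inv_eq_one.1 h2.symm).symm
      rw [hj, hk]
    obtain ⟨⟨j, k⟩, hjk⟩ := hf.2 ⟨y, hy⟩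
    exact ⟨j, k, (congrArg Subtype.val hjk).symm⟩
  have hfix : ∀ m : M, (∀ x ∈ A, ρ x m = m) → m = 0 := by
    intro m hm
    let N : Submodule (ZMod 2) M :=
      { carrier := {m | ∀ x ∈ A, ρ x m = m}
        zero_mem' := fun x _ => map_zero _
        add_mem' := fun {p q} hp hq x hx => by rw [map_add, hp x hx, hq x hx]
        smul_mem' := fun c p hp x hx => by rw [map_smul, hp x hx] }
    rcases hirr N (fun g p hp x hx => by
        show ρ x (ρ g p) = ρ g p
        have h := hp _ (hconj g⁻¹ x hx)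
        conv_rhs => rw [← h]
        rw [← Module.End.mul_apply, ← map_mul, ← Module.End.mul_apply, ← map_mul]
        congr 2
        group) with h | h
    · have hmN : m ∈ N := hm
      rw [h] at hmN
      exact (Submodule.mem_bot _).1 hmN
    · exfalso
      have hA1 : A = ⊥ := by
        rw [eq_bot_iff]
        intro x hx
        rw [mem_bot]
        refine hfaith (LinearMap.ext fun p => ?_)
        rw [map_one]
        exact (h.ge (Submodule.mem_top : p ∈ ⊤)) x hx
      rw [hA1] at hA9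
      simp at hA9
  set r := ι (.r 1) with hr
  set b := r * a * r⁻¹ with hb
  have hab := hgen2 0 a haA hxa hsa
  have hbA : b ∈ A := hconj r a haA
  have pr : ∀ (g h : S) (m : M), ρ g (ρ h m) = ρ (g * h) m := fun g h m => by
    rw [map_mul]; rfl
  have hfixpow : ∀ y ∈ A, ∀ m : M, ρ y (m + ρ y m + ρ y (ρ y m)) = m + ρ y m + ρ y (ρ y m) := by
    intro y hy m
    rw [map_add, map_add, pr y y (ρ y m), pr (y * y) y m, ← pow_two, ← pow_succ, hA3 y hy, map_one]
    show ρ y m + ρ y (ρ y m) + m = _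
    abel
  rw [← hιX]
  obtain ⟨m, hm⟩ := exists_ne (0 : M)
  have hgen : A ⊔ ι.range = ⊤ := by rw [hιX]; exact hAX
  -- one of the four lines has a fixed point
  have conjfix : ∀ y : S, (∃ n : M, n ≠ 0 ∧ ρ (r * y * r⁻¹) n = n) → ∃ n : M, n ≠ 0 ∧ ρ y n = n := by
    rintro y ⟨n, hn, hyn⟩
    refine ⟨ρ r⁻¹ n, fun h => hn ?_, ?_⟩
    · have := congrArg (ρ r) h
      rwa [pr, mul_inv_cancel, map_one, map_zero] at this
    · have := congrArg (ρ r⁻¹) hyn
      rwa [pr, show r⁻¹ * (r * y * r⁻¹) = y * r⁻¹ by group, ← pr] at this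
  have hrb : r * b * r⁻¹ = a⁻¹ := by
    have e : r * r = ι (.r 2) := by rw [hr, ← map_mul]; rfl
    calc r * b * r⁻¹ = (r * r) * a * (r * r)⁻¹ := by rw [hb]; group
      _ = a⁻¹ := by rw [e, hz a haA, mul_inv_cancel_right]
  rcases Classical.em (∃ n : M, n ≠ 0 ∧ ρ a n = n) with ⟨n, hn, han⟩ | hna
  · exact line_case A hA ι hι hgen hz ρ hirr hfix 0 a haA hsa hab n hn han
  obtain ⟨n, hn, hn'⟩ : ∃ n : M, n ≠ 0 ∧ ρ (a * b) n = n := by
    by_contra hnone
    push Not at hna hnone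
    have hzero : ∀ y ∈ A, (∀ n : M, n ≠ 0 → ρ y n ≠ n) → m + ρ y m + ρ y (ρ y m) = 0 := fun y hy h => by
      by_contra h0
      exact h _ h0 (hfixpow y hy m)
    have hnb : ∀ n : M, n ≠ 0 → ρ b n ≠ n := fun n hn h => by
      obtain ⟨n', hn', h'⟩ := conjfix a ⟨n, hn, h⟩
      exact hna n' hn' h'
    have hnd : ∀ n : M, n ≠ 0 → ρ (b * a⁻¹) n ≠ n := fun n hn h => by
      obtain ⟨n', hn', h'⟩ := conjfix (a * b) ⟨n, hn, by
        rwa [show r * (a * b) * r⁻¹ = (r * a * r⁻¹) * (r * b * r⁻¹) by group, hrb, ← hb]⟩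
      exact hnone n' hn' h'
    have z1 := hzero a haA hna
    have z2 := hzero b hbA hnb
    have z3 := hzero (a * b) (mul_mem haA hbA) hnone
    have z4 := hzero (b * a⁻¹) (mul_mem hbA (inv_mem haA)) hnd
    -- all nine elements of `A` together
    have e2 : a⁻¹ = a * a := inv_eq_of_mul_eq_one_right (by rw [← mul_assoc, ← pow_two, ← pow_succ, hA3 a haA])
    have hcab : Commute a b := hcomm a haA b hbA
    have p2 : (a * b) * (a * b) = (a * a) * (b * b) := hcab.symm.mul_mul_mul_comm a b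
    have p3 : b * a⁻¹ = (a * a) * b := by rw [e2]; exact ((hcab.mul_left hcab)).symm.eq
    have p4 : (b * a⁻¹) * (b * a⁻¹) = a * (b * b) := by
      rw [p3, (hcab.symm.mul_right hcab.symm).mul_mul_mul_comm (a * a) b]
      congr 1
      rw [← mul_assoc, mul_assoc a a a, mul_assoc a (a * a) a, mul_assoc a a a, ← mul_assoc a a a]
      rw [show a * a * a = 1 by rw [← pow_two, ← pow_succ, hA3 a haA]]
      exact mul_one a
    rw [pr] at z1 z2 z3 z4
    rw [p2] at z3
    rw [p4, p3] at z4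
    have hT : ∀ y ∈ A, ρ y (m + ρ a m + ρ (a * a) m + ρ b m + ρ (b * b) m + ρ (a * b) m
        + ρ (a * a * (b * b)) m + ρ (a * a * b) m + ρ (a * (b * b)) m) = (m + ρ a m + ρ (a * a) m
        + ρ b m + ρ (b * b) m + ρ (a * b) m
        + ρ (a * a * (b * b)) m + ρ (a * a * b) m + ρ (a * (b * b)) m) := by
      have hwa : ∀ n, ρ a (n + ρ a n + ρ a (ρ a n)) = n + ρ a n + ρ a (ρ a n) := hfixpow a haA
      have hwb : ∀ n, ρ b (n + ρ b n + ρ b (ρ b n)) = n + ρ b n + ρ b (ρ b n) := hfixpow b hbA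
      set n := m + ρ b m + ρ b (ρ b m) with hn
      have key : m + ρ a m + ρ (a * a) m + ρ b m + ρ (b * b) m + ρ (a * b) m
        + ρ (a * a * (b * b)) m + ρ (a * a * b) m + ρ (a * (b * b)) m = n + ρ a n + ρ a (ρ a n) := by
        simp only [hn, map_add, pr, mul_assoc]
        abel
      intro y hy
      obtain ⟨j, k, rfl⟩ := hab y hy
      rw [key]
      have hbn : ρ b (n + ρ a n + ρ a (ρ a n)) = n + ρ a n + ρ a (ρ a n) := by
        rw [map_add, map_add, pr b a n, ← hcab.eq, ← pr a b n, hwb m, pr b a (ρ a n), ← hcab.eq,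
          ← pr a b (ρ a n), pr b a n, ← hcab.eq, ← pr a b n, hwb m]
      have hpow : ∀ (g : S) (q : M), ρ g q = q → ∀ j : ℕ, ρ (g ^ j) q = q := by
        intro g q h j
        induction j with
        | zero => rw [pow_zero, map_one]; rfl
        | succ i ih => rw [pow_succ, ← pr, h, ih]
      rw [← pr, hpow _ _ hbn, hpow _ _ (hwa n)]
    have h9 := hfix _ hT
    have h3 : m + m + m = 0 := by
      have hsum : (m + ρ a m + ρ (a * a) m) + (m + ρ b m + ρ (b * b) m)
          + (m + ρ (a * b) m + ρ (a * a * (b * b)) m) + (m + ρ (a * a * b) m + ρ (a * (b * b)) m) =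
          (m + ρ a m + ρ (a * a) m + ρ b m + ρ (b * b) m + ρ (a * b) m
          + ρ (a * a * (b * b)) m + ρ (a * a * b) m + ρ (a * (b * b)) m) + (m + m + m) := by abel
      rw [h9, z1, z2, z3, z4] at hsum
      simpa using hsum.symm
    have h2 : m + m = 0 := by rw [← two_smul (ZMod 2) m, show (2 : ZMod 2) = 0 from rfl, zero_smul]
    rw [h2, zero_add] at h3
    exact hm h3
  have hs' : ι (.sr (-1)) * (a * b) = (a * b) * ι (.sr (-1)) := by
    have e : ι (.sr (-1)) = r * s := by rw [hr, hs, ← map_mul]; rfl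
    have hsb : s * b = b⁻¹ * s := by
      have e1 : s * r = r * (ι (.r 2) * s) := by rw [hs, hr, ← map_mul, ← map_mul, ← map_mul]; rfl
      calc s * b = s * r * a * r⁻¹ := by rw [hb]; group
        _ = r * ι (.r 2) * (s * a) * r⁻¹ := by rw [e1]; group
        _ = r * (ι (.r 2) * a) * s * r⁻¹ := by rw [hsa]; group
        _ = r * (a⁻¹ * ι (.r 2)) * s * r⁻¹ := by rw [hz a haA]
        _ = b⁻¹ * (r * (ι (.r 2) * s) * r⁻¹) := by rw [hb]; group
        _ = b⁻¹ * s := by rw [← e1, mul_inv_cancel_right]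
    calc ι (.sr (-1)) * (a * b) = r * (s * a) * b := by rw [e]; group
      _ = r * a * (s * b) := by rw [hsa]; group
      _ = r * a * r⁻¹ * (r * b * r⁻¹)⁻¹ * (r * s) := by rw [hsb]; group
      _ = b * a * (r * s) := by rw [hrb, inv_inv, ← hb]
      _ = (a * b) * ι (.sr (-1)) := by rw [e, hcomm b hbA a haA]
  have hab1 : a * b ≠ 1 := fun h => by
    rw [h] at hn'
    exact hna ⟨m, hm, by
      have hb' : b = a⁻¹ := eq_inv_of_mul_eq_one_right h
      have h5 : a = a⁻¹ := by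
        calc a = r⁻¹ * b * r := by rw [hb]; group
          _ = (r⁻¹ * a * r)⁻¹ := by rw [hb']; group
          _ = (r * a * r⁻¹) := by
            have h6 : r⁻¹ * a * r = b⁻¹ := by
              rw [← inv_inv a, ← hrb]; group
            rw [h6, inv_inv, hb]
          _ = a⁻¹ := by rw [← hb, hb']
      have := hA0 a haA (eq_inv_iff_mul_eq_one.1 h5)
      rw [this, map_one]; rfl⟩
  exact line_case A hA ι hι hgen hz ρ hirr hfix (-1) (a * b) (mul_mem haA hbA) hs'
    (hgen2 (-1) (a * b) (mul_mem haA hbA) hab1 hs') n hn hn'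

end Cfsg.Agent.S4407
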