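import Cfsg.Statements.S4408
import Cfsg.Agent.Solvable.Fitting
import Cfsg.Agent.Solvable.Nilpotent
import Cfsg.Agent.Coprime.Abelian
-- import your own Cfsg.Agent.* helpers here

set_option autoImplicit false
set_option linter.style.haveILetI false
open Cfsg

namespace Cfsg.Agent.S4408

open Subgroup

/-- Commuting involutions acting on a nontrivial abelian group fix or invert a common element. -/
theorem exists_signed {X : Type*} [Group X] [Finite X] (D I : Subgroup X)
    (hDc : ∀ a ∈ D, ∀ b ∈ D, a * b = b * a) (hI2 : ∀ t ∈ I, t * t = 1)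
    (hID : ∀ t ∈ I, ∀ x ∈ D, t * x * t⁻¹ ∈ D) (hne : ∃ x ∈ D, x ≠ 1) :
    ∃ x ∈ D, x ≠ 1 ∧ ∀ t ∈ I, t * x * t⁻¹ = x ∨ t * x * t⁻¹ = x⁻¹ := by
  classical
  cases nonempty_fintype X
  have hIc : ∀ s ∈ I, ∀ t ∈ I, s * t = t * s := by
    intro s hs t ht
    have h : ∀ u ∈ I, u⁻¹ = u := fun u hu => inv_eq_of_mul_eq_one_left (hI2 u hu)
    have := h _ (mul_mem hs ht)
    rw [mul_inv_rev, h s hs, h t ht] at this
    exact this.symm
  suffices ∀ T : Finset X, (∀ t ∈ T, t ∈ I) →
      ∃ x ∈ D, x ≠ 1 ∧ ∀ t ∈ T, t * x * t⁻¹ = x ∨ t * x * t⁻¹ = x⁻¹ by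
    obtain ⟨x, hx, hx1, h⟩ := this (Finset.univ.filter (· ∈ I)) (fun t ht => (Finset.mem_filter.1 ht).2)
    exact ⟨x, hx, hx1, fun t ht => h t (by simp [ht])⟩
  intro T
  induction T using Finset.induction_on with
  | empty => intro _; obtain ⟨x, hx, hx1⟩ := hne; exact ⟨x, hx, hx1, by simp⟩
  | insert t T _ ih =>
    intro hT
    obtain ⟨x, hx, hx1, hgood⟩ := ih (fun u hu => hT u (Finset.mem_insert_of_mem hu))
    have ht : t ∈ I := hT t (Finset.mem_insert_self _ _)
    by_cases hy : x * (t * x * t⁻¹) = 1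
    · refine ⟨x, hx, hx1, fun u hu => ?_⟩
      rcases Finset.mem_insert.1 hu with rfl | hu
      · exact Or.inr (eq_inv_of_mul_eq_one_right hy)
      · exact hgood u hu
    · refine ⟨x * (t * x * t⁻¹), mul_mem hx (hID t ht x hx), hy, fun u hu => ?_⟩
      rcases Finset.mem_insert.1 hu with rfl | hu
      · left
        have htt : u⁻¹ = u := inv_eq_of_mul_eq_one_left (hI2 u ht)
        calc u * (x * (u * x * u⁻¹)) * u⁻¹ = (u * x * u⁻¹) * ((u * u) * x * (u * u)⁻¹) := by group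
          _ = (u * x * u⁻¹) * x := by rw [hI2 u ht]; simp
          _ = x * (u * x * u⁻¹) := hDc _ (hID u ht x hx) _ hx
      · have hu' : u ∈ I := hT u (Finset.mem_insert_of_mem hu)
        have e : u * (x * (t * x * t⁻¹)) * u⁻¹ = (u * x * u⁻¹) * (t * (u * x * u⁻¹) * t⁻¹) := by
          calc u * (x * (t * x * t⁻¹)) * u⁻¹ = (u * x * u⁻¹) * ((u * t) * x * (u * t)⁻¹) := by group
            _ = (u * x * u⁻¹) * (t * (u * x * u⁻¹) * t⁻¹) := by rw [hIc u hu' t ht]; group
        rcases hgood u hu with h | h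
        · left; rw [e, h]
        · right
          rw [e, h, mul_inv_rev, ← conj_inv]
          exact hDc _ (inv_mem hx) _ (by
            simpa using inv_mem (hID t ht x hx))

/-- In a solvable group with odd Fitting subgroup an elementary abelian 2-subgroup acts faithfully
on some abelian subgroup of the Fitting subgroup. -/
theorem exists_faithful_abelian {S : Type*} [Group S] [Finite S] [Group.IsSolvable S]
    (hF : Odd (Nat.card ↥(Cfsg.fittingSubgroup S))) (I : Subgroup S)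
    (hI2 : ∀ t ∈ I, t * t = 1) :
    ∃ B : Subgroup S, B ≤ Cfsg.fittingSubgroup S ∧ I ≤ normalizer (B : Set S) ∧ IsMulCommutative B ∧
      I ⊓ centralizer (B : Set S) = ⊥ := by
  classical
  set F := Cfsg.fittingSubgroup S with hFdef
  haveI : F.Normal := CfsgLib.Solvable.fittingSubgroup_normal
  haveI : Group.IsNilpotent F := CfsgLib.Solvable.fittingSubgroup_isNilpotent
  obtain ⟨B, hBmem, hmax⟩ := (Set.toFinite {B : Subgroup S | B ≤ F ∧ IsMulCommutative B ∧
      F ≤ normalizer (B : Set S) ∧ I ≤ normalizer (B : Set S)}).exists_maximalFor id _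
      ⟨⊥, bot_le, ⟨⟨fun a b => Subsingleton.elim _ _⟩⟩, by rw [normalizer_eq_top]; exact le_top,
        by rw [normalizer_eq_top]; exact le_top⟩
  obtain ⟨hBF, hBc, hFB, hIB⟩ := hBmem
  refine ⟨B, hBF, hIB, hBc, ?_⟩
  -- `B` is its own centraliser in `F`
  have hCB : F ⊓ centralizer (B : Set S) ≤ B := by
    by_contra hle
    let N := normalizer (B : Set S)
    haveI : (B.subgroupOf N).Normal := Subgroup.normal_in_normalizer
    let q := QuotientGroup.mk' (B.subgroupOf N)
    let Cq := ((F ⊓ centralizer (B : Set S)).subgroupOf N).map q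
    let Fq := (F.subgroupOf N).map q
    have hq : ∀ y : N, q y = 1 ↔ (y : S) ∈ B := fun y => QuotientGroup.eq_one_iff y
    have hCF : Cq ≤ Fq := Subgroup.map_mono (fun y hy => hy.1)
    haveI : Group.IsNilpotent Fq :=
      Group.nilpotent_of_surjective
        ((q.subgroupMap (F.subgroupOf N)).comp (Subgroup.subgroupOfEquivOfLe hFB).symm.toMonoidHom)
        ((MonoidHom.subgroupMap_surjective q _).comp (MulEquiv.surjective _))
    have hFconj : ∀ g ∈ N, ∀ y ∈ F ⊓ centralizer (B : Set S), g * y * g⁻¹ ∈ F ⊓ centralizer (B : Set S) := by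
      intro g hg y hy
      refine ⟨‹F.Normal›.conj_mem y hy.1 g, mem_centralizer_iff.2 fun b hb => ?_⟩
      have hb' : g⁻¹ * b * g ∈ B := (mem_normalizer_iff.1 hg _).2 (by simpa [mul_assoc] using hb)
      calc b * (g * y * g⁻¹) = g * ((g⁻¹ * b * g) * y) * g⁻¹ := by group
        _ = g * (y * (g⁻¹ * b * g)) * g⁻¹ := by rw [mem_centralizer_iff.1 hy.2 _ hb']
        _ = g * y * g⁻¹ * b := by group
    haveI : (Cq.subgroupOf Fq).Normal := ⟨by
      rintro ⟨c, hc⟩ ⟨y, hy, rfl⟩ ⟨f, ⟨f', hf', rfl⟩⟩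
      exact ⟨f' * y * f'⁻¹, hFconj f' f'.2 y hy, by simp⟩⟩
    have hCne : Cq.subgroupOf Fq ≠ ⊥ := by
      obtain ⟨y, hy, hyB⟩ := SetLike.not_le_iff_exists.1 hle
      intro hb
      have h1 : (⟨q ⟨y, hFB hy.1⟩, hCF ⟨⟨y, hFB hy.1⟩, hy, rfl⟩⟩ : Fq) ∈ Cq.subgroupOf Fq :=
        ⟨⟨y, hFB hy.1⟩, hy, rfl⟩
      rw [hb, Subgroup.mem_bot] at h1
      exact hyB ((hq _).1 (congrArg Subtype.val h1))
    have hZne := CfsgLib.Solvable.inf_center_ne_bot (N := Cq.subgroupOf Fq) hCne
    let D := (Cq.subgroupOf Fq ⊓ Subgroup.center Fq).map Fq.subtype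
    have hDc : ∀ a ∈ D, ∀ b ∈ D, a * b = b * a := by
      rintro _ ⟨a, ha, rfl⟩ _ ⟨b, hb, rfl⟩
      exact congrArg Subtype.val (Subgroup.mem_center_iff.1 hb.2 a)
    let J := (I.subgroupOf N).map q
    have hJ2 : ∀ t ∈ J, t * t = 1 := by
      rintro _ ⟨t, ht, rfl⟩
      rw [← map_mul, show t * t = 1 from Subtype.ext (hI2 _ ht), map_one]
    have hJD : ∀ t ∈ J, ∀ x ∈ D, t * x * t⁻¹ ∈ D := by
      rintro _ ⟨t, ht, rfl⟩ _ ⟨⟨x, hx⟩, ⟨⟨y, hy, hyx⟩, hxc⟩, rfl⟩
      have hyx' : q y = x := hyx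
      subst hyx'
      have hmem : q t * q y * (q t)⁻¹ ∈ Fq :=
        ⟨t * y * t⁻¹, ‹F.Normal›.conj_mem y hy.1 t, by simp⟩
      refine ⟨⟨_, hmem⟩, ⟨⟨t * y * t⁻¹, hFconj t t.2 y hy, by simp⟩, ?_⟩, rfl⟩
      refine Subgroup.mem_center_iff.2 ?_
      rintro ⟨_, f, hf, rfl⟩
      refine Subtype.ext ?_
      show q f * (q t * q y * (q t)⁻¹) = q t * q y * (q t)⁻¹ * q f
      have h2 : q (t⁻¹ * f * t) * q y = q y * q (t⁻¹ * f * t) :=
        congrArg Subtype.val (Subgroup.mem_center_iff.1 hxc ⟨q (t⁻¹ * f * t), t⁻¹ * f * t,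
          by show (((t⁻¹ * f * t : N)) : S) ∈ F; simpa using ‹F.Normal›.conj_mem (f : S) hf ((t : S)⁻¹), rfl⟩)
      simp only [map_mul, map_inv] at h2
      calc q f * (q t * q y * (q t)⁻¹) = q t * (((q t)⁻¹ * q f * q t) * q y) * (q t)⁻¹ := by group
        _ = q t * (q y * ((q t)⁻¹ * q f * q t)) * (q t)⁻¹ := by rw [h2]
        _ = q t * q y * (q t)⁻¹ * q f := by group
    obtain ⟨x, hx, hx1⟩ := (Subgroup.ne_bot_iff_exists_ne_one).1 hZne |>.elim
      (fun a ha => (⟨((a : Fq) : N ⧸ B.subgroupOf N), ⟨(a : Fq), a.2, rfl⟩,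
        fun h => ha (Subtype.ext (Subtype.ext h))⟩ : ∃ x, x ∈ D ∧ x ≠ 1))
    obtain ⟨x, hx, hx1, hsign⟩ := exists_signed D J hDc hJ2 hJD ⟨x, hx, hx1⟩
    obtain ⟨⟨x', hx'⟩, ⟨⟨y, hy, hyx⟩, hxc⟩, rfl⟩ := hx
    have hyx' : q y = x' := hyx
    subst hyx'
    have hyB : (y : S) ∉ B := fun h => hx1 ((hq y).2 h)
    have hyC : ∀ b ∈ B, b * (y : S) = y * b := fun b hb => mem_centralizer_iff.1 hy.2 b hb
    set B' := B ⊔ zpowers (y : S) with hB'
    have hBc' : IsMulCommutative B' := by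
      rw [hB', show B ⊔ zpowers (y : S) = closure ((B : Set S) ∪ {(y : S)}) by
        rw [Subgroup.closure_union, Subgroup.closure_eq, ← zpowers_eq_closure]]
      refine isMulCommutative_closure fun a ha b hb => ?_
      rcases ha with ha | ha <;> rcases hb with hb | hb
      · exact congrArg Subtype.val (hBc.is_comm.comm (⟨a, ha⟩ : B) ⟨b, hb⟩)
      · obtain rfl : b = (y : S) := hb
        exact hyC a ha
      · obtain rfl : a = (y : S) := ha
        exact (hyC b hb).symm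
      · obtain rfl : a = (y : S) := ha
        obtain rfl : b = (y : S) := hb
        rfl
    -- conjugates of `y` stay inside `B'`
    have hnorm : ∀ g : S, g ∈ N → g * y * g⁻¹ ∈ B' → g ∈ normalizer (B' : Set S) := by
      intro g hg hgy
      rw [mem_normalizer_iff_map_conj_eq]
      refine eq_of_le_of_card_ge ?_
        (card_map_of_injective (f := (MulAut.conj g).toMonoidHom) (MulAut.conj g).injective).ge
      rw [hB', Subgroup.map_sup, MonoidHom.map_zpowers]
      refine sup_le ?_ (zpowers_le.2 hgy)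
      rintro _ ⟨b, hb, rfl⟩
      exact mem_sup_left ((mem_normalizer_iff.1 hg b).1 hb)
    have hlift : ∀ (w : N) (e : ℤ), q w = q y ^ e → (w : S) ∈ B' := by
      intro w e hwe
      have h1 : ((w * (y ^ e)⁻¹ : N) : S) ∈ B := (hq _).1 (by rw [map_mul, map_inv, map_zpow, hwe, mul_inv_cancel])
      have h2 : (w : S) = ((w * (y ^ e)⁻¹ : N) : S) * (y : S) ^ e := by simp
      rw [h2]
      exact mul_mem (mem_sup_left h1) (mem_sup_right (zpow_mem (mem_zpowers _) e))
    have hB'mem : B' ≤ F ∧ IsMulCommutative B' ∧ F ≤ normalizer (B' : Set S) ∧ I ≤ normalizer (B' : Set S) := by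
      refine ⟨sup_le hBF (zpowers_le.2 hy.1), hBc', fun f hf => hnorm f (hFB hf) ?_,
        fun t ht => hnorm t (hIB ht) ?_⟩
      · refine hlift (⟨f, hFB hf⟩ * y * ⟨f, hFB hf⟩⁻¹) 1 ?_
        have := congrArg Subtype.val (Subgroup.mem_center_iff.1 hxc ⟨q ⟨f, hFB hf⟩, ⟨f, hFB hf⟩, hf, rfl⟩)
        change q ⟨f, hFB hf⟩ * q y = q y * q ⟨f, hFB hf⟩ at this
        rw [map_mul, map_mul, this, map_inv, mul_inv_cancel_right, zpow_one]
      · rcases hsign (q ⟨t, hIB ht⟩) ⟨⟨t, hIB ht⟩, ht, rfl⟩ with h | h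
        · exact hlift (⟨t, hIB ht⟩ * y * ⟨t, hIB ht⟩⁻¹) 1 (by
            rw [map_mul, map_mul, map_inv, zpow_one]; exact h)
        · exact hlift (⟨t, hIB ht⟩ * y * ⟨t, hIB ht⟩⁻¹) (-1) (by
            rw [map_mul, map_mul, map_inv, zpow_neg_one]; exact h)
    exact hyB (hmax hB'mem le_sup_left (mem_sup_right (mem_zpowers _)))
  rw [eq_bot_iff]
  intro t ht
  rw [mem_bot]
  obtain ⟨ht, htB⟩ := ht
  have hnm : zpowers t ≤ normalizer (F : Set S) := by
    rw [normalizer_eq_top]; exact le_top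
  have hcop : (Nat.card (zpowers t)).Coprime (Nat.card F) := by
    rw [Nat.card_zpowers]
    exact Nat.Coprime.coprime_dvd_left (orderOf_dvd_of_pow_eq_one (by rw [sq]; exact hI2 t ht))
      hF.coprime_two_left
  have hTB : zpowers t ≤ centralizer (B : Set S) := zpowers_le.2 htB
  have hBt : ⁅B, zpowers t⁆ = ⊥ := by
    rw [commutator_eq_bot_iff_le_centralizer]
    exact le_centralizer_iff.1 hTB
  have hFt : ⁅F, zpowers t⁆ ≤ B := by
    refine le_trans (le_inf ?_ ?_) hCB
    · exact CfsgLib.Coprime.commutator_le_of_le_normalizer hnm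
    · rw [← commutator_eq_bot_iff_le_centralizer]
      refine commutator_commutator_eq_bot_of_rotate ?_ ?_
      · rw [commutator_comm (zpowers t) B, hBt, commutator_bot_left]
      · refine eq_bot_iff.2 (le_trans (commutator_mono ?_ le_rfl) hBt.le)
        rw [← le_normalizer_iff_commutator_le_left]
        exact hFB
  have h3 : ⁅⁅F, zpowers t⁆, zpowers t⁆ = ⊥ :=
    eq_bot_iff.2 ((commutator_mono hFt le_rfl).trans hBt.le)
  have htF := CfsgLib.Coprime.le_centralizer_of_commutator_commutator_eq_bot hnm hcop h3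
  have h1 : t ∈ F := CfsgLib.Solvable.centralizer_fittingSubgroup_le (htF (mem_zpowers t))
  have h2 : zpowers t ≤ F := zpowers_le.2 h1
  have := Nat.eq_one_of_dvd_coprimes hcop dvd_rfl (card_dvd_of_le h2)
  rw [Nat.card_zpowers, orderOf_eq_one_iff] at this
  exact this

/-- A prime order subgroup of `B` that `I` normalises and `t` does not centralise. -/
theorem exists_line {S : Type*} [Group S] [Finite S] (I B : Subgroup S) (hI2 : ∀ t ∈ I, t * t = 1)
    (hIB : I ≤ normalizer (B : Set S)) (hBc : IsMulCommutative B) (hBodd : Odd (Nat.card B))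
    (hfaith : I ⊓ centralizer (B : Set S) = ⊥) {t : S} (ht : t ∈ I) (ht1 : t ≠ 1) :
    ∃ L : Subgroup S, (Nat.card L).Prime ∧ L ≤ B ∧ I ≤ normalizer (L : Set S) ∧
      t ∉ centralizer (L : Set S) ∧ (I ⊓ centralizer (L : Set S)).relIndex I ≤ 2 := by
  classical
  have hcop : (Nat.card (zpowers t)).Coprime (Nat.card B) := by
    rw [Nat.card_zpowers]
    exact Nat.Coprime.coprime_dvd_left (orderOf_dvd_of_pow_eq_one (by rw [sq]; exact hI2 t ht))
      hBodd.coprime_two_left
  obtain ⟨v, hv, hvo, hvt⟩ : ∃ v ∈ B, (orderOf v).Prime ∧ v ∉ centralizer ((zpowers t : Subgroup S) : Set S) := by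
    by_contra hcon
    push Not at hcon
    have h := CfsgLib.Coprime.le_centralizer_of_forall_prime_order
      ((zpowers_le.2 ht).trans hIB) hcop hcon
    have : t ∈ I ⊓ centralizer (B : Set S) := ⟨ht, h (mem_zpowers t)⟩
    rw [hfaith, mem_bot] at this
    exact ht1 this
  set p := orderOf v with hp
  have hBcomm : ∀ a ∈ B, ∀ b ∈ B, a * b = b * a := fun a ha b hb =>
    congrArg Subtype.val (hBc.is_comm.comm (⟨a, ha⟩ : B) ⟨b, hb⟩)
  have hconjB : ∀ s ∈ I, ∀ x ∈ B, s * x * s⁻¹ ∈ B := fun s hs x hx =>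
    (mem_normalizer_iff.1 (hIB hs) x).1 hx
  let D : Subgroup S :=
    { carrier := {x | x ∈ B ∧ x ^ p = 1 ∧ t * x * t⁻¹ = x⁻¹}
      one_mem' := ⟨one_mem _, one_pow _, by simp⟩
      mul_mem' := fun {a b} ha hb => ⟨mul_mem ha.1 hb.1,
        by rw [(show Commute a b from hBcomm _ ha.1 _ hb.1).mul_pow, ha.2.1, hb.2.1, one_mul],
        by
          calc t * (a * b) * t⁻¹ = (t * a * t⁻¹) * (t * b * t⁻¹) := by group
            _ = a⁻¹ * b⁻¹ := by rw [ha.2.2, hb.2.2]
            _ = (a * b)⁻¹ := by rw [mul_inv_rev, hBcomm _ (inv_mem hb.1) _ (inv_mem ha.1)]⟩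
      inv_mem' := fun {a} ha => ⟨inv_mem ha.1, by rw [inv_pow, ha.2.1, inv_one],
        by rw [← conj_inv, ha.2.2]⟩ }
  have hvt' : t * v * t⁻¹ ≠ v := fun h => hvt (mem_centralizer_iff.2 fun s hs => by
    obtain ⟨k, rfl⟩ := mem_zpowers_iff.1 hs
    exact (Commute.zpow_left (show Commute t v from mul_inv_eq_iff_eq_mul.1 h) k).eq)
  have hne : ∃ x ∈ D, x ≠ 1 := by
    refine ⟨v * (t * v * t⁻¹)⁻¹, ⟨mul_mem hv (inv_mem (hconjB t ht v hv)), ?_, ?_⟩, ?_⟩
    · rw [(show Commute v (t * v * t⁻¹)⁻¹ from hBcomm _ hv _ (inv_mem (hconjB t ht v hv))).mul_pow,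
        inv_pow, conj_pow, pow_orderOf_eq_one]
      simp
    · calc t * (v * (t * v * t⁻¹)⁻¹) * t⁻¹ = (t * v * t⁻¹) * ((t * t) * v⁻¹ * (t * t)⁻¹) := by group
        _ = (t * v * t⁻¹) * v⁻¹ := by rw [hI2 t ht]; simp
        _ = (v * (t * v * t⁻¹)⁻¹)⁻¹ := by group
    · rw [Ne, mul_inv_eq_one]; exact Ne.symm hvt'
  have hIc : ∀ s ∈ I, ∀ u ∈ I, s * u = u * s := by
    intro s hs u hu
    have h : ∀ u ∈ I, u⁻¹ = u := fun u hu => inv_eq_of_mul_eq_one_left (hI2 u hu)
    have := h _ (mul_mem hs hu)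
    rw [mul_inv_rev, h s hs, h u hu] at this
    exact this.symm
  obtain ⟨x, hx, hx1, hsign⟩ := exists_signed D I (fun a ha b hb => hBcomm _ ha.1 _ hb.1) hI2
    (fun s hs x hx => ⟨hconjB s hs x hx.1, by rw [conj_pow, hx.2.1]; simp, by
      calc t * (s * x * s⁻¹) * t⁻¹ = (t * s) * x * (t * s)⁻¹ := by group
        _ = s * (t * x * t⁻¹) * s⁻¹ := by rw [hIc t ht s hs]; group
        _ = (s * x * s⁻¹)⁻¹ := by rw [hx.2.2]; group⟩) hne
  obtain ⟨hxB, hxp, hxt⟩ := hx
  haveI : Fact p.Prime := ⟨hvo⟩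
  have hox : orderOf x = p := orderOf_eq_prime hxp hx1
  refine ⟨zpowers x, by rw [Nat.card_zpowers, hox]; exact hvo, zpowers_le.2 hxB, ?_, ?_, ?_⟩
  · intro s hs
    rw [mem_normalizer_iff_map_conj_eq, MonoidHom.map_zpowers]
    show zpowers (s * x * s⁻¹) = zpowers x
    rcases hsign s hs with h | h <;> rw [h]
    exact zpowers_inv
  · intro hc
    have h1 : x * t = t * x := mem_centralizer_iff.1 hc x (mem_zpowers x)
    rw [← h1, mul_inv_cancel_right] at hxt
    have h2 : x ^ 2 = 1 := by rw [sq]; nth_rewrite 2 [hxt]; exact mul_inv_cancel x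
    have h3 : p ∣ 2 := hox ▸ orderOf_dvd_of_pow_eq_one h2
    have h4 : p ∣ Nat.card B := hox ▸ Nat.card_zpowers x ▸ card_dvd_of_le (zpowers_le.2 hxB)
    rw [(Nat.prime_dvd_prime_iff_eq hvo Nat.prime_two).1 h3] at h4
    have := Nat.odd_iff.1 hBodd
    omega
  · -- the kernel of the action of `I` on the line has index at most two
    set C := I ⊓ centralizer ((zpowers x : Subgroup S) : Set S)
    have hmem : ∀ s ∈ I, s * x * s⁻¹ = x → s ∈ C := fun s hs h => ⟨hs, mem_centralizer_iff.2 fun y hy => by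
      obtain ⟨k, rfl⟩ := mem_zpowers_iff.1 hy
      exact (Commute.zpow_left (show Commute x s from (mul_inv_eq_iff_eq_mul.1 h).symm) k).eq⟩
    by_contra h3
    push Not at h3
    classical
    change 2 < (C.subgroupOf I).index at h3
    rw [index_eq_card] at h3
    haveI := Fintype.ofFinite (↥I ⧸ C.subgroupOf I)
    rw [Nat.card_eq_fintype_card, Fintype.two_lt_card_iff] at h3
    obtain ⟨a, b, c, hab, hac, hbc⟩ := h3
    obtain ⟨a, rfl⟩ := QuotientGroup.mk_surjective a
    obtain ⟨b, rfl⟩ := QuotientGroup.mk_surjective b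
    obtain ⟨c, rfl⟩ := QuotientGroup.mk_surjective c
    have hsame : ∀ u w : I, (u : S) * x * (u : S)⁻¹ = w * x * (w : S)⁻¹ →
        (u : ↥I ⧸ C.subgroupOf I) = w := fun u w h => QuotientGroup.eq.2 (hmem _ (mul_mem (inv_mem u.2) w.2) (by
      calc ((u : S)⁻¹ * w) * x * ((u : S)⁻¹ * w)⁻¹ = (u : S)⁻¹ * (w * x * (w : S)⁻¹) * u := by group
        _ = x := by rw [← h]; group))
    rcases hsign a a.2 with ha | ha <;> rcases hsign b b.2 with hb | hb <;> rcases hsign c c.2 with hc | hc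
    all_goals first
      | exact hab (hsame a b (ha.trans hb.symm))
      | exact hac (hsame a c (ha.trans hc.symm))
      | exact hbc (hsame b c (hb.trans hc.symm))

/-- Let S be a finite solvable group whose Fitting subgroup F(S) has odd order, and let I be an elementary abelian 2-subgroup of S of order 2ⁿ with n ≥ 1. Then F(S) contains subgroups A₁, …, Aₙ of prime order, each normalized by I, pairwise commuting and generating a subgroup A of order |A₁|⋯|Aₙ| (their internal direct product), such that no non-identity element of I centralizes A. -/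
theorem result {S : Type*} [Group S] [Finite S]
    [Group.IsSolvable S] (hF : Odd (Nat.card ↥(Cfsg.fittingSubgroup S)))
    (I : Subgroup S) (hI : Cfsg.IsElementaryAbelian 2 I) (n : ℕ) (hn : 1 ≤ n) (hIn : Nat.card ↥I = 2 ^ n) :
    ∃ f : Fin n → Subgroup S, (∀ i, (Nat.card ↥(f i)).Prime) ∧ (∀ i, f i ≤ Cfsg.fittingSubgroup S) ∧
      (∀ i, I ≤ Subgroup.normalizer ((f i) : Set S)) ∧ (∀ i j, i ≠ j → ∀ a ∈ f i, ∀ b ∈ f j, a * b = b * a) ∧
      Nat.card ↥(⨆ i, f i) = ∏ i, Nat.card ↥(f i) ∧ I ⊓ Subgroup.centralizer ((⨆ i, f i : Subgroup S) : Set S) = ⊥ := by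
  classical
  have hI2 : ∀ t ∈ I, t * t = 1 := fun t ht => by rw [← sq]; exact hI.2 t ht
  obtain ⟨B, hBF, hIB, hBc, hfaith⟩ := exists_faithful_abelian hF I hI2
  have hBodd : Odd (Nat.card B) := hF.of_dvd_nat (Subgroup.card_dvd_of_le hBF)
  suffices ∀ j ≤ n, ∃ f : Fin j → Subgroup S, (∀ i, (Nat.card ↥(f i)).Prime) ∧ (∀ i, f i ≤ B) ∧
      (∀ i, I ≤ Subgroup.normalizer ((f i) : Set S)) ∧ Nat.card ↥(⨆ i, f i) = ∏ i, Nat.card ↥(f i) ∧
      2 ^ (n - j) ≤ Nat.card ↥(I ⊓ Subgroup.centralizer ((⨆ i, f i : Subgroup S) : Set S)) ∧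
      (2 ^ (n - j) = Nat.card ↥(I ⊓ Subgroup.centralizer ((⨆ i, f i : Subgroup S) : Set S))) by
    obtain ⟨f, h1, h2, h3, h4, -, h6⟩ := this n le_rfl
    refine ⟨f, h1, fun i => (h2 i).trans hBF, h3, fun i j _ a ha b hb => ?_, h4, ?_⟩
    · exact congrArg Subtype.val (hBc.is_comm.comm (⟨a, h2 i ha⟩ : B) ⟨b, h2 j hb⟩)
    · exact Subgroup.eq_bot_of_card_eq _ (by rw [← h6]; simp)
  suffices ∀ j ≤ n, ∃ f : Fin j → Subgroup S, (∀ i, (Nat.card ↥(f i)).Prime) ∧ (∀ i, f i ≤ B) ∧
      (∀ i, I ≤ Subgroup.normalizer ((f i) : Set S)) ∧ Nat.card ↥(⨆ i, f i) = ∏ i, Nat.card ↥(f i) ∧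
      (2 ^ (n - j) = Nat.card ↥(I ⊓ Subgroup.centralizer ((⨆ i, f i : Subgroup S) : Set S))) by
    intro j hj
    obtain ⟨f, h1, h2, h3, h4, h5⟩ := this j hj
    exact ⟨f, h1, h2, h3, h4, h5.le, h5⟩
  intro j
  induction j with
  | zero =>
    intro _
    refine ⟨Fin.elim0, fun i => i.elim0, fun i => i.elim0, fun i => i.elim0, ?_, ?_⟩
    · simp
    · rw [iSup_of_empty, Nat.sub_zero, ← hIn, inf_of_le_left]
      intro t _
      rw [Subgroup.mem_centralizer_iff]
      rintro y hy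
      rw [Subgroup.coe_bot, Set.mem_singleton_iff] at hy
      rw [hy, one_mul, mul_one]
  | succ j ih =>
    intro hj
    obtain ⟨f, h1, h2, h3, h4, h5⟩ := ih (by omega)
    set A := ⨆ i, f i with hA
    set K := I ⊓ Subgroup.centralizer (A : Set S) with hK
    obtain ⟨⟨t, htK⟩, ht1⟩ := K.ne_bot_iff_exists_ne_one.1 (by
      intro h
      rw [h, Subgroup.card_bot] at h5
      exact absurd h5 (Nat.one_lt_two_pow (by omega)).ne')
    obtain ⟨L, hL1, hL2, hL3, hL4, hL5⟩ := exists_line I B hI2 hIB hBc hBodd hfaith htK.1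
      (fun h => ht1 (Subtype.ext h))
    have hsup : (⨆ i, (Fin.cons L f : Fin (j + 1) → Subgroup S) i) = L ⊔ A := by
      apply le_antisymm
      · refine iSup_le (Fin.cases ?_ fun i => ?_)
        · exact le_sup_left
        · exact (le_iSup f i).trans le_sup_right
      · exact sup_le (le_iSup (Fin.cons L f : Fin (j + 1) → Subgroup S) 0)
          (iSup_le fun i => le_iSup (Fin.cons L f : Fin (j + 1) → Subgroup S) i.succ)
    refine ⟨Fin.cons L f, Fin.cases hL1 h1, Fin.cases hL2 h2, Fin.cases hL3 h3, ?_, ?_⟩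
    · have hAB : A ≤ B := iSup_le h2
      have hdis : L ⊓ A = ⊥ := by
        by_contra hne
        have hdvd := Subgroup.card_dvd_of_le (inf_le_left : L ⊓ A ≤ L)
        rcases (Nat.dvd_prime hL1).1 hdvd with h | h
        · exact hne (Subgroup.eq_bot_of_card_eq _ h)
        · have hLA : L ≤ A := by
            have := Subgroup.eq_of_le_of_card_ge (inf_le_left : L ⊓ A ≤ L) h.ge
            exact this ▸ inf_le_right
          exact hL4 (Subgroup.centralizer_le hLA htK.2)
      have hAn : A ≤ Subgroup.normalizer (L : Set S) := fun a ha => by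
        refine Subgroup.centralizer_le_normalizer (s := (L : Set S)) (Subgroup.mem_centralizer_iff.2 fun x hx => ?_)
        exact congrArg Subtype.val (hBc.is_comm.comm (⟨x, hL2 hx⟩ : B) ⟨a, hAB ha⟩)
      rw [hsup, CfsgLib.Coprime.card_sup_eq hAn hdis, h4, Fin.prod_univ_succ]
      simp
    · rw [hsup]
      have hK' : I ⊓ Subgroup.centralizer ((L ⊔ A : Subgroup S) : Set S) =
          K ⊓ (I ⊓ Subgroup.centralizer (L : Set S)) := by
        apply le_antisymm
        · exact le_inf (inf_le_inf_left _ (Subgroup.centralizer_le (SetLike.coe_subset_coe.2 le_sup_right)))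
            (inf_le_inf_left _ (Subgroup.centralizer_le (SetLike.coe_subset_coe.2 le_sup_left)))
        · rintro x ⟨⟨hxI, hxA⟩, -, hxL⟩
          refine ⟨hxI, ?_⟩
          have hle : L ⊔ A ≤ Subgroup.centralizer ({x} : Set S) := sup_le
            (fun y hy => Subgroup.mem_centralizer_singleton_iff.2 (Subgroup.mem_centralizer_iff.1 hxL y hy))
            (fun y hy => Subgroup.mem_centralizer_singleton_iff.2 (Subgroup.mem_centralizer_iff.1 hxA y hy))
          exact Subgroup.mem_centralizer_iff.2 fun y hy => Subgroup.mem_centralizer_singleton_iff.1 (hle hy)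
      set K' := I ⊓ Subgroup.centralizer ((L ⊔ A : Subgroup S) : Set S)
      have hle : K' ≤ K := hK' ▸ inf_le_left
      have hne : K' ≠ K := fun h => hL4 (by
        have : t ∈ K' := h.symm ▸ htK
        rw [hK'] at this
        exact this.2.2)
      have hrel : K'.relIndex K ≤ 2 := by
        rw [hK', Subgroup.inf_relIndex_left]
        refine le_trans (Subgroup.relIndex_le_of_le_right inf_le_left ?_) hL5
        exact Subgroup.index_ne_zero_of_finite
      have hrel1 : K'.relIndex K ≠ 1 := fun h => hne (le_antisymm hle (Subgroup.relIndex_eq_one.1 h))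
      have hrel0 : K'.relIndex K ≠ 0 := Subgroup.index_ne_zero_of_finite
      have hmul := Subgroup.relIndex_mul_relIndex ⊥ K' K bot_le hle
      rw [Subgroup.relIndex_bot_left, Subgroup.relIndex_bot_left, ← h5,
        show K'.relIndex K = 2 by omega, show n - j = n - (j + 1) + 1 by omega, pow_succ] at hmul
      omega

end Cfsg.Agent.S4408
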