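import Cfsg.Statements.S4409
import Cfsg.Agent.FGS74.SmallEightMain

set_option autoImplicit false
open Cfsg

namespace Cfsg.Agent.S4409

open scoped Pointwise

/-- Let S be a finite solvable group with O_{2'}(S) = 1 that contains a non-cyclic abelian subgroup of order 8, while no proper subgroup of S of 2-power index contains one. Then a Sylow 2-subgroup X of S is normal in S, and one of the following holds: X is abelian; X is extraspecial of order at least 32; X has a generalized quaternion subgroup X₀ of index 2 with X = X₀·C_X(X₀); or X is special with centre of order 4. -/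
theorem result {S : Type*} [Group S] [Finite S]
    [Group.IsSolvable S] (hO : Cfsg.pPrimeCore 2 S = ⊥)
    (h8 : ∃ A : Subgroup S, IsMulCommutative ↥A ∧ ¬ IsCyclic ↥A ∧ Nat.card ↥A = 8)
    (hmin : ∀ R : Subgroup S, R ≠ ⊤ → (∃ k : ℕ, R.index = 2 ^ k) →
      ¬ ∃ A : Subgroup S, A ≤ R ∧ IsMulCommutative ↥A ∧ ¬ IsCyclic ↥A ∧ Nat.card ↥A = 8)
    (X : Sylow 2 S) :
    (X : Subgroup S).Normal ∧
      (IsMulCommutative ↥X ∨
        (Cfsg.IsExtraspecial 2 ↥X ∧ 32 ≤ Nat.card ↥X) ∨
        (∃ (X₀ : Subgroup S) (k : ℕ), X₀ ≤ (X : Subgroup S) ∧ X₀.relIndex (X : Subgroup S) = 2 ∧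
          Nonempty (↥X₀ ≃* QuaternionGroup (2 ^ (k + 1))) ∧ X₀ ⊔ ((X : Subgroup S) ⊓ Subgroup.centralizer (X₀ : Set S)) = (X : Subgroup S)) ∨
        (Cfsg.IsSpecial 2 ↥X ∧ Nat.card ↥(Subgroup.center ↥X) = 4)) := by
  haveI : Fact (Nat.Prime 2) := ⟨Nat.prime_two⟩
  obtain ⟨H, hHp, hHi⟩ := CfsgLib.Solvable.exists_isPiHall {p | p ≠ 2} S
  have hodd : (Nat.card H).Coprime 2 :=
    (Nat.prime_two.coprime_iff_not_dvd.2 fun h => hHp 2 Nat.prime_two h rfl).symm
  obtain ⟨k, hk⟩ : ∃ k, H.index = 2 ^ k :=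
    ⟨_, Nat.eq_prime_pow_of_unique_prime_dvd Subgroup.index_ne_zero_of_finite fun {d} hd hdv => by
      by_contra hne
      exact hHi d hd hne hdv⟩
  have hindex : ∀ R : Subgroup S, H ≤ R → ∃ j, R.index = 2 ^ j := fun R hR => by
    have h1 := Subgroup.index_dvd_of_le hR
    rw [hk] at h1
    obtain ⟨j, -, hj⟩ := (Nat.dvd_prime_pow Nat.prime_two).1 h1
    exact ⟨j, hj⟩
  obtain ⟨A₀, hA₀c, hA₀n, hA₀8⟩ := h8
  obtain ⟨g, A, hAX, hAg⟩ : ∃ (g : S) (A : Subgroup S), A ≤ (X : Subgroup S) ∧ A = MulAut.conj g • A₀ := by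
    obtain ⟨T, hT⟩ := (IsPGroup.of_card (p := 2) (n := 3)
      (by rw [hA₀8]; norm_num : Nat.card A₀ = 2 ^ 3)).exists_le_sylow
    obtain ⟨g, hg⟩ := MulAction.exists_smul_eq S T X
    refine ⟨g, MulAut.conj g • A₀, ?_, rfl⟩
    rw [← hg, Sylow.coe_subgroup_smul]
    exact Subgroup.pointwise_smul_le_pointwise_smul_iff.2 hT
  have eA : A₀ ≃* A := (Subgroup.equivSMul (MulAut.conj g) A₀).trans (MulEquiv.subgroupCongr hAg.symm)
  have hAc : IsMulCommutative A := ⟨⟨fun a b => eA.symm.injective (by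
    rw [map_mul, map_mul]; exact hA₀c.is_comm.comm _ _)⟩⟩
  have hAn : ¬ IsCyclic A := fun h => hA₀n (by
    haveI := h
    exact isCyclic_of_injective eA.toMonoidHom eA.injective)
  have hA8 : Nat.card A = 8 := by rw [← Nat.card_congr eA.toEquiv]; exact hA₀8
  have hXp : IsPGroup 2 (X : Subgroup S) := X.isPGroup'
  set Q := Cfsg.pCore 2 S with hQdef
  haveI : Q.Normal := CfsgLib.Solvable.pCore_normal 2
  have hQp : IsPGroup 2 Q := CfsgLib.PLocal.isPGroup_pCore 2 S
  have hQC : Subgroup.centralizer (Q : Set S) ≤ Q :=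
    CfsgLib.PLocal.centralizer_pCore_le CfsgLib.PLocal.isPSolvable_of_isSolvable hO
  have hQX : Q ≤ (X : Subgroup S) := CfsgLib.Solvable.pCore_le_sylow X
  have hHN : ∀ {N : Subgroup S}, N.Normal → H ≤ Subgroup.normalizer (N : Set S) := fun {N} hN => by
    haveI := hN
    rw [Subgroup.normalizer_eq_top]
    exact le_top
  have hXQ : (X : Subgroup S) = Q := by
    by_cases hs : CfsgLib.FGS74.SmallEight.Small Q
    · by_contra hne
      by_cases hQH : ⁅Q, H⁆ = ⊥
      · -- `S` is a 2-group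
        have hH1 : H = ⊥ := by
          have h1 : H ≤ Q := by
            refine le_trans ?_ hQC
            rw [← Subgroup.commutator_eq_bot_iff_le_centralizer, Subgroup.commutator_comm, hQH]
          exact CfsgLib.PLocal.eq_bot_of_isPGroup_of_coprime (hQp.to_le h1) hodd
        rw [hH1, Subgroup.index_bot] at hk
        haveI : (X : Subgroup S).Normal := by
          have htop : (X : Subgroup S) = ⊤ :=
            (X.3 ((IsPGroup.of_card hk).to_subgroup ⊤) le_top).symm
          rw [htop]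
          infer_instance
        exact hne (le_antisymm (CfsgLib.Solvable.le_pCore hXp) hQX)
      · have h := CfsgLib.FGS74.SmallEight.core_of_small hQp hs (hHN inferInstance) hodd hQH
        refine CfsgLib.FGS74.SmallEight.no_abelian_eight h hXp ?_ hQC hAX hAc hAn hA8
        rw [Subgroup.normalizer_eq_top]
        exact le_top
    · simp only [CfsgLib.FGS74.SmallEight.Small, not_forall] at hs
      obtain ⟨A', hA'Q, hA'c, hA'8, hA'n⟩ := hs
      have htop : Q ⊔ H = ⊤ := by
        by_contra hne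
        exact hmin _ hne (hindex _ le_sup_right) ⟨A', hA'Q.trans le_sup_left, hA'c, hA'n, hA'8⟩
      refine le_antisymm ?_ hQX
      intro x hx
      have hx' : x ∈ Q ⊔ H := htop.symm ▸ Subgroup.mem_top x
      obtain ⟨q, hq, y, hy, hqy⟩ := CfsgLib.Coprime.exists_mul_of_mem_sup (hHN inferInstance) hx'
      have hyX : y ∈ (X : Subgroup S) := by
        rw [show y = q⁻¹ * x by rw [← hqy]; group]
        exact mul_mem (inv_mem (hQX hq)) hx
      have h1 : (X : Subgroup S) ⊓ H = ⊥ :=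
        CfsgLib.PLocal.eq_bot_of_isPGroup_of_coprime (hXp.to_le inf_le_left)
          (CfsgLib.PLocal.coprime_card_of_le inf_le_right hodd)
      have h2 : y = 1 := (Subgroup.eq_bot_iff_forall _).1 h1 y ⟨hyX, hy⟩
      rw [← hqy, h2, mul_one]
      exact hq
  haveI hXn : (X : Subgroup S).Normal := hXQ ▸ inferInstance
  refine ⟨hXn, ?_⟩
  have hcard : Nat.card S = Nat.card (X : Subgroup S) * Nat.card H := by
    have h1 := H.card_mul_index
    rw [hk] at h1
    obtain ⟨n, hn⟩ := IsPGroup.iff_card.1 hXp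
    have hd : Nat.card (X : Subgroup S) ∣ 2 ^ k := by
      have h2 := Subgroup.card_subgroup_dvd_card (X : Subgroup S)
      rw [← h1] at h2
      exact (Nat.Coprime.coprime_dvd_left dvd_rfl
        (by rw [hn]; exact (Nat.Coprime.pow_right n hodd).symm)).dvd_of_dvd_mul_left h2
    have hd2 : 2 ^ k ∣ Nat.card (X : Subgroup S) := by
      rw [X.card_eq_multiplicity]
      exact (Nat.Prime.pow_dvd_iff_le_factorization Nat.prime_two Nat.card_pos.ne').1
        (h1 ▸ dvd_mul_left _ _) |> pow_dvd_pow 2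
    rw [Nat.dvd_antisymm hd hd2, mul_comm, h1]
  by_cases hXH : ⁅(X : Subgroup S), H⁆ = ⊥
  · left
    have hH1 : H = ⊥ := by
      have h1 : H ≤ (X : Subgroup S) := by
        refine le_trans ?_ (hXQ.symm ▸ hQC : Subgroup.centralizer ((X : Subgroup S) : Set S) ≤ (X : Subgroup S))
        rw [← Subgroup.commutator_eq_bot_iff_le_centralizer, Subgroup.commutator_comm, hXH]
      exact CfsgLib.PLocal.eq_bot_of_isPGroup_of_coprime (hXp.to_le h1) hodd
    have hA : A = (X : Subgroup S) := by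
      by_contra hne
      refine hmin A (fun e => hne (le_antisymm hAX (e.symm ▸ le_top))) (hindex A (hH1 ▸ bot_le))
        ⟨A, le_rfl, hAc, hAn, hA8⟩
    exact (show IsMulCommutative (X : Subgroup S) by rw [← hA]; exact hAc)
  refine CfsgLib.FGS74.SmallEight.structure_theorem hXp (hHN hXn) hodd hXH ⟨A, hAX, hAc, hAn, hA8⟩ ?_
  intro R hR hHR A' hA'R hA'c hA'8
  by_contra hA'n
  refine hmin (R ⊔ H) (fun e => ?_) (hindex _ le_sup_right)
    ⟨A', hA'R.trans le_sup_left, hA'c, hA'n, hA'8⟩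
  have hRH : R ⊓ H = ⊥ :=
    CfsgLib.PLocal.eq_bot_of_isPGroup_of_coprime ((hXp.to_le hR.le).to_le inf_le_left)
      (CfsgLib.PLocal.coprime_card_of_le inf_le_right hodd)
  have h1 := CfsgLib.Coprime.card_sup_eq hHR hRH
  rw [e, Subgroup.card_top, hcard] at h1
  exact hR.ne (Subgroup.eq_of_le_of_card_ge hR.le
    (Nat.eq_of_mul_eq_mul_right Nat.card_pos h1).le)

end Cfsg.Agent.S4409
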