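import Cfsg.Statements.S4410
import Cfsg.Agent.Solvable.Fitting
import Mathlib

set_option autoImplicit false
open Cfsg

namespace Cfsg.Agent.S4410

section RankOne

variable {V : Type*} [AddCommGroup V] [Module (ZMod 2) V]

/-- `s` moves every vector by `0` or by the fixed vector `a`. -/
private def RankOne (s : V ≃ₗ[ZMod 2] V) : Prop :=
  ∃ a : V, a ≠ 0 ∧ s a = a ∧ ∃ φ : V →ₗ[ZMod 2] ZMod 2, ∀ v, s v = v + φ v • a

private theorem add_self (v : V) : v + v = 0 := by
  rw [← two_smul (ZMod 2) v, show (2 : ZMod 2) = 0 from rfl, zero_smul]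

/-- Two rank one maps: either their product has order dividing four, or they braid. -/
private theorem braid {s u : V ≃ₗ[ZMod 2] V} (hs : RankOne s) (hu : RankOne u)
    (hodd : Odd (orderOf (s * u))) : s = u ∨ s * u * s = u * s * u := by
  obtain ⟨a, ha0, ha, φ, hφ⟩ := hs
  obtain ⟨b, hb0, hb, ψ, hψ⟩ := hu
  have hφa : φ a = 0 := by
    have h := hφ a
    rw [ha, left_eq_add, smul_eq_zero] at h
    exact h.resolve_right ha0
  have hψb : ψ b = 0 := by
    have h := hψ b
    rw [hb, left_eq_add, smul_eq_zero] at h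
    exact h.resolve_right hb0
  have hinvs : s * s = 1 := LinearEquiv.ext fun v => by
    show s (s v) = v
    rw [hφ (s v), hφ v, map_add, map_smul, hφa, smul_zero, add_zero, add_assoc, add_self, add_zero]
  have hinvu : u * u = 1 := LinearEquiv.ext fun v => by
    show u (u v) = v
    rw [hψ (u v), hψ v, map_add, map_smul, hψb, smul_zero, add_zero, add_assoc, add_self, add_zero]
  have hcase : ∀ c : ZMod 2, c = 0 ∨ c = 1 := by decide
  have key : ∀ {s u : V ≃ₗ[ZMod 2] V} {a b : V} {φ ψ : V →ₗ[ZMod 2] ZMod 2},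
      (∀ v, s v = v + φ v • a) → (∀ v, u v = v + ψ v • b) → φ a = 0 → ψ b = 0 → φ b = 0 →
      (s * u) ^ 4 = 1 := by
    intro s u a b φ ψ hs hu hφa hψb hφb
    have hsu : ∀ v, (s * u) v = v + ψ v • b + φ v • a := fun v => by
      show s (u v) = _
      rw [hs, hu, map_add, map_smul, hφb, smul_zero, add_zero]
    have h2 : ∀ v, ((s * u) * (s * u)) v = v + (φ v * ψ a) • b := fun v => by
      show (s * u) ((s * u) v) = _
      rw [hsu ((s * u) v), hsu v]
      simp only [map_add, map_smul, hφa, hψb, hφb, smul_eq_mul, mul_zero, add_zero, add_smul]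
      calc v + ψ v • b + φ v • a + (ψ v • b + (φ v * ψ a) • b) + φ v • a
          = v + (φ v * ψ a) • b + (ψ v • b + ψ v • b) + (φ v • a + φ v • a) := by abel
        _ = _ := by rw [add_self, add_self, add_zero, add_zero]
    refine LinearEquiv.ext fun v => ?_
    rw [show (s * u) ^ 4 = ((s * u) * (s * u)) * ((s * u) * (s * u)) by
      simp only [pow_succ, pow_zero, one_mul, mul_assoc]]
    show ((s * u) * (s * u)) (((s * u) * (s * u)) v) = v
    rw [h2, h2, map_add, map_smul, hφb]
    simp only [smul_eq_mul, mul_zero, add_zero]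
    rw [add_assoc, add_self, add_zero]
  have hfour : (s * u) ^ 4 = 1 → s = u := by
    intro h4
    have h1 : orderOf (s * u) = 1 := by
      refine Nat.eq_one_of_dvd_coprimes ?_ dvd_rfl (orderOf_dvd_of_pow_eq_one h4)
      exact (Nat.coprime_two_right.2 hodd).pow_right 2
    rw [orderOf_eq_one_iff] at h1
    calc s = (s * u) * u := by rw [mul_assoc, hinvu, mul_one]
      _ = u := by rw [h1, one_mul]
  rcases hcase (φ b) with hb1 | hb1
  · exact Or.inl (hfour (key hφ hψ hφa hψb hb1))
  rcases hcase (ψ a) with ha1 | ha1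
  · refine Or.inl (hfour ?_)
    have h := key hψ hφ hψb hφa ha1
    have he : s * u = s * (u * s) * s⁻¹ := by group
    rw [he, conj_pow, h, mul_one, mul_inv_cancel]
  refine Or.inr (LinearEquiv.ext fun v => ?_)
  show s (u (s v)) = u (s (u v))
  rw [hφ (u (s v)), hψ (s v), hφ v, hψ (s (u v)), hφ (u v), hψ v]
  simp only [map_add, map_smul, hφa, hψb, ha1, hb1, smul_eq_mul, mul_one, mul_zero, add_zero,
    zero_add, add_smul]
  calc v + φ v • a + (ψ v • b + φ v • b) + (φ v • a + (ψ v • a + φ v • a))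
      = v + ψ v • b + φ v • b + φ v • a + ψ v • a + (φ v • a + φ v • a) := by abel
    _ = v + ψ v • b + φ v • b + φ v • a + ψ v • a + (ψ v • b + ψ v • b) := by
        rw [add_self, add_self]
    _ = _ := by abel

private theorem rankOne_conj {s : V ≃ₗ[ZMod 2] V} (hs : RankOne s) (f : V ≃ₗ[ZMod 2] V) :
    RankOne (f * s * f⁻¹) := by
  obtain ⟨a, ha0, ha, φ, hφ⟩ := hs
  refine ⟨f a, by simpa using ha0, ?_, φ.comp f.symm.toLinearMap, fun v => ?_⟩
  · show f (s (f.symm (f a))) = f a
    rw [LinearEquiv.symm_apply_apply, ha]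
  · show f (s (f.symm v)) = v + φ (f.symm v) • f a
    rw [hφ, map_add, map_smul, LinearEquiv.apply_symm_apply]

end RankOne

/-- The Fitting subgroup has odd order when the 2-core is trivial. -/
private theorem odd_fitting {G : Type*} [Group G] [Finite G] (h : Cfsg.pCore 2 G = ⊥) :
    Odd (Nat.card (Cfsg.fittingSubgroup G)) := by
  haveI : Fact (Nat.Prime 2) := ⟨Nat.prime_two⟩
  haveI := CfsgLib.Solvable.fittingSubgroup_normal (G := G)
  rw [← Nat.not_even_iff_odd, even_iff_two_dvd]
  intro h2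
  obtain ⟨P⟩ : Nonempty (Sylow 2 (Cfsg.fittingSubgroup G)) := inferInstance
  haveI := CfsgLib.Solvable.fittingSubgroup_isNilpotent (G := G)
  haveI : (P : Subgroup (Cfsg.fittingSubgroup G)).Normal :=
    P.normal_of_normalizerCondition Group.normalizerCondition_of_isNilpotent
  haveI : (P : Subgroup (Cfsg.fittingSubgroup G)).Characteristic :=
    P.characteristic_of_normal inferInstance
  have hle : (P : Subgroup (Cfsg.fittingSubgroup G)).map (Cfsg.fittingSubgroup G).subtype ≤ ⊥ :=
    h ▸ CfsgLib.Solvable.le_pCore (P.2.map _)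
  rw [le_bot_iff, Subgroup.map_eq_bot_iff_of_injective _ (Subgroup.subtype_injective _)] at hle
  exact P.ne_bot_of_dvd_card h2 hle

/-- Let V be a finite-dimensional vector space over the field with two elements and S a solvable group of linear automorphisms of V with O₂(S) = 1. If P ∈ S has order 4 and (P − 1)³ = 0 on V, then the image of (P − 1)² has at least 4 elements; equivalently, in the decomposition of V into indecomposable modules for the cyclic group generated by P, at least two summands have dimension 3. -/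
theorem result
    {V : Type*} [AddCommGroup V] [Module (ZMod 2) V] [Finite V]
    (S : Subgroup (V ≃ₗ[ZMod 2] V)) (hS : Group.IsSolvable ↥S) (hO2 : Cfsg.pCore 2 ↥S = ⊥)
    (P : V ≃ₗ[ZMod 2] V) (hPS : P ∈ S) (hP4 : orderOf P = 4)
    (hcub : ((P : V →ₗ[ZMod 2] V) - LinearMap.id) ^ 3 = 0) :
    4 ≤ Nat.card ↥(LinearMap.range (((P : V →ₗ[ZMod 2] V) - LinearMap.id) ^ 2)) := by
  classical
  by_contra hlt
  haveI : Finite (V ≃ₗ[ZMod 2] V) :=
    Finite.of_injective (fun e => (e : V → V)) DFunLike.coe_injective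
  have hpow : ∀ v : V,
      (((P : V →ₗ[ZMod 2] V) - LinearMap.id) ^ 2 : V →ₗ[ZMod 2] V) v = (P ^ 2) v + v := by
    intro v
    rw [pow_two, pow_two]
    show P (P v - v) - (P v - v) = P (P v) + v
    rw [map_sub]
    calc P (P v) - P v - (P v - v) = P (P v) + v - (P v + P v) := by abel
      _ = _ := by rw [add_self, sub_zero]
  set t := P ^ 2 with ht
  set n := ((P : V →ₗ[ZMod 2] V) - LinearMap.id) ^ 2 with hn
  have ht1 : t ≠ 1 := fun e => by
    have := orderOf_dvd_of_pow_eq_one (ht ▸ e : P ^ 2 = 1)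
    rw [hP4] at this
    norm_num at this
  have htt : t * t = 1 := by rw [ht, ← pow_add, show 2 + 2 = orderOf P by rw [hP4], pow_orderOf_eq_one]
  have hne : LinearMap.range n ≠ ⊥ := by
    intro e
    refine ht1 (LinearEquiv.ext fun v => ?_)
    have h := hpow v
    rw [LinearMap.range_eq_bot.1 e, LinearMap.zero_apply] at h
    show t v = v
    calc t v = t v + v + v := by rw [add_assoc, add_self, add_zero]
      _ = v := by rw [← h, zero_add]
  haveI := Fintype.ofFinite V
  have hrk : Module.finrank (ZMod 2) (LinearMap.range n) = 1 := by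
    have h2 := Module.natCard_eq_pow_finrank (K := ZMod 2) (V := LinearMap.range n)
    rw [Nat.card_zmod] at h2
    rw [h2] at hlt
    rcases Nat.lt_or_ge (Module.finrank (ZMod 2) (LinearMap.range n)) 2 with h | h
    · have : Module.finrank (ZMod 2) (LinearMap.range n) ≠ 0 := fun e =>
        hne (Submodule.finrank_eq_zero.1 e)
      omega
    · exact absurd (Nat.pow_le_pow_right two_pos h) hlt
  obtain ⟨a, ha0, hspan⟩ := finrank_eq_one_iff'.1 hrk
  have hall : ∀ v, ∃ c : ZMod 2, t v = v + c • (a : V) := fun v => by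
    obtain ⟨c, hc⟩ := hspan ⟨n v, LinearMap.mem_range_self n v⟩
    refine ⟨c, ?_⟩
    have h : c • (a : V) = t v + v := (congrArg Subtype.val hc).trans (hpow v)
    rw [h]
    calc t v = t v + (v + v) := by rw [add_self, add_zero]
      _ = _ := by abel
  choose c hc using hall
  have ha0' : (a : V) ≠ 0 := fun e => ha0 (Subtype.ext e)
  have hRt : RankOne t := by
    refine ⟨a, ha0', ?_, ⟨⟨c, fun v w => ?_⟩, fun r v => ?_⟩, hc⟩
    · obtain ⟨w, hw⟩ := a.2
      rw [← hw, hpow, map_add]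
      show (t * t) w + t w = _
      rw [htt]
      show w + t w = _
      abel
    · refine smul_left_injective (ZMod 2) ha0' ?_
      have h := map_add t v w
      rw [hc, hc, hc] at h
      show c (v + w) • (a : V) = (c v + c w) • (a : V)
      rw [add_smul]
      refine add_left_cancel (a := v + w) ?_
      rw [h]; abel
    · refine smul_left_injective (ZMod 2) ha0' ?_
      have h := map_smul t r v
      rw [hc, hc, smul_add, smul_smul] at h
      exact add_left_cancel h
  -- the normal odd subgroup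
  haveI := hS
  have hodd := odd_fitting hO2
  haveI hFn := CfsgLib.Solvable.fittingSubgroup_normal (G := ↥S)
  let F := Cfsg.fittingSubgroup ↥S
  let T : ↥S := ⟨t, pow_mem hPS 2⟩
  have hTT : T * T = 1 := Subtype.ext htt
  have hordF : ∀ x ∈ F, Odd (orderOf x) := fun x hx => by
    have h := orderOf_dvd_natCard (⟨x, hx⟩ : F)
    rw [Subgroup.orderOf_mk] at h
    exact Odd.of_dvd_nat hodd h
  have hD : ∀ f ∈ F, ∀ g ∈ F, Odd (orderOf (f * T * f⁻¹ * (g * T * g⁻¹))) ∧
      RankOne ((f * T * f⁻¹ : ↥S) : V ≃ₗ[ZMod 2] V) := fun f hf g hg => by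
    refine ⟨hordF _ ?_, rankOne_conj hRt f⟩
    rw [show f * T * f⁻¹ * (g * T * g⁻¹) = f * (T * (f⁻¹ * g) * T⁻¹) * (T * T) * g⁻¹ by group,
      hTT, mul_one]
    exact mul_mem (mul_mem hf (hFn.conj_mem _ (mul_mem (inv_mem hf) hg) T)) (inv_mem hg)
  have hbraid : ∀ f ∈ F, ∀ g ∈ F, f * T * f⁻¹ = g * T * g⁻¹ ∨
      f * T * f⁻¹ * (g * T * g⁻¹) * (f * T * f⁻¹) =
        g * T * g⁻¹ * (f * T * f⁻¹) * (g * T * g⁻¹) := fun f hf g hg => by
    have h := (hD f hf g hg).1
    rw [← orderOf_injective S.subtype S.subtype_injective] at h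
    exact (braid (hD f hf g hg).2 (hD g hg f hf).2 h).imp Subtype.ext Subtype.ext
  have hfix : ∀ f ∈ F, f * T * f⁻¹ = T := by
    by_contra! hno
    obtain ⟨f, hf, hfT⟩ := hno
    set u := f * T * f⁻¹ with hu
    have huu : u * u = 1 := by
      rw [hu, show f * T * f⁻¹ * (f * T * f⁻¹) = f * (T * T) * f⁻¹ by group, hTT, mul_one,
        mul_inv_cancel]
    have hTu : T * u * T = u * T * u := by
      have h := hbraid 1 (one_mem F) f hf
      simp only [one_mul, inv_one, mul_one] at h
      exact h.resolve_left hfT.symm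
    let Q : ↥S := ⟨P, hPS⟩
    have hQ : T = Q * Q := Subtype.ext (pow_two P)
    -- the third conjugate
    have hTuT : T * u * T = T * f * T⁻¹ * T * (T * f * T⁻¹)⁻¹ := by
      rw [hu, show T * (f * T * f⁻¹) * T = T * f * T⁻¹ * T * (T * f * T⁻¹)⁻¹ * (T * T) by group,
        hTT, mul_one]
    have hthree : ∀ g ∈ F, g * T * g⁻¹ = T ∨ g * T * g⁻¹ = u ∨ g * T * g⁻¹ = T * u * T := by
      intro g hg
      set w := g * T * g⁻¹ with hw
      by_contra! hne3
      obtain ⟨hwT, hwu, hwr⟩ := hne3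
      have hww : w * w = 1 := by
        rw [hw, show g * T * g⁻¹ * (g * T * g⁻¹) = g * (T * T) * g⁻¹ by group, hTT, mul_one,
          mul_inv_cancel]
      obtain ⟨a₁, ha₁, hfix₁, φ₁, hφ₁⟩ := hRt
      obtain ⟨a₂, ha₂, hfix₂, φ₂, hφ₂⟩ := (hD f hf f hf).2
      obtain ⟨a₃, ha₃, hfix₃, φ₃, hφ₃⟩ := (hD g hg g hg).2
      rw [← hu] at hfix₂ hφ₂
      rw [← hw] at hfix₃ hφ₃
      have hcase : ∀ x : ZMod 2, x = 0 ∨ x = 1 := by decide
      have hbr : ∀ {x y : ↥S} {b : V} {χ : V →ₗ[ZMod 2] ZMod 2},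
          x * y * x = y * x * y → x * x = 1 → x ≠ y → (∀ v, (x : V ≃ₗ[ZMod 2] V) v = v + χ v • b) →
          ∀ {b' : V} {χ' : V →ₗ[ZMod 2] ZMod 2}, (y : V ≃ₗ[ZMod 2] V) b' = b' →
          (∀ v, (y : V ≃ₗ[ZMod 2] V) v = v + χ' v • b') → χ b' = 1 := by
        intro x y b χ hxy hxx hne hx b' χ' hb' hy
        refine (hcase (χ b')).resolve_left fun h0 => hne ?_
        have hcomm : ∀ v, (x : V ≃ₗ[ZMod 2] V) ((y : V ≃ₗ[ZMod 2] V) ((x : V ≃ₗ[ZMod 2] V) v))
            = (y : V ≃ₗ[ZMod 2] V) ((x : V ≃ₗ[ZMod 2] V) ((y : V ≃ₗ[ZMod 2] V) v)) := fun v =>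
          congrArg (fun z : ↥S => (z : V ≃ₗ[ZMod 2] V) v) hxy
        have hxb : (x : V ≃ₗ[ZMod 2] V) b' = b' := by rw [hx, h0, zero_smul, add_zero]
        have hxx' : ∀ v, (x : V ≃ₗ[ZMod 2] V) ((x : V ≃ₗ[ZMod 2] V) v) = v := fun v =>
          congrArg (fun z : ↥S => (z : V ≃ₗ[ZMod 2] V) v) hxx
        refine Subtype.ext (LinearEquiv.ext fun v => ?_)
        have h1 := hcomm v
        rw [hy ((x : V ≃ₗ[ZMod 2] V) v), map_add, map_smul, hxx', hxb, hy v, map_add, map_smul,
          hxb, map_add, map_smul, hb', hy ((x : V ≃ₗ[ZMod 2] V) v)] at h1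
        have h2 : (x : V ≃ₗ[ZMod 2] V) v + χ' v • b' = v := by
          refine add_right_cancel (b := χ' ((x : V ≃ₗ[ZMod 2] V) v) • b') ?_
          rw [h1]; abel
        rw [hy]
        calc (x : V ≃ₗ[ZMod 2] V) v = (x : V ≃ₗ[ZMod 2] V) v + χ' v • b' + χ' v • b' := by
              rw [add_assoc, add_self, add_zero]
          _ = _ := by rw [h2]
      have hTw : T * w * T = w * T * w := by
        have h := hbraid 1 (one_mem F) g hg
        simp only [one_mul, inv_one, mul_one] at h
        exact h.resolve_left fun e => hwT e.symm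
      have huw : u * w * u = w * u * w := (hbraid f hf g hg).resolve_left fun e => hwu e.symm
      have h13 : φ₁ a₃ = 1 := hbr (x := T) (y := w) hTw hTT (Ne.symm hwT) hφ₁ hfix₃ hφ₃
      have h23 : φ₂ a₃ = 1 := hbr (x := u) (y := w) huw huu (Ne.symm hwu) hφ₂ hfix₃ hφ₃
      have h12 : φ₁ a₂ = 1 := hbr (x := T) (y := u) hTu hTT hfT.symm hφ₁ hfix₂ hφ₂
      have h21 : φ₂ a₁ = 1 := hbr (x := u) (y := T) hTu.symm huu hfT hφ₂ hfix₁ hφ₁
      have hr : ((T * u * T : ↥S) : V ≃ₗ[ZMod 2] V) a₃ = a₃ := by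
        show t ((u : V ≃ₗ[ZMod 2] V) (t a₃)) = a₃
        rw [hφ₁ a₃, h13, one_smul, map_add, hφ₂ a₃, hφ₂ a₁, h23, h21, one_smul]
        rw [show a₃ + a₂ + (a₁ + a₂) = a₃ + a₁ + (a₂ + a₂) by abel, add_self, add_zero,
          map_add, hφ₁ a₃, h13, one_smul, hfix₁, add_assoc, add_self, add_zero]
      have hmem : T * f * T⁻¹ ∈ F := hFn.conj_mem f hf T
      have hrw : w * (T * u * T) * w = T * u * T * w * (T * u * T) := by
        rw [hTuT]
        exact (hbraid g hg _ hmem).resolve_left (by rw [← hTuT]; exact hwr)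
      obtain ⟨a₄, ha₄, hfix₄, φ₄, hφ₄⟩ := (hD _ hmem _ hmem).2
      rw [← hTuT] at hfix₄ hφ₄
      have hrr : (T * u * T) * (T * u * T) = 1 := by
        rw [show T * u * T * (T * u * T) = T * u * (T * T) * u * T by group, hTT, mul_one,
          mul_assoc T u u, huu, mul_one, hTT]
      have h43 : φ₄ a₃ = 1 := hbr (x := T * u * T) (y := w) hrw.symm hrr (Ne.symm hwr) hφ₄ hfix₃ hφ₃
      rw [hφ₄, h43, one_smul, add_eq_left] at hr
      exact ha₄ hr
    -- P normalises the subgroup generated by T * u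
    set x := T * u with hx
    have hTx : T * x * T = x⁻¹ := by
      have hTi : T⁻¹ = T := inv_eq_of_mul_eq_one_right hTT
      have hui : u⁻¹ = u := inv_eq_of_mul_eq_one_right huu
      rw [hx, mul_inv_rev, hTi, hui, ← mul_assoc, hTT, one_mul]
    have hx3 : x * x * x = 1 := by
      rw [hx, show T * u * (T * u) * (T * u) = (T * u * T) * (u * T * u) by group, hTu,
        show u * T * u * (u * T * u) = u * T * (u * u) * T * u by group, huu, mul_one,
        mul_assoc u T T, hTT, mul_one, huu]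
    have hPf : Q * f * Q⁻¹ ∈ F := hFn.conj_mem f hf Q
    have hPu : Q * u * Q⁻¹ = Q * f * Q⁻¹ * T * (Q * f * Q⁻¹)⁻¹ := by
      rw [hu, hQ]; group
    have hPx : Q * x * Q⁻¹ = T * (Q * u * Q⁻¹) := by
      rw [hx, hQ]; group
    have hcase : Q * x * Q⁻¹ = 1 ∨ Q * x * Q⁻¹ = x ∨ Q * x * Q⁻¹ = x⁻¹ := by
      rw [hPx, hPu]
      rcases hthree _ hPf with h | h | h <;> rw [h]
      · exact Or.inl hTT
      · exact Or.inr (Or.inl rfl)
      · refine Or.inr (Or.inr ?_)
        rw [hx, mul_inv_rev, inv_eq_of_mul_eq_one_right hTT, inv_eq_of_mul_eq_one_right huu,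
          mul_assoc T u T, ← mul_assoc T T, hTT, one_mul]
    have hx1 : x ≠ 1 := fun e => hfT (by
      rw [eq_inv_of_mul_eq_one_right e, inv_eq_of_mul_eq_one_right hTT])
    have hTx' : T * x * T = x := by
      have hi : T⁻¹ = T := inv_eq_of_mul_eq_one_right hTT
      calc T * x * T = T * x * T⁻¹ := by rw [hi]
        _ = Q * (Q * x * Q⁻¹) * Q⁻¹ := by rw [hQ]; group
        _ = x := by
          rcases hcase with h | h | h
          · exact absurd (conj_eq_one_iff.1 h) hx1
          · rw [h, h]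
          · rw [h, show Q * x⁻¹ * Q⁻¹ = (Q * x * Q⁻¹)⁻¹ by group, h, inv_inv]
    rw [hTx'] at hTx
    exact hx1 (by
      have h2 : x * x = 1 := by nth_rewrite 2 [hTx]; exact mul_inv_cancel x
      calc x = x * x * x := by rw [h2, one_mul]
        _ = 1 := hx3)
  have hTC : T ∈ Subgroup.centralizer (F : Set ↥S) := fun f hf => by
    conv_rhs => rw [← hfix f hf]
    group
  have hTF : T ∈ F := CfsgLib.Solvable.centralizer_fittingSubgroup_le hTC
  refine ht1 (congrArg Subtype.val (show T = 1 from ?_))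
  rw [← orderOf_eq_one_iff]
  refine Nat.eq_one_of_dvd_coprimes (Nat.coprime_two_right.2 (hordF T hTF)) dvd_rfl ?_
  exact orderOf_dvd_of_pow_eq_one (by rw [pow_two, hTT])

end Cfsg.Agent.S4410
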