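import Cfsg.Statements.S4411
import Cfsg.Agent.FGS74.PQLocal
import Cfsg.Agent.PLocal.Stability

set_option autoImplicit false
open Cfsg

namespace Cfsg.Agent.S4411

open Subgroup CfsgLib.FGS74
open scoped commutatorElement Pointwise

universe u

section

variable {p q : ℕ} [hp : Fact p.Prime] [hq : Fact q.Prime]

theorem qelem_eq_one (hpq : p ≠ q) {G : Type*} [Group G] [Finite G] {A : Subgroup G}
    (hA : IsPGroup p A) {x : G} (hx : x ∈ A) (hxo : ∃ k, orderOf x = q ^ k) : x = 1 := by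
  obtain ⟨k, hk⟩ := hxo
  obtain ⟨j, hj⟩ := IsPGroup.iff_orderOf.1 hA ⟨x, hx⟩
  rw [orderOf_mk] at hj
  rw [← orderOf_eq_one_iff]
  exact Nat.eq_one_of_dvd_coprimes
    (Nat.Coprime.pow j k ((Nat.coprime_primes hp.out hq.out).2 hpq)) hj.dvd hk.dvd

/-- An element of `q`-power order acting nontrivially. -/
theorem exists_qelem_of_dvd {G : Type*} [Group G] [Finite G] {H : Subgroup G}
    (hq' : q ∣ ((centralizer (H : Set G)).subgroupOf (normalizer (H : Set G))).index) :
    ∃ x ∈ normalizer (H : Set G), (∃ k, orderOf x = q ^ k) ∧ x ∉ centralizer (H : Set G) := by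
  obtain ⟨R⟩ : Nonempty (Sylow q (normalizer (H : Set G))) := inferInstance
  by_contra hcon
  push Not at hcon
  refine R.not_dvd_index (hq'.trans (index_dvd_of_le fun r hr => ?_))
  refine hcon r r.2 ?_
  obtain ⟨k, hk⟩ := IsPGroup.iff_orderOf.1 R.2 ⟨r, hr⟩
  exact ⟨k, by rwa [orderOf_mk, ← orderOf_coe] at hk⟩

theorem dvd_of_qelem {G : Type*} [Group G] [Finite G] {H : Subgroup G} {x : G}
    (hx : x ∈ normalizer (H : Set G)) (hxo : ∃ k, orderOf x = q ^ k)
    (hxc : x ∉ centralizer (H : Set G)) :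
    q ∣ ((centralizer (H : Set G)).subgroupOf (normalizer (H : Set G))).index := by
  set C := (centralizer (H : Set G)).subgroupOf (normalizer (H : Set G))
  haveI : C.Normal := inferInstance
  obtain ⟨k, hk⟩ := hxo
  set y : normalizer (H : Set G) ⧸ C := QuotientGroup.mk ⟨x, hx⟩
  have hy : orderOf y ∣ q ^ k := by
    refine (orderOf_map_dvd (QuotientGroup.mk' C) ⟨x, hx⟩).trans ?_
    rw [orderOf_mk, hk]
  obtain ⟨j, -, hj⟩ := (Nat.dvd_prime_pow hq.out).1 hy
  rw [index_eq_card]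
  refine dvd_trans ?_ (orderOf_dvd_natCard y)
  rcases j.eq_zero_or_pos with rfl | hj0
  · exfalso
    rw [pow_zero, orderOf_eq_one_iff] at hj
    exact hxc (mem_subgroupOf.1 ((QuotientGroup.eq_one_iff _).1 hj))
  · rw [hj]; exact dvd_pow_self q hj0.ne'

/-- If the Sylow subgroup `T` of `N(H)` is not self-centralizing over `H`, enlarge `H`. -/
theorem enlarge {G : Type*} [Group G] [Finite G] (hpq : p ≠ q) {H T : Subgroup G}
    (hHT : H ≤ T) (hTN : T ≤ normalizer (H : Set G)) (hT : IsPGroup p T)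
    (hTs : ¬ p ∣ T.relIndex (normalizer (H : Set G)))
    {x : G} (hx : x ∈ normalizer (H : Set G)) (hxo : ∃ k, orderOf x = q ^ k)
    (hxc : x ∉ centralizer (H : Set G)) :
    ∃ K : Subgroup G, K ≤ T ∧ H ≤ K ∧ T ≤ normalizer (K : Set G) ∧
      T ⊓ centralizer (H : Set G) ≤ K ∧
      ∃ y ∈ normalizer (K : Set G), (∃ k, orderOf y = q ^ k) ∧ y ∉ centralizer (K : Set G) := by
  set M := normalizer (H : Set G)
  let H' := H.subgroupOf M
  haveI hH'n : H'.Normal := normal_subgroupOf_of_le_normalizer le_rfl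
  let C' := (centralizer (H : Set G)).subgroupOf M
  haveI : C'.Normal := inferInstance
  let L : Subgroup M := C' ⊔ H'
  haveI : L.Normal := inferInstance
  let S : Sylow p M := (hT.of_equiv (subgroupOfEquivOfLe hTN).symm).toSylow hTs
  have hS : (S : Subgroup M) = T.subgroupOf M := IsPGroup.toSylow_coe _ _
  set f := QuotientGroup.mk' L
  obtain ⟨n, hn, l, hl, hnl⟩ : ∃ n ∈ normalizer ((L ⊓ (S : Subgroup M) : Subgroup M) : Set M),
      ∃ l ∈ L, n * l = ⟨x, hx⟩ := by
    have h : (⟨x, hx⟩ : M) ∈ normalizer ((L ⊓ (S : Subgroup M) : Subgroup M) : Set M) ⊔ L := by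
      rw [CfsgLib.PLocal.normalizer_inf_sylow_sup S L]
      exact mem_top _
    exact mem_sup_of_normal_right.1 h
  have hfn : f n = f ⟨x, hx⟩ := by
    rw [← hnl, map_mul, show f l = 1 from (QuotientGroup.eq_one_iff l).2 hl, mul_one]
  obtain ⟨k, hk⟩ := hxo
  have hfxo : ∃ j, orderOf (f ⟨x, hx⟩) = q ^ j := by
    have h := orderOf_map_dvd f ⟨x, hx⟩
    rw [orderOf_mk, hk] at h
    obtain ⟨j, -, hj⟩ := (Nat.dvd_prime_pow hq.out).1 h
    exact ⟨j, hj⟩
  obtain ⟨y, hy, hyf, hyo⟩ := CharLift.exists_qpow_lift (q := q) f n (hfn ▸ hfxo)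
  have hxL : (⟨x, hx⟩ : M) ∉ L := by
    intro h
    haveI : (H'.map (QuotientGroup.mk' C')).Normal := hH'n.map _ (QuotientGroup.mk'_surjective C')
    have h1 : QuotientGroup.mk' C' (⟨x, hx⟩ : M) ∈ H'.map (QuotientGroup.mk' C') := by
      obtain ⟨c, hc, h', hh', e⟩ := mem_sup_of_normal_left.1 h
      rw [← e, map_mul, show QuotientGroup.mk' C' c = 1 from (QuotientGroup.eq_one_iff c).2 hc, one_mul]
      exact mem_map_of_mem _ hh'
    have hp' : IsPGroup p (H'.map (QuotientGroup.mk' C')) :=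
      ((hT.to_le hHT).of_equiv (subgroupOfEquivOfLe (le_normalizer : H ≤ M)).symm).map _
    have h2 := qelem_eq_one hpq hp' h1 (by
      have h := orderOf_map_dvd (QuotientGroup.mk' C') (⟨x, hx⟩ : M)
      rw [orderOf_mk, hk] at h
      obtain ⟨j, -, hj⟩ := (Nat.dvd_prime_pow hq.out).1 h
      exact ⟨j, hj⟩)
    exact hxc (mem_subgroupOf.1 ((QuotientGroup.eq_one_iff _).1 h2))
  set K := (L ⊓ (S : Subgroup M)).map M.subtype with hK
  have hHK : H ≤ K := fun h hh =>
    ⟨⟨h, le_normalizer hh⟩, ⟨mem_sup_right hh, by rw [hS]; exact hHT hh⟩, rfl⟩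
  refine ⟨K, ?_, hHK, ?_, ?_, y, ?_, ?_, ?_⟩
  · rintro _ ⟨t, ⟨-, ht⟩, rfl⟩
    rw [hS] at ht
    exact ht
  · intro t ht
    refine mem_normalizer_fintype fun w hw => ?_
    obtain ⟨v, ⟨hvL, hvS⟩, rfl⟩ := hw
    have htS : (⟨t, hTN ht⟩ : M) ∈ (S : Subgroup M) := by rw [hS]; exact ht
    exact ⟨⟨t, hTN ht⟩ * v * ⟨t, hTN ht⟩⁻¹,
      Subgroup.mem_inf.2 ⟨(inferInstance : L.Normal).conj_mem v hvL _, mul_mem (mul_mem htS hvS) (inv_mem htS)⟩, rfl⟩
  · rintro t ⟨ht, htc⟩
    exact ⟨⟨t, hTN ht⟩, ⟨mem_sup_left htc, by rw [hS]; exact ht⟩, rfl⟩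
  · have hyN : y ∈ normalizer ((L ⊓ (S : Subgroup M) : Subgroup M) : Set M) := zpowers_le.2 hn hy
    refine mem_normalizer_fintype fun w hw => ?_
    obtain ⟨v, hv, rfl⟩ := hw
    exact ⟨y * v * y⁻¹, (mem_normalizer_iff.1 hyN v).1 hv, rfl⟩
  · obtain ⟨j, hj⟩ := hyo
    exact ⟨j, by rwa [orderOf_coe]⟩
  · intro h
    have hyC : y ∈ C' := mem_subgroupOf.2 (centralizer_le hHK h)
    refine hxL ((QuotientGroup.eq_one_iff _).1 ?_)
    show f ⟨x, hx⟩ = 1
    rw [← hfn, ← hyf]
    exact (QuotientGroup.eq_one_iff y).2 (mem_sup_left hyC)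

/-- The local step: a `q`-element acts nontrivially on a characteristic subgroup of `T`. -/
theorem local_step {G : Type u} [Group G] [Finite G] (hpq : p ≠ q)
    (h23 : ¬ ((p = 2 ∧ q = 3) ∨ (p = 3 ∧ q = 2))) {H T : Subgroup G}
    (hHT : H ≤ T) (hTN : T ≤ normalizer (H : Set G)) (hT : IsPGroup p T)
    (hTs : ¬ p ∣ T.relIndex (normalizer (H : Set G)))
    (hTc : T ⊓ centralizer (H : Set G) ≤ H)
    (hsol : Cfsg.IsPSolvable p (↥(normalizer (H : Set G)) ⧸
      (centralizer (H : Set G)).subgroupOf (normalizer (H : Set G))))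
    {x : G} (hx : x ∈ normalizer (H : Set G)) (hxo : ∃ k, orderOf x = q ^ k)
    (hxc : x ∉ centralizer (H : Set G)) :
    ∃ A : Subgroup G, A ≤ T ∧ normalizer (T : Set G) ≤ normalizer (A : Set G) ∧
      q ∣ ((centralizer (A : Set G)).subgroupOf (normalizer (A : Set G))).index := by
  set M := normalizer (H : Set G) with hM
  let C' := (centralizer (H : Set G)).subgroupOf M
  let S : Sylow p M := (hT.of_equiv (subgroupOfEquivOfLe hTN).symm).toSylow hTs
  have hS : (S : Subgroup M) = T.subgroupOf M := IsPGroup.toSylow_coe _ _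
  -- `C(H)` is `p`-solvable
  have hC'ps : Cfsg.IsPSolvable p C' := by
    let Z := ((S : Subgroup M) ⊓ C').subgroupOf C'
    have hZc : Z ≤ center C' := by
      rintro z ⟨hzS, -⟩
      refine mem_center_iff.2 fun c => Subtype.ext (Subtype.ext ?_)
      have hzT : ((z : M) : G) ∈ T := by
        rw [SetLike.mem_coe, hS] at hzS
        exact hzS
      have hzH : ((z : M) : G) ∈ H := hTc ⟨hzT, z.2⟩
      exact (mem_centralizer_iff.1 c.2 _ hzH).symm
    haveI : Z.Normal := ⟨fun z hz g => by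
      rwa [mem_center_iff.1 (hZc hz) g, mul_inv_cancel_right]⟩
    refine CfsgLib.PLocal.isPSolvable_of_extension Z
      (CfsgLib.PLocal.isPSolvable_of_isPGroup
        ((S.2.to_le inf_le_left).of_equiv (subgroupOfEquivOfLe inf_le_right).symm)) ?_
    refine CfsgLib.PLocal.isPSolvable_of_coprime ((Nat.Prime.coprime_iff_not_dvd hp.out).2 ?_).symm
    rw [← index_eq_card]
    intro h
    refine CfsgLib.Transfer.not_dvd_relIndex_of_normal S C' ?_
    show p ∣ ((S : Subgroup M).subgroupOf C').index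
    rwa [show Z = (S : Subgroup M).subgroupOf C' from inf_subgroupOf_right _ _] at h
  have hMps : Cfsg.IsPSolvable p M := CfsgLib.PLocal.isPSolvable_of_extension C' hC'ps hsol
  obtain ⟨B, hSB, hBπ, hBi⟩ := PQLocal.exists_pq_subgroup (q := q) hMps S
  -- a `q`-element of `B` moving `H`
  obtain ⟨b, hbB, hbo, hbc⟩ : ∃ b ∈ B, (∃ k, orderOf b = q ^ k) ∧ b ∉ C' := by
    obtain ⟨RB⟩ : Nonempty (Sylow q B) := inferInstance
    have hidx : ¬ q ∣ ((RB : Subgroup B).map B.subtype).index := by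
      rw [index_map_subtype]
      exact fun h => (hq.out.dvd_mul.1 h).elim RB.not_dvd_index hBi
    by_contra hcon
    push Not at hcon
    have hle : (RB : Subgroup B).map B.subtype ≤ C' := by
      rintro _ ⟨r, hr, rfl⟩
      refine hcon r r.2 ?_
      obtain ⟨k, hk⟩ := IsPGroup.iff_orderOf.1 RB.2 ⟨r, hr⟩
      exact ⟨k, by rwa [orderOf_mk, ← orderOf_coe] at hk⟩
    exact hidx ((dvd_of_qelem hx hxo hxc).trans (index_dvd_of_le hle))
  -- quotient by the `p'`-core
  set O := Cfsg.pPrimeCore p B with hO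
  set f := QuotientGroup.mk' O with hf
  have hfs : Function.Surjective f := QuotientGroup.mk'_surjective O
  have hBps : Cfsg.IsPSolvable p B := CfsgLib.PLocal.isPSolvable_subgroup hMps B
  have hOp : (Nat.card O).Coprime p := CfsgLib.PLocal.coprime_card_pPrimeCore p B
  let SB : Sylow p B := S.subtype hSB
  have hSBmem : ∀ t : B, t ∈ (SB : Subgroup B) ↔ ((t : M) : G) ∈ T := fun t => by
    rw [Sylow.coe_subtype, mem_subgroupOf, hS, mem_subgroupOf]
  let HB : Subgroup B := (H.subgroupOf M).subgroupOf B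
  haveI : (H.subgroupOf M).Normal := normal_subgroupOf_of_le_normalizer le_rfl
  haveI : HB.Normal := inferInstance
  have hHBp : IsPGroup p HB :=
    SB.2.to_le fun h hh => (hSBmem h).2 (hHT hh)
  have hbO : (⟨b, hbB⟩ : B) ∉ O := by
    intro hbO
    refine hbc (mem_subgroupOf.2 (mem_centralizer_iff.2 fun h hh => ?_))
    have hhB : (⟨h, le_normalizer hh⟩ : M) ∈ B := hSB (by rw [hS]; exact hHT hh)
    have hd : Disjoint O HB := (disjoint_iff.2 (CfsgLib.PLocal.disjoint_of_isPGroup_of_coprime hHBp hOp)).symm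
    have h1 := commute_of_normal_of_disjoint O HB inferInstance inferInstance hd ⟨b, hbB⟩
      ⟨⟨h, le_normalizer hh⟩, hhB⟩ hbO hh
    exact (congrArg Subtype.val (congrArg Subtype.val h1.eq)).symm
  have hqquot : q ∣ Nat.card (B ⧸ O) := by
    obtain ⟨k, hk⟩ := hbo
    have h := orderOf_map_dvd f (⟨b, hbB⟩ : B)
    rw [orderOf_mk, hk] at h
    obtain ⟨j, -, hj⟩ := (Nat.dvd_prime_pow hq.out).1 h
    refine dvd_trans ?_ (orderOf_dvd_natCard (f (⟨b, hbB⟩ : B)))
    rcases j.eq_zero_or_pos with rfl | hj0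
    · rw [pow_zero, orderOf_eq_one_iff] at hj
      exact absurd ((QuotientGroup.eq_one_iff _).1 hj) hbO
    · rw [hj]; exact dvd_pow_self q hj0.ne'
  have hps' := CfsgLib.PLocal.isPSolvable_quotient hBps O
  obtain ⟨W', hW', z, hz, ⟨k, hzk⟩, hzc⟩ := PQLocal.exists_char_moved (p := p) (q := q) h23 hpq
    (fun r hr hd => hBπ r hr (hd.trans (card_quotient_dvd_card O))) hps'
    (CfsgLib.PLocal.centralizer_pCore_le hps' (CfsgLib.PLocal.pPrimeCore_quotient_pPrimeCore_eq_bot p B))
    hqquot (SB.mapSurjective hfs)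
  have hdis : (SB : Subgroup B) ⊓ O = ⊥ :=
    CfsgLib.PLocal.disjoint_of_isPGroup_of_coprime SB.2 hOp
  have hinj : Function.Injective (f.subgroupMap (SB : Subgroup B)) := by
    rw [← MonoidHom.ker_eq_bot_iff, eq_bot_iff]
    intro t ht
    rw [MonoidHom.mem_ker, Subtype.ext_iff] at ht
    have htO : (t : B) ∈ (SB : Subgroup B) ⊓ O := ⟨t.2, (QuotientGroup.eq_one_iff _).1 ht⟩
    rw [hdis, mem_bot] at htO
    exact Subtype.ext htO
  let i : (SB : Subgroup B) ≃* ((SB.mapSurjective hfs : Sylow p (B ⧸ O)) : Subgroup (B ⧸ O)) :=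
    (MulEquiv.ofBijective _ ⟨hinj, f.subgroupMap_surjective _⟩).trans
      (MulEquiv.subgroupCongr (Sylow.coe_mapSurjective hfs SB).symm)
  let WB : Subgroup (SB : Subgroup B) := W'.map i.symm.toMonoidHom
  set AB := WB.map (SB : Subgroup B).subtype with hAB
  have hABf : AB.map f = W'.map ((SB.mapSurjective hfs : Sylow p (B ⧸ O)) : Subgroup (B ⧸ O)).subtype := by
    rw [hAB, map_map, map_map]
    congr 1
    refine MonoidHom.ext fun w => ?_
    show ((i (i.symm w) : ((SB.mapSurjective hfs : Sylow p (B ⧸ O)) : Subgroup (B ⧸ O))) : B ⧸ O) = _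
    rw [i.apply_symm_apply]
    rfl
  obtain ⟨z₀, rfl⟩ := hfs z
  obtain ⟨n, hn, hnf⟩ : ∃ n ∈ normalizer (AB : Set B), f n = f z₀ := by
    set L := (AB.map f).comap f with hL
    have hLeq : L = AB ⊔ O := by rw [hL, comap_map_eq, QuotientGroup.ker_mk']
    haveI hLn' : (L.subgroupOf (normalizer (L : Set B))).Normal := normal_subgroupOf_of_le_normalizer le_rfl
    have hz₀L : z₀ ∈ normalizer (L : Set B) := mem_normalizer_fintype fun w hw => by
      show z₀ * w * z₀⁻¹ ∈ L
      rw [hL, SetLike.mem_coe, mem_comap, hABf] at hw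
      rw [hL, mem_comap, hABf]
      rw [map_mul, map_mul, map_inv]
      exact (mem_normalizer_iff.1 hz _).1 hw
    set P := normalizer (L : Set B) with hP
    have hABL : AB ≤ L := hLeq ▸ le_sup_left
    have hABp : IsPGroup p (AB.subgroupOf L) :=
      (SB.2.to_le (map_subtype_le _)).of_equiv (subgroupOfEquivOfLe hABL).symm
    have hABidx : ¬ p ∣ (AB.subgroupOf L).index := by
      intro h
      have h1 : AB.relIndex L ∣ Nat.card O := by
        rw [hLeq]
        have hd : Disjoint AB O := disjoint_iff.2 (le_bot_iff.1 (hdis ▸ inf_le_inf_right _ (map_subtype_le _)))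
        have h2 := CfsgLib.Solvable.card_sup_of_disjoint O AB hd
        rw [← CfsgLib.PLocal.card_mul_relIndex (le_sup_left : AB ≤ AB ⊔ O)] at h2
        exact (Nat.eq_of_mul_eq_mul_left Nat.card_pos h2).dvd
      exact (hp.out.coprime_iff_not_dvd.1 hOp.symm) (h.trans h1)
    let AS : Sylow p L := hABp.toSylow hABidx
    let LP : Subgroup P := L.subgroupOf P
    have hLP : L ≤ P := le_normalizer
    let AS' : Sylow p LP := AS.comapOfInjective (subgroupOfEquivOfLe hLP).toMonoidHom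
      (subgroupOfEquivOfLe hLP).injective (by rw [MonoidHom.range_eq_top.2 (subgroupOfEquivOfLe hLP).surjective]; exact le_top)
    have hfr := AS'.normalizer_sup_eq_top
    have h1 : (⟨z₀, hz₀L⟩ : P) ∈ normalizer (((AS' : Subgroup LP).map LP.subtype : Subgroup P) : Set P) ⊔ LP := by
      rw [hfr]; exact mem_top _
    obtain ⟨n, hn, l, hl, hnl⟩ := mem_sup_of_normal_right.1 h1
    have hnAB : (n : B) ∈ normalizer (AB : Set B) := mem_normalizer_fintype fun w hw => by
      show (n : B) * w * (n : B)⁻¹ ∈ AB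
      have hwP : (⟨w, hLP (hABL hw)⟩ : P) ∈ (AS' : Subgroup LP).map LP.subtype :=
        ⟨⟨⟨w, hLP (hABL hw)⟩, hABL hw⟩, hw, rfl⟩
      obtain ⟨v, hv, hv'⟩ := (mem_normalizer_iff.1 hn _).1 hwP
      have hv'' : ((v : P) : B) = (n : B) * w * (n : B)⁻¹ := congrArg Subtype.val hv'
      rw [← hv'']
      exact hv
    have hlL : (l : B) ∈ L := hl
    rw [hLeq, ← SetLike.mem_coe, Subgroup.mul_normal] at hlL
    obtain ⟨a, ha, o, ho, hao⟩ := hlL
    refine ⟨n * a, mul_mem hnAB (le_normalizer ha), ?_⟩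
    have hz₀' : z₀ = (n : B) * l := (congrArg Subtype.val hnl).symm
    rw [hz₀', ← hao, ← mul_assoc, map_mul f ((n : B) * a) o,
      show f o = 1 from (QuotientGroup.eq_one_iff o).2 ho, mul_one]
  obtain ⟨y, hy, hyf, j, hyj⟩ := CharLift.exists_qpow_lift (q := q) f n ⟨k, by rw [hnf]; exact hzk⟩
  have hyN : y ∈ normalizer (AB : Set B) := zpowers_le.2 hn hy
  -- back to `G`
  let ι : B →* G := M.subtype.comp B.subtype
  have hι : Function.Injective ι := M.subtype_injective.comp B.subtype_injective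
  have hTeq : (SB : Subgroup B).map ι = T := by
    refine le_antisymm (by rintro _ ⟨t, ht, rfl⟩; exact (hSBmem t).1 ht) fun t ht => ?_
    exact ⟨⟨⟨t, hTN ht⟩, hSB (by rw [hS]; exact ht)⟩, (hSBmem _).2 ht, rfl⟩
  let e : (SB : Subgroup B) ≃* T :=
    ((SB : Subgroup B).equivMapOfInjective ι hι).trans (MulEquiv.subgroupCongr hTeq)
  have hAeq : AB.map ι = (WB.map e.toMonoidHom).map T.subtype := by
    simp only [hAB, WB, map_map]
    congr 1
  refine ⟨AB.map ι, hAeq ▸ map_subtype_le _, ?_, dvd_of_qelem (x := ι y) ?_ ⟨j, ?_⟩ ?_⟩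
  · rw [hAeq]
    exact CharLift.normalizer_le_of_characteristic (CharLift.characteristic_map_equiv e
      (CharLift.characteristic_map_equiv i.symm hW'))
  · refine mem_normalizer_fintype fun w hw => ?_
    obtain ⟨v, hv, rfl⟩ := hw
    exact ⟨y * v * y⁻¹, (mem_normalizer_iff.1 hyN v).1 hv, by simp⟩
  · rw [orderOf_injective ι hι]; exact hyj
  · intro hcy
    refine hzc (mem_centralizer_iff.2 fun w hw => ?_)
    rw [← hABf] at hw
    obtain ⟨v, hv, rfl⟩ := hw
    rw [← hnf, ← hyf, ← map_mul, ← map_mul]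
    congr 1
    apply hι
    rw [map_mul, map_mul]
    exact mem_centralizer_iff.1 hcy _ (mem_map_of_mem ι hv)

end

/-- Let p and q be distinct primes with {p, q} ≠ {2, 3}, and let G be a finite group such that for every p-subgroup H of G the automizer N_G(H)/C_G(H) is p-solvable. If q divides the order of N_G(H)/C_G(H) for some p-subgroup H, then a Sylow p-subgroup of G has a normal subgroup K (normal in the Sylow subgroup) such that q divides the order of N_G(K)/C_G(K). -/
theorem result {G : Type*} [Group G] [Finite G]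
    (p q : ℕ) [Fact p.Prime] [Fact q.Prime] (hpq : p ≠ q) (h23 : ¬ ((p = 2 ∧ q = 3) ∨ (p = 3 ∧ q = 2)))
    (hsol : ∀ H : Subgroup G, IsPGroup p ↥H →
      Cfsg.IsPSolvable p (↥(Subgroup.normalizer (H : Set G)) ⧸ (Subgroup.centralizer (H : Set G)).subgroupOf (Subgroup.normalizer (H : Set G))))
    (H : Subgroup G) (hH : IsPGroup p ↥H)
    (hq : q ∣ ((Subgroup.centralizer (H : Set G)).subgroupOf (Subgroup.normalizer (H : Set G))).index)
    (Gp : Sylow p G) :
    ∃ K : Subgroup G, K ≤ (Gp : Subgroup G) ∧ (Gp : Subgroup G) ≤ Subgroup.normalizer (K : Set G) ∧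
      q ∣ ((Subgroup.centralizer (K : Set G)).subgroupOf (Subgroup.normalizer (K : Set G))).index := by
  classical
  -- admissible subgroups inside `Gp`
  set P : Subgroup G := (Gp : Subgroup G) with hPdef
  let Adm : Subgroup G → Prop := fun K => K ≤ P ∧
    q ∣ ((Subgroup.centralizer (K : Set G)).subgroupOf (Subgroup.normalizer (K : Set G))).index
  let a : Subgroup G → ℕ := fun K => Nat.card (P ⊓ normalizer (K : Set G) : Subgroup G)
  have hconj : ∀ (g : G) (K : Subgroup G), q ∣ ((Subgroup.centralizer (K : Set G)).subgroupOf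
      (Subgroup.normalizer (K : Set G))).index →
      q ∣ ((Subgroup.centralizer ((MulAut.conj g • K : Subgroup G) : Set G)).subgroupOf
        (Subgroup.normalizer ((MulAut.conj g • K : Subgroup G) : Set G))).index := by
    intro g K hK
    obtain ⟨x, hx, ⟨k, hk⟩, hxc⟩ := exists_qelem_of_dvd hK
    refine dvd_of_qelem (x := MulAut.conj g x) (mem_normalizer_fintype fun w hw => ?_)
      ⟨k, by rw [MulEquiv.orderOf_eq, hk]⟩ fun h => hxc (mem_centralizer_iff.2 fun w hw => ?_)
    · obtain ⟨v, hv, rfl⟩ := hw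
      refine ⟨x * v * x⁻¹, (mem_normalizer_iff.1 hx v).1 hv, ?_⟩
      show MulAut.conj g (x * v * x⁻¹) = MulAut.conj g x * MulAut.conj g v * (MulAut.conj g x)⁻¹
      rw [map_mul, map_mul, map_inv]
    · have := mem_centralizer_iff.1 h (MulAut.conj g w) ⟨w, hw, rfl⟩
      exact (MulAut.conj g).injective (by rwa [map_mul, map_mul])
  have hsmul_le : ∀ (g : G) {A B : Subgroup G}, A ≤ B → MulAut.conj g • A ≤ MulAut.conj g • B :=
    fun g _ _ h => pointwise_smul_le_pointwise_smul_iff.2 h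
  have hne : ∃ K, Adm K := by
    obtain ⟨R, hR⟩ := hH.exists_le_sylow
    obtain ⟨g, hg⟩ := MulAction.exists_smul_eq G R Gp
    refine ⟨MulAut.conj g • H, ?_, hconj g H hq⟩
    rw [hPdef, ← hg, Sylow.coe_subgroup_smul]
    exact hsmul_le g hR
  obtain ⟨K₁, hK₁, hmax₁⟩ := Set.exists_max_image {K | Adm K} a (Set.toFinite _) hne
  obtain ⟨K, ⟨⟨hKP, hKq⟩, hKa⟩, hmax₂⟩ := Set.exists_max_image {K | Adm K ∧ a K = a K₁}
    (fun K => Nat.card K) (Set.toFinite _) ⟨K₁, hK₁, rfl⟩
  set T := P ⊓ normalizer (K : Set G) with hT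
  have hKT : K ≤ T := le_inf hKP le_normalizer
  have hTp : IsPGroup p T := Gp.2.to_le inf_le_left
  have hTN : T ≤ normalizer (K : Set G) := inf_le_right
  have hTs : ¬ p ∣ T.relIndex (normalizer (K : Set G)) := by
    obtain ⟨Q, hQ⟩ := (hTp.of_equiv (subgroupOfEquivOfLe hTN).symm).exists_le_sylow
    obtain ⟨R, hR⟩ := (Q.2.map (normalizer (K : Set G)).subtype).exists_le_sylow
    obtain ⟨g, hg⟩ := MulAction.exists_smul_eq G R Gp
    set T' := (Q : Subgroup _).map (normalizer (K : Set G)).subtype with hT'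
    have hKT' : K ≤ T' := fun k hk => ⟨⟨k, le_normalizer hk⟩, hQ (hKT hk), rfl⟩
    have hT'P : MulAut.conj g • T' ≤ P := by
      rw [hPdef, ← hg, Sylow.coe_subgroup_smul]
      exact hsmul_le g hR
    have h1 := hmax₁ (MulAut.conj g • K) ⟨(hsmul_le g hKT').trans hT'P, hconj g K hKq⟩
    rw [← hKa] at h1
    have h2 : MulAut.conj g • T' ≤ P ⊓ normalizer ((MulAut.conj g • K : Subgroup G) : Set G) := by
      refine le_inf hT'P ?_
      rintro _ ⟨t, ht, rfl⟩
      refine mem_normalizer_fintype fun w hw => ?_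
      obtain ⟨v, hv, rfl⟩ := hw
      obtain ⟨t', -, rfl⟩ := ht
      refine ⟨(t' : G) * v * (t' : G)⁻¹, (mem_normalizer_iff.1 t'.2 v).1 hv, ?_⟩
      show MulAut.conj g ((t' : G) * v * (t' : G)⁻¹) =
        MulAut.conj g (t' : G) * MulAut.conj g v * (MulAut.conj g (t' : G))⁻¹
      rw [map_mul, map_mul, map_inv]
    have h3 : Nat.card T' ≤ Nat.card T := by
      refine le_trans (le_trans ?_ (Nat.le_of_dvd Nat.card_pos (card_dvd_of_le h2))) h1
      rw [← Nat.card_congr (equivSMul (MulAut.conj g) T').toEquiv]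
    rw [hT', card_map_of_injective (Subgroup.subtype_injective _),
      ← Nat.card_congr (subgroupOfEquivOfLe hTN).toEquiv] at h3
    have h4 : T.subgroupOf (normalizer (K : Set G)) = Q := eq_of_le_of_card_ge hQ h3
    show ¬ p ∣ (T.subgroupOf (normalizer (K : Set G))).index
    rw [h4]
    exact Q.not_dvd_index
  obtain ⟨x, hx, hxo, hxc⟩ := exists_qelem_of_dvd hKq
  have hTc : T ⊓ centralizer (K : Set G) ≤ K := by
    obtain ⟨K', hK'T, hKK', hTK', hC, y, hy, hyo, hyc⟩ := enlarge hpq hKT hTN hTp hTs hx hxo hxc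
    have hAdm : Adm K' := ⟨hK'T.trans inf_le_left, dvd_of_qelem hy hyo hyc⟩
    have ha : a K' = a K₁ := by
      refine le_antisymm (hmax₁ K' hAdm) ?_
      rw [← hKa]
      exact Nat.le_of_dvd Nat.card_pos (card_dvd_of_le (le_inf inf_le_left hTK'))
    have heq : K = K' := eq_of_le_of_card_ge hKK' (hmax₂ K' ⟨hAdm, ha⟩)
    rwa [← heq] at hC
  obtain ⟨A, hAT, hTA, hAq⟩ := local_step hpq h23 hKT hTN hTp hTs hTc
    (hsol K (Gp.2.to_le hKP)) hx hxo hxc
  refine ⟨K, hKP, ?_, hKq⟩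
  suffices hTP : T = P by rw [← hTP]; exact hTN
  by_contra hne
  have hlt : T < P := lt_of_le_of_ne inf_le_left hne
  haveI := (Gp.2 : IsPGroup p P).isNilpotent
  have hnc : T.subgroupOf P < normalizer (T.subgroupOf P : Set P) :=
    normalizerCondition_of_isNilpotent _ ((lt_top_iff_ne_top).2 fun e =>
      hne (le_antisymm inf_le_left (subgroupOf_eq_top.1 e)))
  obtain ⟨w, hw, hwT⟩ := SetLike.exists_of_lt hnc
  have hwN : (w : G) ∈ normalizer (T : Set G) := mem_normalizer_fintype fun t ht => by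
    have h := (mem_normalizer_iff.1 hw (⟨t, hlt.le ht⟩ : P)).1 ht
    exact h
  have h1 : T < P ⊓ normalizer (A : Set G) := by
    refine lt_of_le_of_ne (le_inf inf_le_left (le_normalizer.trans hTA)) fun e => hwT ?_
    rw [mem_subgroupOf, e]
    exact ⟨w.2, hTA hwN⟩
  have h2 : Nat.card T < a A := Set.Finite.card_lt_card (Set.toFinite _) h1
  have h3 := hmax₁ A ⟨hAT.trans inf_le_left, hAq⟩
  have h4 : Nat.card T = a K₁ := hKa
  omega

end Cfsg.Agent.S4411
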