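import Mathlib
import Cfsg.Statements.S4412
import Cfsg.Agent.Coprime.Generation
import Cfsg.Agent.Coprime.ActionHom

set_option autoImplicit false
open Cfsg

namespace Cfsg.Agent.S4412

open Subgroup

/-- Generation by fixed points of a non-cyclic abelian group of automorphisms. -/
theorem mem_of_fixed_le {P : Type*} [Group P] [Finite P] (J : Subgroup (MulAut P))
    [IsMulCommutative J] (hJ : ¬ IsCyclic J) (hcop : (Nat.card J).Coprime (Nat.card P))
    (W : Subgroup P) (hW : ∀ T ∈ J, T ≠ 1 → ∀ x, T x = x → x ∈ W) (x : P) : x ∈ W := by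
  haveI := CfsgLib.Coprime.finite_semidirectProduct J.subtype
  let i : P →* P ⋊[J.subtype] J := SemidirectProduct.inl
  let j : J →* P ⋊[J.subtype] J := SemidirectProduct.inr
  have hj : Function.Injective j := SemidirectProduct.inr_injective
  haveI : IsMulCommutative j.range := ⟨⟨by
    rintro ⟨_, a, rfl⟩ ⟨_, b, rfl⟩
    exact Subtype.ext (show j a * j b = j b * j a by
      rw [← map_mul, ← map_mul, setLike_mul_comm (s := J) a.2 b.2 |> Subtype.ext (a1 := a * b) (a2 := b * a)])⟩⟩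
  have h := CfsgLib.Coprime.le_of_forall_inf_centralizer_le (G := i.range) (A := j.range)
    (W := W.map i) (fun hc => hJ (isCyclic_of_surjective (MonoidHom.ofInjective hj).symm.toMonoidHom
      (MonoidHom.ofInjective hj).symm.surjective))
    (CfsgLib.Coprime.range_inr_le_normalizer_range_inl _)
    (by rwa [CfsgLib.Coprime.card_range_inr, CfsgLib.Coprime.card_range_inl]) ?_ ⟨x, rfl⟩
  · exact (mem_map_iff_mem SemidirectProduct.inl_injective).1 h
  rintro _ ⟨a, rfl⟩ ha _ ⟨⟨g, rfl⟩, hg⟩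
  refine mem_map_of_mem i (hW a a.2 (fun e => ha (by rw [show a = 1 from Subtype.ext e, map_one])) g ?_)
  have h1 : i (J.subtype a g) = i g := by
    rw [show i (J.subtype a g) = j a * i g * j a⁻¹ from SemidirectProduct.inl_aut a g, map_inv,
      mul_inv_eq_iff_eq_mul]
    exact (mem_centralizer_singleton_iff.1 hg).symm
  exact SemidirectProduct.inl_injective h1

section

variable {P : Type*} [Group P] [Finite P] {p : ℕ} [Fact p.Prime]

theorem coprime_two (hp2 : p ≠ 2) : Nat.Coprime p 2 :=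
  (Nat.coprime_primes Fact.out Nat.prime_two).2 hp2

theorem eq_one_of_inv_eq (hp2 : p ≠ 2) (hP : IsPGroup p P) {x : P} (h : x⁻¹ = x) : x = 1 := by
  obtain ⟨k, hk⟩ := IsPGroup.iff_orderOf.1 hP x
  have h2 : orderOf x ∣ 2 := orderOf_dvd_of_pow_eq_one (by rw [pow_two]; nth_rw 1 [← h]; exact inv_mul_cancel x)
  rw [hk] at h2
  rw [← orderOf_eq_one_iff, hk]
  exact ((coprime_two hp2).pow_left k).eq_one_of_dvd h2

/-- An involution preserving a cyclic subgroup of odd order fixes or inverts it. -/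
theorem fix_or_inv (hp2 : p ≠ 2) (hP : IsPGroup p P) {T : MulAut P} (hT : ∀ x, T (T x) = x) {a : P}
    (h : T a ∈ zpowers a) : T a = a ∨ T a = a⁻¹ := by
  obtain ⟨k, hk⟩ := h
  simp only at hk
  have h2 := hT a
  rw [← hk, map_zpow, ← hk, ← zpow_mul] at h2
  obtain ⟨m, hm⟩ := IsPGroup.iff_orderOf.1 hP a
  have h3 : ((p : ℤ) ^ m) ∣ (k - 1) * (k + 1) := by
    have h4 : a ^ (k * k - 1) = 1 := by rw [zpow_sub, h2, zpow_one, mul_inv_cancel]
    have := orderOf_dvd_iff_zpow_eq_one.2 h4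
    rw [hm] at this
    push_cast at this
    rwa [show (k - 1) * (k + 1) = k * k - 1 by ring]
  have hpZ : Prime (p : ℤ) := Nat.prime_iff_prime_int.1 Fact.out
  by_cases hd : (p : ℤ) ∣ k - 1
  · left
    have hnd : ¬ (p : ℤ) ∣ k + 1 := fun hd' => by
      have : (p : ℤ) ∣ ((2 : ℕ) : ℤ) := by
        have := dvd_sub hd' hd
        simpa [show k + 1 - (k - 1) = 2 by ring] using this
      exact hp2 ((Nat.prime_dvd_prime_iff_eq Fact.out Nat.prime_two).1 (Int.natCast_dvd_natCast.1 this))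
    have h5 : ((p : ℤ) ^ m) ∣ k - 1 :=
      (IsCoprime.pow_left ((hpZ.coprime_iff_not_dvd).2 hnd)).dvd_of_dvd_mul_right h3
    rw [← hk]
    have h6 : a ^ (k - 1) = 1 := orderOf_dvd_iff_zpow_eq_one.1 (by rw [hm]; push_cast; exact h5)
    rwa [zpow_sub, zpow_one, mul_inv_eq_one] at h6
  · right
    have h5 : ((p : ℤ) ^ m) ∣ k + 1 :=
      (IsCoprime.pow_left ((hpZ.coprime_iff_not_dvd).2 hd)).dvd_of_dvd_mul_left h3
    rw [← hk]
    have h6 : a ^ (k + 1) = 1 := orderOf_dvd_iff_zpow_eq_one.1 (by rw [hm]; push_cast; exact h5)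
    rw [zpow_add, zpow_one] at h6
    exact eq_inv_of_mul_eq_one_left h6

/-- Two points fixed by `e` commute if `t` has no fixed point on the fixed group of `e`. -/
theorem commute_of_fixed (hp2 : p ≠ 2) (hP : IsPGroup p P) {e t : MulAut P}
    (hcomm : ∀ x, e (t x) = t (e x)) (ht : ∀ x, t (t x) = x) {c : P}
    (hc : ∀ x, t x = x → x ∈ zpowers c) (hec : e c = c⁻¹) {a b : P} (ha : e a = a) (hb : e b = b) :
    a * b = b * a := by
  let Q : Subgroup P := e.toMonoidHom.eqLocus (MonoidHom.id P)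
  have hQ : ∀ x, x ∈ Q ↔ e x = x := fun x => Iff.rfl
  let φ : Q →* Q :=
    { toFun := fun x => ⟨t x, (hQ _).2 (by rw [hcomm, (hQ _).1 x.2])⟩
      map_one' := Subtype.ext (map_one t)
      map_mul' := fun x y => Subtype.ext (map_mul t _ _) }
  have hinv : Function.Involutive φ := fun x => Subtype.ext (ht x)
  have hfpf : MonoidHom.FixedPointFree φ := by
    intro x hx
    have hxt : t x = x := congrArg Subtype.val hx
    obtain ⟨n, hn⟩ := hc x hxt
    have h1 := (hQ _).1 x.2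
    simp only at hn
    rw [← hn, map_zpow, hec, inv_zpow] at h1
    exact Subtype.ext (hn.symm.trans (eq_one_of_inv_eq hp2 hP h1))
  exact congrArg Subtype.val
    (hfpf.commute_all_of_involutive hinv ⟨a, (hQ a).2 ha⟩ ⟨b, (hQ b).2 hb⟩).eq

end

/-- Let p be an odd prime, P a finite p-group and I an elementary abelian subgroup of order 8 of Aut(P). Call T ∈ I, T ≠ 1, broad when its fixed-point subgroup C_P(T) is not cyclic. Suppose I has a proper subgroup I₀ containing no broad element such that the product of any two broad elements lies in I₀. Then P is abelian of rank exactly 3 (generated by three elements but not by two), there are exactly three broad elements and they generate I, and I₀ is exactly the set of products of two broad elements. -/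
theorem result
    {P : Type*} [Group P] [Finite P] (p : ℕ) (hp : p.Prime) (hp2 : p ≠ 2) (hP : IsPGroup p P)
    (I : Subgroup (MulAut P)) (hI : Cfsg.IsElementaryAbelian 2 I) (hI8 : Nat.card ↥I = 8)
    (I₀ : Subgroup (MulAut P)) (hI₀ : I₀ < I)
    (hdisj : ∀ T ∈ I₀, T ≠ 1 → ∃ g : P, ∀ x : P, (T x = x ↔ x ∈ Subgroup.zpowers g))
    (hprod : ∀ T ∈ I, ∀ T' ∈ I, T ≠ 1 → T' ≠ 1 → (¬ ∃ g : P, ∀ x : P, (T x = x ↔ x ∈ Subgroup.zpowers g)) →
      (¬ ∃ g : P, ∀ x : P, (T' x = x ↔ x ∈ Subgroup.zpowers g)) → T * T' ∈ I₀) :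
    IsMulCommutative P ∧ (∃ a b c : P, Subgroup.closure {a, b, c} = ⊤) ∧ (¬ ∃ a b : P, Subgroup.closure {a, b} = ⊤) ∧
      Nat.card {T : MulAut P // T ∈ I ∧ T ≠ 1 ∧ ¬ ∃ g : P, ∀ x : P, (T x = x ↔ x ∈ Subgroup.zpowers g)} = 3 ∧
      Subgroup.closure {T : MulAut P | T ∈ I ∧ T ≠ 1 ∧ ¬ ∃ g : P, ∀ x : P, (T x = x ↔ x ∈ Subgroup.zpowers g)} = I ∧
      (I₀ : Set (MulAut P)) = {S : MulAut P | ∃ T T' : MulAut P, T ∈ I ∧ T' ∈ I ∧ T ≠ 1 ∧ T' ≠ 1 ∧
        (¬ ∃ g : P, ∀ x : P, (T x = x ↔ x ∈ Subgroup.zpowers g)) ∧ (¬ ∃ g : P, ∀ x : P, (T' x = x ↔ x ∈ Subgroup.zpowers g)) ∧ S = T * T'} := by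
  classical
  haveI : Fact p.Prime := ⟨hp⟩
  set Broad : MulAut P → Prop := fun T => ¬ ∃ g : P, ∀ x : P, (T x = x ↔ x ∈ zpowers g) with hBroad
  have hsq : ∀ T ∈ I, T * T = 1 := fun T hT => by rw [← pow_two]; exact hI.2 T hT
  have hinvol : ∀ T ∈ I, ∀ x, T (T x) = x := fun T hT x =>
    DFunLike.congr_fun (hsq T hT) x
  have hcomm : ∀ S ∈ I, ∀ T ∈ I, ∀ x, S (T x) = T (S x) := fun S hS T hT x =>
    haveI := hI.1
    DFunLike.congr_fun (setLike_mul_comm (s := I) hS hT) x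
  have hnb : ∀ T ∈ I₀, T ≠ 1 → ¬ Broad T := fun T hT h1 hB => hB (hdisj T hT h1)
  -- a four-group without broad elements
  obtain ⟨J, hJI, hJ4, hJnb⟩ : ∃ J : Subgroup (MulAut P), J ≤ I ∧ Nat.card J = 4 ∧
      ∀ T ∈ J, T ≠ 1 → ¬ Broad T := by
    by_cases hex : ∃ b ∈ I, b ≠ 1 ∧ Broad b
    · obtain ⟨b, hb, hb1, hbB⟩ := hex
      have hb0 : b ∉ I₀ := fun h => hnb b h hb1 hbB
      obtain ⟨J, ⟨hI₀J, hJI, hbJ⟩, hmax⟩ := Set.Finite.exists_maximal
        (s := {J : Subgroup (MulAut P) | I₀ ≤ J ∧ J ≤ I ∧ b ∉ J}) (Set.toFinite _)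
        ⟨I₀, le_rfl, hI₀.le, hb0⟩
      refine ⟨J, hJI, ?_, fun T hT hT1 hTB => hbJ ?_⟩
      · have hcov : ∀ g ∈ I, g ∈ J ∨ g * b ∈ J := by
          intro g hg
          by_contra! hgJ
          have hle : J ⊔ zpowers g ≤ I := sup_le hJI (zpowers_le.2 hg)
          have hbn : b ∉ J ⊔ zpowers g := by
            intro hbm
            haveI := hI.1
            have hn : zpowers g ≤ normalizer (J : Set (MulAut P)) := fun y hy =>
              mem_normalizer_iff.2 fun z => by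
                constructor
                · intro hz
                  rwa [setLike_mul_comm (s := I) (zpowers_le.2 hg hy) (hJI hz), mul_inv_cancel_right]
                · intro hz
                  have hzI : z ∈ I := by
                    have := mul_mem (mul_mem (inv_mem (zpowers_le.2 hg hy)) (hJI hz)) (zpowers_le.2 hg hy)
                    simpa [mul_assoc] using this
                  rwa [setLike_mul_comm (s := I) (zpowers_le.2 hg hy) hzI, mul_inv_cancel_right] at hz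
            rw [← SetLike.mem_coe, coe_mul_of_right_le_normalizer_left _ _ hn] at hbm
            obtain ⟨j, hj, y, hy, rfl⟩ := hbm
            obtain ⟨n, rfl⟩ := hy
            have h2 : g ^ (2 : ℤ) = 1 := by rw [zpow_two]; exact hsq g hg
            rcases Int.even_or_odd' n with ⟨m, rfl | rfl⟩
            · refine hbJ ?_
              simp only [zpow_mul, h2, one_zpow, mul_one]
              exact hj
            · refine hgJ.2 ?_
              simp only [zpow_add, zpow_mul, h2, one_zpow, one_mul, zpow_one]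
              rw [setLike_mul_comm (s := I) (hJI hj) hg, ← mul_assoc, hsq g hg, one_mul]
              exact hj
          exact hgJ.1 (hmax ⟨hI₀J.trans le_sup_left, hle, hbn⟩ le_sup_left (mem_sup_right (mem_zpowers g)))
        haveI : Finite I := Nat.finite_of_card_ne_zero (by rw [hI8]; norm_num)
        haveI : Finite J := Finite.of_injective _ (inclusion_injective hJI)
        have hle : Nat.card I ≤ Nat.card (J ⊕ J) := by
          refine Nat.card_le_card_of_injective (fun g : I => if h : (g : MulAut P) ∈ J then Sum.inl ⟨_, h⟩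
            else Sum.inr ⟨(g : MulAut P) * b, (hcov g g.2).resolve_left h⟩) ?_
          intro g h hgh
          by_cases h1 : (g : MulAut P) ∈ J <;> by_cases h2 : (h : MulAut P) ∈ J <;>
            simp [h1, h2] at hgh <;> exact hgh
        rw [Nat.card_sum, hI8] at hle
        have hd : Nat.card J ∣ 2 ^ 3 := by
          have := card_dvd_of_le hJI
          rwa [hI8] at this
        obtain ⟨i, hi, hi'⟩ := (Nat.dvd_prime_pow Nat.prime_two).1 hd
        have hne : Nat.card J ≠ 8 := fun e =>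
          hbJ (eq_of_le_of_card_ge hJI (by rw [hI8, e]) ▸ hb)
        rcases (show i = 0 ∨ i = 1 ∨ i = 2 ∨ i = 3 by omega) with rfl | rfl | rfl | rfl <;>
          simp only [pow_zero, pow_one, Nat.reducePow] at hi' <;> omega
      · have := mul_mem (hI₀J (hprod b hb T (hJI hT) hb1 hT1 hbB hTB)) hT
        rwa [mul_assoc, hsq T (hJI hT), mul_one] at this
    · haveI : Finite I := Nat.finite_of_card_ne_zero (by rw [hI8]; norm_num)
      haveI : Fact (Nat.Prime 2) := ⟨Nat.prime_two⟩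
      obtain ⟨J, hJ⟩ := Sylow.exists_subgroup_card_pow_prime (G := I) 2 (n := 2)
        (by rw [hI8]; norm_num)
      refine ⟨J.map I.subtype, map_subtype_le J, ?_, fun T hT hT1 hTB => hex ⟨T, map_subtype_le J hT, hT1, hTB⟩⟩
      rw [card_map_of_injective I.subtype_injective, hJ]
      rfl
  -- its three generators
  haveI : IsMulCommutative J := ⟨⟨fun a b => Subtype.ext (by
    haveI := hI.1
    exact setLike_mul_comm (s := I) (hJI a.2) (hJI b.2))⟩⟩
  have hJnc : ¬ IsCyclic J := by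
    intro h
    have h1 : Monoid.exponent J ∣ 2 := Monoid.exponent_dvd_of_forall_pow_eq_one fun a =>
      Subtype.ext (by simpa using hI.2 a (hJI a.2))
    rw [IsCyclic.exponent_eq_card, hJ4] at h1
    norm_num at h1
  obtain ⟨t₁, ht₁, ht₁1⟩ : ∃ t ∈ J, t ≠ 1 := by
    by_contra! h
    have : J = ⊥ := (eq_bot_iff_forall J).2 h
    rw [this, card_bot] at hJ4
    norm_num at hJ4
  obtain ⟨t₂, ht₂, ht₂1, ht₂₁⟩ : ∃ t ∈ J, t ≠ 1 ∧ t ≠ t₁ := by
    by_contra! h
    have hle : J ≤ zpowers t₁ := fun t ht => by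
      by_cases h1 : t = 1
      · rw [h1]; exact one_mem _
      · rw [h t ht h1]; exact mem_zpowers t₁
    have h2 := Nat.le_of_dvd Nat.card_pos (card_dvd_of_le hle)
    rw [hJ4, Nat.card_zpowers] at h2
    have := Nat.le_of_dvd two_pos (orderOf_dvd_of_pow_eq_one (hI.2 t₁ (hJI ht₁)))
    omega
  set t₃ := t₁ * t₂ with ht₃def
  have ht₃ : t₃ ∈ J := mul_mem ht₁ ht₂
  have ht₃1 : t₃ ≠ 1 := fun e => ht₂₁ (by
    have := congrArg (t₁ * ·) e
    simpa [t₃, ← mul_assoc, hsq t₁ (hJI ht₁)] using this)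
  have ht₃₁ : t₃ ≠ t₁ := fun e => ht₂1 (mul_eq_left.1 e)
  have ht₃₂ : t₃ ≠ t₂ := fun e => ht₁1 (mul_eq_right.1 e)
  have hJcases : ∀ T ∈ J, T = 1 ∨ T = t₁ ∨ T = t₂ ∨ T = t₃ := by
    intro T hT
    by_contra! hne
    obtain ⟨h0, h1, h2, h3⟩ := hne
    letI := Fintype.ofFinite J
    have h5 := Finset.card_le_univ ({1, ⟨t₁, ht₁⟩, ⟨t₂, ht₂⟩, ⟨t₃, ht₃⟩, ⟨T, hT⟩} : Finset J)
    rw [← Nat.card_eq_fintype_card, hJ4] at h5
    simp [Finset.card_insert_of_notMem, Subtype.ext_iff, ht₁1.symm, ht₂1.symm, ht₃1.symm, h0.symm,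
      h1.symm, h2.symm, h3.symm, ht₂₁.symm, ht₃₁.symm, ht₃₂.symm] at h5
  have hgen : ∀ T ∈ J, T ≠ 1 → ∃ g, ∀ x, (T x = x ↔ x ∈ zpowers g) := fun T hT h1 => not_not.1 (hJnb T hT h1)
  obtain ⟨a, ha⟩ := hgen t₁ ht₁ ht₁1
  obtain ⟨b, hb⟩ := hgen t₂ ht₂ ht₂1
  obtain ⟨c, hc⟩ := hgen t₃ ht₃ ht₃1
  have htop : closure ({a, b, c} : Set P) = ⊤ := by
    refine eq_top_iff.2 fun x _ => mem_of_fixed_le J hJnc ?_ _ (fun T hT h1 y hy => ?_) x
    · obtain ⟨n, hn⟩ := hP.exists_card_eq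
      rw [hJ4, hn, show (4 : ℕ) = 2 ^ 2 by norm_num]
      exact Nat.Coprime.pow 2 n (coprime_two hp2).symm
    · rcases hJcases T hT with e | e | e | e
      · exact absurd e h1
      · subst e; exact (zpowers_le.2 (subset_closure (by simp))) ((ha y).1 hy)
      · subst e; exact (zpowers_le.2 (subset_closure (by simp))) ((hb y).1 hy)
      · subst e; exact (zpowers_le.2 (subset_closure (by simp))) ((hc y).1 hy)
  -- signs
  have hpres : ∀ t ∈ I, ∀ g : P, (∀ x, (t x = x ↔ x ∈ zpowers g)) → ∀ T ∈ I, T g = g ∨ T g = g⁻¹ := by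
    intro t ht g hg T hT
    refine fix_or_inv hp2 hP (hinvol T hT) ((hg _).1 ?_)
    rw [hcomm t ht T hT, (hg g).2 (mem_zpowers g)]
  have sa := hpres t₁ (hJI ht₁) a ha
  have sb := hpres t₂ (hJI ht₂) b hb
  have sc := hpres t₃ (hJI ht₃) c hc
  have hext : ∀ S ∈ I, ∀ T ∈ I, (S a = a ↔ T a = a) → (S b = b ↔ T b = b) → (S c = c ↔ T c = c) →
      S = T := by
    intro S hS T hT h1 h2 h3
    have key : ∀ g, (S g = g ∨ S g = g⁻¹) → (T g = g ∨ T g = g⁻¹) → (S g = g ↔ T g = g) → S g = T g := by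
      intro g h h' hiff
      by_cases hg : S g = g
      · rw [hg, hiff.1 hg]
      · rw [h.resolve_left hg, h'.resolve_left (fun e => hg (hiff.2 e))]
    have : (⊤ : Subgroup P) ≤ S.toMonoidHom.eqLocus T.toMonoidHom := by
      rw [← htop, closure_le]
      rintro x (rfl | rfl | rfl)
      exacts [key _ (sa S hS) (sa T hT) h1, key _ (sb S hS) (sb T hT) h2, key _ (sc S hS) (sc T hT) h3]
    exact MulEquiv.ext fun x => this (mem_top x)
  let φ : I → Bool × Bool × Bool := fun T =>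
    (decide ((T : MulAut P) a = a), decide ((T : MulAut P) b = b), decide ((T : MulAut P) c = c))
  have hφ : Function.Injective φ := by
    intro S T h
    simp only [φ, Prod.mk.injEq, decide_eq_decide] at h
    exact Subtype.ext (hext S S.2 T T.2 h.1 h.2.1 h.2.2)
  haveI : Finite I := Nat.finite_of_card_ne_zero (by rw [hI8]; norm_num)
  have hφs : Function.Surjective φ :=
    (hφ.bijective_of_nat_card_le (by rw [hI8]; simp)).2
  have hget : ∀ x y z : Bool, ∃ T ∈ I, (T a = a ↔ x = true) ∧ (T b = b ↔ y = true) ∧ (T c = c ↔ z = true) := by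
    intro x y z
    obtain ⟨T, hT⟩ := hφs (x, y, z)
    simp only [φ, Prod.mk.injEq] at hT
    refine ⟨T, T.2, ?_, ?_, ?_⟩ <;> simp [← hT.1, ← hT.2.1, ← hT.2.2]
  obtain ⟨e₁, he₁, ha₁, hb₁, hc₁⟩ := hget false true true
  obtain ⟨e₂, he₂, ha₂, hb₂, hc₂⟩ := hget true false true
  obtain ⟨e₃, he₃, ha₃, hb₃, hc₃⟩ := hget true true false
  obtain ⟨e₀, he₀, ha₀, hb₀, hc₀⟩ := hget false false false
  simp only [Bool.false_eq_true, iff_false, iff_true] at ha₁ hb₁ hc₁ ha₂ hb₂ hc₂ ha₃ hb₃ hc₃ ha₀ hb₀ hc₀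
  have ia₁ := (sa e₁ he₁).resolve_left ha₁
  have ib₂ := (sb e₂ he₂).resolve_left hb₂
  have ic₃ := (sc e₃ he₃).resolve_left hc₃
  have hindep : ∀ (g h : P) (T : MulAut P), T g = g → T h ≠ h → h ∉ zpowers g := by
    intro g h T h1 h2 hmem
    obtain ⟨n, rfl⟩ := hmem
    exact h2 (by simp only [map_zpow, h1])
  -- the elements of `J`
  have hta : t₁ a = a := (ha a).2 (mem_zpowers a)
  have htb : t₂ b = b := (hb b).2 (mem_zpowers b)
  have htc : t₃ c = c := (hc c).2 (mem_zpowers c)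
  have h1b : t₁ b ≠ b := fun e => hindep a b e₂ ha₂ hb₂ ((ha b).1 e)
  have h1c : t₁ c ≠ c := fun e => hindep a c e₃ ha₃ hc₃ ((ha c).1 e)
  have h2a : t₂ a ≠ a := fun e => hindep b a e₁ hb₁ ha₁ ((hb a).1 e)
  have h2c : t₂ c ≠ c := fun e => hindep b c e₃ hb₃ hc₃ ((hb c).1 e)
  have h3a : t₃ a ≠ a := fun e => hindep c a e₁ hc₁ ha₁ ((hc a).1 e)
  have h3b : t₃ b ≠ b := fun e => hindep c b e₂ hc₂ hb₂ ((hc b).1 e)
  -- commutativity
  have hab : a * b = b * a := commute_of_fixed hp2 hP (hcomm e₃ he₃ t₃ (hJI ht₃))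
    (hinvol t₃ (hJI ht₃)) (fun x => (hc x).1) ic₃ ha₃ hb₃
  have hac : a * c = c * a := commute_of_fixed hp2 hP (hcomm e₂ he₂ t₂ (hJI ht₂))
    (hinvol t₂ (hJI ht₂)) (fun x => (hb x).1) ib₂ ha₂ hc₂
  have hbc : b * c = c * b := commute_of_fixed hp2 hP (hcomm e₁ he₁ t₁ (hJI ht₁))
    (hinvol t₁ (hJI ht₁)) (fun x => (ha x).1) ia₁ hb₁ hc₁
  have hPc : ∀ x y : P, x * y = y * x := by
    have hcen : (⊤ : Subgroup P) ≤ center P := by
      rw [← htop, closure_le]
      intro g hg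
      have hg' : closure ({a, b, c} : Set P) ≤ centralizer {g} := by
        rw [closure_le]
        intro h hh
        rw [SetLike.mem_coe, mem_centralizer_singleton_iff]
        rcases hg with rfl | rfl | rfl <;> rcases hh with rfl | rfl | rfl <;>
          first | rfl | exact hab | exact hab.symm | exact hac | exact hac.symm | exact hbc | exact hbc.symm
      rw [htop] at hg'
      exact mem_center_iff.2 fun h => mem_centralizer_singleton_iff.1 (hg' (mem_top h))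
    exact fun x y => mem_center_iff.1 (hcen (mem_top y)) x
  letI : CommGroup P := { (inferInstance : Group P) with mul_comm := hPc }
  have hinv0 : ∀ x, e₀ x = x⁻¹ := by
    have : (⊤ : Subgroup P) ≤ e₀.toMonoidHom.eqLocus (MonoidHom.mk' (fun x : P => x⁻¹) fun x y => by
        rw [mul_inv_rev, hPc]) := by
      rw [← htop, closure_le]
      rintro x (rfl | rfl | rfl)
      exacts [(sa e₀ he₀).resolve_left ha₀, (sb e₀ he₀).resolve_left hb₀, (sc e₀ he₀).resolve_left hc₀]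
    exact fun x => this (mem_top x)
  have hnb0 : ¬ Broad e₀ := fun h => h ⟨1, fun x => by
    rw [hinv0, zpowers_one_eq_bot, mem_bot]
    exact ⟨fun e => eq_one_of_inv_eq hp2 hP e, fun e => by simp [e]⟩⟩
  have hbroad : ∀ (e f : MulAut P) (g h : P), e ∈ I → f ∈ I → e g = g → e h = h → f g ≠ g → f h = h →
      h ≠ 1 → Broad e := by
    rintro e f g h he hf hg hh hfg hfh hh1 ⟨u, hu⟩
    obtain ⟨i, rfl⟩ := (hu g).1 hg
    obtain ⟨k, rfl⟩ := (hu h).1 hh
    rcases hpres e he u hu f hf with h' | h'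
    · exact hfg (by simp only [map_zpow, h'])
    · refine hh1 (eq_one_of_inv_eq hp2 hP ?_)
      simpa only [map_zpow, h', inv_zpow] using hfh
  have ha1 : a ≠ 1 := fun e => ha₁ (by rw [e, map_one])
  have hb1 : b ≠ 1 := fun e => hb₂ (by rw [e, map_one])
  have hc1 : c ≠ 1 := fun e => hc₃ (by rw [e, map_one])
  have hB₁ : Broad e₁ := hbroad e₁ e₂ b c he₁ he₂ hb₁ hc₁ hb₂ hc₂ hc1
  have hB₂ : Broad e₂ := hbroad e₂ e₃ c a he₂ he₃ hc₂ ha₂ hc₃ ha₃ ha1
  have hB₃ : Broad e₃ := hbroad e₃ e₁ a b he₃ he₁ ha₃ hb₃ ha₁ hb₁ hb1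
  have hne1 : ∀ (e : MulAut P) (g : P), e g ≠ g → e ≠ 1 := fun e g h h' => h (by rw [h']; rfl)
  have he₁1 := hne1 e₁ a ha₁
  have he₂1 := hne1 e₂ b hb₂
  have he₃1 := hne1 e₃ c hc₃
  have hcases : ∀ T ∈ I, T ≠ 1 → T ∈ J ∨ T = e₀ ∨ T = e₁ ∨ T = e₂ ∨ T = e₃ := by
    intro T hT hT1
    by_cases qa : T a = a <;> by_cases qb : T b = b <;> by_cases qc : T c = c
    · exact absurd (hext T hT 1 (one_mem I) (by simp [qa]) (by simp [qb]) (by simp [qc])) hT1
    · exact Or.inr (Or.inr (Or.inr (Or.inr (hext T hT e₃ he₃ (by simp [qa, ha₃]) (by simp [qb, hb₃]) (by simp [qc, hc₃])))))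
    · exact Or.inr (Or.inr (Or.inr (Or.inl (hext T hT e₂ he₂ (by simp [qa, ha₂]) (by simp [qb, hb₂]) (by simp [qc, hc₂])))))
    · exact Or.inl (hext T hT t₁ (hJI ht₁) (by simp [qa, hta]) (by simp [qb, h1b]) (by simp [qc, h1c]) ▸ ht₁)
    · exact Or.inr (Or.inr (Or.inl (hext T hT e₁ he₁ (by simp [qa, ha₁]) (by simp [qb, hb₁]) (by simp [qc, hc₁]))))
    · exact Or.inl (hext T hT t₂ (hJI ht₂) (by simp [qa, h2a]) (by simp [qb, htb]) (by simp [qc, h2c]) ▸ ht₂)
    · exact Or.inl (hext T hT t₃ (hJI ht₃) (by simp [qa, h3a]) (by simp [qb, h3b]) (by simp [qc, htc]) ▸ ht₃)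
    · exact Or.inr (Or.inl (hext T hT e₀ he₀ (by simp [qa, ha₀]) (by simp [qb, hb₀]) (by simp [qc, hc₀])))
  have hBiff : ∀ T, (T ∈ I ∧ T ≠ 1 ∧ Broad T) ↔ (T = e₁ ∨ T = e₂ ∨ T = e₃) := by
    intro T
    constructor
    · rintro ⟨hT, hT1, hB⟩
      rcases hcases T hT hT1 with h | h | h
      · exact absurd hB (hJnb T h hT1)
      · exact absurd (h ▸ hB) hnb0
      · exact h
    · rintro (rfl | rfl | rfl)
      exacts [⟨he₁, he₁1, hB₁⟩, ⟨he₂, he₂1, hB₂⟩, ⟨he₃, he₃1, hB₃⟩]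
  have hne12 : e₁ ≠ e₂ := fun e => ha₁ (e ▸ ha₂)
  have hne13 : e₁ ≠ e₃ := fun e => ha₁ (e ▸ ha₃)
  have hne23 : e₂ ≠ e₃ := fun e => hb₂ (e ▸ hb₃)
  have happ : ∀ (S T : MulAut P) (g : P), T g = g → (S * T) g = S g := fun S T g h => by
    rw [MulAut.mul_apply, h]
  have happ' : ∀ (S T : MulAut P) (g : P), S g = g → S (T g) = T g → (S * T) g = T g := fun S T g _ h => h
  have h12 : e₁ * e₂ = t₃ := by
    refine hext _ (mul_mem he₁ he₂) _ (hJI ht₃) ?_ ?_ ?_
    · rw [happ _ _ _ ha₂]; simp [ha₁, h3a]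
    · rw [MulAut.mul_apply, hcomm e₁ he₁ e₂ he₂, hb₁]; simp [hb₂, h3b]
    · rw [happ _ _ _ hc₂]; simp [hc₁, htc]
  have h23 : e₂ * e₃ = t₁ := by
    refine hext _ (mul_mem he₂ he₃) _ (hJI ht₁) ?_ ?_ ?_
    · rw [happ _ _ _ ha₃]; simp [ha₂, hta]
    · rw [happ _ _ _ hb₃]; simp [hb₂, h1b]
    · rw [MulAut.mul_apply, hcomm e₂ he₂ e₃ he₃, hc₂]; simp [hc₃, h1c]
  have h13 : e₁ * e₃ = t₂ := by
    refine hext _ (mul_mem he₁ he₃) _ (hJI ht₂) ?_ ?_ ?_
    · rw [happ _ _ _ ha₃]; simp [ha₁, h2a]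
    · rw [happ _ _ _ hb₃]; simp [hb₁, htb]
    · rw [MulAut.mul_apply, hcomm e₁ he₁ e₃ he₃, hc₁]; simp [hc₃, h2c]
  have hp12 : t₃ ∈ I₀ := h12 ▸ hprod e₁ he₁ e₂ he₂ he₁1 he₂1 hB₁ hB₂
  have hp23 : t₁ ∈ I₀ := h23 ▸ hprod e₂ he₂ e₃ he₃ he₂1 he₃1 hB₂ hB₃
  have hp13 : t₂ ∈ I₀ := h13 ▸ hprod e₁ he₁ e₃ he₃ he₁1 he₃1 hB₁ hB₃
  have hJI₀ : J = I₀ := by
    have hle : J ≤ I₀ := fun T hT => by
      rcases hJcases T hT with rfl | rfl | rfl | rfl
      exacts [one_mem _, hp23, hp13, hp12]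
    haveI : Finite I₀ := Finite.of_injective _ (inclusion_injective hI₀.le)
    refine eq_of_le_of_card_ge hle ?_
    rw [hJ4]
    have hd : Nat.card I₀ ∣ 2 ^ 3 := by
      have := card_dvd_of_le hI₀.le
      rwa [hI8] at this
    obtain ⟨i, hi, hi'⟩ := (Nat.dvd_prime_pow Nat.prime_two).1 hd
    have hne : Nat.card I₀ ≠ 8 := fun e => hI₀.ne (eq_of_le_of_card_ge hI₀.le (by rw [hI8, e]))
    rcases (show i = 0 ∨ i = 1 ∨ i = 2 ∨ i = 3 by omega) with rfl | rfl | rfl | rfl <;>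
          simp only [pow_zero, pow_one, Nat.reducePow] at hi' <;> omega
  refine ⟨⟨⟨hPc⟩⟩, ⟨a, b, c, htop⟩, ?_, ?_, ?_, ?_⟩
  · rintro ⟨u, v, huv⟩
    let π : P →* P := powMonoidHom p
    have hker : p ^ 3 ≤ Nat.card π.ker := by
      have hpow : ∀ g : P, g ≠ 1 → ∃ g', g' ∈ zpowers g ∧ orderOf g' = p := by
        intro g hg
        obtain ⟨n, hn⟩ := IsPGroup.iff_orderOf.1 hP g
        have hn0 : n ≠ 0 := fun e => hg (orderOf_eq_one_iff.1 (by rw [hn, e, pow_zero]))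
        refine ⟨g ^ p ^ (n - 1), pow_mem (mem_zpowers g) _, ?_⟩
        obtain ⟨m, rfl⟩ := Nat.exists_eq_succ_of_ne_zero hn0
        rw [orderOf_pow' g (pow_ne_zero _ hp.ne_zero), hn, Nat.succ_sub_one,
          Nat.gcd_eq_right (pow_dvd_pow p m.le_succ), Nat.pow_succ, Nat.mul_div_cancel_left _ (pow_pos hp.pos m)]
      obtain ⟨a', ⟨i, rfl⟩, hao⟩ := hpow a ha1
      obtain ⟨b', ⟨j, rfl⟩, hbo⟩ := hpow b hb1
      obtain ⟨c', ⟨k, rfl⟩, hco⟩ := hpow c hc1
      simp only at hao hbo hco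
      let ψ : Fin p × Fin p × Fin p → π.ker := fun x =>
        ⟨(a ^ i) ^ (x.1 : ℕ) * (b ^ j) ^ (x.2.1 : ℕ) * (c ^ k) ^ (x.2.2 : ℕ), by
          have ea : (a ^ i) ^ p = 1 := hao ▸ pow_orderOf_eq_one _
          have eb : (b ^ j) ^ p = 1 := hbo ▸ pow_orderOf_eq_one _
          have ec : (c ^ k) ^ p = 1 := hco ▸ pow_orderOf_eq_one _
          show (_ : P) ^ p = 1
          rw [mul_pow, mul_pow, pow_right_comm _ _ p, ea, pow_right_comm _ _ p, eb,
            pow_right_comm _ _ p, ec]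
          simp⟩
      have hψ : Function.Injective ψ := by
        rintro ⟨x₁, x₂, x₃⟩ ⟨y₁, y₂, y₃⟩ hxy
        have h : (a ^ i) ^ (x₁ : ℕ) * (b ^ j) ^ (x₂ : ℕ) * (c ^ k) ^ (x₃ : ℕ) =
            (a ^ i) ^ (y₁ : ℕ) * (b ^ j) ^ (y₂ : ℕ) * (c ^ k) ^ (y₃ : ℕ) := congrArg Subtype.val hxy
        set A := (a ^ i) ^ (x₁ : ℕ) * ((a ^ i) ^ (y₁ : ℕ))⁻¹ with hA
        set B := (b ^ j) ^ (x₂ : ℕ) * ((b ^ j) ^ (y₂ : ℕ))⁻¹ with hB
        set C := (c ^ k) ^ (x₃ : ℕ) * ((c ^ k) ^ (y₃ : ℕ))⁻¹ with hC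
        have hABC : A * B * C = 1 := by
          rw [hA, hB, hC]
          calc _ = (a ^ i) ^ (x₁ : ℕ) * (b ^ j) ^ (x₂ : ℕ) * (c ^ k) ^ (x₃ : ℕ) *
              ((a ^ i) ^ (y₁ : ℕ) * (b ^ j) ^ (y₂ : ℕ) * (c ^ k) ^ (y₃ : ℕ))⁻¹ := by
                simp only [mul_inv_rev, mul_comm, mul_left_comm, mul_assoc]
            _ = 1 := by rw [h, mul_inv_cancel]
        have hA1 : A = 1 := by
          have h' := congrArg e₁ hABC
          rw [map_mul, map_mul, map_one, show e₁ A = A⁻¹ by simp [hA, ia₁, mul_comm], show e₁ B = B by simp [hB, hb₁],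
            show e₁ C = C by simp [hC, hc₁], ← hABC, mul_left_inj, mul_left_inj] at h'
          exact eq_one_of_inv_eq hp2 hP h'
        have hB1 : B = 1 := by
          have h' := congrArg e₂ hABC
          rw [map_mul, map_mul, map_one, show e₂ A = A by simp [hA, ha₂], show e₂ B = B⁻¹ by simp [hB, ib₂, mul_comm],
            show e₂ C = C by simp [hC, hc₂], ← hABC, mul_left_inj, mul_right_inj] at h'
          exact eq_one_of_inv_eq hp2 hP h'
        have hC1 : C = 1 := by rwa [hA1, hB1, one_mul, one_mul] at hABC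
        have hfin : ∀ (g : P) (m n : Fin p), orderOf g = p → g ^ (m : ℕ) * (g ^ (n : ℕ))⁻¹ = 1 → m = n := by
          intro g m n hg he
          rw [mul_inv_eq_one, pow_eq_pow_iff_modEq, hg] at he
          exact Fin.ext (Nat.ModEq.eq_of_lt_of_lt he m.2 n.2)
        rw [hfin _ x₁ y₁ hao hA1, hfin _ x₂ y₂ hbo hB1, hfin _ x₃ y₃ hco hC1]
      have := Nat.card_le_card_of_injective ψ hψ
      simpa [pow_succ, mul_assoc] using this
    have hidx : π.range.index ≤ p ^ 2 := by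
      rw [index_eq_card]
      have hmem : ∀ x : P, ∃ i j : ℤ, x = u ^ i * v ^ j := by
        intro x
        have hx : x ∈ closure ({u, v} : Set P) := huv ▸ mem_top x
        rw [mem_closure_pair] at hx
        obtain ⟨i, j, h⟩ := hx
        exact ⟨i, j, h.symm⟩
      let ψ : Fin p × Fin p → P ⧸ π.range := fun x => ((u ^ (x.1 : ℕ) * v ^ (x.2 : ℕ) : P) : P ⧸ π.range)
      have hψ : Function.Surjective ψ := by
        intro q
        induction q using QuotientGroup.induction_on with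
        | H x =>
          obtain ⟨i, j, rfl⟩ := hmem x
          have hp0 : (0 : ℤ) < p := by exact_mod_cast hp.pos
          refine ⟨(⟨(i % p).toNat, by
            have := Int.emod_lt_of_pos i hp0; have := Int.emod_nonneg i hp0.ne'; omega⟩,
            ⟨(j % p).toNat, by
            have := Int.emod_lt_of_pos j hp0; have := Int.emod_nonneg j hp0.ne'; omega⟩), ?_⟩
          refine (QuotientGroup.eq.2 ⟨u ^ (i / p) * v ^ (j / p), ?_⟩)
          show (u ^ (i / p) * v ^ (j / p)) ^ p = _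
          rw [← zpow_natCast u, ← zpow_natCast v, Int.toNat_of_nonneg (Int.emod_nonneg i hp0.ne'),
            Int.toNat_of_nonneg (Int.emod_nonneg j hp0.ne'), mul_pow, ← zpow_natCast, ← zpow_natCast,
            ← zpow_mul, ← zpow_mul]
          rw [show u ^ i = u ^ (i % p) * u ^ (i / p * p) by rw [← zpow_add, Int.emod_add_ediv_mul],
            show v ^ j = v ^ (j % p) * v ^ (j / p * p) by rw [← zpow_add, Int.emod_add_ediv_mul]]
          have key : ∀ A B C D : P, B * D = (A * C)⁻¹ * (A * B * (C * D)) := fun A B C D => by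
            rw [mul_mul_mul_comm, inv_mul_cancel_left]
          exact key _ _ _ _
      have := Nat.card_le_card_of_surjective ψ hψ
      simpa [pow_two] using this
    have h1 := π.range.card_mul_index
    have h2 := π.ker.card_mul_index
    rw [index_ker, ← h1, mul_comm (Nat.card π.range)] at h2
    have h3 : Nat.card π.ker = π.range.index := Nat.eq_of_mul_eq_mul_right Nat.card_pos h2
    have := Nat.pow_lt_pow_right hp.one_lt (show 2 < 3 by norm_num)
    omega
  · rw [Nat.card_congr (Equiv.subtypeEquivRight (q := fun T => T ∈ ({e₁, e₂, e₃} : Finset (MulAut P)))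
      fun T => (hBiff T).trans (by simp)), Nat.card_eq_finsetCard]
    simp [hne12, hne13, hne23]
  · refine le_antisymm ((closure_le _).2 fun T hT => hT.1) fun T hT => ?_
    have hmem : ∀ e, e = e₁ ∨ e = e₂ ∨ e = e₃ → e ∈ closure {T : MulAut P | T ∈ I ∧ T ≠ 1 ∧ Broad T} :=
      fun e h => subset_closure ((hBiff e).2 h)
    by_cases hT1 : T = 1
    · rw [hT1]; exact one_mem _
    rcases hcases T hT hT1 with h | h | h
    · rcases hJcases T h with rfl | rfl | rfl | rfl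
      · exact one_mem _
      · rw [← h23]; exact mul_mem (hmem _ (by simp)) (hmem _ (by simp))
      · rw [← h13]; exact mul_mem (hmem _ (by simp)) (hmem _ (by simp))
      · rw [← h12]; exact mul_mem (hmem _ (by simp)) (hmem _ (by simp))
    · have h0 : e₀ = e₁ * t₁ := by
        refine hext _ he₀ _ (mul_mem he₁ (hJI ht₁)) ?_ ?_ ?_
        · rw [happ _ _ _ hta]; simp [ha₀, ha₁]
        · rw [MulAut.mul_apply, hcomm e₁ he₁ t₁ (hJI ht₁), hb₁]; simp [hb₀, h1b]
        · rw [MulAut.mul_apply, hcomm e₁ he₁ t₁ (hJI ht₁), hc₁]; simp [hc₀, h1c]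
      rw [h, h0, ← h23]
      exact mul_mem (hmem _ (by simp)) (mul_mem (hmem _ (by simp)) (hmem _ (by simp)))
    · exact hmem T h
  · ext T
    constructor
    · intro hT
      rw [SetLike.mem_coe, ← hJI₀] at hT
      rcases hJcases T hT with rfl | rfl | rfl | rfl
      exacts [⟨e₁, e₁, he₁, he₁, he₁1, he₁1, hB₁, hB₁, (hsq e₁ he₁).symm⟩,
        ⟨e₂, e₃, he₂, he₃, he₂1, he₃1, hB₂, hB₃, h23.symm⟩,
        ⟨e₁, e₃, he₁, he₃, he₁1, he₃1, hB₁, hB₃, h13.symm⟩,
        ⟨e₁, e₂, he₁, he₂, he₁1, he₂1, hB₁, hB₂, h12.symm⟩]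
    · rintro ⟨S, S', hS, hS', hS1, hS'1, hSB, hS'B, rfl⟩
      exact hprod S hS S' hS' hS1 hS'1 hSB hS'B

end Cfsg.Agent.S4412
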