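import Cfsg.Statements.S4413
import Cfsg.Agent.FGS74.MinusThirtyTwo
import Cfsg.Agent.S4416

set_option autoImplicit false
open Cfsg

namespace Cfsg.Agent.S4413

/-- Let P be an extraspecial 2-group of order 32 with no elementary abelian subgroup of order 8 (the central product of a dihedral and a quaternion group of order 8). Then the inner automorphism group of P has order 16 and the outer automorphism group Aut(P)/Inn(P) is isomorphic to the symmetric group of degree 5; in particular Aut(P) has order 1920. -/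
theorem result {P : Type*} [Group P] [Finite P]
    (hex : Cfsg.IsExtraspecial 2 P) (h32 : Nat.card P = 32)
    (hminus : ∀ A : Subgroup P, Cfsg.IsElementaryAbelian 2 A → Nat.card ↥A ≤ 4)
    [(MulAut.conj : P →* MulAut P).range.Normal] :
    Nat.card ↥(MulAut.conj : P →* MulAut P).range = 16 ∧ Nat.card (MulAut P) = 1920 ∧
      Nonempty ((MulAut P ⧸ (MulAut.conj : P →* MulAut P).range) ≃* Equiv.Perm (Fin 5)) := by
  obtain ⟨F⟩ := CfsgLib.FGS74.MinusThirtyTwo.exists_frame hex
  obtain ⟨⟨m, -, hcard, hcnt⟩, -⟩ := Cfsg.Agent.S4416.result.{_, 0} P hex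
  have hm : m = 2 := by
    rw [h32, show (32 : ℕ) = 2 ^ 5 by norm_num] at hcard
    have := Nat.pow_right_injective (by norm_num) hcard
    omega
  subst hm
  obtain ⟨Q⟩ := CfsgLib.FGS74.MinusThirtyTwo.exists_points F h32 hminus (by norm_num at hcnt; omega)
  obtain ⟨hker, hinn⟩ := CfsgLib.FGS74.MinusThirtyTwo.ker_permHom Q h32
  have hsurj := CfsgLib.FGS74.MinusThirtyTwo.permHom_surjective Q
  let e : (MulAut P ⧸ (MulAut.conj : P →* MulAut P).range) ≃* Equiv.Perm (Fin 5) :=
    (QuotientGroup.quotientMulEquivOfEq hker.symm).trans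
      (QuotientGroup.quotientKerEquivOfSurjective _ hsurj)
  refine ⟨hinn, ?_, ⟨e⟩⟩
  rw [Subgroup.card_eq_card_quotient_mul_card_subgroup (MulAut.conj : P →* MulAut P).range, hinn,
    Nat.card_congr e.toEquiv, Nat.card_perm, Nat.card_fin]
  rfl

end Cfsg.Agent.S4413
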