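import Cfsg.Statements.S4414
import Cfsg.Agent.FGS74.Weights
import Cfsg.Agent.SmallRankAut.Basic
import Cfsg.Agent.FgsSix.UnipotentDerived

set_option autoImplicit false
open Cfsg

namespace Cfsg.Agent.S4414

open CfsgLib.FGS74 CfsgLib.FGS74.Weights FrobFree Module
open scoped TensorProduct commutatorElement

section Orbit

variable {K : Type*} [Field K] [CharP K 2] {A : Type*} [Group A] [Finite A] {W : Type*}
  [AddCommGroup W] [Module K W] (ρ : Representation K A W) (N : Subgroup A) [N.Normal]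

private theorem act_inj (a : A) : Function.Injective (act (K := K) N a) :=
  Function.LeftInverse.injective (g := act N a⁻¹)
    fun χ => by rw [← act_mul, inv_mul_cancel, act_one]

private theorem wt_rho (a : A) (χ : N →* Kˣ) (v : W) :
    wt ρ N χ (ρ a v) = ρ a (wt ρ N (act N a⁻¹ χ) v) := by
  rw [← wt_conj ρ N a⁻¹ χ, inv_inv, ← Module.End.mul_apply, ← Module.End.mul_apply, ← mul_assoc,
    ← mul_assoc, ← map_mul, mul_inv_cancel, map_one, one_mul]

/-- A fixed vector of a 2-subgroup supported on one orbit of weights. -/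
private theorem exists_orbit_vector (hcard : (Nat.card N : K) ≠ 0) (H : Subgroup A)
    (hH : IsPGroup 2 H) (χ : N →* Kˣ) (hχ : wt ρ N χ ≠ 0) :
    ∃ w : W, w ∈ fixedSub ρ H ∧
      ∀ ψ : N →* Kˣ, wt ρ N ψ w ≠ 0 ↔ ∃ h ∈ H, act N h χ = ψ := by
  classical
  let T : Subgroup H :=
    { carrier := {h | act N (h : A) χ = χ}
      one_mem' := act_one N χ
      mul_mem' := fun {a b} ha hb => by
        show act N ((a : A) * b) χ = χ
        rw [act_mul, hb, ha]
      inv_mem' := fun {a} ha => by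
        show act N ((a : A)⁻¹) χ = χ
        conv_lhs => rw [← (ha : act N (a : A) χ = χ), ← act_mul, inv_mul_cancel, act_one] }
  let U : Submodule K W := LinearMap.range (wt ρ N χ)
  have hU : ∀ t : T, ∀ x ∈ U, ρ ((t : H) : A) x ∈ U := by
    rintro t _ ⟨y, rfl⟩
    refine ⟨ρ ((t : H) : A) y, ?_⟩
    rw [wt_rho]
    congr 3
    have ht : act N ((t : H) : A) χ = χ := t.2
    conv_lhs => rw [← ht, ← act_mul, inv_mul_cancel, act_one]
  obtain ⟨y, hy⟩ : ∃ y, wt ρ N χ y ≠ 0 := by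
    by_contra! h
    exact hχ (LinearMap.ext h)
  obtain ⟨⟨u, hu⟩, hu0, huT⟩ := CfsgLib.FgsSix.exists_ne_zero_fixed (hH.to_subgroup T)
    (FrobFree.subRep (ρ.comp (H.subtype.comp T.subtype)) U hU) (v := ⟨_, LinearMap.mem_range_self _ y⟩)
    (fun e => hy (congrArg Subtype.val e))
  have hu0' : u ≠ 0 := fun e => hu0 (Subtype.ext e)
  have huT' : ∀ t : H, t ∈ T → ρ (t : A) u = u := fun t ht =>
    congrArg Subtype.val (huT ⟨t, ht⟩)
  have huself : ∀ φ : N →* Kˣ, wt ρ N φ u = if φ = χ then u else 0 := by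
    intro φ
    obtain ⟨z, rfl⟩ := hu
    rw [← Module.End.mul_apply, wt_mul ρ N hcard]
    split_ifs <;> simp
  letI := Fintype.ofFinite (H ⧸ T)
  refine ⟨∑ c : H ⧸ T, ρ (c.out : A) u, ?_, fun ψ => ?_⟩
  · intro a ha
    rw [map_sum]
    refine Fintype.sum_equiv (MulAction.toPerm (⟨a, ha⟩ : H)) _ _ (fun c => ?_)
    rw [← Module.End.mul_apply, ← map_mul]
    have hmem : ((⟨a, ha⟩ : H) • c).out⁻¹ * (⟨a, ha⟩ * c.out) ∈ T := by
      rw [← QuotientGroup.eq, QuotientGroup.out_eq']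
      conv_lhs => rw [← QuotientGroup.out_eq' c]
      rfl
    have h := huT' _ hmem
    simp only [Subgroup.coe_mul, Subgroup.coe_inv, map_mul, Module.End.mul_apply] at h
    show ρ (a * c.out) u = ρ (((⟨a, ha⟩ : H) • c).out : A) u
    rw [map_mul, Module.End.mul_apply]
    conv_rhs => rw [← h]
    rw [← Module.End.mul_apply (ρ (((⟨a, ha⟩ : H) • c).out : A)), ← map_mul, mul_inv_cancel, map_one,
      Module.End.one_apply]
  · have hterm : ∀ c : H ⧸ T, wt ρ N ψ (ρ (c.out : A) u)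
        = if act N (c.out : A) χ = ψ then ρ (c.out : A) u else 0 := by
      intro c
      rw [wt_rho, huself]
      by_cases hc : act N (c.out : A) χ = ψ
      · rw [if_pos (by rw [← hc, ← act_mul, inv_mul_cancel, act_one]), if_pos hc]
      · rw [if_neg (fun e => hc (by rw [← e, ← act_mul, mul_inv_cancel, act_one])), if_neg hc,
          map_zero]
    simp only [map_sum, hterm]
    constructor
    · intro h
      obtain ⟨c, -, hc⟩ := Finset.exists_ne_zero_of_sum_ne_zero h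
      exact ⟨c.out, c.out.2, by by_contra hne; exact hc (if_neg hne)⟩
    · rintro ⟨h, hh, rfl⟩
      have hout : act N ((QuotientGroup.mk (⟨h, hh⟩ : H) : H ⧸ T).out : A) χ = act N h χ := by
        obtain ⟨t, ht⟩ := QuotientGroup.mk_out_eq_mul T (⟨h, hh⟩ : H)
        rw [ht, Subgroup.coe_mul, act_mul, show act N ((t : H) : A) χ = χ from t.2]
      rw [Finset.sum_eq_single (QuotientGroup.mk (⟨h, hh⟩ : H) : H ⧸ T) (fun c _ hc => ?_)
        (by simp), if_pos hout]
      · intro e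
        refine hu0' ?_
        rw [← FrobFree.rho_inv_apply_self ρ
          (((QuotientGroup.mk (⟨h, hh⟩ : H) : H ⧸ T).out : A)) u, e, map_zero]
      · refine if_neg fun e => hc ?_
        rw [← QuotientGroup.out_eq' c, QuotientGroup.eq]
        show act N (((c.out⁻¹ * ⟨h, hh⟩ : H)) : A) χ = χ
        rw [Subgroup.coe_mul, Subgroup.coe_inv, act_mul, ← e, ← act_mul, inv_mul_cancel, act_one]

end Orbit

/-- Let S be a finite solvable group whose order is divisible only by the primes 2, p, q (p, q distinct odd primes), with a Sylow system S₂, S_p, S_q (pairwise permutable Sylow subgroups) such that: S_p is a minimal normal subgroup of S of order p or p²; S_q has order q and [S_p, S_q] = S_p; and O₂(S) = 1. Let E be an irreducible module for S over the field with two elements on which S_p acts faithfully, and E₀ the subspace of fixed points of S₂. Then either E₀ has at least 8 elements, or E₀ has exactly 4 elements and S_q does not leave E₀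 invariant. -/
theorem result {S : Type*} [Group S] [Finite S]
    [Group.IsSolvable S] (p q : ℕ) (hp : p.Prime) (hq : q.Prime) (hp2 : p ≠ 2) (hq2 : q ≠ 2) (hpq : p ≠ q)
    (hπ : ∀ r : ℕ, r.Prime → r ∣ Nat.card S → r = 2 ∨ r = p ∨ r = q)
    (S₂ : Sylow 2 S) (Sp : Sylow p S) (Sq : Sylow q S)
    (h2q : Nat.card ↥((S₂ : Subgroup S) ⊔ (Sq : Subgroup S)) = Nat.card ↥S₂ * Nat.card ↥Sq)
    (h2p : Nat.card ↥((S₂ : Subgroup S) ⊔ (Sp : Subgroup S)) = Nat.card ↥S₂ * Nat.card ↥Sp)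
    (hpq' : Nat.card ↥((Sp : Subgroup S) ⊔ (Sq : Subgroup S)) = Nat.card ↥Sp * Nat.card ↥Sq)
    (hSpN : (Sp : Subgroup S).Normal) (hSpmin : ∀ N : Subgroup S, N.Normal → N ≤ (Sp : Subgroup S) → N = ⊥ ∨ N = (Sp : Subgroup S))
    (hSpcard : Nat.card ↥Sp = p ∨ Nat.card ↥Sp = p ^ 2)
    (hSq : Nat.card ↥Sq = q) (hcomm : ⁅(Sp : Subgroup S), (Sq : Subgroup S)⁆ = (Sp : Subgroup S))
    (hO2 : Cfsg.pCore 2 S = ⊥)
    {E : Type*} [AddCommGroup E] [Module (ZMod 2) E] [Finite E] (ρ : Representation (ZMod 2) S E) (hE : Nontrivial E)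
    (hirr : ∀ N : Submodule (ZMod 2) E, (∀ s : S, ∀ m ∈ N, ρ s m ∈ N) → N = ⊥ ∨ N = ⊤)
    (hfaith : ∀ x ∈ (Sp : Subgroup S), ρ x = 1 → x = 1) :
    8 ≤ Nat.card {v : E // ∀ s ∈ (S₂ : Subgroup S), ρ s v = v} ∨
      (Nat.card {v : E // ∀ s ∈ (S₂ : Subgroup S), ρ s v = v} = 4 ∧
        ∃ x ∈ (Sq : Subgroup S), ∃ v : E, (∀ s ∈ (S₂ : Subgroup S), ρ s v = v) ∧ ¬ ∀ s ∈ (S₂ : Subgroup S), ρ s (ρ x v) = ρ x v) := by
  classical
  haveI : Fact p.Prime := ⟨hp⟩
  haveI : Fact q.Prime := ⟨hq⟩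
  haveI := hSpN
  let K := AlgebraicClosure (ZMod 2)
  let N : Subgroup S := Sp
  have hab : ∀ a ∈ ⁅N, N⁆, a = 1 := by
    have hmc : ∀ a b : N, a * b = b * a := by
      rcases hSpcard with h | h
      · have : IsCyclic N := isCyclic_of_prime_card (p := p) h
        exact fun a b => IsCyclic.commGroup.mul_comm a b
      · exact fun a b => (IsPGroup.commutative_of_card_eq_prime_sq (p := p) h) a b
    intro a ha
    rw [← Subgroup.mem_bot]
    refine (Subgroup.commutator_le.2 fun x hx y hy => ?_) ha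
    rw [Subgroup.mem_bot, commutatorElement_eq_one_iff_mul_comm]
    exact congrArg Subtype.val (hmc ⟨x, hx⟩ ⟨y, hy⟩)
  have hNodd : ¬ 2 ∣ Nat.card N := by
    obtain ⟨e, he⟩ := Sp.2.exists_card_eq
    rw [he]
    exact fun h => hp2 ((Nat.prime_dvd_prime_iff_eq Nat.prime_two hp).1
      (Nat.prime_two.dvd_of_dvd_pow h)).symm
  have hcard2 : (Nat.card N : ZMod 2) ≠ 0 := by
    rwa [Ne, ZMod.natCast_eq_zero_iff]
  have hfix : fixedSub ρ N = ⊥ := by
    refine (hirr _ fun s m hm => fixedSub_invariant ρ N s hm).resolve_right fun htop => ?_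
    have hall : N = ⊥ := by
      rw [Subgroup.eq_bot_iff_forall]
      exact fun x hx => hfaith x hx (LinearMap.ext fun v =>
        (htop ▸ Submodule.mem_top : v ∈ fixedSub ρ N) x hx)
    have h1 : Nat.card N = 1 := Subgroup.card_eq_one.2 hall
    rcases hSpcard with h | h
    · exact hp.ne_one (h.symm.trans h1)
    · exact hp.ne_one ((Nat.pow_eq_one.1 (h.symm.trans h1)).resolve_right two_ne_zero)
  let ρ' : Representation K S (K ⊗[ZMod 2] E) := extend K ρ
  haveI : CharP K 2 := charP_of_injective_algebraMap (algebraMap (ZMod 2) K).injective 2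
  have hcard : (Nat.card N : K) ≠ 0 := by
    rwa [Ne, CharP.cast_eq_zero_iff K 2]
  haveI : NeZero ((Monoid.exponent (Abelianization N) : ℕ) : K) := ⟨fun e' => hcard (by
    obtain ⟨c, hc⟩ : Monoid.exponent (Abelianization N) ∣ Nat.card N :=
      Group.exponent_dvd_nat_card.trans (Subgroup.card_quotient_dvd_card (commutator N))
    rw [hc, Nat.cast_mul, e', zero_mul])⟩
  haveI : Finite (Abelianization N →* Kˣ) :=
    Finite.of_equiv _
      (CommGroup.monoidHom_mulEquiv_of_hasEnoughRootsOfUnity (Abelianization N) K).some.toEquiv.symm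
  haveI : Finite (N →* Kˣ) := Finite.of_equiv _ (Abelianization.lift (G := N) (A := Kˣ)).symm
  letI := Fintype.ofFinite (N →* Kˣ)
  have hfix' : fixedSub ρ' N = ⊥ := fixedSub_extend_eq_bot K ρ N hfix
  have hcomm' : ∀ a ∈ ⁅N, N⁆, ρ' a = 1 := fun a ha => by rw [hab a ha, map_one]
  -- the generator of the Sylow `q`-subgroup
  obtain ⟨x, hxgen⟩ : ∃ x : (Sq : Subgroup S), ∀ y, y ∈ Subgroup.zpowers x :=
    (isCyclic_of_prime_card (p := q) hSq).exists_generator
  have hxq : (x : S) ^ q = 1 := by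
    have h := pow_card_eq_one' (x := x)
    rw [show Nat.card ↥(Sq : Subgroup S) = q from hSq] at h
    exact congrArg Subtype.val h
  -- it moves every nontrivial weight
  have hfree : ∀ χ : N →* Kˣ, act N (x : S) χ = χ → χ = 1 := by
    intro χ hχ
    have hpow : ∀ y ∈ (Sq : Subgroup S), act N y χ = χ := by
      intro y hy
      obtain ⟨n, hn⟩ := (mem_powers_iff_mem_zpowers.2 (hxgen ⟨y, hy⟩))
      have hn' : (x : S) ^ n = y := congrArg Subtype.val hn
      subst hn'
      clear hn hy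
      induction n with
      | zero => rw [pow_zero, act_one]
      | succ n ih => rw [pow_succ, act_mul, hχ, ih]
    have hle : ⁅N, (Sq : Subgroup S)⁆ ≤ χ.ker.map N.subtype := by
      rw [Subgroup.commutator_le]
      intro a ha y hy
      refine ⟨⟨a, ha⟩ * MulAut.conjNormal y ⟨a⁻¹, inv_mem ha⟩, ?_, ?_⟩
      · rw [SetLike.mem_coe, MonoidHom.mem_ker, map_mul]
        have h := DFunLike.congr_fun (hpow y⁻¹ (inv_mem hy)) (⟨a⁻¹, inv_mem ha⟩ : N)
        have h2 : act N y⁻¹ χ ⟨a⁻¹, inv_mem ha⟩ = χ (MulAut.conjNormal y ⟨a⁻¹, inv_mem ha⟩) := by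
          show χ (MulAut.conjNormal y⁻¹⁻¹ _) = _
          rw [inv_inv]
        rw [← h2, h, ← map_mul]
        exact (congrArg χ (Subtype.ext (mul_inv_cancel a))).trans (map_one χ)
      · simp [commutatorElement_def, mul_assoc]
    rw [hcomm] at hle
    refine MonoidHom.ext fun a => ?_
    obtain ⟨b, hb, hba⟩ := hle a.2
    rw [← Subtype.ext hba (a1 := b)]
    exact hb
  -- weights
  let Λ := {χ : N →* Kˣ // wt ρ' N χ ≠ 0}
  haveI : Finite Λ := Subtype.finite
  have hne1 : ∀ χ : Λ, χ.1 ≠ 1 := fun χ e => χ.2 (e ▸ wt_one ρ' N hfix')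
  have hinv : ∀ (a : S) (χ : N →* Kˣ), wt ρ' N χ ≠ 0 → wt ρ' N (act N a χ) ≠ 0 := by
    intro a χ h e
    apply h
    rw [← wt_conj] at e
    calc wt ρ' N χ = ρ' a⁻¹ * (ρ' a * wt ρ' N χ * ρ' a⁻¹) * ρ' a := by
          simp only [← mul_assoc, ← map_mul, inv_mul_cancel, map_one, one_mul]
          rw [mul_assoc, ← map_mul, inv_mul_cancel, map_one, mul_one]
      _ = 0 := by rw [e, mul_zero, zero_mul]
  have hiter : ∀ (n : ℕ) (χ : N →* Kˣ), (act N (x : S))^[n] χ = act N ((x : S) ^ n) χ := by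
    intro n χ
    induction n with
    | zero => rw [pow_zero, act_one]; rfl
    | succ n ih => rw [Function.iterate_succ_apply', ih, pow_succ', act_mul]
  -- no nonempty `x`-stable set of weights has two-power size
  have hqdvd : ∀ Q : Finset (N →* Kˣ), (∀ ψ ∈ Q, act N (x : S) ψ ∈ Q) → (∀ ψ ∈ Q, ψ ≠ 1) →
      q ∣ Q.card := by
    intro Q hQ hQ1
    have hbij : Function.Bijective (fun ψ : Q => (⟨act N (x : S) ψ.1, hQ _ ψ.2⟩ : Q)) :=
      Finite.injective_iff_bijective.1 fun a b h =>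
        Subtype.ext (act_inj N (x : S) (congrArg Subtype.val h))
    let σ : Equiv.Perm Q := Equiv.ofBijective _ hbij
    have hσ : σ ^ q = 1 := by
      refine Equiv.ext fun ψ => Subtype.ext ?_
      have : ∀ n, ((σ ^ n) ψ).1 = (act N (x : S))^[n] ψ.1 := by
        intro n
        induction n with
        | zero => rfl
        | succ n ih =>
          rw [pow_succ', Equiv.Perm.mul_apply, Function.iterate_succ_apply', ← ih]
          rfl
      rw [this, hiter, hxq, act_one]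
      rfl
    have h := CfsgLib.SmallRankAut.card_fixed_modEq σ hσ
    have h0 : Nat.card {a // σ a = a} = 0 := by
      rw [Nat.card_eq_zero]
      exact Or.inl ⟨fun a => hQ1 _ a.1.2 (hfree _ (congrArg Subtype.val a.2))⟩
    rw [h0, Nat.card_eq_fintype_card, Fintype.card_coe] at h
    exact Nat.modEq_zero_iff_dvd.1 h
  let orb : (N →* Kˣ) → Finset (N →* Kˣ) := fun χ =>
    Finset.univ.filter fun ψ => ∃ h ∈ (S₂ : Subgroup S), act N h χ = ψ
  have horb2 : ∀ χ, ¬ q ∣ (orb χ).card := by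
    intro χ h
    letI : MulAction (S₂ : Subgroup S) (N →* Kˣ) :=
      { smul := fun a ψ => act N (a : S) ψ
        one_smul := fun ψ => act_one N ψ
        mul_smul := fun a b ψ => act_mul N (a : S) b ψ }
    have he : (orb χ).card = Nat.card (MulAction.orbit (S₂ : Subgroup S) χ) := by
      rw [Nat.card_coe_set_eq, ← Set.ncard_coe_finset]
      congr 1
      ext ψ
      simp only [orb, Finset.coe_filter, Finset.mem_univ, true_and, Set.mem_setOf_eq,
        MulAction.mem_orbit_iff]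
      exact ⟨fun ⟨a, ha, e⟩ => ⟨⟨a, ha⟩, e⟩, fun ⟨a, e⟩ => ⟨a, a.2, e⟩⟩
    obtain ⟨e, he2⟩ := S₂.2.exists_card_eq
    have hdvd : (orb χ).card ∣ 2 ^ e := by
      rw [he, ← he2, ← Subgroup.index_mul_card (MulAction.stabilizer (S₂ : Subgroup S) χ),
        MulAction.index_stabilizer, Nat.card_coe_set_eq]
      exact dvd_mul_right _ _
    exact hq2 ((Nat.prime_dvd_prime_iff_eq hq Nat.prime_two).1
      (hq.dvd_of_dvd_pow (h.trans hdvd)))
  -- two orbits
  obtain ⟨χ₁, hχ₁⟩ : ∃ χ, wt ρ' N χ ≠ 0 := by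
    by_contra! h
    have h1 := sum_wt ρ' N hcard hcomm'
    rw [Finset.sum_eq_zero (fun χ _ => h χ)] at h1
    haveI : Nontrivial (K ⊗[ZMod 2] E) := by
      haveI := hE
      refine Module.nontrivial_of_finrank_pos (R := K) ?_
      rw [Module.finrank_baseChange]
      exact Module.finrank_pos
    exact zero_ne_one h1
  have hwtne : ∀ ψ, wt ρ' N ψ ≠ 0 → ψ ≠ 1 := fun ψ h e => hne1 ⟨ψ, h⟩ e
  obtain ⟨χ₂, hχ₂, hχ₂O⟩ : ∃ χ, wt ρ' N χ ≠ 0 ∧ χ ∉ orb χ₁ := by
    by_contra! h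
    refine horb2 χ₁ ?_
    have hmem : ∀ ψ ∈ orb χ₁, wt ρ' N ψ ≠ 0 := fun ψ hψ => by
      obtain ⟨a, -, rfl⟩ := (Finset.mem_filter.1 hψ).2
      exact hinv a _ hχ₁
    exact hqdvd _ (fun ψ hψ => h _ (hinv _ _ (hmem ψ hψ))) (fun ψ hψ => hwtne ψ (hmem ψ hψ))
  obtain ⟨w₁, hw₁, hs₁⟩ := exists_orbit_vector ρ' N hcard S₂ S₂.2 χ₁ hχ₁
  obtain ⟨w₂, hw₂, hs₂⟩ := exists_orbit_vector ρ' N hcard S₂ S₂.2 χ₂ hχ₂
  have horb : ∀ χ ψ, ψ ∈ orb χ ↔ ∃ h ∈ (S₂ : Subgroup S), act N h χ = ψ := fun χ ψ => by simp [orb]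
  have hdisj : ∀ ψ, ψ ∈ orb χ₁ → ψ ∉ orb χ₂ := by
    intro ψ h h'
    obtain ⟨a, ha, rfl⟩ := (horb _ _).1 h
    obtain ⟨b, hb, hab⟩ := (horb _ _).1 h'
    refine hχ₂O ((horb _ _).2 ⟨b⁻¹ * a, mul_mem (inv_mem hb) ha, ?_⟩)
    rw [act_mul, ← hab, ← act_mul, inv_mul_cancel, act_one]
  have hself : ∀ χ, χ ∈ orb χ := fun χ => (horb _ _).2 ⟨1, one_mem _, act_one N χ⟩
  have hev : ∀ (c₁ c₂ : K) (ψ : N →* Kˣ), wt ρ' N ψ (c₁ • w₁ + c₂ • w₂) ≠ 0 ↔
      (c₁ ≠ 0 ∧ ψ ∈ orb χ₁) ∨ (c₂ ≠ 0 ∧ ψ ∈ orb χ₂) := by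
    intro c₁ c₂ ψ
    rw [map_add, map_smul, map_smul]
    by_cases h1 : ψ ∈ orb χ₁
    · have h2 := hdisj ψ h1
      have e2 : wt ρ' N ψ w₂ = 0 := by
        by_contra h; exact h2 ((horb _ _).2 ((hs₂ ψ).1 h))
      have e1 := (hs₁ ψ).2 ((horb _ _).1 h1)
      simp [e2, e1, h1, h2]
    · have e1 : wt ρ' N ψ w₁ = 0 := by
        by_contra h; exact h1 ((horb _ _).2 ((hs₁ ψ).1 h))
      by_cases h2 : ψ ∈ orb χ₂
      · have e2 := (hs₂ ψ).2 ((horb _ _).1 h2)
        simp [e1, e2, h1, h2]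
      · have e2 : wt ρ' N ψ w₂ = 0 := by
          by_contra h; exact h2 ((horb _ _).2 ((hs₂ ψ).1 h))
        simp [e1, e2, h1, h2]
  have hli : LinearIndependent K ![w₁, w₂] := by
    rw [LinearIndependent.pair_iff]
    intro c₁ c₂ h
    constructor
    · by_contra hc
      exact (hev c₁ c₂ χ₁).2 (Or.inl ⟨hc, hself χ₁⟩) (by rw [h, map_zero])
    · by_contra hc
      exact (hev c₁ c₂ χ₂).2 (Or.inr ⟨hc, hself χ₂⟩) (by rw [h, map_zero])
  have hd' : finrank K (fixedSub ρ' S₂) = finrank (ZMod 2) (fixedSub ρ S₂) :=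
    finrank_fixedSub_extend K ρ _
  have hd : 2 ≤ finrank K (fixedSub ρ' S₂) := by
    have hsp : Submodule.span K (Set.range ![w₁, w₂]) ≤ fixedSub ρ' S₂ := by
      rw [Submodule.span_le]
      rintro _ ⟨i, rfl⟩
      fin_cases i
      exacts [hw₁, hw₂]
    have h := Submodule.finrank_mono hsp
    rwa [finrank_span_eq_card hli, Fintype.card_fin] at h
  haveI := Fintype.ofFinite E
  have hcount : Nat.card {v : E // ∀ s ∈ (S₂ : Subgroup S), ρ s v = v}
      = 2 ^ finrank (ZMod 2) (fixedSub ρ S₂) := by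
    rw [show Nat.card {v : E // ∀ s ∈ (S₂ : Subgroup S), ρ s v = v} = Nat.card (fixedSub ρ S₂)
      from rfl, Module.natCard_eq_pow_finrank (K := ZMod 2), Nat.card_zmod]
  rcases eq_or_lt_of_le hd with h2 | h3
  swap
  · refine Or.inl ?_
    rw [hcount, show 8 = 2 ^ 3 by norm_num]
    exact Nat.pow_le_pow_right two_pos (by omega)
  refine Or.inr ⟨by rw [hcount, ← hd', ← h2]; norm_num, x, x.2, ?_⟩
  by_contra! hall
  have hstab : ∀ y ∈ fixedSub ρ' S₂, ρ' (x : S) y ∈ fixedSub ρ' S₂ := fun y hy =>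
    extend_apply_mem K ρ _ _ (fun v hv => hall v hv) hy
  have hspan : fixedSub ρ' S₂ = Submodule.span K (Set.range ![w₁, w₂]) := by
    refine (Submodule.eq_of_le_of_finrank_le ?_ ?_).symm
    · rw [Submodule.span_le]
      rintro _ ⟨i, rfl⟩
      fin_cases i
      exacts [hw₁, hw₂]
    · rw [finrank_span_eq_card hli, Fintype.card_fin]
      exact h2.ge
  -- the image of an orbit is an orbit
  have himg : ∀ χ w, (∀ ψ, wt ρ' N ψ w ≠ 0 ↔ ∃ h ∈ (S₂ : Subgroup S), act N h χ = ψ) →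
      w ∈ fixedSub ρ' S₂ →
      (orb χ).image (act N (x : S)) = orb χ₁ ∨ (orb χ).image (act N (x : S)) = orb χ₂ ∨
        (orb χ).image (act N (x : S)) = orb χ₁ ∪ orb χ₂ := by
    intro χ w hs hw
    have hmem := hstab w hw
    rw [hspan, Matrix.range_cons, Matrix.range_cons, Matrix.range_empty, Set.union_empty,
      Set.singleton_union, Submodule.mem_span_pair] at hmem
    obtain ⟨c₁, c₂, hc⟩ := hmem
    have himgmem : ∀ ψ, ψ ∈ (orb χ).image (act N (x : S)) ↔
        (c₁ ≠ 0 ∧ ψ ∈ orb χ₁) ∨ (c₂ ≠ 0 ∧ ψ ∈ orb χ₂) := by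
      intro ψ
      rw [← hev, hc, wt_rho, ne_eq, map_eq_zero_iff _
        (Function.LeftInverse.injective (rho_inv_apply_self ρ' (x : S))), ← ne_eq, hs, ← horb,
        Finset.mem_image]
      constructor
      · rintro ⟨φ, hφ, rfl⟩
        rwa [← act_mul, inv_mul_cancel, act_one]
      · exact fun h => ⟨_, h, by rw [← act_mul, mul_inv_cancel, act_one]⟩
    by_cases hc₁ : c₁ = 0
    · by_cases hc₂ : c₂ = 0
      · have := (himgmem (act N (x : S) χ)).1 (Finset.mem_image_of_mem _ (hself χ))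
        simp [hc₁, hc₂] at this
      · exact Or.inr (Or.inl (Finset.ext fun ψ => by simp [himgmem, hc₁, hc₂]))
    · by_cases hc₂ : c₂ = 0
      · exact Or.inl (Finset.ext fun ψ => by simp [himgmem, hc₁, hc₂])
      · exact Or.inr (Or.inr (Finset.ext fun ψ => by simp [himgmem, hc₁, hc₂]))
  have hnotfix : ∀ χ, wt ρ' N χ ≠ 0 → (orb χ).image (act N (x : S)) ≠ orb χ := by
    intro χ hχ e
    refine horb2 χ (hqdvd _ (fun ψ hψ => e ▸ Finset.mem_image_of_mem _ hψ) fun ψ hψ => ?_)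
    obtain ⟨a, -, rfl⟩ := (horb _ _).1 hψ
    exact hwtne _ (hinv a _ hχ)
  have hci : ∀ χ, ((orb χ).image (act N (x : S))).card = (orb χ).card := fun χ =>
    Finset.card_image_of_injective _ (act_inj N (x : S))
  have hdis : Disjoint (orb χ₁) (orb χ₂) := Finset.disjoint_left.2 fun {ψ} => hdisj ψ
  have hpos1 : 0 < (orb χ₁).card := Finset.card_pos.2 ⟨_, hself χ₁⟩
  have hpos2 : 0 < (orb χ₂).card := Finset.card_pos.2 ⟨_, hself χ₂⟩
  have h12 : (orb χ₁).image (act N (x : S)) = orb χ₂ := by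
    rcases himg χ₁ w₁ hs₁ hw₁ with h | h | h
    · exact absurd h (hnotfix _ hχ₁)
    · exact h
    · have := hci χ₁
      rw [h, Finset.card_union_of_disjoint hdis] at this
      omega
  have h21 : (orb χ₂).image (act N (x : S)) = orb χ₁ := by
    rcases himg χ₂ w₂ hs₂ hw₂ with h | h | h
    · exact h
    · exact absurd h (hnotfix _ hχ₂)
    · have := hci χ₂
      rw [h, Finset.card_union_of_disjoint hdis] at this
      omega
  obtain ⟨j, hj⟩ := hq.odd_of_ne_two hq2
  have heven : ∀ n : ℕ, (orb χ₁).image (act N (((x : S) ^ 2) ^ n)) = orb χ₁ := by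
    intro n
    induction n with
    | zero =>
      rw [pow_zero, show act (K := K) N (1 : S) = id from funext (act_one N), Finset.image_id]
    | succ n ih =>
      rw [show act (K := K) N (((x : S) ^ 2) ^ (n + 1)) =
        act N (x : S) ∘ act N (x : S) ∘ act N (((x : S) ^ 2) ^ n) from funext fun ψ => by
          simp only [Function.comp_apply, ← act_mul]
          congr 1
          rw [← mul_assoc, ← pow_two, ← pow_succ'], ← Finset.image_image, ← Finset.image_image,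
        ih, h12, h21]
  refine hnotfix _ hχ₁ ?_
  have h := heven (j + 1)
  rwa [← pow_mul, show 2 * (j + 1) = q + 1 by omega, pow_succ, hxq, one_mul] at h

end Cfsg.Agent.S4414
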