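import Cfsg.Statements.S4417
import Cfsg.Agent.NilpotentLinear.DerivedLength
-- import your own Cfsg.Agent.* helpers here

set_option autoImplicit false
set_option linter.style.haveILetI false
open Cfsg

namespace Cfsg.Agent.S4417

open Module CfsgLib.NilpotentLinear
open scoped Matrix

theorem mul_finrank_le_of_eigenvalues {K V : Type*} [Field K] [AddCommGroup V] [Module K V]
    [FiniteDimensional K V] (f : End K V) (e d : ℕ) (c : ℕ → K)
    (hinj : ∀ i < e, ∀ j < e, c i = c j → i = j) (hd : ∀ i < e, d ≤ finrank K (f.eigenspace (c i))) :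
    e * d ≤ finrank K V := by
  classical
  have key : ∀ s : Finset K, finrank K ↥(s.sup f.eigenspace) = ∑ x ∈ s, finrank K (f.eigenspace x) := by
    intro s
    induction s using Finset.induction_on with
    | empty => simp
    | insert x s hx ih =>
      rw [Finset.sup_insert, Finset.sum_insert hx, ← ih, ← Submodule.finrank_sup_add_finrank_inf_eq]
      have hb : f.eigenspace x ⊓ s.sup f.eigenspace = ⊥ := by
        rw [Finset.sup_eq_iSup, ← disjoint_iff]
        exact (End.eigenspaces_iSupIndep f).disjoint_biSup hx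
      rw [hb, finrank_bot, add_zero]
  let s := (Finset.range e).image c
  have hs : s.card = e := by
    rw [Finset.card_image_of_injOn, Finset.card_range]
    exact fun i hi j hj h => hinj i (by simpa using hi) j (by simpa using hj) h
  calc e * d = ∑ _x ∈ s, d := by rw [Finset.sum_const, smul_eq_mul, hs]
    _ ≤ ∑ x ∈ s, finrank K (f.eigenspace x) := Finset.sum_le_sum fun x hx => by
        obtain ⟨i, hi, rfl⟩ := Finset.mem_image.1 hx
        exact hd i (by simpa using hi)
    _ ≤ finrank K V := (key s).symm.le.trans (Submodule.finrank_le _)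

variable {F : Type*} [Field F] [Fintype F] {n : ℕ} {p : ℕ} [Fact p.Prime]

/-- The representation over the algebraic closure. -/
noncomputable def closureRep (P : Subgroup (GL (Fin n) F)) :
    ↥P →* End (AlgebraicClosure F) (Fin n → AlgebraicClosure F) :=
  (Matrix.toLinAlgEquiv' (R := AlgebraicClosure F) (n := Fin n)).toMulEquiv.toMonoidHom.comp
    (((algebraMap F (AlgebraicClosure F)).mapMatrix :
        Matrix (Fin n) (Fin n) F →+* Matrix (Fin n) (Fin n) (AlgebraicClosure F)).toMonoidHom.comp
      ((Units.coeHom _).comp P.subtype))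

theorem closureRep_apply (P : Subgroup (GL (Fin n) F)) (x : ↥P) (v : Fin n → AlgebraicClosure F) :
    closureRep P x v =
      ((x : GL (Fin n) F) : Matrix (Fin n) (Fin n) F).map (algebraMap F (AlgebraicClosure F)) *ᵥ v := by
  rfl

theorem closureRep_injective (P : Subgroup (GL (Fin n) F)) : Function.Injective (closureRep P) := by
  intro x y h
  have h1 := (Matrix.toLinAlgEquiv' (R := AlgebraicClosure F) (n := Fin n)).injective h
  exact Subtype.ext (Units.ext (Matrix.map_injective (algebraMap F (AlgebraicClosure F)).injective h1))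

/-- Galois conjugation moves the eigenspace of `c` to that of `c ^ q`. -/
theorem finrank_eigenspace_pow (P : Subgroup (GL (Fin n) F)) (z : ↥P) (c : AlgebraicClosure F) :
    finrank (AlgebraicClosure F) ((closureRep P z).eigenspace c) =
      finrank (AlgebraicClosure F) ((closureRep P z).eigenspace (c ^ Fintype.card F)) := by
  obtain ⟨l, hl⟩ := CharP.exists F
  haveI := hl
  obtain ⟨m, hlp, hq⟩ := FiniteField.card F l
  haveI : Fact l.Prime := ⟨hlp⟩
  haveI : CharP (AlgebraicClosure F) l :=
    charP_of_injective_algebraMap (algebraMap F (AlgebraicClosure F)).injective l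
  let σ : AlgebraicClosure F ≃+* AlgebraicClosure F := iterateFrobeniusEquiv (AlgebraicClosure F) l m
  have hσ : ∀ x, σ x = x ^ Fintype.card F := fun x => by
    rw [hq]; exact iterateFrobeniusEquiv_def _ _ _ x
  let φ : (Fin n → AlgebraicClosure F) ≃+ (Fin n → AlgebraicClosure F) :=
    AddEquiv.piCongrRight fun _ => σ.toAddEquiv
  have hφs : ∀ (r : AlgebraicClosure F) v, φ (r • v) = σ r • φ v := fun r v =>
    funext fun i => map_mul σ r (v i)
  have hcomm : ∀ v, closureRep P z (φ v) = φ (closureRep P z v) := by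
    intro v
    rw [closureRep_apply, closureRep_apply]
    funext i
    show _ = σ _
    simp only [Matrix.mulVec, dotProduct, map_sum, map_mul, Matrix.map_apply]
    refine Finset.sum_congr rfl fun j _ => ?_
    show _ * σ (v j) = _
    congr 1
    rw [hσ, ← map_pow, FiniteField.pow_card]
  have hmem : ∀ v, φ v ∈ (closureRep P z).eigenspace (σ c) ↔ v ∈ (closureRep P z).eigenspace c := by
    intro v
    rw [End.mem_eigenspace_iff, End.mem_eigenspace_iff, hcomm, ← hφs, φ.injective.eq_iff]
  let j : ↥((closureRep P z).eigenspace c) ≃+ ↥((closureRep P z).eigenspace (σ c)) :=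
    { toFun := fun v => ⟨φ v, (hmem _).2 v.2⟩
      invFun := fun v => ⟨φ.symm v, (hmem _).1 (by rw [φ.apply_symm_apply]; exact v.2)⟩
      left_inv := fun v => Subtype.ext (φ.symm_apply_apply _)
      right_inv := fun v => Subtype.ext (φ.apply_symm_apply _)
      map_add' := fun a b => Subtype.ext (φ.map_add _ _) }
  have h := rank_eq_of_equiv_equiv σ j σ.bijective (fun r v => Subtype.ext (hφs r v))
  rw [← hσ c]
  exact congrArg Cardinal.toNat h

theorem derivedSeries_le_ker_closureRep (hpq : ¬ p ∣ Fintype.card F) (P : Subgroup (GL (Fin n) F))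
    [Finite P] (hP : IsPGroup p P) (e : ℕ) (he : e = orderOf ((Fintype.card F : ℕ) : ZMod p)) :
    derivedSeries ↥P (Nat.log 2 (n / e) + 1) ≤ (closureRep P).ker := by
  classical
  haveI := Fintype.ofFinite P
  haveI : Group.IsNilpotent ↥P := hP.isNilpotent
  set K := AlgebraicClosure F
  obtain ⟨k, hk⟩ := IsPGroup.iff_card.1 hP
  have hcard : ((Fintype.card ↥P : ℕ) : K) ≠ 0 := by
    rw [← Nat.card_eq_fintype_card, hk, Nat.cast_pow]
    refine pow_ne_zero _ ?_
    rw [← map_natCast (algebraMap F K)]
    refine fun h => hpq ?_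
    have h0 : ((p : ℕ) : F) = 0 := (algebraMap F K).injective (h.trans (map_zero _).symm)
    obtain ⟨l, hl⟩ := CharP.exists F
    haveI := hl
    obtain ⟨m, hlp, hq⟩ := FiniteField.card F l
    have hd : l ∣ p := (CharP.cast_eq_zero_iff F l p).1 h0
    rw [(Nat.prime_dvd_prime_iff_eq hlp (Fact.out : p.Prime)).1 hd] at hq
    rw [hq]
    exact dvd_pow_self p m.pos.ne'
  have he0 : 0 < e := by
    rw [he]
    refine (orderOf_pos_iff.2 (isOfFinOrder_iff_pow_eq_one.2 ⟨p - 1, ?_, ?_⟩))
    · have := (Fact.out : p.Prime).two_le; omega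
    · exact ZMod.pow_card_sub_one_eq_one (fun h => hpq ((ZMod.natCast_eq_zero_iff _ _).1 h))
  intro x hx
  -- every invariant subspace is fixed pointwise
  suffices key : ∀ d, ∀ U : Submodule K (Fin n → K), finrank K U = d →
      (∀ g : ↥P, ∀ v ∈ U, closureRep P g v ∈ U) → ∀ v ∈ U, closureRep P x v = v by
    exact LinearMap.ext fun v => key _ ⊤ rfl (fun _ _ _ => trivial) v trivial
  intro d
  induction d using Nat.strong_induction_on with
  | _ d ih =>
  intro U hd hU v hv
  by_cases hred : ∃ U₀ : Submodule K (Fin n → K), U₀ < U ∧ U₀ ≠ ⊥ ∧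
      ∀ g : ↥P, ∀ v ∈ U₀, closureRep P g v ∈ U₀
  · obtain ⟨U₀, hlt, hne, hU₀⟩ := hred
    obtain ⟨W, hW, hWinv⟩ := exists_invariant_compl hcard (closureRep P) U₀ hU₀
    have hsup : U₀ ⊔ (W ⊓ U) = U := by
      rw [← sup_inf_assoc_of_le W hlt.le, hW.sup_eq_top, top_inf_eq]
    have hlt' : W ⊓ U < U := by
      refine lt_of_le_of_ne inf_le_right fun h => hne ?_
      rw [eq_bot_iff, ← hW.inf_eq_bot]
      exact le_inf le_rfl (hlt.le.trans (h ▸ inf_le_left))
    rw [← hsup] at hv
    obtain ⟨a, ha, b, hb, rfl⟩ := Submodule.mem_sup.1 hv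
    rw [map_add, ih _ (hd ▸ Submodule.finrank_lt_finrank_of_lt hlt) U₀ rfl hU₀ a ha,
      ih _ (hd ▸ Submodule.finrank_lt_finrank_of_lt hlt') (W ⊓ U) rfl
        (fun g w hw => ⟨hWinv g w hw.1, hU g w hw.2⟩) b hb]
  push Not at hred
  let r := restrictRep (closureRep P) U hU
  by_cases htriv : r.toHomUnits.range = ⊥
  · have hxr : r.toHomUnits x = 1 := by
      rw [← Subgroup.mem_bot, ← htriv]; exact ⟨x, rfl⟩
    exact congrArg Subtype.val (LinearMap.congr_fun (congrArg Units.val hxr) ⟨v, hv⟩)
  -- the central element of order `p`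
  haveI : Nontrivial r.toHomUnits.range := (Subgroup.nontrivial_iff_ne_bot _).2 htriv
  haveI : Finite r.toHomUnits.range :=
    Finite.of_surjective _ r.toHomUnits.rangeRestrict_surjective
  have hR : IsPGroup p r.toHomUnits.range :=
    hP.of_surjective _ r.toHomUnits.rangeRestrict_surjective
  have hcen : p ∣ Nat.card (Subgroup.center r.toHomUnits.range) := by
    haveI := hR.center_nontrivial
    obtain ⟨j, hj⟩ := IsPGroup.iff_card.1 (hR.to_subgroup (Subgroup.center r.toHomUnits.range))
    have : 1 < Nat.card (Subgroup.center r.toHomUnits.range) := Finite.one_lt_card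
    rcases j with _ | j
    · rw [hj, pow_zero] at this; omega
    · rw [hj]; exact dvd_pow_self p (Nat.succ_ne_zero j)
  obtain ⟨⟨⟨_, z, rfl⟩, hzc⟩, hzo⟩ := exists_prime_orderOf_dvd_card' p hcen
  have hz1 : r z ≠ 1 := by
    intro h
    have : r.toHomUnits z = 1 := Units.ext h
    rw [← Subgroup.orderOf_coe, ← Subgroup.orderOf_coe] at hzo
    rw [show orderOf (r.toHomUnits z) = 1 by rw [this, orderOf_one]] at hzo
    exact (Fact.out : p.Prime).ne_one hzo.symm
  have hzp : r z ^ p = 1 := by
    have h := pow_orderOf_eq_one (⟨⟨r.toHomUnits z, z, rfl⟩, hzc⟩ : Subgroup.center r.toHomUnits.range)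
    rw [hzo] at h
    exact congrArg (fun u : Subgroup.center r.toHomUnits.range => (((u : r.toHomUnits.range) :
      (End K U)ˣ) : End K U)) h
  have hzg : ∀ g, r g * r z = r z * r g := fun g =>
    congrArg (fun u : r.toHomUnits.range => ((u : (End K U)ˣ) : End K U))
      (Subgroup.mem_center_iff.1 hzc ⟨_, g, rfl⟩)
  have hUne : U ≠ ⊥ := by
    rintro rfl
    exact hz1 (LinearMap.ext fun w => Subsingleton.elim _ _)
  haveI : Nontrivial U := (Submodule.nontrivial_iff_ne_bot).2 hUne
  obtain ⟨c, hc⟩ := End.exists_eigenvalue (r z)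
  have hall : ∀ w : U, r z w = c • w := by
    by_contra hcon
    push Not at hcon
    obtain ⟨w, hw⟩ := hcon
    have hlt : ((r z).eigenspace c).map U.subtype < U := by
      refine lt_of_le_of_ne (Submodule.map_subtype_le _ _) fun h => hw ?_
      have : (w : Fin n → K) ∈ ((r z).eigenspace c).map U.subtype := h.symm ▸ w.2
      obtain ⟨w', hw', hww⟩ := this
      rw [show w = w' from Subtype.ext hww.symm]
      exact End.mem_eigenspace_iff.1 hw'
    obtain ⟨g, w', hw', hgw⟩ := hred _ hlt (fun h => hc (by
      rw [← Submodule.map_bot U.subtype] at h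
      exact Submodule.map_injective_of_injective U.injective_subtype h))
    obtain ⟨u, hu, rfl⟩ := hw'
    refine hgw ⟨r g u, ?_, rfl⟩
    rw [SetLike.mem_coe, End.mem_eigenspace_iff] at hu ⊢
    rw [← End.mul_apply, ← hzg, End.mul_apply, hu, map_smul]
  obtain ⟨w, hw⟩ := exists_ne (0 : U)
  have hcp : c ^ p = 1 := by
    have h1 : ∀ j : ℕ, (r z ^ j) w = c ^ j • w := fun j => by
      induction j with
      | zero => simp
      | succ j ih => rw [pow_succ, End.mul_apply, hall, map_smul, ih, smul_smul, pow_succ, mul_comm]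
    have h2 := h1 p
    rw [hzp, End.one_apply] at h2
    exact smul_left_injective K hw (h2.symm.trans (one_smul K w).symm)
  have hc1 : c ≠ 1 := fun h => hz1 (LinearMap.ext fun u => by rw [hall, h, one_smul]; rfl)
  have hco : orderOf c = p := orderOf_eq_prime hcp hc1
  set q := Fintype.card F
  have hdim : ∀ i, finrank K U ≤ finrank K ((closureRep P z).eigenspace (c ^ q ^ i)) := by
    intro i
    induction i with
    | zero =>
      rw [pow_zero, pow_one]
      refine Submodule.finrank_mono fun u hu => End.mem_eigenspace_iff.2 ?_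
      exact congrArg Subtype.val (hall ⟨u, hu⟩)
    | succ i ih =>
      rw [pow_succ, pow_mul, ← finrank_eigenspace_pow]
      exact ih
  have hinj : ∀ i < e, ∀ j < e, c ^ q ^ i = c ^ q ^ j → i = j := by
    intro i hi j hj h
    rw [(isOfFinOrder_iff_pow_eq_one.2 ⟨p, (Fact.out : p.Prime).pos, hcp⟩).pow_eq_pow_iff_modEq, hco, ← ZMod.natCast_eq_natCast_iff, Nat.cast_pow, Nat.cast_pow] at h
    exact pow_injOn_Iio_orderOf (show i ∈ Set.Iio _ from he ▸ hi) (show j ∈ Set.Iio _ from he ▸ hj) h
  have hle := mul_finrank_le_of_eigenvalues (closureRep P z) e (finrank K U) _ hinj (fun i _ => hdim i)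
  rw [finrank_fin_fun] at hle
  have hdn : finrank K U ≤ n / e := (Nat.le_div_iff_mul_le he0).2 (by rw [mul_comm]; exact hle)
  have := derivedSeries_le_ker_aux (n / e) ↥P hcard U r hdn hx
  exact congrArg Subtype.val (LinearMap.congr_fun this ⟨v, hv⟩)

/-- Let F be a field with q elements, p a prime not dividing q, and e the multiplicative order of q modulo p; assume e ≤ n. Then every p-subgroup of GL_n(F) has derived length at most ⌊log₂(n/e)⌋ + 1: that term of its derived series is trivial (n/e is the integer quotient). -/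
theorem result {F : Type*} [Field F] [Fintype F] (q : ℕ) (hF : Fintype.card F = q) (p : ℕ) [Fact p.Prime] (hpq : ¬ p ∣ q) (n e : ℕ) (he : e = orderOf (q : ZMod p)) (hen : e ≤ n) (P : Subgroup (GL (Fin n) F)) (hP : IsPGroup p P) : derivedSeries ↥P (Nat.log 2 (n / e) + 1) = ⊥ := by
  subst hF
  have h := derivedSeries_le_ker_closureRep hpq P hP e he
  rw [eq_bot_iff]
  intro x hx
  exact closureRep_injective P ((h hx).trans (map_one _).symm)

end Cfsg.Agent.S4417
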