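import Cfsg.Statements.S4419
import Cfsg.Agent.SmallRankAut.Basic
import Cfsg.Agent.Transfer.Frobenius
import Cfsg.Agent.FusionMetacyclic.Structure
import Cfsg.Agent.LocalEven50.Basic
import Cfsg.Agent.PLocal.Cores

set_option autoImplicit false
open Cfsg

namespace Cfsg.Agent.S4419

theorem metacyclic_of_injective {H S : Type*} [Group H] [Group S] (hS : Cfsg.IsMetacyclic S)
    (f : H →* S) (hf : Function.Injective f) : Cfsg.IsMetacyclic H := by
  obtain ⟨N, hN, hNc, hQc⟩ := hS
  refine ⟨N.comap f, inferInstance, ?_, ?_⟩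
  · exact isCyclic_of_injective ((f.comp (N.comap f).subtype).codRestrict N fun x => x.2)
      fun x y h => Subtype.ext (hf (congrArg Subtype.val h))
  · refine isCyclic_of_injective (QuotientGroup.map (N.comap f) N f le_rfl) ?_
    rw [injective_iff_map_eq_one]
    intro x
    induction x using QuotientGroup.induction_on with
    | H y => exact fun h => (QuotientGroup.eq_one_iff y).2 ((QuotientGroup.eq_one_iff (f y)).1 h)

theorem rank_le_two {H : Type*} [Group H] [Finite H] (hm : Cfsg.IsMetacyclic H) :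
    Group.rank H ≤ 2 := by
  classical
  obtain ⟨a, b, -, -, h⟩ := CfsgLib.FusionMetacyclic.exists_gens hm
  refine (Group.rank_le (S := {a, b}) ?_).trans ((Finset.card_insert_le _ _).trans (by simp))
  refine Subgroup.eq_top_iff' _ |>.2 fun x => ?_
  obtain ⟨i, j, rfl⟩ := h x
  refine mul_mem (zpow_mem (Subgroup.subset_closure ?_) i) (zpow_mem (Subgroup.subset_closure ?_) j)
    <;> simp

/-- Let p be a prime and G a finite group whose Sylow p-subgroups are metacyclic (a cyclic normal subgroup with cyclic quotient). Then G has a normal p-complement if and only if the order of G/O_{p′,p}(G) is coprime to p² − 1. -/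
theorem result {G : Type*} [Group G] [Finite G] (p : ℕ) [Fact p.Prime] (S : Sylow p G) (hS : Cfsg.IsMetacyclic ↥(S : Subgroup G)) : Cfsg.HasNormalPComplement p G ↔ Nat.Coprime (Nat.card (G ⧸ Cfsg.pPrimePCore p G)) (p ^ 2 - 1) := by
  have hp := (Fact.out : p.Prime)
  constructor
  · rintro ⟨P, N, hN, hc⟩
    have hNcop : (Nat.card N).Coprime p := by
      have h1 := P.not_dvd_index
      rw [hc.index_eq_card] at h1
      exact ((hp.coprime_iff_not_dvd).2 h1).symm
    have hle : N ≤ Cfsg.pPrimeCore p G := CfsgLib.LocalEven50.le_pPrimeCore hN hNcop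
    have hQ : IsPGroup p (G ⧸ Cfsg.pPrimeCore p G) := by
      obtain ⟨a, ha⟩ := P.2.exists_card_eq
      have h1 : (Cfsg.pPrimeCore p G).index ∣ p ^ a := by
        rw [← ha, ← hc.symm.index_eq_card]
        exact Subgroup.index_dvd_of_le hle
      obtain ⟨b, -, hb⟩ := (Nat.dvd_prime_pow hp).1 h1
      exact IsPGroup.of_card (n := b) (by rw [← Subgroup.index_eq_card, hb])
    have htop : Cfsg.pPrimePCore p G = ⊤ := by
      rw [Cfsg.pPrimePCore, eq_top_iff]
      intro x _
      have h2 : (⊤ : Subgroup (G ⧸ Cfsg.pPrimeCore p G)) ≤ Cfsg.pCore p (G ⧸ Cfsg.pPrimeCore p G) :=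
        CfsgLib.PLocal.le_pCore (hQ.to_subgroup ⊤)
      exact h2 (Subgroup.mem_top _)
    rw [show Nat.card (G ⧸ Cfsg.pPrimePCore p G) = 1 by
      rw [← Subgroup.index_eq_card, htop, Subgroup.index_top]]
    exact Nat.coprime_one_left _
  · intro hco
    refine CfsgLib.Transfer.hasNormalPComplement_of_local S fun Q hQS g hg hgp => ?_
    have hQp : IsPGroup p Q := S.isPGroup'.to_le hQS
    have hrk : Group.rank Q ≤ 2 :=
      rank_le_two (metacyclic_of_injective hS (Subgroup.inclusion hQS) (Subgroup.inclusion_injective hQS))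
    set C := Subgroup.zpowers g ⊓ Subgroup.centralizer (Q : Set G) with hC
    suffices h : orderOf g ∣ Nat.card C by
      have : C = Subgroup.zpowers g := Subgroup.eq_of_le_of_card_ge inf_le_left
        (by rw [Nat.card_zpowers]; exact Nat.le_of_dvd Nat.card_pos h)
      exact (this.symm ▸ Subgroup.mem_zpowers g : g ∈ C).2
    rw [← Nat.factorization_le_iff_dvd (orderOf_pos g).ne' Nat.card_pos.ne']
    intro q
    by_cases hq : q.Prime
    swap
    · rw [Nat.factorization_eq_zero_of_not_prime _ hq]; exact Nat.zero_le _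
    set v := (orderOf g).factorization q with hv
    rcases Nat.eq_zero_or_pos v with h0 | h0
    · rw [h0]; exact Nat.zero_le _
    have hqv : q ^ v ∣ orderOf g := Nat.ordProj_dvd _ q
    set y := g ^ (orderOf g / q ^ v) with hy
    have hyo : orderOf y = q ^ v := orderOf_pow_orderOf_div (orderOf_pos g).ne' hqv
    have hqp : q ≠ p := by
      rintro rfl
      exact hq.not_dvd_one (hgp ▸ Nat.dvd_gcd ((dvd_pow_self q h0.ne').trans hqv) dvd_rfl)
    have hyN : y ∈ Subgroup.normalizer (Q : Set G) := pow_mem hg _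
    have hyC : y ∈ Subgroup.centralizer (Q : Set G) := by
      by_cases hdiv : q ∣ Nat.card (G ⧸ Cfsg.pPrimePCore p G)
      · have hq2 : ¬ q ∣ p ^ 2 - 1 := fun h => hq.not_dvd_one (hco ▸ Nat.dvd_gcd hdiv h)
        refine CfsgLib.SmallRankAut.mem_centralizer_of_rank_le hQp hrk hyN ?_ fun i h1 h2 => ?_
        · rw [hyo]
          exact ((Nat.coprime_primes hq hp).2 hqp).pow_left v
        · rw [hyo]
          refine ((hq.coprime_iff_not_dvd).2 fun h => hq2 (h.trans ?_)).pow_left v
          interval_cases i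
          · rw [pow_one]; exact Nat.sub_one_dvd_pow_sub_one p 2
          · exact dvd_rfl
      · haveI : (Cfsg.pPrimePCore p G).Normal := by
          rw [Cfsg.pPrimePCore]; infer_instance
        have hyL : y ∈ Cfsg.pPrimePCore p G := by
          rw [← QuotientGroup.eq_one_iff, ← orderOf_eq_one_iff]
          refine Nat.eq_one_of_dvd_coprimes (((hq.coprime_iff_not_dvd).2 hdiv).pow_left v)
            (hyo ▸ orderOf_map_dvd (QuotientGroup.mk' (Cfsg.pPrimePCore p G)) y) (orderOf_dvd_natCard _)
        have hyK : y ∈ Cfsg.pPrimeCore p G := by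
          rw [← QuotientGroup.eq_one_iff, ← orderOf_eq_one_iff]
          obtain ⟨b, hb⟩ := IsPGroup.iff_orderOf.1 (CfsgLib.PLocal.isPGroup_pCore p (G ⧸ Cfsg.pPrimeCore p G))
            ⟨_, hyL⟩
          rw [← Subgroup.orderOf_coe] at hb
          refine Nat.eq_one_of_dvd_coprimes (((Nat.coprime_primes hq hp).2 hqp).pow v b)
            (hyo ▸ orderOf_map_dvd (QuotientGroup.mk' (Cfsg.pPrimeCore p G)) y) ?_
          rw [← hb]
          rfl
        intro x hx
        have h1 : x * y * x⁻¹ * y⁻¹ ∈ Q := by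
          rw [mul_assoc, mul_assoc]
          exact mul_mem hx (by simpa [mul_assoc] using
            (Subgroup.mem_normalizer_iff.1 hyN x⁻¹).1 (inv_mem hx))
        have h2 : x * y * x⁻¹ * y⁻¹ ∈ Cfsg.pPrimeCore p G :=
          mul_mem ((inferInstance : (Cfsg.pPrimeCore p G).Normal).conj_mem y hyK x) (inv_mem hyK)
        have h3 : x * y * x⁻¹ * y⁻¹ = 1 := by
          obtain ⟨b, hb⟩ := IsPGroup.iff_orderOf.1 hQp ⟨_, h1⟩
          rw [Subgroup.orderOf_mk] at hb
          rw [← orderOf_eq_one_iff]
          refine Nat.eq_one_of_dvd_coprimes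
            ((CfsgLib.LocalEven50.pPrimeCore_coprime (G := G) p).pow_right b) ?_ (dvd_of_eq hb)
          have := orderOf_dvd_natCard (⟨_, h2⟩ : Cfsg.pPrimeCore p G)
          rwa [Subgroup.orderOf_mk] at this
        simpa [mul_inv_eq_iff_eq_mul] using h3
    have hyCc : y ∈ C := ⟨pow_mem (Subgroup.mem_zpowers g) _, hyC⟩
    have h4 := orderOf_dvd_natCard (⟨y, hyCc⟩ : C)
    rw [Subgroup.orderOf_mk, hyo] at h4
    exact (hq.pow_dvd_iff_le_factorization Nat.card_pos.ne').1 h4

end Cfsg.Agent.S4419
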