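import Cfsg.Statements.S4421
-- import your own Cfsg.Agent.* helpers here

set_option autoImplicit false
open Cfsg

namespace Cfsg.Agent.S4421

/-- A factorization of a normalizer from two-step control of fusion. Let `G` be a finite group and `A ≤ S ≤ H` subgroups of `G` such that: (i) `S` controls the `G`-fusion of `A` in the sense that every `G`-conjugate of `A` lying in `S` is an `S`-conjugate of `A`; (ii) `H` controls the `G`-fusion of `S` in the same sense; (iii) every conjugate of `S` by an element of the normalizer of `A` lies in `H`. Then `N_G(A) = N_H(A) · (N_G(S) ∩ N_G(A))`: every element of the normalizer of `A` is a product of an element of `H` normalizing `A` and an element normalizing both `S` and `A`. -/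
theorem result {G : Type*} [Group G] [Finite G] (A S H : Subgroup G)
    (hAS : A ≤ S) (hSH : S ≤ H)
    (h1 : ∀ g : G, A.map (MulAut.conj g).toMonoidHom ≤ S → ∃ s ∈ S, A.map (MulAut.conj g).toMonoidHom = A.map (MulAut.conj s).toMonoidHom)
    (h2 : ∀ g : G, S.map (MulAut.conj g).toMonoidHom ≤ H → ∃ y ∈ H, S.map (MulAut.conj g).toMonoidHom = S.map (MulAut.conj y).toMonoidHom)
    (h3 : ∀ x ∈ Subgroup.normalizer (A : Set G), S.map (MulAut.conj x).toMonoidHom ≤ H) :
    ∀ x ∈ Subgroup.normalizer (A : Set G), ∃ y ∈ H ⊓ Subgroup.normalizer (A : Set G),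
      ∃ z ∈ Subgroup.normalizer (S : Set G) ⊓ Subgroup.normalizer (A : Set G), x = y * z := by
  intro x hx
  obtain ⟨y, hy, hxy⟩ := h2 x (h3 x hx)
  have hxA : A.map (MulAut.conj x).toMonoidHom = A := by
    ext a
    simp only [Subgroup.mem_map, MulEquiv.coe_toMonoidHom, MulAut.conj_apply]
    constructor
    · rintro ⟨b, hb, rfl⟩
      exact (Subgroup.mem_normalizer_iff.1 hx b).1 hb
    · intro ha
      refine ⟨x⁻¹ * a * x, ?_, by group⟩
      exact (Subgroup.mem_normalizer_iff.1 hx _).2 (by simpa [mul_assoc] using ha)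
  have hcomp : ∀ (g k : G) (K : Subgroup G),
      K.map (MulAut.conj (g * k)).toMonoidHom =
        (K.map (MulAut.conj k).toMonoidHom).map (MulAut.conj g).toMonoidHom := by
    intro g k K
    rw [Subgroup.map_map]
    congr 1
    ext z
    simp [mul_assoc]
  have hS : S.map (MulAut.conj (y⁻¹ * x)).toMonoidHom = S := by
    rw [hcomp, hxy, ← hcomp]
    simp only [inv_mul_cancel, map_one]
    exact Subgroup.map_id _
  have hle : A.map (MulAut.conj (y⁻¹ * x)).toMonoidHom ≤ S :=
    (Subgroup.map_mono hAS).trans_eq hS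
  obtain ⟨s, hs, hAs⟩ := h1 _ hle
  have hz : A.map (MulAut.conj (s⁻¹ * (y⁻¹ * x))).toMonoidHom = A := by
    rw [hcomp, hAs, ← hcomp]
    simp only [inv_mul_cancel, map_one]
    exact Subgroup.map_id _
  have hnorm : ∀ (K : Subgroup G) (g : G), K.map (MulAut.conj g).toMonoidHom = K →
      g ∈ Subgroup.normalizer (K : Set G) := by
    intro K g hg
    rw [Subgroup.mem_normalizer_iff]
    intro k
    constructor
    · intro hk
      have h' : (MulAut.conj g).toMonoidHom k ∈ K.map (MulAut.conj g).toMonoidHom :=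
        Subgroup.mem_map_of_mem _ hk
      rw [hg] at h'
      simpa using h'
    · intro hk
      rw [← hg] at hk
      obtain ⟨l, hl, hlk⟩ := hk
      simp only [MulEquiv.coe_toMonoidHom, MulAut.conj_apply, mul_left_inj, mul_right_inj] at hlk
      exact hlk ▸ hl
  have hzA := hnorm A _ hz
  have hzS : s⁻¹ * (y⁻¹ * x) ∈ Subgroup.normalizer (S : Set G) :=
    mul_mem (Subgroup.inv_mem _ (Subgroup.le_normalizer hs)) (hnorm S _ hS)
  refine ⟨y * s, ⟨mul_mem hy (hSH hs), ?_⟩, s⁻¹ * (y⁻¹ * x), ⟨hzS, hzA⟩, by group⟩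
  have : y * s = x * (s⁻¹ * (y⁻¹ * x))⁻¹ := by group
  rw [this]
  exact Subgroup.mul_mem _ hx (Subgroup.inv_mem _ hzA)

end Cfsg.Agent.S4421
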