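import Cfsg.Statements.S4422
-- import your own Cfsg.Agent.* helpers here

set_option autoImplicit false
open Cfsg

namespace Cfsg.Agent.S4422

theorem prime_factor {q e r : ℕ} (hq : 2 ≤ q) (he : 1 ≤ e) (hr : r.Prime) (hd : r ∣ q ^ e - 1)
    (hcop : ∀ i : ℕ, 1 ≤ i → i < e → ¬ r ∣ q ^ i - 1) : r % e = 1 % e := by
  haveI := Fact.mk hr
  have hpow : ∀ i, r ∣ q ^ i - 1 ↔ (q : ZMod r) ^ i = 1 := by
    intro i
    rw [← ZMod.natCast_eq_zero_iff, Nat.cast_sub (Nat.one_le_pow _ _ (by omega))]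
    simp [sub_eq_zero]
  have h1 : (q : ZMod r) ^ e = 1 := (hpow e).1 hd
  have hord : orderOf (q : ZMod r) = e := by
    rw [orderOf_eq_iff (by omega)]
    exact ⟨h1, fun i hi hi0 h => hcop i hi0 hi ((hpow i).2 h)⟩
  have hne : (q : ZMod r) ≠ 0 := by
    intro h0
    rw [h0, zero_pow (by omega)] at h1
    exact zero_ne_one h1
  have hdv : e ∣ r - 1 := hord ▸ orderOf_dvd_of_pow_eq_one (ZMod.pow_card_sub_one_eq_one hne)
  exact ((Nat.modEq_iff_dvd' hr.one_lt.le).2 hdv).symm

/-- Primitive divisors of `q^e - 1` are congruent to 1 modulo `e`. Let `q ≥ 2` and `e ≥ 1` be natural numbers and let `m` be a divisor of `q^e - 1` that is coprime to `q^i - 1` for every `1 ≤ i < e` (so `m` divides the primitive part of `q^e - 1`, the largest such divisor). Then `m ≡ 1 (mod e)`. -/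
theorem result (q e m : ℕ) (hq : 2 ≤ q) (he : 1 ≤ e)
    (hm : m ∣ q ^ e - 1) (hcop : ∀ i : ℕ, 1 ≤ i → i < e → Nat.Coprime m (q ^ i - 1)) :
    m % e = 1 % e := by
  induction m using Nat.strong_induction_on with
  | _ m ih =>
    rcases eq_or_ne m 1 with rfl | hm1
    · rfl
    have hq0 : 0 < q ^ e - 1 := by
      have := Nat.one_lt_pow (show e ≠ 0 by omega) hq
      omega
    have hm0 : 0 < m := Nat.pos_of_dvd_of_pos hm hq0
    have hr := Nat.minFac_prime hm1
    obtain ⟨m', hm'⟩ := Nat.minFac_dvd m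
    have hd' : m' ∣ m := ⟨m.minFac, by rw [mul_comm]; exact hm'⟩
    have hlt : m' < m := by
      rcases Nat.eq_zero_or_pos m' with h | h
      · omega
      · have := hr.two_le
        nlinarith
    have hr' := prime_factor hq he hr ((Nat.minFac_dvd m).trans hm)
      (fun i h1 h2 h => hr.ne_one (Nat.eq_one_of_dvd_coprimes (hcop i h1 h2) (Nat.minFac_dvd m) h))
    have hm'' := ih m' hlt (hd'.trans hm) (fun i h1 h2 => (hcop i h1 h2).coprime_dvd_left hd')
    rw [hm', Nat.mul_mod, hr', hm'']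
    simp [← Nat.mul_mod]

end Cfsg.Agent.S4422
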