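import Cfsg.Statements.S4425
import Cfsg.Agent.BlockDegrees.RegularGen
import Cfsg.Agent.PRational.Basic

set_option autoImplicit false
set_option linter.style.haveILetI false
open Cfsg
open scoped ComplexConjugate

namespace Cfsg.Agent.S4425

/-- Let χ be an irreducible character of the finite group G, p a prime, p^a the p-part of the order of G and p^b the p-part of the degree χ(1). Let χ̃ be the class function equal to p^a · χ on p-regular elements and zero on p-singular elements. Then p^(−b) · χ̃ is a generalized character of G, while p^(−(b+1)) · χ̃ is not. -/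
theorem result {G : Type*} [Group G] [Finite G] (p : ℕ) [Fact p.Prime] (χ : Cfsg.IrrCharacter G) : Cfsg.IsGeneralizedCharacter G (fun x : G => if p ∣ orderOf x then (0 : ℂ) else ((p ^ ((Nat.card G).factorization p - (Cfsg.charDegree (χ : G → ℂ)).factorization p) : ℕ) : ℂ) * (χ : G → ℂ) x) ∧ ¬ Cfsg.IsGeneralizedCharacter G (fun x : G => if p ∣ orderOf x then (0 : ℂ) else ((p ^ (Nat.card G).factorization p : ℕ) : ℂ) / ((p ^ ((Cfsg.charDegree (χ : G → ℂ)).factorization p + 1) : ℕ) : ℂ) * (χ : G → ℂ) x) := by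
  classical
  haveI := Fintype.ofFinite G
  have hp : p.Prime := Fact.out
  set a := (Nat.card G).factorization p with ha
  set d := Cfsg.charDegree (χ : G → ℂ) with hd
  set b := d.factorization p with hb
  have hba : b ≤ a := CfsgLib.Blocks.charDegree_factorization_le χ
  have hp0 : (p : ℂ) ≠ 0 := Nat.cast_ne_zero.2 hp.ne_zero
  have hd' : p ^ b * (d / p ^ b) = d := Nat.ordProj_mul_ordCompl_eq_self d p
  have hn' : p ^ a * (Nat.card G / p ^ a) = Nat.card G := Nat.ordProj_mul_ordCompl_eq_self _ p
  have hgen := CfsgLib.BlockDegrees.isGen_regular hp (CfsgLib.Characters.isGen_of_isIrr χ.2)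
  constructor
  · refine CfsgLib.Characters.isGen_of_classInner (fun g h => ?_) fun ξ => ?_
    · simp only [show h * g * h⁻¹ = MulAut.conj h g from rfl, MulEquiv.orderOf_eq]
      rw [show MulAut.conj h g = h * g * h⁻¹ from rfl,
        CfsgLib.Characters.isClassFunction_of_isIrr χ.2]
    set f := fun x : G => if p ∣ orderOf x then (0 : ℂ) else
      ((p ^ (a - b) : ℕ) : ℂ) * (χ : G → ℂ) x with hf
    set w := Cfsg.classInner f (ξ : G → ℂ) with hw
    obtain ⟨z, hz⟩ := CfsgLib.Characters.classInner_gen hgen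
      (CfsgLib.Characters.isGen_of_isIrr ξ.2)
    have h1 : ((p ^ b : ℕ) : ℂ) * w = (z : ℂ) := by
      rw [← hz, hw, hf, CfsgLib.BlockDegrees.classInner_regular,
        CfsgLib.BlockDegrees.classInner_regular]
      rw [show p ^ (Nat.card G).factorization p = p ^ (a - b) * p ^ b by
          rw [← pow_add, Nat.sub_add_cancel hba]]
      push_cast
      ring
    -- exchanging the two characters exhibits an algebraic integer
    set w' := CfsgLib.Blocks.omega χ (CfsgLib.Blocks.toC (⊥ : Ideal Cfsg.AlgInt)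
      (CfsgLib.BlockDegrees.regElt ⊥ p ξ)) with hw'
    have hint : IsIntegral ℤ w' := CfsgLib.BlockDegrees.isIntegral_omega_regElt ξ χ
    have h2 : ((Nat.card G / p ^ a : ℕ) : ℂ) * w = ((d / p ^ b : ℕ) : ℂ) * w' := by
      rw [hw, hf, CfsgLib.BlockDegrees.classInner_regular, CfsgLib.BlockDegrees.regPair_symm,
        ← CfsgLib.BlockDegrees.omega_regElt (M := (⊥ : Ideal Cfsg.AlgInt)) ξ χ, ← hw',
        ← CfsgLib.Blocks.charDegree_cast χ, ← hd]
      conv_lhs => rw [← hd']; enter [2, 1]; rw [← hn']
      have hA : ((Nat.card G / p ^ a : ℕ) : ℂ) ≠ 0 := Nat.cast_ne_zero.2 fun h0 =>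
        Nat.not_dvd_ordCompl hp (Nat.card_pos (α := G)).ne' (by rw [← ha, h0]; exact dvd_zero p)
      have e : (p : ℂ) ^ (a - b) * (p : ℂ) ^ b = (p : ℂ) ^ a := by
        rw [← pow_add, Nat.sub_add_cancel hba]
      push_cast
      field_simp
      linear_combination ((d / p ^ b : ℕ) : ℂ) * w' * e
    obtain ⟨u, v, huv⟩ : IsCoprime ((p ^ b : ℕ) : ℤ) ((Nat.card G / p ^ a : ℕ) : ℤ) :=
      Nat.isCoprime_iff_coprime.2
        ((Nat.coprime_ordCompl hp (Nat.card_pos (α := G)).ne').pow_left b)
    have e1 : w = (u : ℂ) * z + (v : ℂ) * (((d / p ^ b : ℕ) : ℂ) * w') := by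
      rw [← h1, ← h2]
      have := congrArg (fun k : ℤ => (k : ℂ)) huv
      simp only [Int.cast_add, Int.cast_mul, Int.cast_natCast, Int.cast_one] at this
      linear_combination (-w) * this
    have hwint : IsIntegral ℤ w := by
      rw [e1]
      exact ((isIntegral_algebraMap (x := u)).mul (isIntegral_algebraMap (x := z))).add
        (isIntegral_algebraMap (x := v) |>.mul
          ((map_natCast (algebraMap ℤ ℂ) (d / p ^ b) ▸ isIntegral_algebraMap).mul hint))
    exact CfsgLib.PRational.exists_int_of_isIntegral_of_mul hwint (pow_ne_zero _ hp.ne_zero) h1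
  · intro hcon
    obtain ⟨P⟩ : Nonempty (Sylow p G) := inferInstance
    haveI := Fintype.ofFinite (P : Subgroup G)
    obtain ⟨z, hz⟩ := CfsgLib.Characters.classInner_gen
      (CfsgLib.Characters.isGen_restrict (P : Subgroup G) hcon) CfsgLib.Characters.isGen_one
    rw [Cfsg.classInner, Finset.sum_eq_single 1] at hz
    · rw [P.card_eq_multiplicity, Subgroup.coe_one, orderOf_one,
        if_neg (fun h => hp.not_dvd_one h), map_one, mul_one, ← ha,
        ← CfsgLib.Blocks.charDegree_cast χ, ← hd] at hz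
      have hc : ((d / p ^ b : ℕ) : ℂ) = (((p : ℤ) * z : ℤ) : ℂ) := by
        push_cast
        rw [← hz]
        conv_rhs => rw [← hd']
        push_cast [pow_succ]
        field_simp
      refine Nat.not_dvd_ordCompl hp (CfsgLib.Blocks.charDegree_ne_zero χ) ?_
      rw [← hd, ← hb]
      refine Int.natCast_dvd_natCast.1 ⟨z, Int.cast_injective (α := ℂ) ?_⟩
      rwa [Int.cast_natCast]
    · intro g _ hg
      rw [if_pos, zero_mul]
      obtain ⟨k, hk⟩ := IsPGroup.iff_orderOf.1 P.isPGroup' g
      rw [Subgroup.orderOf_coe, hk]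
      exact dvd_pow_self p fun h => hg (orderOf_eq_one_iff.1 (by rw [hk, h, pow_zero]))
    · simp

end Cfsg.Agent.S4425
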