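import Cfsg.Statements.S4426
import Cfsg.Agent.BlockDegrees.RegularGen

set_option autoImplicit false
set_option linter.style.haveILetI false
open Cfsg
open scoped ComplexConjugate

namespace Cfsg.Agent.S4426

/-- Let χ be an irreducible character in the p-block B of the finite group G (relative to a maximal ideal M of the algebraic integers containing p), let p^a be the p-part of the order of G, and let χ̃ be the class function equal to p^a · χ on p-regular elements and zero elsewhere. For ξ ∈ B the inner product [χ̃, ξ] is an integer. The following are equivalent: (a) χ has height zero in B; (b) for some ξ ∈ B the integer [χ̃, ξ] is nonzero and the exact power of p dividing it equals the exact power of p dividing ξ(1); (c) the same holds for every ξ ∈ B. -/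
theorem result {G : Type*} [Group G] [Fintype G] (p : ℕ) [Fact p.Prime] (M : Ideal Cfsg.AlgInt) (hM : Cfsg.IsPModular p M) (B : Set (Cfsg.IrrCharacter G)) (hB : Cfsg.IsPBlock M B) (χ : Cfsg.IrrCharacter G) (hχ : χ ∈ B) : (Cfsg.blockHeight p B (χ : G → ℂ) = 0 ↔ ∃ ξ ∈ B, ∃ n : ℤ, Cfsg.classInner (fun x : G => if p ∣ orderOf x then (0 : ℂ) else ((p ^ (Nat.card G).factorization p : ℕ) : ℂ) * (χ : G → ℂ) x) (ξ : G → ℂ) = (n : ℂ) ∧ n ≠ 0 ∧ padicValInt p n = (Cfsg.charDegree (ξ : G → ℂ)).factorization p) ∧ (Cfsg.blockHeight p B (χ : G → ℂ) = 0 ↔ ∀ ξ ∈ B, ∃ n : ℤ, Cfsg.classInner (fun x : G => if p ∣ orderOf x then (0 : ℂ) else ((p ^ (Nat.card G).factorization p : ℕ) : ℂ) * (χ : G → ℂ) x) (ξ : G → ℂ) = (n : ℂ) ∧ n ≠ 0 ∧ padicValInt p n = (Cfsg.charDegree (ξ : G → ℂ)).factorization p) := by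
  classical
  haveI := CfsgLib.Blocks.IsPModular.isPrime hM
  have hp : p.Prime := Fact.out
  set c : ℂ := ((p ^ (Nat.card G).factorization p : ℕ) : ℂ) with hc
  set S := CfsgLib.Blocks.omegaBar M χ (CfsgLib.Blocks.redCtr M
    (CfsgLib.BlockDegrees.regElt M p χ)) ≠ 0 with hS
  have key : ∀ ξ ∈ B, (∃ n : ℤ, Cfsg.classInner (fun x : G => if p ∣ orderOf x then (0 : ℂ)
      else c * (χ : G → ℂ) x) (ξ : G → ℂ) = (n : ℂ) ∧ n ≠ 0 ∧
      padicValInt p n = (Cfsg.charDegree (ξ : G → ℂ)).factorization p) ↔ S := by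
    intro ξ hξ
    obtain ⟨n, hn⟩ := CfsgLib.Characters.classInner_gen
      (CfsgLib.BlockDegrees.isGen_regular (G := G) hp (CfsgLib.Characters.isGen_of_isIrr χ.2))
      (CfsgLib.Characters.isGen_of_isIrr ξ.2)
    rw [← hc] at hn
    set r := (n : ℂ) / (Cfsg.charDegree (ξ : G → ℂ) : ℂ) with hr
    have hd : (Cfsg.charDegree (ξ : G → ℂ) : ℂ) ≠ 0 :=
      Nat.cast_ne_zero.2 (CfsgLib.Blocks.charDegree_ne_zero ξ)
    have hrS : S ↔ ¬ Cfsg.MemLocalIdeal M r := by
      rw [hS, show CfsgLib.Blocks.omegaBar M χ = CfsgLib.Blocks.omegaBar M ξ from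
        (CfsgLib.Blocks.sameBlock_iff χ ξ).1 (by
          rw [CfsgLib.Blocks.eq_blockOf_of_mem hB hχ] at hξ; exact hξ),
        CfsgLib.Blocks.omegaBar_redCtr, ne_eq, CfsgLib.Blocks.red_eq_zero_iff,
        CfsgLib.Blocks.coe_omegaO]
      set q := Nat.card G / p ^ (Nat.card G).factorization p with hq
      have hm : ¬ p ∣ q := Nat.not_dvd_ordCompl hp (Nat.card_pos (α := G)).ne'
      have hq0 : (q : ℂ) ≠ 0 := Nat.cast_ne_zero.2 fun h0 => hm (by rw [h0]; exact dvd_zero p)
      have hcard : (Nat.card G : ℂ) = c * (q : ℂ) := by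
        rw [hc, hq, ← Nat.cast_mul, Nat.ordProj_mul_ordCompl_eq_self]
      have hc0 : c ≠ 0 := Nat.cast_ne_zero.2 (pow_ne_zero _ hp.ne_zero)
      have e : (q : ℂ) * r =
          CfsgLib.Blocks.omega ξ (CfsgLib.Blocks.toC M (CfsgLib.BlockDegrees.regElt M p χ)) := by
        rw [hr, ← hn, CfsgLib.BlockDegrees.classInner_regular_eq (M := M),
          CfsgLib.Blocks.charDegree_cast, hcard]
        field_simp [CfsgLib.Characters.irr_one_ne_zero ξ.2]
      rw [← e]
      refine not_congr ⟨fun h => ?_, fun h => CfsgLib.Blocks.memLocalIdeal_mul_left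
        (CfsgLib.Blocks.memLocalRing_natCast q) h⟩
      have := CfsgLib.Blocks.memLocalIdeal_mul_left
        (CfsgLib.Blocks.memLocalRing_natCast_inv hM hm) h
      rwa [inv_mul_cancel_left₀ hq0] at this
    rw [hrS]
    have habs : Cfsg.MemLocalIdeal M r ↔
        Cfsg.MemLocalIdeal M ((n.natAbs : ℂ) / (Cfsg.charDegree (ξ : G → ℂ) : ℂ)) := by
      have h1 : Cfsg.MemLocalRing M (-1 : ℂ) :=
        Subring.neg_mem _ (Subring.one_mem (CfsgLib.Blocks.localRing M))
      rcases Int.natAbs_eq n with h | h <;> rw [hr]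
      · conv_lhs => rw [h]
        rw [Int.cast_natCast]
      · conv_lhs => rw [h]
        rw [Int.cast_neg, Int.cast_natCast, neg_div]
        exact ⟨fun h2 => by simpa using CfsgLib.Blocks.memLocalIdeal_mul_left h1 h2,
          fun h2 => by simpa using CfsgLib.Blocks.memLocalIdeal_mul_left h1 h2⟩
    have hring : Cfsg.MemLocalRing M r := by
      have h := (CfsgLib.Blocks.omegaO M ξ (CfsgLib.BlockDegrees.regElt M p χ)).2
      set q := Nat.card G / p ^ (Nat.card G).factorization p with hq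
      have hm : ¬ p ∣ q := Nat.not_dvd_ordCompl hp (Nat.card_pos (α := G)).ne'
      have hq0 : (q : ℂ) ≠ 0 := Nat.cast_ne_zero.2 fun h0 => hm (by rw [h0]; exact dvd_zero p)
      have hcard : (Nat.card G : ℂ) = c * (q : ℂ) := by
        rw [hc, hq, ← Nat.cast_mul, Nat.ordProj_mul_ordCompl_eq_self]
      have hc0 : c ≠ 0 := Nat.cast_ne_zero.2 (pow_ne_zero _ hp.ne_zero)
      have e : r = (q : ℂ)⁻¹ * CfsgLib.Blocks.omega ξ (CfsgLib.Blocks.toC M
          (CfsgLib.BlockDegrees.regElt M p χ)) := by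
        rw [hr, ← hn, CfsgLib.BlockDegrees.classInner_regular_eq (M := M),
          CfsgLib.Blocks.charDegree_cast, hcard]
        field_simp [CfsgLib.Characters.irr_one_ne_zero ξ.2]
      rw [CfsgLib.Blocks.coe_omegaO] at h
      rw [e]
      exact Subring.mul_mem (CfsgLib.Blocks.localRing M)
        (CfsgLib.Blocks.memLocalRing_natCast_inv hM hm) h
    have habs2 : Cfsg.MemLocalRing M
        ((n.natAbs : ℂ) / (Cfsg.charDegree (ξ : G → ℂ) : ℂ)) := by
      rcases Int.natAbs_eq n with h | h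
      · rw [hr, h, Int.cast_natCast] at hring; exact hring
      · rw [hr, h, Int.cast_neg, Int.cast_natCast, neg_div] at hring
        have h2 := Subring.neg_mem (CfsgLib.Blocks.localRing M) hring
        rw [neg_neg] at h2
        exact h2
    constructor
    · rintro ⟨n', hn', hn0, hv⟩
      rw [hn, Int.cast_inj] at hn'
      subst hn'
      rw [habs]
      intro hI
      rw [padicValInt, ← Nat.factorization_def _ hp] at hv
      have h1 := CfsgLib.Blocks.memLocalRing_div_of_eq hM (n := Cfsg.charDegree (ξ : G → ℂ))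
        (m := n.natAbs) (Int.natAbs_ne_zero.2 hn0) hv.le
      have h2 := CfsgLib.Blocks.memLocalIdeal_mul_left h1 hI
      rw [div_mul_div_cancel₀ (Nat.cast_ne_zero.2 (Int.natAbs_ne_zero.2 hn0)), div_self hd] at h2
      exact CfsgLib.Blocks.not_memLocalIdeal_one h2
    · intro hI
      rw [habs] at hI
      have hn0 : n ≠ 0 := by
        rintro rfl
        refine hI ?_
        simpa using CfsgLib.Blocks.memLocalIdeal_zero (M := M)
      refine ⟨n, hn, hn0, ?_⟩
      rw [padicValInt, ← Nat.factorization_def _ hp]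
      refine le_antisymm (not_lt.1 fun hlt => hI ?_)
        (CfsgLib.Blocks.factorization_le_of_div_mem hM (Int.natAbs_ne_zero.2 hn0)
          (CfsgLib.Blocks.charDegree_ne_zero ξ) habs2)
      have := CfsgLib.Blocks.memLocalIdeal_mul_div_of_lt hM (CfsgLib.Blocks.charDegree_ne_zero ξ)
        hlt (z := 1) (Subring.one_mem (CfsgLib.Blocks.localRing M))
      rwa [mul_one] at this
  have main : Cfsg.blockHeight p B (χ : G → ℂ) = 0 ↔ S := by
    refine ⟨fun h => CfsgLib.BlockDegrees.omegaBar_regElt_ne_zero hM hB hχ h, fun h => ?_⟩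
    by_contra h0
    obtain ⟨φ, hφ, hφmin⟩ : sInf ((fun ψ : Cfsg.IrrCharacter G =>
        (Cfsg.charDegree (ψ : G → ℂ)).factorization p) '' B) ∈ _ :=
      Nat.sInf_mem ⟨_, χ, hχ, rfl⟩
    have hlt : (Cfsg.charDegree (φ : G → ℂ)).factorization p <
        (Cfsg.charDegree (χ : G → ℂ)).factorization p := by
      rw [Cfsg.blockHeight] at h0
      simp only at hφmin
      omega
    refine h ?_
    rw [show CfsgLib.Blocks.omegaBar M χ = CfsgLib.Blocks.omegaBar M φ from
      (CfsgLib.Blocks.sameBlock_iff χ φ).1 (by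
        rw [CfsgLib.Blocks.eq_blockOf_of_mem hB hχ] at hφ; exact hφ),
      CfsgLib.Blocks.omegaBar_redCtr, CfsgLib.Blocks.red_eq_zero_iff, CfsgLib.Blocks.coe_omegaO]
    have hI := CfsgLib.Blocks.memLocalIdeal_mul_div_of_lt hM (CfsgLib.Blocks.charDegree_ne_zero φ)
      hlt (CfsgLib.Blocks.omega_toC_mem χ (CfsgLib.BlockDegrees.regElt M p φ))
    convert hI using 1
    rw [CfsgLib.Blocks.charDegree_cast, CfsgLib.Blocks.charDegree_cast,
      eq_div_iff (CfsgLib.Characters.irr_one_ne_zero φ.2), CfsgLib.BlockDegrees.omega_regElt,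
      mul_comm ((χ : G → ℂ) 1), CfsgLib.BlockDegrees.omega_regElt,
      CfsgLib.BlockDegrees.regPair_symm]
  refine ⟨main.trans ⟨fun h => ⟨χ, hχ, (key χ hχ).2 h⟩, fun ⟨ξ, hξ, h⟩ => (key ξ hξ).1 h⟩,
    main.trans ⟨fun h ξ hξ => (key ξ hξ).2 h, fun h => (key χ hχ).1 (h χ hχ)⟩⟩

end Cfsg.Agent.S4426
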