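import Cfsg.Statements.S4428
import Cfsg.Agent.BlockDegrees.Regular
import Cfsg.Agent.BlockDegrees.InducedPart

set_option autoImplicit false
set_option linter.style.haveILetI false
open Cfsg
open scoped ComplexConjugate

namespace Cfsg.Agent.S4428

open CfsgLib CfsgLib.Blocks CfsgLib.BlockDegrees in
theorem regPair_sum {K ι : Type*} [Group K] [Fintype K] [Fintype ι] (p : ℕ) (a : ι → ℂ)
    (f : ι → K → ℂ) (ξ : K → ℂ) :
    regPair p (fun g => ∑ i, a i * f i g) ξ = ∑ i, a i * regPair p (f i) ξ := by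
  simp only [regPair, Finset.mul_sum]
  rw [Finset.sum_comm (f := fun i c => a i * _)]
  refine Finset.sum_congr rfl fun c _ => ?_
  by_cases hc : p ∣ orderOf c
  · simp [hc]
  · simp only [if_neg hc, Finset.sum_mul, mul_assoc]

open CfsgLib CfsgLib.Blocks CfsgLib.BlockDegrees in
/-- The pairing on p-regular elements only sees the block part of a class function. -/
theorem regPair_eq_zero_of_blockPart {K : Type*} [Group K] [Fintype K] {M : Ideal Cfsg.AlgInt}
    [M.IsPrime] {p : ℕ} (hM : Cfsg.IsPModular p M) {b : Set (Cfsg.IrrCharacter K)}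
    (hb : IsBlockUnion M b) {θ : K → ℂ} (hθ : Cfsg.IsClassFunction K θ)
    (h : ∀ y : K, ¬ p ∣ orderOf y → Cfsg.blockPart b θ y = 0) {ψ : Cfsg.IrrCharacter K}
    (hψ : ψ ∈ b) : regPair p θ (ψ : K → ℂ) = 0 := by
  classical
  have e : θ = fun g => ∑ η : Cfsg.IrrCharacter K,
      Cfsg.classInner θ (η : K → ℂ) * (η : K → ℂ) g :=
    funext fun g => by
      conv_lhs => rw [Characters.classFunction_expansion hθ]
      simp
  have e2 : regPair p (fun g => ∑ η : Cfsg.IrrCharacter K,
      (if η ∈ b then Cfsg.classInner θ (η : K → ℂ) else 0) * (η : K → ℂ) g) (ψ : K → ℂ) = 0 := by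
    refine Finset.sum_eq_zero fun c _ => ?_
    by_cases hc : p ∣ orderOf c
    · simp [hc]
    · have := h c hc
      rw [blockPart_apply] at this
      simp only [ite_mul, zero_mul]
      simp [hc, this]
  rw [regPair_sum] at e2
  rw [e, regPair_sum, ← e2]
  refine Finset.sum_congr rfl fun η _ => ?_
  split_ifs with hη
  · rfl
  · rw [zero_mul, regPair_symm, regPair_eq_zero hM hb hψ hη, mul_zero]

/-- Let χ be an irreducible character of height zero in the p-block B of the finite group G (relative to a maximal ideal M of the algebraic integers containing p). Let x be a p-element of G with centralizer C, and let b be a block of C that induces B. Form the class function ϑ(c) = χ(x c) on C and its b-part (the sum over ψ ∈ b of the inner product of ϑ with ψ, times ψ). Then the b-part of ϑ does not vanish identically on the p-regular elements of C. (Compare the second main Theorem, which gives vanishing when b does not induce B.) -/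
theorem result {G : Type*} [Group G] [Finite G] (p : ℕ) [Fact p.Prime] (M : Ideal Cfsg.AlgInt) (hM : Cfsg.IsPModular p M) (B : Set (Cfsg.IrrCharacter G)) (hB : Cfsg.IsPBlock M B) (χ : Cfsg.IrrCharacter G) (hχ : χ ∈ B) (h0 : Cfsg.blockHeight p B (χ : G → ℂ) = 0) (x : G) (hx : ∃ k : ℕ, orderOf x = p ^ k) (b : Set (Cfsg.IrrCharacter (Subgroup.centralizer ({x} : Set G)))) (hb : Cfsg.IsInducedBlock M (Subgroup.centralizer ({x} : Set G)) b B) : ∃ y : Subgroup.centralizer ({x} : Set G), ¬ p ∣ orderOf y ∧ Cfsg.blockPart b (fun c : Subgroup.centralizer ({x} : Set G) => (χ : G → ℂ) (x * (c : G))) y ≠ 0 := by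
  classical
  haveI := CfsgLib.Blocks.IsPModular.isPrime hM
  haveI := Fintype.ofFinite G
  haveI := Fintype.ofFinite (Subgroup.centralizer ({x} : Set G))
  obtain ⟨k, hk⟩ := hx
  by_contra hne
  push Not at hne
  set C := Subgroup.centralizer ({x} : Set G) with hC
  obtain ⟨ψ, hψ⟩ := CfsgLib.Blocks.isPBlock_nonempty hb.1
  have hcomm : ∀ c : C, Commute x (c : G) := fun c =>
    (Subgroup.mem_centralizer_singleton_iff.1 c.2).symm
  have hθ : Cfsg.IsClassFunction C (fun c : C => (χ : G → ℂ) (x * (c : G))) := by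
    intro g h
    simp only [Subgroup.coe_mul, Subgroup.coe_inv]
    rw [show x * ((h : G) * g * (h : G)⁻¹) = (h : G) * (x * g) * (h : G)⁻¹ by
      rw [← mul_assoc, ← mul_assoc, ← mul_assoc, (hcomm h).eq],
      CfsgLib.Characters.isClassFunction_of_isIrr χ.2]
  have h1 := regPair_eq_zero_of_blockPart hM (CfsgLib.Blocks.isBlockUnion_of_isPBlock hb.1) hθ
    hne hψ
  set a : CfsgLib.Blocks.Ctr (CfsgLib.Blocks.localRing M) C :=
    ⟨CfsgLib.Blocks.ofFun fun c : C => if p ∣ orderOf c then 0 else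
        ⟨(χ : G → ℂ) (x * ((c⁻¹ : C) : G)), CfsgLib.Blocks.memLocalRing_char χ _⟩,
      CfsgLib.Blocks.mem_ctr_iff.2 fun g h => by
        simp only [CfsgLib.Blocks.coeff_ofFun]
        rw [show h * g * h⁻¹ = MulAut.conj h g from rfl, MulEquiv.orderOf_eq]
        refine if_congr Iff.rfl rfl (Subtype.ext ?_)
        show (χ : G → ℂ) _ = _
        rw [← map_inv, MulAut.conj_apply]
        exact hθ g⁻¹ h⟩ with ha
  have h2 : CfsgLib.Blocks.omega ψ (CfsgLib.Blocks.toC M a) * (ψ : C → ℂ) 1 =
      CfsgLib.BlockDegrees.regPair p (fun c : C => (χ : G → ℂ) (x * (c : G))) (ψ : C → ℂ) := by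
    rw [CfsgLib.Blocks.omega_apply, div_mul_cancel₀ _ (CfsgLib.Characters.irr_one_ne_zero ψ.2),
      CfsgLib.BlockDegrees.regPair]
    refine Fintype.sum_equiv (Equiv.inv C) _ _ fun g => ?_
    simp only [ha, CfsgLib.Blocks.toC, CfsgLib.Blocks.coeff_mapCtr, CfsgLib.Blocks.coeff_ofFun,
      Equiv.inv_apply, orderOf_inv]
    split_ifs
    · simp
    · rw [CfsgLib.Characters.character_inv (CfsgLib.Characters.isCharacter_of_isIrr ψ.2),
        Complex.conj_conj]
      rfl
  rw [h1, mul_eq_zero, or_iff_left (CfsgLib.Characters.irr_one_ne_zero ψ.2),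
    ← CfsgLib.Blocks.coe_omegaO] at h2
  have h3 : CfsgLib.Blocks.redCtr M a = CfsgLib.Blocks.resCtr C
      (CfsgLib.Blocks.redCtr M (CfsgLib.BlockDegrees.regElt M p χ)) := by
    refine CfsgLib.Blocks.ctr_ext fun c => ?_
    simp only [ha, CfsgLib.Blocks.redCtr, CfsgLib.Blocks.coeff_mapCtr,
      CfsgLib.Blocks.coeff_resCtr, CfsgLib.Blocks.coeff_ofFun, CfsgLib.BlockDegrees.regElt,
      Subgroup.orderOf_coe]
    split_ifs
    · simp
    · rw [CfsgLib.BlockDegrees.red_char_mul hM χ hk (hcomm c⁻¹)]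
      rfl
  refine CfsgLib.BlockDegrees.omegaBar_regElt_ne_zero hM hB hχ h0 ?_
  rw [← (CfsgLib.Blocks.isInducedBlock_iff C hb.1 hB hψ hχ).1 hb, ← h3,
    CfsgLib.Blocks.omegaBar_redCtr]
  rw [show CfsgLib.Blocks.omegaO M ψ a = 0 from Subtype.ext h2, map_zero]

end Cfsg.Agent.S4428
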