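import Cfsg.Statements.S4430
import Cfsg.Agent.BlockDegrees.InducedPart

set_option autoImplicit false
set_option linter.style.haveILetI false
open Cfsg

namespace Cfsg.Agent.S4430

/-- Let H be a subgroup of the finite group G, b a block of H whose induced block B₀ in G is defined (relative to a maximal ideal M of the algebraic integers containing p), and ξ ∈ b. For a block B of G let n_B be the value at 1 of the B-part of the induced character ξ^G (a natural number: the sum over χ ∈ B of the multiplicity of χ in ξ^G times χ(1)). Then for B = B₀ the exact power of p dividing n_B equals the exact power of p dividing ξ^G(1), while for every other block B either n_B = 0 or n_B is divisible by a strictly higher power of p than ξ^G(1). -/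
theorem result {G : Type*} [Group G] [Fintype G] (p : ℕ) [Fact p.Prime] (M : Ideal Cfsg.AlgInt) (hM : Cfsg.IsPModular p M) (H : Subgroup G) [Fintype H] (b : Set (Cfsg.IrrCharacter H)) (B₀ : Set (Cfsg.IrrCharacter G)) (hind : Cfsg.IsInducedBlock M H b B₀) (ξ : Cfsg.IrrCharacter H) (hξ : ξ ∈ b) : (∃ n : ℕ, Cfsg.blockPart B₀ (Cfsg.indFun H (ξ : H → ℂ)) 1 = (n : ℂ) ∧ n ≠ 0 ∧ n.factorization p = (Cfsg.charDegree (Cfsg.indFun H (ξ : H → ℂ))).factorization p) ∧ ∀ B : Set (Cfsg.IrrCharacter G), Cfsg.IsPBlock M B → B ≠ B₀ → ∃ n : ℕ, Cfsg.blockPart B (Cfsg.indFun H (ξ : H → ℂ)) 1 = (n : ℂ) ∧ (n = 0 ∨ (Cfsg.charDegree (Cfsg.indFun H (ξ : H → ℂ))).factorization p < n.factorization p) := by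
  classical
  haveI := CfsgLib.Blocks.IsPModular.isPrime hM
  set d := H.index * Cfsg.charDegree (ξ : H → ℂ) with hdd
  have hd0 : d ≠ 0 :=
    mul_ne_zero Subgroup.index_ne_zero_of_finite (CfsgLib.Blocks.charDegree_ne_zero ξ)
  have hdc : (d : ℂ) = (H.index : ℂ) * (ξ : H → ℂ) 1 := by
    rw [hdd]; push_cast; rw [CfsgLib.Blocks.charDegree_cast]
  have hdeg : Cfsg.charDegree (Cfsg.indFun H (ξ : H → ℂ)) = d := by
    rw [Cfsg.charDegree, CfsgLib.Characters.indFun_one, ← hdc]; simp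
  rw [hdeg]
  obtain ⟨χ₀, hχ₀⟩ := CfsgLib.Blocks.isPBlock_nonempty hind.2.1
  have hred : ∀ (B : Set (Cfsg.IrrCharacter G)) (hB : CfsgLib.Blocks.IsBlockUnion M B),
      ∃ (n : ℕ) (z : CfsgLib.Blocks.localRing M),
        Cfsg.blockPart B (Cfsg.indFun H (ξ : H → ℂ)) 1 = (n : ℂ) ∧ (n : ℂ) = (d : ℂ) * (z : ℂ) ∧
        CfsgLib.Blocks.red M z = if χ₀ ∈ B then 1 else 0 := by
    intro B hB
    obtain ⟨n, hn⟩ := CfsgLib.BlockDegrees.exists_nat_blockPart H ξ B
    have e := CfsgLib.Blocks.omegaBar_idemBar B hB χ₀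
    rw [← (CfsgLib.Blocks.isInducedBlock_iff H hind.1 hind.2.1 hξ hχ₀).1 hind,
      CfsgLib.Blocks.idemBar, CfsgLib.Blocks.redCtr, ← CfsgLib.Blocks.mapCtr_resCtr,
      ← CfsgLib.Blocks.redCtr, CfsgLib.Blocks.omegaBar_redCtr] at e
    refine ⟨n, _, hn, ?_, e⟩
    rw [← hn, CfsgLib.BlockDegrees.blockPart_indFun_one, hdc, CfsgLib.Blocks.coe_omegaO,
      CfsgLib.Blocks.toC, CfsgLib.Blocks.mapCtr_resCtr, ← CfsgLib.Blocks.toC,
      CfsgLib.Blocks.toC_setIdemO]
  constructor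
  · obtain ⟨n, z, hn, hnz, hz⟩ := hred B₀ (CfsgLib.Blocks.isBlockUnion_of_isPBlock hind.2.1)
    rw [if_pos hχ₀] at hz
    have hu : IsUnit z := CfsgLib.Blocks.red_ne_zero_iff.1 (by rw [hz]; exact one_ne_zero)
    obtain ⟨w, hw⟩ := hu.exists_right_inv
    have hw' : (z : ℂ) * (w : ℂ) = 1 := congrArg Subtype.val hw
    have hn0 : n ≠ 0 := by
      rintro rfl
      rw [Nat.cast_zero, eq_comm, mul_eq_zero] at hnz
      rcases hnz with h | h
      · exact hd0 (Nat.cast_eq_zero.1 h)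
      · rw [h, zero_mul] at hw'; exact zero_ne_one hw'
    have hdC : (d : ℂ) ≠ 0 := Nat.cast_ne_zero.2 hd0
    refine ⟨n, hn, hn0, le_antisymm ?_ ?_⟩
    · refine CfsgLib.Blocks.factorization_le_of_div_mem hM hd0 hn0 ?_
      have : (d : ℂ) / (n : ℂ) = (w : ℂ) := by
        rw [div_eq_iff (Nat.cast_ne_zero.2 hn0), hnz, mul_left_comm, mul_comm (w : ℂ), hw', mul_one]
      rw [this]; exact w.2
    · refine CfsgLib.Blocks.factorization_le_of_div_mem hM hn0 hd0 ?_
      rw [hnz, mul_div_cancel_left₀ _ hdC]; exact z.2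
  · intro B hB hne
    obtain ⟨n, z, hn, hnz, hz⟩ := hred B (CfsgLib.Blocks.isBlockUnion_of_isPBlock hB)
    rw [if_neg fun h => hne (CfsgLib.Blocks.isPBlock_eq_of_mem hB hind.2.1 h hχ₀)] at hz
    refine ⟨n, hn, or_iff_not_imp_left.2 fun hn0 => ?_⟩
    by_contra hle
    rw [not_lt] at hle
    have hzi := CfsgLib.Blocks.red_eq_zero_iff.1 hz
    refine CfsgLib.Blocks.not_memLocalIdeal_one (M := M) ?_
    have h1 := CfsgLib.Blocks.memLocalRing_div_of_eq hM (n := d) (m := n) hn0 hle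
    have h2 := CfsgLib.Blocks.memLocalIdeal_mul_left h1 hzi
    rwa [div_mul_eq_mul_div, ← hnz, div_self (Nat.cast_ne_zero.2 hn0)] at h2

end Cfsg.Agent.S4430
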