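import Cfsg.Statements.S4440
import Cfsg.Agent.BlocksLocal.WeightedUnion

set_option autoImplicit false
set_option linter.style.haveILetI false
open Cfsg

namespace Cfsg.Agent.S4440

/-- Let G be a finite p-solvable group and fix a maximal ideal M of the algebraic integers containing p. Let U be a set of irreducible characters of G such that the class function Σ_{χ ∈ U} χ(1)·χ vanishes at every p-singular element of G. Then U is a union of p-blocks: if χ ∈ U and ψ lies in the same block as χ, then ψ ∈ U. -/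
theorem result {G : Type*} [Group G] [Finite G] (p : ℕ) [Fact p.Prime] (M : Ideal Cfsg.AlgInt) (hM : Cfsg.IsPModular p M) (hsolv : Cfsg.IsPSolvable p G) (U : Set (Cfsg.IrrCharacter G)) (hU : ∀ x : G, p ∣ orderOf x → ∑ᶠ χ ∈ U, (χ : G → ℂ) 1 * (χ : G → ℂ) x = 0) (χ : Cfsg.IrrCharacter G) (hχ : χ ∈ U) (ψ : Cfsg.IrrCharacter G) (hψ : Cfsg.SameBlock M (χ : G → ℂ) (ψ : G → ℂ)) : ψ ∈ U := by
  classical
  haveI := Fintype.ofFinite G
  haveI : M.IsPrime := CfsgLib.Blocks.IsPModular.isPrime hM
  have hgood : CfsgLib.BlocksLocal.Weighted.Good p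
      (CfsgLib.Blocks.setIdemC U : MonoidAlgebra ℂ G) := by
    refine ⟨(CfsgLib.Blocks.setIdemC U).2, ?_, fun g => ?_, fun g hg => ?_⟩
    · rw [← Subring.coe_mul, CfsgLib.BlocksLocal.CoverAll.setIdemC_mul_self]
    · rw [CfsgLib.Blocks.coeff_setIdemC, CfsgLib.Blocks.coeff_setIdemC,
        CfsgLib.BlocksLocal.CoverAll.blockCoeff_inv]
    · have h := congrArg (starRingEnd ℂ) (hU g hg)
      rw [CfsgLib.Blocks.finsum_irr_mem, map_sum, map_zero] at h
      rw [CfsgLib.Blocks.coeff_setIdemC, CfsgLib.Blocks.blockCoeff_eq_sum]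
      refine mul_eq_zero_of_right _ (Eq.trans (Finset.sum_congr rfl fun η _ => ?_) h)
      split_ifs
      · obtain ⟨d, -, hd⟩ := CfsgLib.Characters.exists_degree_pos η.2
        rw [map_mul, hd, Complex.conj_natCast]
      · simp
  refine CfsgLib.Blocks.isBlockUnion_of_memLocalRing (A := U) (fun g => ?_) χ hχ hψ
  have h := CfsgLib.BlocksLocal.Weighted.memLocalRing_of_good hM hsolv hgood g
  rwa [CfsgLib.Blocks.coeff_setIdemC] at h

end Cfsg.Agent.S4440
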