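import Cfsg.Statements.S4442
import Cfsg.Agent.DefectOne.Canonical
import Cfsg.Agent.Blocks.Height

set_option autoImplicit false
set_option linter.style.haveILetI false
open Cfsg

namespace Cfsg.Agent.S4442
open CfsgLib CfsgLib.DefectOne in
open Classical in
private theorem family {G : Type*} [Group G] [Fintype G] {p : ℕ} [Fact p.Prime]
    (L : Local p G) (O : L.Orb) [Fintype (L.ColOver O)] {B : Set (Cfsg.IrrCharacter G)}
    (hO : ∀ χ : Cfsg.IrrCharacter G, χ ∈ B ↔ ∃ q : L.ColOver O, L.cint χ q.1 ≠ 0)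
    (hBne : B.Nonempty) (ht0 : 0 < Fintype.card (L.ColOver O)) :
    ∃ Y : Set (Cfsg.IrrCharacter G), Y ⊆ B ∧ Nat.card Y = Nat.card (L.ColOver O) ∧
      (∀ χ ∈ B, χ ∉ Y → ∃ a : ℤ, (a = 1 ∨ a = -1) ∧ ∀ q : L.ColOver O, L.cint χ q.1 = a) ∧
      (∃ a : ℤ, (a = 1 ∨ a = -1) ∧ ∀ ψ ∈ Y, ∃ q : L.ColOver O, L.IsUnitRow O ψ q ∧ L.cint ψ q.1 = a) ∧
      ∀ ψ ∈ Y, ∀ ψ' ∈ Y, ∀ g : G, ¬ p ∣ orderOf g → (ψ : G → ℂ) g = (ψ' : G → ℂ) g := by
  haveI := L.finite_lam
  by_cases ht : 1 < Fintype.card (L.ColOver O)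
  swap
  · obtain ⟨θ₀, hθ₀⟩ := hBne
    haveI : Subsingleton (L.ColOver O) := Fintype.card_le_one_iff_subsingleton.1 (by omega)
    have hc : ∀ χ ∈ B, ∃ q : L.ColOver O, ∃ a : ℤ, (a = 1 ∨ a = -1) ∧ L.cint χ q.1 = a := by
      intro χ hχ
      obtain ⟨q, hq⟩ := (hO χ).1 hχ
      rcases L.rows O χ ⟨q, hq⟩ with ⟨a, ha, h⟩ | ⟨q', a, ha, h⟩
      · exact ⟨q, a, ha, h q⟩
      · exact ⟨q', a, ha, by rw [h, if_pos rfl]⟩
    refine ⟨{θ₀}, Set.singleton_subset_iff.2 hθ₀, ?_, fun χ hχ _ => ?_, ?_, ?_⟩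
    · rw [Nat.card_eq_fintype_card (α := L.ColOver O),
        show Fintype.card (L.ColOver O) = 1 by omega]
      simp
    · obtain ⟨q, a, ha, h⟩ := hc χ hχ
      exact ⟨a, ha, fun q' => by rw [Subsingleton.elim q' q, h]⟩
    · obtain ⟨q, a, ha, h⟩ := hc θ₀ hθ₀
      refine ⟨a, ha, fun ψ hψ => ?_⟩
      rw [Set.mem_singleton_iff.1 hψ]
      exact ⟨q, ⟨by rcases ha with e | e <;> rw [h, e] <;> norm_num,
        fun q' hq' => absurd (Subsingleton.elim q' q) hq'⟩, h⟩
    · intro ψ hψ ψ' hψ' g _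
      rw [Set.mem_singleton_iff.1 hψ, Set.mem_singleton_iff.1 hψ']
  · have huniq : ∀ q₀ : L.ColOver O, ∀ θ θ' : Cfsg.IrrCharacter G,
        L.IsUnitRow O θ q₀ → L.IsUnitRow O θ' q₀ → θ = θ' := fun q₀ θ θ' h h' =>
      Finset.card_le_one.1 (L.card_unitRow O ht q₀).le θ (Finset.mem_filter.2 ⟨Finset.mem_univ _, h⟩) θ'
        (Finset.mem_filter.2 ⟨Finset.mem_univ _, h'⟩)
    have hexr : ∀ q₀ : L.ColOver O, ∃ θ, L.IsUnitRow O θ q₀ := fun q₀ => by
      obtain ⟨θ, hθ⟩ := Finset.card_pos.1 (show 0 < _ by rw [L.card_unitRow O ht q₀]; exact one_pos)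
      exact ⟨θ, (Finset.mem_filter.1 hθ).2⟩
    choose F hF using hexr
    have hmove : ∀ q q' : L.ColOver O, ∃ c : CfsgLib.DefectOne.Local.Units1 p G,
        CfsgLib.PConjOrbit.conjAt (F q) c = F q' ∧ L.cint (F q') q'.1 = L.cint (F q) q.1 := by
      intro q q'
      obtain ⟨l, rfl⟩ := L.colLam_surjective O q
      obtain ⟨l', rfl⟩ := L.colLam_surjective O q'
      obtain ⟨c, rfl⟩ := L.exists_powLam l l'
      have hv := L.cint_conjAt O (F (L.colLam O l)) c l
      have hne : L.cint (CfsgLib.PConjOrbit.conjAt (F (L.colLam O l)) c)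
          (L.colLam O (L.powLam c l)).1 ≠ 0 := by rw [hv]; exact (hF _).1
      have hunit : L.IsUnitRow O (CfsgLib.PConjOrbit.conjAt (F (L.colLam O l)) c)
          (L.colLam O (L.powLam c l)) := by
        rcases L.rows O _ ⟨_, hne⟩ with ⟨a, ha, hc⟩ | ⟨q₂, a, -, hc⟩
        · exfalso
          obtain ⟨q₁, hq₁⟩ := Fintype.exists_ne_of_one_lt_card ht (L.colLam O l)
          obtain ⟨l₁, rfl⟩ := L.colLam_surjective O q₁
          have := L.cint_conjAt O (F (L.colLam O l)) c l₁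
          rw [hc, (hF _).2 _ hq₁] at this
          rcases ha with h | h <;> rw [h] at this <;> norm_num at this
        · have e : L.colLam O (L.powLam c l) = q₂ := by
            by_contra h; exact hne (by rw [hc, if_neg h])
          exact ⟨hne, fun q h => by rw [hc, if_neg (e ▸ h)]⟩
      have e := huniq _ _ _ hunit (hF _)
      exact ⟨c, e, by rw [← e, hv]⟩
    obtain ⟨q₀⟩ : Nonempty (L.ColOver O) := Fintype.card_pos_iff.1 ht0
    have hFinj : Function.Injective F := fun q q' h => by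
      by_contra hne
      exact (hF q).1 (h ▸ (hF q').2 q hne)
    refine ⟨Set.range F, ?_, Nat.card_range_of_injective hFinj, fun χ hχ hχY => ?_, ?_, ?_⟩
    · rintro _ ⟨q, rfl⟩; exact (hO _).2 ⟨q, (hF q).1⟩
    · obtain ⟨q, hq⟩ := (hO χ).1 hχ
      rcases L.rows O χ ⟨q, hq⟩ with h | ⟨q', a, ha, hc⟩
      · exact h
      · refine absurd ⟨q', huniq q' _ _ (hF q') ⟨?_, fun q'' h => by rw [hc, if_neg h]⟩⟩ hχY
        rw [hc, if_pos rfl]
        rcases ha with h | h <;> rw [h] <;> norm_num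
    · refine ⟨L.cint (F q₀) q₀.1, ?_, ?_⟩
      · rcases L.rows O (F q₀) ⟨_, (hF q₀).1⟩ with ⟨a, ha, hc⟩ | ⟨q₂, a, ha, hc⟩
        · rwa [hc]
        · rwa [hc, if_pos (by by_contra h; exact (hF q₀).1 (by rw [hc, if_neg h]))]
      · rintro _ ⟨q, rfl⟩
        obtain ⟨c, -, h⟩ := hmove q₀ q
        exact ⟨q, hF q, h⟩
    · rintro _ ⟨q, rfl⟩ _ ⟨q', rfl⟩ g hg
      obtain ⟨c, e, -⟩ := hmove q q'
      rw [← e]
      exact (L.conjAt_regular _ c hg).symm


/-- Blocks of defect one. Let p be an odd prime and G a finite group whose Sylow p-subgroup P has order p; let C = C_G(P) and N = N_G(P), and fix a maximal ideal M of the algebraic integers containing p. Let B be a block of G with defect group P, b a block of C inducing B, and θ the member of b having P in its kernel (there is exactly one). Let T be the stabilizer of θ in N (the elements g ∈ N with θ(g c g⁻¹) = θ(c) for all c ∈ C) and e the index of C in T. Then e divides p − 1 and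 B contains exactly e + (p − 1)/e irreducible characters. Moreover B is the disjoint union of a set X of e characters and a set Y of (p − 1)/e characters such that, with f the index of C in N: every χ ∈ X has χ(1) ≡ ±(f/e)·θ(1) (mod p), there is one sign ε with ψ(1) ≡ ε f θ(1) (mod p) for all ψ ∈ Y, and all members of Y agree on the p-regular elements of G. -/
theorem result {G : Type*} [Group G] [Finite G] (p : ℕ) [Fact p.Prime] (M : Ideal Cfsg.AlgInt) (hM : Cfsg.IsPModular p M) (hodd : p ≠ 2) (P : Sylow p G) (hP : Nat.card P = p) (B : Set (Cfsg.IrrCharacter G)) (hB : Cfsg.IsPBlock M B) (hBP : Cfsg.IsDefectGroup p M B P) (b : Set (Cfsg.IrrCharacter (Subgroup.centralizer ((P : Subgroup G) : Set G)))) (hind : Cfsg.IsInducedBlock M (Subgroup.centralizer ((P : Subgroup G) : Set G)) b B) (θ : Cfsg.IrrCharacter (Subgroup.centralizer ((P : Subgroup G) : Set G))) (hθ : θ ∈ b) (hθP : ∀ x : Subgroup.centralizer ((P : Subgroup G) : Set G),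 (x : G) ∈ (P : Subgroup G) → (θ : Subgroup.centralizer ((P : Subgroup G) : Set G) → ℂ) x = (θ : Subgroup.centralizer ((P : Subgroup G) : Set G) → ℂ) 1) (T : Subgroup G) (hT : ∀ g : G, g ∈ T ↔ (g ∈ Subgroup.normalizer ((P : Subgroup G) : Set G) ∧ ∀ c c' : Subgroup.centralizer ((P : Subgroup G) : Set G), (c' : G) = g * c * g⁻¹ → (θ : Subgroup.centralizer ((P : Subgroup G) : Set G) → ℂ) c' = (θ : Subgroup.centralizer ((P : Subgroup G) : Set G) → ℂ) c)) (e f : ℕ) (he : (Subgroup.centralizer ((P : Subgroup G) : Set G)).relIndex T = e) (hf : (Subgroup.centralizer ((P : Subgroup G) : Set G)).relIndex (Subgroup.normalizer ((P : Subgroup G) : Set G)) = f) : e ∣ p - 1 ∧ Nat.card B = e + (p - 1) / e ∧ ∃ X Y : Set (Cfsg.IrrCharacter G), B = X ∪ Y ∧ Disjoint X Y ∧ Nat.card X = e ∧ Nat.card Y = (p - 1) / e ∧ (∀ χ ∈ X, (Cfsg.charDegree (χ : G → ℂ) : ℤ) ≡ ((f / e * Cfsg.charDegree (θ : Subgroup.centralizer ((P : Subgroup G) : Set G) → ℂ) : ℕ)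 : ℤ) [ZMOD p] ∨ (Cfsg.charDegree (χ : G → ℂ) : ℤ) ≡ -((f / e * Cfsg.charDegree (θ : Subgroup.centralizer ((P : Subgroup G) : Set G) → ℂ) : ℕ) : ℤ) [ZMOD p]) ∧ (∃ ε : ℤ, (ε = 1 ∨ ε = -1) ∧ ∀ ψ ∈ Y, (Cfsg.charDegree (ψ : G → ℂ) : ℤ) ≡ ε * ((f * Cfsg.charDegree (θ : Subgroup.centralizer ((P : Subgroup G) : Set G) → ℂ) : ℕ) : ℤ) [ZMOD p]) ∧ ∀ ψ ∈ Y, ∀ ψ' ∈ Y, ∀ g : G, ¬ p ∣ orderOf g → (ψ : G → ℂ) g = (ψ' : G → ℂ) g := by
  classical
  haveI := Fintype.ofFinite G
  haveI := CfsgLib.Blocks.IsPModular.isPrime hM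
  have hp : p.Prime := Fact.out
  have hfac : (Nat.card G).factorization p = 1 := by
    have h := P.card_eq_multiplicity
    rw [hP] at h
    exact (Nat.pow_right_injective hp.two_le ((pow_one p).trans h)).symm
  have hne : Nat.card G ≠ 0 := Nat.card_pos.ne'
  have hdiv : p ∣ Nat.card G := hP ▸ Subgroup.card_subgroup_dvd_card (P : Subgroup G)
  have hsq : ¬ p ^ 2 ∣ Nat.card G := fun h => by
    have := (hp.pow_dvd_iff_le_factorization hne).1 h
    omega
  obtain ⟨L, hL⟩ := CfsgLib.DefectOne.exists_local hdiv hsq P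
  subst hL
  have hd : 0 < Cfsg.blockDefect p B := by
    have h := CfsgLib.Blocks.card_defectGroup hM hB hBP
    rw [hP] at h
    by_contra h0
    rw [Nat.eq_zero_of_not_pos h0, pow_zero] at h
    exact hp.ne_one h
  obtain ⟨O, hO, heO, horb, hdeg⟩ := L.canonical_block hM hB hd hind θ hθ hθP T hT
  haveI := L.finite_col
  haveI := L.finite_lam
  haveI := Fintype.ofFinite (L.ColOver O)
  haveI := Fintype.ofFinite L.Lam
  set t := Nat.card (L.ColOver O) with ht
  have hte : t * L.eO O = p - 1 := L.card_colOver_mul O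
  have hp2 := hp.two_le
  have ht0 : 0 < t := Nat.pos_of_ne_zero fun h => by rw [h, zero_mul] at hte; omega
  have he' : L.eO O = e := heO.trans he
  have he0 : 0 < e := he' ▸ Nat.pos_of_ne_zero fun h => by rw [h, mul_zero] at hte; omega
  have hte' : (p - 1) / e = t := by rw [← hte, he', Nat.mul_div_cancel _ he0]
  have hf' : L.orbCard O * e = f := by rw [← he']; exact horb.trans hf
  have hfe : f / e = L.orbCard O := by rw [← hf', Nat.mul_div_cancel _ he0]
  have hBcard : Nat.card B = e + t := by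
    rw [← he', ht, ← L.counting.2.2.1 O]
    exact Nat.card_congr (Equiv.subtypeEquivRight hO)
  obtain ⟨Y, hYB, hYc, hX, ⟨a, ha, hY⟩, hreg⟩ := family L O hO
    (CfsgLib.Blocks.isPBlock_nonempty hB) (by rwa [← Nat.card_eq_fintype_card])
  refine ⟨⟨t, by rw [← hte, he', mul_comm]⟩, by rw [hte', hBcard], B \ Y, Y,
    (Set.sdiff_union_of_subset hYB).symm, Set.disjoint_sdiff_left, ?_, by rw [hte', hYc], ?_,
    ⟨-a, ?_, ?_⟩, hreg⟩
  · rw [Nat.card_coe_set_eq, Set.ncard_sdiff hYB, ← Nat.card_coe_set_eq, ← Nat.card_coe_set_eq,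
      hBcard, hYc, Nat.add_sub_cancel]
  · rintro χ ⟨hχ, hχY⟩
    obtain ⟨b, hb, hc⟩ := hX χ hχ hχY
    have h := L.degree_congr O χ ((hO χ).1 hχ)
    rw [Finset.sum_congr rfl (fun l _ => hc _), Finset.sum_const, Finset.card_univ, nsmul_eq_mul,
      ← Nat.card_eq_fintype_card, L.card_lam, hdeg, ← hfe] at h
    have hp1 : ((p - 1 : ℕ) : ℤ) ≡ -1 [ZMOD p] := by
      rw [Int.modEq_iff_dvd, Nat.cast_sub (by omega : 1 ≤ p)]
      exact ⟨-1, by push_cast; ring⟩
    have h2 := h.trans (Int.ModEq.mul_left _ (hp1.mul_right b))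
    rcases hb with rfl | rfl
    · exact Or.inl (h2.trans (by rw [show ∀ z : ℤ, -z * (-1 * 1) = z from fun z => by ring]))
    · exact Or.inr (h2.trans (by rw [show ∀ z : ℤ, -z * (-1 * -1) = -z from fun z => by ring]))
  · rcases ha with rfl | rfl
    · exact Or.inr rfl
    · exact Or.inl (neg_neg 1)
  · intro ψ hψ
    obtain ⟨q, hq, hqa⟩ := hY ψ hψ
    have h := L.degree_congr O ψ ((hO ψ).1 (hYB hψ))
    rw [L.sum_unitRow O ψ q hq, hqa, he', hdeg] at h
    rw [← hf']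
    convert h using 1
    push_cast
    ring

end Cfsg.Agent.S4442
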