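import Cfsg.Statements.S4444
import Cfsg.Agent.RelGlauberman.Correspondence
-- import your own Cfsg.Agent.* helpers here

set_option autoImplicit false
open Cfsg

namespace Cfsg.Agent.S4444

open CfsgLib.RelGlauberman CfsgLib.Characters

/-- The Glauberman correspondence for a p-group of operators. Inside a finite group Γ let S normalise G with the orders of G and S coprime, S a p-group, and let C = G ⊓ C(S) be the fixed points. Call an irreducible character χ of G S-invariant when χ(s g s⁻¹) = χ(g) for s ∈ S, g ∈ G. Then: (i) for every S-invariant χ there is exactly one irreducible character β of C whose multiplicity [χ_C, β] in the restriction of χ is not divisible by p; (ii) that multiplicity is ≡ 1 or ≡ −1 (mod p); (iii) distinct S-invariant χ give distinct β; (iv) every irreducible character of C arises in this way. So χ ↦ β is a bijection from the S-invariant irreducible characters of G onto the irreducible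 characters of C. -/
theorem result {Γ : Type*} [Group Γ] [Fintype Γ] (G S : Subgroup Γ) [Fintype G] (hnorm : ∀ s ∈ S, ∀ g ∈ G, s * g * s⁻¹ ∈ G) (hcop : (Nat.card G).Coprime (Nat.card S)) (p : ℕ) (hp : p.Prime) (hS : IsPGroup p S) (C : Subgroup Γ) [Fintype C] (hC : C = G ⊓ Subgroup.centralizer (S : Set Γ)) (hCG : C ≤ G) : (∀ χ : Cfsg.IrrCharacter G, (∀ s ∈ S, ∀ g g' : G, (g' : Γ) = s * g * s⁻¹ → (χ : G → ℂ) g' = (χ : G → ℂ) g) → ∃! β : Cfsg.IrrCharacter C, ∃ m : ℕ, Cfsg.classInner (fun c : C => (χ : G → ℂ) ⟨c, hCG c.2⟩) (β : C → ℂ) = (m : ℂ) ∧ ¬ p ∣ m) ∧ (∀ χ : Cfsg.IrrCharacter G, (∀ s ∈ S, ∀ g g' : G, (g' : Γ) = s * g * s⁻¹ → (χ : G → ℂ) g' = (χ : G → ℂ) g) → ∀ β : Cfsg.IrrCharacter C, ∀ m : ℕ, Cfsg.classInner (fun c : C => (χ : G → ℂ) ⟨c, hCG c.2⟩) (β : C → ℂ) = (m : ℂ) → ¬ p ∣ m → ((m : ℤ) ≡ 1 [ZMOD p] ∨ (m : ℤ) ≡ -1 [ZMOD p])) ∧ (∀ χ χ' : Cfsg.IrrCharacter G, (∀ s ∈ S, ∀ g g' : G, (g' : Γ) = s * g *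 s⁻¹ → (χ : G → ℂ) g' = (χ : G → ℂ) g) → (∀ s ∈ S, ∀ g g' : G, (g' : Γ) = s * g * s⁻¹ → (χ' : G → ℂ) g' = (χ' : G → ℂ) g) → ∀ β : Cfsg.IrrCharacter C, ∀ m m' : ℕ, Cfsg.classInner (fun c : C => (χ : G → ℂ) ⟨c, hCG c.2⟩) (β : C → ℂ) = (m : ℂ) → ¬ p ∣ m → Cfsg.classInner (fun c : C => (χ' : G → ℂ) ⟨c, hCG c.2⟩) (β : C → ℂ) = (m' : ℂ) → ¬ p ∣ m' → χ = χ') ∧ (∀ β : Cfsg.IrrCharacter C, ∃ χ : Cfsg.IrrCharacter G, (∀ s ∈ S, ∀ g g' : G, (g' : Γ) = s * g * s⁻¹ → (χ : G → ℂ) g' = (χ : G → ℂ) g) ∧ ∃ m : ℕ, Cfsg.classInner (fun c : C => (χ : G → ℂ) ⟨c, hCG c.2⟩) (β : C → ℂ) = (m : ℂ) ∧ ¬ p ∣ m) := by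
  classical
  haveI := Fact.mk hp
  rcases eq_or_ne S ⊥ with hS1 | hS1
  · -- trivial action
    have hCeq : C = G := by
      rw [hC, hS1, inf_eq_left]
      exact fun g _ => Subgroup.mem_centralizer_iff.2 fun s hs => by
        rw [Subgroup.mem_bot.1 hs]; simp
    subst hCeq
    have hinner : ∀ (χ β : Cfsg.IrrCharacter C) (m : ℕ) {i : Fintype C},
        Cfsg.classInner (fun c : C => (χ : C → ℂ) ⟨c, hCG c.2⟩) (β : C → ℂ) = (m : ℂ) →
          m = if χ = β then 1 else 0 := by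
      intro χ β m i h
      rw [show (fun c : C => (χ : C → ℂ) ⟨c, hCG c.2⟩) = (χ : C → ℂ) from rfl, classInner_irr] at h
      split_ifs at h ⊢ with e <;> exact_mod_cast h.symm
    have hself : ∀ (β : Cfsg.IrrCharacter C) {i : Fintype C},
        Cfsg.classInner (fun c : C => (β : C → ℂ) ⟨c, hCG c.2⟩) (β : C → ℂ) = ((1 : ℕ) : ℂ) := by
      intro β i
      rw [Nat.cast_one]
      exact classInner_isIrr_self β.2
    refine ⟨fun χ _ => ⟨χ, ⟨1, hself χ, hp.not_dvd_one⟩, fun β ⟨m, hm, hpm⟩ => ?_⟩,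
      fun χ _ β m hm hpm => ?_, fun χ χ' _ _ β m m' hm hpm hm' hpm' => ?_,
      fun β => ⟨β, ?_, 1, hself β, hp.not_dvd_one⟩⟩
    · by_contra hne
      rw [hinner χ β m hm, if_neg (Ne.symm hne)] at hpm
      exact hpm (dvd_zero p)
    · have e : χ = β := by
        by_contra hne
        rw [hinner χ β m hm, if_neg hne] at hpm
        exact hpm (dvd_zero p)
      left
      rw [hinner χ β m hm, if_pos e]
      rfl
    · have e : χ = β := by
        by_contra hne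
        rw [hinner χ β m hm, if_neg hne] at hpm
        exact hpm (dvd_zero p)
      have e' : χ' = β := by
        by_contra hne
        rw [hinner χ' β m' hm', if_neg hne] at hpm'
        exact hpm' (dvd_zero p)
      exact e.trans e'.symm
    · intro s hs g g' hg
      rw [hS1, Subgroup.mem_bot] at hs
      rw [show g' = g from Subtype.ext (by simpa [hs] using hg)]
  have hidx : ¬ p ∣ (⊥ : Subgroup Γ).relIndex G := by
    rw [Subgroup.relIndex_bot_left]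
    intro h
    obtain ⟨n, hn⟩ := IsPGroup.iff_card.1 hS
    rw [hn] at hcop
    rcases Nat.eq_zero_or_pos n with rfl | hpos
    · exact hS1 (Subgroup.eq_bot_of_card_eq S (by simpa using hn))
    · exact hp.ne_one (Nat.dvd_one.1 (hcop ▸ Nat.dvd_gcd h (dvd_pow_self p hpos.ne')))
  have hfix : IsFixedMod S G ⊥ C := by
    intro k
    rw [hC, Subgroup.mem_inf, Subgroup.mem_centralizer_iff]
    refine and_congr_right fun _ => ⟨fun h x hx => ?_, fun h x hx => ?_⟩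
    · rw [Subgroup.mem_bot, h x hx]; group
    · have := Subgroup.mem_bot.1 (h x hx)
      calc x * k = (x * k * x⁻¹ * k⁻¹) * k * x := by group
        _ = k * x := by rw [this, one_mul]
  obtain ⟨f, hf⟩ := relative_glauberman S G ⊥ C hS hnorm
    (fun x _ q hq => by simp [Subgroup.mem_bot.1 hq]) bot_le
    (fun k _ q hq => by simp [Subgroup.mem_bot.1 hq]) hidx hfix
  have hβ : ∀ β : Cfsg.IrrCharacter C, PInv S C (β : C → ℂ) := by
    intro β x hx k k' hk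
    have h1 : x * (k : Γ) = k * x :=
      Subgroup.mem_centralizer_iff.1 (Subgroup.mem_inf.1 (hC.le k.2)).2 x hx
    rw [show k' = k from Subtype.ext (by rw [hk, h1, mul_inv_cancel_right])]
  have hin : ∀ (χ : Cfsg.IrrCharacter G) (β : Cfsg.IrrCharacter C),
      Cfsg.classInner (fun c : C => (χ : G → ℂ) ⟨c, hCG c.2⟩) (β : C → ℂ) =
        multRes hfix.le (χ : G → ℂ) (β : C → ℂ) := fun χ β => by
    rw [multRes_eq_classInner]; rfl
  have key : ∀ (χ : Inv S G) (β : Cfsg.IrrCharacter C) (m : ℕ),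
      Cfsg.classInner (fun c : C => (χ.1 : G → ℂ) ⟨c, hCG c.2⟩) (β : C → ℂ) = (m : ℂ) →
        ¬ p ∣ m → (⟨β, hβ β⟩ : Inv S C) = f χ ∧ ((m : ℤ) ≡ 1 [ZMOD p] ∨ (m : ℤ) ≡ -1 [ZMOD p]) := by
    intro χ β m hm hpm
    obtain ⟨m', hm', h1, h0⟩ := hf χ ⟨β, hβ β⟩
    rw [hin, hm'] at hm
    obtain rfl : m' = m := by exact_mod_cast hm
    have he : (⟨β, hβ β⟩ : Inv S C) = f χ := by
      by_contra hne
      exact hpm ((ZMod.natCast_eq_zero_iff m' p).1 (h0 hne))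
    refine ⟨he, ?_⟩
    rcases h1 he with h | h
    · left; rw [← ZMod.intCast_eq_intCast_iff]; simpa using h
    · right; rw [← ZMod.intCast_eq_intCast_iff]; simpa using h
  have hex : ∀ χ : Inv S G, ∃ m : ℕ, Cfsg.classInner (fun c : C => (χ.1 : G → ℂ) ⟨c, hCG c.2⟩)
      ((f χ).1 : C → ℂ) = (m : ℂ) ∧ ¬ p ∣ m := by
    intro χ
    obtain ⟨m, hm, h1, -⟩ := hf χ (f χ)
    refine ⟨m, (hin _ _).trans hm, fun hd => ?_⟩
    rw [(ZMod.natCast_eq_zero_iff m p).2 hd] at h1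
    rcases h1 rfl with h | h
    · exact zero_ne_one h
    · exact one_ne_zero (neg_eq_zero.1 h.symm)
  refine ⟨fun χ hχ => ⟨(f ⟨χ, hχ⟩).1, hex ⟨χ, hχ⟩, fun β ⟨m, hm, hpm⟩ => ?_⟩,
    fun χ hχ β m hm hpm => (key ⟨χ, hχ⟩ β m hm hpm).2,
    fun χ χ' hχ hχ' β m m' hm hpm hm' hpm' => ?_, fun β => ?_⟩
  · exact congrArg Subtype.val (key ⟨χ, hχ⟩ β m hm hpm).1
  · have := (key ⟨χ, hχ⟩ β m hm hpm).1.symm.trans (key ⟨χ', hχ'⟩ β m' hm' hpm').1
    exact congrArg Subtype.val (f.injective this)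
  · refine ⟨(f.symm ⟨β, hβ β⟩).1, (f.symm ⟨β, hβ β⟩).2, ?_⟩
    have := hex (f.symm ⟨β, hβ β⟩)
    rwa [f.apply_symm_apply] at this

end Cfsg.Agent.S4444
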