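import Cfsg.Statements.S4446
import Cfsg.Agent.Glauberman.CyclicSetting

set_option autoImplicit false
set_option linter.style.haveILetI false
open Cfsg

namespace Cfsg.Agent.S4446

/-- Let the finite group Γ be generated by a normal subgroup G and a cyclic subgroup S of coprime orders, C = G ⊓ C(S), and let χ be an S-invariant irreducible character of G with canonical extension χ̂ to Γ (the extension whose determinantal order is coprime to the order of S). Then there are exactly one irreducible character β of C and one sign ε such that χ̂(c s) = ε β(c) for every c ∈ C and every generator s of S; this β is a constituent of the restriction of χ to C; distinct S-invariant χ give distinct β; and every irreducible character of C arises in this way. -/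
theorem result {Γ : Type*} [Group Γ] [Fintype Γ] (G S : Subgroup Γ) [Fintype G] (hnorm : ∀ s ∈ S, ∀ g ∈ G, s * g * s⁻¹ ∈ G) (hcop : (Nat.card G).Coprime (Nat.card S)) (htop : G ⊔ S = ⊤) (hcyc : IsCyclic S) (C : Subgroup Γ) [Fintype C] (hC : C = G ⊓ Subgroup.centralizer (S : Set Γ)) (hCG : C ≤ G) : (∀ (χ : Cfsg.IrrCharacter G) (χh : Cfsg.IrrCharacter Γ), (∀ s ∈ S, ∀ g g' : G, (g' : Γ) = s * g * s⁻¹ → (χ : G → ℂ) g' = (χ : G → ℂ) g) → (∀ g : G, (χh : Γ → ℂ) g = (χ : G → ℂ) g) → (Cfsg.detOrder (χh : Γ → ℂ)).Coprime (Nat.card S) → (∃! βε : Cfsg.IrrCharacter C × ℤ, (βε.2 = 1 ∨ βε.2 = -1) ∧ ∀ c : C, ∀ s : Γ, Subgroup.zpowers s = S → (χh : Γ → ℂ) ((c : Γ) * s) = (βε.2 : ℂ) * (βε.1 : C → ℂ) c) ∧ ∀ β : Cfsg.IrrCharacter C, ∀ ε : ℤ, (ε = 1 ∨ ε = -1) → (∀ c : C, ∀ s : Γ, Subgroup.zpowers s = S → (χh : Γ → ℂ) ((c : Γ) * s) = (ε : ℂ) * (β : C → ℂ) c) → Cfsg.classInner (fun c : C => (χ : G → ℂ) ⟨c, hCG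 c.2⟩) (β : C → ℂ) ≠ 0) ∧ (∀ (χ χ' : Cfsg.IrrCharacter G) (χh χh' : Cfsg.IrrCharacter Γ), (∀ s ∈ S, ∀ g g' : G, (g' : Γ) = s * g * s⁻¹ → (χ : G → ℂ) g' = (χ : G → ℂ) g) → (∀ s ∈ S, ∀ g g' : G, (g' : Γ) = s * g * s⁻¹ → (χ' : G → ℂ) g' = (χ' : G → ℂ) g) → (∀ g : G, (χh : Γ → ℂ) g = (χ : G → ℂ) g) → (∀ g : G, (χh' : Γ → ℂ) g = (χ' : G → ℂ) g) → (Cfsg.detOrder (χh : Γ → ℂ)).Coprime (Nat.card S) → (Cfsg.detOrder (χh' : Γ → ℂ)).Coprime (Nat.card S) → ∀ β : Cfsg.IrrCharacter C, ∀ ε ε' : ℤ, (ε = 1 ∨ ε = -1) → (ε' = 1 ∨ ε' = -1) → (∀ c : C, ∀ s : Γ, Subgroup.zpowers s = S → (χh : Γ → ℂ) ((c : Γ) * s) = (ε : ℂ) * (β : C → ℂ) c) → (∀ c : C, ∀ s : Γ, Subgroup.zpowers s = S → (χh' : Γ → ℂ) ((c : Γ) * s) = (ε' : ℂ) * (β : C → ℂ) c) → χ = χ') ∧ (∀ β : Cfsg.IrrCharacter C, ∃ (χ : Cfsg.IrrCharacter G) (χh : Cfsg.IrrCharacter Γ) (ε : ℤ), (∀ s ∈ S, ∀ g g' : G, (g' : Γ) = s * g * s⁻¹ → (χ : G → ℂ) g' = (χ :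 G → ℂ) g) ∧ (∀ g : G, (χh : Γ → ℂ) g = (χ : G → ℂ) g) ∧ (Cfsg.detOrder (χh : Γ → ℂ)).Coprime (Nat.card S) ∧ (ε = 1 ∨ ε = -1) ∧ ∀ c : C, ∀ s : Γ, Subgroup.zpowers s = S → (χh : Γ → ℂ) ((c : Γ) * s) = (ε : ℂ) * (β : C → ℂ) c) := by
  classical
  obtain ⟨g₀, hg₀⟩ := hcyc.exists_generator
  set s₀ : Γ := (g₀ : Γ) with hs₀def
  have hs₀ : Subgroup.zpowers s₀ = S := by
    refine le_antisymm (Subgroup.zpowers_le.2 g₀.2) fun x hx => ?_
    obtain ⟨k, hk⟩ := Subgroup.mem_zpowers_iff.1 (hg₀ ⟨x, hx⟩)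
    exact Subgroup.mem_zpowers_iff.2 ⟨k, congrArg Subtype.val hk⟩
  haveI := CfsgLib.Glauberman.CyclicSign.normal hnorm htop
  have hq := CfsgLib.Glauberman.CyclicSign.cyclic_quotient hnorm htop hs₀
  have hidx := CfsgLib.Glauberman.CyclicSign.index_eq hnorm hcop htop
  have hcop' : (Nat.card G).Coprime G.index := by rw [hidx]; exact hcop
  have hfix := CfsgLib.Glauberman.CyclicSign.mem_fixed_iff hC hs₀
  have hpow : s₀ ^ G.index = 1 := by
    rw [hidx]; exact CfsgLib.Glauberman.CyclicSign.pow_card_zpowers hs₀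
  have hall : ∀ (χ : Cfsg.IrrCharacter G) (χh : Γ → ℂ),
      CfsgLib.Glauberman.CyclicSign.IsCan G (χ : G → ℂ) χh → ∀ (c : C) (s : Γ),
      Subgroup.zpowers s = S → χh ((c : Γ) * s) = χh ((c : Γ) * s₀) := by
    intro χ χh h c s hs
    obtain ⟨k, hk, rfl⟩ := CfsgLib.Glauberman.CyclicSign.exists_coprime_pow hs₀ hs
    exact h.pow_eq hcop' χ.2 (hCG c.2) ((hfix c (hCG c.2)).1 c.2).symm hpow (hidx ▸ hk)
  have hcan : ∀ (χ : Cfsg.IrrCharacter G) (χh : Cfsg.IrrCharacter Γ),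
      (∀ g : G, (χh : Γ → ℂ) g = (χ : G → ℂ) g) →
      (Cfsg.detOrder (χh : Γ → ℂ)).Coprime (Nat.card S) →
      CfsgLib.Glauberman.CyclicSign.IsCan G (χ : G → ℂ) (χh : Γ → ℂ) :=
    fun χ χh h1 h2 => ⟨χh.2, h1, by rw [hidx]; exact h2⟩
  refine ⟨fun χ χh hinv hext hdet => ⟨?_, fun β ε hε hv => ?_⟩, ?_, fun β => ?_⟩
  · have h := hcan χ χh hext hdet
    obtain ⟨β, ε, hε, hv⟩ :=
      CfsgLib.Glauberman.CyclicSign.exists_unit_coeff hcop' C hCG hpow hfix χ.2 h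
    refine ⟨(β, ε), ⟨hε, fun c s hs => (hall χ _ h c s hs).trans (hv c)⟩, ?_⟩
    rintro ⟨β', ε'⟩ ⟨hε', hv'⟩
    have he : (fun c : C => (ε' : ℂ) * (β' : C → ℂ) c) = fun c : C => (ε : ℂ) * (β : C → ℂ) c :=
      funext fun c => (hv' c s₀ hs₀).symm.trans (hv c)
    have hεne : (ε' : ℂ) ≠ 0 := Int.cast_ne_zero.2 (by rcases hε' with rfl | rfl <;> norm_num)
    have hββ : β' = β := by
      by_contra hne
      have h1 : Cfsg.classInner ((ε' : ℂ) • (β' : C → ℂ)) (β' : C → ℂ) =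
          Cfsg.classInner ((ε : ℂ) • (β : C → ℂ)) (β' : C → ℂ) := congrArg (fun f => Cfsg.classInner f (β' : C → ℂ)) he
      rw [CfsgLib.Characters.classInner_smul_left, CfsgLib.Characters.classInner_smul_left,
        CfsgLib.Characters.classInner_isIrr_self β'.2,
        CfsgLib.Characters.classInner_isIrr_ne β.2 β'.2 (fun e => hne (Subtype.ext e).symm),
        mul_one, mul_zero] at h1
      exact hεne h1
    subst hββ
    have h1 := congrFun he 1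
    rw [Prod.mk.injEq]
    exact ⟨rfl, Int.cast_injective (α := ℂ)
      (mul_right_cancel₀ (CfsgLib.Characters.irr_one_ne_zero β'.2) h1)⟩
  · exact CfsgLib.Glauberman.CyclicSign.constituent hcop' C hCG hpow
      (fun c hc => (hfix c (hCG hc)).1 hc) χ.2 (hcan χ χh hext hdet) β hε
      (fun c => hv c s₀ hs₀)
  · intro χ χ' χh χh' _ _ hext hext' hdet hdet' β ε ε' hε hε' hv hv'
    by_contra hne
    have h0 := CfsgLib.Glauberman.CyclicSign.inner_slice_ne hcop' C hCG hpow hfix hne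
      (hcan χ χh hext hdet) (hcan χ' χh' hext' hdet')
    rw [show CfsgLib.Glauberman.CyclicSign.slice C (χh' : Γ → ℂ) s₀ = (ε' : ℂ) • (β : C → ℂ) from
        funext fun c => hv' c s₀ hs₀,
      show CfsgLib.Glauberman.CyclicSign.slice C (χh : Γ → ℂ) s₀ = (ε : ℂ) • (β : C → ℂ) from
        funext fun c => hv c s₀ hs₀,
      CfsgLib.Characters.classInner_smul_left, CfsgLib.Characters.classInner_smul_right,
      CfsgLib.Characters.classInner_isIrr_self β.2, mul_one] at h0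
    rcases hε with rfl | rfl <;> rcases hε' with rfl | rfl <;> simp at h0
  · obtain ⟨χ, χh, ε, hinv, h, hε, hv⟩ := CfsgLib.Glauberman.CyclicSign.exists_of_beta hq hcop'
      hCG hpow (CfsgLib.Glauberman.CyclicSign.gen_quotient hnorm htop hs₀) hfix β
    refine ⟨χ, χh, ε, fun s hs g g' hg => ?_, h.2.1, by rw [← hidx]; exact h.2.2, hε,
      fun c s hs => (hall χ _ h c s hs).trans (hv c)⟩
    rw [← hinv s g]
    exact congrArg (χ : G → ℂ) (Subtype.ext hg)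

end Cfsg.Agent.S4446
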