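import Cfsg.Statements.S4447
import Cfsg.Agent.Glauberman.Constituent

set_option autoImplicit false
set_option linter.style.haveILetI false
open Cfsg

namespace Cfsg.Agent.S4447

/-- Inside a finite group Γ let S normalise G and also normalise a normal subgroup N of G, with the order of S coprime to the index of N in G and S or G/N solvable. Then for every S-invariant irreducible character χ of G, the restriction of χ to N has an S-invariant irreducible constituent. -/
theorem result {Γ : Type*} [Group Γ] [Fintype Γ] (G S N : Subgroup Γ) [Fintype G] [Fintype N] (hnorm : ∀ s ∈ S, ∀ g ∈ G, s * g * s⁻¹ ∈ G) (hNG : N ≤ G) [hNn : (N.subgroupOf G).Normal] (hNS : ∀ s ∈ S, ∀ n ∈ N, s * n * s⁻¹ ∈ N) (hcop : (N.relIndex G).Coprime (Nat.card S)) (hsolv : Group.IsSolvable S ∨ Group.IsSolvable (G ⧸ N.subgroupOf G)) (χ : Cfsg.IrrCharacter G) (hinv : (∀ s ∈ S, ∀ g g' : G, (g' : Γ) = s * g * s⁻¹ → (χ : G → ℂ) g' = (χ : G → ℂ) g)) : ∃ θ : Cfsg.IrrCharacter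 N, Cfsg.classInner (fun n : N => (χ : G → ℂ) ⟨n, hNG n.2⟩) (θ : N → ℂ) ≠ 0 ∧ (∀ s ∈ S, ∀ g g' : N, (g' : Γ) = s * g * s⁻¹ → (θ : N → ℂ) g' = (θ : N → ℂ) g) := by
  classical
  letI := CfsgLib.Glauberman.conjAction G S hnorm
  haveI : Fintype (N.subgroupOf G) := Fintype.ofFinite _
  let e : N.subgroupOf G ≃* N := Subgroup.subgroupOfEquivOfLe hNG
  obtain ⟨θ, hne, hθ⟩ := CfsgLib.Glauberman.exists_inv_below (S := S) (N.subgroupOf G)
    (fun s x hx => hNS s s.2 x hx) hcop hsolv χ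
    ((CfsgLib.Glauberman.isInv_conjAction_iff G S hnorm _).2 hinv)
  refine ⟨(CfsgLib.Glauberman.irrCongr e).symm θ, fun h0 => hne ?_, fun s hs g g' hg => ?_⟩
  · rw [← h0]
    exact (CfsgLib.Glauberman.classInner_comp e.symm
      (fun n : N.subgroupOf G => (χ : G → ℂ) n) (θ : N.subgroupOf G → ℂ)).symm
  · exact hθ ⟨s, hs⟩ (e.symm g) (e.symm g') (Subtype.ext hg)

end Cfsg.Agent.S4447
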