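import Cfsg.Statements.S4450
import Cfsg.Agent.Glauberman.RelativeInvariant

set_option autoImplicit false
set_option linter.style.haveILetI false
open Cfsg

namespace Cfsg.Agent.S4450

/-- Let N ≤ G be normal subgroups of the finite group Γ with the index of G in Γ coprime to the index of N in G, and Γ/G or G/N solvable. Then for every irreducible character ϑ of N invariant under conjugation by Γ, the induced character ϑ^G has an irreducible constituent invariant under conjugation by Γ. -/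
theorem result {Γ : Type*} [Group Γ] [Fintype Γ] (G N : Subgroup Γ) [hG : G.Normal] [hN : N.Normal] [Fintype G] [Fintype N] (hNG : N ≤ G) (hcop : (G.index).Coprime (N.relIndex G)) (hsolv : Group.IsSolvable (Γ ⧸ G) ∨ Group.IsSolvable (G ⧸ N.subgroupOf G)) (θ : Cfsg.IrrCharacter N) (hinv : ∀ (x : Γ) (n : N), (θ : N → ℂ) ⟨x * n * x⁻¹, hN.conj_mem n n.2 x⟩ = (θ : N → ℂ) n) : ∃ χ : Cfsg.IrrCharacter G, Cfsg.classInner (fun n : N => (χ : G → ℂ) ⟨n, hNG n.2⟩) (θ : N → ℂ) ≠ 0 ∧ ∀ (x : Γ) (g : G), (χ : G → ℂ) ⟨x * g * x⁻¹, hG.conj_mem g g.2 x⟩ = (χ : G → ℂ) g := by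
  classical
  set π := QuotientGroup.mk' N with hπ
  set Gb : Subgroup (Γ ⧸ N) := G.map π with hGb
  haveI : Gb.Normal := Subgroup.Normal.map hG π (QuotientGroup.mk'_surjective N)
  have hker : π.ker = N := QuotientGroup.ker_mk' N
  have hcomap : Gb.comap π = G := Subgroup.comap_map_eq_self (hker.trans_le hNG)
  have hcard : Nat.card Gb = N.relIndex G := by
    exact (Subgroup.relIndex_ker (f := π) (K := G)).symm.trans (congrArg (fun A : Subgroup Γ => A.relIndex G) hker)
  have hidx : Gb.index = G.index := by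
    conv_rhs => rw [← hcomap]
    exact (Subgroup.index_comap_of_surjective _ (QuotientGroup.mk'_surjective N)).symm
  obtain ⟨K, hK⟩ := Subgroup.exists_right_complement'_of_coprime
    (show (Nat.card Gb).Coprime Gb.index by rw [hcard, hidx]; exact hcop.symm)
  set S : Subgroup Γ := K.comap π with hS
  have hNS : N ≤ S := hker.symm.trans_le (Subgroup.ker_le_comap π K)
  have hinf : G ⊓ S = N := by
    rw [← hcomap, hS, ← Subgroup.comap_inf, hK.disjoint.eq_bot, MonoidHom.comap_bot, hker]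
  have hsup : G ⊔ S = ⊤ := by
    rw [← hcomap, hS, Subgroup.comap_sup_eq π _ _ (QuotientGroup.mk'_surjective N),
      hK.sup_eq_top, Subgroup.comap_top]
  have hrel : N.relIndex S = G.index := by
    rw [← hinf, Subgroup.inf_relIndex_right, ← Subgroup.relIndex_sup_right S G, sup_comm, hsup,
      Subgroup.relIndex_top_right]
  have hnG : ∀ P : Subgroup Γ, CfsgLib.RelGlauberman.Normalises P G :=
    fun P x _ g hg => hG.conj_mem g hg x
  have hnN : ∀ P : Subgroup Γ, CfsgLib.RelGlauberman.Normalises P N :=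
    fun P x _ g hg => hN.conj_mem g hg x
  have hθP : ∀ P : Subgroup Γ, CfsgLib.RelGlauberman.PInv P N (θ : N → ℂ) := by
    intro P x _ k k' hk
    rw [← hinv x k]
    exact congrArg (θ : N → ℂ) (Subtype.ext hk)
  have hmain : ∃ χ : Cfsg.IrrCharacter G, CfsgLib.RelGlauberman.PInv S G (χ : G → ℂ) ∧
      CfsgLib.RelGlauberman.multNat hNG χ θ ≠ 0 := by
    rcases hsolv with h | h
    · refine CfsgLib.Glauberman.RelativeInvariant.exists_inv_of_solvable _ S G N rfl hNG
        (fun g _ x hx => hN.conj_mem x hx g) (hnG S) (hnN S) hNS (hrel ▸ hcop) (fun {_} => ?_) θ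
        (hθP G) (hθP S)
      haveI := h
      refine Group.isSolvable_of_isSolvable_injective
        (f := QuotientGroup.map (N.subgroupOf S) G S.subtype fun x hx => hNG hx) ?_
      rw [← MonoidHom.ker_eq_bot_iff, eq_bot_iff]
      intro q hq
      obtain ⟨a, rfl⟩ := QuotientGroup.mk_surjective q
      have hq : ((a : Γ) : Γ ⧸ G) = 1 := hq
      rw [QuotientGroup.eq_one_iff] at hq
      refine Subgroup.mem_bot.2 ((QuotientGroup.eq_one_iff a).2 ?_)
      show (a : Γ) ∈ N
      rw [← hinf]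
      exact ⟨hq, a.2⟩
    · exact CfsgLib.Glauberman.RelativeInvariant.exists_inv_of_solvable_quotient _ S G N rfl hNG
        (fun g _ x hx => hN.conj_mem x hx g) (hnG S) (hnN S) hNS (hrel ▸ hcop) (fun {_} => h) θ
        (hθP S)
  obtain ⟨χ, hχS, hχθ⟩ := hmain
  refine ⟨χ, ?_, fun x g => ?_⟩
  · have h1 := (CfsgLib.Glauberman.RelativeInvariant.multNat_ne_zero_iff hNG χ θ).1 hχθ
    convert h1 using 3
  · obtain ⟨a, ha, s, hs, rfl⟩ := CfsgLib.Coprime.exists_mul_of_mem_sup
      (show S ≤ Subgroup.normalizer (G : Set Γ) by rw [Subgroup.normalizer_eq_top]; exact le_top)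
      (show x ∈ G ⊔ S from hsup ▸ Subgroup.mem_top x)
    rw [← hχS s hs g ⟨s * g * s⁻¹, hG.conj_mem g g.2 s⟩ rfl]
    exact (congrArg (χ : G → ℂ) (Subtype.ext (by simp [mul_assoc]))).trans
      (CfsgLib.Characters.isClassFunction_of_isIrr χ.2 ⟨s * g * s⁻¹, hG.conj_mem g g.2 s⟩ ⟨a, ha⟩)

end Cfsg.Agent.S4450
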