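import Cfsg.Statements.S4451
import Cfsg.Agent.Glauberman.CyclicFPF

set_option autoImplicit false
set_option linter.style.haveILetI false
open Cfsg

namespace Cfsg.Agent.S4451

/-- Let the finite group Γ be generated by a normal subgroup G and a cyclic subgroup S of coprime orders such that every non-identity element of S has the same centraliser C = G ⊓ C(S) in G. Let χ be an S-invariant irreducible character of G, χ̂ its canonical extension to Γ (determinantal order coprime to the order of S), and β the irreducible character of C with χ̂(c s) = ε₀ β(c) for c ∈ C and generators s of S (ε₀ = ±1). Then there are a sign ε = ±1, which may differ from ε₀, and a linear character μ of S with μ² = 1, such that: (a) χ̂(c x) = ε β(c) μ(x) for all c ∈ C and all x ∈ S other than 1; (b) the restriction of χ to C equals |S|·ϑ + ε β for some character ϑ of C or ϑ = 0; (c) |S| divides χ(1) − ε β(1). -/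
theorem result {Γ : Type*} [Group Γ] [Fintype Γ] (G S : Subgroup Γ) [Fintype G] (hnorm : ∀ s ∈ S, ∀ g ∈ G, s * g * s⁻¹ ∈ G) (hcop : (Nat.card G).Coprime (Nat.card S)) (htop : G ⊔ S = ⊤) (hcyc : IsCyclic S) (C : Subgroup Γ) [Fintype C] (hC : C = G ⊓ Subgroup.centralizer (S : Set Γ)) (hCG : C ≤ G) (hfpf : ∀ x ∈ S, x ≠ 1 → G ⊓ Subgroup.centralizer ({x} : Set Γ) = C) (χ : Cfsg.IrrCharacter G) (hinv : (∀ s ∈ S, ∀ g g' : G, (g' : Γ) = s * g * s⁻¹ → (χ : G → ℂ) g' = (χ : G → ℂ) g)) (χh : Cfsg.IrrCharacter Γ) (hext : (∀ g : G, (χh : Γ → ℂ) g = (χ : G → ℂ) g)) (hdet : (Cfsg.detOrder (χh : Γ → ℂ)).Coprime (Nat.card S)) (β : Cfsg.IrrCharacter C) (ε₀ : ℤ) (hε₀ : ε₀ = 1 ∨ ε₀ = -1) (hβ : ∀ c : C, ∀ s : Γ, Subgroup.zpowers s = S → (χh : Γ → ℂ) ((c : Γ) * s) = (ε₀ : ℂ) * (β : C → ℂ) c) : ∃ ε : ℤ, (ε = 1 ∨ ε = -1) ∧ (∃ μ : S → ℂ, Cfsg.IsCharacter S μ ∧ μ 1 = 1 ∧ (∀ x : S, μ x * μ x = 1) ∧ ∀ c : C, ∀ x : S, x ≠ 1 → (χh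 : Γ → ℂ) ((c : Γ) * x) = (ε : ℂ) * (β : C → ℂ) c * μ x) ∧ (∃ ϑ : C → ℂ, Cfsg.IsCharacter C ϑ ∧ (fun c : C => (χ : G → ℂ) ⟨c, hCG c.2⟩) = fun c => (Nat.card S : ℂ) * ϑ c + (ε : ℂ) * (β : C → ℂ) c) ∧ (Nat.card S : ℤ) ∣ (Cfsg.charDegree (χ : G → ℂ) : ℤ) - ε * (Cfsg.charDegree (β : C → ℂ) : ℤ) := by
  classical
  obtain ⟨g₀, hg₀⟩ := hcyc.exists_generator
  set s₀ : Γ := (g₀ : Γ) with hs₀def
  have hs₀ : Subgroup.zpowers s₀ = S := by
    refine le_antisymm (Subgroup.zpowers_le.2 g₀.2) fun x hx => ?_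
    obtain ⟨k, hk⟩ := Subgroup.mem_zpowers_iff.1 (hg₀ ⟨x, hx⟩)
    exact Subgroup.mem_zpowers_iff.2 ⟨k, congrArg Subtype.val hk⟩
  haveI := CfsgLib.Glauberman.CyclicSign.normal hnorm htop
  have hidx := CfsgLib.Glauberman.CyclicSign.index_eq hnorm hcop htop
  have hord : orderOf s₀ = Nat.card S := by rw [← Nat.card_zpowers, hs₀]
  have hfix := CfsgLib.Glauberman.CyclicSign.mem_fixed_iff hC hs₀
  obtain ⟨ε, u, hε, hu, hun, hform, k, hk⟩ := CfsgLib.Glauberman.CyclicSign.exists_signs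
    (by rw [hidx]; exact hcop) C hCG (hord.trans hidx.symm)
    (fun m hm g hg => by
      have hmem : s₀ ^ m ∈ S := hs₀ ▸ Subgroup.pow_mem _ (Subgroup.mem_zpowers s₀) m
      rw [← hfpf _ hmem hm, Subgroup.mem_inf, and_iff_right hg,
        Subgroup.mem_centralizer_singleton_iff]
      exact eq_comm)
    (fun c hc => (hfix c (hCG hc)).1 hc) χ.2 (χh := (χh : Γ → ℂ))
    ⟨χh.2, hext, by rw [hidx]; exact hdet⟩ β hε₀ (fun c => hβ c s₀ hs₀)
  set uu : ℂˣ := Units.map (Int.castRingHom ℂ).toMonoidHom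
    (if u = 1 then 1 else -1) with huu
  have huv : (uu : ℂ) = (u : ℂ) := by rcases hu with rfl | rfl <;> simp [huu]
  have hμord : orderOf uu ∣ orderOf g₀ := by
    refine orderOf_dvd_of_pow_eq_one (Units.ext ?_)
    rw [Units.val_pow_eq_pow_val, huv, Units.val_one, ← Subgroup.orderOf_coe g₀, ← hs₀def,
      ← Int.cast_pow, hun, Int.cast_one]
  let μ : S →* ℂˣ := monoidHomOfForallMemZpowers hg₀ hμord
  have hμg : μ g₀ = uu := monoidHomOfForallMemZpowers_apply_gen hg₀ hμord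
  refine ⟨ε, hε, ⟨fun x => (μ x : ℂ), CfsgLib.CharactersDeep.LinearChar.isCharacter_hom μ,
    by simp, fun x => ?_, fun c x hx => ?_⟩, ⟨∑ γ, (k γ : ℂ) • (γ : C → ℂ),
      CfsgLib.Characters.isCharacter_sum _ _ fun γ _ =>
        CfsgLib.Characters.isCharacter_natCast_smul
          (CfsgLib.Characters.isCharacter_of_isIrr γ.2) _, ?_⟩, ?_⟩
  · obtain ⟨j, rfl⟩ := Subgroup.mem_zpowers_iff.1 (hg₀ x)
    show (μ (g₀ ^ j) : ℂ) * (μ (g₀ ^ j) : ℂ) = 1
    rw [map_zpow, hμg, ← Units.val_mul, ← mul_zpow, Units.val_eq_one]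
    have : uu * uu = 1 := Units.ext (by
      rw [Units.val_mul, huv]; rcases hu with rfl | rfl <;> simp)
    rw [this, one_zpow]
  · obtain ⟨m, rfl⟩ : ∃ m : ℕ, g₀ ^ m = x := mem_powers_iff_mem_zpowers.2 (hg₀ x)
    have hm : s₀ ^ m ≠ 1 := fun h0 => hx (Subtype.ext (by simpa [hs₀def] using h0))
    show _ = _ * (μ (g₀ ^ m) : ℂ)
    rw [map_pow, hμg, Units.val_pow_eq_pow_val, huv, SubgroupClass.coe_pow]
    exact hform m hm c
  · rw [hk, hord]
  · have h1 := congrFun hk 1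
    obtain ⟨a, -, ha⟩ := CfsgLib.Characters.exists_degree_pos χ.2
    obtain ⟨b, -, hb⟩ := CfsgLib.Characters.exists_degree_pos β.2
    choose δ _ hδ using fun γ : Cfsg.IrrCharacter C =>
      CfsgLib.Characters.exists_degree_pos γ.2
    have ha' : Cfsg.charDegree (χ : G → ℂ) = a := by simp [Cfsg.charDegree, ha]
    have hb' : Cfsg.charDegree (β : C → ℂ) = b := by simp [Cfsg.charDegree, hb]
    rw [ha', hb']
    refine ⟨∑ γ, (k γ : ℤ) * (δ γ : ℤ), ?_⟩
    apply Int.cast_injective (α := ℂ)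
    have hδb : (δ β : ℂ) = b := (hδ β).symm.trans hb
    simp only [Finset.sum_apply, Pi.smul_apply, smul_eq_mul, hδ, hδb] at h1
    rw [show (⟨((1 : C) : Γ), hCG (1 : C).2⟩ : G) = 1 from rfl, ha, hord] at h1
    push_cast
    linear_combination h1

end Cfsg.Agent.S4451
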