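import Cfsg.Statements.S4452
import Cfsg.Agent.Glauberman.CoprimeMcKay

set_option autoImplicit false
set_option linter.style.haveILetI false
open Cfsg

namespace Cfsg.Agent.S4452

/-- Let the finite group G be the product of a normal subgroup K and a solvable subgroup H of coprime orders, and let N = N_G(H). Then the number of irreducible characters of G of degree coprime to the order of H equals the number of irreducible characters of N of degree coprime to the order of H. (The two sets are in fact in a canonical bijection; only the equality of their sizes is stated here.) -/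
theorem result {G : Type*} [Group G] [Finite G] (K H : Subgroup G) [K.Normal] (hKH : K ⊔ H = ⊤) (hcop : (Nat.card K).Coprime (Nat.card H)) (hsolv : Group.IsSolvable H) : Nat.card {χ : Cfsg.IrrCharacter G // (Cfsg.charDegree (χ : G → ℂ)).Coprime (Nat.card H)} = Nat.card {η : Cfsg.IrrCharacter (Subgroup.normalizer (H : Set G)) // (Cfsg.charDegree (η : Subgroup.normalizer (H : Set G) → ℂ)).Coprime (Nat.card H)} := by
  classical
  set N : Subgroup G := Subgroup.normalizer (H : Set G) with hN
  have hHN : H ≤ N := Subgroup.le_normalizer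
  set K' : Subgroup N := K.subgroupOf N with hK'
  set H' : Subgroup N := H.subgroupOf N with hH'
  let eH : H' ≃* H := Subgroup.subgroupOfEquivOfLe hHN
  have hcardH : Nat.card H' = Nat.card H := Nat.card_congr eH.toEquiv
  have hsup : K' ⊔ H' = ⊤ := by
    rw [eq_top_iff]
    intro x _
    obtain ⟨k, hk, h, hh, hkh⟩ := CfsgLib.Coprime.exists_mul_of_mem_sup
      (CfsgLib.Glauberman.CoprimeMcKay.le_normalizer_normal K H)
      (show (x : G) ∈ K ⊔ H from hKH ▸ Subgroup.mem_top _)
    have hkN : k ∈ N := by
      rw [show k = (x : G) * h⁻¹ by rw [← hkh]; group]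
      exact N.mul_mem x.2 (N.inv_mem (hHN hh))
    rw [show x = ⟨k, hkN⟩ * ⟨h, hHN hh⟩ from Subtype.ext hkh.symm]
    exact Subgroup.mul_mem_sup (show (⟨k, hkN⟩ : N) ∈ K' from hk)
      (show (⟨h, hHN hh⟩ : N) ∈ H' from hh)
  have hcop' : (Nat.card K').Coprime (Nat.card H') := by
    rw [hcardH]
    refine hcop.coprime_dvd_left ?_
    exact Subgroup.card_comap_dvd_of_injective K N.subtype N.subtype_injective
  have hsolv' : Group.IsSolvable H' := by
    haveI := hsolv
    exact Group.isSolvable_of_isSolvable_injective (f := eH.toMonoidHom) eH.injective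
  have h1 := CfsgLib.Glauberman.CoprimeMcKay.card_coprime_degree K H hKH hcop hsolv
  have h2 := CfsgLib.Glauberman.CoprimeMcKay.card_coprime_degree K' H' hsup hcop' hsolv'
  rw [hcardH] at h2
  have hLin : Nat.card (H' →* ℂˣ) = Nat.card (H →* ℂˣ) := Nat.card_congr
    { toFun := fun l => l.comp eH.symm.toMonoidHom
      invFun := fun l => l.comp eH.toMonoidHom
      left_inv := fun l => MonoidHom.ext fun x => congrArg l (eH.symm_apply_apply x)
      right_inv := fun l => MonoidHom.ext fun x => congrArg l (eH.apply_symm_apply x) }
  let C : Subgroup G := K ⊓ Subgroup.centralizer (H : Set G)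
  let C' : Subgroup N := K' ⊓ Subgroup.centralizer (H' : Set N)
  have hCN : C ≤ N := fun c hc => Subgroup.mem_normalizer_iff.2 fun h => by
    have hcc := Subgroup.mem_centralizer_iff.1 hc.2
    constructor
    · intro hh
      rwa [← hcc h hh, mul_inv_cancel_right]
    · intro hh
      have h3 := hcc _ hh
      rw [inv_mul_cancel_right] at h3
      rwa [← mul_left_cancel h3] at hh
  let eC : C' ≃* C :=
    { toFun := fun x => ⟨((x : N) : G), x.2.1, Subgroup.mem_centralizer_iff.2 fun h hh =>
        congrArg Subtype.val (Subgroup.mem_centralizer_iff.1 x.2.2 ⟨h, hHN hh⟩ hh)⟩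
      invFun := fun c => ⟨⟨c, hCN c.2⟩, c.2.1, Subgroup.mem_centralizer_iff.2 fun h hh =>
        Subtype.ext (Subgroup.mem_centralizer_iff.1 c.2.2 h hh)⟩
      left_inv := fun _ => rfl
      right_inv := fun _ => rfl
      map_mul' := fun _ _ => rfl }
  have hClass : Nat.card (ConjClasses C') = Nat.card (ConjClasses C) := Nat.card_congr
    { toFun := ConjClasses.map eC.toMonoidHom
      invFun := ConjClasses.map eC.symm.toMonoidHom
      left_inv := fun κ => by
        obtain ⟨c, rfl⟩ := ConjClasses.mk_surjective κ
        exact congrArg ConjClasses.mk (eC.symm_apply_apply c)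
      right_inv := fun κ => by
        obtain ⟨c, rfl⟩ := ConjClasses.mk_surjective κ
        exact congrArg ConjClasses.mk (eC.apply_symm_apply c) }
  rw [h1, h2, hLin, hClass]

end Cfsg.Agent.S4452
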