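import Cfsg.Statements.S4459
import Cfsg.Agent.TwoDegrees73.Prime

set_option autoImplicit false
open Cfsg

namespace Cfsg.Agent.S4459

/-- Let G be a non-abelian finite group and p a prime. Then the irreducible character degrees of G are exactly 1 and p if and only if either G has an abelian normal subgroup of index p or the centre of G has index p³. -/
theorem result {G : Type*} [Group G] [Finite G] (hG : ∃ a b : G, a * b ≠ b * a) (p : ℕ) (hp : p.Prime) : ((∀ χ : Cfsg.IrrCharacter G, Cfsg.charDegree (χ : G → ℂ) = 1 ∨ Cfsg.charDegree (χ : G → ℂ) = p) ∧ ∃ χ : Cfsg.IrrCharacter G, Cfsg.charDegree (χ : G → ℂ) = p) ↔ ((∃ A : Subgroup G, A.Normal ∧ (∀ a ∈ A, ∀ b ∈ A, a * b = b * a) ∧ A.index = p) ∨ (Subgroup.center G).index = p ^ 3) := by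
  letI := Fintype.ofFinite G
  rw [← CfsgLib.TwoDegrees73.two_prime_iff hG hp]
  constructor
  · rintro ⟨hcd, χ, hχ⟩
    refine ⟨CfsgLib.TwoDegrees73.two_of_degrees hcd, (χ : G → ℂ), χ.2, ?_⟩
    obtain ⟨d, -, hd⟩ := CfsgLib.Characters.exists_degree_pos χ.2
    rw [← hχ, CfsgLib.DegreeGraph.charDegree_eq hd, hd]
  · rintro ⟨h2, χ, hirr, hχ⟩
    refine ⟨fun ψ => ?_, ⟨χ, hirr⟩, CfsgLib.DegreeGraph.charDegree_eq hχ⟩
    exact (h2 _ ψ.2).imp (fun h => CfsgLib.DegreeGraph.charDegree_eq (d := 1) (by rw [h, Nat.cast_one]))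
      (fun h => CfsgLib.DegreeGraph.charDegree_eq h)

end Cfsg.Agent.S4459
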