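import Cfsg.Statements.S4460
import Cfsg.Agent.ThreeDegrees.Main

set_option autoImplicit false
open Cfsg

namespace Cfsg.Agent.S4460

/-- A finite group with exactly three distinct irreducible character degrees is solvable of derived length at most 3: its third derived subgroup is trivial. -/
theorem result {G : Type*} [Group G] [Finite G] (hcd : Nat.card {n : ℕ // ∃ χ : Cfsg.IrrCharacter G, Cfsg.charDegree (χ : G → ℂ) = n} = 3) : derivedSeries G 3 = ⊥ := by
  classical
  haveI := Fintype.ofFinite G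
  set s : Set ℕ := {n : ℕ | ∃ χ : Cfsg.IrrCharacter G, Cfsg.charDegree (χ : G → ℂ) = n}
  have hs : s.ncard = 3 := (Nat.card_coe_set_eq s).symm.trans hcd
  obtain ⟨a, b, c, -, -, -, habc⟩ := Set.ncard_eq_three.1 hs
  have hone : 1 ∈ s := ⟨⟨fun _ => 1, CfsgLib.Characters.isIrr_one⟩,
    CfsgLib.DegreeGraph.charDegree_eq (by simp)⟩
  have hmem : ∀ (χ : G → ℂ) (d : ℕ), Cfsg.IsIrrCharacter G χ → χ 1 = d → d = a ∨ d = b ∨ d = c := by
    intro χ d hχ hd
    have h1 : d ∈ s := ⟨⟨χ, hχ⟩, CfsgLib.DegreeGraph.charDegree_eq hd⟩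
    simpa [habc] using h1
  have hone' : 1 = a ∨ 1 = b ∨ 1 = c := by simpa [habc] using hone
  rcases hone' with e | e | e <;> subst e
  · exact CfsgLib.ThreeDegrees.main _ G rfl b c hmem
  · exact CfsgLib.ThreeDegrees.main _ G rfl a c fun χ d hχ hd => by
      have := hmem χ d hχ hd; omega
  · exact CfsgLib.ThreeDegrees.main _ G rfl a b fun χ d hχ hd => by
      have := hmem χ d hχ hd; omega

end Cfsg.Agent.S4460
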