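import Cfsg.Statements.S4470
import Cfsg.Agent.Jordan.Near

set_option autoImplicit false
open Cfsg

namespace Cfsg.Agent.S4470

theorem result {G : Type*} [Group G] [Finite G] (χ : G → ℂ) (hχ : Cfsg.IsCharacter G χ) (hfaith : ∀ g : G, χ g = χ 1 → g = 1) (n : ℕ) (hn : Cfsg.charDegree χ = n) : ∃ A : Subgroup G, A.Normal ∧ (∀ x ∈ A, ∀ y ∈ A, x * y = y * x) ∧ ∀ H : Subgroup G, (∀ x ∈ H, ∀ y ∈ H, x * y = y * x) → (A.subgroupOf H).index ≤ 12 ^ n := by
  haveI := Fintype.ofFinite G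
  obtain ⟨m, ρ, rfl⟩ := hχ
  have hm : m = n := by
    rw [← hn, Cfsg.charDegree, Representation.char_one]
    simp
  subst hm
  have hinj : ∀ g, CfsgLib.Jordan.unitaryRep ρ g = 1 → g = 1 := fun g hg => hfaith g (by
    simp only [Representation.character, CfsgLib.Jordan.unitaryRep_eq_one ρ hg, map_one ρ])
  refine ⟨CfsgLib.Jordan.nearSubgroup (CfsgLib.Jordan.unitaryRep ρ),
    CfsgLib.Jordan.nearSubgroup_normal _ (CfsgLib.Jordan.unitaryRep_norm ρ),
    fun x hx y hy => CfsgLib.Jordan.nearSubgroup_comm _ (CfsgLib.Jordan.unitaryRep_norm ρ) hinj hx hy,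
    fun H hH => ?_⟩
  have := CfsgLib.Jordan.index_le (CfsgLib.Jordan.unitaryRep ρ) (CfsgLib.Jordan.unitaryRep_norm ρ) H hH
  rwa [finrank_euclideanSpace_fin] at this

end Cfsg.Agent.S4470
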