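import Cfsg.Statements.S4471
import Cfsg.Agent.Blichfeldt.FeitTwoP

set_option autoImplicit false
set_option linter.style.haveILetI false
open Cfsg

namespace Cfsg.Agent.S4471

/-- Let p ≥ 7 be a prime and let the finite group G have a faithful irreducible character of degree n with n < 2p and n ≠ p. If the Sylow p-subgroups of G are non-abelian then p² does not divide the index of O_p(G) in G; consequently, in every case G/O_p(G) has abelian Sylow p-subgroups. -/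
theorem result {G : Type*} [Group G] [Finite G] (χ : Cfsg.IrrCharacter G) (hfaith : ∀ g : G, (χ : G → ℂ) g = (χ : G → ℂ) 1 → g = 1) (n : ℕ) (hn : Cfsg.charDegree (χ : G → ℂ) = n) (p : ℕ) (hp : p.Prime) (h7 : 7 ≤ p) (hn2 : n < 2 * p) (hnp : n ≠ p) : ((∃ P : Sylow p G, ∃ x ∈ (P : Subgroup G), ∃ y ∈ (P : Subgroup G), x * y ≠ y * x) → ¬ p ^ 2 ∣ (Cfsg.pCore p G).index) ∧ ∀ Q : Sylow p (G ⧸ Cfsg.pCore p G), ∀ x ∈ (Q : Subgroup (G ⧸ Cfsg.pCore p G)), ∀ y ∈ (Q : Subgroup (G ⧸ Cfsg.pCore p G)), x * y = y * x := by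
  classical
  haveI := Fact.mk hp
  haveI := Fintype.ofFinite G
  obtain ⟨m, ρ, hirr, hχ⟩ := χ.2
  have h1 : (χ : G → ℂ) 1 = m := by rw [← hχ, Representation.char_one]; simp
  obtain rfl : m = n := by rw [← hn, Cfsg.charDegree, h1]; simp
  have hinj : ∀ g, CfsgLib.Jordan.unitaryRep ρ g = 1 → g = 1 := fun g hg => hfaith g (by
    rw [← hχ]
    show LinearMap.trace ℂ _ (ρ g) = LinearMap.trace ℂ _ (ρ 1)
    rw [CfsgLib.Jordan.unitaryRep_eq_one ρ hg, map_one ρ])
  have hirr' : ∀ S : Submodule ℂ (EuclideanSpace ℂ (Fin m)),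
      (∀ g, ∀ w ∈ S, CfsgLib.Jordan.unitaryRep ρ g w ∈ S) → S = ⊥ ∨ S = ⊤ := by
    intro S hS
    let S' : Subrepresentation ρ := ⟨S.comap (CfsgLib.Jordan.euclidEquiv ρ).toLinearMap,
      fun g v hv => by
        have h := hS g _ hv
        simp [CfsgLib.Jordan.unitaryRep] at h ⊢
        exact h⟩
    rcases IsSimpleOrder.eq_bot_or_eq_top S' with h | h
    · left
      refine (Submodule.eq_bot_iff S).2 fun w hw => ?_
      have h' : (CfsgLib.Jordan.euclidEquiv ρ).symm w ∈ S'.toSubmodule := by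
        show CfsgLib.Jordan.euclidEquiv ρ _ ∈ S
        rwa [LinearEquiv.apply_symm_apply]
      rw [h] at h'
      rw [← LinearEquiv.apply_symm_apply (CfsgLib.Jordan.euclidEquiv ρ) w,
        show (CfsgLib.Jordan.euclidEquiv ρ).symm w = 0 from h', map_zero]
    · right
      refine Submodule.eq_top_iff'.2 fun w => ?_
      have h' : (CfsgLib.Jordan.euclidEquiv ρ).symm w ∈ S'.toSubmodule := by
        rw [h]; exact Submodule.mem_top
      have h'' : CfsgLib.Jordan.euclidEquiv ρ ((CfsgLib.Jordan.euclidEquiv ρ).symm w) ∈ S := h'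
      rwa [LinearEquiv.apply_symm_apply] at h''
  have main : (∃ P : Sylow p G, ∃ x ∈ (P : Subgroup G), ∃ y ∈ (P : Subgroup G), x * y ≠ y * x) →
      ¬ p ^ 2 ∣ (Cfsg.pCore p G).index := fun ⟨P, hP⟩ =>
    CfsgLib.Blichfeldt.not_sq_dvd_index_pCore (CfsgLib.Jordan.unitaryRep ρ)
      (fun g w => CfsgLib.Jordan.unitaryRep_norm ρ g w) hinj hirr' finrank_euclideanSpace_fin hp h7
      hn2 hnp P hP
  refine ⟨main, fun Q => ?_⟩
  by_cases hna : ∃ P : Sylow p G, ∃ x ∈ (P : Subgroup G), ∃ y ∈ (P : Subgroup G), x * y ≠ y * x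
  · intro x hx y hy
    haveI : IsCyclic ↥(Q : Subgroup (G ⧸ Cfsg.pCore p G)) := by
      obtain ⟨k, hk⟩ := IsPGroup.iff_card.1 Q.isPGroup'
      have hle : k ≤ 1 := by
        by_contra! h
        refine main hna ?_
        rw [Subgroup.index_eq_card]
        exact (hk ▸ pow_dvd_pow p h).trans (Subgroup.card_subgroup_dvd_card _)
      rcases Nat.le_one_iff_eq_zero_or_eq_one.1 hle with rfl | rfl
      · haveI := (Nat.card_eq_one_iff_unique.1 (by rw [hk, pow_zero])).1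
        infer_instance
      · exact isCyclic_of_prime_card (by rw [hk, pow_one])
    letI := IsCyclic.commGroup (α := ↥(Q : Subgroup (G ⧸ Cfsg.pCore p G)))
    exact congrArg Subtype.val (mul_comm (⟨x, hx⟩ : ↥(Q : Subgroup (G ⧸ Cfsg.pCore p G))) ⟨y, hy⟩)
  · push Not at hna
    intro x hx y hy
    obtain ⟨P⟩ : Nonempty (Sylow p G) := inferInstance
    obtain ⟨g, rfl⟩ := MulAction.exists_smul_eq (G ⧸ Cfsg.pCore p G)
      (P.mapSurjective (QuotientGroup.mk'_surjective (Cfsg.pCore p G))) Q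
    obtain ⟨g₀, rfl⟩ := QuotientGroup.mk_surjective g
    rw [Sylow.smul_def, Sylow.pointwise_smul_def] at hx hy
    obtain ⟨_, ⟨a, ha, rfl⟩, rfl⟩ := hx
    obtain ⟨_, ⟨b, hb, rfl⟩, rfl⟩ := hy
    show MulAut.conj (g₀ : G ⧸ Cfsg.pCore p G) (a : G ⧸ Cfsg.pCore p G) *
        MulAut.conj (g₀ : G ⧸ Cfsg.pCore p G) (b : G ⧸ Cfsg.pCore p G) =
      MulAut.conj (g₀ : G ⧸ Cfsg.pCore p G) (b : G ⧸ Cfsg.pCore p G) *
        MulAut.conj (g₀ : G ⧸ Cfsg.pCore p G) (a : G ⧸ Cfsg.pCore p G)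
    rw [← map_mul, ← map_mul, ← QuotientGroup.mk_mul, ← QuotientGroup.mk_mul, hna P a ha b hb]

end Cfsg.Agent.S4471
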