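import Cfsg.Statements.S4473
import Cfsg.Agent.PrimitiveTwo.Main
import Cfsg.Agent.Codegree.Kernel

set_option autoImplicit false
set_option linter.style.haveILetI false
open Cfsg

namespace Cfsg.Agent.S4473

/-- Let the finite group G have a faithful irreducible character χ of degree 2 that is primitive: χ is not induced from a character of any proper subgroup. Then the centre of G has index 12, 24 or 60. -/
theorem result {G : Type*} [Group G] [Fintype G] (χ : Cfsg.IrrCharacter G) (hfaith : ∀ g : G, (χ : G → ℂ) g = (χ : G → ℂ) 1 → g = 1) (h2 : Cfsg.charDegree (χ : G → ℂ) = 2) (hprim : ∀ H : Subgroup G, H ≠ ⊤ → ∀ θ : H → ℂ, Cfsg.IsCharacter H θ → (χ : G → ℂ) ≠ Cfsg.indFun H θ) : (Subgroup.center G).index = 12 ∨ (Subgroup.center G).index = 24 ∨ (Subgroup.center G).index = 60 := by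
  obtain ⟨d, ρ, hρ, hρχ⟩ := id χ.2
  haveI := hρ
  have hd : d = 2 := by
    have h : Cfsg.charDegree (χ : G → ℂ) = d := by
      rw [Cfsg.charDegree, ← hρχ, Representation.char_one, Module.finrank_fin_fun]
      simp
    omega
  have hinj : Function.Injective ρ := by
    intro a b hab
    refine inv_mul_eq_one.1 (hfaith _ ?_)
    rw [← hρχ, CfsgLib.Codegree.char_eq_one_iff, map_mul, ← hab, ← map_mul, inv_mul_cancel, map_one]
  exact CfsgLib.PrimitiveTwo.center_index hd ρ hinj fun H hH θ hθ he =>
    hprim H hH θ hθ (hρχ.symm.trans he)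

end Cfsg.Agent.S4473
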