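import Cfsg.Statements.S4476
import Cfsg.Agent.InvolutionCount.Basic

set_option autoImplicit false
set_option linter.style.haveILetI false
open Cfsg
open scoped ComplexConjugate

namespace Cfsg.Agent.S4476

/-- Let G be a finite group of even order g with exactly t involutions, and put α = (g − 1)/t (a rational number). Then (a) some non-identity element x of G has at most α² conjugates; and (b) some non-principal real-valued irreducible character of G has degree at most α. -/
theorem result {G : Type*} [Group G] [Fintype G] (heven : Even (Nat.card G)) (t : ℕ) (ht : Nat.card {x : G // orderOf x = 2} = t) : (∃ x : G, x ≠ 1 ∧ ((Subgroup.centralizer ({x} : Set G)).index : ℚ) ≤ (((Nat.card G : ℚ) - 1) / t) ^ 2) ∧ ∃ χ : Cfsg.IrrCharacter G, (χ : G → ℂ) ≠ (fun _ => 1) ∧ (∀ g : G, ((χ : G → ℂ) g).im = 0) ∧ (Cfsg.charDegree (χ : G → ℂ) : ℚ) ≤ ((Nat.card G : ℚ) - 1) / t := by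
  classical
  have htpos : 0 < t := by
    obtain ⟨x, hx⟩ := exists_prime_orderOf_dvd_card' (G := G) 2 (even_iff_two_dvd.1 heven)
    haveI : Nonempty {x : G // orderOf x = 2} := ⟨⟨x, hx⟩⟩
    exact ht ▸ Nat.card_pos
  set α : ℚ := ((Nat.card G : ℚ) - 1) / t with hα
  set s := CfsgLib.InvolutionCount.realNonprincipal (G := G) with hs
  have h1 : (t : ℚ) ≤ ∑ χ ∈ s, (Cfsg.charDegree (χ : G → ℂ) : ℚ) := by
    rw [← ht]; exact_mod_cast CfsgLib.InvolutionCount.involutions_le_sum (G := G)
  have h2 : ∑ χ ∈ s, (Cfsg.charDegree (χ : G → ℂ) : ℚ) ^ 2 ≤ (Nat.card G : ℚ) - 1 := by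
    rw [le_sub_iff_add_le]; exact_mod_cast CfsgLib.InvolutionCount.sum_sq_realNonprincipal (G := G)
  have htq : (0 : ℚ) < t := Nat.cast_pos.2 htpos
  have hαt : α * t = (Nat.card G : ℚ) - 1 := div_mul_cancel₀ _ htq.ne'
  constructor
  · by_contra hne
    push Not at hne
    have h3 : ((t : ℚ) ^ 2) ≤ ((Nat.card (ConjClasses G) : ℚ) - 1) * ((Nat.card G : ℚ) - 1) := by
      calc (t : ℚ) ^ 2 ≤ (∑ χ ∈ s, (Cfsg.charDegree (χ : G → ℂ) : ℚ)) ^ 2 :=
            pow_le_pow_left₀ htq.le h1 2
        _ ≤ (s.card : ℚ) * ∑ χ ∈ s, (Cfsg.charDegree (χ : G → ℂ) : ℚ) ^ 2 :=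
            sq_sum_le_card_mul_sum_sq
        _ ≤ _ := by
            refine mul_le_mul ?_ h2 (Finset.sum_nonneg fun _ _ => sq_nonneg _) ?_
            · rw [le_sub_iff_add_le]
              exact_mod_cast CfsgLib.InvolutionCount.card_realNonprincipal_lt (G := G)
            · have : (1 : ℚ) ≤ Nat.card (ConjClasses G) := by exact_mod_cast Nat.card_pos
              linarith
    -- the class count is the average centralizer order
    have h4 : ∑ x : G, (Nat.card (Subgroup.centralizer ({x} : Set G)) : ℚ) =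
        (Nat.card (ConjClasses G) : ℚ) * Nat.card G := by
      have e := card_comm_eq_card_conjClasses_mul_card G
      rw [← Nat.cast_sum, ← Nat.cast_mul, ← e, Nat.cast_inj, ← Nat.card_sigma]
      exact Nat.card_congr ⟨fun p => ⟨(p.1, p.2.1),
          (Subgroup.mem_centralizer_singleton_iff.1 p.2.2).symm⟩,
        fun p => ⟨p.1.1, ⟨p.1.2, Subgroup.mem_centralizer_singleton_iff.2 p.2.symm⟩⟩,
        fun _ => rfl, fun _ => rfl⟩
    have hG1 : (1 : ℚ) < Nat.card G := by
      obtain ⟨x, hx⟩ := exists_prime_orderOf_dvd_card' (G := G) 2 (even_iff_two_dvd.1 heven)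
      exact_mod_cast (show 1 < Nat.card G from
        Finite.one_lt_card_iff_nontrivial.2 ⟨x, 1, fun h => by simp [h] at hx⟩)
    have hαpos : 0 < α := div_pos (by linarith) htq
    have h5 : ∀ x : G, x ≠ 1 →
        (Nat.card (Subgroup.centralizer ({x} : Set G)) : ℚ) < (Nat.card G : ℚ) / α ^ 2 := by
      intro x hx
      have h6 := hne x hx
      have hC : (0 : ℚ) < Nat.card (Subgroup.centralizer ({x} : Set G)) :=
        Nat.cast_pos.2 Nat.card_pos
      rw [lt_div_iff₀ (pow_pos hαpos 2), ← Subgroup.card_mul_index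
        (Subgroup.centralizer ({x} : Set G)), Nat.cast_mul]
      exact mul_lt_mul_of_pos_left h6 hC
    have h7 : ((Nat.card (ConjClasses G) : ℚ) - 1) * Nat.card G <
        ((Nat.card G : ℚ) - 1) * ((Nat.card G : ℚ) / α ^ 2) := by
      rw [sub_mul, ← h4, one_mul, ← Finset.add_sum_erase _ _ (Finset.mem_univ (1 : G))]
      have e1 : Subgroup.centralizer ({1} : Set G) = ⊤ :=
        Subgroup.ext fun y => by simp [Subgroup.mem_centralizer_singleton_iff]
      rw [e1, Subgroup.card_top, add_sub_cancel_left]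
      have e2 : ((Finset.univ.erase (1 : G)).card : ℚ) = (Nat.card G : ℚ) - 1 := by
        rw [Finset.card_erase_of_mem (Finset.mem_univ _), Finset.card_univ,
          Nat.card_eq_fintype_card, Nat.cast_sub Fintype.card_pos, Nat.cast_one]
      rw [← e2, ← nsmul_eq_mul, ← Finset.sum_const]
      refine Finset.sum_lt_sum_of_nonempty ?_ fun x hx => h5 x (Finset.mem_erase.1 hx).1
      rw [← Finset.card_pos, ← Nat.cast_pos (α := ℚ), e2]
      linarith
    have h8 : ((Nat.card (ConjClasses G) : ℚ) - 1) * ((Nat.card G : ℚ) - 1) < (t : ℚ) ^ 2 := by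
      have hg : (0 : ℚ) < Nat.card G := by linarith
      have h9 : ((Nat.card (ConjClasses G) : ℚ) - 1) < (t : ℚ) ^ 2 / ((Nat.card G : ℚ) - 1) := by
        refine lt_of_mul_lt_mul_right (lt_of_lt_of_eq h7 ?_) hg.le
        rw [hα]
        field_simp
      exact (lt_div_iff₀ (by linarith)).1 h9
    linarith
  · have hne : s.Nonempty := by
      rw [Finset.nonempty_iff_ne_empty]
      intro he
      rw [he, Finset.sum_empty] at h1
      linarith
    obtain ⟨χ, hχ, hle⟩ : ∃ χ ∈ s, (Cfsg.charDegree (χ : G → ℂ) : ℚ) ≤ α := by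
      by_contra hall
      push Not at hall
      have h10 : ∑ χ ∈ s, α * (Cfsg.charDegree (χ : G → ℂ) : ℚ) <
          ∑ χ ∈ s, (Cfsg.charDegree (χ : G → ℂ) : ℚ) ^ 2 := by
        refine Finset.sum_lt_sum_of_nonempty hne fun χ hχ => ?_
        rw [sq]
        exact mul_lt_mul_of_pos_right (hall χ hχ)
          (Nat.cast_pos.2 (Nat.pos_of_ne_zero (CfsgLib.Blocks.charDegree_ne_zero χ)))
      rw [← Finset.mul_sum] at h10
      have hα0 : 0 ≤ α := div_nonneg (by
        rw [sub_nonneg]; exact_mod_cast Nat.card_pos) htq.le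
      nlinarith [mul_le_mul_of_nonneg_left h1 hα0]
    exact ⟨χ, (Finset.mem_filter.1 hχ).2.1, (Finset.mem_filter.1 hχ).2.2, hle⟩

end Cfsg.Agent.S4476
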