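import Cfsg.Statements.S4478
import Cfsg.Agent.InvolutionCount.Basic

set_option autoImplicit false
set_option linter.style.haveILetI false
open Cfsg
open scoped ComplexConjugate

namespace Cfsg.Agent.S4478

/-- Let G be a finite group of even order and χ an irreducible character of G whose degree x is divisible by the full power of 2 dividing the order of G and, for every odd prime p such that G has an element of order 2p, by the full power of p dividing the order of G. Then all involutions of G are conjugate, the centralizer of every involution has order exactly x with x coprime to its index, and the Frobenius–Schur indicator of χ equals 1. -/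
theorem result {G : Type*} [Group G] [Fintype G] (heven : Even (Nat.card G)) (χ : Cfsg.IrrCharacter G) (h2 : 2 ^ (Nat.card G).factorization 2 ∣ Cfsg.charDegree (χ : G → ℂ)) (hp : ∀ p : ℕ, p.Prime → p ≠ 2 → (∃ g : G, orderOf g = 2 * p) → p ^ (Nat.card G).factorization p ∣ Cfsg.charDegree (χ : G → ℂ)) : (∀ s t : G, orderOf s = 2 → orderOf t = 2 → IsConj s t) ∧ (∀ s : G, orderOf s = 2 → Nat.card (Subgroup.centralizer ({s} : Set G)) = Cfsg.charDegree (χ : G → ℂ) ∧ (Nat.card (Subgroup.centralizer ({s} : Set G))).Coprime (Subgroup.centralizer ({s} : Set G)).index) ∧ (Nat.card G : ℂ)⁻¹ * ∑ g : G, (χ : G → ℂ) (g * g) = 1 := by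
  classical
  set d := Cfsg.charDegree (χ : G → ℂ) with hd
  have hdc := CfsgLib.Blocks.charDegree_cast χ
  rw [← hd] at hdc
  have hd0 : d ≠ 0 := CfsgLib.Blocks.charDegree_ne_zero χ
  have h2d : 2 ∣ d := (dvd_pow_self 2 (Nat.Prime.factorization_pos_of_dvd Nat.prime_two
    Nat.card_pos.ne' (even_iff_two_dvd.1 heven)).ne').trans h2
  have hv2 : ∀ g : G, 2 ∣ orderOf g → (χ : G → ℂ) g = 0 := fun g hg =>
    CfsgLib.InvolutionCount.char_eq_zero_of_dvd_orderOf χ h2 hg
  have hvp : ∀ g : G, 2 ∣ orderOf g → ∀ p : ℕ, p.Prime → p ≠ 2 → p ∣ orderOf g →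
      p ^ (Nat.card G).factorization p ∣ d := by
    intro g hg p hpp hp2 hpg
    refine hp p hpp hp2 ⟨g ^ (orderOf g / (2 * p)), ?_⟩
    exact orderOf_pow_orderOf_div (orderOf_pos g).ne'
      (Nat.Coprime.mul_dvd_of_dvd_of_dvd ((Nat.coprime_primes Nat.prime_two hpp).2
        (Ne.symm hp2)) hg hpg)
  -- values at squares
  have hsq : ∀ g : G, (χ : G → ℂ) (g * g) =
      (if ¬ 2 ∣ orderOf g then (χ : G → ℂ) (g * g) else 0) +
        if orderOf g = 2 then (d : ℂ) else 0 := by
    intro g
    by_cases hg : 2 ∣ orderOf g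
    · rw [if_neg (not_not.2 hg), zero_add]
      by_cases h : orderOf g = 2
      · rw [if_pos h, ← pow_two, ← h, pow_orderOf_eq_one, hdc]
      · rw [if_neg h, ← pow_two]
        obtain ⟨m, hm⟩ := hg
        have hsqo : orderOf (g ^ 2) = m := by
          rw [orderOf_pow' _ two_ne_zero, hm, Nat.gcd_mul_right_left,
            Nat.mul_div_cancel_left _ two_pos]
        have hm1 : m ≠ 1 := fun h1 => h (by rw [hm, h1])
        obtain ⟨p, hpp, hpm⟩ := Nat.exists_prime_and_dvd hm1
        by_cases hp2 : p = 2
        · exact hv2 _ (by rw [hsqo, ← hp2]; exact hpm)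
        · haveI := Fact.mk hpp
          exact CfsgLib.InvolutionCount.char_eq_zero_of_dvd_orderOf χ
            (hvp g ⟨m, hm⟩ p hpp hp2 (hm ▸ hpm.mul_left 2)) (by rw [hsqo]; exact hpm)
    · rw [if_pos hg, if_neg (fun h => hg (by rw [h])), add_zero]
  set t := Nat.card {x : G // orderOf x = 2} with ht
  have hone : Cfsg.classInner (χ : G → ℂ) (fun _ => 1) = 0 := by
    refine CfsgLib.Characters.classInner_isIrr_ne χ.2 CfsgLib.InvolutionCount.isPrincipal_one
      fun he => ?_
    rw [he] at hdc
    simp only at hdc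
    have : d = 1 := by exact_mod_cast hdc
    rw [this] at h2d
    omega
  have hsum0 : ∑ g : G, (χ : G → ℂ) g = 0 := by
    rw [Cfsg.classInner, mul_eq_zero] at hone
    simpa using hone.resolve_left (inv_ne_zero (Nat.cast_ne_zero.2 Nat.card_pos.ne'))
  have hodd : ∑ g : G, (if ¬ 2 ∣ orderOf g then (χ : G → ℂ) (g * g) else 0) = 0 := by
    refine Eq.trans ?_ hsum0
    rw [← Finset.sum_filter]
    rw [← Finset.sum_filter_of_ne (s := Finset.univ) (f := fun g : G => (χ : G → ℂ) g)
      (p := fun g : G => ¬ 2 ∣ orderOf g) fun g _ hg h => hg (hv2 g h)]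
    have hpow : ∀ g : G, ¬ 2 ∣ orderOf g → (g * g) ^ ((orderOf g + 1) / 2) = g := by
      intro g hg
      rw [← pow_two, ← pow_mul, show 2 * ((orderOf g + 1) / 2) = orderOf g + 1 by omega,
        pow_succ, pow_orderOf_eq_one, one_mul]
    have hsqodd : ∀ g : G, ¬ 2 ∣ orderOf g → orderOf (g * g) = orderOf g := by
      intro g hg
      rw [← pow_two, Nat.Coprime.orderOf_pow]
      exact ((Nat.prime_two.coprime_iff_not_dvd).2 hg).symm
    refine Finset.sum_bij' (fun g _ => g * g) (fun g _ => g ^ ((orderOf g + 1) / 2))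
      ?_ ?_ ?_ ?_ ?_
    · intro g hg
      simp only [Finset.mem_filter, Finset.mem_univ, true_and] at hg ⊢
      rwa [hsqodd g hg]
    · intro g hg
      simp only [Finset.mem_filter, Finset.mem_univ, true_and] at hg ⊢
      exact fun h => hg (h.trans (orderOf_pow_dvd _))
    · intro g hg
      simp only [Finset.mem_filter, Finset.mem_univ, true_and] at hg
      simp only [hsqodd g hg]
      exact hpow g hg
    · intro g hg
      simp only [Finset.mem_filter, Finset.mem_univ, true_and] at hg
      rw [← (Commute.refl g).mul_pow]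
      exact hpow g hg
    · exact fun g _ => rfl
  have hS : ∑ g : G, (χ : G → ℂ) (g * g) = (t : ℂ) * (d : ℂ) := by
    rw [Finset.sum_congr rfl fun g _ => hsq g, Finset.sum_add_distrib, hodd, zero_add,
      ← Finset.sum_filter, Finset.sum_const, nsmul_eq_mul, ht, Nat.card_eq_fintype_card,
      Fintype.card_subtype]
  obtain ⟨s₀, hs₀⟩ := exists_prime_orderOf_dvd_card' (G := G) 2 (even_iff_two_dvd.1 heven)
  have htpos : 0 < t := by
    haveI : Nonempty {x : G // orderOf x = 2} := ⟨⟨s₀, hs₀⟩⟩
    exact Nat.card_pos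
  have hG0 : (Nat.card G : ℂ) ≠ 0 := Nat.cast_ne_zero.2 Nat.card_pos.ne'
  have hν : (Nat.card G : ℂ)⁻¹ * ∑ g : G, (χ : G → ℂ) (g * g) = 1 := by
    have hcases := CfsgLib.SquareRoots.indicator_cases χ.2
    rw [CfsgLib.SquareRoots.indicator, finsum_eq_sum_of_fintype] at hcases
    have hne : ((t : ℂ) * (d : ℂ)) ≠ 0 :=
      mul_ne_zero (Nat.cast_ne_zero.2 htpos.ne') (Nat.cast_ne_zero.2 hd0)
    rcases hcases with e | e | e
    · rw [hS, mul_eq_zero] at e
      exact absurd (e.resolve_left (inv_ne_zero hG0)) hne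
    · exact e
    · exfalso
      rw [hS, inv_mul_eq_iff_eq_mul₀ hG0, mul_neg, mul_one, eq_neg_iff_add_eq_zero] at e
      have : t * d + Nat.card G = 0 := by exact_mod_cast e
      have := Nat.card_pos (α := G)
      omega
  have hgt : Nat.card G = t * d := by
    have e := hν
    rw [hS, inv_mul_eq_iff_eq_mul₀ hG0, mul_one] at e
    exact_mod_cast e.symm
  have key : ∀ s : G, orderOf s = 2 →
      Nat.card (Subgroup.centralizer ({s} : Set G)) = d ∧
      (Nat.card (Subgroup.centralizer ({s} : Set G))).Coprime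
        (Subgroup.centralizer ({s} : Set G)).index := by
    intro s hs
    set C := Subgroup.centralizer ({s} : Set G) with hC
    have hfull : ∀ p : ℕ, p.Prime → p ∣ Nat.card C → p ^ (Nat.card G).factorization p ∣ d := by
      intro p hpp hpC
      rcases eq_or_ne p 2 with rfl | hp2
      · exact h2
      · haveI := Fact.mk hpp
        obtain ⟨y, hy⟩ := exists_prime_orderOf_dvd_card' (G := C) p hpC
        have hcomm : Commute s (y : G) :=
          (Subgroup.mem_centralizer_singleton_iff.1 y.2).symm
        refine hvp (s * y) ?_ p hpp hp2 ?_ <;>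
          rw [hcomm.orderOf_mul_eq_mul_orderOf_of_coprime (by
            rw [hs, Subgroup.orderOf_coe, hy]
            exact (Nat.coprime_primes Nat.prime_two hpp).2 (Ne.symm hp2)),
            hs, Subgroup.orderOf_coe, hy]
        · exact dvd_mul_right _ _
        · exact dvd_mul_left _ _
    have hdvd : Nat.card C ∣ d := by
      rw [← Nat.factorization_le_iff_dvd Nat.card_pos.ne' hd0]
      intro p
      by_cases hpp : p.Prime
      · by_cases hpC : p ∣ Nat.card C
        · exact ((Nat.factorization_le_iff_dvd Nat.card_pos.ne' Nat.card_pos.ne').2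
            C.card_subgroup_dvd_card p).trans
              ((Nat.Prime.pow_dvd_iff_le_factorization hpp hd0).1 (hfull p hpp hpC))
        · rw [Nat.factorization_eq_zero_of_not_dvd hpC]; exact Nat.zero_le _
      · rw [Nat.factorization_eq_zero_of_not_prime _ hpp]; exact Nat.zero_le _
    have hcl : C.index ≤ t := by
      rw [hC, ← CfsgLib.Blocks.natCard_class s, ht]
      refine Nat.card_le_card_of_injective (fun x => ⟨x.1, ?_⟩) fun a b h =>
        Subtype.ext (congrArg (fun z : {x : G // orderOf x = 2} => z.1) h)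
      obtain ⟨c, hc⟩ := isConj_iff.1 (ConjClasses.mk_eq_mk_iff_isConj.1 x.2)
      rw [show c * x.1 * c⁻¹ = MulAut.conj c x.1 from rfl] at hc
      rw [← MulEquiv.orderOf_eq (MulAut.conj c) x.1, hc, hs]
    have hmul := Subgroup.card_mul_index C
    rw [hgt] at hmul
    have hle := Nat.le_of_dvd (Nat.pos_of_ne_zero hd0) hdvd
    have heq : Nat.card C = d := le_antisymm hle (by
      by_contra hlt
      push Not at hlt
      nlinarith [Nat.mul_le_mul_left (Nat.card C) hcl, mul_lt_mul_of_pos_left hlt htpos])
    refine ⟨heq, Nat.coprime_of_dvd fun p hpp hpC hpI => ?_⟩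
    have h3 := Nat.mul_dvd_mul (hfull p hpp hpC) hpI
    rw [← heq, Subgroup.card_mul_index, ← pow_succ] at h3
    exact Nat.pow_succ_factorization_not_dvd Nat.card_pos.ne' hpp h3
  refine ⟨fun s u hs hu => ?_, key, hν⟩
  have hidx : (Subgroup.centralizer ({s} : Set G)).index = t := by
    have := Subgroup.card_mul_index (Subgroup.centralizer ({s} : Set G))
    rw [(key s hs).1, hgt, mul_comm t] at this
    exact Nat.eq_of_mul_eq_mul_left (Nat.pos_of_ne_zero hd0) this
  by_contra hnc
  have hlt : (Subgroup.centralizer ({s} : Set G)).index < t := by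
    rw [← CfsgLib.Blocks.natCard_class s, ht, Nat.card_eq_fintype_card, Fintype.card_subtype,
      Nat.card_eq_fintype_card, Fintype.card_subtype]
    refine Finset.card_lt_card ((Finset.ssubset_iff_of_subset ?_).2 ⟨u, ?_, ?_⟩)
    · intro x hx
      simp only [Finset.mem_filter, Finset.mem_univ, true_and] at hx ⊢
      obtain ⟨c, hc⟩ := isConj_iff.1 (ConjClasses.mk_eq_mk_iff_isConj.1 hx)
      rw [show c * x * c⁻¹ = MulAut.conj c x from rfl] at hc
      rw [← MulEquiv.orderOf_eq (MulAut.conj c) x, hc, hs]
    · simp [hu]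
    · simp only [Finset.mem_filter, Finset.mem_univ, true_and]
      exact fun h => hnc (ConjClasses.mk_eq_mk_iff_isConj.1 h).symm
  omega

end Cfsg.Agent.S4478
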