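import Cfsg.Statements.S4480
import Cfsg.Agent.BlocksFrobenius.KleinFormula

set_option autoImplicit false
set_option linter.style.haveILetI false
open Cfsg

namespace Cfsg.Agent.S4480

/-- Same setting as the Klein-four order formula: G of order 4·g₀ (g₀ odd) with no normal 2-complement, P a Sylow 2-subgroup, J an involution of P, M over 2, principal 2-block {1, χ₁, χ₂, χ₃} with χ_i(J) = ε_i = ±1. Suppose ε₁ε₂ε₃ = −1 and ε₃ = −1, and put q = x₃ = χ₃(1). Then there is a natural number m with 4·c(J) = m·c(P)·(q + 1), and the order of G equals (m³·c(P)/4)·(q³ − q)/2, that is 8·#G = m³·c(P)·(q³ − q). -/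
theorem result {G : Type*} [Group G] [Finite G] (M : Ideal Cfsg.AlgInt) (hM : Cfsg.IsPModular 2 M) (g₀ : ℕ) (hg₀ : Odd g₀) (hG : Nat.card G = 4 * g₀) (hnc : ¬ ∃ N : Subgroup G, N.Normal ∧ Nat.card N = g₀) (P : Sylow 2 G) (J : G) (hJ : J ∈ (P : Subgroup G)) (hJ2 : orderOf J = 2) (χ₁ χ₂ χ₃ : Cfsg.IrrCharacter G) (ε₁ ε₂ ε₃ : ℤ) (hB : Cfsg.principalBlock M G = {χ : Cfsg.IrrCharacter G | (χ : G → ℂ) = (fun _ => 1) ∨ χ = χ₁ ∨ χ = χ₂ ∨ χ = χ₃}) (hdist : (χ₁ : G → ℂ) ≠ (fun _ => 1) ∧ (χ₂ : G → ℂ) ≠ (fun _ => 1) ∧ (χ₃ : G → ℂ) ≠ (fun _ => 1) ∧ χ₁ ≠ χ₂ ∧ χ₁ ≠ χ₃ ∧ χ₂ ≠ χ₃) (hε : (ε₁ = 1 ∨ ε₁ = -1) ∧ (ε₂ = 1 ∨ ε₂ = -1) ∧ (ε₃ = 1 ∨ ε₃ = -1)) (hval : (χ₁ : G → ℂ) J = ε₁ ∧ (χ₂ : G → ℂ) J = ε₂ ∧ (χ₃ : G → ℂ) J = ε₃) (hprod : ε₁ * ε₂ * ε₃ = -1) (hε₃ : ε₃ = -1) : ∃ m : ℕ, 4 * Nat.card (Subgroup.centralizer ({J} : Set G)) = m * Nat.card (Subgroup.centralizer ((P : Subgroup G) : Set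 G)) * (Cfsg.charDegree (χ₃ : G → ℂ) + 1) ∧ 8 * Nat.card G = m ^ 3 * Nat.card (Subgroup.centralizer ((P : Subgroup G) : Set G)) * (Cfsg.charDegree (χ₃ : G → ℂ) ^ 3 - Cfsg.charDegree (χ₃ : G → ℂ)) := by
  haveI := Fintype.ofFinite G
  haveI := CfsgLib.Blocks.IsPModular.isPrime hM
  obtain ⟨hK, hone⟩ := CfsgLib.BlocksFrobenius.Klein.klein_and_one_class hg₀ hG hnc P
  have D : CfsgLib.BlocksFrobenius.Klein.FourData M P J χ₁ χ₂ χ₃ ε₁ ε₂ ε₃ :=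
    ⟨hM, hK, hone, hJ, hJ2, hB, hdist, hε, hval⟩
  obtain ⟨rfl, rfl, hd12, hd3⟩ := D.shape hprod hε₃
  subst hε₃
  have h := D.order_eq
  simp only [← hd12, hd3] at h
  set a := Cfsg.charDegree (χ₁ : G → ℂ) with ha
  set cJ := Nat.card (Subgroup.centralizer ({J} : Set G)) with hcJ
  set cP := Nat.card (Subgroup.centralizer ((P : Subgroup G) : Set G)) with hcP
  have ha0 : 0 < a := Nat.pos_of_ne_zero (CfsgLib.Blocks.charDegree_ne_zero χ₁)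
  have hcP0 : 0 < cP := Nat.card_pos
  obtain ⟨n, hn⟩ : cP ∣ cJ := by
    refine Subgroup.card_dvd_of_le fun x hx => ?_
    exact Subgroup.mem_centralizer_singleton_iff.2 (Subgroup.mem_centralizer_iff.1 hx J hJ).symm
  obtain ⟨i, hi⟩ : cJ ∣ Nat.card G := Subgroup.card_subgroup_dvd_card _
  have h4 : Nat.card G * (a + 1) ^ 2 = 4 * cP * n ^ 3 * a * (2 * a + 1) := by
    have hq : ((Nat.card G : ℚ) * (cP : ℚ) ^ 2 * (2 * a)) * ((a : ℚ) + 1) ^ 2 =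
        ((cP : ℚ) ^ 2 * (2 * a)) * (4 * cP * n ^ 3 * a * (2 * a + 1)) := by
      have : (cJ : ℚ) = cP * n := by rw [hn]; push_cast; ring
      rw [this] at h
      push_cast at h
      linear_combination h
    have hne : (cP : ℚ) ^ 2 * (2 * a) ≠ 0 := by positivity
    have : ((Nat.card G * (a + 1) ^ 2 : ℕ) : ℚ) = ((4 * cP * n ^ 3 * a * (2 * a + 1) : ℕ) : ℚ) := by
      push_cast
      apply mul_left_cancel₀ hne
      linear_combination hq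
    exact_mod_cast this
  have hn0 : 0 < n := Nat.pos_of_ne_zero fun h0 => by
    rw [h0, mul_zero] at hn; exact Nat.card_pos.ne' hn
  have h5 : i * (a + 1) ^ 2 = (2 * n) ^ 2 * (a * (2 * a + 1)) := by
    rw [hi, hn] at h4
    apply Nat.eq_of_mul_eq_mul_left (Nat.mul_pos hcP0 hn0)
    linear_combination h4
  have hco : Nat.Coprime ((a + 1) ^ 2) (a * (2 * a + 1)) := by
    refine Nat.Coprime.pow_left 2 (Nat.Coprime.mul_right ?_ ?_)
    · exact Nat.coprime_self_add_left.2 (Nat.coprime_one_left a)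
    · rw [show 2 * a + 1 = a + (a + 1) by ring, Nat.coprime_add_self_right]
      exact Nat.coprime_self_add_left.2 (Nat.coprime_one_left a)
  obtain ⟨m, hm⟩ : a + 1 ∣ 2 * n :=
    (Nat.pow_dvd_pow_iff two_ne_zero).1 (hco.dvd_of_dvd_mul_right (Dvd.intro_left i h5))
  refine ⟨m, ?_, ?_⟩
  · rw [hn, hd3]
    linear_combination (2 * cP) * hm
  · rw [hd3]
    have hcube : (2 * a + 1) ^ 3 - (2 * a + 1) = 4 * a * (a + 1) * (2 * a + 1) :=
      Nat.sub_eq_of_eq_add (by ring)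
    rw [hcube]
    have hm3 : (2 * n) ^ 3 = ((a + 1) * m) ^ 3 := by rw [hm]
    apply Nat.eq_of_mul_eq_mul_right (show 0 < (a + 1) ^ 2 by positivity)
    linear_combination 8 * h4 + (4 * cP * a * (2 * a + 1)) * hm3

end Cfsg.Agent.S4480
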