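import Cfsg.Statements.S4483
import Cfsg.Agent.BlockPairing.RegularInner
import Cfsg.Agent.BlockPairing.TwoBlocks
import Cfsg.Agent.BlocksCharsC.RegularSupport

set_option autoImplicit false
open Cfsg

namespace Cfsg.Agent.S4483

/-- Let G be a finite group of order 2^n·g₀ with g₀ odd, and M a maximal ideal of the algebraic integers containing 2. Every real-valued irreducible character of G of odd degree lies in the principal 2-block; consequently G has at most 2^(2n) real-valued irreducible characters of odd degree. -/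
theorem result {G : Type*} [Group G] [Finite G] (M : Ideal Cfsg.AlgInt) (hM : Cfsg.IsPModular 2 M) : (∀ χ : Cfsg.IrrCharacter G, (∀ g : G, ((χ : G → ℂ) g).im = 0) → Odd (Cfsg.charDegree (χ : G → ℂ)) → χ ∈ Cfsg.principalBlock M G) ∧ Nat.card {χ : Cfsg.IrrCharacter G // (∀ g : G, ((χ : G → ℂ) g).im = 0) ∧ Odd (Cfsg.charDegree (χ : G → ℂ))} ≤ 2 ^ (2 * (Nat.card G).factorization 2) := by
  cases nonempty_fintype G
  haveI := CfsgLib.Blocks.IsPModular.isPrime hM
  haveI : Fact (Nat.Prime 2) := ⟨Nat.prime_two⟩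
  have hmem : ∀ χ : Cfsg.IrrCharacter G, (∀ g : G, ((χ : G → ℂ) g).im = 0) →
      Odd (Cfsg.charDegree (χ : G → ℂ)) → χ ∈ Cfsg.principalBlock M G := by
    intro χ him hodd
    refine CfsgLib.BlockPairing.mem_principalBlock_of_inv hM χ hodd fun g _ _ => ?_
    simp only [CfsgLib.BlockPairing.redVal]
    congr 1
    apply Subtype.ext
    show (χ : G → ℂ) g⁻¹ = (χ : G → ℂ) g
    rw [CfsgLib.Characters.character_inv (CfsgLib.Characters.isCharacter_of_isIrr χ.2)]
    exact Complex.conj_eq_iff_im.2 (him g)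
  refine ⟨hmem, ?_⟩
  set B := Cfsg.principalBlock M G with hBdef
  have hB : Cfsg.IsPBlock M B := CfsgLib.BlocksCharsC.isPBlock_principalBlock
  have hd : Cfsg.blockDefect 2 B = (Nat.card G).factorization 2 := by
    have h1 : CfsgLib.BlocksCharsC.trivialIrr G ∈ B := by
      rw [hBdef, CfsgLib.BlocksCharsC.principalBlock_eq]
      exact CfsgLib.Blocks.mem_blockOf_self (M := M) (CfsgLib.BlocksCharsC.trivialIrr G)
    have h2 := CfsgLib.BlockPairing.factorization_sub_le_blockDefect (p := 2) h1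
    have h3 : Cfsg.charDegree (CfsgLib.BlocksCharsC.trivialIrr G : G → ℂ) = 1 := by
      simp [Cfsg.charDegree, CfsgLib.BlocksCharsC.trivialIrr]
    rw [h3, Nat.factorization_one, Finsupp.zero_apply, Nat.sub_zero] at h2
    exact le_antisymm (Nat.sub_le _ _) h2
  have h := CfsgLib.BlockPairing.card_block_le hM hB
  rw [hd] at h
  have hpos : 1 ≤ 2 ^ (2 * (Nat.card G).factorization 2) := Nat.one_le_two_pow
  have hsub : {χ : Cfsg.IrrCharacter G | (∀ g : G, ((χ : G → ℂ) g).im = 0) ∧
      Odd (Cfsg.charDegree (χ : G → ℂ))} ⊆ B := fun χ hχ => hmem χ hχ.1 hχ.2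
  refine le_trans (Nat.card_mono (Set.toFinite B) hsub) ?_
  omega

end Cfsg.Agent.S4483
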