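import Cfsg.Statements.S4484
import Cfsg.Agent.SixtyDegree.Cofactor

set_option autoImplicit false
open Cfsg

namespace Cfsg.Agent.S4484

/-- A refinement of Burnside's result on simple groups of order divisible by only two primes. Let G be a finite simple group of order p^a · q^b · g₀ with p, q distinct primes, a > 0, g₀ coprime to p and q, and the order of G different from p. Then g₀ − 1 > log p / log 6, that is 6^(g₀ − 1) > p. -/
theorem result {G : Type*} [Group G] [Finite G] [IsSimpleGroup G] (p q a b g₀ : ℕ) (hp : p.Prime) (hq : q.Prime) (hpq : p ≠ q) (ha : 0 < a) (hg : Nat.card G = p ^ a * q ^ b * g₀) (hcop : ¬ p ∣ g₀) (hcoq : ¬ q ∣ g₀) (hne : Nat.card G ≠ p) : p < 6 ^ (g₀ - 1) := by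
  classical
  haveI := Fintype.ofFinite G
  refine lt_of_le_of_ne (CfsgLib.SixtyDegree.prime_le_six_pow hp hq hpq ha hg hcop hne) fun h => ?_
  rcases Nat.eq_zero_or_pos (g₀ - 1) with h0 | h0
  · rw [h0, pow_zero] at h
    exact hp.one_lt.ne' h
  · have h2 : 2 ∣ p := h ▸ (dvd_pow (by norm_num : 2 ∣ 6) h0.ne')
    have h3 : 3 ∣ p := h ▸ (dvd_pow (by norm_num : 3 ∣ 6) h0.ne')
    have e2 := (Nat.prime_dvd_prime_iff_eq Nat.prime_two hp).1 h2
    have e3 := (Nat.prime_dvd_prime_iff_eq Nat.prime_three hp).1 h3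
    omega

end Cfsg.Agent.S4484
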