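import Cfsg.Statements.S4490
import Cfsg.Agent.BlockPairing.TwoBlocks
import Cfsg.Agent.Blocks.Height
import Cfsg.Agent.BlocksCharsC.RealConstituents

set_option autoImplicit false
open Cfsg

namespace Cfsg.Agent.S4490

/-- Let G be a finite group and M a maximal ideal of the algebraic integers containing 2. Every 2-block B of G whose defect groups are the Sylow 2-subgroups of G (a block of full defect) and which is not the principal block is different from its complex-conjugate block, the block formed by the complex conjugates of the members of B. -/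
theorem result {G : Type*} [Group G] [Finite G] (M : Ideal Cfsg.AlgInt) (hM : Cfsg.IsPModular 2 M) (B : Set (Cfsg.IrrCharacter G)) (hB : Cfsg.IsPBlock M B) (P : Sylow 2 G) (hfull : Cfsg.IsDefectGroup 2 M B (P : Subgroup G)) (hnp : B ≠ Cfsg.principalBlock M G) : {ψ : Cfsg.IrrCharacter G | ∃ χ ∈ B, (ψ : G → ℂ) = fun g => (starRingEnd ℂ) ((χ : G → ℂ) g)} ≠ B := by
  cases nonempty_fintype G
  haveI := CfsgLib.Blocks.IsPModular.isPrime hM
  intro hreal
  obtain ⟨χ, hχ, hdeg⟩ := CfsgLib.Blocks.exists_degree_eq hM hB hfull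
  rw [P.card_eq_multiplicity, Nat.prime_two.factorization_pow, Finsupp.single_eq_same,
    add_eq_right] at hdeg
  have hodd : Odd (Cfsg.charDegree (χ : G → ℂ)) := by
    rw [Nat.odd_iff, ← Nat.two_dvd_ne_zero]
    intro h
    have := Nat.prime_two.factorization_pos_of_dvd (CfsgLib.Blocks.charDegree_ne_zero χ) h
    omega
  refine hnp (CfsgLib.Blocks.isPBlock_eq_of_mem hB ⟨⟨fun _ => 1, CfsgLib.Characters.isIrr_one⟩, rfl⟩
    hχ (CfsgLib.BlockPairing.mem_principalBlock_of_inv hM χ hodd fun g hg _ => ?_))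
  haveI := CfsgLib.Blocks.charP_res hM
  have hstar : Cfsg.IsIrrCharacter G (fun g => (starRingEnd ℂ) ((χ : G → ℂ) g)) := by
    exact CfsgLib.BlocksCharsC.isIrrCharacter_conj χ.2
  have hsame : Cfsg.SameBlock M (χ : G → ℂ) (fun g => (starRingEnd ℂ) ((χ : G → ℂ) g)) := by
    have hm : (⟨_, hstar⟩ : Cfsg.IrrCharacter G) ∈ B := by
      rw [← hreal]; exact ⟨χ, hχ, rfl⟩
    rw [CfsgLib.Blocks.eq_blockOf_of_mem hB hχ] at hm
    exact hm
  have hom := CfsgLib.Blocks.sameBlock_iff χ ⟨_, hstar⟩ |>.1 hsame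
  have h1 := CfsgLib.BlockPairing.omegaBar_classSum_mul (M := M) χ g
  have h2 := CfsgLib.BlockPairing.omegaBar_classSum_mul (M := M) (⟨_, hstar⟩ : Cfsg.IrrCharacter G) g
  have hcg : ∀ y : G, CfsgLib.BlockPairing.redVal M (⟨_, hstar⟩ : Cfsg.IrrCharacter G) y =
      CfsgLib.BlockPairing.redVal M χ y⁻¹ := by
    intro y
    simp only [CfsgLib.BlockPairing.redVal,
      CfsgLib.Characters.character_inv (CfsgLib.Characters.isCharacter_of_isIrr χ.2)]
  rw [hcg, hcg, inv_one] at h2
  rw [← hom] at h2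
  have hidx : ((Subgroup.centralizer ({g} : Set G)).index : CfsgLib.Blocks.Res M) ≠ 0 := by
    rw [Ne, CharP.cast_eq_zero_iff (CfsgLib.Blocks.Res M) 2, Nat.two_dvd_ne_zero, ← Nat.odd_iff]
    exact hg
  exact mul_left_cancel₀ hidx (h2.symm.trans h1)

end Cfsg.Agent.S4490
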