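import Cfsg.Statements.S4492
import Cfsg.Agent.ConstrainedBlock.Principal

set_option autoImplicit false
open Cfsg

namespace Cfsg.Agent.S4492

/-- Let G be a finite p-solvable group, N = O_{p'}(G) its largest normal subgroup of order prime to p, and θ an irreducible character of N invariant under conjugation by G; fix a maximal ideal M of the algebraic integers containing p. Then the irreducible characters of G lying over θ (those whose restriction to N contains θ) form a single p-block of G, and the defect groups of that block are exactly the Sylow p-subgroups of G. -/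
theorem result {G : Type*} [Group G] [Fintype G] (p : ℕ) [Fact p.Prime] (M : Ideal Cfsg.AlgInt) (hM : Cfsg.IsPModular p M) (hsolv : Cfsg.IsPSolvable p G) (N : Subgroup G) [hN : N.Normal] [Fintype N] (hNdef : N = Cfsg.pPrimeCore p G) (θ : Cfsg.IrrCharacter N) (hinv : ∀ (g : G) (n : N), (θ : N → ℂ) ⟨g * n * g⁻¹, hN.conj_mem n n.2 g⟩ = (θ : N → ℂ) n) : ∃ B : Set (Cfsg.IrrCharacter G), Cfsg.IsPBlock M B ∧ (∀ χ : Cfsg.IrrCharacter G, χ ∈ B ↔ Cfsg.classInner (fun n : N => (χ : G → ℂ) n) (θ : N → ℂ) ≠ 0) ∧ (∀ P : Sylow p G, Cfsg.IsDefectGroup p M B (P : Subgroup G)) ∧ ∀ D : Subgroup G, Cfsg.IsDefectGroup p M B D → ∃ P : Sylow p G, D = (P : Subgroup G) := by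
  haveI : M.IsPrime := CfsgLib.Blocks.IsPModular.isPrime hM
  have hcard : ¬ p ∣ Nat.card N := by
    rw [hNdef]
    exact (Nat.Prime.coprime_iff_not_dvd (Fact.out : p.Prime)).1
      (CfsgLib.PLocal.coprime_card_pPrimeCore p G).symm
  set L := Cfsg.pPrimePCore p G with hL
  have hNL : N ≤ L := by
    rw [hNdef]; exact CfsgLib.PLocal.pPrimeCore_le_pPrimePCore p G
  have hq : ∃ k, N.relIndex L = p ^ k := by
    rw [hNdef]; exact CfsgLib.PLocal.relIndex_pPrimeCore_pPrimePCore
  obtain ⟨S⟩ : Nonempty (Sylow p L) := inferInstance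
  have hQ := CfsgLib.Blocks.isSylowIn_map_subtype S
  have hCQ := CfsgLib.PLocal.isPConstrained_of_isPSolvable hsolv S
  have hs := CfsgLib.ConstrainedBlock.setting_of_constrained hcard hNL hq hQ.1 hQ.2.1 hQ.2.2 hCQ
  have hθ : CfsgLib.ConstrainedBlock.Invariant N θ := hinv
  have hB := CfsgLib.ConstrainedBlock.isPBlock_overSet hs hM hθ
  have hdef := CfsgLib.ConstrainedBlock.isDefectGroup_overSet hs hM hθ
  refine ⟨_, hB, fun χ => Iff.rfl, hdef, fun D hD => ?_⟩
  obtain ⟨P⟩ : Nonempty (Sylow p G) := inferInstance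
  obtain ⟨x, hx⟩ := CfsgLib.Blocks.IsDefectGroup.exists_conj hM hB (hdef P) hD
  exact ⟨x • P, by rw [← hx, Sylow.coe_subgroup_smul]; rfl⟩

end Cfsg.Agent.S4492
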