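import Cfsg.Statements.S4495
import Cfsg.Agent.SelfCentralizing.Basic

set_option autoImplicit false
open Cfsg

namespace Cfsg.Agent.S4495

/-- Let the finite group G contain an element x of prime order p with C_G(x) = ⟨x⟩, and let t be the number of conjugacy classes of elements of order p. If t ≠ p − 1 then the commutator subgroup has index at most (p − 1)/t; if t = p − 1 it has index exactly p. -/
theorem result {G : Type*} [Group G] [Finite G] (p : ℕ) (hp : p.Prime) (x : G) (hx : orderOf x = p) (hC : Subgroup.centralizer ({x} : Set G) = Subgroup.zpowers x) (t : ℕ) (ht : Nat.card {C : ConjClasses G // ∃ g ∈ C.carrier, orderOf g = p} = t) : (t ≠ p - 1 → (commutator G).index * t ≤ p - 1) ∧ (t = p - 1 → (commutator G).index = p) := by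
  have h : CfsgLib.SelfCentralizing.Hyp G p x := ⟨hp, hx, hC⟩
  have hte := h.classes_mul_relIndex ht
  constructor
  · intro hne
    have he : (Subgroup.zpowers x).relIndex h.norm ≠ 1 := mt (h.relIndex_eq_one_iff ht).1 hne
    have hd := h.index_commutator_dvd (h.mem_commutator he)
    have hpos : 0 < (Subgroup.zpowers x).relIndex h.norm := Nat.pos_of_ne_zero fun h0 => by
      rw [h0, mul_zero] at hte
      have := hp.two_le
      omega
    rw [← hte, mul_comm t]
    exact Nat.mul_le_mul_right t (Nat.le_of_dvd hpos hd)
  · intro heq
    exact (h.of_relIndex_one ((h.relIndex_eq_one_iff ht).2 heq)).1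

end Cfsg.Agent.S4495
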