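import Cfsg.Statements.S4496
import Cfsg.Agent.SelfCentralizing.Basic

set_option autoImplicit false
open Cfsg

namespace Cfsg.Agent.S4496

/-- Let the finite group G contain an element x of prime order p with C_G(x) = ⟨x⟩. Then: (a) every normal subgroup of order divisible by p contains the commutator subgroup; (b) every normal subgroup S of order prime to p has order dividing the number of subgroups of order p of G and congruent to 1 modulo p, and in G/S the image of x again has prime order p and commutes only with its own powers. -/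
theorem result {G : Type*} [Group G] [Finite G] (p : ℕ) (hp : p.Prime) (x : G) (hx : orderOf x = p) (hC : Subgroup.centralizer ({x} : Set G) = Subgroup.zpowers x) (S : Subgroup G) [S.Normal] : (p ∣ Nat.card S → commutator G ≤ S) ∧ (¬ p ∣ Nat.card S → Nat.card S ∣ Nat.card {H : Subgroup G // Nat.card H = p} ∧ Nat.card S % p = 1 ∧ orderOf (QuotientGroup.mk x : G ⧸ S) = p ∧ Subgroup.centralizer ({(QuotientGroup.mk x : G ⧸ S)} : Set (G ⧸ S)) = Subgroup.zpowers (QuotientGroup.mk x : G ⧸ S)) := by
  have h : CfsgLib.SelfCentralizing.Hyp G p x := ⟨hp, hx, hC⟩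
  refine ⟨fun hd => h.commutator_le_of_mem (h.mem_sylow_generated inferInstance hd), fun hS => ?_⟩
  have hbot := h.inf_norm_eq_bot hS
  have hone : ∀ y, y ∈ S → y ∈ Subgroup.zpowers x → y = 1 := by
    intro y h1 h2
    have hm : y ∈ S ⊓ h.norm := Subgroup.mem_inf.2 ⟨h1, h.le_norm h2⟩
    rwa [hbot, Subgroup.mem_bot] at hm
  haveI : Fact p.Prime := ⟨hp⟩
  have hxS : x ∉ S := fun hm => hp.ne_one (by
    rw [← hx, orderOf_eq_one_iff]; exact hone x hm (Subgroup.mem_zpowers x))
  refine ⟨?_, ?_, ?_, ?_⟩
  · rw [h.card_subgroups]; exact h.card_dvd_index_norm hS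
  · -- fixed points of the conjugation by `x` on `S`
    have hP : IsPGroup p (Subgroup.zpowers x) :=
      IsPGroup.of_card (n := 1) (by rw [h.card_zpowers, pow_one])
    letI : MulAction (Subgroup.zpowers x) S :=
      { smul := fun a s => ⟨(a : G) * s * (a : G)⁻¹, Subgroup.Normal.conj_mem inferInstance _ s.2 _⟩
        one_smul := fun s => Subtype.ext (by show (1 : G) * s * 1⁻¹ = s; group)
        mul_smul := fun a b s => Subtype.ext (by
          show ((a : G) * b) * s * ((a : G) * b)⁻¹ = a * (b * s * (b : G)⁻¹) * (a : G)⁻¹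
          group) }
    have := hP.card_modEq_card_fixedPoints S
    have hfix : MulAction.fixedPoints (Subgroup.zpowers x) S = {1} := by
      ext s
      simp only [MulAction.mem_fixedPoints, Set.mem_singleton_iff]
      refine ⟨fun hs => ?_, ?_⟩
      · have e : x * (s : G) * x⁻¹ = s :=
          congrArg Subtype.val (hs ⟨x, Subgroup.mem_zpowers x⟩)
        rw [mul_inv_eq_iff_eq_mul] at e
        exact Subtype.ext (hone _ s.2 (h.mem_zpowers_of_commute e.symm))
      · rintro rfl a
        exact Subtype.ext (show (a : G) * 1 * (a : G)⁻¹ = 1 by group)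
    rw [hfix, Nat.card_eq_fintype_card (α := ({1} : Set S))] at this
    simp only [Set.card_singleton] at this
    rw [this, Nat.one_mod_eq_one]
    exact hp.ne_one
  · exact orderOf_eq_prime (by rw [← QuotientGroup.mk_pow, ← hx, pow_orderOf_eq_one]; rfl)
      (fun e => hxS ((QuotientGroup.eq_one_iff x).1 e))
  · refine le_antisymm (fun q hq => ?_)
      (Subgroup.zpowers_le.2 (Subgroup.mem_centralizer_singleton_iff.2 rfl))
    obtain ⟨y, rfl⟩ := QuotientGroup.mk_surjective q
    have hq' := Subgroup.mem_centralizer_singleton_iff.1 hq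
    -- `T` is the preimage of the subgroup generated by the image of `x`
    set T := (Subgroup.zpowers (QuotientGroup.mk x : G ⧸ S)).comap (QuotientGroup.mk' S) with hT
    have hxT : x ∈ T := Subgroup.mem_comap.2 (Subgroup.mem_zpowers _)
    have hyT : y * x * y⁻¹ ∈ T := by
      refine Subgroup.mem_comap.2 ?_
      show (QuotientGroup.mk (y * x * y⁻¹) : G ⧸ S) ∈ _
      have : (QuotientGroup.mk (y * x * y⁻¹) : G ⧸ S) = QuotientGroup.mk x := by
        rw [QuotientGroup.mk_mul, QuotientGroup.mk_mul, QuotientGroup.mk_inv, mul_inv_eq_iff_eq_mul]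
        exact hq'
      rw [this]; exact Subgroup.mem_zpowers _
    have hcT : Subgroup.centralizer ({(⟨x, hxT⟩ : T)} : Set T) = Subgroup.zpowers (⟨x, hxT⟩ : T) := by
      refine le_antisymm (fun z hz => ?_)
        (Subgroup.zpowers_le.2 (Subgroup.mem_centralizer_singleton_iff.2 rfl))
      obtain ⟨k, hk⟩ := Subgroup.mem_zpowers_iff.1 (h.mem_zpowers_of_commute (g := (z : G))
        (congrArg Subtype.val (Subgroup.mem_centralizer_singleton_iff.1 hz)))
      exact Subgroup.mem_zpowers_iff.2 ⟨k, Subtype.ext (by simpa using hk)⟩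
    have hTh : CfsgLib.SelfCentralizing.Hyp T p ⟨x, hxT⟩ :=
      ⟨hp, by rw [← Subgroup.orderOf_coe]; exact hx, hcT⟩
    obtain ⟨c, hc⟩ := hTh.exists_conj_of_card (H := Subgroup.zpowers ⟨y * x * y⁻¹, hyT⟩) (by
      rw [Nat.card_zpowers, ← Subgroup.orderOf_coe]
      show orderOf (MulAut.conj y x) = p
      rw [MulEquiv.orderOf_eq, hx])
    obtain ⟨k, hk⟩ := Subgroup.mem_zpowers_iff.1 ((hc _).1 (Subgroup.mem_zpowers _))
    have hk' : (c : G) * (y * x * y⁻¹) * (c : G)⁻¹ = x ^ k := by
      simpa using (congrArg Subtype.val hk).symm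
    obtain ⟨m, hm⟩ := Subgroup.mem_zpowers_iff.1 (Subgroup.mem_comap.1 c.2)
    have hm' : (QuotientGroup.mk (c : G) : G ⧸ S) = (QuotientGroup.mk x) ^ m := hm.symm
    -- the conjugate agrees with `x` modulo `S`, hence equals it
    have hmod : x ^ k * x⁻¹ ∈ S := by
      rw [← QuotientGroup.eq_one_iff, ← hk']
      simp only [QuotientGroup.mk_mul, QuotientGroup.mk_inv, hq', hm', mul_inv_cancel_right]
      group
    have hcy : ((c : G) * y) * x = x * ((c : G) * y) := by
      have e1 : x ^ k = x :=
        mul_inv_eq_one.1 (hone _ hmod (mul_mem (zpow_mem (Subgroup.mem_zpowers x) k)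
          (inv_mem (Subgroup.mem_zpowers x))))
      have e2 : ((c : G) * y) * x * ((c : G) * y)⁻¹ = x := by
        conv_rhs => rw [← e1, ← hk']
        group
      exact mul_inv_eq_iff_eq_mul.1 e2
    obtain ⟨l, hl⟩ := Subgroup.mem_zpowers_iff.1 (h.mem_zpowers_of_commute hcy)
    refine Subgroup.mem_zpowers_iff.2 ⟨-m + l, ?_⟩
    rw [show y = (c : G)⁻¹ * ((c : G) * y) by group, QuotientGroup.mk_mul, QuotientGroup.mk_inv, ← hl,
      QuotientGroup.mk_zpow, hm', zpow_add, zpow_neg]

end Cfsg.Agent.S4496
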