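import Cfsg.Statements.S4498
import Cfsg.Agent.Blocks.RegularSupport
import Cfsg.Agent.BlocksCharsC.RegularSupport

set_option autoImplicit false
open Cfsg

namespace Cfsg.Agent.S4498

/-- Let p and q be distinct primes dividing the order of the finite group G, and suppose G has no element of order p·q. Fix maximal ideals M_p over p and M_q over q of the algebraic integers. Then the principal p-block and the principal q-block of G have a non-principal irreducible character in common. -/
theorem result {G : Type*} [Group G] [Finite G] (p q : ℕ) [Fact p.Prime] [Fact q.Prime] (hpq : p ≠ q) (hp : p ∣ Nat.card G) (hq : q ∣ Nat.card G) (hno : ∀ g : G, orderOf g ≠ p * q) (Mp Mq : Ideal Cfsg.AlgInt) (hMp : Cfsg.IsPModular p Mp) (hMq : Cfsg.IsPModular q Mq) : ∃ χ : Cfsg.IrrCharacter G, (χ : G → ℂ) ≠ (fun _ => 1) ∧ χ ∈ Cfsg.principalBlock Mp G ∧ χ ∈ Cfsg.principalBlock Mq G := by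
  classical
  cases nonempty_fintype G
  haveI := CfsgLib.Blocks.IsPModular.isPrime hMp
  haveI := CfsgLib.Blocks.IsPModular.isPrime hMq
  obtain ⟨x, hx⟩ := exists_prime_orderOf_dvd_card' p hp
  obtain ⟨y, hy⟩ := exists_prime_orderOf_dvd_card' q hq
  have hpp : p.Prime := Fact.out
  have hqq : q.Prime := Fact.out
  have hpq' : Nat.Coprime p q := (Nat.coprime_primes hpp hqq).2 hpq
  by_contra hcon
  push Not at hcon
  set A := Cfsg.principalBlock Mp G
  set B := Cfsg.principalBlock Mq G
  have hA : CfsgLib.Blocks.IsBlockUnion Mp A :=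
    CfsgLib.Blocks.isBlockUnion_of_isPBlock CfsgLib.BlocksCharsC.isPBlock_principalBlock
  have hB : CfsgLib.Blocks.IsBlockUnion Mq B :=
    CfsgLib.Blocks.isBlockUnion_of_isPBlock CfsgLib.BlocksCharsC.isPBlock_principalBlock
  let cA : Cfsg.IrrCharacter G → ℂ := fun φ =>
    if φ ∈ A then (starRingEnd ℂ) ((φ : G → ℂ) x) else 0
  let cB : Cfsg.IrrCharacter G → ℂ := fun φ =>
    if φ ∈ B then (starRingEnd ℂ) ((φ : G → ℂ) y) else 0
  let F : G → ℂ := ∑ φ, cA φ • (φ : G → ℂ)
  let H : G → ℂ := ∑ φ, cB φ • (φ : G → ℂ)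
  have h0 : Cfsg.classInner F H = 0 := by
    rw [Cfsg.classInner]
    refine mul_eq_zero_of_right _ (Finset.sum_eq_zero fun g _ => ?_)
    by_cases hg : p ∣ orderOf g
    · by_cases hg' : q ∣ orderOf g
      · exfalso
        obtain ⟨c, hc⟩ := hpq'.mul_dvd_of_dvd_of_dvd hg hg'
        have hc0 : c ≠ 0 := fun h => (orderOf_pos g).ne' (by rw [hc, h, mul_zero])
        refine hno (g ^ c) ?_
        rw [orderOf_pow_of_dvd hc0 ⟨p * q, by rw [hc]; ring⟩, hc]
        exact Nat.mul_div_cancel _ (Nat.pos_of_ne_zero hc0)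
      · refine mul_eq_zero_of_right _ ?_
        rw [map_eq_zero]
        simp only [H, Finset.sum_apply]
        refine Eq.trans ?_ (CfsgLib.Blocks.sum_union_mul_conj_eq_zero hMq hB (x := g) (y := y) hg'
          (by rw [hy]))
        exact Finset.sum_congr rfl fun φ _ => by
          simp only [cB, Pi.smul_apply, smul_eq_mul]; split_ifs <;> ring
    · refine mul_eq_zero_of_left ?_ _
      simp only [F, Finset.sum_apply]
      refine Eq.trans ?_ (CfsgLib.Blocks.sum_union_mul_conj_eq_zero hMp hA (x := g) (y := x) hg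
        (by rw [hx]))
      exact Finset.sum_congr rfl fun φ _ => by
        simp only [cA, Pi.smul_apply, smul_eq_mul]; split_ifs <;> ring
  let one := CfsgLib.BlocksCharsC.trivialIrr G
  have h1A : one ∈ A := by
    show one ∈ Cfsg.principalBlock Mp G
    rw [CfsgLib.BlocksCharsC.principalBlock_eq]
    exact CfsgLib.Blocks.mem_blockOf_self (M := Mp) one
  have h1B : one ∈ B := by
    show one ∈ Cfsg.principalBlock Mq G
    rw [CfsgLib.BlocksCharsC.principalBlock_eq]
    exact CfsgLib.Blocks.mem_blockOf_self (M := Mq) one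
  rw [CfsgLib.Characters.classInner_sum_left] at h0
  rw [Finset.sum_eq_single one] at h0
  · rw [CfsgLib.Characters.classInner_smul_left, CfsgLib.Characters.classInner_conj_symm,
      CfsgLib.Characters.classInner_irr_coeff] at h0
    simp only [cA, cB, if_pos h1A, if_pos h1B] at h0
    simp [one, CfsgLib.BlocksCharsC.trivialIrr] at h0
  · intro φ _ hφ
    rw [CfsgLib.Characters.classInner_smul_left, CfsgLib.Characters.classInner_conj_symm,
      CfsgLib.Characters.classInner_irr_coeff]
    simp only [cA, cB]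
    split_ifs with h1 h2
    · exact absurd h2 (hcon φ (fun h => hφ (Subtype.ext h)) h1)
    all_goals simp
  · simp

end Cfsg.Agent.S4498
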