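import Cfsg.Statements.S4501
import Cfsg.Agent.OrderThreePrimes.KleinFour
import Cfsg.Agent.OrderThreePrimes.Three
import Cfsg.Agent.Linear.Basic
import Cfsg.Agent.S0144
import Cfsg.Agent.S0205
import Cfsg.Agent.S0253
import Cfsg.Agent.S0998

set_option autoImplicit false
open Cfsg

namespace Cfsg.Agent.S4501

/-- Let G be a non-abelian finite simple group and p, q distinct primes. If the order of G is 4·p^a·q^b with a ≤ 2, then G is isomorphic to the alternating group of degree 5. If the order of G is 3·p^a·q^b with a ≤ 2, then G is isomorphic to the alternating group of degree 5 or to PSL(2,7). -/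
theorem result {G : Type*} [Group G] [Finite G] [IsSimpleGroup G] (hna : ∃ x y : G, x * y ≠ y * x) (p q a b : ℕ) (hp : p.Prime) (hq : q.Prime) (hpq : p ≠ q) (ha : a ≤ 2) : (Nat.card G = 4 * p ^ a * q ^ b → Nonempty (G ≃* alternatingGroup (Fin 5))) ∧ (Nat.card G = 3 * p ^ a * q ^ b → Nonempty (G ≃* alternatingGroup (Fin 5)) ∨ Nonempty (G ≃* Matrix.ProjectiveSpecialLinearGroup (Fin 2) (ZMod 7))) := by
  haveI := Fintype.ofFinite G
  have hna' : ¬ IsMulCommutative G := fun h =>
    hna.elim fun x hx => hx.elim fun y hy => hy (h.is_comm.comm x y)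
  have hns : ¬ Group.IsSolvable G := fun h =>
    hna.elim fun x hx => hx.elim fun y hy => hy (IsSimpleGroup.comm_iff_isSolvable.2 h x y)
  have htwo : ∀ r s i j : ℕ, r.Prime → s.Prime → Nat.card G = r ^ i * s ^ j → False :=
    fun r s i j hr hs h => hns (Cfsg.Agent.S0144.result r s i j hr hs h)
  have hdvd : ∀ s : ℕ, s.Prime → ∀ c, Nat.card G = c * p ^ a * q ^ b → s ∣ Nat.card G →
      s ∣ c ∨ s = p ∨ s = q := by
    intro s hs c hc h
    rw [hc] at h
    rcases hs.dvd_mul.1 h with h | h
    · rcases hs.dvd_mul.1 h with h | h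
      · exact Or.inl h
      · exact Or.inr (Or.inl ((Nat.prime_dvd_prime_iff_eq hs hp).1 (hs.dvd_of_dvd_pow h)))
    · exact Or.inr (Or.inr ((Nat.prime_dvd_prime_iff_eq hs hq).1 (hs.dvd_of_dvd_pow h)))
  constructor
  · intro hG
    rcases eq_or_ne p 2 with rfl | hp2
    · exact (htwo 2 q (2 + a) b Nat.prime_two hq (by rw [hG, pow_add]; ring)).elim
    rcases eq_or_ne q 2 with rfl | hq2
    · exact (htwo 2 p (2 + b) a Nat.prime_two hp (by rw [hG, pow_add]; ring)).elim
    have h8 : ¬ 8 ∣ Nat.card G := by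
      rw [hG, show (8 : ℕ) = 4 * 2 by norm_num, mul_assoc, mul_dvd_mul_iff_left (by norm_num : (4 : ℕ) ≠ 0)]
      intro h
      rcases Nat.prime_two.dvd_mul.1 h with h | h
      · exact hp2 ((Nat.prime_dvd_prime_iff_eq Nat.prime_two hp).1 (Nat.prime_two.dvd_of_dvd_pow h)).symm
      · exact hq2 ((Nat.prime_dvd_prime_iff_eq Nat.prime_two hq).1 (Nat.prime_two.dvd_of_dvd_pow h)).symm
    haveI : Fact (Nat.Prime 2) := ⟨Nat.prime_two⟩
    obtain ⟨P⟩ : Nonempty (Sylow 2 G) := inferInstance
    have h3 : 3 ∣ Nat.card G := by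
      rw [← (Cfsg.Agent.S0992.result hna' (even_iff_two_dvd.2 ⟨2 * (p ^ a * q ^ b), by rw [hG]; ring⟩)
        h8 P).2]
      exact (Subgroup.relIndex_dvd_card _ _).trans (Subgroup.card_subgroup_dvd_card _)
    rcases hdvd 3 Nat.prime_three 4 hG h3 with h | h | h
    · norm_num at h
    · subst h
      exact CfsgLib.OrderThreePrimes.nonempty_alt_five hna' q hq ⟨3 ^ a * q ^ b, by rw [hG]; ring⟩
        h8 fun s hs hd => by
          rcases hdvd s hs 4 hG hd with h | h | h
          · exact Or.inl ((Nat.prime_dvd_prime_iff_eq hs Nat.prime_two).1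
              (hs.dvd_of_dvd_pow (show s ∣ 2 ^ 2 from h)))
          · exact Or.inr (Or.inl h)
          · exact Or.inr (Or.inr h)
    · subst h
      exact CfsgLib.OrderThreePrimes.nonempty_alt_five hna' p hp ⟨p ^ a * 3 ^ b, by rw [hG]; ring⟩
        h8 fun s hs hd => by
          rcases hdvd s hs 4 hG hd with h | h | h
          · exact Or.inl ((Nat.prime_dvd_prime_iff_eq hs Nat.prime_two).1
              (hs.dvd_of_dvd_pow (show s ∣ 2 ^ 2 from h)))
          · exact Or.inr (Or.inr h)
          · exact Or.inr (Or.inl h)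
  · intro hG
    have h2 : 2 ∣ Nat.card G := by
      by_contra h
      exact hns (Cfsg.Agent.S0205.result (Nat.odd_iff.2 (by omega)))
    rcases hdvd 2 Nat.prime_two 3 hG h2 with h | h | h
    · norm_num at h
    · -- `p = 2`
      subst h
      have h3q : q ≠ 3 := fun h => by
        subst h
        exact htwo 2 3 a (b + 1) Nat.prime_two Nat.prime_three (by rw [hG, pow_succ]; ring)
      haveI : Fact (Nat.Prime 2) := ⟨Nat.prime_two⟩
      rcases (by omega : a = 0 ∨ a = 1 ∨ a = 2) with rfl | rfl | rfl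
      · exact (htwo 3 q 1 b Nat.prime_three hq (by rw [hG]; ring)).elim
      · exfalso
        have h4 := CfsgLib.Small.four_dvd_card_of_simple hna' h2
        rw [hG, show 3 * 2 ^ 1 * q ^ b = 2 * (3 * q ^ b) by ring, show (4 : ℕ) = 2 * 2 by norm_num,
          mul_dvd_mul_iff_left (by norm_num : (2 : ℕ) ≠ 0)] at h4
        exact Nat.not_even_iff_odd.2 ((by decide : Odd 3).mul (hq.odd_of_ne_two (Ne.symm hpq)).pow)
          (even_iff_two_dvd.2 h4)
      · refine Or.inl (CfsgLib.OrderThreePrimes.nonempty_alt_five hna' q hq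
          ⟨3 * q ^ b, by rw [hG]; ring⟩ ?_ fun s hs hd => ?_)
        · intro h
          rw [hG, show (8 : ℕ) = 4 * 2 by norm_num,
            show 3 * 2 ^ 2 * q ^ b = 4 * (3 * q ^ b) by ring,
            mul_dvd_mul_iff_left (by norm_num : (4 : ℕ) ≠ 0)] at h
          rcases Nat.prime_two.dvd_mul.1 h with h | h
          · norm_num at h
          · exact hpq ((Nat.prime_dvd_prime_iff_eq Nat.prime_two hq).1 (Nat.prime_two.dvd_of_dvd_pow h))
        · rcases hdvd s hs 3 hG hd with h | h | h
          · exact Or.inr (Or.inl ((Nat.prime_dvd_prime_iff_eq hs Nat.prime_three).1 h))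
          · exact Or.inl h
          · exact Or.inr (Or.inr h)
    · -- `q = 2`
      subst h
      have h3p : p ≠ 3 := fun h => by
        subst h
        exact htwo 3 2 (a + 1) b Nat.prime_three Nat.prime_two (by rw [hG, pow_succ]; ring)
      rcases (by omega : a = 0 ∨ a = 1 ∨ a = 2) with rfl | rfl | rfl
      · exact (htwo 3 2 1 b Nat.prime_three Nat.prime_two (by rw [hG]; ring)).elim
      · have hncyc : ¬ IsCyclic G := fun h => hna' inferInstance
        rcases Cfsg.Agent.S0998.result hncyc p 2 3 b hp Nat.prime_two Nat.prime_three hpq h3p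
            (by norm_num) (by rw [hG]; ring) with ⟨F, _, _, hF, ⟨e⟩⟩ | ⟨F, _, _, hF, ⟨e⟩⟩
        · obtain ⟨f⟩ := Cfsg.Agent.S0253.result hF
          exact Or.inl ⟨e.trans f⟩
        · haveI : Fact (Nat.Prime 7) := ⟨by norm_num⟩
          exact Or.inr ⟨e.trans (CfsgLib.Linear.pslFieldCongr (hF.trans (ZMod.card 7).symm))⟩
      · have hp5 : 5 ≤ p := by
          have := hp.two_le
          rcases Nat.lt_or_ge p 5 with h | h
          · interval_cases p
            · exact absurd rfl hpq
            · exact absurd rfl h3p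
            · exact absurd hp (by norm_num)
          · exact h
        exact (CfsgLib.OrderThreePrimes.false_of_card_three_mul hna' hp hp5 hG).elim

end Cfsg.Agent.S4501
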