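import Cfsg.Statements.S4506
import Cfsg.Agent.BlockPairing.PConjOrbit

set_option autoImplicit false
open Cfsg

namespace Cfsg.Agent.S4506

/-- Let G be a finite group, p a prime, p^a the p-part of the order of G and g′ its p′-part. Call two irreducible characters p-conjugate when one is obtained from the other by applying a field automorphism of ℂ that fixes the g′-th roots of unity, and let r be the number of characters p-conjugate to the irreducible character χ (χ included). Then the exponent of p in r·χ(1) is at most a; and if p^a divides r·χ(1) then p^a already divides χ(1). -/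
theorem result {G : Type*} [Group G] [Finite G] (p : ℕ) (hp : p.Prime) (χ : Cfsg.IrrCharacter G) (r : ℕ) (hr : Nat.card {ψ : Cfsg.IrrCharacter G // ∃ σ : ℂ ≃+* ℂ, σ (Complex.exp (2 * Real.pi * Complex.I / ((Nat.card G / p ^ (Nat.card G).factorization p) : ℕ))) = Complex.exp (2 * Real.pi * Complex.I / ((Nat.card G / p ^ (Nat.card G).factorization p) : ℕ)) ∧ (ψ : G → ℂ) = fun g => σ ((χ : G → ℂ) g)} = r) : (r * Cfsg.charDegree (χ : G → ℂ)).factorization p ≤ (Nat.card G).factorization p ∧ (p ^ (Nat.card G).factorization p ∣ r * Cfsg.charDegree (χ : G → ℂ) → p ^ (Nat.card G).factorization p ∣ Cfsg.charDegree (χ : G → ℂ)) := by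
  haveI := Fintype.ofFinite G
  haveI : Fact p.Prime := ⟨hp⟩
  have hset := CfsgLib.PConjOrbit.setOf_pConj (p := p) χ
  have hr' : Nat.card (Set.range (fun c : (ZMod (p ^ (Nat.card G).factorization p))ˣ =>
      CfsgLib.PConjOrbit.conjAt χ c)) = r := by
    rw [← hset]
    exact hr
  obtain ⟨h1, h2⟩ := CfsgLib.PConjOrbit.factorization_bound χ r hr'
  refine ⟨h1, fun hdvd => ?_⟩
  have hd0 := CfsgLib.Blocks.charDegree_ne_zero χ
  rcases Nat.eq_zero_or_pos r with hr0 | hr0
  · haveI : Nonempty (Set.range (fun c : (ZMod (p ^ (Nat.card G).factorization p))ˣ =>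
        CfsgLib.PConjOrbit.conjAt χ c)) := ⟨⟨_, 1, rfl⟩⟩
    exact absurd (hr'.trans hr0) Nat.card_pos.ne'
  have h3 := (hp.pow_dvd_iff_le_factorization (mul_ne_zero hr0.ne' hd0)).1 hdvd
  rw [Nat.factorization_mul hr0.ne' hd0, Finsupp.add_apply] at h1 h3
  have h4 := h2 (le_antisymm h1 h3)
  exact (hp.pow_dvd_iff_le_factorization hd0).2 (by omega)

end Cfsg.Agent.S4506
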