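import Cfsg.Statements.S4508
import Cfsg.Agent.BlockPairing.SelfCentralPrime

set_option autoImplicit false
open Cfsg

namespace Cfsg.Agent.S4508

/-- Let the finite group G contain an element x of prime order p with C_G(x) = ⟨x⟩, and let t be the number of conjugacy classes of elements of order p. If G has an irreducible character of degree p − 1, then t is even or the commutator subgroup has even index. -/
theorem result {G : Type*} [Group G] [Finite G] (p : ℕ) (hp : p.Prime) (x : G) (hx : orderOf x = p) (hC : Subgroup.centralizer ({x} : Set G) = Subgroup.zpowers x) (t : ℕ) (ht : Nat.card {C : ConjClasses G // ∃ g ∈ C.carrier, orderOf g = p} = t) (χ : Cfsg.IrrCharacter G) (hχ : Cfsg.charDegree (χ : G → ℂ) + 1 = p) : Even t ∨ Even (commutator G).index := by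
  haveI := Fintype.ofFinite G
  haveI : Fact p.Prime := ⟨hp⟩
  by_contra hcon
  push Not at hcon
  obtain ⟨htodd, hidx⟩ := hcon
  rw [Nat.not_even_iff_odd] at htodd
  rcases eq_or_ne p 2 with rfl | hp2
  · obtain ⟨P, hP⟩ := CfsgLib.SelfCentralPrime.exists_sylow hx hC
    have hPC : Subgroup.normalizer ((P : Subgroup G) : Set G) ≤
        Subgroup.centralizer ((P : Subgroup G) : Set G) := by
      rw [hP]
      intro g hg
      refine Subgroup.mem_centralizer_iff.2 fun h hh => ?_
      by_cases h1 : h = 1
      · simp [h1]
      obtain ⟨ho, hz⟩ := CfsgLib.SelfCentralPrime.zpow_eq_of_mem hx hh h1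
      have hgh : g * h * g⁻¹ ∈ Subgroup.zpowers x := (Subgroup.mem_normalizer_iff.1 hg h).1 hh
      rw [← hz] at hgh
      obtain ⟨k, hk⟩ := hgh
      have hk' : h ^ k = g * h * g⁻¹ := hk
      rw [← zpow_mod_orderOf, ho] at hk'
      rcases Int.emod_two_eq_zero_or_one k with h2 | h2
      · exfalso
        apply h1
        rw [show ((2 : ℕ) : ℤ) = 2 from rfl, h2, zpow_zero] at hk'
        calc h = g⁻¹ * (g * h * g⁻¹) * g := by group
          _ = 1 := by rw [← hk']; group
      · rw [show ((2 : ℕ) : ℤ) = 2 from rfl, h2, zpow_one] at hk'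
        calc h * g = g * h * g⁻¹ * g := by rw [← hk']
          _ = g * h := by group
    have hcompl := MonoidHom.ker_transferSylow_isComplement' P hPC
    have hi : (MonoidHom.transferSylow P hPC).ker.index = 2 := by
      rw [hcompl.symm.index_eq_card, hP, Nat.card_zpowers, hx]
    have hle : commutator G ≤ (MonoidHom.transferSylow P hPC).ker := by
      rw [commutator_def, Subgroup.commutator_le]
      intro a _ c _
      rw [MonoidHom.mem_ker, map_commutatorElement, commutatorElement_def]
      haveI := Nat.prime_two
      have hcomm : ∀ u v : (P : Subgroup G), u * v = v * u := fun u v => Subtype.ext (by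
        obtain ⟨i, hi⟩ := (hP ▸ u.2 : (u : G) ∈ Subgroup.zpowers x)
        obtain ⟨j, hj⟩ := (hP ▸ v.2 : (v : G) ∈ Subgroup.zpowers x)
        show (u : G) * v = v * u
        rw [← hi, ← hj]
        exact (Commute.zpow_zpow (Commute.refl x) i j).eq)
      rw [hcomm _ ((MonoidHom.transferSylow P hPC) c)]
      group
    exact hidx (even_iff_two_dvd.2 (hi ▸ Subgroup.index_dvd_of_le hle))
  · obtain ⟨L, y, hy⟩ := CfsgLib.SelfCentralPrime.exists_hom_neg_one hx hC hp2 ht htodd hχ
    refine hidx (even_iff_two_dvd.2 (dvd_trans ?_ (Subgroup.index_dvd_of_le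
      (Abelianization.commutator_subset_ker L))))
    rw [Subgroup.index_ker]
    have ho : orderOf (⟨L y, y, rfl⟩ : L.range) = 2 := by
      rw [← Subgroup.orderOf_coe, ← orderOf_units, hy]
      exact orderOf_eq_prime (by norm_num) (by norm_num)
    exact ho ▸ orderOf_dvd_natCard _

end Cfsg.Agent.S4508
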