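import Cfsg.Statements.S4509
import Cfsg.Agent.SelfCentralizing.Basic

set_option autoImplicit false
open Cfsg

namespace Cfsg.Agent.S4509

/-- Let the finite group G contain an element x of prime order p with C_G(x) = ⟨x⟩; let t be the number of conjugacy classes of elements of order p and 1 + n·p the number of subgroups of order p. Then G has a normal subgroup of order 1 + n·p if and only if either t = p − 1, or t < p − 1 and G″ ≠ G′. Moreover, if t = p − 1 then G′ has order 1 + n·p and G/G′ is cyclic of order p; and if t < p − 1 and G″ ≠ G′ then G″ has order 1 + n·p and G′ has order p·(1 + n·p). -/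
theorem result {G : Type*} [Group G] [Finite G] (p : ℕ) (hp : p.Prime) (x : G) (hx : orderOf x = p) (hC : Subgroup.centralizer ({x} : Set G) = Subgroup.zpowers x) (t : ℕ) (ht : Nat.card {C : ConjClasses G // ∃ g ∈ C.carrier, orderOf g = p} = t) (n : ℕ) (hn : Nat.card {H : Subgroup G // Nat.card H = p} = 1 + n * p) : ((∃ S : Subgroup G, S.Normal ∧ Nat.card S = 1 + n * p) ↔ (t = p - 1 ∨ (t < p - 1 ∧ derivedSeries G 2 ≠ derivedSeries G 1))) ∧ (t = p - 1 → Nat.card (commutator G) = 1 + n * p ∧ IsCyclic (G ⧸ commutator G) ∧ (commutator G).index = p) ∧ (t < p - 1 → derivedSeries G 2 ≠ derivedSeries G 1 → Nat.card (derivedSeries G 2) = 1 + n * p ∧ Nat.card (commutator G) = p * (1 + n * p)) := by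
  have h : CfsgLib.SelfCentralizing.Hyp G p x := ⟨hp, hx, hC⟩
  rw [h.card_subgroups] at hn
  have hte := h.classes_mul_relIndex ht
  obtain ⟨hKn, hKc⟩ := CfsgLib.SelfCentralizing.core_spec (G := G) p
  haveI := hKn
  have htle : t ≤ p - 1 := by
    rcases Nat.eq_zero_or_pos ((Subgroup.zpowers x).relIndex h.norm) with h0 | h0
    · rw [h0, mul_zero] at hte; have := hp.two_le; omega
    · rw [← hte]; exact Nat.le_mul_of_pos_right t h0
  have hA : t = p - 1 → Nat.card (commutator G) = 1 + n * p ∧ IsCyclic (G ⧸ commutator G) ∧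
      (commutator G).index = p := by
    intro heq
    have he := (h.relIndex_eq_one_iff ht).2 heq
    obtain ⟨h1, h2, h3⟩ := h.of_relIndex_one he
    refine ⟨?_, h3, h1⟩
    have hG := (commutator G).card_mul_index
    rw [h1, ← h.norm.card_mul_index, h.card_norm_eq, he, mul_one, hn, mul_comm p] at hG
    exact Nat.eq_of_mul_eq_mul_right hp.pos hG
  have hB : t < p - 1 → derivedSeries G 2 ≠ derivedSeries G 1 →
      Nat.card (derivedSeries G 2) = 1 + n * p ∧ Nat.card (commutator G) = p * (1 + n * p) := by
    intro hlt hne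
    have hxc := h.mem_commutator (mt (h.relIndex_eq_one_iff ht).1 hlt.ne)
    have hDn : (derivedSeries G 2).Normal := derivedSeries_normal G 2
    have hxD : x ∉ derivedSeries G 2 := fun hxD => hne (le_antisymm
      (derivedSeries_antitone G (by norm_num))
      (by rw [derivedSeries_one]; haveI := hDn; exact h.commutator_le_of_mem hxD))
    have hpD : ¬ p ∣ Nat.card (derivedSeries G 2) := fun hd => hxD (h.mem_sylow_generated hDn hd)
    have hDK : derivedSeries G 2 = Cfsg.pPrimeCore p G :=
      le_antisymm (CfsgLib.SelfCentralizing.le_core p hDn (hp.coprime_iff_not_dvd.2 hpD).symm)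
        (h.core_le_derived_two hxc)
    have hq := h.card_commutator_of_abelian hxc (by
      rw [← hDK, derivedSeries_succ, derivedSeries_one])
    have hi := (h.index_commutator_eq hxc hq).2
    exact ⟨by rw [hDK, hi, hn], by rw [hq, hi, hn]⟩
  refine ⟨⟨?_, ?_⟩, hA, hB⟩
  · rintro ⟨S, hSn, hS⟩
    haveI := hSn
    rcases htle.eq_or_lt with heq | hlt
    · exact Or.inl heq
    refine Or.inr ⟨hlt, fun heqD => ?_⟩
    have hpS : ¬ p ∣ Nat.card S := by
      rw [hS, add_comm]
      intro hd
      have := (Nat.dvd_add_right (dvd_mul_left p n)).1 hd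
      exact hp.ne_one (Nat.dvd_one.1 this)
    -- `S ⊔ ⟨x⟩` is normal, so it contains the commutator subgroup
    haveI hSPn : (S ⊔ Subgroup.zpowers x).Normal := by
      have htop : S ⊔ h.norm = ⊤ := by
        apply Subgroup.eq_top_of_card_eq
        apply le_antisymm (Subgroup.card_le_card_group _)
        have hinj : Function.Injective (fun a : S × h.norm =>
            (⟨(a.1 : G) * a.2, Subgroup.mul_mem_sup a.1.2 a.2.2⟩ : ↥(S ⊔ h.norm))) := by
          rintro ⟨s, m⟩ ⟨s', m'⟩ hsm
          have e : (s : G) * m = s' * m' := congrArg Subtype.val hsm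
          have hm : (s' : G)⁻¹ * s ∈ S ⊓ h.norm := Subgroup.mem_inf.2 ⟨mul_mem (inv_mem s'.2) s.2, by
            have : (s' : G)⁻¹ * s = (m' : G) * (m : G)⁻¹ := by
              rw [eq_mul_inv_iff_mul_eq, mul_assoc, e]; group
            rw [this]; exact mul_mem m'.2 (inv_mem m.2)⟩
          rw [h.inf_norm_eq_bot hpS, Subgroup.mem_bot, inv_mul_eq_one] at hm
          obtain rfl : s' = s := Subtype.ext hm
          obtain rfl : m = m' := Subtype.ext (mul_left_cancel e)
          rfl
        have := Nat.card_le_card_of_injective _ hinj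
        rw [Nat.card_prod, hS, ← hn] at this
        rwa [← h.norm.card_mul_index, mul_comm]
      rw [← Subgroup.normalizer_eq_top_iff, eq_top_iff, ← htop, sup_le_iff]
      refine ⟨le_sup_left.trans Subgroup.le_normalizer, fun m hm => ?_⟩
      rw [Subgroup.mem_normalizer_iff]
      have key : ∀ m ∈ h.norm, ∀ y ∈ S ⊔ Subgroup.zpowers x, m * y * m⁻¹ ∈ S ⊔ Subgroup.zpowers x := by
        intro m hm y hy
        obtain ⟨s, hs, z, hz, rfl⟩ := Subgroup.mem_sup_of_normal_left.1 hy
        rw [show m * (s * z) * m⁻¹ = (m * s * m⁻¹) * (m * z * m⁻¹) by group]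
        exact Subgroup.mul_mem_sup (hSn.conj_mem s hs m) ((Subgroup.mem_normalizer_iff.1 hm z).1 hz)
      exact fun y => ⟨key m hm y, fun hy => by
        have := key m⁻¹ (inv_mem hm) _ hy
        rwa [show m⁻¹ * (m * y * m⁻¹) * m⁻¹⁻¹ = y by group] at this⟩
    have hle : commutator G ≤ S ⊔ Subgroup.zpowers x :=
      h.commutator_le_of_mem (le_sup_right (a := S) (Subgroup.mem_zpowers x))
    have hD : derivedSeries G 2 ≤ S := by
      rw [derivedSeries_succ, derivedSeries_one, Subgroup.commutator_le]
      intro a ha b hb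
      obtain ⟨s, hs, z, hz, rfl⟩ := Subgroup.mem_sup_of_normal_left.1 (hle ha)
      obtain ⟨s', hs', z', hz', rfl⟩ := Subgroup.mem_sup_of_normal_left.1 (hle hb)
      obtain ⟨i, rfl⟩ := Subgroup.mem_zpowers_iff.1 hz
      obtain ⟨j, rfl⟩ := Subgroup.mem_zpowers_iff.1 hz'
      rw [← QuotientGroup.eq_one_iff, commutatorElement_def]
      simp only [QuotientGroup.mk_mul, QuotientGroup.mk_inv, (QuotientGroup.eq_one_iff s).2 hs,
        (QuotientGroup.eq_one_iff s').2 hs', one_mul, QuotientGroup.mk_zpow]
      group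
    rw [heqD, derivedSeries_one] at hD
    exact hpS (by
      have := Subgroup.card_dvd_of_le ((Subgroup.zpowers_le.2 (h.mem_commutator
        (mt (h.relIndex_eq_one_iff ht).1 hlt.ne))).trans hD)
      rwa [h.card_zpowers] at this)
  · rintro (heq | ⟨hlt, hne⟩)
    · exact ⟨commutator G, inferInstance, (hA heq).1⟩
    · exact ⟨derivedSeries G 2, derivedSeries_normal G 2, (hB hlt hne).1⟩

end Cfsg.Agent.S4509
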