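import Cfsg.Statements.S4510
import Cfsg.Agent.BlockPairing.Heights

set_option autoImplicit false
open Cfsg

namespace Cfsg.Agent.S4510

/-- Let G be a finite group, p a prime, M a maximal ideal of the algebraic integers containing p, and call the defect of a conjugacy class the exponent of p in the order of the centralizer of its elements. Two irreducible characters lying in p-blocks of defect exactly d lie in the same block if and only if their central characters (class size times χ(x)/χ(1)) agree modulo the local ideal at M at every p-regular element x whose class has defect exactly d. -/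
theorem result {G : Type*} [Group G] [Finite G] (p : ℕ) [Fact p.Prime] (M : Ideal Cfsg.AlgInt) (hM : Cfsg.IsPModular p M) (d : ℕ) (χ ψ : Cfsg.IrrCharacter G) (hχ : Cfsg.blockDefect p (Cfsg.blockOf M (χ : G → ℂ)) = d) (hψ : Cfsg.blockDefect p (Cfsg.blockOf M (ψ : G → ℂ)) = d) : Cfsg.SameBlock M (χ : G → ℂ) (ψ : G → ℂ) ↔ ∀ x : G, ¬ p ∣ orderOf x → (Nat.card (Subgroup.centralizer ({x} : Set G))).factorization p = d → Cfsg.MemLocalIdeal M (Cfsg.centralChar (χ : G → ℂ) x - Cfsg.centralChar (ψ : G → ℂ) x) := by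
  classical
  cases nonempty_fintype G
  haveI := CfsgLib.Blocks.IsPModular.isPrime hM
  refine ⟨fun h x _ _ => h x, fun h => ?_⟩
  haveI := Fintype.ofFinite (ConjClasses G)
  have hB := CfsgLib.Blocks.isPBlock_blockOf (M := M) χ
  have hB2 := CfsgLib.Blocks.isPBlock_blockOf (M := M) ψ
  set z := CfsgLib.Blocks.idemBar M _ (CfsgLib.Blocks.isBlockUnion_of_isPBlock hB) with hz
  have key : CfsgLib.Blocks.omegaBar M χ z = CfsgLib.Blocks.omegaBar M ψ z := by
    rw [CfsgLib.Blocks.eq_sum_classSum z, map_sum, map_sum]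
    refine Finset.sum_congr rfl fun C _ => ?_
    obtain ⟨g, rfl⟩ := ConjClasses.mk_surjective C
    rw [map_mul, map_mul, CfsgLib.Blocks.omegaBar_scalar, CfsgLib.Blocks.omegaBar_scalar,
      CfsgLib.Blocks.classCoeff_mk, hz, CfsgLib.Blocks.coeff_idemBar]
    by_cases hg : ¬ p ∣ orderOf g ∧
        (Nat.card (Subgroup.centralizer ({g} : Set G))).factorization p = d
    · rw [CfsgLib.Blocks.omegaBar_classSum, CfsgLib.Blocks.omegaBar_classSum]
      congr 1
      exact CfsgLib.Blocks.red_eq_red_iff.2 (h g hg.1 hg.2)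
    · rw [CfsgLib.BlockPairing.coeff_mul_omegaBar_eq_zero hM hB hχ hB hχ
        (CfsgLib.Blocks.mem_blockOf_self χ) hg, CfsgLib.BlockPairing.coeff_mul_omegaBar_eq_zero hM
        hB2 hψ hB hχ (CfsgLib.Blocks.mem_blockOf_self ψ) hg]
  rw [hz, CfsgLib.Blocks.omegaBar_idemBar, CfsgLib.Blocks.omegaBar_idemBar,
    if_pos (CfsgLib.Blocks.mem_blockOf_self χ)] at key
  by_contra hn
  rw [if_neg (mt CfsgLib.Blocks.mem_blockOf.1 hn)] at key
  exact one_ne_zero key

end Cfsg.Agent.S4510
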