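import Cfsg.Statements.S4513
import Cfsg.Agent.BlockPairing.DefectOne

set_option autoImplicit false
open Cfsg

namespace Cfsg.Agent.S4513

/-- Blocks of defect one for p = 2. Let M be a maximal ideal of the algebraic integers containing 2, B a 2-block of the finite group G whose defect group is the subgroup generated by an involution x, C = C_G(x), b a block of C inducing B and θ a member of b taking the same value at x as at 1 (there is exactly one). Then B consists of exactly two irreducible characters, which agree on every element of odd order, and they can be labelled χ₁, χ₂ with signs ε₁, ε₂ = ±1, ε₁ε₂ = −1, such that χᵢ(x y) = εᵢ θ(y) for every element y of C of odd order. -/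
theorem result {G : Type*} [Group G] [Finite G] (M : Ideal Cfsg.AlgInt) (hM : Cfsg.IsPModular 2 M) (x : G) (hx : orderOf x = 2)
    (B : Set (Cfsg.IrrCharacter G)) (hB : Cfsg.IsPBlock M B) (hBD : Cfsg.IsDefectGroup 2 M B (Subgroup.zpowers x))
    (b : Set (Cfsg.IrrCharacter ↥(Subgroup.centralizer ({x} : Set G)))) (hb : Cfsg.IsInducedBlock M (Subgroup.centralizer ({x} : Set G)) b B)
    (θ : Cfsg.IrrCharacter ↥(Subgroup.centralizer ({x} : Set G))) (hθ : θ ∈ b)
    (hθx : ∀ z : ↥(Subgroup.centralizer ({x} : Set G)), (z : G) = x → (θ : ↥(Subgroup.centralizer ({x} : Set G)) → ℂ) z = (θ : ↥(Subgroup.centralizer ({x} : Set G)) → ℂ) 1) :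
    Nat.card B = 2 ∧ (∀ χ ∈ B, ∀ ψ ∈ B, ∀ g : G, ¬ 2 ∣ orderOf g → (χ : G → ℂ) g = (ψ : G → ℂ) g) ∧
      ∃ χ₁ ∈ B, ∃ χ₂ ∈ B, χ₁ ≠ χ₂ ∧ ∃ ε₁ ε₂ : ℤ, (ε₁ = 1 ∨ ε₁ = -1) ∧ (ε₂ = 1 ∨ ε₂ = -1) ∧ ε₁ * ε₂ = -1 ∧
        ∀ y : ↥(Subgroup.centralizer ({x} : Set G)), ¬ 2 ∣ orderOf y →
          (χ₁ : G → ℂ) (x * y) = (ε₁ : ℂ) * (θ : ↥(Subgroup.centralizer ({x} : Set G)) → ℂ) y ∧ (χ₂ : G → ℂ) (x * y) = (ε₂ : ℂ) * (θ : ↥(Subgroup.centralizer ({x} : Set G)) → ℂ) y := by
  classical
  cases nonempty_fintype G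
  haveI := CfsgLib.Blocks.IsPModular.isPrime hM
  haveI : Fact (Nat.Prime 2) := ⟨Nat.prime_two⟩
  haveI : Fintype (Subgroup.centralizer ({x} : Set G)) := Fintype.ofFinite (Subgroup.centralizer ({x} : Set G))
  have hx' : ∃ k, orderOf x = 2 ^ k := ⟨1, by rw [hx, pow_one]⟩
  have hx1 : x ≠ 1 := fun h => by rw [h, orderOf_one] at hx; omega
  have hd : Cfsg.blockDefect 2 B = 1 := by
    rw [CfsgLib.Blocks.blockDefect_eq hM hB hBD, Nat.card_zpowers, hx,
      Nat.prime_two.factorization_self]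
  obtain ⟨hk, hagree⟩ := CfsgLib.BlockPairing.two_block_of_defect_one hM hB hd
  obtain ⟨χ₀, χ₁, hne, hBeq⟩ := Nat.card_eq_two_iff.1 hk
  refine ⟨hk, hagree, ?_⟩
  have hcx : ∀ c : (Subgroup.centralizer ({x} : Set G)), Commute x (c : G) := fun c =>
    (Subgroup.mem_centralizer_singleton_iff.1 c.2).symm
  set A := CfsgLib.Blocks.overSet M (Subgroup.centralizer ({x} : Set G)) B (CfsgLib.Blocks.isBlockUnion_of_isPBlock hB) with hA
  let xH : (Subgroup.centralizer ({x} : Set G)) := ⟨x, Subgroup.mem_centralizer_singleton_iff.2 rfl⟩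
  -- every block of `(Subgroup.centralizer ({x} : Set G))` below `B` has defect one
  have hdef : ∀ b' : Set (Cfsg.IrrCharacter (Subgroup.centralizer ({x} : Set G))), Cfsg.IsInducedBlock M (Subgroup.centralizer ({x} : Set G)) b' B →
      Cfsg.blockDefect 2 b' = 1 := by
    intro b' hb'
    obtain ⟨D, hD⟩ := CfsgLib.Blocks.exists_isDefectGroup (p := 2) hb'.1
    haveI : (Subgroup.zpowers xH).Normal := ⟨fun a ha c => by
      obtain ⟨i, rfl⟩ := ha
      have : Commute c xH := Subtype.ext (Subgroup.mem_centralizer_singleton_iff.1 c.2)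
      rw [(this.zpow_right i).eq, mul_inv_cancel_right]
      exact Subgroup.zpow_mem_zpowers _ _⟩
    have hpg : IsPGroup 2 (Subgroup.zpowers xH) := IsPGroup.of_card (n := 1)
      (by rw [Nat.card_zpowers, ← Subgroup.orderOf_coe, pow_one]; exact hx)
    have hle := CfsgLib.Blocks.IsDefectGroup.le_of_normal hM hb'.1 hD (Subgroup.zpowers xH) hpg
    obtain ⟨E, hE, hDE⟩ := CfsgLib.Blocks.IsDefectGroup.exists_le_of_induced hM hb' hD
    have hEc : Nat.card E = 2 := by
      rw [CfsgLib.Blocks.card_defectGroup hM hB hE, hd, pow_one]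
    have h1 : Nat.card D ∣ 2 := by
      rw [← hEc, Nat.card_congr (D.equivMapOfInjective (Subgroup.centralizer ({x} : Set G)).subtype Subtype.val_injective).toEquiv]
      exact Subgroup.card_dvd_of_le hDE
    have h2 : 2 ∣ Nat.card D := by
      have : orderOf xH = 2 := by rw [← Subgroup.orderOf_coe]; exact hx
      rw [← this, ← Nat.card_zpowers]
      exact Subgroup.card_dvd_of_le hle
    rw [CfsgLib.Blocks.blockDefect_eq hM hb'.1 hD, Nat.dvd_antisymm h1 h2,
      Nat.prime_two.factorization_self]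
  have hmemA : ∀ ξ ∈ b, ξ ∈ A := by
    intro ξ hξ
    have h := (CfsgLib.Blocks.isInducedBlock_iff (Subgroup.centralizer ({x} : Set G)) hb.1 hB hξ χ₀.2).1 hb
      (CfsgLib.Blocks.idemBar M B (CfsgLib.Blocks.isBlockUnion_of_isPBlock hB))
    rw [CfsgLib.Blocks.omegaBar_idemBar, if_pos χ₀.2] at h
    show CfsgLib.Blocks.omegaBar M ξ _ ≠ 0
    rw [h]
    exact one_ne_zero
  -- only `b` lies below `B` at `x`
  have huniq : ∀ ξ ∈ A, ξ ∈ b := by
    intro ξ hξ
    by_contra hξb
    obtain ⟨X, hX, hXrep, hxX, h1X⟩ := CfsgLib.BlockPairing.exists_reps (p := 2) hx' hx1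
    have hcount := CfsgLib.BlockPairing.card_block_eq_sum hM hB X hX hXrep
    rw [← Finset.add_sum_erase X _ h1X, hk] at hcount
    have hone : 1 ≤ ∑ᶠ b' ∈ {b' : Set (Cfsg.IrrCharacter
        ↥(Subgroup.centralizer ({(1 : G)} : Set G))) |
          Cfsg.IsInducedBlock M (Subgroup.centralizer ({(1 : G)} : Set G)) b' B},
        Cfsg.blockRank 2 b' := by
      haveI := Fintype.ofFinite (Subgroup.centralizer ({(1 : G)} : Set G))
      have h1o : ∃ k, orderOf (1 : G) = 2 ^ k := ⟨0, by simp⟩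
      have hs := CfsgLib.BlockPairing.sum_sq_section hM h1o hB
        (y := (1 : Subgroup.centralizer ({(1 : G)} : Set G))) (by rw [orderOf_one]; decide)
      obtain ⟨η, hη⟩ : ∃ η, η ∈ CfsgLib.Blocks.overSet M
          (Subgroup.centralizer ({(1 : G)} : Set G)) B
          (CfsgLib.Blocks.isBlockUnion_of_isPBlock hB) := by
        by_contra hcon
        push Not at hcon
        rw [Finset.sum_eq_zero (s := (Finset.univ : Finset (Cfsg.IrrCharacter
          ↥(Subgroup.centralizer ({(1 : G)} : Set G))))) fun η _ => if_neg (hcon η)] at hs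
        have hnat : ((∑ φ : Cfsg.IrrCharacter G, if φ ∈ B then
            Cfsg.charDegree (φ : G → ℂ) ^ 2 else 0 : ℕ) : ℂ) = 0 := by
          rw [← hs, Nat.cast_sum]
          refine Finset.sum_congr rfl fun φ _ => ?_
          simp only [OneMemClass.coe_one, mul_one]
          split_ifs
          · rw [CfsgLib.Blocks.conj_one_irr, ← CfsgLib.Blocks.charDegree_cast, Nat.cast_pow, sq]
          · exact Nat.cast_zero
        have := (Finset.sum_eq_zero_iff.1 (Nat.cast_eq_zero.1 hnat)) χ₀.1 (Finset.mem_univ _)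
        rw [if_pos χ₀.2] at this
        exact CfsgLib.Blocks.charDegree_ne_zero χ₀.1 (pow_eq_zero_iff two_ne_zero |>.1 this)
      have hind := CfsgLib.Blocks.isInducedBlock_of_mem_overSet hM h1o hB hη
      rw [finsum_mem_eq_toFinset_sum]
      exact le_trans (CfsgLib.BlockPairing.one_le_blockRank ⟨η, CfsgLib.Blocks.mem_blockOf_self η⟩)
        (Finset.single_le_sum (fun _ _ => Nat.zero_le _) (Set.mem_toFinset.2 hind))
    have htwo : 2 ≤ ∑ y ∈ X.erase 1, ∑ᶠ b' ∈ {b' : Set (Cfsg.IrrCharacter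
        ↥(Subgroup.centralizer ({y} : Set G))) |
          Cfsg.IsInducedBlock M (Subgroup.centralizer ({y} : Set G)) b' B},
        Cfsg.blockRank 2 b' := by
      refine le_trans ?_ (Finset.single_le_sum (fun _ _ => Nat.zero_le _)
        (Finset.mem_erase.2 ⟨hx1, hxX⟩))
      rw [finsum_mem_eq_toFinset_sum]
      have hind := CfsgLib.Blocks.isInducedBlock_of_mem_overSet hM hx' hB hξ
      have hne' : b ≠ Cfsg.blockOf M (ξ : (Subgroup.centralizer ({x} : Set G)) → ℂ) := fun h =>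
        hξb (h ▸ CfsgLib.Blocks.mem_blockOf_self ξ)
      refine le_trans ?_ (Finset.sum_le_sum_of_subset (s :=
        ({b, Cfsg.blockOf M (ξ : (Subgroup.centralizer ({x} : Set G)) → ℂ)} : Finset (Set (Cfsg.IrrCharacter (Subgroup.centralizer ({x} : Set G)))))) ?_)
      · rw [Finset.sum_pair hne']
        exact Nat.add_le_add (CfsgLib.BlockPairing.one_le_blockRank ⟨θ, hθ⟩)
          (CfsgLib.BlockPairing.one_le_blockRank ⟨ξ, CfsgLib.Blocks.mem_blockOf_self ξ⟩)
      · intro a ha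
        rw [Finset.mem_insert, Finset.mem_singleton] at ha
        rw [Set.mem_toFinset]
        rcases ha with rfl | rfl
        · exact hb
        · exact hind
    omega
  obtain ⟨hbk, hbagree⟩ := CfsgLib.BlockPairing.two_block_of_defect_one hM hb.1 (hdef b hb)
  -- the value on the section
  have hval : ∀ χ ∈ B, ∃ a : ℂ, ∀ y : (Subgroup.centralizer ({x} : Set G)), ¬ 2 ∣ orderOf y →
      (χ : G → ℂ) (x * (y : G)) = a * (θ : (Subgroup.centralizer ({x} : Set G)) → ℂ) y := by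
    intro χ hχ
    refine ⟨∑ ξ : Cfsg.IrrCharacter (Subgroup.centralizer ({x} : Set G)), if ξ ∈ b then
      Cfsg.classInner (fun c : (Subgroup.centralizer ({x} : Set G)) => (χ : G → ℂ) (x * (c : G))) (ξ : (Subgroup.centralizer ({x} : Set G)) → ℂ) else 0, fun y hy => ?_⟩
    have h := CfsgLib.Blocks.blockPart_overSet hM hx' hB χ hy
    rw [if_pos hχ, Cfsg.blockPart, CfsgLib.Blocks.finsum_irr_mem,
      show (Fintype.ofFinite (Subgroup.centralizer ({x} : Set G))) = ‹Fintype (Subgroup.centralizer ({x} : Set G))› from Subsingleton.elim _ _] at h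
    rw [← h, Finset.sum_mul]
    refine Finset.sum_congr rfl fun ξ _ => ?_
    by_cases hξ : ξ ∈ b
    · rw [if_pos (hmemA ξ hξ), if_pos hξ, hbagree θ hθ ξ hξ y hy]
    · rw [if_neg (fun h => hξ (huniq ξ h)), if_neg hξ, zero_mul]
  choose a ha using hval
  have hreg1 : ¬ 2 ∣ orderOf (1 : G) := by rw [orderOf_one]; decide
  have hreg1' : ¬ 2 ∣ orderOf (1 : (Subgroup.centralizer ({x} : Set G))) := by rw [orderOf_one]; decide
  have hBsum : ∀ f : Cfsg.IrrCharacter G → ℂ,
      (∑ φ : Cfsg.IrrCharacter G, if φ ∈ B then f φ else 0) = f χ₀.1 + f χ₁.1 := by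
    intro f
    rw [← Finset.sum_filter, show Finset.univ.filter (· ∈ B) = {χ₀.1, χ₁.1} from ?_,
      Finset.sum_pair (fun h => hne (Subtype.ext h))]
    ext φ
    simp only [Finset.mem_filter, Finset.mem_univ, true_and, Finset.mem_insert,
      Finset.mem_singleton]
    refine ⟨fun h => ?_, ?_⟩
    · have := hBeq.symm ▸ (Set.mem_univ (⟨φ, h⟩ : B))
      rcases this with h1 | h1
      · exact Or.inl (congrArg Subtype.val h1)
      · exact Or.inr (congrArg Subtype.val h1)
    · rintro (rfl | rfl)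
      exacts [χ₀.2, χ₁.2]
  have horth : ∀ y : (Subgroup.centralizer ({x} : Set G)), ¬ 2 ∣ orderOf y →
      (χ₁.1 : G → ℂ) (x * (y : G)) = -(χ₀.1 : G → ℂ) (x * (y : G)) := by
    intro y hy
    have hsing : 2 ∣ orderOf (x * (y : G)) := by
      rw [(hcx y).orderOf_mul_eq_mul_orderOf_of_coprime, hx]
      · exact dvd_mul_right 2 _
      · rw [hx, Subgroup.orderOf_coe]
        exact (Nat.prime_two.coprime_iff_not_dvd).2 hy
    have h := CfsgLib.Blocks.sum_union_mul_conj_eq_zero hM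
      (CfsgLib.Blocks.isBlockUnion_of_isPBlock hB) hreg1 hsing
    rw [hBsum, hagree χ₁.1 χ₁.2 χ₀.1 χ₀.2 1 hreg1, ← mul_add, mul_eq_zero] at h
    have h' := congrArg (starRingEnd ℂ) (h.resolve_left (CfsgLib.Characters.irr_one_ne_zero χ₀.1.2))
    rw [map_add, map_zero, Complex.conj_conj, Complex.conj_conj] at h'
    linear_combination h'
  set a₀ := a χ₀.1 χ₀.2
  have hθ1 : (θ : (Subgroup.centralizer ({x} : Set G)) → ℂ) 1 ≠ 0 := CfsgLib.Characters.irr_one_ne_zero θ.2
  have ha1 : (χ₀.1 : G → ℂ) x = a₀ * (θ : (Subgroup.centralizer ({x} : Set G)) → ℂ) 1 := by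
    simpa using ha χ₀.1 χ₀.2 1 hreg1'
  have hreal : (starRingEnd ℂ) a₀ = a₀ := by
    have hc : (starRingEnd ℂ) ((χ₀.1 : G → ℂ) x) = (χ₀.1 : G → ℂ) x := by
      rw [← CfsgLib.Characters.character_inv (CfsgLib.Characters.isCharacter_of_isIrr χ₀.1.2),
        inv_eq_of_mul_eq_one_right (show x * x = 1 by
          rw [← sq, ← hx, pow_orderOf_eq_one])]
    rw [ha1, map_mul, CfsgLib.Blocks.conj_one_irr] at hc
    exact mul_right_cancel₀ hθ1 hc
  have hsq : a₀ ^ 2 = 1 := by
    have h := CfsgLib.BlockPairing.sum_sq_section hM hx' hB hreg1'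
    rw [hBsum, horth 1 hreg1', map_neg] at h
    simp only [OneMemClass.coe_one, mul_one, ha1, map_mul, hreal, CfsgLib.Blocks.conj_one_irr] at h
    rw [Finset.sum_congr rfl (g := fun ξ => if ξ ∈ b then (θ : (Subgroup.centralizer ({x} : Set G)) → ℂ) 1 * (θ : (Subgroup.centralizer ({x} : Set G)) → ℂ) 1 else 0)
      fun ξ _ => ?_] at h
    · rw [← Finset.sum_filter, Finset.sum_const, nsmul_eq_mul, ← Fintype.card_subtype,
        ← Nat.card_eq_fintype_card,
        show Nat.card {ξ : Cfsg.IrrCharacter (Subgroup.centralizer ({x} : Set G)) // ξ ∈ b} = 2 from hbk] at h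
      have h2 : (a₀ ^ 2 - 1) * ((θ : (Subgroup.centralizer ({x} : Set G)) → ℂ) 1 * (θ : (Subgroup.centralizer ({x} : Set G)) → ℂ) 1) = 0 := by
        push_cast at h
        linear_combination (1/2 : ℂ) * h
      exact sub_eq_zero.1 ((mul_eq_zero.1 h2).resolve_right (mul_ne_zero hθ1 hθ1))
    · by_cases hξ : ξ ∈ b
      · rw [if_pos (hmemA ξ hξ), if_pos hξ, hbagree θ hθ ξ hξ 1 hreg1']
      · rw [if_neg (fun h => hξ (huniq ξ h)), if_neg hξ]
  obtain ⟨ε, hε, hεa⟩ : ∃ ε : ℤ, (ε = 1 ∨ ε = -1) ∧ a₀ = (ε : ℂ) := by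
    rcases sq_eq_one_iff.1 hsq with h | h
    · exact ⟨1, Or.inl rfl, by rw [h, Int.cast_one]⟩
    · exact ⟨-1, Or.inr rfl, by rw [h]; push_cast; rfl⟩
  refine ⟨χ₀.1, χ₀.2, χ₁.1, χ₁.2, fun h => hne (Subtype.ext h), ε, -ε, hε, by omega,
    by rcases hε with rfl | rfl <;> norm_num, fun y hy => ⟨?_, ?_⟩⟩
  · rw [ha χ₀.1 χ₀.2 y hy, ← hεa]
  · rw [horth y hy, ha χ₀.1 χ₀.2 y hy, Int.cast_neg, ← hεa, neg_mul]

end Cfsg.Agent.S4513
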