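import Cfsg.Statements.S4517
import Cfsg.Agent.BlockPairing.TwoBlocks
import Cfsg.Agent.Characters.Integrality

set_option autoImplicit false
open Cfsg

namespace Cfsg.Agent.S4517

/-- Let G be a finite group, M a maximal ideal of the algebraic integers containing 2, and k a natural number coprime to the order of G with g ^ k = g⁻¹ for every element g of odd order (so that g ↦ g ^ k induces a field automorphism of the character values inverting the roots of unity of odd order). If B is a 2-block of full defect (its defect equals the exponent of 2 in the order of G) that is stable under χ ↦ χ ∘ (· ^ k), then B is the principal 2-block. -/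
theorem result {G : Type*} [Group G] [Finite G] (M : Ideal Cfsg.AlgInt) (hM : Cfsg.IsPModular 2 M) (k : ℕ) (hk : Nat.Coprime k (Nat.card G)) (hk₂ : ∀ g : G, Odd (orderOf g) → g ^ k = g⁻¹) (B : Set (Cfsg.IrrCharacter G)) (hB : Cfsg.IsPBlock M B) (hdef : Cfsg.blockDefect 2 B = (Nat.card G).factorization 2) (hstab : ∀ χ ∈ B, ∃ ψ ∈ B, ∀ g : G, (ψ : G → ℂ) g = (χ : G → ℂ) (g ^ k)) : B = Cfsg.principalBlock M G := by
  haveI := CfsgLib.Blocks.IsPModular.isPrime hM
  haveI := Fintype.ofFinite G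
  haveI := CfsgLib.Blocks.charP_res hM
  have hne : B.Nonempty := CfsgLib.Blocks.isPBlock_nonempty hB
  obtain ⟨χ, hχB, hodd⟩ : ∃ χ ∈ B, Odd (Cfsg.charDegree (χ : G → ℂ)) := by
    obtain ⟨χ, hχB, hχ⟩ := Nat.sInf_mem (hne.image
      (fun χ : Cfsg.IrrCharacter G => (Cfsg.charDegree (χ : G → ℂ)).factorization 2))
    refine ⟨χ, hχB, ?_⟩
    obtain ⟨n, hn, hpos⟩ : ∃ n : ℕ, (χ : G → ℂ) 1 = n ∧ 0 < n ∧ n ∣ Nat.card G := by
      obtain ⟨m, ρ, hρ, he⟩ := χ.2
      refine ⟨Module.finrank ℂ (Fin m → ℂ), by rw [← he, Representation.char_one], ?_,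
        CfsgLib.Characters.finrank_dvd_card ρ⟩
      exact CfsgLib.Characters.finrank_pos_of_isIrreducible ρ
    have hcd : Cfsg.charDegree (χ : G → ℂ) = n := by simp [Cfsg.charDegree, hn]
    have hle : n.factorization 2 ≤ (Nat.card G).factorization 2 :=
      Nat.factorization_le_iff_dvd hpos.1.ne' Nat.card_pos.ne' |>.2 hpos.2 2
    unfold Cfsg.blockDefect at hdef
    simp only [hcd] at hχ
    rw [← hχ] at hdef
    have h0 : n.factorization 2 = 0 := by omega
    rw [hcd, Nat.odd_iff, ← Nat.two_dvd_ne_zero]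
    exact fun hd => by
      have := Nat.Prime.factorization_pos_of_dvd Nat.prime_two hpos.1.ne' hd
      omega
  have hmem : χ ∈ Cfsg.principalBlock M G := by
    refine CfsgLib.BlockPairing.mem_principalBlock_of_inv hM χ hodd fun g hg hgo => ?_
    obtain ⟨ψ, hψB, hψ⟩ := hstab χ hχB
    have hψ1 : (ψ : G → ℂ) 1 = (χ : G → ℂ) 1 := by rw [hψ, one_pow]
    have hsame : CfsgLib.Blocks.omegaBar M χ = CfsgLib.Blocks.omegaBar M ψ :=
      (CfsgLib.Blocks.sameBlock_iff χ ψ).1 (by
        have := CfsgLib.Blocks.eq_blockOf_of_mem hB hχB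
        rw [this] at hψB
        exact hψB)
    have hr1 : CfsgLib.BlockPairing.redVal M χ 1 = 1 := CfsgLib.BlockPairing.redVal_one hM hodd
    have hr1' : CfsgLib.BlockPairing.redVal M ψ 1 = 1 :=
      CfsgLib.BlockPairing.redVal_one hM (by rwa [Cfsg.charDegree, hψ1, ← Cfsg.charDegree])
    have h1 := CfsgLib.BlockPairing.omegaBar_classSum_mul (M := M) χ g
    have h2 := CfsgLib.BlockPairing.omegaBar_classSum_mul (M := M) ψ g
    rw [hr1, mul_one] at h1
    rw [hr1', mul_one, ← hsame, h1] at h2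
    have hi : ((Subgroup.centralizer ({g} : Set G)).index : CfsgLib.Blocks.Res M) ≠ 0 := fun h =>
      Nat.two_dvd_ne_zero.2 (Nat.odd_iff.1 hg) ((CharP.cast_eq_zero_iff _ 2 _).1 h)
    rw [mul_left_cancel₀ hi h2]
    simp only [CfsgLib.BlockPairing.redVal, hψ g, hk₂ g hgo]
  obtain ⟨χ₀, rfl⟩ := hB
  rw [← CfsgLib.Blocks.blockOf_eq_of_mem hχB]
  exact CfsgLib.Blocks.blockOf_eq_of_mem (χ := ⟨fun _ => 1, CfsgLib.Characters.isIrr_one⟩) hmem

end Cfsg.Agent.S4517
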