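import Cfsg.Statements.S4520
import Cfsg.Agent.BlocksLocal.Covering
import Cfsg.Agent.OddIndexGalois.Over
import Cfsg.Agent.BlocksCharsC.RegularSupport

set_option autoImplicit false
open Cfsg

namespace Cfsg.Agent.S4520

/-- Let N be a normal subgroup of odd index in the finite group G, M a maximal ideal of the algebraic integers containing 2, and k coprime to the order of G with k ^ (2 ^ e) ≡ 1 modulo the order of G for some e and g ^ k = g⁻¹ for every element g of odd order. Let θ be an irreducible character of N and χ an irreducible character of G over θ, both unchanged by composing with g ↦ g ^ k. Then χ lies in the principal 2-block of G if and only if θ lies in the principal 2-block of N. -/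
theorem result {G : Type*} [Group G] [Fintype G] (M : Ideal Cfsg.AlgInt) (hM : Cfsg.IsPModular 2 M) (N : Subgroup G) [N.Normal] [Fintype N] (hidx : Odd N.index) (k e : ℕ) (hk : Nat.Coprime k (Nat.card G)) (hke : k ^ (2 ^ e) ≡ 1 [MOD Nat.card G]) (hk₂ : ∀ g : G, Odd (orderOf g) → g ^ k = g⁻¹) (θ : Cfsg.IrrCharacter N) (hθ : ∀ n : N, (θ : N → ℂ) (n ^ k) = (θ : N → ℂ) n) (χ : Cfsg.IrrCharacter G) (hχ : ∀ g : G, (χ : G → ℂ) (g ^ k) = (χ : G → ℂ) g) (hover : Cfsg.classInner (fun n : N => (χ : G → ℂ) n) (θ : N → ℂ) ≠ 0) : χ ∈ Cfsg.principalBlock M G ↔ θ ∈ Cfsg.principalBlock M N := by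
  classical
  haveI := CfsgLib.Blocks.IsPModular.isPrime hM
  haveI : Fact (Nat.Prime 2) := ⟨Nat.prime_two⟩
  haveI := CfsgLib.Blocks.charP_res hM
  set B := Cfsg.principalBlock M G with hBdef
  set b := Cfsg.principalBlock M N with hbdef
  have hB : Cfsg.IsPBlock M B := CfsgLib.BlocksCharsC.isPBlock_principalBlock
  have hb : Cfsg.IsPBlock M b := CfsgLib.BlocksCharsC.isPBlock_principalBlock
  let one : Cfsg.IrrCharacter G := CfsgLib.BlocksCharsC.trivialIrr G
  let one' : Cfsg.IrrCharacter N := CfsgLib.BlocksCharsC.trivialIrr N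
  have h1B : one ∈ B := by
    rw [hBdef, CfsgLib.BlocksCharsC.principalBlock_eq]
    exact CfsgLib.Blocks.mem_blockOf_self (M := M) one
  have h1b : one' ∈ b := by
    rw [hbdef, CfsgLib.BlocksCharsC.principalBlock_eq]
    exact CfsgLib.Blocks.mem_blockOf_self (M := M) one'
  constructor
  · intro hmem
    have hone : Cfsg.classInner (fun n : N => (one : G → ℂ) n) (one' : N → ℂ) ≠ 0 := by
      rw [show (fun n : N => (one : G → ℂ) n) = (one' : N → ℂ) from rfl,
        CfsgLib.Characters.classInner_isIrr_self one'.2]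
      exact one_ne_zero
    obtain ⟨g, θ₀, hθ₀, rfl⟩ :=
      CfsgLib.BlocksLocal.mem_coverSet_of_covers N hB hb h1B h1b hone hmem hover
    have h := CfsgLib.BlocksLocal.sameBlock_conjIrr N (M := M)
      (θ := one') (θ' := θ₀) (by
        have := hθ₀
        rw [hbdef, CfsgLib.BlocksCharsC.principalBlock_eq] at this
        exact this) g
    rw [hbdef, CfsgLib.BlocksCharsC.principalBlock_eq]
    exact h
  · intro hmem
    -- the multiplicities weighted over the principal block
    have hnat : ∀ (η : Cfsg.IrrCharacter N) (φ : Cfsg.IrrCharacter G), ∃ m : ℕ,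
        CfsgLib.OddIndexGalois.mult N (η : N → ℂ) φ = m := fun η φ =>
      CfsgLib.Characters.classInner_character_irr
        (CfsgLib.Characters.isCharacter_restrict N (CfsgLib.Characters.isCharacter_of_isIrr φ.2)) η.2
    choose m hm using hnat
    let o : Cfsg.IrrCharacter N → ℕ := fun η =>
      (CfsgLib.CharactersDeep.Clifford.orbit N (η : N → ℂ)).card
    let w : Cfsg.IrrCharacter N → Cfsg.IrrCharacter G → ℕ := fun η φ =>
      if φ ∈ B then m η φ * (m η φ * o η) else 0
    let z : CfsgLib.Blocks.Ctr (CfsgLib.Blocks.localRing M) N := CfsgLib.Blocks.resCtr N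
      (CfsgLib.Blocks.setIdemO M B (CfsgLib.Blocks.memLocalRing_blockCoeff
        (CfsgLib.Blocks.isBlockUnion_of_isPBlock hB)))
    have hW : ∀ η : Cfsg.IrrCharacter N, ((∑ φ, w η φ : ℕ) : ℂ) =
        (N.index : ℂ) * (CfsgLib.Blocks.omegaO M η z : ℂ) := by
      intro η
      have hη1 := CfsgLib.Characters.irr_one_ne_zero η.2
      rw [CfsgLib.Blocks.coe_omegaO, CfsgLib.Blocks.omega_apply, mul_div, eq_div_iff hη1]
      push_cast
      rw [Finset.sum_mul]
      have hN : (Nat.card G : ℂ) = (N.index : ℂ) * (Nat.card N : ℂ) := by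
        rw [← Nat.cast_mul, Subgroup.index_mul_card]
      have hcard : (Nat.card N : ℂ) ≠ 0 := Nat.cast_ne_zero.2 Nat.card_pos.ne'
      have hidx0 : (N.index : ℂ) ≠ 0 := Nat.cast_ne_zero.2 Subgroup.index_ne_zero_of_finite
      have hterm : ∀ φ : Cfsg.IrrCharacter G, ((w η φ : ℕ) : ℂ) * (η : N → ℂ) 1 =
          ∑ n : N, (if φ ∈ B then (Nat.card N : ℂ)⁻¹ * ((φ : G → ℂ) 1 *
            ((starRingEnd ℂ) ((φ : G → ℂ) n) * (η : N → ℂ) n)) else 0) := by
        intro φ
        by_cases hφ : φ ∈ B
        · simp only [w, if_pos hφ, ← Finset.mul_sum]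
          have hmm : ((Nat.card N : ℂ))⁻¹ * ∑ n : N, (starRingEnd ℂ) ((φ : G → ℂ) n) *
              (η : N → ℂ) n = (m η φ : ℂ) := by
            rw [← Complex.conj_natCast (m η φ), ← hm η φ, CfsgLib.OddIndexGalois.mult,
              Cfsg.classInner]
            simp [map_sum]
          rw [← mul_assoc ((Nat.card N : ℂ))⁻¹, mul_comm ((Nat.card N : ℂ))⁻¹, mul_assoc, hmm]
          rcases eq_or_ne (m η φ) 0 with h0 | h0
          · simp [h0]
          · rw [CfsgLib.OddIndexGalois.degree_eq N η.2 φ (by rw [hm]; exact_mod_cast h0), hm]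
            push_cast
            ring
        · simp [w, hφ]
      rw [Finset.sum_congr rfl fun φ _ => hterm φ, Finset.sum_comm, Finset.mul_sum]
      refine Finset.sum_congr rfl fun n _ => ?_
      simp only [z, CfsgLib.Blocks.toC, CfsgLib.Blocks.coeff_mapCtr, CfsgLib.Blocks.coeff_resCtr,
        CfsgLib.Blocks.setIdemO, CfsgLib.Blocks.coeff_ofFun]
      show _ = (N.index : ℂ) * (Cfsg.blockCoeff B n * (η : N → ℂ) n)
      rw [CfsgLib.Blocks.blockCoeff_eq_sum, hN, ← mul_assoc, ← mul_assoc, mul_inv,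
        ← mul_assoc, mul_inv_cancel₀ hidx0, one_mul, Finset.mul_sum, Finset.sum_mul]
      refine Finset.sum_congr rfl fun φ _ => ?_
      split_ifs <;> ring
    have hpar : ((∑ φ, w θ φ : ℕ) : CfsgLib.Blocks.Res M) =
        ((∑ φ, w one' φ : ℕ) : CfsgLib.Blocks.Res M) := by
      have e : ∀ η : Cfsg.IrrCharacter N, ((∑ φ, w η φ : ℕ) : CfsgLib.Blocks.Res M) =
          CfsgLib.Blocks.red M (((N.index : ℕ) : CfsgLib.Blocks.localRing M) *
            CfsgLib.Blocks.omegaO M η z) := by
        intro η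
        rw [← map_natCast (CfsgLib.Blocks.red M)]
        congr 1
        refine Subtype.ext ?_
        rw [SubringClass.coe_natCast, hW η, MulMemClass.coe_mul, SubringClass.coe_natCast]
      rw [e, e, map_mul, map_mul, ← CfsgLib.Blocks.omegaBar_redCtr,
        ← CfsgLib.Blocks.omegaBar_redCtr, CfsgLib.BlocksCharsC.omegaBar_eq_trivial hmem]
    have hgB : ∀ φ, CfsgLib.OddIndexGalois.galPerm hk φ ∈ B ↔ φ ∈ B := by
      have himp : ∀ φ ∈ B, CfsgLib.OddIndexGalois.galPerm hk φ ∈ B := fun φ hφ => by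
        have h := CfsgLib.BlocksCharsC.powIrr_mem_principalBlock hk hφ
        convert h using 1
        exact Subtype.ext (funext fun g => CfsgLib.OddIndexGalois.galPerm_apply hk φ g)
      intro φ
      refine ⟨fun h => ?_, himp φ⟩
      let F : B → B := fun a => ⟨CfsgLib.OddIndexGalois.galPerm hk a.1, himp a.1 a.2⟩
      have hF : Function.Injective F := fun a a' haa => Subtype.ext
        ((CfsgLib.OddIndexGalois.galPerm hk).injective (congrArg Subtype.val haa))
      obtain ⟨⟨a, ha⟩, hA⟩ := Finite.injective_iff_surjective.1 hF ⟨_, h⟩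
      rw [← (CfsgLib.OddIndexGalois.galPerm hk).injective (congrArg Subtype.val hA)]
      exact ha
    have hfix : ∀ η : Cfsg.IrrCharacter N, (∀ n : N, (η : N → ℂ) (n ^ k) = (η : N → ℂ) n) →
        ((∑ φ, w η φ : ℕ) : ZMod 2) = ∑ φ ∈ Finset.univ.filter
          (fun φ => CfsgLib.OddIndexGalois.galPerm hk φ = φ), ((w η φ : ℕ) : ZMod 2) := by
      intro η hη
      rw [Nat.cast_sum]
      refine CfsgLib.OddIndexGalois.sum_eq_sum_fixed_mod_two hk hke _ fun φ => ?_
      have : m η (CfsgLib.OddIndexGalois.galPerm hk φ) = m η φ := Nat.cast_injective (R := ℂ)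
        (by rw [← hm, ← hm, CfsgLib.OddIndexGalois.mult_galPerm N hk hη])
      simp only [w, this, hgB]
    have hfix1 : CfsgLib.OddIndexGalois.galPerm hk one = one :=
      Subtype.ext (funext fun g => CfsgLib.OddIndexGalois.galPerm_apply hk one g)
    have hm1 : m one' one = 1 := Nat.cast_injective (R := ℂ) (by
      rw [← hm, Nat.cast_one]
      exact CfsgLib.Characters.classInner_isIrr_self one'.2)
    have ho1 : o one' = 1 := by
      have h := CfsgLib.OddIndexGalois.degree_eq N one'.2 one (by rw [hm, hm1]; simp)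
      rw [hm, hm1] at h
      simpa [o, one, one', CfsgLib.BlocksCharsC.trivialIrr] using h.symm
    have hone : ((∑ φ, w one' φ : ℕ) : ZMod 2) = 1 := by
      rw [hfix one' fun n => rfl, Finset.sum_eq_single one]
      · simp [w, h1B, hm1, ho1]
      · intro φ hφ hne
        have h0 : m one' φ = 0 := by
          by_contra h0
          exact hne (CfsgLib.OddIndexGalois.fixed_over_unique N hk hke hidx hk₂ one'.2 φ one
            (by rw [hm]; exact_mod_cast h0) (Finset.mem_filter.1 hφ).2 (by rw [hm, hm1]; simp) hfix1)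
        simp [w, h0]
      · simp [hfix1]
    obtain ⟨φ, hφ, hne⟩ : ∃ φ ∈ Finset.univ.filter
        (fun φ => CfsgLib.OddIndexGalois.galPerm hk φ = φ), ((w θ φ : ℕ) : ZMod 2) ≠ 0 := by
      apply Finset.exists_ne_zero_of_sum_ne_zero
      rw [← hfix θ hθ]
      intro h0
      rw [ZMod.natCast_eq_zero_iff_even, even_iff_two_dvd,
        ← CharP.cast_eq_zero_iff (CfsgLib.Blocks.Res M) 2, hpar,
        CharP.cast_eq_zero_iff (CfsgLib.Blocks.Res M) 2, ← even_iff_two_dvd,
        ← ZMod.natCast_eq_zero_iff_even, hone] at h0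
      exact one_ne_zero h0
    have hφB : φ ∈ B := by
      by_contra h
      exact hne (by simp [w, h])
    have hm0 : m θ φ ≠ 0 := fun h => hne (by simp [w, h])
    rw [CfsgLib.OddIndexGalois.fixed_over_unique N hk hke hidx hk₂ θ.2 χ φ hover
      (Subtype.ext (funext fun g => (CfsgLib.OddIndexGalois.galPerm_apply hk χ g).trans (hχ g)))
      (by rw [hm]; exact_mod_cast hm0) (Finset.mem_filter.1 hφ).2]
    exact hφB

end Cfsg.Agent.S4520
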