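import Cfsg.Statements.S4521
import Cfsg.Agent.BlocksLocal.Covering
import Cfsg.Agent.BlocksCharsC.RegularSupport

set_option autoImplicit false
open Cfsg

namespace Cfsg.Agent.S4521

/-- Let the finite group G be generated by subgroups U₁ and U₂ that commute elementwise and whose intersection is a p-group, and let M be a maximal ideal of the algebraic integers containing the prime p. If the irreducible character χ of G has the irreducible constituents ψ₁ on U₁ and ψ₂ on U₂, then χ lies in the principal block of G if and only if ψ₁ and ψ₂ lie in the principal blocks of U₁ and U₂. -/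
theorem result {G : Type*} [Group G] [Fintype G] (p : ℕ) [Fact p.Prime] (M : Ideal Cfsg.AlgInt) (hM : Cfsg.IsPModular p M) (U₁ U₂ : Subgroup G) [Fintype U₁] [Fintype U₂] (hcomm : ∀ u ∈ U₁, ∀ v ∈ U₂, u * v = v * u) (hgen : U₁ ⊔ U₂ = ⊤) (hZ : IsPGroup p ↥(U₁ ⊓ U₂)) (χ : Cfsg.IrrCharacter G) (ψ₁ : Cfsg.IrrCharacter U₁) (ψ₂ : Cfsg.IrrCharacter U₂) (h₁ : Cfsg.classInner (fun u : U₁ => (χ : G → ℂ) u) (ψ₁ : U₁ → ℂ) ≠ 0) (h₂ : Cfsg.classInner (fun u : U₂ => (χ : G → ℂ) u) (ψ₂ : U₂ → ℂ) ≠ 0) : χ ∈ Cfsg.principalBlock M G ↔ (ψ₁ ∈ Cfsg.principalBlock M U₁ ∧ ψ₂ ∈ Cfsg.principalBlock M U₂) := by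
  classical
  haveI := CfsgLib.Blocks.IsPModular.isPrime hM
  have hswap : ∀ (U V : Subgroup G), (∀ u ∈ U, ∀ v ∈ V, u * v = v * u) → U ⊔ V = ⊤ → U.Normal := by
    intro U V hc hg
    rw [← Subgroup.normalizer_eq_top_iff, eq_top_iff, ← hg, sup_le_iff]
    refine ⟨Subgroup.le_normalizer, fun v hv => ?_⟩
    rw [Subgroup.mem_normalizer_iff]
    intro x
    constructor
    · intro hx
      rwa [← hc x hx v hv, mul_inv_cancel_right]
    · intro hx
      have h := hc _ hx v hv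
      have : v * x * v⁻¹ = x := by
        have h2 : v * x = v * (v * x * v⁻¹) := by rw [← h]; group
        exact (mul_left_cancel h2).symm
      rwa [this] at hx
  haveI hn₁ : U₁.Normal := hswap U₁ U₂ hcomm hgen
  haveI hn₂ : U₂.Normal := hswap U₂ U₁ (fun u hu v hv => (hcomm v hv u hu).symm)
    (sup_comm U₁ U₂ ▸ hgen)
  have hdec : ∀ g : G, ∃ u ∈ U₁, ∃ v ∈ U₂, g = u * v := by
    intro g
    have hg : g ∈ U₁ ⊔ U₂ := hgen ▸ Subgroup.mem_top g
    obtain ⟨u, hu, v, hv, rfl⟩ := Subgroup.mem_sup_of_normal_left.1 hg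
    exact ⟨u, hu, v, hv, rfl⟩
  set one := CfsgLib.BlocksCharsC.trivialIrr G
  set B := Cfsg.principalBlock M G with hBdef
  have hB : Cfsg.IsPBlock M B := CfsgLib.BlocksCharsC.isPBlock_principalBlock
  have h1B : one ∈ B := by
    rw [hBdef, CfsgLib.BlocksCharsC.principalBlock_eq]
    exact CfsgLib.Blocks.mem_blockOf_self (M := M) one
  -- both directions inside one normal subgroup
  have key : ∀ (U : Subgroup G) [U.Normal] [Fintype U] (ψ : Cfsg.IrrCharacter U),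
      Cfsg.classInner (fun u : U => (χ : G → ℂ) u) (ψ : U → ℂ) ≠ 0 →
      (χ ∈ B → ψ ∈ Cfsg.principalBlock M U) ∧
      (ψ ∈ Cfsg.principalBlock M U → ∀ u : U,
        CfsgLib.Blocks.omegaBar M χ (CfsgLib.Blocks.classSum _ (ConjClasses.mk (u : G))) =
        CfsgLib.Blocks.omegaBar M one (CfsgLib.Blocks.classSum _ (ConjClasses.mk (u : G)))) := by
    intro U _ _ ψ hψ
    set one' := CfsgLib.BlocksCharsC.trivialIrr U
    have h1b : one' ∈ Cfsg.principalBlock M U := by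
      rw [CfsgLib.BlocksCharsC.principalBlock_eq]
      exact CfsgLib.Blocks.mem_blockOf_self (M := M) one'
    have hone : Cfsg.classInner (fun n : U => (one : G → ℂ) n) (one' : U → ℂ) ≠ 0 := by
      rw [show (fun n : U => (one : G → ℂ) n) = (one' : U → ℂ) from rfl,
        CfsgLib.Characters.classInner_isIrr_self one'.2]
      exact one_ne_zero
    refine ⟨fun hχ => ?_, fun hb u => ?_⟩
    · obtain ⟨g, θ₀, hθ₀, rfl⟩ := CfsgLib.BlocksLocal.mem_coverSet_of_covers U hB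
        CfsgLib.BlocksCharsC.isPBlock_principalBlock h1B h1b hone hχ hψ
      rw [CfsgLib.BlocksCharsC.principalBlock_eq] at hθ₀ ⊢
      exact CfsgLib.BlocksLocal.sameBlock_conjIrr U (M := M) (θ := one') (θ' := θ₀) hθ₀ g
    · rw [CfsgLib.BlocksLocal.omegaBar_classSum_eq_of_covers U hψ,
        CfsgLib.BlocksLocal.omegaBar_classSum_eq_of_covers U hone,
        CfsgLib.BlocksCharsC.omegaBar_eq_trivial hb]
  refine ⟨fun hχ => ⟨(key U₁ ψ₁ h₁).1 hχ, (key U₂ ψ₂ h₂).1 hχ⟩, fun hψ => ?_⟩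
  have hω₁ := (key U₁ ψ₁ h₁).2 hψ.1
  have hω₂ := (key U₂ ψ₂ h₂).2 hψ.2
  rw [hBdef, CfsgLib.BlocksCharsC.principalBlock_eq]
  refine CfsgLib.Blocks.sameBlock_symm (ψ := one)
    (CfsgLib.BlocksCharsC.sameBlock_of_regular hM fun g hg => ?_)
  -- split a regular element into regular factors
  obtain ⟨u₀, hu₀, v₀, hv₀, rfl⟩ := hdec g
  have hpp : p.Prime := Fact.out
  set a := (Nat.card G).factorization p
  obtain ⟨m, hm⟩ := exists_pow_eq_self_of_coprime (x := u₀ * v₀) (n := p ^ a)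
    (Nat.Coprime.pow_left _ (hpp.coprime_iff_not_dvd.2 hg))
  have hmem : ∀ w : G, ¬ p ∣ orderOf (w ^ (p ^ a)) := fun w hd => by
    have h1 : (w ^ p ^ a) ^ (Nat.card G / p ^ a) = 1 := by
      rw [← pow_mul, Nat.mul_div_cancel' (Nat.ordProj_dvd _ _), pow_card_eq_one']
    exact Nat.not_dvd_ordCompl hpp Nat.card_pos.ne'
      (hd.trans (orderOf_dvd_of_pow_eq_one h1))
  set u := (u₀ ^ (p ^ a)) ^ m
  set v := (v₀ ^ (p ^ a)) ^ m
  have huv : u₀ * v₀ = u * v := by
    have hc : Commute u₀ v₀ := hcomm u₀ hu₀ v₀ hv₀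
    conv_lhs => rw [← hm, hc.mul_pow, (hc.pow_pow _ _).mul_pow]
  have hu : u ∈ U₁ := Subgroup.pow_mem _ (Subgroup.pow_mem _ hu₀ _) _
  have hv : v ∈ U₂ := Subgroup.pow_mem _ (Subgroup.pow_mem _ hv₀ _) _
  have hureg : ¬ p ∣ orderOf u := fun h => hmem u₀ (h.trans (orderOf_pow_dvd m))
  -- the class sum of the product
  have hprod : CfsgLib.Blocks.classSum (CfsgLib.Blocks.Res M) (ConjClasses.mk u) *
      CfsgLib.Blocks.classSum (CfsgLib.Blocks.Res M) (ConjClasses.mk v) =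
      CfsgLib.Blocks.classSum (CfsgLib.Blocks.Res M) (ConjClasses.mk (u * v)) := by
    refine CfsgLib.Blocks.ctr_ext fun y => ?_
    rw [Subring.coe_mul, CfsgLib.Blocks.coeff_mul_eq_sum]
    simp only [CfsgLib.Blocks.coeff_classSum]
    have hx1 : ∀ x : G, ConjClasses.mk x = ConjClasses.mk u →
        ∃ a ∈ U₁, x = a * u * a⁻¹ := by
      intro x hx
      obtain ⟨c, hc⟩ := isConj_iff.1 (ConjClasses.mk_eq_mk_iff_isConj.1 hx).symm
      obtain ⟨a, ha, b, hb, rfl⟩ := hdec c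
      refine ⟨a, ha, ?_⟩
      have h1 : b * u * b⁻¹ = u := by rw [← hcomm u hu b hb, mul_inv_cancel_right]
      calc x = a * (b * u * b⁻¹) * a⁻¹ := by rw [← hc]; group
        _ = a * u * a⁻¹ := by rw [h1]
    have hx2 : ∀ x : G, ConjClasses.mk x = ConjClasses.mk v →
        ∃ b ∈ U₂, x = b * v * b⁻¹ := by
      intro x hx
      obtain ⟨c, hc⟩ := isConj_iff.1 (ConjClasses.mk_eq_mk_iff_isConj.1 hx).symm
      obtain ⟨a, ha, b, hb, rfl⟩ := hdec c
      refine ⟨b, hb, ?_⟩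
      have hbv : b * v * b⁻¹ ∈ U₂ := hn₂.conj_mem v hv b
      calc x = a * (b * v * b⁻¹) * a⁻¹ := by rw [← hc]; group
        _ = b * v * b⁻¹ := by rw [hcomm a ha _ hbv, mul_inv_cancel_right]
    have hfwd : ∀ x : G, ConjClasses.mk x = ConjClasses.mk u →
        ConjClasses.mk (x⁻¹ * y) = ConjClasses.mk v → ConjClasses.mk y = ConjClasses.mk (u * v) := by
      intro x hx hy
      obtain ⟨a, ha, hxa⟩ := hx1 x hx
      obtain ⟨b, hb, hyb⟩ := hx2 _ hy
      refine ConjClasses.mk_eq_mk_iff_isConj.2 (isConj_iff.2 ⟨a * b, ?_⟩).symm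
      have h1 : b * u * b⁻¹ = u := by rw [← hcomm u hu b hb, mul_inv_cancel_right]
      have hbv : b * v * b⁻¹ ∈ U₂ := hn₂.conj_mem v hv b
      have h2 : a * (b * v * b⁻¹) * a⁻¹ = b * v * b⁻¹ := by
        rw [hcomm a ha _ hbv, mul_inv_cancel_right]
      calc a * b * (u * v) * (a * b)⁻¹
          = (a * (b * u * b⁻¹) * a⁻¹) * (a * (b * v * b⁻¹) * a⁻¹) := by group
        _ = x * (x⁻¹ * y) := by rw [h1, h2, ← hxa, ← hyb]
        _ = y := by group
    by_cases hy : ConjClasses.mk y = ConjClasses.mk (u * v)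
    · rw [if_pos hy]
      obtain ⟨c, hc⟩ := isConj_iff.1 (ConjClasses.mk_eq_mk_iff_isConj.1 hy).symm
      have hx0 : ConjClasses.mk (c * u * c⁻¹) = ConjClasses.mk u :=
        (ConjClasses.mk_eq_mk_iff_isConj.2 (isConj_iff.2 ⟨c, rfl⟩)).symm
      have hy0 : (c * u * c⁻¹)⁻¹ * y = c * v * c⁻¹ := by rw [← hc]; group
      rw [Finset.sum_eq_single (c * u * c⁻¹)]
      · rw [if_pos hx0, if_pos (by rw [hy0]; exact (ConjClasses.mk_eq_mk_iff_isConj.2
          (isConj_iff.2 ⟨c, rfl⟩)).symm), one_mul]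
      · intro x _ hne
        by_contra hn
        obtain ⟨e1, e2⟩ := mul_ne_zero_iff.1 hn
        have hx : ConjClasses.mk x = ConjClasses.mk u := of_not_not fun h => e1 (if_neg h)
        have hxy : ConjClasses.mk (x⁻¹ * y) = ConjClasses.mk v := of_not_not fun h => e2 (if_neg h)
        obtain ⟨a, ha, hxa⟩ := hx1 x hx
        obtain ⟨b, hb, hyb⟩ := hx2 _ hxy
        have hxU : x ∈ U₁ := hxa ▸ hn₁.conj_mem u hu a
        have hx'U : c * u * c⁻¹ ∈ U₁ := hn₁.conj_mem u hu c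
        set z := (c * u * c⁻¹)⁻¹ * x with hz
        have hz1 : z ∈ U₁ := mul_mem (inv_mem hx'U) hxU
        have hz2 : z ∈ U₂ := by
          have : z = ((c * u * c⁻¹)⁻¹ * y) * (x⁻¹ * y)⁻¹ := by rw [hz]; group
          rw [this, hy0, hyb]
          exact mul_mem (hn₂.conj_mem v hv c) (inv_mem (hn₂.conj_mem v hv b))
        have hord : ∀ c : G, ¬ p ∣ orderOf (c * u * c⁻¹) := fun c => by
          rw [show c * u * c⁻¹ = MulAut.conj c u from rfl, MulEquiv.orderOf_eq]; exact hureg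
        have hprodz : c * u * c⁻¹ * z = x := by rw [hz]; group
        have hz0 : z = 1 := CfsgLib.Blocks.regular_mul_pgroup_eq hZ (u := c * u * c⁻¹)
          (Subgroup.mem_inf.2 ⟨hz1, hz2⟩) (hord c) (hcomm _ hx'U z hz2)
          (by rw [hprodz, hxa]; exact hord a)
        exact hne (by rw [← hprodz, hz0, mul_one])
      · simp
    · rw [if_neg hy]
      refine Finset.sum_eq_zero fun x _ => ?_
      split_ifs with h1 h2
      · exact absurd (hfwd x h1 h2) hy
      all_goals simp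
  rw [huv]
  refine (CfsgLib.Blocks.red_eq_red_iff
    (x := ⟨_, CfsgLib.Blocks.memLocalRing_centralChar χ (u * v)⟩)
    (y := ⟨_, CfsgLib.Blocks.memLocalRing_centralChar one (u * v)⟩)).1 ?_
  rw [← CfsgLib.Blocks.omegaBar_classSum, ← CfsgLib.Blocks.omegaBar_classSum, ← hprod, map_mul,
    map_mul, hω₁ ⟨u, hu⟩, hω₂ ⟨v, hv⟩]

end Cfsg.Agent.S4521
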