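import Cfsg.Statements.S4523
import Cfsg.Agent.FixedCharEven.Principal
import Cfsg.Agent.RealElements.TwoClosed
import Cfsg.Agent.S0205

set_option autoImplicit false
open Cfsg

namespace Cfsg.Agent.S4523

/-- Let S be a non-abelian finite simple group with commutative Sylow 2-subgroups and M a maximal ideal of the algebraic integers containing 2. Let k be a natural number with g ^ k = g for every 2-element g and g ^ k = g⁻¹ for every element g of odd order. Then S has an irreducible character χ₁ of even degree with χ₁ (g ^ k) = χ₁ g for all g, and its principal 2-block contains a character χ₂ other than the principal character with χ₂ (g ^ k) = χ₂ g for all g. -/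
theorem result {S : Type*} [Group S] [Finite S] [IsSimpleGroup S] (hna : ¬ IsMulCommutative S) (P : Sylow 2 S) (hP : IsMulCommutative P) (M : Ideal Cfsg.AlgInt) (hM : Cfsg.IsPModular 2 M) (k : ℕ) (hk₁ : ∀ g : S, (∃ j : ℕ, orderOf g = 2 ^ j) → g ^ k = g) (hk₂ : ∀ g : S, Odd (orderOf g) → g ^ k = g⁻¹) : (∃ χ₁ : Cfsg.IrrCharacter S, Even (Cfsg.charDegree (χ₁ : S → ℂ)) ∧ ∀ g : S, (χ₁ : S → ℂ) (g ^ k) = (χ₁ : S → ℂ) g) ∧ ∃ χ₂ ∈ Cfsg.principalBlock M S, (χ₂ : S → ℂ) ≠ (fun _ => 1) ∧ ∀ g : S, (χ₂ : S → ℂ) (g ^ k) = (χ₂ : S → ℂ) g := by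
  open CfsgLib.FixedCharEven in
  haveI : Fact (Nat.Prime 2) := ⟨Nat.prime_two⟩
  haveI := Fintype.ofFinite S
  have hk : IsTwist k S := ⟨hk₁, hk₂⟩
  have hnotnormal : ¬ (P : Subgroup S).Normal := by
    intro hn
    rcases hn.eq_bot_or_eq_top with h | h
    · have hodd : Odd (Nat.card S) := by
        rw [← Nat.not_even_iff_odd, even_iff_two_dvd]
        intro hd
        exact P.ne_bot_of_dvd_card hd h
      haveI := Cfsg.Agent.S0205.result hodd
      exact hna ⟨⟨IsSimpleGroup.comm_iff_isSolvable.2 inferInstance⟩⟩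
    · refine hna ⟨⟨fun a b => ?_⟩⟩
      have := congrArg Subtype.val
        (hP.is_comm.comm (⟨a, h ▸ Subgroup.mem_top a⟩ : (P : Subgroup S)) ⟨b, h ▸ Subgroup.mem_top b⟩)
      exact this
  have hex : ∃ t : S, IsRealOdd t := by
    by_contra h
    exact hnotnormal (CfsgLib.RealElements.sylow_two_normal
      (fun x h1 h2 h3 => h ⟨x, h1, h2, h3⟩) P)
  refine ⟨exists_even_fixed (abelianTwo_of_sylow P hP) hk hM hex, ?_⟩
  obtain ⟨t, ht⟩ := exists_prime_orderOf_dvd_card' 2 (show 2 ∣ Nat.card S by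
    by_contra hd
    haveI := Cfsg.Agent.S0205.result (G := S) (Nat.not_even_iff_odd.1
      (fun he => hd (even_iff_two_dvd.1 he)))
    exact hna ⟨⟨IsSimpleGroup.comm_iff_isSolvable.2 inferInstance⟩⟩)
  exact exists_principal_fixed hk hM ht

end Cfsg.Agent.S4523
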