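import Cfsg.Statements.S4534
import Cfsg.Agent.SymBlocks.Rank
import Cfsg.Agent.SymBlocks.Defect

set_option autoImplicit false
open Cfsg

namespace Cfsg.Agent.S4534

/-- Let B be a p-block of a finite symmetric group (relative to a maximal ideal M of the algebraic integers containing p) with a nontrivial defect group D all of whose sections have p-rank at most s. Then the p-regular rank of B is less than p ^ s. -/
theorem result (n : ℕ) (p : ℕ) [Fact p.Prime] (M : Ideal Cfsg.AlgInt) (hM : Cfsg.IsPModular p M) (B : Set (Cfsg.IrrCharacter (Equiv.Perm (Fin n)))) (hB : Cfsg.IsPBlock M B) (D : Subgroup (Equiv.Perm (Fin n))) (hD : Cfsg.IsDefectGroup p M B D) (hD1 : D ≠ ⊥) (s : ℕ) (hs : Cfsg.SectionalPRankLE p s D) : Cfsg.blockRank p B < p ^ s := by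
  classical
  have hp : p.Prime := Fact.out
  haveI : M.IsPrime := CfsgLib.Blocks.IsPModular.isPrime hM
  obtain ⟨χ, hχ⟩ := CfsgLib.Blocks.isPBlock_nonempty hB
  obtain ⟨a, ha, hinj, ε, hε, he⟩ := CfsgLib.SymBlocks.exists_chi (N := n) le_rfl χ
  have hne : ε ≠ 0 := by rcases hε with rfl | rfl <;> norm_num
  have hws := CfsgLib.SymBlocks.weight_le_rank hM hB hD hs hχ ha hinj he
  have ha0 : a ∈ CfsgLib.SymBlocks.resTuples n n p (CfsgLib.SymBlocks.resid p a) :=
    Finset.mem_filter.mpr ⟨CfsgLib.SymBlocks.mem_tuples.mpr ha, rfl⟩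
  set U := CfsgLib.SymBlocks.blockSet n n p (CfsgLib.SymBlocks.resid p a) with hU
  have hχU : χ ∈ U := ⟨a, ha0, by
    rw [he, CfsgLib.Characters.classInner_smul_left, CfsgLib.Characters.classInner_irr, if_pos rfl,
      mul_one]
    exact hne⟩
  have hBU : B ⊆ U := by
    rw [CfsgLib.Blocks.eq_blockOf_of_mem hB hχ]
    exact CfsgLib.SymBlocks.isBlockUnion_blockSet hM le_rfl _ χ hχU
  have hle : Cfsg.blockRank p B ≤
      (CfsgLib.SymBlocks.states (fun r : Fin (p - 1) =>
        (CfsgLib.SymBlocks.resid p a).count ((r : ℕ) + 1)) (CfsgLib.SymBlocks.weight p a)).card := by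
    refine le_trans ?_ (CfsgLib.SymBlocks.finrank_regChi_le hp le_rfl ha0 hinj)
    haveI : FiniteDimensional ℂ ↥(Submodule.span ℂ (CfsgLib.SymBlocks.regChi n p ''
        (CfsgLib.SymBlocks.resTuples n n p (CfsgLib.SymBlocks.resid p a) : Set (Fin n → ℕ)))) :=
      inferInstance
    refine Submodule.finrank_mono (Submodule.span_le.mpr ?_)
    rintro _ ⟨θ, hθ, rfl⟩
    obtain ⟨b, hb, -, δ, -, hδ⟩ := CfsgLib.SymBlocks.exists_eq_smul_of_mem (hBU hθ)
    have e : Cfsg.pRegularPart p (θ : Equiv.Perm (Fin n) → ℂ) =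
        δ • CfsgLib.SymBlocks.regChi n p b := by
      funext g
      simp only [hδ, CfsgLib.SymBlocks.regChi, Cfsg.pRegularPart, Pi.smul_apply, smul_eq_mul]
      split_ifs <;> simp
    show Cfsg.pRegularPart p (θ : Equiv.Perm (Fin n) → ℂ) ∈ _
    rw [e]
    exact Submodule.smul_mem _ _ (Submodule.subset_span ⟨b, hb, rfl⟩)
  rcases Nat.eq_zero_or_pos (CfsgLib.SymBlocks.weight p a) with hw | hw
  · rw [hw] at hle
    have hs1 : 1 ≤ s := by
      by_contra hlt
      have hs0 : s = 0 := by omega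
      obtain ⟨u, hu⟩ : ∃ u : D, u ≠ 1 := by
        by_contra h
        push Not at h
        exact hD1 (Subgroup.eq_bot_iff_forall _ |>.mpr fun x hx => congrArg Subtype.val (h ⟨x, hx⟩))
      obtain ⟨k, hk⟩ := IsPGroup.iff_orderOf.mp (CfsgLib.Blocks.IsDefectGroup.isPGroup hD) u
      obtain ⟨k, rfl⟩ : ∃ j, k = j + 1 := by
        rcases k with _ | j
        · rw [pow_zero, orderOf_eq_one_iff] at hk; exact absurd hk hu
        · exact ⟨j, rfl⟩
      let z : (⊤ : Subgroup D) := ⟨u ^ p ^ k, trivial⟩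
      let q : (⊤ : Subgroup D) ⧸ (⊥ : Subgroup (⊤ : Subgroup D)) := QuotientGroup.mk z
      have hz : orderOf z = p := by
        rw [← Subgroup.orderOf_coe]
        show orderOf (u ^ p ^ k) = p
        rw [orderOf_pow' _ (pow_ne_zero _ hp.ne_zero), hk,
          Nat.gcd_eq_right (pow_dvd_pow p k.le_succ), pow_succ,
          Nat.mul_div_cancel_left _ (pow_pos hp.pos k)]
      have hq : orderOf q = p := by
        rw [← hz]
        exact orderOf_injective (QuotientGroup.mk' (⊥ : Subgroup (⊤ : Subgroup D)))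
          (fun x y h => by
            simpa [QuotientGroup.eq, inv_mul_eq_one] using h) z
      have key := hs ⊤ ⊥ (Subgroup.zpowers q) inferInstance (fun b hb => by
        obtain ⟨i, rfl⟩ := Subgroup.mem_zpowers_iff.mp hb
        rw [← zpow_natCast, ← zpow_mul, mul_comm, zpow_mul, zpow_natCast, ← hq, pow_orderOf_eq_one,
          one_zpow])
      rw [Nat.card_zpowers, hq, hs0, pow_zero] at key
      exact absurd key (not_le.mpr hp.one_lt)
    calc Cfsg.blockRank p B ≤ 1 := hle.trans (CfsgLib.SymBlocks.card_states_zero_le _)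
      _ < p ^ s := Nat.one_lt_pow (by omega) hp.one_lt
  · refine lt_of_le_of_lt hle (lt_of_lt_of_le (CfsgLib.SymBlocks.card_states_lt _ hw) ?_)
    rw [Nat.sub_add_cancel hp.one_lt.le]
    exact Nat.pow_le_pow_right hp.pos hws

end Cfsg.Agent.S4534
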