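import Cfsg.Statements.S4541
import Cfsg.Agent.BlocksCharsC.SubsectionTwo

set_option autoImplicit false
set_option linter.style.haveILetI false
open Cfsg

namespace Cfsg.Agent.S4541

/-- Let B be a 2-block of the finite group G (relative to a maximal ideal M of the algebraic integers containing 2), u a 2-element, and b a block of the centralizer of u inducing B (a subsection (u, b)), of defect q and 2-regular rank l; write s for the integer square root of l and k₀(B) for the number of members of B of height zero. If s is odd then k₀(B) ≤ s·2 ^ q, and otherwise (s + 1)·k₀(B) ≤ l·2 ^ q; in particular k₀(B) ≤ 2 ^ q when l ≤ 3. -/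
theorem result {G : Type*} [Group G] [Finite G] (M : Ideal Cfsg.AlgInt) (hM : Cfsg.IsPModular 2 M) (B : Set (Cfsg.IrrCharacter G)) (hB : Cfsg.IsPBlock M B) (u : G) (hu : ∃ j : ℕ, orderOf u = 2 ^ j) (b : Set (Cfsg.IrrCharacter ↥(Subgroup.centralizer ({u} : Set G)))) (hb : Cfsg.IsInducedBlock M (Subgroup.centralizer ({u} : Set G)) b B) : (Odd (Nat.sqrt (Cfsg.blockRank 2 b)) → Nat.card {χ : Cfsg.IrrCharacter G // χ ∈ B ∧ Cfsg.blockHeight 2 B (χ : G → ℂ) = 0} ≤ Nat.sqrt (Cfsg.blockRank 2 b) * 2 ^ Cfsg.blockDefect 2 b) ∧ (¬ Odd (Nat.sqrt (Cfsg.blockRank 2 b)) → (Nat.sqrt (Cfsg.blockRank 2 b) + 1) * Nat.card {χ : Cfsg.IrrCharacter G // χ ∈ B ∧ Cfsg.blockHeight 2 B (χ : G → ℂ) = 0} ≤ Cfsg.blockRank 2 b * 2 ^ Cfsg.blockDefect 2 b) ∧ (Cfsg.blockRank 2 b ≤ 3 → Nat.card {χ : Cfsg.IrrCharacter G // χ ∈ B ∧ Cfsg.blockHeight 2 B (χ : G → ℂ) = 0} ≤ 2 ^ Cfsg.blockDefect 2 b) := by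
  haveI := Fintype.ofFinite G
  haveI := CfsgLib.Blocks.IsPModular.isPrime hM
  haveI := Fintype.ofFinite (Subgroup.centralizer ({u} : Set G))
  obtain ⟨k, hk⟩ := hu
  have hζ := Complex.isPrimitiveRoot_exp (2 * 2 ^ k) (Nat.mul_pos two_pos (Nat.two_pow_pos k)).ne'
  set ζ := Complex.exp (2 * Real.pi * Complex.I / ((2 * 2 ^ k : ℕ) : ℂ))
  set a := CfsgLib.BlocksCharsC.avgContrib ζ k u b
  set k₀ := Nat.card {χ : Cfsg.IrrCharacter G // χ ∈ B ∧ Cfsg.blockHeight 2 B (χ : G → ℂ) = 0}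
  set q := Cfsg.blockDefect 2 b
  set l := Cfsg.blockRank 2 b
  set s := Nat.sqrt l
  have hs1 : s * s ≤ l := Nat.sqrt_le l
  have hs2 : l < (s + 1) * (s + 1) := Nat.lt_succ_sqrt l
  have hlow : ∀ χ ∈ B, Cfsg.blockHeight 2 B (χ : G → ℂ) = 0 → (k₀ : ℤ) ≤ (2 : ℤ) ^ q * a χ :=
    fun χ hχ h0 => CfsgLib.BlocksCharsC.card_height_zero_le hM hk hζ hb.1 hB hb hχ h0
  have hhigh : ∀ t : ℤ, (∀ χ ∈ B, Cfsg.blockHeight 2 B (χ : G → ℂ) = 0 → t ≤ a χ) →
      t * (k₀ : ℤ) ≤ ((l * 2 ^ q : ℕ) : ℤ) :=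
    fun t ht => CfsgLib.BlocksCharsC.card_height_zero_mul_le hM hk hζ hb.1 hB hb ht
  have hodd : ∀ χ ∈ B, Cfsg.blockHeight 2 B (χ : G → ℂ) = 0 → Odd (a χ) :=
    fun χ hχ h0 => CfsgLib.BlocksCharsC.odd_avgContrib hM hk hζ hb.1 hB hb hχ h0
  have hpow : (0 : ℤ) < 2 ^ q := pow_pos two_pos q
  have h1 : Odd s → k₀ ≤ s * 2 ^ q := by
    intro hso
    by_cases hex : ∃ χ ∈ B, Cfsg.blockHeight 2 B (χ : G → ℂ) = 0 ∧ a χ ≤ s
    · obtain ⟨χ, hχ, h0, hle⟩ := hex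
      zify
      have := hlow χ hχ h0
      nlinarith
    · push Not at hex
      have h := hhigh ((s : ℤ) + 2) fun χ hχ h0 => by
        obtain ⟨c, hc⟩ := hodd χ hχ h0
        obtain ⟨d, hd⟩ := hso
        have := hex χ hχ h0
        omega
      have h2 : l ≤ s * (s + 2) := by nlinarith
      have h3 : ((s : ℤ) + 2) * k₀ ≤ ((s : ℤ) + 2) * (s * 2 ^ q) := by
        refine h.trans ?_
        push_cast
        have h2' : (l : ℤ) ≤ s * (s + 2) := by exact_mod_cast h2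
        nlinarith
      have h4 := le_of_mul_le_mul_left h3 (by positivity)
      exact_mod_cast h4
  have h2 : ¬ Odd s → (s + 1) * k₀ ≤ l * 2 ^ q := by
    intro hse
    by_cases hex : ∃ χ ∈ B, Cfsg.blockHeight 2 B (χ : G → ℂ) = 0 ∧ a χ ≤ s
    · obtain ⟨χ, hχ, h0, hle⟩ := hex
      obtain ⟨c, hc⟩ := hodd χ hχ h0
      obtain ⟨d, hd⟩ := Nat.not_odd_iff_even.1 hse
      have hle' : a χ ≤ (s : ℤ) - 1 := by omega
      have := hlow χ hχ h0
      zify at hs1 ⊢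
      have h5 : (k₀ : ℤ) ≤ 2 ^ q * ((s : ℤ) - 1) := this.trans (mul_le_mul_of_nonneg_left hle' hpow.le)
      nlinarith
    · push Not at hex
      have h := hhigh ((s : ℤ) + 1) fun χ hχ h0 => by
        have := hex χ hχ h0
        omega
      exact_mod_cast h
  refine ⟨h1, h2, fun hl3 => ?_⟩
  have hs : s ≤ 1 := by nlinarith
  rcases Nat.le_one_iff_eq_zero_or_eq_one.1 hs with hs0 | hs0
  · have hl0 : l = 0 := by rw [hs0] at hs2; omega
    have := h2 (by rw [hs0]; decide)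
    rw [hl0, hs0] at this
    simp only [zero_add, one_mul, zero_mul] at this
    exact this.trans (Nat.zero_le _)
  · have := h1 (by rw [hs0]; decide)
    rwa [hs0, one_mul] at this

end Cfsg.Agent.S4541
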