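import Cfsg.Statements.S4549
import Cfsg.Agent.BlocksCharsC.SigmaAction
import Cfsg.Agent.BlocksCharsC.DegreeSquares
import Cfsg.Agent.BlocksCharsC.RealConstituents
import Cfsg.Agent.BlocksCharsC.OrbitSum
import Cfsg.Agent.BlocksCharsC.Restriction
import Cfsg.Agent.Transfer.Residual

set_option autoImplicit false
set_option linter.style.haveILetI false
open Cfsg

namespace Cfsg.Agent.S4549

open CfsgLib.Characters CfsgLib.BlocksCharsC
open scoped ComplexConjugate Pointwise

universe u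

theorem degree_one_of_normal_two_complement {G : Type u} [Group G] [Finite G] {M : Ideal Cfsg.AlgInt}
    (hM : Cfsg.IsPModular 2 M) (P : Sylow 2 G) (K : Subgroup G) [K.Normal]
    (hK : K.IsComplement' (P : Subgroup G)) {χ : Cfsg.IrrCharacter G}
    (hχ : χ ∈ Cfsg.principalBlock M G) (hodd : Odd (Cfsg.charDegree (χ : G → ℂ))) :
    Cfsg.charDegree (χ : G → ℂ) = 1 := by
  classical
  haveI := hM.2.1.isPrime
  haveI : Fact (Nat.Prime 2) := ⟨Nat.prime_two⟩
  haveI := Fintype.ofFinite G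
  haveI := Fintype.ofFinite K
  haveI := Fintype.ofFinite (P : Subgroup G)
  have hKodd : ¬ 2 ∣ Nat.card K := by
    rw [← hK.index_eq_card]
    exact P.not_dvd_index
  obtain ⟨d, ρ, hρi, hρc⟩ := χ.2
  haveI := hρi
  have hρK : ∀ x ∈ K, ρ x = 1 := fun x hx => by
    have h := eq_degree_of_mem_principalBlock hM K hKodd hχ hx
    rw [← hρc] at h
    exact CfsgLib.OddOrderChar.rep_eq_one_of_char_eq ρ h
  let σ : Representation ℂ (P : Subgroup G) (Fin d → ℂ) := ρ.comp (P : Subgroup G).subtype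
  haveI := nontrivial_of_isIrreducible ρ
  haveI : σ.IsIrreducible := isIrreducible_of_forall σ fun W hW => by
    have hW' : ∀ g : G, ∀ v ∈ W, ρ g v ∈ W := fun g v hv => by
      obtain ⟨⟨x, hx⟩, ⟨y, hy⟩, rfl⟩ : ∃ (a : K) (b : (P : Subgroup G)), g = a * b := by
        obtain ⟨⟨a, b⟩, hab⟩ := hK.2 g
        exact ⟨a, b, hab.symm⟩
      rw [map_mul, hρK x hx, one_mul]
      exact hW ⟨y, hy⟩ v hv
    rcases IsSimpleOrder.eq_bot_or_eq_top (⟨W, hW'⟩ : Subrepresentation ρ) with hh | hh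
    · exact Or.inl (congrArg Subrepresentation.toSubmodule hh)
    · exact Or.inr (congrArg Subrepresentation.toSubmodule hh)
  have hd : Cfsg.charDegree (χ : G → ℂ) = Module.finrank ℂ (Fin d → ℂ) := by
    rw [← hρc]; simp [Cfsg.charDegree]
  have hdvd : Cfsg.charDegree (χ : G → ℂ) ∣ Nat.card (P : Subgroup G) := hd ▸ finrank_dvd_card σ
  obtain ⟨n, hn⟩ := IsPGroup.iff_card.1 P.isPGroup'
  rw [hn, Nat.dvd_prime_pow Nat.prime_two] at hdvd
  obtain ⟨i, -, hi⟩ := hdvd
  rcases Nat.eq_zero_or_pos i with rfl | hi0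
  · simpa using hi
  · rw [hi, Nat.odd_pow_iff hi0.ne'] at hodd
    exact absurd hodd (by decide)

/-- Let G be a finite group and M a maximal ideal of the algebraic integers containing 2. Let k be a natural number with g ^ k = g ^ 3 for every 2-element g and g ^ k = g for every element g of odd order (such k exist); an irreducible character χ is unchanged by g ↦ g ^ k exactly when it is fixed by the field automorphism that cubes the 2-power roots of unity and fixes the roots of unity of odd order. Then G has a normal 2-complement if and only if every member χ of the principal 2-block of odd degree with χ (g ^ k) = χ g for all g has degree one. -/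
theorem result {G : Type*} [Group G] [Finite G] (M : Ideal Cfsg.AlgInt) (hM : Cfsg.IsPModular 2 M) (k : ℕ) (hk₁ : ∀ g : G, (∃ j : ℕ, orderOf g = 2 ^ j) → g ^ k = g ^ 3) (hk₂ : ∀ g : G, Odd (orderOf g) → g ^ k = g) : Cfsg.HasNormalPComplement 2 G ↔ ∀ χ ∈ Cfsg.principalBlock M G, Odd (Cfsg.charDegree (χ : G → ℂ)) → (∀ g : G, (χ : G → ℂ) (g ^ k) = (χ : G → ℂ) g) → Cfsg.charDegree (χ : G → ℂ) = 1 := by
  classical
  haveI := hM.2.1.isPrime
  haveI : Fact (Nat.Prime 2) := ⟨Nat.prime_two⟩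
  constructor
  · rintro ⟨P, K, hKn, hK⟩ χ hχ hodd -
    exact degree_one_of_normal_two_complement hM P K hK hχ hodd
  intro hlin
  haveI := Fintype.ofFinite G
  obtain ⟨P⟩ : Nonempty (Sylow 2 G) := inferInstance
  set N : Subgroup G := Cfsg.pResidual 2 G with hN
  haveI : N.Normal := inferInstance
  haveI := Fintype.ofFinite N
  have hq : IsPGroup 2 (G ⧸ N) := CfsgLib.Transfer.isPGroup_quotient_pResidual
  by_cases hev : ¬ 2 ∣ Nat.card N
  · obtain ⟨a, ha⟩ := CfsgLib.Transfer.exists_index_pResidual_eq_pow (p := 2) (G := G)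
    refine ⟨P, N, inferInstance, Subgroup.isComplement'_of_coprime ?_ ?_⟩
    · have hsup : (P : Subgroup G) ⊔ N = ⊤ := CfsgLib.Transfer.sylow_sup_pResidual P
      have hinf : (P : Subgroup G) ⊓ N = ⊥ := inf_comm N (P : Subgroup G) ▸
        CfsgLib.Transfer.inf_eq_bot_of_not_dvd_card hev P.isPGroup'
      exact (Subgroup.isComplement'_of_disjoint_and_mul_eq_univ
        (disjoint_iff.2 (inf_comm N (P : Subgroup G) ▸ hinf))
        (by rw [← Subgroup.normal_mul, sup_comm, hsup]; rfl)).card_mul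
    · obtain ⟨n, hn⟩ := IsPGroup.iff_card.1 P.isPGroup'
      rw [hn]
      exact Nat.Coprime.pow_right _ ((CfsgLib.Transfer.coprime_prime_iff).2 hev)
  rw [not_not] at hev
  exfalso
  have hσG : SigmaExp 2 k 3 G := ⟨hk₁, fun g hg => hk₂ g (Nat.coprime_two_right.1 hg), by norm_num⟩
  have hσN : SigmaExp 2 k 3 N := by
    refine ⟨fun g hg => Subtype.ext ?_, fun g hg => Subtype.ext ?_, by norm_num⟩
    · simpa using hσG.pElem (g : G) (by simpa [Subgroup.orderOf_coe] using hg)
    · simpa using hσG.regular (g : G) (by simpa [Subgroup.orderOf_coe] using hg)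
  let s : Cfsg.IrrCharacter N → Prop := fun θ => (θ ∈ Cfsg.principalBlock M N ∧
    Odd (Cfsg.charDegree (θ : N → ℂ))) ∧ ∀ n : N, (θ : N → ℂ) (n ^ k) = (θ : N → ℂ) n
  have hs : Even (Nat.card {θ // s θ}) := by
    rw [Nat.even_iff]
    have h2 := card_fixed_modEq hσN
      (fun χ => χ ∈ Cfsg.principalBlock M N ∧ Odd (Cfsg.charDegree (χ : N → ℂ))) ?_
    · rw [Nat.ModEq, Nat.mod_eq_zero_of_dvd (even_card_odd_degree hM hev)] at h2
      exact h2
    · rintro χ ⟨h1, h3⟩
      refine ⟨powIrr_mem_principalBlock hσN.coprime h1, ?_⟩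
      have : Cfsg.charDegree (sigmaPerm hσN.coprime χ : N → ℂ) = Cfsg.charDegree (χ : N → ℂ) := by
        simp only [Cfsg.charDegree, sigmaPerm_apply, one_pow]
      rwa [this]
  -- the `P`-action
  letI : MulAction G (Cfsg.IrrCharacter N) := irrConjAction N
  have hsmul : ∀ (g : G) (θ : Cfsg.IrrCharacter N) (n : N), ((g • θ : Cfsg.IrrCharacter N) : N → ℂ) n =
      (θ : N → ℂ) ⟨g⁻¹ * n * g, by simpa using Subgroup.Normal.conj_mem ‹N.Normal› _ n.2 g⁻¹⟩ :=
    fun _ _ _ => rfl
  have hblock : ∀ (g : G) (θ : Cfsg.IrrCharacter N), θ ∈ Cfsg.principalBlock M N →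
      (g • θ) ∈ Cfsg.principalBlock M N := by
    intro g θ hθ
    rw [mem_principalBlock_iff] at hθ ⊢
    intro n
    let e : N ≃* N := MulAut.conjNormal g⁻¹
    have he : ∀ m : N, ((g • θ : Cfsg.IrrCharacter N) : N → ℂ) m = (θ : N → ℂ) (e m) := fun m => by
      rw [hsmul]; exact congrArg _ (Subtype.ext (by simp [e]))
    have hidx : (Subgroup.centralizer ({e n} : Set N)).index =
        (Subgroup.centralizer ({n} : Set N)).index := by
      rw [← Subgroup.index_comap_of_surjective (Subgroup.centralizer ({e n} : Set N))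
        (f := e.toMonoidHom) e.surjective]
      congr 1
      ext x
      simp only [Subgroup.mem_comap, Subgroup.mem_centralizer_singleton_iff, MulEquiv.coe_toMonoidHom,
        ← map_mul, EmbeddingLike.apply_eq_iff_eq]
    have := hθ (e n)
    simp only [Cfsg.centralChar, he, map_one, hidx] at this ⊢
    exact this
  have hsP : ∀ (g : G) θ, s θ → s (g • θ) := by
    rintro g θ ⟨⟨h1, h2⟩, h3⟩
    refine ⟨⟨hblock g θ h1, ?_⟩, fun n => ?_⟩
    · rwa [show Cfsg.charDegree ((g • θ : Cfsg.IrrCharacter N) : N → ℂ) =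
        Cfsg.charDegree (θ : N → ℂ) by
          simp only [Cfsg.charDegree, hsmul]
          congr 3
          exact congrArg _ (Subtype.ext (by simp))]
    · rw [hsmul, hsmul, ← h3 ⟨g⁻¹ * n * g, _⟩]
      refine congrArg _ (Subtype.ext ?_)
      simpa using (conj_pow (i := k) (a := g⁻¹) (b := (n : G))).symm
  let Pg : Subgroup G := (P : Subgroup G)
  letI : MulAction Pg {θ // s θ} :=
    { smul := fun g θ => ⟨(g : G) • θ.1, hsP _ _ θ.2⟩
      one_smul := fun θ => Subtype.ext (one_smul G θ.1)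
      mul_smul := fun a b θ => Subtype.ext (mul_smul (a : G) (b : G) θ.1) }
  let F := {θ : Cfsg.IrrCharacter N // s θ ∧ ∀ g ∈ Pg, g • θ = θ}
  have hF : Even (Nat.card F) := by
    haveI := Fintype.ofFinite {θ // s θ}
    have h := P.isPGroup'.card_modEq_card_fixedPoints (α := {θ // s θ})
    have hc : Nat.card (MulAction.fixedPoints Pg {θ // s θ}) = Nat.card F :=
      Nat.card_congr ⟨fun x => ⟨x.1.1, x.1.2, fun g hg => congrArg Subtype.val (x.2 ⟨g, hg⟩)⟩,
        fun x => ⟨⟨x.1, x.2.1⟩, fun g => Subtype.ext (x.2.2 g g.2)⟩, fun x => rfl, fun x => rfl⟩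
    rw [Nat.even_iff, ← hc]
    exact (h.symm.trans ((Nat.modEq_zero_iff_dvd).2 (even_iff_two_dvd.1 hs)))
  -- the exponent of the linear characters of `N`
  set o := Nat.card G / 2 ^ (Nat.card G).factorization 2 with ho
  have hoodd : Odd o := Nat.odd_iff.2 (Nat.two_dvd_ne_zero.1
    (Nat.not_dvd_ordCompl Nat.prime_two Nat.card_pos.ne'))
  have hhom : ∀ (f : N →* ℂˣ) (n : N), f n ^ o = 1 := by
    intro f
    let S : Subgroup G := ((powMonoidHom o).comp f).ker.map N.subtype
    have hS : Cfsg.pResidual 2 G ≤ S := by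
      refine (Subgroup.closure_le S).2 fun g hg => ?_
      have hgN : g ∈ N := CfsgLib.Transfer.mem_pResidual_of_coprime hg
      refine ⟨⟨g, hgN⟩, MonoidHom.mem_ker.2 ?_, rfl⟩
      have hgo : g ^ o = 1 := orderOf_dvd_iff_pow_eq_one.1
        (Nat.Coprime.dvd_of_dvd_mul_left (Nat.Coprime.pow_right _ hg)
          (by rw [ho, Nat.mul_div_cancel' (Nat.ordProj_dvd _ _)]; exact orderOf_dvd_natCard g))
      show f ⟨g, hgN⟩ ^ o = 1
      rw [← map_pow, show (⟨g, hgN⟩ : N) ^ o = 1 from Subtype.ext hgo, map_one]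
    intro n
    obtain ⟨m, hm, hmn⟩ := hS n.2
    obtain rfl : m = n := N.subtype_injective hmn
    exact MonoidHom.mem_ker.1 hm
  -- linear members
  have hlinodd : Odd (Nat.card {θ : F // Cfsg.charDegree (θ.1 : N → ℂ) = 1}) := by
    haveI := Fintype.ofFinite {θ : F // Cfsg.charDegree (θ.1 : N → ℂ) = 1}
    obtain ⟨kinv, hkinv, hkinv'⟩ := exists_coprime_pow_eq_inv (G := N)
    have hmem : ∀ θ : Cfsg.IrrCharacter N, θ ∈ Cfsg.principalBlock M N →
        conjIrr θ ∈ Cfsg.principalBlock M N := fun θ hθ => by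
      convert powIrr_mem_principalBlock hkinv hθ using 1
      exact Subtype.ext (funext fun n => ((congrArg (θ : N → ℂ) (hkinv' n)).trans
        (character_inv (isCharacter_of_isIrr θ.2) n)).symm)
    have hdeg : ∀ θ : Cfsg.IrrCharacter N,
        Cfsg.charDegree (conjIrr θ : N → ℂ) = Cfsg.charDegree (θ : N → ℂ) := fun θ => by
      simp [Cfsg.charDegree, conjIrr]
    let τ : {θ : F // Cfsg.charDegree (θ.1 : N → ℂ) = 1} → {θ : F // Cfsg.charDegree (θ.1 : N → ℂ) = 1} :=
      fun x => ⟨⟨conjIrr x.1.1, ⟨⟨hmem _ x.1.2.1.1.1, (hdeg _).symm ▸ x.1.2.1.1.2⟩,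
          fun n => congrArg conj (x.1.2.1.2 n)⟩,
        fun g hg => Subtype.ext (funext fun n => congrArg conj
          (congrFun (congrArg Subtype.val (x.1.2.2 g hg)) n))⟩, (hdeg _).trans x.2⟩
    by_contra hcon
    rw [Nat.not_odd_iff_even, Nat.card_eq_fintype_card, even_iff_two_dvd] at hcon
    have hτ : Function.Involutive τ := fun x => Subtype.ext (Subtype.ext (conjIrr_conjIrr _))
    let one : {θ : F // Cfsg.charDegree (θ.1 : N → ℂ) = 1} :=
      ⟨⟨trivialIrr N, ⟨⟨by rw [principalBlock_eq]; exact CfsgLib.Blocks.mem_blockOf_self _,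
          by simp [trivialIrr, Cfsg.charDegree]⟩, fun n => rfl⟩,
        fun g _ => Subtype.ext (funext fun n => rfl)⟩, by simp [trivialIrr, Cfsg.charDegree]⟩
    obtain ⟨x, hx, hxne⟩ := Equiv.Perm.exists_fixed_point_of_prime' (p := 2) (n := 1) hcon
      (σ := hτ.toPerm) (by rw [pow_one, sq]; exact Equiv.ext hτ)
      (a := one) (Subtype.ext (Subtype.ext (Subtype.ext (funext fun n => map_one _))))
    refine hxne (Subtype.ext (Subtype.ext (Subtype.ext (funext fun n => ?_))))
    have hreal := real_of_conjIrr_eq (congrArg (fun z => z.1.1) hx) n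
    obtain ⟨f, hf⟩ := exists_hom_of_degree_one (isCharacter_of_isIrr x.1.1.2)
      (by rw [charDegree_spec (isCharacter_of_isIrr x.1.1.2), x.2, Nat.cast_one])
    show (x.1.1 : N → ℂ) n = 1
    rw [hf] at hreal ⊢
    show ((f n : ℂˣ) : ℂ) = 1
    change conj ((f n : ℂˣ) : ℂ) = (f n : ℂ) at hreal
    have h2 : f n ^ 2 = 1 := by
      apply Units.ext
      rw [Units.val_pow_eq_pow_val, Units.val_one, sq]
      conv_lhs => arg 1; rw [← hreal]
      rw [mul_comm, Complex.mul_conj, Complex.normSq_eq_norm_sq,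
        Complex.norm_eq_one_of_pow_eq_one (n := orderOf n)
          (by rw [← Units.val_pow_eq_pow_val, ← map_pow, pow_orderOf_eq_one, map_one, Units.val_one])
          (orderOf_pos n).ne']
      simp
    have h3 := pow_gcd_eq_one.mpr ⟨h2, hhom f n⟩
    rw [(Nat.coprime_two_left.2 hoodd).gcd_eq_one, pow_one] at h3
    simp [h3]
  obtain ⟨⟨θ, ⟨⟨hθB, hθodd⟩, hθσ⟩, hθP⟩, hθne⟩ :
      ∃ θ : F, Cfsg.charDegree (θ.1 : N → ℂ) ≠ 1 := by
    by_contra hcon
    push Not at hcon
    rw [Nat.card_congr (Equiv.subtypeUnivEquiv hcon)] at hlinodd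
    exact (Nat.not_even_iff_odd.2 hlinodd) hF
  -- invariance in `G`
  have hinv : ∀ g : G, CfsgLib.OddOrderChar.conjBy N (θ : N → ℂ) g = θ := by
    intro g
    funext n
    have hg : g ∈ ((N : Set G) * (Pg : Set G) : Set G) := by
      rw [← Subgroup.normal_mul, sup_comm, CfsgLib.Transfer.sylow_sup_pResidual P]; trivial
    obtain ⟨a, ha, y, hy, rfl⟩ := hg
    rw [CfsgLib.OddOrderChar.conjBy_apply]
    let n' : N := ⟨y * n * y⁻¹, Subgroup.Normal.conj_mem ‹N.Normal› _ n.2 y⟩
    have h1 : (θ : N → ℂ) n' = (θ : N → ℂ) n := by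
      have := congrFun (congrArg Subtype.val (hθP y⁻¹ (Pg.inv_mem hy))) n
      rw [hsmul] at this
      exact Eq.trans (congrArg _ (Subtype.ext (show y * (n : G) * y⁻¹ = y⁻¹⁻¹ * n * y⁻¹ by
        rw [inv_inv]))) this
    rw [← h1, ← isClassFunction_of_isIrr θ.2 n' ⟨a, ha⟩]
    refine congrArg (θ : N → ℂ) (Subtype.ext ?_)
    exact (show (a * y) * (n : G) * (a * y)⁻¹ = a * (y * n * y⁻¹) * a⁻¹ by group)
  obtain ⟨χ, hχirr, hχdet, hχres, hχuniq⟩ := exists_canonical (p := 2) (o := o)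
    (Nat.coprime_two_right.2 hoodd) N hq θ.2 (detExp_of_hom hhom (isCharacter_of_isIrr θ.2)) hinv
    (Nat.two_dvd_ne_zero.2 (Nat.odd_iff.1 hθodd))
  have hχfix : (fun g => χ (g ^ k)) = χ := hχuniq _ (hχdet.pow hσG.coprime) fun n => by
    rw [← SubmonoidClass.coe_pow, hχres, hθσ]
  have hdeg : Cfsg.charDegree χ = Cfsg.charDegree (θ : N → ℂ) := by
    have h1 := hχres 1
    rw [OneMemClass.coe_one] at h1
    simp only [Cfsg.charDegree, h1]
  refine hθne (hdeg ▸ hlin ⟨χ, hχirr⟩ ?_ (hdeg ▸ hθodd) fun g => congrFun hχfix g)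
  refine mem_principalBlock_of_restrict hM N (fun g hg => ?_) hθB (e := 1) fun n => ?_
  · exact CfsgLib.Transfer.mem_pResidual_of_coprime (CfsgLib.Transfer.coprime_prime_iff.2 hg)
  · rw [one_mul]; exact hχres n

end Cfsg.Agent.S4549
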