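import Cfsg.Statements.S4550
import Cfsg.Agent.BlocksCharsC.SigmaAction
import Cfsg.Agent.BlocksCharsC.DegreeSquares

set_option autoImplicit false
open Cfsg

namespace Cfsg.Agent.S4550

/-- Let G be a finite group of even order and M a maximal ideal of the algebraic integers containing 2. Let k be a natural number with g ^ k = g ^ 3 for every 2-element g and g ^ k = g for every element g of odd order (such k exist); an irreducible character χ is unchanged by g ↦ g ^ k exactly when it is fixed by the field automorphism that cubes the 2-power roots of unity and fixes the roots of unity of odd order. Then the number of members χ of the principal 2-block of odd degree with χ (g ^ k) = χ g for all g is even. -/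
theorem result {G : Type*} [Group G] [Finite G] (M : Ideal Cfsg.AlgInt) (hM : Cfsg.IsPModular 2 M) (hev : Even (Nat.card G)) (k : ℕ) (hk₁ : ∀ g : G, (∃ j : ℕ, orderOf g = 2 ^ j) → g ^ k = g ^ 3) (hk₂ : ∀ g : G, Odd (orderOf g) → g ^ k = g) : Even (Nat.card {χ : Cfsg.IrrCharacter G // χ ∈ Cfsg.principalBlock M G ∧ Odd (Cfsg.charDegree (χ : G → ℂ)) ∧ ∀ g : G, (χ : G → ℂ) (g ^ k) = (χ : G → ℂ) g}) := by
  haveI := hM.2.1.isPrime
  haveI := Fintype.ofFinite G
  haveI : Fact (Nat.Prime 2) := ⟨Nat.prime_two⟩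
  have h : CfsgLib.BlocksCharsC.SigmaExp 2 k 3 G :=
    ⟨hk₁, fun g hg => hk₂ g (Nat.coprime_two_right.1 hg), by norm_num⟩
  rw [Nat.even_iff]
  have h2 := CfsgLib.BlocksCharsC.card_fixed_modEq h
    (fun χ => χ ∈ Cfsg.principalBlock M G ∧ Odd (Cfsg.charDegree (χ : G → ℂ))) ?_
  · simp only [and_assoc] at h2
    rw [Nat.ModEq, Nat.mod_eq_zero_of_dvd (CfsgLib.BlocksCharsC.even_card_odd_degree hM (even_iff_two_dvd.1 hev))] at h2
    exact h2
  · rintro χ ⟨h1, h3⟩
    refine ⟨CfsgLib.BlocksCharsC.powIrr_mem_principalBlock h.coprime h1, ?_⟩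
    have : Cfsg.charDegree (CfsgLib.BlocksCharsC.sigmaPerm h.coprime χ : G → ℂ) =
        Cfsg.charDegree (χ : G → ℂ) := by
      simp only [Cfsg.charDegree, CfsgLib.BlocksCharsC.sigmaPerm_apply, one_pow]
    rwa [this]

end Cfsg.Agent.S4550
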