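import Cfsg.Statements.S4552
import Cfsg.Agent.HomocyclicBlock.Count

set_option autoImplicit false
open Cfsg

namespace Cfsg.Agent.S4552

/-- Let B be a 2-block of the finite group G (relative to a maximal ideal M of the algebraic integers containing 2) whose defect group D is the direct product of two cyclic groups of the same order 2 ^ m, m ≥ 2. Then either B has 2-regular rank one and exactly 4 ^ m irreducible characters, or B has 2-regular rank three and exactly (4 ^ m + 8) / 3 irreducible characters. -/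
theorem result {G : Type*} [Group G] [Finite G] (M : Ideal Cfsg.AlgInt) (hM : Cfsg.IsPModular 2 M) (B : Set (Cfsg.IrrCharacter G)) (hB : Cfsg.IsPBlock M B) (D : Subgroup G) (hD : Cfsg.IsDefectGroup 2 M B D) (m : ℕ) (hm : 2 ≤ m) (hiso : Nonempty (D ≃* Multiplicative (ZMod (2 ^ m) × ZMod (2 ^ m)))) : (Cfsg.blockRank 2 B = 1 ∧ Nat.card B = 4 ^ m) ∨ (Cfsg.blockRank 2 B = 3 ∧ 3 * Nat.card B = 4 ^ m + 8) := by
  classical
  haveI := Fintype.ofFinite G
  haveI := hM.2.1.isPrime
  haveI := CfsgLib.Blocks.charP_res hM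
  haveI := CfsgLib.BlockPairs.isAlgClosed_res hM
  haveI : Fact (Nat.Prime 2) := ⟨Nat.prime_two⟩
  letI : ∀ H : Subgroup G, Fintype H := fun H => Fintype.ofFinite H
  have hb := CfsgLib.BlockPairs.isBlock_gblk (M := M) hB
  have hd := (CfsgLib.BlockPairs.isDefectGroup_gblk_iff hB D).1 hD
  obtain ⟨e, he⟩ := CfsgLib.BlockPairs.exists_blockHas hb hd.1 hd.2.1 hd.2.2.1
  exact CfsgLib.HomocyclicBlock.Setup.invariants
    ⟨hM, hB, CfsgLib.BlockPairs.isMaxPair_of_defect hd he, hm, hiso⟩

end Cfsg.Agent.S4552
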