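import Cfsg.Statements.S4553
import Cfsg.Agent.BlocksCharsC.InvariantBlock
import Cfsg.Agent.BlocksCharsC.SigmaAction
import Cfsg.Agent.BlocksCharsC.RealConstituents
import Cfsg.Agent.BlocksCharsC.OrbitSum
import Cfsg.Agent.BlocksCharsC.Restriction
import Cfsg.Agent.BlocksCharsC.CliffordInvariant
import Cfsg.Agent.CharactersDeep.Gallagher
import Cfsg.Agent.OddOrderChar.AbelianInertia
import Cfsg.Agent.Transfer.Residual

set_option autoImplicit false
set_option linter.style.haveILetI false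
open Cfsg

namespace Cfsg.Agent.S4553

open CfsgLib.Characters CfsgLib.BlocksCharsC CfsgLib.CharactersDeep.Gallagher
open scoped ComplexConjugate Pointwise

universe u

variable {G : Type u} [Group G] [Fintype G] {p : ℕ} [hp : Fact p.Prime]

omit [Fintype G] in
theorem invariant_of_fixed (N : Subgroup G) [hN : N.Normal] (H : Subgroup G) (hsup : N ⊔ H = ⊤)
    {θ : N → ℂ} (hθ : Cfsg.IsClassFunction N θ)
    (hfix : ∀ x ∈ H, ∀ n : N, θ ⟨x * n * x⁻¹, hN.conj_mem n n.2 x⟩ = θ n) (g : G) (n : N) :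
    θ ⟨g * n * g⁻¹, hN.conj_mem n n.2 g⟩ = θ n := by
  have hg : g ∈ ((N : Set G) * (H : Set G) : Set G) := by
    rw [← Subgroup.normal_mul, hsup]; trivial
  obtain ⟨a, ha, y, hy, rfl⟩ := hg
  rw [← hfix y hy n, ← hθ ⟨y * n * y⁻¹, hN.conj_mem n n.2 y⟩ ⟨a, ha⟩]
  refine congrArg θ (Subtype.ext ?_)
  exact (show (a * y) * (n : G) * (a * y)⁻¹ = a * (y * n * y⁻¹) * a⁻¹ by group)

omit [Fintype G] in
/-- Linear characters of `O^p(G)` have order prime to `p`. -/
theorem hom_pResidual_pow [Finite G] (f : Cfsg.pResidual p G →* ℂˣ) (n : Cfsg.pResidual p G) :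
    f n ^ (Nat.card G / p ^ (Nat.card G).factorization p) = 1 := by
  set o := Nat.card G / p ^ (Nat.card G).factorization p with ho
  let S : Subgroup G := ((powMonoidHom o).comp f).ker.map (Cfsg.pResidual p G).subtype
  have hS : Cfsg.pResidual p G ≤ S := by
    refine (Subgroup.closure_le S).2 fun g hg => ?_
    have hgN : g ∈ Cfsg.pResidual p G := CfsgLib.Transfer.mem_pResidual_of_coprime hg
    refine ⟨⟨g, hgN⟩, MonoidHom.mem_ker.2 ?_, rfl⟩
    have hgo : g ^ o = 1 := orderOf_dvd_iff_pow_eq_one.1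
      (Nat.Coprime.dvd_of_dvd_mul_left (Nat.Coprime.pow_right _ hg)
        (by rw [ho, Nat.mul_div_cancel' (Nat.ordProj_dvd _ _)]; exact orderOf_dvd_natCard g))
    show f ⟨g, hgN⟩ ^ o = 1
    rw [← map_pow, show (⟨g, hgN⟩ : Cfsg.pResidual p G) ^ o = 1 from Subtype.ext hgo, map_one]
  obtain ⟨m, hm, hmn⟩ := hS n.2
  obtain rfl : m = n := Subgroup.subtype_injective _ hmn
  exact MonoidHom.mem_ker.1 hm

/-- Over a cyclic `p`-quotient, a `p'`-degree character restricts to an invariant irreducible one. -/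
theorem exists_restrict_irr (N : Subgroup G) [hN : N.Normal] [Fintype N] [hcyc : IsCyclic (G ⧸ N)]
    (P : Sylow p G) (hsup : N ⊔ (P : Subgroup G) = ⊤)
    (hext : ∀ θ : IrrCharacter N, (∀ (g : G) (n : N),
      (θ : N → ℂ) ⟨g * n * g⁻¹, hN.conj_mem n n.2 g⟩ = (θ : N → ℂ) n) →
      ¬ p ∣ Cfsg.charDegree (θ : N → ℂ) →
      ∃ χ : IrrCharacter G, ∀ n : N, (χ : G → ℂ) n = (θ : N → ℂ) n)
    {χ : IrrCharacter G} (hdeg : ¬ p ∣ Cfsg.charDegree (χ : G → ℂ)) :
    ∃ θ : IrrCharacter N, (∀ (g : G) (n : N),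
      (θ : N → ℂ) ⟨g * n * g⁻¹, hN.conj_mem n n.2 g⟩ = (θ : N → ℂ) n) ∧
      ¬ p ∣ Cfsg.charDegree (θ : N → ℂ) ∧ ∀ n : N, (χ : G → ℂ) n = (θ : N → ℂ) n := by
  classical
  haveI := Fintype.ofFinite (G ⧸ N)
  choose m hm using fun θ : IrrCharacter N =>
    classInner_character_irr (isCharacter_restrict N (isCharacter_of_isIrr χ.2)) θ.2
  have hsum : Cfsg.charDegree (χ : G → ℂ) = ∑ θ : IrrCharacter N, m θ * Cfsg.charDegree (θ : N → ℂ) := by
    have h := congrFun (character_expansion (isCharacter_restrict N (isCharacter_of_isIrr χ.2))) 1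
    rw [Finset.sum_apply, OneMemClass.coe_one, charDegree_spec (isCharacter_of_isIrr χ.2)] at h
    rw [← Nat.cast_inj (R := ℂ), h]
    push_cast
    refine Finset.sum_congr rfl fun θ _ => ?_
    rw [Pi.smul_apply, smul_eq_mul, hm, charDegree_spec (isCharacter_of_isIrr θ.2)]
  letI : MulAction G (IrrCharacter N) := irrConjAction N
  let Pg : Subgroup G := (P : Subgroup G)
  letI : MulAction Pg (IrrCharacter N) := MulAction.compHom _ Pg.subtype
  have hmP : ∀ (g : Pg) (θ : IrrCharacter N), (m (g • θ) : ℤ) * Cfsg.charDegree ((g • θ : IrrCharacter N) : N → ℂ) =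
      m θ * Cfsg.charDegree (θ : N → ℂ) := by
    intro g θ
    have h1 : Cfsg.charDegree ((g • θ : IrrCharacter N) : N → ℂ) = Cfsg.charDegree (θ : N → ℂ) :=
      congrArg (fun z : ℂ => ⌊z.re⌋₊) (congrArg (θ : N → ℂ) (Subtype.ext
        (show (g : G)⁻¹ * ((1 : N) : G) * g = ((1 : N) : G) by simp)))
    have h2 : m (g • θ) = m θ := by
      rw [← Nat.cast_inj (R := ℂ), ← hm, ← hm]
      simp only [Cfsg.classInner]
      congr 1
      let τ : N → N := fun n => ⟨(g : G)⁻¹ * n * g, by simpa using hN.conj_mem _ n.2 (g : G)⁻¹⟩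
      have hτ : Function.Bijective τ := Finite.injective_iff_bijective.1 fun a b h =>
        Subtype.ext (mul_left_cancel (mul_right_cancel (congrArg Subtype.val h)))
      refine Fintype.sum_bijective τ hτ _ _ fun n => ?_
      have e := isClassFunction_of_isIrr χ.2 (n : G) (g : G)⁻¹
      rw [inv_inv] at e
      show (χ : G → ℂ) n * conj ((θ : N → ℂ) (τ n)) = (χ : G → ℂ) (τ n) * conj ((θ : N → ℂ) (τ n))
      exact congrArg (· * _) e.symm
    rw [h1, h2]
  obtain ⟨θ, hθfix, hθm⟩ : ∃ θ : IrrCharacter N, (∀ g : Pg, g • θ = θ) ∧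
      ¬ p ∣ m θ * Cfsg.charDegree (θ : N → ℂ) := by
    by_contra hnone
    push Not at hnone
    have h := dvd_sum_sub_sum_fixed (R := ℤ) P.isPGroup'
      (fun θ : IrrCharacter N => (m θ : ℤ) * Cfsg.charDegree (θ : N → ℂ)) hmP
    have h2 : (p : ℤ) ∣ ∑ θ ∈ Finset.univ.filter
        (fun θ : IrrCharacter N => θ ∈ MulAction.fixedPoints Pg (IrrCharacter N)),
        (m θ : ℤ) * Cfsg.charDegree (θ : N → ℂ) := Finset.dvd_sum fun θ hθ => by
      exact_mod_cast hnone θ (Finset.mem_filter.1 hθ).2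
    have h3 := dvd_add h h2
    rw [sub_add_cancel] at h3
    rw [hsum] at hdeg
    exact hdeg (by exact_mod_cast h3)
  have hinv : ∀ (g : G) (n : N), (θ : N → ℂ) ⟨g * n * g⁻¹, hN.conj_mem n n.2 g⟩ = (θ : N → ℂ) n := by
    refine invariant_of_fixed N Pg hsup (isClassFunction_of_isIrr θ.2) fun x hx n => ?_
    have := congrFun (congrArg Subtype.val (hθfix ⟨x⁻¹, Pg.inv_mem hx⟩)) n
    refine Eq.trans (congrArg (θ : N → ℂ) (Subtype.ext ?_)) this
    exact (show x * (n : G) * x⁻¹ = x⁻¹⁻¹ * n * x⁻¹ by rw [inv_inv])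
  have hθd : ¬ p ∣ Cfsg.charDegree (θ : N → ℂ) := fun h => hθm (h.mul_left _)
  refine ⟨θ, hinv, hθd, ?_⟩
  obtain ⟨χ₀, hχ₀⟩ := hext θ hinv hθd
  have hne : Cfsg.classInner (fun n : N => (χ : G → ℂ) n) (fun n : N => (χ₀ : G → ℂ) n) ≠ 0 := by
    simp only [hχ₀]
    rw [hm θ, Nat.cast_ne_zero]
    exact fun h => hθm (h ▸ by simp)
  obtain ⟨β, hβ, hχ⟩ := exists_eq_prodInfl N χ₀.2 (by simpa only [hχ₀] using θ.2) χ.2 hne
  have hβ1 : β 1 = 1 := by
    letI : CommGroup (G ⧸ N) := IsCyclic.commGroup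
    exact CfsgLib.OddOrderChar.irr_degree_one_of_comm (fun x y => mul_comm x y) ⟨β, hβ⟩
  intro n
  rw [hχ, prodInfl, (QuotientGroup.eq_one_iff (n : G)).2 n.2, hβ1, mul_one, hχ₀]

/-- Let G be a finite group, p a prime, P a Sylow p-subgroup, N the p-residual of G (the subgroup generated by the elements of order prime to p, the smallest normal subgroup with G/N a p-group), and M a maximal ideal of the algebraic integers containing p; suppose G/N is cyclic and nontrivial. Let k be a natural number with g ^ k = g ^ (1 + p) for every p-element g and g ^ k = g for every element g of order prime to p (so that χ (g ^ k) is the image of χ g under the field automorphism that raises p-power roots of unity to the power 1 + p and fixes the roots of unity of order prime to p). Then the number of members χ of the principal block of G of degree prime to p with χ (g ^ k) = χ g for all g equals p times the number of members θ of the principal block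 of N of degree prime to p that are invariant under conjugation by P and satisfy θ (n ^ k) = θ n for all n. -/
theorem result {G : Type*} [Group G] [Finite G] (p : ℕ) [Fact p.Prime] (M : Ideal Cfsg.AlgInt) (hM : Cfsg.IsPModular p M) (P : Sylow p G) (N : Subgroup G) [hN : N.Normal] (hNres : N = Cfsg.pResidual p G) (hcyc : IsCyclic (G ⧸ N)) (hnt : N ≠ ⊤) (k : ℕ) (hk₁ : ∀ g : G, (∃ j : ℕ, orderOf g = p ^ j) → g ^ k = g ^ (1 + p)) (hk₂ : ∀ g : G, Nat.Coprime (orderOf g) p → g ^ k = g) : Nat.card {χ : Cfsg.IrrCharacter G // χ ∈ Cfsg.principalBlock M G ∧ ¬ p ∣ Cfsg.charDegree (χ : G → ℂ) ∧ ∀ g : G, (χ : G → ℂ) (g ^ k) = (χ : G → ℂ) g} = p * Nat.card {θ : Cfsg.IrrCharacter ↥N // θ ∈ Cfsg.principalBlock M ↥N ∧ ¬ p ∣ Cfsg.charDegree (θ : ↥N → ℂ) ∧ (∀ x ∈ (P : Subgroup G), ∀ n : ↥N, (θ : ↥N → ℂ) ⟨x * n * x⁻¹, hN.conj_mem n n.2 x⟩ = (θ : ↥N → ℂ) n) ∧ ∀ n : ↥N, (θ : ↥N → ℂ) (n ^ k) = (θ : ↥N → ℂ) n} := by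
  classical
  subst hNres
  set N := Cfsg.pResidual p G with hNdef
  have hp : p.Prime := Fact.out
  haveI := hM.2.1.isPrime
  haveI := Fintype.ofFinite G
  haveI := Fintype.ofFinite N
  haveI := Fintype.ofFinite (G ⧸ N)
  haveI := hcyc
  have hq : IsPGroup p (G ⧸ N) := CfsgLib.Transfer.isPGroup_quotient_pResidual
  have hsup : N ⊔ (P : Subgroup G) = ⊤ := by
    rw [sup_comm]; exact CfsgLib.Transfer.sylow_sup_pResidual P
  have hreg : ∀ g : G, ¬ p ∣ orderOf g → g ∈ N := fun g hg =>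
    CfsgLib.Transfer.mem_pResidual_of_coprime (CfsgLib.Transfer.coprime_prime_iff.2 hg)
  have hσ : SigmaExp p k (1 + p) G := ⟨hk₁, hk₂, by simp⟩
  set o := Nat.card G / p ^ (Nat.card G).factorization p with ho
  have hop : Nat.Coprime o p := (Nat.coprime_ordCompl hp Nat.card_pos.ne').symm
  -- canonical extensions
  have hext : ∀ θ : IrrCharacter N, (∀ (g : G) (n : N),
      (θ : N → ℂ) ⟨g * n * g⁻¹, hN.conj_mem n n.2 g⟩ = (θ : N → ℂ) n) →
      ¬ p ∣ Cfsg.charDegree (θ : N → ℂ) →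
      ∃ χ : IrrCharacter G, (∀ n : N, (χ : G → ℂ) n = (θ : N → ℂ) n) ∧
        ((∀ n : N, (θ : N → ℂ) (n ^ k) = (θ : N → ℂ) n) →
          ∀ g, (χ : G → ℂ) (g ^ k) = (χ : G → ℂ) g) := by
    intro θ hinv hdeg
    obtain ⟨χ, hχ, hdet, hres, huniq⟩ := exists_canonical (p := p) hop N hq θ.2
      (detExp_of_hom hom_pResidual_pow (isCharacter_of_isIrr θ.2))
      (fun g => funext fun n => by
        rw [CfsgLib.OddOrderChar.conjBy_apply]; exact hinv g n) hdeg
    refine ⟨⟨χ, hχ⟩, hres, fun hfix g => ?_⟩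
    refine congrFun (huniq _ (hdet.pow hσ.coprime) fun n => ?_) g
    rw [← SubmonoidClass.coe_pow, hres, hfix]
  let A := {χ : Cfsg.IrrCharacter G // χ ∈ Cfsg.principalBlock M G ∧
    ¬ p ∣ Cfsg.charDegree (χ : G → ℂ) ∧ ∀ g : G, (χ : G → ℂ) (g ^ k) = (χ : G → ℂ) g}
  let B := {θ : Cfsg.IrrCharacter N // θ ∈ Cfsg.principalBlock M N ∧
    ¬ p ∣ Cfsg.charDegree (θ : N → ℂ) ∧
    (∀ x ∈ (P : Subgroup G), ∀ n : N, (θ : N → ℂ) ⟨x * n * x⁻¹, hN.conj_mem n n.2 x⟩ = (θ : N → ℂ) n) ∧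
    ∀ n : N, (θ : N → ℂ) (n ^ k) = (θ : N → ℂ) n}
  let C := {f : (G ⧸ N) →* ℂˣ // f ^ p = 1}
  have hBinv : ∀ θ : B, ∀ (g : G) (n : N),
      (θ.1 : N → ℂ) ⟨g * n * g⁻¹, hN.conj_mem n n.2 g⟩ = (θ.1 : N → ℂ) n := fun θ =>
    invariant_of_fixed N P hsup (isClassFunction_of_isIrr θ.1.2) θ.2.2.2.1
  choose E hE hEfix using fun θ : B => hext θ.1 (hBinv θ) θ.2.2.1
  have hEirr : ∀ θ : B, Cfsg.IsIrrCharacter N (fun n : N => (E θ : G → ℂ) n) := fun θ => by
    simpa only [hE] using θ.1.2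
  -- the exponent `k` on linear characters of the quotient
  have hfk : ∀ (f : (G ⧸ N) →* ℂˣ) (g : G), f (g : G ⧸ N) ^ k = f (g : G ⧸ N) ^ (1 + p) := by
    intro f g
    have hg : g ∈ ((N : Set G) * ((P : Subgroup G) : Set G) : Set G) := by
      rw [← Subgroup.normal_mul, hsup]; trivial
    obtain ⟨a, ha, y, hy, rfl⟩ := hg
    have e : ((a * y : G) : G ⧸ N) = (y : G ⧸ N) := by
      rw [QuotientGroup.mk_mul, (QuotientGroup.eq_one_iff a).2 ha, one_mul]
    rw [e, ← map_pow, ← map_pow, ← QuotientGroup.mk_pow, ← QuotientGroup.mk_pow]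
    congr 2
    obtain ⟨j, hj⟩ := P.isPGroup' ⟨y, hy⟩
    obtain ⟨l, -, hl⟩ := (Nat.dvd_prime_pow hp).1
      (orderOf_dvd_of_pow_eq_one (show y ^ p ^ j = 1 from congrArg Subtype.val hj))
    exact hk₁ y ⟨l, hl⟩
  have hprod : ∀ (θ : B) (f : (G ⧸ N) →* ℂˣ),
      Cfsg.IsIrrCharacter G (prodInfl N (E θ : G → ℂ) fun q => (f q : ℂ)) := fun θ f =>
    isIrr_prodInfl N (E θ).2 (hEirr θ) (isIrr_linChar f)
  have hdegE : ∀ (θ : B) (f : (G ⧸ N) →* ℂˣ),
      Cfsg.charDegree (prodInfl N (E θ : G → ℂ) fun q => (f q : ℂ)) =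
        Cfsg.charDegree (θ.1 : N → ℂ) := fun θ f => by
    have h := hE θ 1
    rw [OneMemClass.coe_one] at h
    simp only [Cfsg.charDegree, prodInfl, QuotientGroup.mk_one, map_one, Units.val_one, mul_one, h]
  have hresE : ∀ (θ : B) (f : (G ⧸ N) →* ℂˣ) (n : N),
      prodInfl N (E θ : G → ℂ) (fun q => (f q : ℂ)) n = (θ.1 : N → ℂ) n := fun θ f n => by
    simp only [prodInfl, (QuotientGroup.eq_one_iff (n : G)).2 n.2, map_one, Units.val_one, mul_one,
      hE]
  let Φ : B × C → A := fun x => ⟨⟨_, hprod x.1 x.2.1⟩, by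
    refine mem_principalBlock_of_restrict hM N hreg x.1.2.1 (e := 1) fun n => ?_
    rw [one_mul]; exact hresE x.1 x.2.1 n, by
    show ¬ p ∣ Cfsg.charDegree (prodInfl N _ _)
    rw [hdegE]; exact x.1.2.2.1, fun g => by
    show (E x.1 : G → ℂ) (g ^ k) * ((x.2.1 ((g ^ k : G) : G ⧸ N) : ℂˣ) : ℂ) = (E x.1 : G → ℂ) g * _
    rw [hEfix x.1 x.1.2.2.2.2, QuotientGroup.mk_pow, map_pow, hfk, pow_add, pow_one]
    have := DFunLike.congr_fun x.2.2 (g : G ⧸ N)
    rw [MonoidHom.pow_apply, MonoidHom.one_apply] at this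
    rw [this, mul_one]⟩
  have hΦ : Function.Bijective Φ := by
    constructor
    · rintro ⟨θ, f⟩ ⟨θ', f'⟩ h
      have h' : prodInfl N (E θ : G → ℂ) (fun q => (f.1 q : ℂ)) =
          prodInfl N (E θ' : G → ℂ) (fun q => (f'.1 q : ℂ)) := congrArg (fun z : A => (z.1 : G → ℂ)) h
      obtain rfl : θ = θ' := Subtype.ext (Subtype.ext (funext fun n => by
        rw [← hresE θ f.1, ← hresE θ' f'.1, h']))
      have h2 := prodInfl_injective N (E θ).2 (hEirr θ) (isIrr_linChar f.1) (isIrr_linChar f'.1) h'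
      exact Prod.ext rfl (Subtype.ext (MonoidHom.ext fun q => Units.ext (congrFun h2 q)))
    · rintro ⟨χ, hχB, hχd, hχσ⟩
      obtain ⟨θ, hinv, hθd, hres⟩ := exists_restrict_irr N P hsup
        (fun θ h1 h2 => (hext θ h1 h2).imp fun _ h => h.1) hχd
      have hθ : θ ∈ Cfsg.principalBlock M N :=
        mem_principalBlock_restrict N (e := 1) (fun n => by rw [one_mul]; exact hres n) hχB
      let θB : B := ⟨θ, hθ, hθd, fun x _ n => hinv x n, fun n => by
        rw [← hres, ← hres, SubmonoidClass.coe_pow, hχσ]⟩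
      obtain ⟨β, hβ, hχ⟩ := exists_eq_prodInfl N (E θB).2 (hEirr θB) χ.2 (by
        simp only [hE, hres]
        rw [classInner_isIrr_self θ.2]; exact one_ne_zero)
      have hβ1 : β 1 = 1 := by
        letI : CommGroup (G ⧸ N) := IsCyclic.commGroup
        exact CfsgLib.OddOrderChar.irr_degree_one_of_comm (fun x y => mul_comm x y) ⟨β, hβ⟩
      obtain ⟨f, hf⟩ := exists_hom_of_degree_one (isCharacter_of_isIrr hβ) hβ1
      subst hf
      have hkey : prodInfl N (E θB : G → ℂ) (fun q => ((f ^ (1 + p) : (G ⧸ N) →* ℂˣ) q : ℂ)) =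
          prodInfl N (E θB : G → ℂ) (fun q => (f q : ℂ)) := by
        funext g
        have h := hχσ g
        rw [hχ] at h
        simp only [prodInfl] at h ⊢
        rw [hEfix θB θB.2.2.2.2, QuotientGroup.mk_pow, map_pow, hfk] at h
        exact h
      have hfp : f ^ p = 1 := by
        have h2 := prodInfl_injective N (E θB).2 (hEirr θB) (isIrr_linChar (f ^ (1 + p)))
          (isIrr_linChar f) hkey
        refine MonoidHom.ext fun q => ?_
        have h3 : f q ^ (1 + p) = f q := Units.ext (congrFun h2 q)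
        rw [pow_add, pow_one] at h3
        rw [MonoidHom.pow_apply, MonoidHom.one_apply]
        exact mul_eq_left.1 h3
      exact ⟨(θB, ⟨f, hfp⟩), Subtype.ext (Subtype.ext hχ.symm)⟩
  -- linear characters of order dividing `p`
  have hC : Nat.card C = p := by
    letI : CommGroup (G ⧸ N) := IsCyclic.commGroup
    haveI : NeZero (Monoid.exponent (G ⧸ N) : ℂ) :=
      ⟨Nat.cast_ne_zero.2 Monoid.exponent_ne_zero_of_finite⟩
    obtain ⟨e⟩ := CommGroup.monoidHom_mulEquiv_of_hasEnoughRootsOfUnity (G ⧸ N) ℂ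
    have h1 : Nat.card C = Nat.card (powMonoidHom p : (G ⧸ N) →* G ⧸ N).ker := by
      refine Nat.card_congr (e.toEquiv.subtypeEquiv fun f => ?_)
      rw [MonoidHom.mem_ker, powMonoidHom_apply, MulEquiv.toEquiv_eq_coe, MulEquiv.coe_toEquiv,
        ← map_pow]
      exact (map_eq_one_iff e e.injective).symm
    rw [h1, IsCyclic.card_powMonoidHom_ker]
    obtain ⟨a, ha⟩ := IsPGroup.iff_card.1 hq
    rw [ha]
    refine Nat.gcd_eq_right (dvd_pow_self p fun h0 => hnt ?_)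
    exact Subgroup.index_eq_one.1 (by rw [Subgroup.index, ha, h0, pow_zero])
  rw [← Nat.card_congr (Equiv.ofBijective Φ hΦ), Nat.card_prod, hC, mul_comm]

end Cfsg.Agent.S4553
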