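import Cfsg.Statements.S4558
import Cfsg.Agent.BlocksCharsC.Congruence

set_option autoImplicit false
open Cfsg

namespace Cfsg.Agent.S4558

/-- Let χ be a character of the finite group G and g an element of p-power order for the prime p. If χ g = 0, then p divides the degree of χ. -/
theorem result {G : Type*} [Group G] [Finite G] (p : ℕ) [Fact p.Prime] (χ : G → ℂ) (hχ : Cfsg.IsCharacter G χ) (g : G) (hg : ∃ j : ℕ, orderOf g = p ^ j) (h0 : χ g = 0) : p ∣ Cfsg.charDegree χ := by
  obtain ⟨M, hM⟩ := CfsgLib.Blocks.exists_isPModular p Fact.out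
  obtain ⟨n, hn⟩ := CfsgLib.Characters.exists_degree hχ
  obtain ⟨j, hj⟩ := hg
  obtain ⟨a, haM, ha⟩ := CfsgLib.BlocksCharsC.sub_degree_mem hM hχ hj
  rw [CfsgLib.BlocksCharsC.charDegree_eq hn, ← CfsgLib.Blocks.IsPModular.natCast_mem_iff hM]
  have : (n : Cfsg.AlgInt) = -a := Subtype.ext (by push_cast; rw [ha, h0, hn]; ring)
  rw [this]
  exact M.neg_mem haM

end Cfsg.Agent.S4558
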