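import Cfsg.Statements.S4560
import Cfsg.Agent.BlocksCharsC.FourTransitive
import Mathlib.GroupTheory.Perm.Cycle.Type

set_option autoImplicit false
set_option linter.style.haveILetI false
open Cfsg

namespace Cfsg.Agent.S4560

open CfsgLib.BlocksCharsC

theorem swapCount_eq_zero {n : ℕ} (x : alternatingGroup (Fin n))
    (h : 2 ∉ (x : Equiv.Perm (Fin n)).cycleType) : swapCount (Fin n) x = 0 := by
  classical
  refine (@Fintype.card_eq_zero_iff _ (_)).2 ?_
  refine ⟨fun ⟨a, h2, h1⟩ => h ?_⟩
  set g : Equiv.Perm (Fin n) := (x : Equiv.Perm (Fin n))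
  change g (g a) = a at h2
  change g a ≠ a at h1
  have hc : (g.cycleOf a).IsCycle := Equiv.Perm.isCycle_cycleOf g h1
  have hca : g.cycleOf a a ≠ a := by rwa [Equiv.Perm.cycleOf_apply_self]
  have hpow : (g.cycleOf a ^ 2) a = a := by
    rw [Equiv.Perm.cycleOf_pow_apply_self, pow_two, Equiv.Perm.mul_apply, h2]
  have hord : orderOf (g.cycleOf a) = 2 :=
    orderOf_eq_prime (hc.pow_eq_one_iff.2 ⟨a, hca, hpow⟩) fun hh => hca (by rw [hh]; rfl)
  have hmem : g.cycleOf a ∈ g.cycleFactorsFinset :=
    Equiv.Perm.cycleOf_mem_cycleFactorsFinset_iff.2 (Equiv.Perm.mem_support.2 h1)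
  rw [Equiv.Perm.cycleType_def, Multiset.mem_map]
  exact ⟨g.cycleOf a, hmem, by rw [Function.comp_apply, ← hc.orderOf, hord]⟩

/-- An element of the alternating group of given cycle type. -/
theorem exists_element {n : ℕ} (m : Multiset ℕ) (hs : m.sum ≤ n) (h2 : ∀ a ∈ m, 2 ≤ a)
    (hev : Even (m.sum + m.card)) :
    ∃ x : alternatingGroup (Fin n), (x : Equiv.Perm (Fin n)).cycleType = m ∧
      fixCount (Fin n) x = n - m.sum ∧ orderOf x = m.lcm := by
  classical
  obtain ⟨g, hg⟩ := (Equiv.Perm.exists_with_cycleType_iff (α := Fin n)).2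
    ⟨by simpa using hs, h2⟩
  have hmem : g ∈ alternatingGroup (Fin n) := by
    rw [Equiv.Perm.mem_alternatingGroup, Equiv.Perm.sign_of_cycleType, hg]
    exact hev.neg_one_pow
  refine ⟨⟨g, hmem⟩, hg, ?_, ?_⟩
  · have hsum : g.support.card = m.sum := by rw [← Equiv.Perm.sum_cycleType, hg]
    have hc : (Finset.univ.filter fun a => g a = a) = g.supportᶜ := by
      ext a; simp
    rw [fixCount, ← @Nat.card_eq_fintype_card _ (_), Nat.card_eq_fintype_card, Fintype.card_subtype]
    refine Eq.trans ?_ (congrArg (n - ·) hsum)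
    refine (congrArg Finset.card ?_).trans ((g.support.card_compl).trans (by simp))
    rw [← hc]
    rfl
  · rw [Subgroup.orderOf_mk, ← Equiv.Perm.lcm_cycleType, hg]

/-- Multisets of powers of two with an even number of parts. -/
theorem exists_parts (b q : ℕ) (hq : 2 ≤ q) :
    ∃ m : Multiset ℕ, (∀ a ∈ m, a = b ∨ a = 2 * b) ∧ m.sum = b * q ∧ Even m.card := by
  rcases Nat.even_or_odd q with h | h
  · exact ⟨Multiset.replicate q b, fun a ha => Or.inl (Multiset.eq_of_mem_replicate ha),
      by rw [Multiset.sum_replicate, smul_eq_mul, mul_comm], by rwa [Multiset.card_replicate]⟩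
  · obtain ⟨r, rfl⟩ := Nat.exists_eq_add_of_le hq
    refine ⟨(2 * b) ::ₘ Multiset.replicate r b, fun a ha => ?_, ?_, ?_⟩
    · rcases Multiset.mem_cons.1 ha with ha | ha
      · exact Or.inr ha
      · exact Or.inl (Multiset.eq_of_mem_replicate ha)
    · simp only [Multiset.sum_cons, Multiset.sum_replicate, smul_eq_mul]; ring
    · rw [Multiset.card_cons, Multiset.card_replicate]
      rcases h with ⟨c, hc⟩
      exact ⟨c, by omega⟩

/-- The irreducible characters, with their extensions. -/
theorem exists_pair {n : ℕ} (hn : 7 ≤ n) (x : alternatingGroup (Fin n))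
    (h : fixCount (Fin n) x = 1 ∨
      ((fixCount (Fin n) x = 0 ∨ fixCount (Fin n) x = 2) ∧ swapCount (Fin n) x = 0)) :
    ∃ χ : Cfsg.IrrCharacter (alternatingGroup (Fin n)),
      (χ : alternatingGroup (Fin n) → ℂ) x = 0 ∧
      ∃ ψ : Cfsg.IrrCharacter (Equiv.Perm (Fin n)), ∀ y : alternatingGroup (Fin n),
        (ψ : Equiv.Perm (Fin n) → ℂ) y = (χ : alternatingGroup (Fin n) → ℂ) y := by
  classical
  have hα : 4 ≤ Fintype.card (Fin n) := by simp; omega
  haveI : MulAction.IsMultiplyPretransitive (alternatingGroup (Fin n)) (Fin n) 4 := by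
    haveI := alternatingGroup.isMultiplyPretransitive (Fin n)
    refine MulAction.isMultiplyPretransitive_of_le (n := Nat.card (Fin n) - 2) ?_ (Nat.sub_le _ _)
    simp; omega
  haveI : MulAction.IsMultiplyPretransitive (Equiv.Perm (Fin n)) (Fin n) 4 :=
    Equiv.Perm.isMultiplyPretransitive (Fin n) 4
  have hfix : ∀ y : alternatingGroup (Fin n),
      fixCount (Fin n) (y : Equiv.Perm (Fin n)) = fixCount (Fin n) y := fun y => rfl
  have hswap : ∀ y : alternatingGroup (Fin n),
      swapCount (Fin n) (y : Equiv.Perm (Fin n)) = swapCount (Fin n) y := fun y => rfl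
  rcases h with h | ⟨h | h, h'⟩
  · exact ⟨⟨_, isIrr_charOne (Fin n) hα⟩, by simp [charOne, h],
      ⟨_, isIrr_charOne (Fin n) hα⟩, fun y => by simp only [charOne, hfix]⟩
  · exact ⟨⟨_, isIrr_charTwo (Fin n) hα⟩, by simp [charTwo, h, h'],
      ⟨_, isIrr_charTwo (Fin n) hα⟩, fun y => by simp only [charTwo, hfix, hswap]⟩
  · exact ⟨⟨_, isIrr_charThree (Fin n) hα⟩, by simp [charThree, h, h'],
      ⟨_, isIrr_charThree (Fin n) hα⟩, fun y => by simp only [charThree, hfix, hswap]⟩

/-- For n ≥ 7 the alternating group on n letters has an irreducible character that vanishes at some 2-element and is the restriction of an irreducible character of the symmetric group, and an irreducible character that vanishes at some element of order 3 and is the restriction of an irreducible character of the symmetric group. -/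
theorem result (n : ℕ) (hn : 7 ≤ n) : (∃ χ : Cfsg.IrrCharacter (alternatingGroup (Fin n)), (∃ x : alternatingGroup (Fin n), (∃ j : ℕ, orderOf x = 2 ^ j) ∧ (χ : alternatingGroup (Fin n) → ℂ) x = 0) ∧ ∃ ψ : Cfsg.IrrCharacter (Equiv.Perm (Fin n)), ∀ x : alternatingGroup (Fin n), (ψ : Equiv.Perm (Fin n) → ℂ) x = (χ : alternatingGroup (Fin n) → ℂ) x) ∧ (∃ χ : Cfsg.IrrCharacter (alternatingGroup (Fin n)), (∃ y : alternatingGroup (Fin n), orderOf y = 3 ∧ (χ : alternatingGroup (Fin n) → ℂ) y = 0) ∧ ∃ ψ : Cfsg.IrrCharacter (Equiv.Perm (Fin n)), ∀ x : alternatingGroup (Fin n), (ψ : Equiv.Perm (Fin n) → ℂ) x = (χ : alternatingGroup (Fin n) → ℂ) x) := by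
  constructor
  · obtain ⟨x, hord, h⟩ : ∃ x : alternatingGroup (Fin n), (∃ j : ℕ, orderOf x = 2 ^ j) ∧
        (fixCount (Fin n) x = 1 ∨
        ((fixCount (Fin n) x = 0 ∨ fixCount (Fin n) x = 2) ∧ swapCount (Fin n) x = 0)) := by
      have hpow : ∀ m : Multiset ℕ, (∀ a ∈ m, a ∣ 8) → ∃ j, m.lcm = 2 ^ j := fun m hm => by
        obtain ⟨j, -, hj⟩ := (Nat.dvd_prime_pow Nat.prime_two).1
          (show m.lcm ∣ 2 ^ 3 from Multiset.lcm_dvd.2 hm)
        exact ⟨j, hj⟩
      rcases Nat.even_or_odd n with hev | hodd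
      · obtain ⟨q, c, hc, hq, hqc⟩ : ∃ q c, (c = 0 ∨ c = 2) ∧ 2 ≤ q ∧ n = 4 * q + c := by
          obtain ⟨k, hk⟩ := hev
          exact ⟨n / 4, n % 4, by omega, by omega, by omega⟩
        obtain ⟨m, hm, hs, hcard⟩ := exists_parts 4 q hq
        obtain ⟨x, hx, hf, ho⟩ := exists_element (n := n) m (by omega)
          (fun a ha => by rcases hm a ha with h | h <;> omega)
          (by rw [hs]; exact (Even.mul_right (by decide) q).add hcard)
        refine ⟨x, ?_, Or.inr ⟨?_, swapCount_eq_zero x ?_⟩⟩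
        · rw [ho]
          exact hpow m fun a ha => by rcases hm a ha with rfl | rfl <;> decide
        · rw [hf, hs]; omega
        · rw [hx]
          exact fun h2 => by rcases hm 2 h2 with h | h <;> omega
      · obtain ⟨k, hk⟩ := hodd
        obtain ⟨m, hm, hs, hcard⟩ := exists_parts 2 k (by omega)
        obtain ⟨x, hx, hf, ho⟩ := exists_element (n := n) m (by omega)
          (fun a ha => by rcases hm a ha with h | h <;> omega)
          (by rw [hs]; exact (Even.mul_right (by decide) k).add hcard)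
        refine ⟨x, ?_, Or.inl (by rw [hf, hs]; omega)⟩
        rw [ho]
        exact hpow m fun a ha => by rcases hm a ha with rfl | rfl <;> decide
    obtain ⟨χ, h0, hψ⟩ := exists_pair hn x h
    exact ⟨χ, ⟨x, hord, h0⟩, hψ⟩
  · obtain ⟨x, hx, hf, ho⟩ := exists_element (n := n) (Multiset.replicate (n / 3) 3)
      (by simp only [Multiset.sum_replicate, smul_eq_mul]; omega)
      (fun a ha => by rw [Multiset.eq_of_mem_replicate ha]; omega)
      (by simp only [Multiset.sum_replicate, Multiset.card_replicate, smul_eq_mul]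
          exact ⟨2 * (n / 3), by omega⟩)
    rw [Multiset.sum_replicate, smul_eq_mul] at hf
    have hno : 2 ∉ (x : Equiv.Perm (Fin n)).cycleType := by
      rw [hx]; exact fun h2 => by simpa using Multiset.eq_of_mem_replicate h2
    have h : fixCount (Fin n) x = 1 ∨
        ((fixCount (Fin n) x = 0 ∨ fixCount (Fin n) x = 2) ∧ swapCount (Fin n) x = 0) := by
      have := swapCount_eq_zero x hno
      rw [hf]; omega
    have hord : orderOf x = 3 := by
      rw [ho]
      exact Nat.dvd_antisymm
        (Multiset.lcm_dvd.2 fun a ha => (Multiset.eq_of_mem_replicate ha).dvd)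
        (Multiset.dvd_lcm (Multiset.mem_replicate.2 ⟨by omega, rfl⟩))
    obtain ⟨χ, h0, hψ⟩ := exists_pair hn x h
    exact ⟨χ, ⟨x, hord, h0⟩, hψ⟩

end Cfsg.Agent.S4560
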