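import Cfsg.Statements.S4563
import Cfsg.Agent.BlocksCharsC.FullyRamifiedOrbit
import Cfsg.Agent.Solvable.Factorization
import Cfsg.Agent.FgsSix.PrimePowerOrders

set_option autoImplicit false
set_option linter.style.haveILetI false
open Cfsg

namespace Cfsg.Agent.S4563

open CfsgLib.Characters CfsgLib.BlocksCharsC CfsgLib.OddOrderChar

universe u

/-- An induced fully ramified character makes the orbit as large as possible. -/
theorem card_over_eq {H : Type u} [Group H] [Fintype H] {Z : Subgroup H} [Z.Normal] [Fintype Z]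
    {χ : H → ℂ} {θ : Z → ℂ} {e : ℕ} (h : FullyRamified Z χ θ e) {p : ℕ} [hp : Fact p.Prime]
    (K : Subgroup H) [K.Normal] [Fintype K] (hZK : Z ≤ K) (φ : K → ℂ) (hφ : Cfsg.IsCharacter K φ)
    (hind : Cfsg.indFun K φ = χ) (R : Subgroup H) (hZR : Z ≤ R) {k : ℕ}
    (hk : Z.relIndex R = p ^ k) (hR : ¬ p ∣ R.index) :
    Nat.card (OverSetZ θ (R ⊓ K) (le_inf hZR hZK)) = (R ⊓ K).relIndex R := by
  classical
  set Q : Subgroup H := R ⊓ K with hQ
  haveI := Fintype.ofFinite Q
  obtain ⟨⟨ζs⟩, hdvd, hdeg, -⟩ := h.orbit_data R K hZR hZK hk hR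
  obtain ⟨t, ht0, ht⟩ := exists_degree_pos h.irrZ
  -- a constituent of `φ`
  obtain ⟨m, hm⟩ := exists_nat_coeff hφ
  have hχK : Cfsg.classInner φ (fun x : K => χ x) = 1 := by
    rw [← CfsgLib.Characters.classInner_indFun K φ (isClassFunction_of_isIrr h.irr), hind,
      classInner_isIrr_self h.irr]
  obtain ⟨φ₀, hmφ₀, hφ₀⟩ : ∃ κ : IrrCharacter K, 0 < m κ ∧
      Cfsg.classInner (κ : K → ℂ) (fun x : K => χ x) ≠ 0 := by
    by_contra hno
    push Not at hno
    rw [hm, classInner_sum_left, Finset.sum_eq_zero] at hχK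
    · exact zero_ne_one hχK
    intro κ _
    rw [classInner_smul_left]
    rcases Nat.eq_zero_or_pos (m κ) with h0 | hpos
    · rw [h0, Nat.cast_zero, zero_mul]
    · rw [hno κ hpos, mul_zero]
  have hχcons : Cfsg.classInner (fun x : K => χ x) (φ₀ : K → ℂ) ≠ 0 := fun h0 => hφ₀ (by
    rw [classInner_conj_symm, h0, map_zero])
  have hov : OverZ θ K hZK (φ₀ : K → ℂ) := by
    refine (overZ_iff_of_constituent h hZK (L' := ⊤) le_top φ₀.2
      (η := fun x : (⊤ : Subgroup H) => χ x)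
      (isIrr_comp (⊤ : Subgroup H).subtype (fun x => ⟨⟨x, Subgroup.mem_top x⟩, rfl⟩) h.irr) hχcons).2 ?_
    show Cfsg.classInner (fun z : Z => χ z) θ ≠ 0
    rw [show (fun z : Z => χ z) = (e : ℂ) • θ from funext h.res, classInner_smul_left,
      classInner_isIrr_self h.irrZ, mul_one, Nat.cast_ne_zero]
    exact h.pos.ne'
  obtain ⟨b, -, -, hb1, -⟩ := h.exists_mult K hZK φ₀.2 hov
  rw [ht] at hb1
  have hdegree : K.index * b = e := by
    -- from below
    have hI : Cfsg.IsCharacter H (Cfsg.indFun K (φ₀ : K → ℂ)) :=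
      CfsgLib.Characters.isCharacter_indFun K (isCharacter_of_isIrr φ₀.2)
    obtain ⟨c, hc⟩ := exists_nat_coeff hI
    choose dd hdd0 hdd using fun κ : IrrCharacter H => exists_degree_pos κ.2
    have hcχ : c ⟨χ, h.irr⟩ ≠ 0 := fun h0 => hφ₀ (by
      rw [← CfsgLib.Characters.classInner_indFun K _ (isClassFunction_of_isIrr h.irr), hc,
        classInner_irr_coeff (fun κ => (c κ : ℂ)) ⟨χ, h.irr⟩, h0, Nat.cast_zero])
    have h1 := congrFun hc 1
    rw [CfsgLib.Characters.indFun_one, hb1, Finset.sum_apply] at h1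
    simp only [Pi.smul_apply, smul_eq_mul, hdd] at h1
    have h1' : K.index * (b * t) = ∑ κ, c κ * dd κ := by exact_mod_cast h1
    have hdχ : dd ⟨χ, h.irr⟩ = e * t := by
      rw [← Nat.cast_inj (R := ℂ), ← hdd, Nat.cast_mul, ← ht]
      have := h.res 1
      rwa [OneMemClass.coe_one] at this
    have hlo : e * t ≤ K.index * (b * t) := by
      rw [h1', ← hdχ]
      exact le_trans (Nat.le_mul_of_pos_left _ (Nat.pos_of_ne_zero hcχ))
        (Finset.single_le_sum (f := fun κ => c κ * dd κ) (fun _ _ => Nat.zero_le _) (Finset.mem_univ _))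
    -- from above
    choose dk hdk0 hdk using fun κ : IrrCharacter K => exists_degree_pos κ.2
    have h2 := congrFun hm 1
    rw [Finset.sum_apply] at h2
    simp only [Pi.smul_apply, smul_eq_mul, hdk] at h2
    have h3 := congrFun hind 1
    rw [CfsgLib.Characters.indFun_one, h2] at h3
    have h4 : χ 1 = ((e * t : ℕ) : ℂ) := by
      have := h.res 1
      rw [OneMemClass.coe_one, ht] at this
      rw [this, Nat.cast_mul]
    rw [h4] at h3
    have h3' : K.index * ∑ κ, m κ * dk κ = e * t := by exact_mod_cast h3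
    have hdφ : dk φ₀ = b * t := by
      rw [← Nat.cast_inj (R := ℂ), ← hdk, hb1, Nat.cast_mul]
    have hhi : K.index * (b * t) ≤ e * t := by
      rw [← h3', ← hdφ]
      refine Nat.mul_le_mul_left _ (le_trans (Nat.le_mul_of_pos_left _ hmφ₀)
        (Finset.single_le_sum (f := fun κ => m κ * dk κ) (fun _ _ => Nat.zero_le _) (Finset.mem_univ _)))
    exact Nat.eq_of_mul_eq_mul_right ht0 (by rw [mul_assoc]; omega)
  -- common multiplicity on `Q`
  obtain ⟨a, ha0, -, ha1, -⟩ := h.exists_mult Q (le_inf hZR hZK) ζs.1.2 ζs.2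
  have hdvdb : a ∣ b := by
    have hres : Cfsg.IsCharacter Q (fun x : Q => (φ₀ : K → ℂ) ⟨x, x.2.2⟩) :=
      isCharacter_comp (Subgroup.inclusion inf_le_right) (isCharacter_of_isIrr φ₀.2)
    obtain ⟨c, hc⟩ := exists_nat_coeff hres
    have hcz : ∀ κ : IrrCharacter Q, c κ ≠ 0 → (κ : Q → ℂ) 1 = (a : ℂ) * θ 1 := by
      intro κ hκ
      have hne : Cfsg.classInner (fun x : Q => (φ₀ : K → ℂ) ⟨x, x.2.2⟩) (κ : Q → ℂ) ≠ 0 := by
        rw [hc, classInner_irr_coeff]; exact Nat.cast_ne_zero.2 hκ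
      have hκov := (overZ_iff_of_constituent h (le_inf hZR hZK) inf_le_right κ.2 φ₀.2 hne).2 hov
      exact (hdeg ⟨κ, hκov⟩ ζs).trans ha1
    have h1 := congrFun hc 1
    rw [Finset.sum_apply] at h1
    have h2 : ((b * t : ℕ) : ℂ) = ((∑ κ, c κ) * a * t : ℕ) := by
      have h1' : (φ₀ : K → ℂ) 1 = ∑ κ, ((c κ : ℂ) • (κ : Q → ℂ)) 1 := h1
      rw [hb1, Finset.sum_congr rfl (g := fun κ => (c κ : ℂ) * ((a : ℂ) * t)) fun κ _ => ?_,
        ← Finset.sum_mul] at h1'
      · push_cast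
        rw [h1']; ring
      · rw [Pi.smul_apply, smul_eq_mul]
        by_cases h0 : c κ = 0
        · simp [h0]
        · rw [hcz κ h0, ht]
    have h3 := Nat.eq_of_mul_eq_mul_right ht0 (Nat.cast_injective (R := ℂ) h2)
    exact ⟨∑ κ, c κ, by rw [h3, mul_comm]⟩
  -- the sum of squares on `Q`
  obtain ⟨af, hiff, hdegf, hsum⟩ := h.sum_sq Q (le_inf hZR hZK)
  have haf : ∀ ψ : IrrCharacter Q, 0 < af ψ → af ψ = a := fun ψ hψ => by
    have h1 := hdegf ψ hψ
    rw [hdeg ⟨ψ, (hiff ψ).2 hψ⟩ ζs, ha1] at h1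
    exact (Nat.cast_injective (R := ℂ) (mul_right_cancel₀ (irr_one_ne_zero h.irrZ) h1)).symm
  have hQZ : Z.relIndex Q = Nat.card (OverSetZ θ Q (le_inf hZR hZK)) * a ^ 2 := by
    rw [← hsum, ← Finset.sum_filter_of_ne (p := fun ψ => 0 < af ψ) (fun ψ _ hψ =>
      Nat.pos_of_ne_zero fun h0 => hψ (by rw [h0]; rfl)),
      Finset.sum_congr rfl (g := fun _ => a ^ 2) fun ψ hψ => by rw [haf ψ (Finset.mem_filter.1 hψ).2],
      Finset.sum_const, smul_eq_mul]
    congr 1
    rw [← Fintype.card_subtype, ← Nat.card_eq_fintype_card]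
    exact Nat.card_congr (Equiv.subtypeEquivRight fun ψ => (hiff ψ).symm)
  obtain ⟨c, rfl⟩ := hdvdb
  -- indices
  obtain ⟨j, -, hj⟩ := (Nat.dvd_prime_pow hp.out).1 (show Q.relIndex R ∣ p ^ k by
    rw [← hk, ← Subgroup.relIndex_mul_relIndex Z Q R (le_inf hZR hZK) inf_le_left]
    exact dvd_mul_left _ _)
  set u := Q.relIndex K
  have hu : ¬ p ∣ u := fun hd => hR (hd.trans (by
    rw [show u = R.relIndex K from Subgroup.inf_relIndex_right R K]
    exact CfsgLib.Transfer.relIndex_dvd_index_of_normal_right R K))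
  have hKidx : p ^ j ∣ K.index := by
    rw [← hj, show Q.relIndex R = K.relIndex R by rw [hQ, inf_comm, Subgroup.inf_relIndex_right]]
    exact Subgroup.relIndex_dvd_index_of_normal K R
  have hZidx : Z.index = Nat.card (OverSetZ θ Q (le_inf hZR hZK)) * a ^ 2 * u * K.index := by
    rw [← hQZ, Subgroup.relIndex_mul_relIndex Z Q K (le_inf hZR hZK) inf_le_right,
      Subgroup.relIndex_mul_index hZK]
  have hkey : K.index * c ^ 2 = Nat.card (OverSetZ θ Q (le_inf hZR hZK)) * u := by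
    have h1 : (K.index * (a * c)) ^ 2 = Nat.card (OverSetZ θ Q (le_inf hZR hZK)) * a ^ 2 * u * K.index := by
      rw [hdegree, h.sq, hZidx]
    have h2 : K.index * a ^ 2 * (K.index * c ^ 2) =
        K.index * a ^ 2 * (Nat.card (OverSetZ θ Q (le_inf hZR hZK)) * u) := by
      calc K.index * a ^ 2 * (K.index * c ^ 2) = (K.index * (a * c)) ^ 2 := by ring
        _ = _ := by rw [h1]; ring
    exact Nat.eq_of_mul_eq_mul_left (Nat.mul_pos (Nat.pos_of_ne_zero Subgroup.index_ne_zero_of_finite)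
      (pow_pos ha0 2)) h2
  have hpj : p ^ j ∣ Nat.card (OverSetZ θ Q (le_inf hZR hZK)) :=
    Nat.Coprime.dvd_of_dvd_mul_right (Nat.Coprime.pow_left j (hp.out.coprime_iff_not_dvd.2 hu))
      (hkey ▸ hKidx.mul_right _)
  rw [hj] at hdvd ⊢
  exact Nat.dvd_antisymm hdvd hpj

/-- Let χ be an irreducible character of the finite group H that is fully ramified over the normal subgroup Z: the restriction of χ to Z is e times an irreducible character of Z with e ^ 2 equal to the index of Z. If K is a proper normal subgroup of H containing Z and χ is induced from a character of K, then H/K is solvable; in particular, if K is solvable then so is H. -/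
theorem result {H : Type*} [Group H] [Fintype H] (Z : Subgroup H) [Z.Normal] (χ : Cfsg.IrrCharacter H) (hfr : ∃ (θ : Cfsg.IrrCharacter ↥Z) (e : ℕ), e ^ 2 = Z.index ∧ ∀ z : ↥Z, (χ : H → ℂ) z = (e : ℂ) * (θ : ↥Z → ℂ) z) (K : Subgroup H) [K.Normal] [Fintype K] (hZK : Z ≤ K) (hK : K ≠ ⊤) (φ : ↥K → ℂ) (hφ : Cfsg.IsCharacter ↥K φ) (hind : Cfsg.indFun K φ = (χ : H → ℂ)) : Group.IsSolvable (H ⧸ K) ∧ (Group.IsSolvable ↥K → Group.IsSolvable H) := by
  haveI := Fintype.ofFinite Z
  obtain ⟨θ, e, he, hres⟩ := hfr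
  have h : FullyRamified Z (χ : H → ℂ) (θ : Z → ℂ) e := ⟨χ.2, θ.2, he, hres⟩
  have hsol : Group.IsSolvable (H ⧸ K) := by
    refine CfsgLib.Solvable.isSolvable_of_hall_complements fun q hq => ?_
    haveI := Fact.mk hq
    obtain ⟨R, hZR, hR, ⟨k, hk⟩, hgen⟩ := exists_sylow_setup q Z K hZK
    obtain ⟨M, hM, -⟩ := h.exists_complement R K hZR hZK hk hR hgen
      (card_over_eq h K hZK φ hφ hind R hZR hk hR)
    exact ⟨M, hM⟩
  refine ⟨hsol, fun hKs => ?_⟩
  exact (Group.isSolvable_iff_subgroup_quotient K).2 ⟨hKs, hsol⟩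

end Cfsg.Agent.S4563
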