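import Cfsg.Statements.S4566
import Cfsg.Agent.BlocksCharsC.CliffordInvariant

set_option autoImplicit false
open Cfsg

namespace Cfsg.Agent.S4566

/-- Let N be a central subgroup of the finite group G, ψ a faithful irreducible (hence degree-one) character of N, and χ an irreducible character of G whose restriction to N contains ψ. If g ∈ G and some x ∈ G has commutator x⁻¹ g⁻¹ x g in N but different from 1, then χ g = 0. -/
theorem result {G : Type*} [Group G] [Fintype G] (N : Subgroup G) [Fintype N] (hN : N ≤ Subgroup.center G) (ψ : Cfsg.IrrCharacter ↥N) (hfaith : ∀ n : ↥N, (ψ : ↥N → ℂ) n = (ψ : ↥N → ℂ) 1 → n = 1) (χ : Cfsg.IrrCharacter G) (hover : Cfsg.classInner (fun n : ↥N => (χ : G → ℂ) n) (ψ : ↥N → ℂ) ≠ 0) (g x : G) (hcomm : x⁻¹ * g⁻¹ * x * g ∈ N) (hne : x⁻¹ * g⁻¹ * x * g ≠ 1) : (χ : G → ℂ) g = 0 := by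
  classical
  by_contra hg
  set z := x⁻¹ * g⁻¹ * x * g with hz
  have hzc : z ∈ Subgroup.center G := hN hcomm
  have hzinv : z⁻¹ ∈ Subgroup.center G := inv_mem hzc
  have h1 := CfsgLib.BlocksCharsC.irr_central_mul χ.2 hzinv g
  have h2 : (χ : G → ℂ) (z⁻¹ * g) = (χ : G → ℂ) g := by
    have e : z⁻¹ * g = g⁻¹ * (x⁻¹ * g * x) * g := by rw [hz]; group
    have := CfsgLib.Characters.isClassFunction_of_isIrr χ.2 g x⁻¹
    have h' := CfsgLib.Characters.isClassFunction_of_isIrr χ.2 (x⁻¹ * g * x) g⁻¹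
    rw [inv_inv] at this h'
    rw [e, h', this]
  rw [h2] at h1
  have h3 : (χ : G → ℂ) z⁻¹ = (χ : G → ℂ) 1 := mul_right_cancel₀ hg (h1.symm.trans (mul_comm _ _))
  let w : ↥N := ⟨z, hcomm⟩
  have hwc : w⁻¹ ∈ Subgroup.center ↥N :=
    Subgroup.mem_center_iff.2 fun m => Subtype.ext (Subgroup.mem_center_iff.1 hzinv m)
  refine hne ?_
  have hw : w⁻¹ = 1 := hfaith _ <| by
    by_contra hne'
    apply hover
    have hs : ∀ m : ↥N, (χ : G → ℂ) ((w⁻¹ * m : ↥N) : G) = (χ : G → ℂ) (m : G) := fun m => by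
      have := CfsgLib.BlocksCharsC.irr_central_mul χ.2 hzinv (m : G)
      rw [h3, mul_comm ((χ : G → ℂ) 1)] at this
      exact mul_right_cancel₀ (CfsgLib.Characters.irr_one_ne_zero χ.2) this
    have key : Cfsg.classInner (fun n : ↥N => (χ : G → ℂ) n) (ψ : ↥N → ℂ) * (ψ : ↥N → ℂ) 1 =
        Cfsg.classInner (fun n : ↥N => (χ : G → ℂ) n) (ψ : ↥N → ℂ) *
          (starRingEnd ℂ) ((ψ : ↥N → ℂ) w⁻¹) := by
      simp only [Cfsg.classInner, mul_assoc, Finset.sum_mul]
      congr 1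
      symm
      refine Fintype.sum_bijective (w⁻¹ * ·) (Group.mulLeft_bijective _) _ _ fun m => ?_
      have := congrArg (starRingEnd ℂ) (CfsgLib.BlocksCharsC.irr_central_mul ψ.2 hwc m)
      obtain ⟨d, -, hd⟩ := CfsgLib.Characters.exists_degree_pos ψ.2
      rw [hd] at this ⊢
      simp only [map_mul, Complex.conj_natCast] at this
      rw [hs, this]; ring
    by_contra h0
    have h4 := mul_left_cancel₀ h0 key
    obtain ⟨d, -, hd⟩ := CfsgLib.Characters.exists_degree_pos ψ.2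
    rw [hd] at h4 hne'
    exact hne' (by simpa using congrArg (starRingEnd ℂ) h4.symm)
  simpa [w, Subtype.ext_iff] using hw

end Cfsg.Agent.S4566
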