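import Cfsg.Statements.S4567
import Cfsg.Agent.BlocksCharsC.CliffordInvariant
import Cfsg.Agent.Blocks.GroupAlgebra
import Cfsg.Agent.OddOrderChar.AbelianInertia
import Cfsg.Agent.Characters.Linear

set_option autoImplicit false
set_option linter.style.haveILetI false
open Cfsg

namespace Cfsg.Agent.S4567

open CfsgLib.Characters CfsgLib.BlocksCharsC
open scoped ComplexConjugate

universe u

variable {G : Type u} [Group G] [Fintype G]

theorem sum_centralizer_eq (P : ConjClasses G → Prop) [DecidablePred P] :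
    ∑ z : G, (if P (ConjClasses.mk z) then (Nat.card (Subgroup.centralizer ({z} : Set G)) : ℂ) else 0) =
      (Nat.card G : ℂ) * Nat.card {C : ConjClasses G // P C} := by
  classical
  rw [← Finset.sum_fiberwise Finset.univ ConjClasses.mk]
  have h : ∀ C : ConjClasses G, ∑ z ∈ Finset.univ.filter (fun z => ConjClasses.mk z = C),
      (if P (ConjClasses.mk z) then (Nat.card (Subgroup.centralizer ({z} : Set G)) : ℂ) else 0) =
      if P C then (Nat.card G : ℂ) else 0 := by
    intro C
    obtain ⟨w, rfl⟩ := ConjClasses.mk_surjective C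
    by_cases hP : P (ConjClasses.mk w)
    · rw [if_pos hP]
      rw [Finset.sum_congr rfl (g := fun _ => (Nat.card (Subgroup.centralizer ({w} : Set G)) : ℂ))
        (fun z hz => ?_), Finset.sum_const, nsmul_eq_mul, ← Fintype.card_subtype,
        ← Nat.card_eq_fintype_card, CfsgLib.Blocks.natCard_class, ← Nat.cast_mul,
        Subgroup.index_mul_card]
      have hz' := (Finset.mem_filter.1 hz).2
      rw [if_pos (hz'.symm ▸ hP)]
      congr 1
      have h1 : (Subgroup.centralizer ({z} : Set G)).index = (Subgroup.centralizer ({w} : Set G)).index := by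
        rw [← CfsgLib.Blocks.natCard_class, ← CfsgLib.Blocks.natCard_class, hz']
      have h2 := (Subgroup.centralizer ({z} : Set G)).index_mul_card
      rw [h1, ← (Subgroup.centralizer ({w} : Set G)).index_mul_card] at h2
      exact Nat.eq_of_mul_eq_mul_left (Nat.pos_of_ne_zero Subgroup.index_ne_zero_of_finite) h2
    · rw [if_neg hP]
      exact Finset.sum_eq_zero fun z hz => if_neg ((Finset.mem_filter.1 hz).2.symm ▸ hP)
  rw [Finset.sum_congr rfl fun C _ => h C, Finset.sum_ite, Finset.sum_const_zero, add_zero,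
    Finset.sum_const, nsmul_eq_mul, Nat.card_eq_fintype_card (α := {C // P C}), Fintype.card_subtype,
    mul_comm]

/-- Let N be a central subgroup of the finite group G and ψ a faithful irreducible (hence degree-one) character of N. Call a coset g N special when every x ∈ G whose commutator x⁻¹ g⁻¹ x g lies in N actually commutes with g (this depends only on the coset). Then the number of irreducible characters of G whose restriction to N contains ψ equals the number of conjugacy classes of G/N consisting of special cosets. -/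
theorem result {G : Type*} [Group G] [Fintype G] (N : Subgroup G) [N.Normal] [Fintype N] (hN : N ≤ Subgroup.center G) (ψ : Cfsg.IrrCharacter ↥N) (hfaith : ∀ n : ↥N, (ψ : ↥N → ℂ) n = (ψ : ↥N → ℂ) 1 → n = 1) : Nat.card {χ : Cfsg.IrrCharacter G // Cfsg.classInner (fun n : ↥N => (χ : G → ℂ) n) (ψ : ↥N → ℂ) ≠ 0} = Nat.card {C : ConjClasses (G ⧸ N) // ∃ g : G, ConjClasses.mk (g : G ⧸ N) = C ∧ ∀ x : G, x⁻¹ * g⁻¹ * x * g ∈ N → x * g = g * x} := by
  classical
  have hcen : ∀ (n : N) (x : G), x * (n : G) = (n : G) * x := fun n x =>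
    Subgroup.mem_center_iff.1 (hN n.2) x
  obtain ⟨f, hf⟩ := exists_hom_of_degree_one (isCharacter_of_isIrr ψ.2)
    (CfsgLib.OddOrderChar.irr_degree_one_of_comm
      (fun a b : N => Subtype.ext (hcen b (a : G))) ψ)
  rw [hf] at hfaith ⊢
  replace hfaith : ∀ n : N, f n = 1 → n = 1 := fun n hn => hfaith n (by
    show (f n : ℂ) = (f 1 : ℂ)
    rw [hn, map_one])
  let over : IrrCharacter G → Prop := fun χ =>
    Cfsg.classInner (fun n : N => (χ : G → ℂ) n) (fun n : N => (f n : ℂ)) ≠ 0
  let special : G → Prop := fun g => ∀ x : G, x⁻¹ * g⁻¹ * x * g ∈ N → x * g = g * x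
  have hNc : (Nat.card N : ℂ) ≠ 0 := natCard_ne_zero
  -- one character on the coset of `g`
  have hkey : ∀ (χ : IrrCharacter G) (g : G),
      (if over χ then (χ : G → ℂ) g * conj ((χ : G → ℂ) g) else 0) =
        (Nat.card N : ℂ)⁻¹ * ∑ n : N, conj ((f n : ℂˣ) : ℂ) *
          ((χ : G → ℂ) ((n : G) * g) * conj ((χ : G → ℂ) g)) := by
    intro χ g
    have hin : Cfsg.classInner (fun n : N => (χ : G → ℂ) n) (fun n : N => (f n : ℂ)) =
        if over χ then (χ : G → ℂ) 1 else 0 := by
      split_ifs with h
      · have := restrict_eq_smul_of_invariant (isIrr_linChar f) (fun x n => by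
          show (f _ : ℂ) = (f n : ℂ)
          congr 2
          exact Subtype.ext (show x * (n : G) * x⁻¹ = n by rw [hcen n x, mul_inv_cancel_right])) χ.2 h 1
        rw [OneMemClass.coe_one, map_one, Units.val_one, mul_one] at this
        exact this.symm
      · exact not_not.1 h
    have h1 : ∀ n : N, (χ : G → ℂ) ((n : G) * g) = (χ : G → ℂ) n * (χ : G → ℂ) g / (χ : G → ℂ) 1 :=
      fun n => eq_div_of_mul_eq (irr_one_ne_zero χ.2) (irr_central_mul χ.2 (hN n.2) g)
    rw [Finset.sum_congr rfl (g := fun n : N => (χ : G → ℂ) n * conj ((f n : ℂˣ) : ℂ) *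
      ((χ : G → ℂ) g * conj ((χ : G → ℂ) g) / (χ : G → ℂ) 1)) fun n _ => by rw [h1]; ring,
      ← Finset.sum_mul, ← mul_assoc]
    rw [show (Nat.card N : ℂ)⁻¹ * ∑ n : N, (χ : G → ℂ) n * conj ((f n : ℂˣ) : ℂ) = _ from hin]
    split_ifs
    · rw [mul_div_cancel₀ _ (irr_one_ne_zero χ.2)]
    · rw [zero_mul]
  -- the commutator subgroup of the coset
  have hsum : ∀ g : G, ∑ χ : IrrCharacter G,
      (if over χ then (χ : G → ℂ) g * conj ((χ : G → ℂ) g) else 0) =
      if special g then (Nat.card (Subgroup.centralizer ({g} : Set G)) : ℂ) / Nat.card N else 0 := by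
    intro g
    rw [Finset.sum_congr rfl fun χ _ => hkey χ g, ← Finset.mul_sum, Finset.sum_comm]
    have hcol : ∀ n : N, ∑ χ : IrrCharacter G, conj ((f n : ℂˣ) : ℂ) *
        ((χ : G → ℂ) ((n : G) * g) * conj ((χ : G → ℂ) g)) =
        conj ((f n : ℂˣ) : ℂ) * if IsConj ((n : G) * g) g then
          (Nat.card (Subgroup.centralizer ({g} : Set G)) : ℂ) else 0 := by
      intro n
      rw [← Finset.mul_sum]
      congr 1
      split_ifs with h
      · have hC : Subgroup.centralizer ({(n : G) * g} : Set G) = Subgroup.centralizer ({g} : Set G) := by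
          ext x
          rw [Subgroup.mem_centralizer_singleton_iff, Subgroup.mem_centralizer_singleton_iff,
            ← mul_assoc, hcen n x, mul_assoc, mul_assoc, mul_right_inj]
        rw [sum_irr_mul_conj_of_isConj h, hC]
      · exact sum_irr_mul_conj_of_not_isConj h
    rw [Finset.sum_congr rfl fun n _ => hcol n]
    let D : Subgroup N :=
      { carrier := {n | IsConj ((n : G) * g) g}
        one_mem' := by
          show IsConj (((1 : N) : G) * g) g
          rw [OneMemClass.coe_one, one_mul]
        mul_mem' := fun {a b} ha hb => by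
          obtain ⟨x, hx⟩ := isConj_iff.1 (ha : IsConj ((a : G) * g) g)
          refine IsConj.trans ?_ (hb : IsConj ((b : G) * g) g)
          refine isConj_iff.2 ⟨x, ?_⟩
          calc x * (((a * b : N) : G) * g) * x⁻¹ = x * ((b : G) * ((a : G) * g)) * x⁻¹ := by
                rw [← mul_assoc (b : G), show ((a * b : N) : G) = (a : G) * b from rfl, hcen b (a : G)]
            _ = (b : G) * (x * ((a : G) * g) * x⁻¹) := by
                rw [← mul_assoc x, hcen b x]; group
            _ = (b : G) * g := by rw [hx]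
        inv_mem' := fun {a} ha => by
          obtain ⟨x, hx⟩ := isConj_iff.1 (ha : IsConj ((a : G) * g) g)
          refine (isConj_iff.2 ⟨x, ?_⟩ : IsConj g ((a⁻¹ : N) * g)).symm
          rw [← mul_assoc x, hcen a x, mul_assoc, mul_assoc] at hx
          rw [show ((a⁻¹ : N) : G) = (a : G)⁻¹ from rfl, eq_inv_mul_iff_mul_eq, mul_assoc, hx] }
    have hspec : special g ↔ ∀ n ∈ D, n = 1 := by
      constructor
      · intro hg n hn
        obtain ⟨x, hx⟩ := isConj_iff.1 (hn : IsConj ((n : G) * g) g)
        have e1 : x * g = (n : G)⁻¹ * g * x := by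
          rw [← mul_assoc x, hcen n x, mul_assoc, mul_assoc] at hx
          rw [← mul_inv_eq_iff_eq_mul, eq_inv_mul_iff_mul_eq, mul_assoc]
          exact hx
        have e2 : x⁻¹ * g⁻¹ * x * g = ((n⁻¹ : N) : G) := by
          rw [mul_assoc _ x g, e1, show (n : G)⁻¹ * g * x = ((n⁻¹ : N) : G) * (g * x) by
            rw [mul_assoc]; rfl, ← mul_assoc, hcen n⁻¹ (x⁻¹ * g⁻¹), mul_assoc,
            show x⁻¹ * g⁻¹ * (g * x) = 1 by group, mul_one]
        have e3 := hg x (e2 ▸ (n⁻¹).2)
        rw [e1, mul_assoc, mul_eq_right, inv_eq_one] at e3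
        exact Subtype.ext e3
      · intro h x hx
        let m : N := ⟨x⁻¹ * g⁻¹ * x * g, hx⟩
        have e1 : x * g = (m : G) * (g * x) := by
          rw [← hcen m (g * x)]
          show x * g = g * x * (x⁻¹ * g⁻¹ * x * g)
          group
        have hm : m⁻¹ ∈ D := by
          refine isConj_iff.2 ⟨x, ?_⟩
          show x * ((m : G)⁻¹ * g) * x⁻¹ = g
          rw [← mul_assoc x, show x * (m : G)⁻¹ = (m : G)⁻¹ * x from hcen m⁻¹ x, mul_assoc (m : G)⁻¹ x, e1]
          group
        have := congrArg Subtype.val (inv_eq_one.1 (h _ hm))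
        simp only [OneMemClass.coe_one] at this
        rw [e1, this, one_mul]
    have hite : ∀ n : N, IsConj ((n : G) * g) g ↔ n ∈ D := fun n => Iff.rfl
    by_cases hg : special g
    · rw [if_pos hg, Finset.sum_eq_single 1 (fun n _ hn => by
        rw [if_neg fun h : IsConj ((n : G) * g) g => hn ((hspec.1 hg) n h), mul_zero]) (by simp)]
      rw [if_pos ((hite 1).2 D.one_mem), map_one, Units.val_one, map_one, one_mul, inv_mul_eq_div]
    · rw [if_neg hg]
      rw [hspec] at hg
      push Not at hg
      obtain ⟨n₀, hn₀, hn₀'⟩ := hg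
      set S := ∑ n : N, conj ((f n : ℂˣ) : ℂ) * if IsConj ((n : G) * g) g then
        (Nat.card (Subgroup.centralizer ({g} : Set G)) : ℂ) else 0
      have hS : S = conj ((f n₀ : ℂˣ) : ℂ) * S := by
        rw [Finset.mul_sum]
        refine (Fintype.sum_equiv (Equiv.mulLeft n₀) _ _ fun n => ?_).symm
        rw [Equiv.coe_mulLeft, map_mul, Units.val_mul, map_mul, mul_assoc]
        congr 2
        exact if_congr ((hite n).trans ((Subgroup.mul_mem_cancel_left D hn₀).symm.trans (hite _).symm)) rfl rfl
      have h0 : S = 0 := by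
        by_contra hne
        have h1 : conj ((f n₀ : ℂˣ) : ℂ) = 1 := (mul_eq_right₀ hne).1 hS.symm
        exact hn₀' (hfaith n₀ (Units.ext (by simpa using congrArg conj h1)))
      rw [h0, mul_zero]
  -- count
  have hcount : (Nat.card G : ℂ) * Nat.card {χ : IrrCharacter G // over χ} =
      ∑ g : G, if special g then (Nat.card (Subgroup.centralizer ({g} : Set G)) : ℂ) / Nat.card N else 0 := by
    rw [← Finset.sum_congr rfl fun g _ => hsum g, Finset.sum_comm]
    have h1 : ∀ χ : IrrCharacter G,
        ∑ g : G, (if over χ then (χ : G → ℂ) g * conj ((χ : G → ℂ) g) else 0) =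
          if over χ then (Nat.card G : ℂ) else 0 := by
      intro χ
      split_ifs
      · have h := classInner_isIrr_self χ.2
        rw [Cfsg.classInner, inv_mul_eq_one₀ natCard_ne_zero] at h
        exact h.symm
      · exact Finset.sum_const_zero
    rw [Finset.sum_congr rfl fun χ _ => h1 χ, Finset.sum_ite, Finset.sum_const_zero, add_zero,
      Finset.sum_const, nsmul_eq_mul, Nat.card_eq_fintype_card (α := {χ // over χ}),
      Fintype.card_subtype, mul_comm]
  -- down to the quotient
  haveI := Fintype.ofFinite (G ⧸ N)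
  let P : ConjClasses (G ⧸ N) → Prop := fun C =>
    ∃ g : G, ConjClasses.mk (g : G ⧸ N) = C ∧ special g
  have hconj : ∀ g c : G, special g → special (c * g * c⁻¹) := by
    intro g c hg x hx
    have h1 : (c⁻¹ * x * c)⁻¹ * g⁻¹ * (c⁻¹ * x * c) * g ∈ N := by
      have := Subgroup.Normal.conj_mem ‹N.Normal› _ hx c⁻¹
      rw [inv_inv] at this
      convert this using 1
      group
    have h2 := hg _ h1
    calc x * (c * g * c⁻¹) = c * (c⁻¹ * x * c * g) * c⁻¹ := by group
      _ = c * (g * (c⁻¹ * x * c)) * c⁻¹ := by rw [h2]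
      _ = c * g * c⁻¹ * x := by group
  have hshift : ∀ (n : N) (g : G), special g → special ((n : G) * g) := by
    intro n g hg x hx
    have e : x⁻¹ * ((n : G) * g)⁻¹ * x * ((n : G) * g) = x⁻¹ * g⁻¹ * x * g := by
      rw [mul_inv_rev, mul_assoc x⁻¹, mul_assoc g⁻¹, show (n : G)⁻¹ * x = x * (n : G)⁻¹ from
        (hcen n⁻¹ x).symm]
      group
    have h2 := hg x (e ▸ hx)
    rw [← mul_assoc, hcen n x, mul_assoc, h2, mul_assoc]
  have hPiff : ∀ g : G, P (ConjClasses.mk (g : G ⧸ N)) ↔ special g := by
    refine fun g => ⟨?_, fun h => ⟨g, rfl, h⟩⟩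
    rintro ⟨g', hg', hs⟩
    obtain ⟨c, hc⟩ := isConj_iff.1 (ConjClasses.mk_eq_mk_iff_isConj.1 hg')
    obtain ⟨c, rfl⟩ := QuotientGroup.mk_surjective c
    have hn : g * (c * g' * c⁻¹)⁻¹ ∈ N := by
      rw [← QuotientGroup.eq_one_iff, QuotientGroup.mk_mul, QuotientGroup.mk_inv,
        QuotientGroup.mk_mul, QuotientGroup.mk_mul, QuotientGroup.mk_inv, hc, mul_inv_cancel]
    have := hshift ⟨_, hn⟩ _ (hconj g' c hs)
    rwa [inv_mul_cancel_right] at this
  have hcc : ∀ g : G, special g → Nat.card (Subgroup.centralizer ({g} : Set G)) =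
      Nat.card N * Nat.card (Subgroup.centralizer ({(g : G ⧸ N)} : Set (G ⧸ N))) := by
    intro g hg
    have hcomap : (Subgroup.centralizer ({(g : G ⧸ N)} : Set (G ⧸ N))).comap (QuotientGroup.mk' N) =
        Subgroup.centralizer ({g} : Set G) := by
      ext x
      simp only [Subgroup.mem_comap, Subgroup.mem_centralizer_singleton_iff, QuotientGroup.mk'_apply,
        ← QuotientGroup.mk_mul]
      refine ⟨fun h => hg x ?_, fun h => by rw [h]⟩
      have h' := QuotientGroup.eq.1 h.symm
      convert h' using 1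
      group
    have h1 := Subgroup.index_comap_of_surjective (Subgroup.centralizer ({(g : G ⧸ N)} : Set (G ⧸ N)))
      (QuotientGroup.mk'_surjective N)
    rw [hcomap] at h1
    have h2 := (Subgroup.centralizer ({g} : Set G)).index_mul_card
    rw [Subgroup.card_eq_card_quotient_mul_card_subgroup N,
      ← (Subgroup.centralizer ({(g : G ⧸ N)} : Set (G ⧸ N))).index_mul_card, h1, mul_assoc] at h2
    rw [Nat.eq_of_mul_eq_mul_left (Nat.pos_of_ne_zero Subgroup.index_ne_zero_of_finite) h2, mul_comm]
  have hfin : (Nat.card G : ℂ) * Nat.card {χ : IrrCharacter G // over χ} =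
      (Nat.card G : ℂ) * Nat.card {C : ConjClasses (G ⧸ N) // P C} := by
    rw [hcount]
    have e : ∀ g : G, (if special g then
        (Nat.card (Subgroup.centralizer ({g} : Set G)) : ℂ) / Nat.card N else 0) =
        if P (ConjClasses.mk (g : G ⧸ N)) then
          (Nat.card (Subgroup.centralizer ({(g : G ⧸ N)} : Set (G ⧸ N))) : ℂ) else 0 := by
      intro g
      by_cases hg : special g
      · rw [if_pos hg, if_pos ((hPiff g).2 hg), hcc g hg, Nat.cast_mul, mul_div_cancel_left₀ _ hNc]
      · rw [if_neg hg, if_neg fun h => hg ((hPiff g).1 h)]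
    rw [Finset.sum_congr rfl fun g _ => e g, ← Finset.sum_fiberwise Finset.univ (fun g : G => (g : G ⧸ N))]
    rw [Finset.sum_congr rfl (g := fun z : G ⧸ N => (Nat.card N : ℂ) * if P (ConjClasses.mk z) then
      (Nat.card (Subgroup.centralizer ({z} : Set (G ⧸ N))) : ℂ) else 0) fun z _ => ?_,
      ← Finset.mul_sum, sum_centralizer_eq P, ← mul_assoc, ← Nat.cast_mul, mul_comm (Nat.card N),
      ← Subgroup.card_eq_card_quotient_mul_card_subgroup N]
    rw [Finset.sum_congr rfl (g := fun _ => if P (ConjClasses.mk z) then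
      (Nat.card (Subgroup.centralizer ({z} : Set (G ⧸ N))) : ℂ) else 0) fun g hg => by
        simp only [(Finset.mem_filter.1 hg).2], Finset.sum_const, nsmul_eq_mul]
    congr 2
    obtain ⟨g₀, rfl⟩ := QuotientGroup.mk_surjective z
    rw [← Fintype.card_subtype, ← Nat.card_eq_fintype_card]
    refine Nat.card_congr ⟨fun g => ⟨g₀⁻¹ * g.1, QuotientGroup.eq.1 g.2.symm⟩,
      fun n => ⟨g₀ * (n : G), by simp [(QuotientGroup.eq_one_iff (n : G)).2 n.2]⟩,
      fun g => Subtype.ext (by simp), fun n => Subtype.ext (by simp)⟩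
  exact_mod_cast mul_left_cancel₀ (Nat.cast_ne_zero.2 Nat.card_pos.ne') hfin

end Cfsg.Agent.S4567
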