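import Cfsg.Statements.S4574
import Cfsg.Agent.GaloisAverage.Basic
import Cfsg.Agent.Characters.Linear
import Cfsg.Agent.BlocksCharsC.Restriction

set_option autoImplicit false
set_option linter.style.haveILetI false
open Cfsg

namespace Cfsg.Agent.S4574

open CfsgLib.Characters CfsgLib.GaloisAverage

/-- Let χ be an irreducible character of the finite group G, of degree d, and let Z(χ) be the set of elements g with |χ g| = d (the centre of χ). Then χ vanishes on at least (d ^ 2 - 1) · |Z(χ)| elements of G, with equality when every value |χ g| is 0, 1 or d. -/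
theorem result {G : Type*} [Group G] [Fintype G] [DecidableEq G] (χ : G → ℂ) (hχ : Cfsg.IsIrrCharacter G χ) : (Cfsg.charDegree χ ^ 2 - 1) * (Finset.univ.filter (fun g : G => ‖χ g‖ = (Cfsg.charDegree χ : ℝ))).card ≤ (Finset.univ.filter (fun g : G => χ g = 0)).card ∧ ((∀ g : G, ‖χ g‖ = 0 ∨ ‖χ g‖ = 1 ∨ ‖χ g‖ = (Cfsg.charDegree χ : ℝ)) → (Cfsg.charDegree χ ^ 2 - 1) * (Finset.univ.filter (fun g : G => ‖χ g‖ = (Cfsg.charDegree χ : ℝ))).card = (Finset.univ.filter (fun g : G => χ g = 0)).card) := by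
  obtain ⟨n, ρ, hρ, rfl⟩ := id hχ
  haveI := hρ
  set d := Cfsg.charDegree ρ.character with hd_def
  have hd : d = Module.finrank ℂ (Fin n → ℂ) := by simp [hd_def, Cfsg.charDegree]
  have hd0 : 0 < d := hd ▸ finrank_pos_of_isIrreducible ρ
  set Z := Finset.univ.filter (fun g : G => ‖ρ.character g‖ = (d : ℝ)) with hZ
  set O := Finset.univ.filter (fun g : G => ρ.character g = 0) with hO
  set S := Finset.univ.filter (fun g : G => ρ.character g ≠ 0 ∧ ‖ρ.character g‖ ≠ (d : ℝ)) with hS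
  have hscal : ∀ (g : G) (k : ℕ), ‖ρ.character g‖ = (d : ℝ) → ‖ρ.character (g ^ k)‖ = (d : ℝ) := by
    intro g k h
    rw [hd] at h ⊢
    obtain ⟨w, hw⟩ := (norm_char_eq_iff_scalar ρ g).1 h
    refine (norm_char_eq_iff_scalar ρ (g ^ k)).2 ⟨w ^ k, ?_⟩
    rw [map_pow, hw, smul_pow, ← Module.End.one_eq_id, one_pow]
  have hstab : ∀ g ∈ S, ∀ k ∈ totatives (Nat.card G), g ^ k ∈ S := by
    intro g hg k hk
    rw [hS, Finset.mem_filter] at hg ⊢
    have hcop := (mem_totatives.1 hk).2
    refine ⟨Finset.mem_univ _, char_pow_ne_zero (isCharacter_of_isIrr hχ) Nat.card_pos pow_card_eq_one'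
      hcop hg.2.1, fun h => hg.2.2 ?_⟩
    obtain ⟨m, hm⟩ := exists_pow_eq_self_of_coprime (x := g) (n := k)
      (hcop.coprime_dvd_right (orderOf_dvd_natCard g))
    rw [← hm]
    exact hscal _ m h
  have hsum : (∑ g ∈ Z, ‖ρ.character g‖ ^ 2) + ∑ g ∈ S, ‖ρ.character g‖ ^ 2 = (Nat.card G : ℝ) ∧
      Z.card + O.card + S.card = Nat.card G := by
    have hne : ∀ g : G, ‖ρ.character g‖ = (d : ℝ) → ρ.character g ≠ 0 := fun g h h0 => by
      rw [h0, norm_zero] at h
      exact hd0.ne (Nat.cast_eq_zero.1 h.symm).symm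
    have hdecomp : ∀ f : G → ℝ, ∑ g, f g = ∑ g ∈ Z, f g + ∑ g ∈ O, f g + ∑ g ∈ S, f g := fun f => by
      simp only [hZ, hO, hS, Finset.sum_filter, ← Finset.sum_add_distrib]
      refine Finset.sum_congr rfl fun g _ => ?_
      by_cases h : ‖ρ.character g‖ = (d : ℝ)
      · simp [h, hne g h]
      · by_cases h0 : ρ.character g = 0
        · have : (0 : ℝ) ≠ d := fun e => hd0.ne (Nat.cast_eq_zero.1 e.symm).symm
          simp [h0, this]
        · simp [h, h0]
    constructor
    · rw [← sum_normSq_irr (classInner_isIrr_self hχ), hdecomp,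
        Finset.sum_eq_zero (s := O) (fun g hg => by
          rw [(Finset.mem_filter.1 hg).2, norm_zero, zero_pow two_ne_zero]), add_zero]
    · have h := hdecomp (fun _ => 1)
      simp only [Finset.sum_const, nsmul_eq_mul, mul_one, Finset.card_univ] at h
      rw [← Nat.card_eq_fintype_card] at h
      exact_mod_cast h.symm
  have hZsum : ∑ g ∈ Z, ‖ρ.character g‖ ^ 2 = (Z.card : ℝ) * (d : ℝ) ^ 2 := by
    rw [Finset.sum_congr rfl fun g hg => by rw [(Finset.mem_filter.1 hg).2], Finset.sum_const,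
      nsmul_eq_mul]
  obtain ⟨h1, h2⟩ := hsum
  rw [hZsum] at h1
  have h2' : (Z.card : ℝ) + O.card + S.card = Nat.card G := by exact_mod_cast h2
  have hd1 : 1 ≤ d ^ 2 := Nat.one_le_pow _ _ hd0
  refine ⟨?_, fun hvals => ?_⟩
  · have h3 := card_le_sum_norm_pow_char (isCharacter_of_isIrr hχ) 2 S hstab
      (fun g hg => (Finset.mem_filter.1 hg).2.1)
    rw [← Nat.cast_le (α := ℝ), Nat.cast_mul, Nat.cast_sub hd1]
    push_cast
    nlinarith
  · have h3 : ∑ g ∈ S, ‖ρ.character g‖ ^ 2 = (S.card : ℝ) := by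
      rw [Finset.sum_congr rfl (g := fun _ => (1 : ℝ)) fun g hg => ?_, Finset.sum_const,
        nsmul_eq_mul, mul_one]
      obtain ⟨-, hg1, hg2⟩ := Finset.mem_filter.1 hg
      rcases hvals g with h | h | h
      · exact absurd (norm_eq_zero.1 h) hg1
      · rw [h, one_pow]
      · exact absurd h hg2
    rw [← Nat.cast_inj (R := ℝ), Nat.cast_mul, Nat.cast_sub hd1]
    push_cast
    nlinarith

end Cfsg.Agent.S4574
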