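import Cfsg.Statements.S4575
import Cfsg.Agent.BlocksCharsC.SubsectionMajorTwo
import Cfsg.Agent.Blocks.HeightZero

set_option autoImplicit false
set_option linter.style.haveILetI false
open Cfsg

namespace Cfsg.Agent.S4575

/-- Let B be a 2-block of the finite group G (relative to a maximal ideal M of the algebraic integers containing 2) of defect d with defect group D. Let z be an element of D commuting with every element of D, and let b be a block of the centralizer of z with defect group D that induces B (a major subsection (z, b)). If the number of irreducible characters in B exceeds the 2-regular rank of b by at most three, then B contains at most 2 ^ d irreducible characters. -/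
theorem result {G : Type*} [Group G] [Finite G] (M : Ideal Cfsg.AlgInt) (hM : Cfsg.IsPModular 2 M) (B : Set (Cfsg.IrrCharacter G)) (hB : Cfsg.IsPBlock M B) (D : Subgroup G) (hD : Cfsg.IsDefectGroup 2 M B D) (z : G) (hzD : z ∈ D) (hzc : ∀ d ∈ D, d * z = z * d) (b : Set (Cfsg.IrrCharacter ↥(Subgroup.centralizer ({z} : Set G)))) (hb : Cfsg.IsInducedBlock M (Subgroup.centralizer ({z} : Set G)) b B) (hbD : Cfsg.IsDefectGroup 2 M b (D.subgroupOf (Subgroup.centralizer ({z} : Set G)))) (h : Nat.card B ≤ Cfsg.blockRank 2 b + 3) : Nat.card B ≤ 2 ^ Cfsg.blockDefect 2 B := by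
  classical
  haveI := Fintype.ofFinite G
  haveI := CfsgLib.Blocks.IsPModular.isPrime hM
  haveI := Fintype.ofFinite (Subgroup.centralizer ({z} : Set G))
  set d := Cfsg.blockDefect 2 B with hd'
  rcases Nat.eq_zero_or_pos d with hd0 | hdpos
  · have := CfsgLib.BlockPairing.card_block_le hM hB
    rw [← hd', hd0] at this
    rw [hd0]
    simp at this ⊢
    omega
  have hDC : D ≤ Subgroup.centralizer ({z} : Set G) := fun x hx =>
    Subgroup.mem_centralizer_singleton_iff.2 (hzc x hx)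
  have hDcard := CfsgLib.Blocks.card_defectGroup hM hB hD
  have hd : Cfsg.blockDefect 2 b = d := by
    apply Nat.pow_right_injective (le_refl 2)
    show 2 ^ Cfsg.blockDefect 2 b = 2 ^ d
    rw [← CfsgLib.Blocks.card_defectGroup hM hb.1 hbD,
      Nat.card_congr (Subgroup.subgroupOfEquivOfLe hDC).toEquiv, hDcard]
  obtain ⟨k, hk⟩ : ∃ k, orderOf z = 2 ^ k := by
    obtain ⟨k, -, hk⟩ := (Nat.dvd_prime_pow Nat.prime_two).1
      (hDcard ▸ Subgroup.orderOf_dvd_natCard D hzD)
    exact ⟨k, hk⟩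
  have hζ := Complex.isPrimitiveRoot_exp (2 * 2 ^ k) (Nat.mul_pos two_pos (Nat.two_pow_pos k)).ne'
  set ζ := Complex.exp (2 * Real.pi * Complex.I / ((2 * 2 ^ k : ℕ) : ℂ))
  set a := CfsgLib.BlocksCharsC.avgContrib ζ k z b with ha
  set Z : ℤ := 2 ^ d with hZ
  have hcard : Nat.card B = B.toFinset.card := by rw [Set.toFinset_card, Nat.card_eq_fintype_card]
  -- the sum of the complementary contributions
  have hsum : ∑ χ ∈ B.toFinset, a χ = (Cfsg.blockRank 2 b : ℤ) * Z := by
    rw [Finset.sum_subset (Finset.subset_univ B.toFinset) fun χ _ hχ =>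
      CfsgLib.BlocksCharsC.avgContrib_eq_zero hM hk hζ hB hb fun h => hχ (Set.mem_toFinset.2 h)]
    rw [CfsgLib.BlocksCharsC.sum_avgContrib hM hk hζ hb.1, hd, hZ]
    push_cast
    ring
  -- the rows
  let c : Cfsg.IrrCharacter G → Cfsg.IrrCharacter G → ℂ := fun χ ψ =>
    CfsgLib.BlocksCharsC.subContrib 2 z b (χ : G → ℂ) ψ
  have hrow : ∀ χ ∈ B, ∀ S : Finset (Cfsg.IrrCharacter G), χ ∉ S → (∀ ψ ∈ S, c χ ψ ≠ 0) →
      (S.card : ℤ) + a χ ^ 2 ≤ Z * a χ := by
    intro χ hχ S hχS hS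
    have hmem := CfsgLib.BlocksCharsC.subContrib_mem_cyRing hM hk hζ (b := b) χ
    rw [hZ, ha, ← hd, ← CfsgLib.BlocksCharsC.sum_cyEps_normSq hM hk hζ hb.1 χ]
    refine le_trans ?_ (Finset.sum_le_sum_of_subset_of_nonneg (Finset.subset_univ (insert χ S))
      fun ψ _ _ => (CfsgLib.BlocksCharsC.cyEps_normSq_nonneg hζ (hmem ψ)).1)
    rw [Finset.sum_insert hχS, add_comm, Finset.card_eq_sum_ones, Nat.cast_sum]
    refine add_le_add (CfsgLib.BlocksCharsC.cyEps_normSq_nonneg hζ (hmem χ)).2.2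
      (Finset.sum_le_sum fun ψ hψ => ?_)
    push_cast
    exact (CfsgLib.BlocksCharsC.cyEps_normSq_nonneg hζ (hmem ψ)).2.1 (hS ψ hψ)
  have hne : ∀ χ ∈ B, ∀ ψ ∈ B, Cfsg.blockHeight 2 B (ψ : G → ℂ) = 0 → c χ ψ ≠ 0 :=
    fun χ hχ ψ hψ h0 => CfsgLib.BlocksCharsC.subContrib_ne_zero hM hB hb hd hk hχ hψ h0
  have hnn : ∀ χ, 0 ≤ a χ := CfsgLib.BlocksCharsC.avgContrib_nonneg hM hk hζ hb.1
  have hZeven : (2 : ℤ) ∣ Z := dvd_pow_self 2 hdpos.ne'
  obtain ⟨φ, hφ, hφ0⟩ := CfsgLib.Blocks.exists_height_zero hM hB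
  by_cases hex : ∃ χ ∈ B, Cfsg.blockHeight 2 B (χ : G → ℂ) = 0 ∧ a χ = Z - 1
  · obtain ⟨χ, hχ, h0, haχ⟩ := hex
    have h1 := hrow χ hχ (B.toFinset.erase χ) (Finset.notMem_erase _ _) fun ψ hψ => by
      intro h'
      have h2 := congrArg (starRingEnd ℂ) h'
      rw [map_zero] at h2
      simp only [c, CfsgLib.BlocksCharsC.subContrib_conj] at h2
      exact hne ψ (Set.mem_toFinset.1 (Finset.mem_of_mem_erase hψ)) χ hχ h0 h2
    rw [haχ] at h1
    have h2 : ((B.toFinset.erase χ).card : ℤ) ≤ Z - 1 := by nlinarith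
    rw [hcard, ← Finset.card_erase_add_one (Set.mem_toFinset.2 hχ)]
    zify
    rw [← hZ]
    linarith
  push Not at hex
  have hthree : ∀ χ ∈ B, (3 : ℤ) ≤ Z - a χ := by
    intro χ hχ
    have hnn' := hnn χ
    by_cases h0 : Cfsg.blockHeight 2 B (χ : G → ℂ) = 0
    · obtain ⟨t, ht⟩ := CfsgLib.BlocksCharsC.odd_avgContrib hM hk hζ hb.1 hB hb hχ h0
      rw [← ha] at ht
      obtain ⟨s, hs⟩ := hZeven
      have h1 := hrow χ hχ ∅ (Finset.notMem_empty _) fun _ h => absurd h (Finset.notMem_empty _)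
      have h2 : a χ ≤ Z := by
        rw [Finset.card_empty, Nat.cast_zero, zero_add, sq] at h1
        exact le_of_mul_le_mul_right h1 (by omega)
      have := hex χ hχ h0
      omega
    · have h4 := CfsgLib.BlocksCharsC.four_dvd_avgContrib hM hk hζ hB hb hd hχ h0
      rw [← ha] at h4
      have h4Z : (4 : ℤ) ∣ Z := by
        have := CfsgLib.Contributions.height_add_two_le hM hB hχ h0
        exact (show (4 : ℤ) = 2 ^ 2 by norm_num) ▸ pow_dvd_pow (2 : ℤ) (by omega : 2 ≤ d)
      have h1 := hrow χ hχ {φ} (by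
        rw [Finset.mem_singleton]; rintro rfl; exact h0 hφ0) fun ψ hψ => by
        rw [Finset.mem_singleton.1 hψ]; exact hne χ hχ φ hφ hφ0
      rw [Finset.card_singleton] at h1
      have h2 : a χ < Z := by
        by_contra hcon
        push Not at hcon
        push_cast at h1
        nlinarith [mul_nonneg (hnn χ) (sub_nonneg.2 hcon)]
      obtain ⟨t, ht⟩ := h4
      obtain ⟨s, hs⟩ := h4Z
      omega
  have hbound : (3 : ℤ) * B.toFinset.card ≤ 3 * Z := by
    calc (3 : ℤ) * B.toFinset.card = ∑ _χ ∈ B.toFinset, (3 : ℤ) := by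
          rw [Finset.sum_const, nsmul_eq_mul, mul_comm]
      _ ≤ ∑ χ ∈ B.toFinset, (Z - a χ) := Finset.sum_le_sum fun χ hχ => hthree χ (Set.mem_toFinset.1 hχ)
      _ ≤ 3 * Z := by
          rw [Finset.sum_sub_distrib, hsum, Finset.sum_const, nsmul_eq_mul]
          have h' : (B.toFinset.card : ℤ) ≤ Cfsg.blockRank 2 b + 3 := by rw [← hcard]; exact_mod_cast h
          have hZ0 : 0 < Z := pow_pos two_pos d
          nlinarith
  rw [hcard]
  zify
  rw [← hZ]
  linarith

end Cfsg.Agent.S4575
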