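import Cfsg.Statements.S4580
import Cfsg.Agent.BlocksCharsC.RealConstituents
import Cfsg.Agent.BlockPairing.TwoBlocks

set_option autoImplicit false
set_option linter.style.haveILetI false
open Cfsg

namespace Cfsg.Agent.S4580

open CfsgLib.Characters CfsgLib.BlocksCharsC
open scoped ComplexConjugate

/-- Let N be a normal subgroup of the finite group G, M a maximal ideal of the algebraic integers containing 2, and θ a real-valued irreducible character of N of odd degree that extends to G (some irreducible character of G restricts to θ). Then θ has an extension to G lying in the principal 2-block of G. -/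
theorem result {G : Type*} [Group G] [Finite G] (N : Subgroup G) [N.Normal] (M : Ideal Cfsg.AlgInt) (hM : Cfsg.IsPModular 2 M) (θ : Cfsg.IrrCharacter N) (hreal : ∀ n : N, ((θ : N → ℂ) n).im = 0) (hodd : Odd (Cfsg.charDegree (θ : N → ℂ))) (hext : ∃ η : Cfsg.IrrCharacter G, ∀ n : N, (η : G → ℂ) n = (θ : N → ℂ) n) :
    ∃ η : Cfsg.IrrCharacter G, (∀ n : N, (η : G → ℂ) n = (θ : N → ℂ) n) ∧ η ∈ Cfsg.principalBlock M G := by
  classical
  haveI := Fintype.ofFinite G
  haveI := Fintype.ofFinite N
  haveI : M.IsPrime := hM.2.1.isPrime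
  obtain ⟨η, hη⟩ := hext
  obtain ⟨d, σ, hσi, hσc⟩ := η.2
  haveI := hσi
  let ρ : Representation ℂ N (Fin d → ℂ) := σ.comp N.subtype
  have hρc : ρ.character = (θ : N → ℂ) := funext fun n => by
    rw [← hη n, ← hσc]; rfl
  haveI : ρ.IsIrreducible := by
    obtain ⟨k, ρ', hρ'i, hρ'c⟩ := θ.2
    obtain ⟨e⟩ := equiv_of_char_eq ρ' ρ (hρ'c.trans hρc.symm)
    exact (isIrreducible_congr e).1 hρ'i
  -- the complex conjugate extension is a twist
  have hconjres : ∀ n : N, conj ((η : G → ℂ) n) = ρ.character n := fun n => by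
    rw [hρc, hη]; exact Complex.conj_eq_iff_im.2 (hreal n)
  obtain ⟨f, τ, hf, hτ, hτc⟩ := exists_hom_of_extensions N (σ := σ) (ρ := ρ) (fun _ => rfl)
    (χ := fun g => conj ((η : G → ℂ) g)) (isCharacter_conj (isCharacter_of_isIrr η.2)) hconjres
  have hfc : ∀ g, conj ((η : G → ℂ) g) = (f g : ℂ) * (η : G → ℂ) g := fun g => by
    rw [← congrFun hτc g, ← hσc, Representation.character, hτ, map_smul, smul_eq_mul]
    rfl
  -- the odd half of the twist
  set o := Nat.card G / 2 ^ (Nat.card G).factorization 2 with ho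
  have hoodd : Odd o := Nat.odd_iff.2 (Nat.two_dvd_ne_zero.1
    (Nat.not_dvd_ordCompl Nat.prime_two Nat.card_pos.ne'))
  obtain ⟨m, hm⟩ := hoodd
  let μ : G →* ℂˣ := f ^ (m + 1)
  obtain ⟨τ', hτ'⟩ := exists_twist μ σ
  haveI : τ'.IsIrreducible := isIrreducible_of_restrict N τ' (ρ := ρ) fun n => by
    rw [hτ', show μ n = 1 by simp [μ, hf n], Units.val_one, one_smul]
    rfl
  let η' : Cfsg.IrrCharacter G := ⟨τ'.character, isIrrCharacter_character τ'⟩
  have hη' : ∀ g, (η' : G → ℂ) g = (μ g : ℂ) * (η : G → ℂ) g := fun g => by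
    show τ'.character g = _
    rw [← hσc, Representation.character, hτ', map_smul, smul_eq_mul]
    rfl
  refine ⟨η', fun n => by rw [hη', show μ n = 1 by simp [μ, hf n], Units.val_one, one_mul, hη], ?_⟩
  have hdeg : Cfsg.charDegree (η' : G → ℂ) = Cfsg.charDegree (θ : N → ℂ) := by
    have h1 := hη 1
    rw [OneMemClass.coe_one] at h1
    simp only [Cfsg.charDegree, hη', map_one, Units.val_one, one_mul, h1]
  refine CfsgLib.BlockPairing.mem_principalBlock_of_inv hM η' (hdeg ▸ hodd) fun g _ hgo => ?_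
  have hgpow : g ^ o = 1 := orderOf_dvd_iff_pow_eq_one.1
    (Nat.Coprime.dvd_of_dvd_mul_left (Nat.Coprime.pow_right _ (Nat.coprime_two_right.2 hgo))
      (by rw [ho, Nat.mul_div_cancel' (Nat.ordProj_dvd _ _)]; exact orderOf_dvd_natCard g))
  have hfo : f g ^ o = 1 := by rw [← map_pow, hgpow, map_one]
  have hval : (η' : G → ℂ) g⁻¹ = (η' : G → ℂ) g := by
    rw [character_inv (isCharacter_of_isIrr η'.2), hη', map_mul, hfc]
    have hnorm : conj ((μ g : ℂˣ) : ℂ) = ((μ g)⁻¹ : ℂˣ) := by
      have hg0 := isOfFinOrder_of_finite g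
      rw [Units.val_inv_eq_inv_val, Complex.inv_def,
        show Complex.normSq ((μ g : ℂˣ) : ℂ) = 1 by
          rw [Complex.normSq_eq_norm_sq, Complex.norm_eq_one_of_pow_eq_one (n := orderOf g)
            (by rw [← Units.val_pow_eq_pow_val, ← map_pow, pow_orderOf_eq_one, map_one,
              Units.val_one]) (orderOf_pos g).ne', one_pow]]
      simp
    rw [hnorm, ← mul_assoc, ← Units.val_mul]
    congr 2
    rw [inv_mul_eq_iff_eq_mul]
    simp only [μ, MonoidHom.pow_apply]
    rw [← pow_add, show m + 1 + (m + 1) = o + 1 by omega, pow_succ, hfo, one_mul]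
  simp only [CfsgLib.BlockPairing.redVal, hval]

end Cfsg.Agent.S4580
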