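import Cfsg.Statements.S4581
import Cfsg.Agent.BlocksCharsC.RealOddCount
import Cfsg.Agent.BlocksCharsC.DetExtension
import Cfsg.Agent.Solvable.Frattini
import Mathlib.GroupTheory.FiniteAbelian.Duality
import Mathlib.Analysis.Complex.Polynomial.Basic
import Mathlib.RingTheory.RootsOfUnity.AlgebraicallyClosed

set_option autoImplicit false
set_option linter.style.haveILetI false
open Cfsg

namespace Cfsg.Agent.S4581

open CfsgLib.Characters CfsgLib.BlocksCharsC CfsgLib.OddOrderChar
open scoped ComplexConjugate Pointwise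

universe u

/-- Every linear character of `P` takes the values `±1`. -/
def SignOnly {G : Type u} [Group G] (P : Subgroup G) : Prop :=
  ∀ (f : P →* ℂˣ) (y : P), f y ^ 2 = 1

/-- Every irreducible character of odd degree is real. -/
def AllRealOdd (G : Type u) [Group G] : Prop :=
  ∀ χ : Cfsg.IrrCharacter G, Odd (Cfsg.charDegree (χ : G → ℂ)) → ∀ g : G, ((χ : G → ℂ) g).im = 0

variable {G : Type u} [Group G] [Finite G]

theorem allRealOdd_quotient {Q : Subgroup G} [Q.Normal] (h : AllRealOdd G) : AllRealOdd (G ⧸ Q) := by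
  intro ψ hψ x
  obtain ⟨g, rfl⟩ := QuotientGroup.mk_surjective x
  exact h ⟨fun g => (ψ : G ⧸ Q → ℂ) (g : G ⧸ Q),
    isIrr_comp (QuotientGroup.mk' Q) (QuotientGroup.mk'_surjective Q) ψ.2⟩
    (by simpa only [Cfsg.charDegree, QuotientGroup.mk_one] using hψ) g

theorem signOnly_map {H : Type u} [Group H] (π : G →* H) {P : Subgroup G} (h : SignOnly P) :
    SignOnly (P.map π) := fun f y => by
  obtain ⟨z, hz, hzy⟩ := y.2
  have := h (f.comp (π.subgroupMap P)) ⟨z, hz⟩
  rw [show y = π.subgroupMap P ⟨z, hz⟩ from Subtype.ext hzy.symm]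
  exact this

theorem units_sq_eq_one_of_real {P : Type u} [Group P] [Finite P] (w : P →* ℂˣ) {y : P}
    (h : conj ((w y : ℂˣ) : ℂ) = (w y : ℂ)) : w y ^ 2 = 1 := by
  have hnorm : ‖((w y : ℂˣ) : ℂ)‖ = 1 :=
    Complex.norm_eq_one_of_pow_eq_one (n := orderOf y)
      (by rw [← Units.val_pow_eq_pow_val, ← map_pow, pow_orderOf_eq_one, map_one, Units.val_one])
      (orderOf_pos y).ne'
  apply Units.ext
  rw [Units.val_pow_eq_pow_val, Units.val_one, sq]
  conv_lhs => arg 1; rw [← h]
  rw [mul_comm, Complex.mul_conj, Complex.normSq_eq_norm_sq, hnorm]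
  simp

/-- A self-normalizing Sylow 2-subgroup with elementary abelianization forces reality. -/
theorem allRealOdd_of {G : Type u} [Group G] [Finite G] [Group.IsSolvable G] (P : Sylow 2 G)
    (hN : Subgroup.normalizer ((P : Subgroup G) : Set G) = (P : Subgroup G))
    (hS : SignOnly (P : Subgroup G)) : AllRealOdd G := by
  classical
  induction hc : Nat.card G using Nat.strong_induction_on generalizing G with
  | _ n ih =>
  haveI : Fact (Nat.Prime 2) := ⟨Nat.prime_two⟩
  haveI := Fintype.ofFinite G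
  intro χ hodd g
  rcases subsingleton_or_nontrivial G with hs | hs
  · rw [Subsingleton.elim g 1, charDegree_spec (isCharacter_of_isIrr χ.2), Complex.natCast_im]
  obtain ⟨Q, hQn, hQne, hQ⟩ := exists_normal_odd_or_elementary (G := G)
  haveI := hQn
  haveI := Fintype.ofFinite Q
  -- the quotient by a normal subgroup of `G` inherits the hypotheses
  rcases hQ with hQodd | hQ2
  · set π := QuotientGroup.mk' Q
    have hπ : Function.Surjective π := QuotientGroup.mk'_surjective Q
    haveI : Group.IsSolvable (G ⧸ Q) := Group.isSolvable_of_surjective hπ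
    have hnb : Subgroup.normalizer (((P : Subgroup G).map π : Subgroup (G ⧸ Q)) : Set (G ⧸ Q)) =
        (P : Subgroup G).map π := by
      refine le_antisymm (fun x hx => ?_) Subgroup.le_normalizer
      obtain ⟨y, rfl⟩ := hπ x
      obtain ⟨k, hk, hky⟩ := exists_normalizer_lift P π hx
      rw [hN] at hky
      refine ⟨k * y, hky, ?_⟩
      rw [map_mul, MonoidHom.mem_ker.1 hk, one_mul]
    have hIH := ih (Nat.card (G ⧸ Q)) (hc ▸ card_quotient_lt hQne) (G := G ⧸ Q)
      (P.mapSurjective hπ) (by rw [Sylow.coe_mapSurjective]; exact hnb)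
      (by rw [Sylow.coe_mapSurjective]; exact signOnly_map π hS) rfl
    have hC : Q ⊓ Subgroup.centralizer ((P : Subgroup G) : Set G) = ⊥ := by
      rw [Subgroup.eq_bot_iff_forall]
      rintro c ⟨hcQ, hcP⟩
      have hcN : c ∈ Subgroup.normalizer ((P : Subgroup G) : Set G) :=
        (Subgroup.centralizer_le_normalizer _) hcP
      rw [hN] at hcN
      obtain ⟨j, hj⟩ := P.isPGroup' ⟨c, hcN⟩
      have h1 : c ^ 2 ^ j = 1 := congrArg Subtype.val hj
      have h2 : c ^ Nat.card Q = 1 := congrArg Subtype.val (pow_card_eq_one' (x := (⟨c, hcQ⟩ : Q)))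
      have h3 := pow_gcd_eq_one.mpr ⟨h1, h2⟩
      rwa [Nat.Coprime.gcd_eq_one (Nat.Coprime.pow_left _ (Nat.coprime_two_left.2 hQodd)),
        pow_one] at h3
    have hne := classInner_one_ne_zero P.isPGroup' Q hC (isCharacter_of_isIrr χ.2)
      (Nat.two_dvd_ne_zero.2 (Nat.odd_iff.1 hodd))
    have hres := restrict_eq_smul_of_invariant (isIrr_one (G := Q)) (fun _ _ => rfl) χ.2 hne
    obtain ⟨ψ, hψ, hψe⟩ := exists_irr_quotient Q χ.2 fun q hq => by
      have e1 := hres ⟨q, hq⟩
      have e2 := hres 1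
      rw [OneMemClass.coe_one] at e2
      rw [e1, e2]
    rw [hψe]
    refine hIH ⟨ψ, hψ⟩ ?_ _
    have h1 := hψe 1
    simp only [Cfsg.charDegree, QuotientGroup.mk_one] at hodd h1 ⊢
    rwa [← h1]
  · have hQP : Q ≤ (P : Subgroup G) := le_sylow_of_sq_eq_one P hQ2
    obtain ⟨θ, m, hθ, hm, hmodd, -⟩ := exists_fixed_constituent Q P.isPGroup' χ.2 hodd
    obtain ⟨f, hf, hf2⟩ := exists_hom_of_sq_eq_one
      (fun q : Q => Subtype.ext (by simpa using hQ2 q q.2)) θ
    rw [hf] at hm
    have hfix : ∀ x ∈ (P : Subgroup G), conjBy Q (fun q => (f q : ℂ)) x = fun q => (f q : ℂ) :=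
      fun x hx => funext fun q => by
        have := hθ x hx q
        rw [hf] at this
        exact this
    obtain ⟨lam, hlam, -⟩ := exists_linear_over Q (P : Subgroup G) P.isPGroup' hQP f hf2 hfix
      (isCharacter_of_isIrr χ.2) hm hmodd
    set T : Subgroup G := conjStab Q (fun q => (f q : ℂ))
    haveI := Fintype.ofFinite T
    have hQT : Q ≤ T := le_conjStab Q (isClassFunction_of_isIrr (isIrr_linChar f))
    have hPT : (P : Subgroup G) ≤ T := fun x hx => hfix x hx
    let QT : Subgroup T := Q.subgroupOf T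
    haveI : QT.Normal := inferInstance
    let PT : Sylow 2 T := P.subtype hPT
    have hidx : Odd (PT : Subgroup T).index :=
      Nat.odd_iff.2 (Nat.two_dvd_ne_zero.1 PT.not_dvd_index)
    obtain ⟨ν, hν, hν2'⟩ := exists_sign_extension QT (PT : Subgroup T) (fun x hx => hQP hx) hidx
      (f.comp (Subgroup.subgroupOfEquivOfLe hQT).toMonoidHom) (fun q => hf2 _)
      (fun t => funext fun q => congrFun (show conjBy Q _ (t : G) = _ from t.2) ⟨((q : T) : G), q.2⟩)
      (lam.comp { toFun := fun y => ⟨((y : T) : G), y.2⟩, map_one' := rfl, map_mul' := fun _ _ => rfl })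
      (fun q => hlam ⟨((q : T) : G), q.2⟩)
    have hν2 : ∀ t, ν t ^ 2 = 1 := hν2' fun y => hS lam _
    have hνq : ∀ q : Q, ν ⟨q, hQT q.2⟩ = f q := fun q => hν ⟨⟨q, hQT q.2⟩, q.2⟩
    have hνsq : ∀ t, ((ν t : ℂˣ) : ℂ) * (ν t : ℂ) = 1 := fun t => by
      rw [← Units.val_mul, ← sq, hν2, Units.val_one]
    have hνc : ∀ t, conj ((ν t : ℂˣ) : ℂ) = (ν t : ℂ) := fun t => by
      rcases mul_self_eq_one_iff.1 (hνsq t) with h | h <;> rw [h] <;> simp
    obtain ⟨ψ, hψ, hψov, hind⟩ := exists_over Q f T (fun _ => Iff.rfl) hQT χ.2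
      (by rw [hm, Nat.cast_ne_zero]; exact hmodd.pos.ne')
    have htw : Cfsg.IsIrrCharacter T (fun t => (ν t : ℂ) * ψ t) := by
      refine isIrr_of_classInner_self (isCharacter_mul (isCharacter_of_isIrr (isIrr_linChar ν))
        (isCharacter_of_isIrr hψ)) ?_
      rw [← classInner_isIrr_self hψ]
      simp only [Cfsg.classInner, map_mul, hνc]
      congr 1
      refine Finset.sum_congr rfl fun t _ => ?_
      linear_combination (ψ t * conj (ψ t)) * hνsq t
    set π := QuotientGroup.mk' QT
    have hπ : Function.Surjective π := QuotientGroup.mk'_surjective QT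
    haveI : Group.IsSolvable (T ⧸ QT) := Group.isSolvable_of_surjective hπ
    have hQTne : QT ≠ ⊥ := fun h => hQne ((Subgroup.eq_bot_iff_forall Q).2 fun q hq => by
      have : (⟨q, hQT hq⟩ : T) ∈ (⊥ : Subgroup T) := h ▸ hq
      exact congrArg Subtype.val (Subgroup.mem_bot.1 this))
    have hnb : Subgroup.normalizer (((PT : Subgroup T).map π : Subgroup (T ⧸ QT)) : Set (T ⧸ QT)) =
        (PT : Subgroup T).map π := by
      refine le_antisymm (fun x hx => ?_) Subgroup.le_normalizer
      obtain ⟨y, rfl⟩ := hπ x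
      obtain ⟨k, hk, hky⟩ := exists_normalizer_lift PT π hx
      refine ⟨k * y, ?_, by rw [map_mul, MonoidHom.mem_ker.1 hk, one_mul]⟩
      show ((k * y : T) : G) ∈ (P : Subgroup G)
      rw [← hN, Subgroup.mem_normalizer_iff]
      intro z
      refine ⟨fun hz => (Subgroup.mem_normalizer_iff.1 hky ⟨z, hPT hz⟩).1 hz, fun hz => ?_⟩
      have hzT : z ∈ T := by
        have := T.mul_mem (T.mul_mem (T.inv_mem (k * y).2) (hPT hz)) (k * y).2
        simpa [mul_assoc] using this
      exact (Subgroup.mem_normalizer_iff.1 hky ⟨z, hzT⟩).2 hz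
    have hST : SignOnly (PT : Subgroup T) := fun w y => by
      have := hS (w.comp { toFun := fun z => ⟨⟨(z : G), hPT z.2⟩, z.2⟩, map_one' := rfl,
                           map_mul' := fun _ _ => rfl }) ⟨((y : T) : G), y.2⟩
      exact this
    have hIH := ih (Nat.card (T ⧸ QT))
      (hc ▸ (card_quotient_lt hQTne).trans_le (Subgroup.card_le_card_group T)) (G := T ⧸ QT)
      (PT.mapSurjective hπ) (by rw [Sylow.coe_mapSurjective]; exact hnb)
      (by rw [Sylow.coe_mapSurjective]; exact signOnly_map π hST) rfl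
    obtain ⟨η, hη, hηe⟩ := exists_irr_quotient QT htw fun t ht => by
      show (ν t : ℂ) * ψ t = (ν 1 : ℂ) * ψ 1
      have h1 := hψov ⟨(t : G), ht⟩
      rw [← hνq] at h1
      rw [h1, map_one, Units.val_one, one_mul, mul_left_comm, hνsq, mul_one]
    have hψodd : Odd (Cfsg.charDegree ψ) := by
      have h := hodd
      rw [← hind, charDegree_indFun T (isCharacter_of_isIrr hψ)] at h
      exact (Nat.odd_mul.1 h).2
    have hηodd : Odd (Cfsg.charDegree η) := by
      have h1 := hηe 1
      simp only [map_one, Units.val_one, one_mul, QuotientGroup.mk_one] at h1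
      simp only [Cfsg.charDegree] at hψodd ⊢
      rwa [← h1]
    have hψreal : ∀ t, conj (ψ t) = ψ t := fun t => by
      have h1 : conj ((ν t : ℂ) * ψ t) = (ν t : ℂ) * ψ t := by
        rw [hηe]; exact Complex.conj_eq_iff_im.2 (hIH ⟨η, hη⟩ hηodd _)
      rw [map_mul, hνc] at h1
      exact mul_left_cancel₀ (ν t).ne_zero h1
    rw [← hind]
    refine Complex.conj_eq_iff_im.1 ?_
    rw [indFun_conj]
    simp only [hψreal]

/-- Reality of all odd-degree characters forces a self-normalizing Sylow 2-subgroup with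
elementary abelianization. -/
theorem of_allRealOdd {G : Type u} [Group G] [Finite G] [Group.IsSolvable G] (P : Sylow 2 G)
    (hR : AllRealOdd G) :
    Subgroup.normalizer ((P : Subgroup G) : Set G) = (P : Subgroup G) ∧
      SignOnly (P : Subgroup G) := by
  classical
  induction hc : Nat.card G using Nat.strong_induction_on generalizing G with
  | _ n ih =>
  haveI : Fact (Nat.Prime 2) := ⟨Nat.prime_two⟩
  haveI := Fintype.ofFinite G
  rcases subsingleton_or_nontrivial G with hs | hs
  · refine ⟨le_antisymm (fun x _ => ?_) Subgroup.le_normalizer, fun f y => ?_⟩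
    · rw [Subsingleton.elim x 1]; exact one_mem _
    · rw [show y = 1 from Subtype.ext (Subsingleton.elim _ _), map_one, one_pow]
  obtain ⟨Q, hQn, hQne, hQ⟩ := exists_normal_odd_or_elementary (G := G)
  haveI := hQn
  haveI := Fintype.ofFinite Q
  set π := QuotientGroup.mk' Q with hπdef
  have hπ : Function.Surjective π := QuotientGroup.mk'_surjective Q
  haveI : Group.IsSolvable (G ⧸ Q) := Group.isSolvable_of_surjective hπ
  obtain ⟨hIN, hIS⟩ := ih (Nat.card (G ⧸ Q)) (hc ▸ card_quotient_lt hQne) (G := G ⧸ Q)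
    (P.mapSurjective hπ) (allRealOdd_quotient hR) rfl
  rw [Sylow.coe_mapSurjective] at hIN hIS
  have hNPQ : ∀ x ∈ Subgroup.normalizer ((P : Subgroup G) : Set G),
      ∃ y ∈ (P : Subgroup G), ∃ k ∈ Q, x = y * k := by
    intro x hx
    have h1 : π x ∈ (P : Subgroup G).map π := by
      rw [← hIN]; exact Subgroup.le_normalizer_map π ⟨x, hx, rfl⟩
    obtain ⟨y, hy, hyx⟩ := h1
    exact ⟨y, hy, y⁻¹ * x, QuotientGroup.eq.1 hyx, by group⟩
  rcases hQ with hQodd | hQ2
  · have hPQ : ∀ z, z ∈ (P : Subgroup G) → z ∈ Q → z = 1 := by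
      intro z hzP hzQ
      obtain ⟨j, hj⟩ := P.isPGroup' ⟨z, hzP⟩
      have h1 : z ^ 2 ^ j = 1 := congrArg Subtype.val hj
      have h2 : z ^ Nat.card Q = 1 := congrArg Subtype.val (pow_card_eq_one' (x := (⟨z, hzQ⟩ : Q)))
      have h3 := pow_gcd_eq_one.mpr ⟨h1, h2⟩
      rwa [Nat.Coprime.gcd_eq_one (Nat.Coprime.pow_left _ (Nat.coprime_two_left.2 hQodd)),
        pow_one] at h3
    constructor
    · refine le_antisymm (fun x hx => ?_) Subgroup.le_normalizer
      obtain ⟨y, hy, k, hk, rfl⟩ := hNPQ x hx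
      have hkN : k ∈ Subgroup.normalizer ((P : Subgroup G) : Set G) := by
        have := mul_mem (inv_mem ((P : Subgroup G).le_normalizer hy)) hx
        rwa [inv_mul_cancel_left] at this
      have hkC : k ∈ Subgroup.centralizer ((P : Subgroup G) : Set G) := by
        rw [Subgroup.mem_centralizer_iff]
        intro z hz
        have h1 : k * z * k⁻¹ * z⁻¹ = 1 := by
          refine hPQ _ (mul_mem ((Subgroup.mem_normalizer_iff.1 hkN z).1 hz) (inv_mem hz)) ?_
          rw [show k * z * k⁻¹ * z⁻¹ = k * (z * k⁻¹ * z⁻¹) by group]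
          exact mul_mem hk (hQn.conj_mem _ (inv_mem hk) z)
        rw [mul_inv_eq_one, mul_inv_eq_iff_eq_mul] at h1
        exact h1.symm
      suffices k = 1 by rw [this, mul_one]; exact hy
      by_contra hk1
      obtain ⟨θ, hθne, hθfix⟩ := exists_invariant_irr_ne_one P.isPGroup' Q hk hkC hk1
      -- extend to `Q P`
      let H : Subgroup G := Q ⊔ (P : Subgroup G)
      haveI := Fintype.ofFinite H
      let Q' : Subgroup H := Q.subgroupOf H
      haveI : Q'.Normal := inferInstance
      haveI := Fintype.ofFinite Q'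
      let e : Q' ≃* Q := Subgroup.subgroupOfEquivOfLe le_sup_left
      have hdecomp : ∀ g : H, ∃ a ∈ Q, ∃ z ∈ (P : Subgroup G), (g : G) = a * z := by
        intro g
        have hg : (g : G) ∈ ((Q : Set G) * ((P : Subgroup G) : Set G) : Set G) := by
          rw [← Subgroup.normal_mul]; exact g.2
        obtain ⟨a, ha, z, hz, haz⟩ := hg
        exact ⟨a, ha, z, hz, haz.symm⟩
      have hinv : ∀ g : H, conjBy Q' (fun q => (θ : Q → ℂ) (e q)) g = fun q => (θ : Q → ℂ) (e q) := by
        intro g
        funext q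
        obtain ⟨a, ha, z, hz, hgz⟩ := hdecomp g
        show (θ : Q → ℂ) _ = (θ : Q → ℂ) (e q)
        rw [← hθfix z hz (e q),
          ← isClassFunction_of_isIrr θ.2 ⟨z * (e q : G) * z⁻¹, hQn.conj_mem _ (e q).2 z⟩ ⟨a, ha⟩]
        refine congrArg (θ : Q → ℂ) (Subtype.ext ?_)
        show (g : G) * ((q : H) : G) * (g : G)⁻¹ = a * (z * ((q : H) : G) * z⁻¹) * a⁻¹
        rw [hgz]; group
      have hq : IsPGroup 2 (H ⧸ Q') := by
        intro x
        obtain ⟨g, rfl⟩ := QuotientGroup.mk_surjective x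
        obtain ⟨a, ha, z, hz, hgz⟩ := hdecomp g
        obtain ⟨j, hj⟩ := P.isPGroup' ⟨z, hz⟩
        refine ⟨j, ?_⟩
        have e1 : (g : H ⧸ Q') = ((⟨z, Subgroup.mem_sup_right hz⟩ : H) : H ⧸ Q') := by
          rw [QuotientGroup.eq, Subgroup.mem_subgroupOf]
          show (g : G)⁻¹ * z ∈ Q
          rw [hgz]
          simpa [mul_assoc] using hQn.conj_mem _ (Q.inv_mem ha) z⁻¹
        rw [e1, ← QuotientGroup.mk_pow, QuotientGroup.eq_one_iff, Subgroup.mem_subgroupOf]
        show z ^ 2 ^ j ∈ Q
        rw [show z ^ 2 ^ j = 1 from congrArg Subtype.val hj]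
        exact one_mem _
      have hθdeg : Odd (Cfsg.charDegree (θ : Q → ℂ)) := by
        obtain ⟨d, ρ, hρ, hρc⟩ := θ.2
        haveI := hρ
        refine hQodd.of_dvd_nat ?_
        rw [← hρc, show Cfsg.charDegree ρ.character = Module.finrank ℂ (Fin d → ℂ) by
          simp [Cfsg.charDegree]]
        exact finrank_dvd_card ρ
      haveI : Finite (Abelianization Q) := inferInstanceAs (Finite (Q ⧸ _))
      have ho : Nat.Coprime (Nat.card (Abelianization Q)) 2 :=
        Nat.coprime_two_right.2 (hQodd.of_dvd_nat (Subgroup.card_quotient_dvd_card _))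
      obtain ⟨φ, hφ, -, hφres, -⟩ := exists_canonical (p := 2) ho Q' hq
        (isIrrCharacter_comp_mulEquiv θ.2 e)
        ((detExp_of_hom hom_pow_card_abelianization (isCharacter_of_isIrr θ.2)).comp e.toMonoidHom)
        hinv (by
          rw [show Cfsg.charDegree (fun q => (θ : Q → ℂ) (e q)) = Cfsg.charDegree (θ : Q → ℂ) by
            simp only [Cfsg.charDegree, map_one]]
          exact Nat.two_dvd_ne_zero.2 (Nat.odd_iff.1 hθdeg))
      have hidx : ¬ 2 ∣ H.index := fun h =>
        P.not_dvd_index (h.trans (Subgroup.index_dvd_of_le le_sup_right))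
      have hφ1 : φ 1 = (θ : Q → ℂ) 1 := by
        have := hφres 1
        rwa [OneMemClass.coe_one, map_one] at this
      obtain ⟨χ, hχd, hχne⟩ := exists_constituent_not_dvd (p := 2) H hidx (isCharacter_of_isIrr hφ)
        (by
          have : Cfsg.charDegree φ = Cfsg.charDegree (θ : Q → ℂ) := by
            simp only [Cfsg.charDegree, hφ1]
          rw [this]
          exact Nat.two_dvd_ne_zero.2 (Nat.odd_iff.1 hθdeg))
      have hχodd : Odd (Cfsg.charDegree (χ : G → ℂ)) :=
        Nat.odd_iff.2 (Nat.two_dvd_ne_zero.1 hχd)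
      have hθconst : ∀ q : Q, (θ : Q → ℂ) q = (θ : Q → ℂ) 1 := by
        intro q
        have h1 := realOdd_trivial_on_odd Q hQodd (hR χ hχodd) hχodd q.2
        have h2 := constituent_eq_degree (isCharacter_restrict H (isCharacter_of_isIrr χ.2)) hφ hχne
          (g := (⟨q, Subgroup.mem_sup_left q.2⟩ : H)) h1
        rw [hφ1] at h2
        exact (hφres ⟨⟨q, Subgroup.mem_sup_left q.2⟩, q.2⟩).symm.trans h2
      apply hθne
      by_contra hne
      have h0 := classInner_isIrr_ne θ.2 (isIrr_one (G := Q)) hne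
      simp only [Cfsg.classInner, map_one, mul_one, hθconst, Finset.sum_const, Finset.card_univ,
        ← Nat.card_eq_fintype_card, nsmul_eq_mul, inv_mul_cancel_left₀ natCard_ne_zero] at h0
      exact irr_one_ne_zero θ.2 h0
    · intro f y
      -- `P` maps isomorphically onto its image
      let r : (P : Subgroup G) →* ((P : Subgroup G).map π : Subgroup (G ⧸ Q)) := π.subgroupMap P
      have hr : Function.Bijective r := ⟨fun a b hab => by
        have h : π (a : G) = π (b : G) := congrArg Subtype.val hab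
        have : (a : G)⁻¹ * b = 1 :=
          hPQ _ (mul_mem (inv_mem a.2) b.2) (QuotientGroup.eq.1 h)
        exact Subtype.ext (inv_mul_eq_one.1 this), π.subgroupMap_surjective P⟩
      have := hIS (f.comp (MulEquiv.ofBijective r hr).symm.toMonoidHom) (MulEquiv.ofBijective r hr y)
      rwa [MonoidHom.comp_apply, MulEquiv.coe_toMonoidHom, MulEquiv.symm_apply_apply] at this
  · have hQP : Q ≤ (P : Subgroup G) := le_sylow_of_sq_eq_one P hQ2
    refine ⟨le_antisymm (fun x hx => ?_) Subgroup.le_normalizer, fun lam y => ?_⟩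
    · obtain ⟨y, hy, k, hk, rfl⟩ := hNPQ x hx
      exact mul_mem hy (hQP hk)
    let f : Q →* ℂˣ := lam.comp (Subgroup.inclusion hQP)
    have hf2 : ∀ q, f q ^ 2 = 1 := fun q => by
      rw [← map_pow, show q ^ 2 = 1 from Subtype.ext (by simpa using hQ2 q q.2), map_one]
    set T : Subgroup G := conjStab Q (fun q => (f q : ℂ))
    haveI := Fintype.ofFinite T
    have hQT : Q ≤ T := le_conjStab Q (isClassFunction_of_isIrr (isIrr_linChar f))
    have hPT : (P : Subgroup G) ≤ T := by
      intro z hz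
      funext q
      show (lam _ : ℂ) = (lam _ : ℂ)
      congr 1
      have e : (⟨z * (q : G) * z⁻¹, hQP (hQn.conj_mem _ q.2 z)⟩ : (P : Subgroup G)) =
          ⟨z, hz⟩ * ⟨(q : G), hQP q.2⟩ * ⟨z, hz⟩⁻¹ := rfl
      change lam ⟨z * (q : G) * z⁻¹, _⟩ = lam ⟨(q : G), _⟩
      rw [e, map_mul, map_mul, map_inv, mul_comm (lam ⟨z, hz⟩), mul_inv_cancel_right]
    let QT : Subgroup T := Q.subgroupOf T
    haveI : QT.Normal := inferInstance
    let PT : Sylow 2 T := P.subtype hPT
    have hidx : Odd (PT : Subgroup T).index :=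
      Nat.odd_iff.2 (Nat.two_dvd_ne_zero.1 PT.not_dvd_index)
    obtain ⟨ν, hν, -⟩ := exists_sign_extension QT (PT : Subgroup T) (fun x hx => hQP hx) hidx
      (f.comp (Subgroup.subgroupOfEquivOfLe hQT).toMonoidHom) (fun q => hf2 _)
      (fun t => funext fun q => congrFun (show conjBy Q _ (t : G) = _ from t.2) ⟨((q : T) : G), q.2⟩)
      (lam.comp { toFun := fun y => ⟨((y : T) : G), y.2⟩, map_one' := rfl, map_mul' := fun _ _ => rfl })
      (fun q => rfl)
    have hνq : ∀ q : Q, ν ⟨q, hQT q.2⟩ = f q := fun q => hν ⟨⟨q, hQT q.2⟩, q.2⟩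
    have hfc : ∀ q, conj ((f q : ℂˣ) : ℂ) = (f q : ℂ) := fun q => by
      have h := congrArg Units.val (hf2 q)
      rw [Units.val_pow_eq_pow_val, Units.val_one, sq_eq_one_iff] at h
      rcases h with h | h <;> simp [h]
    have hov : IsOver Q f T hQT (fun t => (ν t : ℂ)) := fun q => by
      show (ν _ : ℂ) = (ν 1 : ℂ) * _
      rw [hνq, map_one, Units.val_one, one_mul]
    obtain ⟨hirr, -, huniq⟩ := indFun_over Q f T (fun _ => Iff.rfl) hQT (isIrr_linChar ν) hov
    have hreal := hR ⟨_, hirr⟩ (by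
      show Odd (Cfsg.charDegree (Cfsg.indFun T _))
      rw [charDegree_indFun T (isCharacter_of_isIrr (isIrr_linChar ν)),
        show Cfsg.charDegree (fun t => (ν t : ℂ)) = 1 by simp [Cfsg.charDegree], mul_one]
      exact odd_index_of_sylow_le T P hPT)
    have hνreal : ∀ t, conj ((ν t : ℂˣ) : ℂ) = (ν t : ℂ) := by
      refine congrFun (huniq _ (isIrr_conj (isIrr_linChar ν)) (fun q => ?_) ?_)
      · show conj ((ν _ : ℂˣ) : ℂ) = conj ((ν 1 : ℂˣ) : ℂ) * _
        rw [hνq, hfc, map_one, Units.val_one, map_one, one_mul]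
      · funext g
        rw [← indFun_conj]
        exact Complex.conj_eq_iff_im.2 (hreal g)
    let νP : (P : Subgroup G) →* ℂˣ := ν.comp (Subgroup.inclusion hPT)
    let w : (P : Subgroup G) →* ℂˣ := lam * νP⁻¹
    let r : (P : Subgroup G) →* ((P : Subgroup G).map π : Subgroup (G ⧸ Q)) := π.subgroupMap P
    have hker : r.ker ≤ w.ker := by
      intro z hz
      have hzQ : (z : G) ∈ Q :=
        (QuotientGroup.eq_one_iff _).1 (congrArg Subtype.val (MonoidHom.mem_ker.1 hz))
      rw [MonoidHom.mem_ker]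
      show lam z * (ν ⟨(z : G), hPT z.2⟩)⁻¹ = 1
      rw [hνq ⟨z, hzQ⟩]
      exact mul_inv_cancel _
    have hw := hIS (MonoidHom.liftOfSurjective r (π.subgroupMap_surjective P) ⟨w, hker⟩) (r y)
    rw [MonoidHom.liftOfRightInverse_comp_apply] at hw
    change (lam y * (νP y)⁻¹) ^ 2 = 1 at hw
    rwa [mul_pow, inv_pow, show νP y ^ 2 = 1 from units_sq_eq_one_of_real ν (hνreal _), inv_one,
      mul_one] at hw

theorem signOnly_iff {P : Type u} [Group P] [Finite P] (hP : IsPGroup 2 P) :
    (∀ (f : P →* ℂˣ) (y : P), f y ^ 2 = 1) ↔ commutator P = frattini P := by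
  haveI : Fact (Nat.Prime 2) := ⟨Nat.prime_two⟩
  constructor
  · intro h
    refine le_antisymm (CfsgLib.Solvable.commutator_le_frattini hP)
      (CfsgLib.Solvable.frattini_le_of_elementary (p := 2) le_rfl fun y => ?_)
    haveI : Finite (Abelianization P) := inferInstanceAs (Finite (P ⧸ _))
    by_contra hne
    have hne' : (Abelianization.of : P →* Abelianization P) (y ^ 2) ≠ 1 := fun h' => hne (by
      rw [← Abelianization.ker_of]; exact MonoidHom.mem_ker.2 h')
    obtain ⟨φ, hφ⟩ := CommGroup.exists_apply_ne_one_of_hasEnoughRootsOfUnity (Abelianization P) ℂ hne'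
    refine hφ ?_
    rw [map_pow, map_pow]
    exact h (φ.comp Abelianization.of) y
  · intro h f y
    rw [← map_pow]
    exact Abelianization.commutator_subset_ker f (h ▸ CfsgLib.Solvable.pow_mem_frattini hP y)

/-- Let G be a finite solvable group, P a Sylow 2-subgroup and N its normalizer. Then G and N have the same number of real-valued irreducible characters of odd degree; and every odd-degree irreducible character of G is real-valued exactly when the derived subgroup of P equals the Frattini subgroup of P and P is its own normalizer in G. -/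
theorem result {G : Type*} [Group G] [Finite G] [Group.IsSolvable G] (P : Sylow 2 G) :
    Nat.card {χ : Cfsg.IrrCharacter G // (∀ g : G, ((χ : G → ℂ) g).im = 0) ∧ Odd (Cfsg.charDegree (χ : G → ℂ))} =
      Nat.card {ψ : Cfsg.IrrCharacter (Subgroup.normalizer ((P : Subgroup G) : Set G)) // (∀ g, ((ψ : Subgroup.normalizer ((P : Subgroup G) : Set G) → ℂ) g).im = 0) ∧ Odd (Cfsg.charDegree (ψ : Subgroup.normalizer ((P : Subgroup G) : Set G) → ℂ))} ∧
    ((∀ χ : Cfsg.IrrCharacter G, Odd (Cfsg.charDegree (χ : G → ℂ)) → ∀ g : G, ((χ : G → ℂ) g).im = 0) ↔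
      (commutator (P : Subgroup G) = frattini (P : Subgroup G) ∧ Subgroup.normalizer ((P : Subgroup G) : Set G) = (P : Subgroup G))) := by
  refine ⟨card_realOdd_normalizer P, fun h => ?_, fun h => ?_⟩
  · obtain ⟨hN, hS⟩ := of_allRealOdd P h
    exact ⟨(signOnly_iff P.isPGroup').1 hS, hN⟩
  · exact allRealOdd_of P h.2 ((signOnly_iff P.isPGroup').2 h.1)

end Cfsg.Agent.S4581
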