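import Cfsg.Statements.S4582
import Cfsg.Agent.BlocksCharsC.RealConstituents
import Cfsg.Agent.Transfer.Residual
import Cfsg.Agent.Characters.Linear
import Mathlib.GroupTheory.FiniteAbelian.Duality
import Mathlib.Analysis.Complex.Polynomial.Basic
import Mathlib.RingTheory.RootsOfUnity.AlgebraicallyClosed

set_option autoImplicit false
open Cfsg

namespace Cfsg.Agent.S4582

open CfsgLib.Characters CfsgLib.BlocksCharsC
open scoped commutatorElement ComplexConjugate Pointwise

universe u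

theorem hom_sq_eq_one_of_mem_commutator {P : Type u} [Group P] {A : Type*} [CommGroup A]
    (f : P →* A) {D : P} (h : D ∈ commutator P) : f D = 1 :=
  Abelianization.commutator_subset_ker f h

/-- Let N be a normal subgroup of the finite group G, P a Sylow 2-subgroup of G and Q = P ∩ N. Suppose that P/QP' and Q/Q' are elementary abelian (every square of an element of P lies in the subgroup generated by Q and the derived subgroup of P, and every square of an element of Q lies in the derived subgroup of Q), and that the commutator factor group N/N' has odd order. Then P/P' is elementary abelian. -/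
theorem result {G : Type*} [Group G] [Finite G] (N : Subgroup G) [N.Normal] (P : Sylow 2 G)
    (hP : ∀ x ∈ (P : Subgroup G), x ^ 2 ∈ ((P : Subgroup G) ⊓ N) ⊔ ⁅(P : Subgroup G), (P : Subgroup G)⁆)
    (hQ : ∀ x ∈ (P : Subgroup G) ⊓ N, x ^ 2 ∈ ⁅(P : Subgroup G) ⊓ N, (P : Subgroup G) ⊓ N⁆)
    (hodd : Odd (Nat.card (Abelianization N))) :
    ∀ x ∈ (P : Subgroup G), x ^ 2 ∈ ⁅(P : Subgroup G), (P : Subgroup G)⁆ := by
  classical
  haveI : Fact (Nat.Prime 2) := ⟨Nat.prime_two⟩
  haveI := Fintype.ofFinite G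
  intro x hx
  set Pg : Subgroup G := (P : Subgroup G) with hPg
  have hD : ∀ y : Pg, (y : G) ∈ ⁅Pg, Pg⁆ ↔ y ∈ commutator Pg := fun y => by
    rw [← Subgroup.map_subtype_commutator]; exact Subgroup.mem_map_iff_mem Pg.subtype_injective
  by_contra hcon
  haveI : Finite (Abelianization Pg) := inferInstanceAs (Finite (Pg ⧸ _))
  have hsep : ∃ lam : Pg →* ℂˣ, lam (⟨x, hx⟩ ^ 2) ≠ 1 := by
    have hne : (Abelianization.of : Pg →* Abelianization Pg) (⟨x, hx⟩ ^ 2) ≠ 1 := fun h =>
      hcon ((hD (⟨x, hx⟩ ^ 2)).2 (by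
        rw [← Abelianization.ker_of]; exact MonoidHom.mem_ker.2 h))
    obtain ⟨φ, hφ⟩ := CommGroup.exists_apply_ne_one_of_hasEnoughRootsOfUnity (Abelianization Pg) ℂ hne
    exact ⟨φ.comp Abelianization.of, hφ⟩
  obtain ⟨lam, hlam⟩ := hsep
  -- the linear character of `Q`
  let Q : Subgroup G := Pg ⊓ N
  let Q' : Subgroup N := Pg.subgroupOf N
  haveI := Fintype.ofFinite N
  haveI := Fintype.ofFinite Q'
  let μ : Q' →* ℂˣ := lam.comp
    { toFun := fun q => (⟨((q : N) : G), q.2⟩ : Pg), map_one' := rfl, map_mul' := fun _ _ => rfl }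
  have hμ2 : ∀ q : Q', μ q ^ 2 = 1 := fun q => by
    have h := hQ ((q : N) : G) ⟨q.2, (q : N).2⟩
    have h' : (((⟨((q : N) : G), q.2⟩ : Pg) ^ 2 : Pg) : G) ∈ ⁅Pg, Pg⁆ :=
      Subgroup.commutator_mono inf_le_left inf_le_left h
    rw [← map_pow]
    exact hom_sq_eq_one_of_mem_commutator lam ((hD _).1 h')
  have hμc : ∀ q : Q', conj ((μ q : ℂˣ) : ℂ) = ((μ q : ℂˣ) : ℂ) := fun q => by
    have h := congrArg Units.val (hμ2 q)
    rw [Units.val_pow_eq_pow_val, Units.val_one, sq_eq_one_iff] at h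
    rcases h with h | h <;> simp [h]
  let μc : Q' → ℂ := fun q => ((μ q : ℂˣ) : ℂ)
  have hμirr : Cfsg.IsIrrCharacter Q' μc := isIrr_linChar μ
  -- multiplicities
  choose m hm using fun θ : Cfsg.IrrCharacter N =>
    classInner_character_irr (isCharacter_restrict Q' (isCharacter_of_isIrr θ.2)) hμirr
  let f : Cfsg.IrrCharacter N → ℕ := fun θ => Cfsg.charDegree (θ : N → ℂ) * m θ
  have hidx : ¬ 2 ∣ Q'.index := by
    show ¬ 2 ∣ Pg.relIndex N
    exact CfsgLib.Transfer.not_dvd_relIndex_of_normal P N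
  have hsum : ∑ θ : Cfsg.IrrCharacter N, f θ = Q'.index := by
    have key := sum_degree_mul_restrict Q' μc
    simp only [show μc 1 = 1 by simp [μc], map_one, mul_one] at key
    rw [← Nat.cast_inj (R := ℂ), ← key]
    push_cast [f]
    exact Finset.sum_congr rfl fun θ _ => by
      rw [← charDegree_spec (isCharacter_of_isIrr θ.2), ← hm θ]
  have hdeg : ∀ θ : Cfsg.IrrCharacter N, Cfsg.charDegree (conjIrr θ : N → ℂ) = Cfsg.charDegree (θ : N → ℂ) := by
    intro θ; simp [Cfsg.charDegree, conjIrr]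
  have hfconj : ∀ θ, f (conjIrr θ) = f θ := fun θ => by
    simp only [f, hdeg]
    congr 1
    rw [← Nat.cast_inj (R := ℂ), ← hm, ← hm]
    have e := classInner_conj_conj (fun q : Q' => (θ : N → ℂ) q) μc
    rw [show (fun q : Q' => conj (μc q)) = μc from funext hμc] at e
    rw [show (fun q : Q' => (conjIrr θ : N → ℂ) q) = fun q : Q' => conj ((θ : N → ℂ) q) from rfl, e,
      hm, Complex.conj_natCast]
  -- real ones
  let R := {θ : Cfsg.IrrCharacter N // conjIrr θ = θ}
  have hRsum : Odd (∑ θ : R, f θ.1) := by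
    apply ZMod.natCast_eq_one_iff_odd.1
    have h1 : (∑ θ : Cfsg.IrrCharacter N, (f θ : ZMod 2)) =
        ∑ θ : R, (f θ.1 : ZMod 2) := by
      rw [← Finset.sum_filter_add_sum_filter_not Finset.univ (fun θ : Cfsg.IrrCharacter N => conjIrr θ = θ),
        Finset.sum_subtype (Finset.univ.filter fun θ : Cfsg.IrrCharacter N => conjIrr θ = θ)
          (p := fun θ => conjIrr θ = θ) (by simp), add_eq_left]
      refine Finset.sum_involution (fun θ _ => conjIrr θ) ?_ ?_ ?_ ?_
      · intro θ _; rw [hfconj, CharTwo.add_self_eq_zero]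
      · intro θ hθ _; exact (Finset.mem_filter.1 hθ).2
      · intro θ hθ
        rw [Finset.mem_filter] at hθ ⊢
        exact ⟨Finset.mem_univ _, fun h => hθ.2 (by rw [conjIrr_conjIrr] at h; exact h.symm)⟩
      · intro θ _; exact conjIrr_conjIrr θ
    push_cast
    rw [← h1, ← Nat.cast_sum, hsum]
    exact ZMod.natCast_eq_one_iff_odd.2 (Nat.odd_iff.2 (Nat.two_dvd_ne_zero.1 hidx))
  -- a fixed one
  letI : MulAction G (Cfsg.IrrCharacter N) := irrConjAction N
  letI : MulAction Pg R :=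
    { smul := fun g θ => ⟨(g : G) • θ.1, Subtype.ext (funext fun n => real_of_conjIrr_eq θ.2 _)⟩
      one_smul := fun θ => Subtype.ext (one_smul G θ.1)
      mul_smul := fun a b θ => Subtype.ext (mul_smul (a : G) (b : G) θ.1) }
  have hμfix : ∀ (g : Pg) (q : Q') (q₁ : Q'),
      ((q₁ : N) : G) = (g : G)⁻¹ * ((q : N) : G) * g → μc q₁ = μc q := by
    intro g q q₁ h
    show ((lam _ : ℂˣ) : ℂ) = ((lam _ : ℂˣ) : ℂ)
    congr 1
    have e : (⟨((q₁ : N) : G), q₁.2⟩ : Pg) = g⁻¹ * ⟨((q : N) : G), q.2⟩ * g := Subtype.ext h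
    change lam ⟨((q₁ : N) : G), q₁.2⟩ = lam ⟨((q : N) : G), q.2⟩
    rw [e, map_mul, map_mul, map_inv, mul_comm, mul_inv_cancel_left]
  have hfP : ∀ (g : Pg) (θ : R), f (g • θ).1 = f θ.1 := by
    intro g θ
    simp only [f]
    have h1 : Cfsg.charDegree ((g • θ).1 : N → ℂ) = Cfsg.charDegree (θ.1 : N → ℂ) := by
      show ⌊(((θ.1 : N → ℂ) _)).re⌋₊ = ⌊(((θ.1 : N → ℂ) _)).re⌋₊
      rw [show (⟨(g : G)⁻¹ * ((1 : N) : G) * g, _⟩ : N) = 1 from Subtype.ext (by simp)]
    rw [h1]
    congr 1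
    rw [← Nat.cast_inj (R := ℂ), ← hm, ← hm]
    simp only [Cfsg.classInner]
    congr 1
    let τ : Q' → Q' := fun q => ⟨⟨(g : G)⁻¹ * ((q : N) : G) * g,
      by simpa using Subgroup.Normal.conj_mem ‹N.Normal› _ (q : N).2 (g : G)⁻¹⟩,
      Pg.mul_mem (Pg.mul_mem (Pg.inv_mem g.2) q.2) g.2⟩
    have hτ : Function.Bijective τ := Finite.injective_iff_bijective.1 fun a b h => by
      have := congrArg (fun q : Q' => ((q : N) : G)) h
      exact Subtype.ext (Subtype.ext (mul_left_cancel (mul_right_cancel this)))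
    refine Fintype.sum_bijective τ hτ _ _ fun q => ?_
    rw [hμfix g q (τ q) rfl]
    rfl
  obtain ⟨θ, hθfix, hθodd⟩ : ∃ θ : R, (∀ g : Pg, g • θ = θ) ∧ Odd (f θ.1) := by
    by_contra hnone
    push Not at hnone
    have h := dvd_sum_sub_sum_fixed (R := ℤ) P.isPGroup' (fun θ : R => (f θ.1 : ℤ))
      (fun g θ => by rw [hfP])
    have h2 : (2 : ℤ) ∣ ∑ θ ∈ Finset.univ.filter (fun θ : R => θ ∈ MulAction.fixedPoints Pg R),
        (f θ.1 : ℤ) := Finset.dvd_sum fun θ hθ => by
      have := hnone θ (Finset.mem_filter.1 hθ).2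
      rw [Nat.not_odd_iff_even, even_iff_two_dvd] at this
      exact_mod_cast this
    have h3 := dvd_add h h2
    rw [sub_add_cancel] at h3
    rw [Nat.odd_iff] at hRsum
    have : 2 ∣ ∑ θ : R, f θ.1 := by exact_mod_cast h3
    omega
  -- invariance in `H = N P`
  let H : Subgroup G := N ⊔ Pg
  haveI := Fintype.ofFinite H
  let N' : Subgroup H := N.subgroupOf H
  haveI := Fintype.ofFinite N'
  let e : N' ≃* N := Subgroup.subgroupOfEquivOfLe le_sup_left
  let θ' : N' → ℂ := fun n => (θ.1 : N → ℂ) (e n)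
  have hθ'irr : Cfsg.IsIrrCharacter N' θ' := isIrrCharacter_comp_mulEquiv θ.1.2 e
  have hinvG : ∀ g ∈ H, ∀ n : N,
      (θ.1 : N → ℂ) ⟨g * n * g⁻¹, Subgroup.Normal.conj_mem ‹N.Normal› _ n.2 g⟩ = (θ.1 : N → ℂ) n := by
    intro g hg n
    have hg' : g ∈ ((N : Set G) * (Pg : Set G) : Set G) := by
      rw [← Subgroup.normal_mul]; exact hg
    obtain ⟨a, ha, y, hy, rfl⟩ := hg'
    let n' : N := ⟨y * n * y⁻¹, Subgroup.Normal.conj_mem ‹N.Normal› _ n.2 y⟩
    have h1 : (θ.1 : N → ℂ) n' = (θ.1 : N → ℂ) n := by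
      have := congrFun (congrArg (fun z : R => (z.1 : N → ℂ)) (hθfix ⟨y⁻¹, Pg.inv_mem hy⟩)) n
      refine Eq.trans ?_ this
      refine congrArg (θ.1 : N → ℂ) (Subtype.ext ?_)
      exact (show y * (n : G) * y⁻¹ = y⁻¹⁻¹ * (n : G) * y⁻¹ by rw [inv_inv])
    rw [← h1, ← isClassFunction_of_isIrr θ.1.2 n' ⟨a, ha⟩]
    refine congrArg (θ.1 : N → ℂ) (Subtype.ext ?_)
    exact (show (a * y) * (n : G) * (a * y)⁻¹ = a * (y * n * y⁻¹) * a⁻¹ by group)
  have hinv : ∀ g : H, CfsgLib.OddOrderChar.conjBy N' θ' g = θ' := fun g =>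
    funext fun n => hinvG (g : G) g.2 (e n)
  set o := Nat.card (Abelianization N) with ho
  have hdetN : DetExp o (θ.1 : N → ℂ) :=
    detExp_of_hom hom_pow_card_abelianization (isCharacter_of_isIrr θ.1.2)
  have hdegodd : Odd (Cfsg.charDegree (θ.1 : N → ℂ)) := (Nat.odd_mul.1 hθodd).1
  have hq : IsPGroup 2 (H ⧸ N') := by
    intro q
    obtain ⟨g, rfl⟩ := QuotientGroup.mk_surjective q
    have hg' : (g : G) ∈ ((N : Set G) * (Pg : Set G) : Set G) := by
      rw [← Subgroup.normal_mul]; exact g.2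
    obtain ⟨a, ha, y, hy, hay⟩ := hg'
    obtain ⟨k, hk⟩ := P.isPGroup' ⟨y, hy⟩
    refine ⟨k, ?_⟩
    have e1 : (g : H ⧸ N') = ((⟨y, Subgroup.mem_sup_right hy⟩ : H) : H ⧸ N') := by
      rw [QuotientGroup.eq, Subgroup.mem_subgroupOf]
      show (g : G)⁻¹ * y ∈ N
      rw [← hay]
      simpa [mul_assoc] using Subgroup.Normal.conj_mem ‹N.Normal› _ (N.inv_mem ha) y⁻¹
    rw [e1, ← QuotientGroup.mk_pow, QuotientGroup.eq_one_iff, Subgroup.mem_subgroupOf]
    show y ^ 2 ^ k ∈ N
    rw [show y ^ 2 ^ k = 1 from congrArg Subtype.val hk]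
    exact one_mem _
  obtain ⟨η, hηirr, hηdet, hηres, hηuniq⟩ := exists_canonical (p := 2) (o := o)
    (Nat.coprime_two_right.2 hodd) N' hq hθ'irr (hdetN.comp e.toMonoidHom) hinv (by
      rw [show Cfsg.charDegree θ' = Cfsg.charDegree (θ.1 : N → ℂ) by
        simp only [θ', Cfsg.charDegree, map_one]]
      exact Nat.two_dvd_ne_zero.2 (Nat.odd_iff.1 hdegodd))
  have hηreal : (fun g => conj (η g)) = η := hηuniq _ hηdet.conj fun n => by
    simp only [hηres]; exact real_of_conjIrr_eq θ.2 _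
  -- constituents on `P`
  let P' : Subgroup H := Pg.subgroupOf H
  haveI := Fintype.ofFinite P'
  let ι : Q' → P' := fun q => ⟨⟨((q : N) : G), Subgroup.mem_sup_left (q : N).2⟩, q.2⟩
  choose a ha using fun ν : Cfsg.IrrCharacter P' =>
    classInner_character_irr (isCharacter_restrict P' (isCharacter_of_isIrr hηirr)) ν.2
  let ιh : Q' →* P' := { toFun := ι, map_one' := rfl, map_mul' := fun _ _ => rfl }
  choose b hb using fun ν : Cfsg.IrrCharacter P' =>
    classInner_character_irr (isCharacter_comp ιh (isCharacter_of_isIrr ν.2)) hμirr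
  have hmθ : Odd (m θ.1) := (Nat.odd_mul.1 hθodd).2
  have hab : ∑ ν : Cfsg.IrrCharacter P', a ν * b ν = m θ.1 := by
    rw [← Nat.cast_inj (R := ℂ), ← hm]
    have hexp := character_expansion (isCharacter_restrict P' (isCharacter_of_isIrr hηirr))
    have : (fun q : Q' => (θ.1 : N → ℂ) q) = ∑ ν : Cfsg.IrrCharacter P',
        (a ν : ℂ) • fun q : Q' => (ν : P' → ℂ) (ι q) := by
      funext q
      have := congrFun hexp (ι q)
      simp only [Finset.sum_apply, Pi.smul_apply] at this ⊢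
      simp only [ha] at this
      rw [← this]
      exact ((hηres (e.symm (q : N))).trans
        (congrArg (θ.1 : N → ℂ) (e.apply_symm_apply (q : N)))).symm
    rw [this, classInner_sum_left]
    push_cast
    exact Finset.sum_congr rfl fun ν _ => by rw [classInner_smul_left, ← hb]; rfl
  obtain ⟨ν, hνreal, hνodd⟩ := exists_fixed_odd_of_involution (fun ν : Cfsg.IrrCharacter P' => conjIrr ν)
    conjIrr_conjIrr (fun ν => a ν * b ν) (fun ν => by
      have h1 : a (conjIrr ν) = a ν := by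
        rw [← Nat.cast_inj (R := ℂ), ← ha, ← ha]
        have e' := classInner_conj_conj (fun y : P' => η y) (ν : P' → ℂ)
        rw [show (fun y : P' => conj (η y)) = fun y : P' => η y from
          funext fun y => congrFun hηreal y] at e'
        rw [show (conjIrr ν : P' → ℂ) = fun y => conj ((ν : P' → ℂ) y) from rfl]
        refine e'.trans ?_
        rw [show Cfsg.classInner (fun y : P' => η y) (ν : P' → ℂ) = (a ν : ℂ) from ha ν]
        exact Complex.conj_natCast _
      have h2 : b (conjIrr ν) = b ν := by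
        rw [← Nat.cast_inj (R := ℂ), ← hb, ← hb]
        have e' := classInner_conj_conj (fun q : Q' => (ν : P' → ℂ) (ιh q)) μc
        rw [show (fun q : Q' => conj (μc q)) = μc from funext hμc] at e'
        refine Eq.trans ?_ (e'.trans ?_)
        · rfl
        · rw [show Cfsg.classInner (fun q : Q' => (ν : P' → ℂ) (ιh q)) μc = (b ν : ℂ) from hb ν,
            Complex.conj_natCast]
      rw [h1, h2]) (hab ▸ hmθ)
  obtain ⟨hνa, hνb⟩ := Nat.odd_mul.1 hνodd
  -- the restriction of `ν` is a multiple of `μ`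
  let Q'' : Subgroup P' := N'.subgroupOf P'
  haveI : Q''.Normal := inferInstance
  haveI := Fintype.ofFinite Q''
  let eQ : Q'' ≃* Q' :=
    { toFun := fun y => ⟨⟨(((y : P') : H) : G), y.2⟩, (y : P').2⟩
      invFun := fun q => ⟨ι q, (q : N).2⟩
      left_inv := fun _ => rfl
      right_inv := fun _ => rfl
      map_mul' := fun _ _ => rfl }
  have hμ'' : Cfsg.IsIrrCharacter Q'' (fun y => μc (eQ y)) := isIrrCharacter_comp_mulEquiv hμirr eQ
  have hne : Cfsg.classInner (fun y : Q'' => (ν : P' → ℂ) y) (fun y => μc (eQ y)) ≠ 0 := by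
    have : Cfsg.classInner (fun y : Q'' => (ν : P' → ℂ) y) (fun y => μc (eQ y)) = (b ν : ℂ) := by
      rw [← hb]
      simp only [Cfsg.classInner]
      rw [Nat.card_congr eQ.toEquiv]
      congr 1
      exact Fintype.sum_equiv eQ.toEquiv _ _ fun y => rfl
    rw [this, Nat.cast_ne_zero]
    exact fun h => by rw [h] at hνb; exact absurd hνb (by decide)
  have hinvQ : ∀ (g : P') (n : Q''), (fun y => μc (eQ y))
      ⟨g * n * g⁻¹, Subgroup.Normal.conj_mem inferInstance _ n.2 g⟩ = μc (eQ n) := fun g n =>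
    hμfix (⟨((g : H) : G), g.2⟩ : Pg)⁻¹ (eQ n) (eQ ⟨g * n * g⁻¹, _⟩)
      (show ((g : H) : G) * (((n : P') : H) : G) * ((g : H) : G)⁻¹ =
        (((g : H) : G)⁻¹)⁻¹ * (((n : P') : H) : G) * ((g : H) : G)⁻¹ by rw [inv_inv])
  have hνres := restrict_eq_smul_of_invariant hμ'' hinvQ ν.2 hne
  -- `ν` is linear
  have hν1 : Cfsg.charDegree (ν : P' → ℂ) = 1 := by
    obtain ⟨n, ρ, hρ, hνρ⟩ := ν.2
    haveI := hρ
    have hd : Cfsg.charDegree (ν : P' → ℂ) = b ν := by
      have h1 := hνres 1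
      have hb' : Cfsg.classInner (fun y : Q'' => (ν : P' → ℂ) y) (fun y => μc (eQ y)) = (b ν : ℂ) := by
        rw [← hb]
        simp only [Cfsg.classInner]
        rw [Nat.card_congr eQ.toEquiv]
        congr 1
        exact Fintype.sum_equiv eQ.toEquiv _ _ fun y => rfl
      rw [hb', OneMemClass.coe_one, charDegree_spec (isCharacter_of_isIrr ν.2)] at h1
      simp only [map_one, μc, Units.val_one, mul_one, Nat.cast_inj] at h1
      exact h1
    have hdvd : Cfsg.charDegree (ν : P' → ℂ) ∣ Nat.card P' := by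
      rw [← hνρ, show Cfsg.charDegree ρ.character = Module.finrank ℂ (Fin n → ℂ) by simp [Cfsg.charDegree]]
      exact finrank_dvd_card ρ
    obtain ⟨k, hk⟩ := IsPGroup.iff_card.1 (P.isPGroup'.comap_subtype (K := H))
    rw [show Nat.card P' = 2 ^ k from hk, Nat.dvd_prime_pow Nat.prime_two] at hdvd
    obtain ⟨i, -, hi⟩ := hdvd
    rcases Nat.eq_zero_or_pos i with rfl | hi0
    · simpa using hi
    · rw [hd] at hi
      rw [hi, Nat.odd_pow_iff hi0.ne'] at hνb
      exact absurd hνb (by decide)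
  obtain ⟨w, hw⟩ := exists_hom_of_degree_one (isCharacter_of_isIrr ν.2)
    (by rw [charDegree_spec (isCharacter_of_isIrr ν.2), hν1, Nat.cast_one])
  have hbν : b ν = 1 := by
    have h1 := hνres 1
    have hb' : Cfsg.classInner (fun y : Q'' => (ν : P' → ℂ) y) (fun y => μc (eQ y)) = (b ν : ℂ) := by
      rw [← hb]
      simp only [Cfsg.classInner]
      rw [Nat.card_congr eQ.toEquiv]
      congr 1
      exact Fintype.sum_equiv eQ.toEquiv _ _ fun y => rfl
    rw [hb', OneMemClass.coe_one, charDegree_spec (isCharacter_of_isIrr ν.2), hν1] at h1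
    simp only [map_one, μc, Units.val_one, mul_one, Nat.cast_inj] at h1
    exact h1.symm
  have hwsq : ∀ y : P', w y ^ 2 = 1 := fun y => by
    have h1 : conj ((w y : ℂˣ) : ℂ) = ((w y : ℂˣ) : ℂ) := by
      have := real_of_conjIrr_eq hνreal y
      rwa [hw] at this
    have hy := isOfFinOrder_of_finite y
    have hnorm : ‖((w y : ℂˣ) : ℂ)‖ = 1 :=
      Complex.norm_eq_one_of_pow_eq_one (n := orderOf y)
        (by rw [← Units.val_pow_eq_pow_val, ← map_pow, pow_orderOf_eq_one, map_one, Units.val_one])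
        (orderOf_pos y).ne'
    apply Units.ext
    rw [Units.val_pow_eq_pow_val, Units.val_one, sq]
    conv_lhs => arg 1; rw [← h1]
    rw [mul_comm, Complex.mul_conj, Complex.normSq_eq_norm_sq, hnorm]
    simp
  -- `lam / w` kills `Q` and `P'`
  let j : Pg →* P' :=
    { toFun := fun y => ⟨⟨(y : G), Subgroup.mem_sup_right y.2⟩, y.2⟩, map_one' := rfl, map_mul' := fun _ _ => rfl }
  let r : Pg →* ℂˣ := lam * (w.comp j)⁻¹
  have hker : ∀ z ∈ (Pg ⊓ N) ⊔ ⁅Pg, Pg⁆, ∀ hz : z ∈ Pg, r ⟨z, hz⟩ = 1 := by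
    have hle : (Pg ⊓ N) ⊔ ⁅Pg, Pg⁆ ≤ r.ker.map Pg.subtype := by
      refine sup_le ?_ ?_
      · rintro z ⟨hz1, hz2⟩
        refine ⟨⟨z, hz1⟩, MonoidHom.mem_ker.2 ?_, rfl⟩
        have h := hνres ⟨j ⟨z, hz1⟩, hz2⟩
        have hb' : Cfsg.classInner (fun y : Q'' => (ν : P' → ℂ) y) (fun y => μc (eQ y)) = (b ν : ℂ) := by
          rw [← hb]
          simp only [Cfsg.classInner]
          rw [Nat.card_congr eQ.toEquiv]
          congr 1
          exact Fintype.sum_equiv eQ.toEquiv _ _ fun y => rfl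
        rw [hb', hbν, Nat.cast_one, one_mul] at h
        have hwz : w (j ⟨z, hz1⟩) = lam ⟨z, hz1⟩ := Units.ext (by
          rw [hw] at h
          exact h)
        simp [r, hwz]
      · rw [← Subgroup.map_subtype_commutator]
        exact Subgroup.map_mono (Abelianization.commutator_subset_ker r)
    intro z hz hzP
    obtain ⟨y, hy, hyz⟩ := hle hz
    rw [show (⟨z, hzP⟩ : Pg) = y from Subtype.ext hyz.symm]
    exact hy
  have hfin := hker _ (hP x hx) (Pg.pow_mem hx 2)
  refine hlam ?_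
  have : (⟨x ^ 2, Pg.pow_mem hx 2⟩ : Pg) = ⟨x, hx⟩ ^ 2 := rfl
  rw [this] at hfin
  simp only [r, MonoidHom.mul_apply, MonoidHom.inv_apply, MonoidHom.comp_apply, map_pow j,
    map_pow w, hwsq, inv_one, mul_one] at hfin
  exact hfin

end Cfsg.Agent.S4582
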