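import Cfsg.Statements.S4584
import Cfsg.Agent.BlocksCharsC.IndexPSubgroup

set_option autoImplicit false
open Cfsg

namespace Cfsg.Agent.S4584

/-- Let p be a prime and P a group of order p^4. Then the derived subgroup P' has order p if and only if the centre Z(P) has index p^2 in P. -/
theorem result {P : Type*} [Group P] [Finite P] (p : ℕ) [Fact p.Prime] (hP : Nat.card P = p ^ 4) :
    Nat.card (commutator P) = p ↔ (Subgroup.center P).index = p ^ 2 := by
  classical
  have hp : p.Prime := Fact.out
  obtain ⟨A, hAn, hAi, hab⟩ :=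
    CfsgLib.BlocksCharsC.IndexP.exists_abelian_normal_index_prime_of_card_pow_four p hP
  have hC := (commutator P).card_mul_index
  have hZ := (Subgroup.center P).card_mul_index
  by_cases hc : ∀ a b : P, a * b = b * a
  · have h1 : commutator P = ⊥ := (commutator_eq_bot_iff _).2 ⟨⟨hc⟩⟩
    have h2 : Subgroup.center P = ⊤ :=
      eq_top_iff.2 fun a _ => Subgroup.mem_center_iff.2 fun g => hc g a
    rw [h1, h2, Subgroup.card_bot, Subgroup.index_top]
    exact iff_of_false (fun h => hp.ne_one h.symm) (fun h => (Nat.one_lt_pow two_ne_zero hp.one_lt).ne h)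
  · have h := CfsgLib.BlocksCharsC.IndexP.index_commutator_of_abelian p A hAi hab hc
    rw [h, hP] at hC
    rw [hP] at hZ
    have hpos : 0 < p * Nat.card (Subgroup.center P) := Nat.mul_pos hp.pos Nat.card_pos
    constructor
    · intro h1
      rw [h1] at hC
      have hc2 : Nat.card (Subgroup.center P) = p ^ 2 :=
        Nat.eq_of_mul_eq_mul_left (Nat.mul_pos hp.pos hp.pos) (by linarith [hC])
      rw [hc2] at hZ
      exact Nat.eq_of_mul_eq_mul_left (pow_pos hp.pos 2) (by linarith [hZ])
    · intro h1
      rw [h1] at hZ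
      have hc2 : Nat.card (Subgroup.center P) = p ^ 2 :=
        Nat.eq_of_mul_eq_mul_right (pow_pos hp.pos 2) (by linarith [hZ])
      rw [hc2] at hC hpos
      exact Nat.eq_of_mul_eq_mul_right hpos (by linarith [hC])

end Cfsg.Agent.S4584
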