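import Cfsg.Statements.S4585
import Cfsg.Agent.BlocksCharsC.IndexPSubgroup

set_option autoImplicit false
open Cfsg

namespace Cfsg.Agent.S4585

theorem inf_center_ne_bot {P : Type*} [Group P] [Finite P] (p : ℕ) [Fact p.Prime] (hP : IsPGroup p P)
    (K : Subgroup P) [K.Normal] [Nontrivial K] : K ⊓ Subgroup.center P ≠ ⊥ := by
  have hP' : IsPGroup p (ConjAct P) := hP
  have h1 : (1 : K) ∈ MulAction.fixedPoints (ConjAct P) K := fun g => smul_one g
  have hdvd : p ∣ Nat.card K := (hP.to_subgroup K).card_eq_or_dvd.resolve_left
    (Finite.one_lt_card_iff_nontrivial.2 inferInstance).ne'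
  obtain ⟨b, hb, hb1⟩ := hP'.exists_fixed_point_of_prime_dvd_card_of_fixed_point K hdvd h1
  intro hbot
  have hmem : (b : P) ∈ K ⊓ Subgroup.center P := ⟨b.2, Subgroup.mem_center_iff.2 fun g => by
    have h := congrArg Subtype.val (hb (ConjAct.toConjAct g))
    rw [ConjAct.Subgroup.val_conj_smul, ConjAct.toConjAct_smul] at h
    exact mul_inv_eq_iff_eq_mul.1 h⟩
  rw [hbot, Subgroup.mem_bot] at hmem
  exact hb1 (Subtype.ext hmem.symm)

/-- Let p be a prime and P a group of order p^4. Then P' has index p^2 in P if and only if P has maximal nilpotency class, that is, nilpotency class exactly 3. -/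
theorem result {P : Type*} [Group P] [Finite P] (p : ℕ) [Fact p.Prime] (hP : Nat.card P = p ^ 4) :
    (commutator P).index = p ^ 2 ↔ Group.nilpotencyClass P = 3 := by
  classical
  have hp : p.Prime := Fact.out
  haveI : Group.IsNilpotent P := (IsPGroup.of_card hP).isNilpotent
  obtain ⟨A, hAn, hAi, hab⟩ :=
    CfsgLib.BlocksCharsC.IndexP.exists_abelian_normal_index_prime_of_card_pow_four p hP
  have hC := (commutator P).card_mul_index
  rw [hP] at hC
  by_cases hc : ∀ a b : P, a * b = b * a
  · have h1 : commutator P = ⊥ := (commutator_eq_bot_iff _).2 ⟨⟨hc⟩⟩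
    rw [h1, Subgroup.card_bot, one_mul] at hC
    have hle : Group.nilpotencyClass P ≤ 1 :=
      Group.IsNilpotent.nilpotencyClass_le_one_iff.2 ⟨⟨hc⟩⟩
    refine iff_of_false ?_ (by omega)
    rw [h1, hC]
    intro h
    exact absurd (Nat.pow_right_injective hp.two_le h) (by norm_num)
  have h := CfsgLib.BlocksCharsC.IndexP.index_commutator_of_abelian p A hAi hab hc
  have hlcs2 : ∀ n, (⊤ : Subgroup P).lowerCentralSeries n = ⊥ ↔ Group.nilpotencyClass P ≤ n :=
    fun n => Subgroup.lowerCentralSeries_eq_bot_iff_nilpotencyClass_le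
  constructor
  · intro h2
    rw [h2] at hC h
    have hZ : Nat.card (Subgroup.center P) = p :=
      (Nat.eq_of_mul_eq_mul_left hp.pos (by linarith [h])).symm
    have hD : Nat.card (commutator P) = p ^ 2 :=
      Nat.eq_of_mul_eq_mul_right (pow_pos hp.pos 2) (by linarith [hC])
    have h2' : ¬ Group.nilpotencyClass P ≤ 2 := by
      intro hle
      have hb := (hlcs2 2).2 hle
      rw [Subgroup.lowerCentralSeries_succ, Subgroup.top_lowerCentralSeries_one,
        Subgroup.commutator_eq_bot_iff_le_centralizer, Subgroup.coe_top,
        Subgroup.centralizer_univ] at hb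
      have := Subgroup.card_le_of_le hb
      rw [hD, hZ] at this
      nlinarith [hp.two_le]
    have h3 : Group.nilpotencyClass P ≤ 3 := by
      rw [← hlcs2 3, Subgroup.lowerCentralSeries_succ,
        Subgroup.commutator_eq_bot_iff_le_centralizer, Subgroup.coe_top, Subgroup.centralizer_univ]
      set K := (⊤ : Subgroup P).lowerCentralSeries 2 with hK
      have hlt : K < commutator P := by
        refine lt_of_le_of_ne ?_ ?_
        · rw [hK, ← Subgroup.top_lowerCentralSeries_one]
          exact Subgroup.lowerCentralSeries_antitone _ (by norm_num)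
        · intro he
          have hcst : ∀ n, 1 ≤ n → (⊤ : Subgroup P).lowerCentralSeries n = commutator P := by
            intro n hn
            induction n with
            | zero => omega
            | succ n ih =>
              rcases Nat.eq_zero_or_pos n with rfl | hn'
              · exact Subgroup.top_lowerCentralSeries_one
              · rw [Subgroup.lowerCentralSeries_succ, ih hn', ← Subgroup.top_lowerCentralSeries_one]
                exact he.trans Subgroup.top_lowerCentralSeries_one.symm
          have hb : (⊤ : Subgroup P).lowerCentralSeries (Group.nilpotencyClass P + 1) = ⊥ :=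
            (hlcs2 _).2 (Nat.le_succ _)
          rw [hcst _ (Nat.le_add_left _ _)] at hb
          rw [hb, Subgroup.card_bot] at hD
          exact (Nat.one_lt_pow two_ne_zero hp.one_lt).ne hD
      obtain ⟨i, hi2, hi⟩ := (Nat.dvd_prime_pow hp).1 (hD ▸ Subgroup.card_dvd_of_le hlt.le)
      rcases Nat.lt_or_ge i 1 with h0 | h1
      · obtain rfl : i = 0 := by omega
        exact le_of_eq_of_le (Subgroup.card_eq_one.1 (by simpa using hi)) bot_le
      obtain rfl : i = 1 := by
        rcases Nat.lt_or_ge i 2 with h' | h'
        · omega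
        · exfalso
          refine hlt.ne (Subgroup.eq_of_le_of_card_ge hlt.le ?_)
          rw [hD, hi]
          exact Nat.pow_le_pow_right hp.pos h'
      haveI : Nontrivial K := Finite.one_lt_card_iff_nontrivial.1 (by rw [hi, pow_one]; exact hp.one_lt)
      haveI hKn : K.Normal := inferInstance
      have hex : K ⊓ Subgroup.center P ≠ ⊥ :=
        Cfsg.Agent.S4585.inf_center_ne_bot p (IsPGroup.of_card hP) K
      have hdvd := Subgroup.card_dvd_of_le (inf_le_left : K ⊓ Subgroup.center P ≤ K)
      rw [hi, pow_one] at hdvd
      rcases (Nat.dvd_prime hp).1 hdvd with h' | h'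
      · exact absurd (Subgroup.card_eq_one.1 h') hex
      · have := Subgroup.eq_of_le_of_card_ge (inf_le_left : K ⊓ Subgroup.center P ≤ K) (by rw [hi, h', pow_one])
        exact inf_eq_left.1 this
    omega
  · intro h3
    obtain ⟨a, ha0, ha⟩ := IsPGroup.card_center_eq_prime_pow hP (by norm_num)
    rcases Nat.lt_or_ge a 2 with ha2 | ha2
    · obtain rfl : a = 1 := by omega
      rw [h, ha, pow_one, pow_two]
    · exfalso
      rw [h, ha] at hC
      have hdvd : Nat.card (commutator P) * (p * p ^ 2) ∣ p * (p * p ^ 2) :=
        (Nat.mul_dvd_mul_left _ (Nat.mul_dvd_mul_left _ (Nat.pow_dvd_pow p ha2))).trans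
          (dvd_of_eq (hC.trans (by ring)))
      have hd : Nat.card (commutator P) ∣ p :=
        (Nat.mul_dvd_mul_iff_right (Nat.mul_pos hp.pos (pow_pos hp.pos 2))).1 hdvd
      rcases (Nat.dvd_prime hp).1 hd with h' | h'
      · exact hc ((commutator_eq_bot_iff _).1 (Subgroup.card_eq_one.1 h')).1.1
      · haveI : Nontrivial (commutator P) := Finite.one_lt_card_iff_nontrivial.1 (by rw [h']; exact hp.one_lt)
        have hex := Cfsg.Agent.S4585.inf_center_ne_bot p (IsPGroup.of_card hP) (commutator P)
        have hdvd := Subgroup.card_dvd_of_le (inf_le_left : commutator P ⊓ Subgroup.center P ≤ commutator P)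
        rw [h'] at hdvd
        rcases (Nat.dvd_prime hp).1 hdvd with h'' | h''
        · exact hex (Subgroup.card_eq_one.1 h'')
        · have hle : commutator P ≤ Subgroup.center P :=
            inf_eq_left.1 (Subgroup.eq_of_le_of_card_ge inf_le_left (by rw [h', h'']))
          have : Group.nilpotencyClass P ≤ 2 := by
            rw [← hlcs2 2, Subgroup.lowerCentralSeries_succ, Subgroup.top_lowerCentralSeries_one,
              Subgroup.commutator_eq_bot_iff_le_centralizer, Subgroup.coe_top, Subgroup.centralizer_univ]
            exact hle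
          omega

end Cfsg.Agent.S4585
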