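import Cfsg.Statements.S4587
import Cfsg.Agent.BlocksCharsC.MinimalNormalIndex

set_option autoImplicit false
open Cfsg

namespace Cfsg.Agent.S4587

section

open Subgroup

universe u

variable {G : Type u} [Group G] [Finite G] {p : ℕ} [hp : Fact p.Prime] (P : Sylow p G)

/-- The `p`-part of the centralizer of an element of `P`, in a suitable conjugate. -/
theorem exists_conj (x : G) (hx : ∃ k : ℕ, orderOf x = p ^ k) :
    ∃ g : G, ∃ h : g * x * g⁻¹ ∈ (P : Subgroup G),
      Nat.card (centralizer ({(⟨_, h⟩ : P)} : Set P)) =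
        p ^ (Nat.card (centralizer ({x} : Set G))).factorization p := by
  obtain ⟨k, hk⟩ := hx
  set C := centralizer ({x} : Set G) with hC
  have hxC : x ∈ C := mem_centralizer_singleton_iff.2 rfl
  have hzn : (zpowers (⟨x, hxC⟩ : C)).Normal := by
    refine ⟨fun a ha g => ?_⟩
    obtain ⟨i, rfl⟩ := mem_zpowers_iff.1 ha
    have hc : Commute g (⟨x, hxC⟩ : C) :=
      Subtype.ext (mem_centralizer_singleton_iff.1 g.2)
    rw [(hc.zpow_right i).eq, mul_inv_cancel_right]
    exact zpow_mem (mem_zpowers _) i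
  have hzp : IsPGroup p (zpowers (⟨x, hxC⟩ : C)) := IsPGroup.of_card (n := k) (by
    rw [Nat.card_zpowers, ← Subgroup.orderOf_coe]; exact hk)
  obtain ⟨T⟩ : Nonempty (Sylow p C) := inferInstance
  have hxT : (⟨x, hxC⟩ : C) ∈ (T : Subgroup C) :=
    hzp.le_sylow_of_normal T (mem_zpowers _)
  obtain ⟨Q, hQ⟩ := (T.isPGroup'.map C.subtype).exists_le_sylow
  obtain ⟨g, hg⟩ := MulAction.exists_smul_eq G Q P
  have hgP : ∀ z ∈ (Q : Subgroup G), g * z * g⁻¹ ∈ (P : Subgroup G) := fun z hz => by
    rw [← hg, Sylow.smul_def, Sylow.pointwise_smul_def]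
    exact ⟨z, hz, rfl⟩
  have hxP : g * x * g⁻¹ ∈ (P : Subgroup G) := hgP x (hQ ⟨_, hxT, rfl⟩)
  refine ⟨g, hxP, ?_⟩
  set D := centralizer ({(⟨_, hxP⟩ : P)} : Set P)
  rw [← Sylow.card_eq_multiplicity T]
  apply le_antisymm
  · let f : D →* C :=
      { toFun := fun d => ⟨g⁻¹ * ((d : P) : G) * g, mem_centralizer_singleton_iff.2 (by
          have h := congrArg Subtype.val (mem_centralizer_singleton_iff.1 d.2)
          change ((d : P) : G) * (g * x * g⁻¹) = g * x * g⁻¹ * ((d : P) : G) at h
          calc g⁻¹ * ((d : P) : G) * g * x = g⁻¹ * (((d : P) : G) * (g * x * g⁻¹)) * g := by group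
            _ = g⁻¹ * (g * x * g⁻¹ * ((d : P) : G)) * g := by rw [h]
            _ = x * (g⁻¹ * ((d : P) : G) * g) := by group)⟩
        map_one' := Subtype.ext (by simp)
        map_mul' := fun a b => Subtype.ext (by simp [mul_assoc]) }
    have hf : Function.Injective f := fun a b h => by
      have := congrArg Subtype.val h
      exact Subtype.ext (Subtype.ext (mul_left_cancel (mul_right_cancel this)))
    have hDp : IsPGroup p f.range :=
      (P.isPGroup'.to_subgroup D).of_equiv (MonoidHom.ofInjective hf)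
    obtain ⟨T', hT'⟩ := hDp.exists_le_sylow
    calc Nat.card D = Nat.card f.range := Nat.card_congr (MonoidHom.ofInjective hf).toEquiv
      _ ≤ Nat.card (T' : Subgroup C) := card_le_of_le hT'
      _ = _ := by rw [Sylow.card_eq_multiplicity, Sylow.card_eq_multiplicity]
  · refine Nat.card_le_card_of_injective
      (fun t => ⟨⟨g * ((t : C) : G) * g⁻¹, hgP _ (hQ ⟨_, t.2, rfl⟩)⟩,
        mem_centralizer_singleton_iff.2 (Subtype.ext ?_)⟩) ?_
    · show g * ((t : C) : G) * g⁻¹ * (g * x * g⁻¹) = g * x * g⁻¹ * (g * ((t : C) : G) * g⁻¹)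
      calc g * ((t : C) : G) * g⁻¹ * (g * x * g⁻¹) = g * (((t : C) : G) * x) * g⁻¹ := by group
        _ = g * (x * ((t : C) : G)) * g⁻¹ := by rw [mem_centralizer_singleton_iff.1 (t : C).2]
        _ = _ := by group
    · intro a b h
      have h' : g * ((a : C) : G) * g⁻¹ = g * ((b : C) : G) * g⁻¹ :=
        congrArg (fun z => (((z : D) : P) : G)) h
      exact Subtype.ext (Subtype.ext (mul_left_cancel (mul_right_cancel h')))

end

/-- Let G be a finite group, p a prime and P a Sylow p-subgroup of order at least p². Assume that G has no nontrivial normal subgroup of order prime to p, that the derived subgroup P' of P contains no nontrivial normal subgroup of G, and that G is not almost simple (there is no non-abelian simple normal subgroup of G with trivial centralizer). Then [P : P'] = p² if and only if some p-element x of G has centralizer whose order has p-part exactly p². -/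
theorem result {G : Type*} [Group G] [Finite G] (p : ℕ) [Fact p.Prime] (P : Sylow p G) (hbig : p ^ 2 ∣ Nat.card G) (hcore : Cfsg.pPrimeCore p G = ⊥)
    (hcore' : (⁅(P : Subgroup G), (P : Subgroup G)⁆).normalCore = ⊥) (hnas : ¬ ∃ S : Subgroup G, S.Normal ∧ IsSimpleGroup S ∧ ¬ IsMulCommutative S ∧ Subgroup.centralizer (S : Set G) = ⊥) :
    (⁅(P : Subgroup G), (P : Subgroup G)⁆).relIndex (P : Subgroup G) = p ^ 2 ↔
      ∃ x : G, (∃ k : ℕ, orderOf x = p ^ k) ∧ (Nat.card (Subgroup.centralizer ({x} : Set G))).factorization p = 2 := by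
  have hrel : (⁅(P : Subgroup G), (P : Subgroup G)⁆).relIndex (P : Subgroup G) =
      (commutator P).index := by
    rw [← Subgroup.map_subtype_commutator, Subgroup.relIndex,
      Subgroup.subgroupOf, Subgroup.comap_map_eq_self_of_injective (Subgroup.subtype_injective _)]
  have hX : IsPGroup p P := P.isPGroup'
  have hbigP : p ^ 2 ∣ Nat.card P := by
    rw [Sylow.card_eq_multiplicity]
    exact Nat.pow_dvd_pow _ ((Fact.out : p.Prime).pow_dvd_iff_le_factorization Nat.card_pos.ne' |>.1 hbig)
  rw [hrel]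
  constructor
  · intro hidx
    by_cases hnc : ∀ a b : P, a * b = b * a
    · refine ⟨1, ⟨0, by simp⟩, ?_⟩
      have h1 : commutator P = ⊥ := by
        rw [eq_bot_iff, commutator_eq_closure, Subgroup.closure_le]
        rintro _ ⟨a, b, rfl⟩
        exact Subgroup.mem_bot.2 (commutatorElement_eq_one_iff_mul_comm.2 (hnc a b))
      rw [h1, Subgroup.index_bot, Sylow.card_eq_multiplicity] at hidx
      have h2 : Subgroup.centralizer ({(1 : G)} : Set G) = ⊤ := eq_top_iff.2 fun g _ =>
        Subgroup.mem_centralizer_singleton_iff.2 (by simp)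
      rw [h2, Subgroup.card_top]
      exact Nat.pow_right_injective (Fact.out : p.Prime).two_le hidx
    · obtain ⟨N, hN, hNidx, hNab⟩ :=
        CfsgLib.BlocksCharsC.exists_abelian_index P hcore hcore' hnas hidx hnc
      set A := N.subgroupOf (P : Subgroup G)
      haveI := hN
      obtain ⟨y, hy⟩ : ∃ y : P, y ∉ A := by
        by_contra hc
        push Not at hc
        rw [(Subgroup.eq_top_iff' _).2 hc, Subgroup.index_top] at hNidx
        exact (Fact.out : p.Prime).ne_one hNidx.symm
      have hyo : ∃ k : ℕ, orderOf (y : G) = p ^ k := by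
        obtain ⟨k, hk⟩ := IsPGroup.iff_orderOf.1 hX y
        exact ⟨k, by rw [Subgroup.orderOf_coe, hk]⟩
      refine ⟨(y : G), hyo, ?_⟩
      obtain ⟨g, hg, hcard⟩ := exists_conj P (y : G) hyo
      rw [CfsgLib.BlocksCharsC.card_centralizer_of_abelian_index hidx A hNidx
        (fun a ha b hb => congrArg Subtype.val (hNab ⟨a, ha⟩ ⟨b, hb⟩))
        (y := (⟨_, hg⟩ : P)) (fun h => hy ?_)] at hcard
      · exact (Nat.pow_right_injective (Fact.out : p.Prime).two_le hcard).symm
      · have := hN.conj_mem _ (show g * (y : G) * g⁻¹ ∈ N from h) g⁻¹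
        show (y : G) ∈ N
        simpa [mul_assoc] using this
  · rintro ⟨x, hx, hfac⟩
    obtain ⟨g, hg, hcard⟩ := exists_conj P x hx
    rw [hfac] at hcard
    refine le_antisymm (hcard ▸ CfsgLib.BlocksCharsC.index_commutator_le_card_centralizer _) ?_
    by_contra hlt
    push Not at hlt
    obtain ⟨n, hn⟩ := IsPGroup.iff_card.1 hX
    obtain ⟨i, -, hi⟩ := (Nat.dvd_prime_pow (Fact.out : p.Prime)).1
      (hn ▸ Subgroup.index_dvd_card (commutator P))
    rw [hi] at hlt
    have hi1 : i ≤ 1 := by
      have := (Nat.pow_lt_pow_iff_right (Fact.out : p.Prime).one_lt).1 hlt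
      omega
    have hle : (commutator P).index ≤ p := by
      rw [hi]
      calc p ^ i ≤ p ^ 1 := Nat.pow_le_pow_right (Fact.out : p.Prime).pos hi1
        _ = p := pow_one p
    have hcomm := CfsgLib.BlocksCharsC.comm_of_index_commutator_le hX hle
    have h1 : commutator P = ⊥ := by
      rw [eq_bot_iff, commutator_eq_closure, Subgroup.closure_le]
      rintro _ ⟨a, b, rfl⟩
      exact Subgroup.mem_bot.2 (commutatorElement_eq_one_iff_mul_comm.2 (hcomm a b))
    rw [h1, Subgroup.index_bot] at hle
    have h3 := Nat.le_of_dvd Nat.card_pos hbigP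
    have h4 := Nat.lt_mul_self_iff.2 (Fact.out : p.Prime).one_lt
    rw [pow_two] at h3
    omega

end Cfsg.Agent.S4587
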