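import Cfsg.Statements.S4591
import Cfsg.Agent.BlocksCharsC.InvariantIrr
import Cfsg.Agent.BlocksCharsC.TateNormal
import Cfsg.Agent.BlocksCharsC.PGroupCenter

set_option autoImplicit false
open Cfsg

namespace Cfsg.Agent.S4591

open CfsgLib.Characters CfsgLib.BlocksCharsC
open scoped commutatorElement Pointwise ComplexConjugate

universe u

theorem exists_eta {G : Type u} [Group G] [Fintype G] {p : ℕ} [hp : Fact p.Prime] (O P : Subgroup G)
    [hO : O.Normal] [Fintype O] [Fintype P] (hdisj : O ⊓ P = ⊥) (hsup : O ⊔ P = ⊤)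
    (θ : Cfsg.IrrCharacter O)
    (hinv : ∀ g ∈ P, ∀ n : O, (θ : O → ℂ) ⟨g * n * g⁻¹, hO.conj_mem _ n.2 g⟩ = (θ : O → ℂ) n)
    (hd : ¬ p ∣ Cfsg.charDegree (θ : O → ℂ)) :
    ∃ η : Cfsg.IrrCharacter G, ¬ p ∣ Cfsg.charDegree (η : G → ℂ) ∧
      Cfsg.classInner (fun n : O => (η : G → ℂ) n) (θ : O → ℂ) ≠ 0 := by
  classical
  have hinv' : ∀ (g : G) (n : O),
      (θ : O → ℂ) ⟨g * n * g⁻¹, hO.conj_mem _ n.2 g⟩ = (θ : O → ℂ) n := by
    intro g n
    have hg : g ∈ ((O : Set G) * (P : Set G) : Set G) := by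
      rw [← Subgroup.normal_mul, hsup]; trivial
    obtain ⟨a, ha, x, hx, rfl⟩ := hg
    let n' : O := ⟨x * n * x⁻¹, hO.conj_mem _ n.2 x⟩
    refine Eq.trans ?_ (hinv x hx n)
    rw [← isClassFunction_of_isIrr θ.2 n' ⟨a, ha⟩]
    refine congrArg (θ : O → ℂ) (Subtype.ext ?_)
    exact (show (a * x) * (n : G) * (a * x)⁻¹ = a * (x * n * x⁻¹) * a⁻¹ by group)
  choose a ha using fun η : Cfsg.IrrCharacter G =>
    classInner_character_irr (isCharacter_restrict O (isCharacter_of_isIrr η.2)) θ.2
  choose b hb using fun η : Cfsg.IrrCharacter G =>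
    classInner_character_irr (isCharacter_restrict P (isCharacter_of_isIrr η.2))
      (isIrrCharacter_one (G := P))
  have key : ∑ η : Cfsg.IrrCharacter G, (a η : ℂ) * b η = (Cfsg.charDegree (θ : O → ℂ) : ℂ) := by
    simp only [← ha, ← hb, Cfsg.classInner, Finset.mul_sum, Finset.sum_mul]
    rw [Finset.sum_comm]
    have h1 : ∀ n : P, (∑ η : Cfsg.IrrCharacter G, ∑ m : O,
        (Nat.card O : ℂ)⁻¹ * ((η : G → ℂ) m * conj ((θ : O → ℂ) m)) *
          ((Nat.card P : ℂ)⁻¹ * ((η : G → ℂ) n * conj (1 : ℂ)))) =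
        if n = 1 then (Nat.card O : ℂ)⁻¹ * (Nat.card P : ℂ)⁻¹ * Nat.card G * conj ((θ : O → ℂ) 1)
          else 0 := by
      intro n
      rw [Finset.sum_comm]
      have h2 : ∀ m : O, (∑ η : Cfsg.IrrCharacter G,
          (Nat.card O : ℂ)⁻¹ * ((η : G → ℂ) m * conj ((θ : O → ℂ) m)) *
            ((Nat.card P : ℂ)⁻¹ * ((η : G → ℂ) n * conj (1 : ℂ)))) =
          (Nat.card O : ℂ)⁻¹ * (Nat.card P : ℂ)⁻¹ * conj ((θ : O → ℂ) m) *
            (if n = 1 ∧ m = 1 then (Nat.card G : ℂ) else 0) := by
        intro m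
        have e : (∑ η : Cfsg.IrrCharacter G, (η : G → ℂ) m * (η : G → ℂ) n) =
            if n = 1 ∧ m = 1 then (Nat.card G : ℂ) else 0 := by
          have hc : ∀ η : Cfsg.IrrCharacter G, (η : G → ℂ) m * (η : G → ℂ) n =
              (η : G → ℂ) m * conj ((η : G → ℂ) ((n : G)⁻¹)) := fun η => by
            rw [character_inv (isCharacter_of_isIrr η.2), Complex.conj_conj]
          rw [Finset.sum_congr rfl fun η _ => hc η]
          split_ifs with h
          · obtain ⟨rfl, rfl⟩ := h
            rw [sum_irr_mul_conj_of_isConj (by simp)]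
            norm_cast
            exact Nat.card_congr (Equiv.subtypeUnivEquiv fun x =>
              Subgroup.mem_centralizer_singleton_iff.2 (by simp))
          · refine sum_irr_mul_conj_of_not_isConj fun hcj => h ?_
            obtain ⟨c, hc⟩ := isConj_iff.1 hcj
            have hmem : (n : G)⁻¹ ∈ O ⊓ P := ⟨hc ▸ hO.conj_mem _ m.2 c, P.inv_mem n.2⟩
            rw [hdisj, Subgroup.mem_bot] at hmem
            rw [hmem] at hc
            refine ⟨Subtype.ext (inv_eq_one.1 hmem), Subtype.ext ?_⟩
            exact mul_left_cancel (a := c) (by rw [mul_inv_eq_one.1 hc]; simp)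
        rw [← e, Finset.mul_sum]
        exact Finset.sum_congr rfl fun η _ => by simp only [map_one]; ring
      rw [Finset.sum_congr rfl fun m _ => h2 m, Finset.sum_eq_single (1 : O)]
      · split_ifs <;> simp_all <;> ring
      · intro m _ hm
        rw [if_neg (fun h => hm h.2), mul_zero]
      · exact fun h => absurd (Finset.mem_univ _) h
    rw [Finset.sum_congr rfl fun n _ => h1 n, Finset.sum_ite_eq' Finset.univ (1 : P),
      if_pos (Finset.mem_univ _), charDegree_spec (isCharacter_of_isIrr θ.2), Complex.conj_natCast]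
    have hcard : Nat.card G = Nat.card O * Nat.card P :=
      (Subgroup.IsComplement'.card_mul (Subgroup.isComplement'_of_disjoint_and_mul_eq_univ
        (disjoint_iff.2 hdisj) (by rw [← Subgroup.normal_mul, hsup]; rfl))).symm
    have h1' : (Nat.card O : ℂ) ≠ 0 := natCard_ne_zero
    have h2' : (Nat.card P : ℂ) ≠ 0 := natCard_ne_zero
    rw [hcard]; push_cast; field_simp
  have key' : ∑ η : Cfsg.IrrCharacter G, a η * b η = Cfsg.charDegree (θ : O → ℂ) := by
    exact_mod_cast key
  obtain ⟨η, hη⟩ : ∃ η : Cfsg.IrrCharacter G, ¬ p ∣ a η := by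
    by_contra hcon
    push Not at hcon
    exact hd (key' ▸ Finset.dvd_sum fun η _ => (hcon η).mul_right _)
  have hne : Cfsg.classInner (fun n : O => (η : G → ℂ) n) (θ : O → ℂ) ≠ 0 := by
    rw [ha, Nat.cast_ne_zero]; exact fun h => hη (h ▸ dvd_zero p)
  refine ⟨η, ?_, hne⟩
  have h1 := restrict_eq_smul_of_invariant θ.2 hinv' η.2 hne 1
  rw [ha, OneMemClass.coe_one, charDegree_spec (isCharacter_of_isIrr η.2),
    charDegree_spec (isCharacter_of_isIrr θ.2), ← Nat.cast_mul, Nat.cast_inj] at h1
  rw [h1, hp.out.dvd_mul]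
  exact not_or.2 ⟨hη, hd⟩

theorem exists_linear_ne {P : Type u} [Group P] [Finite P] {x : P} (hx : x ∉ commutator P) :
    ∃ lam : P → ℂ, Cfsg.IsIrrCharacter P lam ∧ lam 1 = 1 ∧ lam x ≠ 1 := by
  classical
  haveI : Finite (Abelianization P) := inferInstanceAs (Finite (P ⧸ _))
  haveI := Fintype.ofFinite (Abelianization P)
  obtain ⟨φ, hφ⟩ : ∃ φ : Cfsg.IrrCharacter (Abelianization P),
      (φ : Abelianization P → ℂ) (Abelianization.of x) ≠ (φ : Abelianization P → ℂ) 1 := by
    by_contra hcon
    push Not at hcon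
    exact hx ((Abelianization.ker_of P) ▸
      (MonoidHom.mem_ker.2 (isConj_one_left.1 (isConj_of_irr_eq hcon)) :
        x ∈ (Abelianization.of : P →* Abelianization P).ker))
  obtain ⟨n, ρ, hρ, hφρ⟩ := φ.2
  haveI := hρ
  have hn1 : Module.finrank ℂ (Fin n → ℂ) = 1 := by
    have := finrank_dvd_center_index ρ
    rwa [CommGroup.center_eq_top, Subgroup.index_top, Nat.dvd_one] at this
  let σ : Representation ℂ P (Fin n → ℂ) := ρ.comp (Abelianization.of : P →* Abelianization P)
  refine ⟨σ.character, ⟨n, σ, isIrreducible_of_finrank_eq_one _ hn1, rfl⟩, ?_, fun h => hφ ?_⟩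
  · rw [Representation.char_one, hn1]; simp
  · rw [← hφρ, Representation.char_one, hn1, Nat.cast_one]
    exact h

/-- Let G be a finite group, p a prime and P a Sylow p-subgroup, and let N be the largest normal subgroup of G in which P has trivial centralizer (N is normal with C_N(P) = 1 and contains every normal subgroup with that property). Then the intersection of the kernels of the irreducible characters of G of degree prime to p is the normal core in G of the subgroup N·P' (P' the derived subgroup of P). In particular, when G has no nontrivial normal subgroup of order prime to p, that intersection is the normal core of P'. -/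
theorem result {G : Type*} [Group G] [Finite G] (p : ℕ) [Fact p.Prime] (P : Sylow p G) (N : Subgroup G) [N.Normal]
    (hN : N ⊓ Subgroup.centralizer ((P : Subgroup G) : Set G) = ⊥)
    (hmax : ∀ L : Subgroup G, L.Normal → L ⊓ Subgroup.centralizer ((P : Subgroup G) : Set G) = ⊥ → L ≤ N) :
    {g : G | ∀ χ : Cfsg.IrrCharacter G, ¬ p ∣ Cfsg.charDegree (χ : G → ℂ) → (χ : G → ℂ) g = (χ : G → ℂ) 1} =
      ((N ⊔ ⁅(P : Subgroup G), (P : Subgroup G)⁆).normalCore : Set G) := by
  classical
  haveI := Fintype.ofFinite G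
  have hp : p.Prime := Fact.out
  set D := ⁅(P : Subgroup G), (P : Subgroup G)⁆ with hD
  set M := (N ⊔ D).normalCore with hM
  have hDP : D ≤ (P : Subgroup G) := Subgroup.commutator_le.2 fun a ha b hb =>
    mul_mem (mul_mem (mul_mem ha hb) (inv_mem ha)) (inv_mem hb)
  have hPN : (P : Subgroup G) ⊓ N = ⊥ := by
    by_contra hne
    haveI : ((P : Subgroup G) ⊓ N).subgroupOf (P : Subgroup G) |>.Normal := by
      rw [Subgroup.inf_subgroupOf_left]; infer_instance
    haveI : Nontrivial (((P : Subgroup G) ⊓ N).subgroupOf (P : Subgroup G)) := by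
      rw [Subgroup.nontrivial_iff_ne_bot, ne_eq, Subgroup.subgroupOf_eq_bot, disjoint_iff,
        inf_comm (P : Subgroup G) N, inf_assoc, inf_idem]
      rwa [inf_comm] at hne
    apply CfsgLib.BlocksCharsC.inf_center_ne_bot P.isPGroup' (((P : Subgroup G) ⊓ N).subgroupOf (P : Subgroup G))
    rw [eq_bot_iff]
    rintro z ⟨hz, hzc⟩
    rw [Subgroup.mem_bot]
    have hmem : (z : G) ∈ N ⊓ Subgroup.centralizer ((P : Subgroup G) : Set G) :=
      ⟨(Subgroup.mem_subgroupOf.1 hz).2, Subgroup.mem_centralizer_iff.2 fun g hg =>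
        congrArg Subtype.val (Subgroup.mem_center_iff.1 hzc ⟨g, hg⟩)⟩
    rw [hN, Subgroup.mem_bot] at hmem
    exact Subtype.ext hmem
  apply Set.Subset.antisymm
  · -- the kernel is contained in the core
    let K : Subgroup G := ⨅ χ : {χ : Cfsg.IrrCharacter G // ¬ p ∣ Cfsg.charDegree (χ : G → ℂ)},
      charKer (χ.1 : G → ℂ) (isCharacter_of_isIrr χ.1.2)
    have hKmem : ∀ g, g ∈ K ↔ ∀ χ : Cfsg.IrrCharacter G, ¬ p ∣ Cfsg.charDegree (χ : G → ℂ) →
        (χ : G → ℂ) g = (χ : G → ℂ) 1 := fun g =>
      ⟨fun hg χ hχ => Subgroup.mem_iInf.1 hg ⟨χ, hχ⟩, fun hg => Subgroup.mem_iInf.2 fun χ => hg χ.1 χ.2⟩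
    haveI hKn : K.Normal := ⟨fun a ha g => (hKmem _).2 fun χ hχ => by
      rw [isClassFunction_of_isIrr χ.2]; exact (hKmem a).1 ha χ hχ⟩
    intro g hg
    have hgK : g ∈ K := (hKmem g).2 hg
    suffices hle : K ≤ N ⊔ D from Subgroup.normal_le_normalCore.2 hle hgK
    -- the Sylow part
    have hKP : (P : Subgroup G) ⊓ K ≤ D := by
      rintro x ⟨hxP, hxK⟩
      by_contra hxD
      have hx' : (⟨x, hxP⟩ : (P : Subgroup G)) ∉ commutator (P : Subgroup G) := fun h' => hxD (by
        rw [hD, ← Subgroup.map_subtype_commutator]; exact ⟨_, h', rfl⟩)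
      obtain ⟨lam, hlam, hlam1, hlamx⟩ := exists_linear_ne hx'
      obtain ⟨χ, hχd, hχ⟩ := exists_constituent_not_dvd (p := p) (P : Subgroup G) P.not_dvd_index
        (isCharacter_of_isIrr hlam) (by simpa [Cfsg.charDegree, hlam1] using hp.ne_one)
      exact hlamx (hlam1 ▸ constituent_eq_degree (isCharacter_restrict _ (isCharacter_of_isIrr χ.2))
        hlam hχ (g := ⟨x, hxP⟩) ((hKmem x).1 hxK χ hχd))
    -- the part of order prime to p
    have hnpc := hasNormalPComplement_of_inf_le_commutator P K hKP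
    set O := (Cfsg.pResidual p K).map K.subtype with hO
    haveI hOn : O.Normal := by
      constructor
      intro a ha g
      rw [hO, CfsgLib.Transfer.map_subtype_pResidual] at ha ⊢
      induction ha using Subgroup.closure_induction with
      | mem x hx =>
        refine Subgroup.subset_closure ⟨hKn.conj_mem x hx.1 g, ?_⟩
        rw [show g * x * g⁻¹ = MulAut.conj g x from rfl, MulEquiv.orderOf_eq]
        exact hx.2
      | one => simp
      | mul x y _ _ h1 h2 =>
        rw [show g * (x * y) * g⁻¹ = (g * x * g⁻¹) * (g * y * g⁻¹) by group]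
        exact mul_mem h1 h2
      | inv x _ h1 =>
        rw [show g * x⁻¹ * g⁻¹ = (g * x * g⁻¹)⁻¹ by group]
        exact inv_mem h1
    have hOcard : ¬ p ∣ Nat.card O := by
      rw [hO, Nat.card_congr ((Cfsg.pResidual p K).equivMapOfInjective K.subtype K.subtype_injective).symm.toEquiv]
      exact CfsgLib.Transfer.hasNormalPComplement_iff.1 hnpc
    have hOC : O ⊓ Subgroup.centralizer ((P : Subgroup G) : Set G) = ⊥ := by
      by_contra hne
      obtain ⟨c, ⟨hcO, hcC⟩, hc1⟩ := exists_mem_ne_one hne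
      obtain ⟨θ, hθ1, hθinv⟩ := exists_invariant_irr_ne_one P.isPGroup' O hcO hcC hc1
      haveI := Fintype.ofFinite O
      have hθd : ¬ p ∣ Cfsg.charDegree (θ : O → ℂ) := by
        obtain ⟨n, ρ, hρ, hθρ⟩ := θ.2
        haveI := hρ
        intro hd
        refine hOcard (hd.trans ?_)
        rw [← hθρ, show Cfsg.charDegree ρ.character = Module.finrank ℂ (Fin n → ℂ) by
          simp [Cfsg.charDegree]]
        exact finrank_dvd_card ρ
      let H : Subgroup G := O ⊔ (P : Subgroup G)
      haveI := Fintype.ofFinite H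
      let O' : Subgroup H := O.subgroupOf H
      let P' : Subgroup H := (P : Subgroup G).subgroupOf H
      haveI := Fintype.ofFinite O'
      haveI := Fintype.ofFinite P'
      let e : O' ≃* O := Subgroup.subgroupOfEquivOfLe le_sup_left
      let θ' : Cfsg.IrrCharacter O' := ⟨fun n => (θ : O → ℂ) (e n), isIrrCharacter_comp_mulEquiv θ.2 e⟩
      obtain ⟨η, hηd, hη⟩ := exists_eta (p := p) O' P' (by
          rw [eq_bot_iff]
          rintro ⟨z, hz⟩ ⟨h1, h2⟩
          have : z ∈ O ⊓ (P : Subgroup G) := ⟨h1, h2⟩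
          rw [CfsgLib.Transfer.inf_eq_bot_of_not_dvd_card hOcard P.isPGroup', Subgroup.mem_bot] at this
          exact Subtype.ext this)
        (by rw [← Subgroup.subgroupOf_sup le_sup_left le_sup_right, Subgroup.subgroupOf_self])
        θ' (fun g hg n => by
          have := hθinv (g : G) hg (e n)
          exact this)
        (by
          rw [show Cfsg.charDegree (θ' : O' → ℂ) = Cfsg.charDegree (θ : O → ℂ) by
            simp only [Cfsg.charDegree, θ', map_one]]
          exact hθd)
      obtain ⟨χ, hχd, hχ⟩ := exists_constituent_not_dvd (p := p) H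
        (fun hd => P.not_dvd_index (hd.trans (Subgroup.index_dvd_of_le le_sup_right)))
        (isCharacter_of_isIrr η.2) hηd
      have hηker : ∀ n : O', (η : H → ℂ) n = (η : H → ℂ) 1 := fun n =>
        constituent_eq_degree (isCharacter_restrict _ (isCharacter_of_isIrr χ.2)) η.2 hχ
          (g := (n : H)) ((hKmem _).1 (Subgroup.map_subtype_le _ (Subgroup.mem_subgroupOf.1 n.2)) χ hχd)
      have hθker : ∀ n : O', (θ' : O' → ℂ) n = (θ' : O' → ℂ) 1 := fun n =>
        constituent_eq_degree (isCharacter_restrict O' (isCharacter_of_isIrr η.2)) θ'.2 hη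
          (g := n) (hηker n)
      have hθconst : ∀ m : O, (θ : O → ℂ) m = (θ : O → ℂ) 1 := fun m => by
        have := hθker (e.symm m)
        simpa [θ'] using this
      have hn := classInner_isIrr_self θ.2
      obtain ⟨d, hd0, hd⟩ := exists_degree_pos θ.2
      simp only [Cfsg.classInner, hθconst, hd, Complex.conj_natCast, Finset.sum_const,
        Finset.card_univ, nsmul_eq_mul, ← Nat.card_eq_fintype_card] at hn
      rw [← mul_assoc, inv_mul_cancel₀ natCard_ne_zero, one_mul, ← Nat.cast_mul, Nat.cast_eq_one,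
        mul_eq_one] at hn
      exact hθ1 (funext fun m => by rw [hθconst m, hd, hn.1, Nat.cast_one])
    have hON : O ≤ N := hmax O hOn hOC
    intro k hk
    let PK : Sylow p K := (P.isPGroup'.comap_subtype (K := K)).toSylow
      (CfsgLib.Transfer.not_dvd_relIndex_of_normal P K)
    have htop := CfsgLib.Transfer.sylow_sup_pResidual PK
    have hk' : k ∈ ((PK : Subgroup K) ⊔ Cfsg.pResidual p K).map K.subtype :=
      ⟨⟨k, hk⟩, by rw [htop]; trivial, rfl⟩
    rw [Subgroup.map_sup] at hk'
    refine (sup_le ?_ (hON.trans le_sup_left)) hk'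
    rintro _ ⟨x, hx, rfl⟩
    exact Subgroup.mem_sup_right (hKP ⟨hx, x.2⟩)
  · -- the core is contained in every kernel
    intro m hm χ hχ
    haveI := Fintype.ofFinite N
    haveI := Fintype.ofFinite M
    haveI := Fintype.ofFinite (P : Subgroup G)
    have hχc := isCharacter_of_isIrr χ.2
    have hone : ∀ (L : Subgroup G) [L.Normal] [Fintype L],
        Cfsg.classInner (fun n : L => (χ : G → ℂ) n) (fun _ => 1) ≠ 0 →
        ∀ n ∈ L, (χ : G → ℂ) n = (χ : G → ℂ) 1 := by
      intro L _ _ hne n hn
      have hfix := restrict_eq_smul_of_invariant (isIrrCharacter_one (G := L))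
        (fun _ _ => rfl) χ.2 hne
      have h1 := hfix ⟨n, hn⟩
      have h2 := hfix 1
      rw [OneMemClass.coe_one] at h2
      rw [h2, h1]
    have hNker : ∀ n ∈ N, (χ : G → ℂ) n = (χ : G → ℂ) 1 :=
      hone N (classInner_one_ne_zero P.isPGroup' N hN hχc hχ)
    refine hone M ?_ m hm
    -- a linear constituent on P
    obtain ⟨lam, hlam, hlamd⟩ : ∃ lam : Cfsg.IrrCharacter (P : Subgroup G),
        Cfsg.classInner (fun x : (P : Subgroup G) => (χ : G → ℂ) x) (lam : ↥(P : Subgroup G) → ℂ) ≠ 0 ∧
          Cfsg.charDegree (lam : ↥(P : Subgroup G) → ℂ) = 1 := by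
      by_contra hcon
      push Not at hcon
      apply hχ
      obtain ⟨mu, hmu⟩ := exists_nat_coeff (isCharacter_restrict (P : Subgroup G) hχc)
      have h1 := congrFun hmu 1
      simp only [Function.comp_apply, map_one, Finset.sum_apply, Pi.smul_apply, smul_eq_mul,
        charDegree_spec (isCharacter_of_isIrr (Subtype.prop _)), charDegree_spec hχc,
        OneMemClass.coe_one] at h1
      have h2 : Cfsg.charDegree (χ : G → ℂ) = ∑ lam : Cfsg.IrrCharacter (P : Subgroup G),
          mu lam * Cfsg.charDegree (lam : ↥(P : Subgroup G) → ℂ) := by exact_mod_cast h1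
      rw [h2]
      refine Finset.dvd_sum fun lam _ => ?_
      rcases Nat.eq_zero_or_pos (mu lam) with h0 | h0
      · simp [h0]
      · refine Dvd.dvd.mul_left ?_ _
        have hne : Cfsg.classInner (fun x : (P : Subgroup G) => (χ : G → ℂ) x)
            (lam : ↥(P : Subgroup G) → ℂ) ≠ 0 := by
          rw [show (fun x : (P : Subgroup G) => (χ : G → ℂ) x) = _ from hmu, classInner_irr_coeff]
          exact Nat.cast_ne_zero.2 h0.ne'
        obtain ⟨n, ρ, hρ, hlρ⟩ := lam.2
        haveI := hρ
        obtain ⟨k, hk⟩ := IsPGroup.iff_card.1 P.isPGroup'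
        have hdeg : Cfsg.charDegree (lam : ↥(P : Subgroup G) → ℂ) ∣ p ^ k := by
          rw [← hk, ← hlρ, show Cfsg.charDegree ρ.character = Module.finrank ℂ (Fin n → ℂ) by
            simp [Cfsg.charDegree]]
          exact finrank_dvd_card ρ
        obtain ⟨i, -, hi⟩ := (Nat.dvd_prime_pow hp).1 hdeg
        rcases Nat.eq_zero_or_pos i with rfl | hi0
        · exact absurd (by simpa using hi) (hcon lam hne)
        · exact hi ▸ dvd_pow_self p hi0.ne'
    have hlam1 : (lam : ↥(P : Subgroup G) → ℂ) 1 = 1 := by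
      rw [charDegree_spec (isCharacter_of_isIrr lam.2), hlamd, Nat.cast_one]
    have hlamD : ∀ x : (P : Subgroup G), (x : G) ∈ D → (lam : ↥(P : Subgroup G) → ℂ) x = 1 := by
      obtain ⟨n, ρ, hρ, hlρ⟩ := lam.2
      have hn1 : Module.finrank ℂ (Fin n → ℂ) = 1 := by
        have := hlam1
        rw [← hlρ, Representation.char_one] at this
        exact_mod_cast this
      intro x hx
      rw [hD, ← Subgroup.map_subtype_commutator] at hx
      have hx' := (Subgroup.mem_map_iff_mem (P : Subgroup G).subtype_injective).1 hx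
      have : commutator (P : Subgroup G) ≤ charKer _ (isCharacter_of_isIrr lam.2) := by
        rw [_root_.commutator_def, Subgroup.commutator_le]
        intro a _ b _
        show (lam : ↥(P : Subgroup G) → ℂ) ⁅a, b⁆ = (lam : ↥(P : Subgroup G) → ℂ) 1
        rw [← hlρ]
        show LinearMap.trace ℂ _ (ρ ⁅a, b⁆) = LinearMap.trace ℂ _ (ρ 1)
        have hcomm : ρ ⁅a, b⁆ = ρ 1 := by
          have hsc : ∀ T : (Fin n → ℂ) →ₗ[ℂ] (Fin n → ℂ), ∃ c : ℂ, T = c • LinearMap.id := by
            intro T
            obtain ⟨v, hv0, hv⟩ := finrank_eq_one_iff'.1 hn1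
            obtain ⟨c, hc⟩ := hv (T v)
            refine ⟨c, LinearMap.ext fun w => ?_⟩
            obtain ⟨d, rfl⟩ := hv w
            simp [← hc, smul_comm c d]
          have hab : Commute (ρ a) (ρ b) := by
            obtain ⟨c, hc⟩ := hsc (ρ a)
            refine LinearMap.ext fun w => ?_
            simp [hc]
          calc ρ ⁅a, b⁆ = ρ a * ρ b * ρ a⁻¹ * ρ b⁻¹ := by
                rw [commutatorElement_def, map_mul, map_mul, map_mul]
            _ = ρ b * (ρ a * ρ a⁻¹) * ρ b⁻¹ := by rw [hab.eq]; simp only [mul_assoc]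
            _ = ρ 1 := by
                rw [← map_mul, mul_inv_cancel, map_one, mul_one, ← map_mul, mul_inv_cancel, map_one]
        rw [hcomm]
      have := this hx'
      rw [mem_charKer, hlam1] at this
      exact this
    -- M = N · (M ⊓ D)
    let T : Subgroup G := M ⊓ D
    haveI := Fintype.ofFinite T
    have hT : Cfsg.classInner (fun y : T => (χ : G → ℂ) y) (fun _ => 1) ≠ 0 := by
      obtain ⟨mu, hmu⟩ := exists_nat_coeff (isCharacter_restrict (P : Subgroup G) hχc)
      have hTP : T ≤ (P : Subgroup G) := inf_le_right.trans hDP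
      choose d hd using fun φ : Cfsg.IrrCharacter (P : Subgroup G) =>
        classInner_character_irr (isCharacter_comp (Subgroup.inclusion hTP)
          (isCharacter_of_isIrr φ.2)) (isIrrCharacter_one (G := T))
      have hexp : (fun y : T => (χ : G → ℂ) y) = ∑ φ : Cfsg.IrrCharacter (P : Subgroup G),
          (mu φ : ℂ) • fun y : T => (φ : ↥(P : Subgroup G) → ℂ) (Subgroup.inclusion hTP y) := by
        funext y
        have := congrFun hmu (Subgroup.inclusion hTP y)
        simpa [Finset.sum_apply] using this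
      rw [hexp, classInner_sum_left]
      simp only [classInner_smul_left, hd, ← Nat.cast_mul, ← Nat.cast_sum, Nat.cast_ne_zero]
      have hdl : d lam = 1 := by
        have := hd lam
        rw [show (fun y : T => (lam : ↥(P : Subgroup G) → ℂ) (Subgroup.inclusion hTP y)) =
          (fun _ => 1) from funext fun y => hlamD _ (Subgroup.mem_inf.1 y.2).2, classInner_isIrr_self isIrrCharacter_one] at this
        exact_mod_cast this.symm
      have hml : mu lam ≠ 0 := by
        intro h0
        apply hlam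
        rw [show (fun x : (P : Subgroup G) => (χ : G → ℂ) x) = _ from hmu, classInner_irr_coeff, h0,
          Nat.cast_zero]
      intro h0
      exact hml (by simpa [hdl] using (Finset.sum_eq_zero_iff.1 h0) lam (Finset.mem_univ _))
    have hMle : M ≤ N ⊔ D := Subgroup.normalCore_le _
    have hNM : N ≤ M := Subgroup.normal_le_normalCore.2 le_sup_left
    let f : N × T → M := fun q => ⟨(q.1 : G) * q.2, mul_mem (hNM q.1.2) (Subgroup.mem_inf.1 q.2.2).1⟩
    have hfb : Function.Bijective f := by
      constructor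
      · intro a b hab
        have h' : ((b.1 : G))⁻¹ * a.1 = b.2 * (a.2 : G)⁻¹ := by
          have h0 : (a.1 : G) * a.2 = b.1 * b.2 := congrArg Subtype.val hab
          rw [show (a.1 : G) = b.1 * b.2 * (a.2 : G)⁻¹ by rw [← h0]; group]
          group
        have hmem : ((b.1 : G))⁻¹ * a.1 ∈ (P : Subgroup G) ⊓ N :=
          Subgroup.mem_inf.2 ⟨h' ▸ mul_mem (hDP (Subgroup.mem_inf.1 b.2.2).2) (inv_mem (hDP (Subgroup.mem_inf.1 a.2.2).2)), mul_mem (inv_mem b.1.2) a.1.2⟩
        rw [hPN, Subgroup.mem_bot] at hmem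
        have h1 : a.1 = b.1 := Subtype.ext (inv_mul_eq_one.1 hmem).symm
        exact Prod.ext h1 (Subtype.ext (mul_inv_eq_one.1 (h' ▸ hmem)).symm)
      · rintro ⟨x, hx⟩
        have hx' : x ∈ ((N : Set G) * (D : Set G) : Set G) := by
          rw [← Subgroup.normal_mul]; exact hMle hx
        obtain ⟨n, hn, y, hy, rfl⟩ := hx'
        refine ⟨(⟨n, hn⟩, ⟨y, ?_, hy⟩), rfl⟩
        have := mul_mem (inv_mem (hNM hn)) hx
        rwa [inv_mul_cancel_left] at this
    intro h0
    apply hT
    simp only [Cfsg.classInner, mul_eq_zero, inv_eq_zero, natCard_ne_zero, false_or, map_one,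
      mul_one] at h0 ⊢
    rw [← Fintype.sum_bijective f hfb (fun q => (χ : G → ℂ) q.2) (fun x : M => (χ : G → ℂ) x)
      (fun q => (char_mul_of_eq_degree hχc (hNker _ q.1.2) _).symm), Fintype.sum_prod_type] at h0
    simp only [Finset.sum_const, nsmul_eq_mul, mul_eq_zero] at h0
    exact h0.resolve_left (Nat.cast_ne_zero.2 (by simp))

end Cfsg.Agent.S4591
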