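import Cfsg.Statements.S4601
import Cfsg.Agent.SylowPairs.Basic
import Cfsg.Agent.PLocal.Cores
import Cfsg.Agent.PLocal.PSolvable

set_option autoImplicit false
open Cfsg
open scoped Pointwise

namespace Cfsg.Agent.S4601

section aux

variable {G : Type*} [Group G] [Finite G] {p q : ℕ} [Fact p.Prime] [Fact q.Prime]

theorem map_mk_zpowers (N : Subgroup G) [N.Normal] (y : G) :
    (Subgroup.zpowers y).map (QuotientGroup.mk' N) = Subgroup.zpowers (y : G ⧸ N) := by
  rw [MonoidHom.map_zpowers]; rfl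

theorem mem_of_order_normalizer (S : Sylow p G) {x : G} (hx : IsPGroup p (Subgroup.zpowers x))
    (hn : x ∈ Subgroup.normalizer ((S : Subgroup G) : Set G)) : x ∈ (S : Subgroup G) := by
  have h := IsPGroup.to_sup_of_normal_right' hx S.isPGroup' (Subgroup.zpowers_le.mpr hn)
  rw [← S.is_maximal' h le_sup_right]
  exact Subgroup.mem_sup_left (Subgroup.mem_zpowers x)

/-- The centraliser of an element whose class size is prime to `p` contains a Sylow subgroup. -/
theorem exists_sylow_le {C : Subgroup G} (h : ¬ p ∣ C.index) :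
    ∃ S : Sylow p G, (S : Subgroup G) ≤ C := by
  obtain ⟨R⟩ : Nonempty (Sylow p C) := inferInstance
  refine ⟨(R.isPGroup'.map C.subtype).toSylow ?_, Subgroup.map_subtype_le _⟩
  rw [Subgroup.index_map_subtype]
  exact (Fact.out : p.Prime).not_dvd_mul R.not_dvd_index h

/-- A Sylow subgroup contains a Sylow subgroup of each normal subgroup. -/
theorem not_dvd_relIndex_inf (S : Sylow p G) (N : Subgroup G) [N.Normal] :
    ¬ p ∣ ((S : Subgroup G) ⊓ N).relIndex N := by
  rw [Subgroup.inf_relIndex_right]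
  intro hd
  obtain ⟨T⟩ : Nonempty (Sylow p N) := inferInstance
  obtain ⟨U, hU⟩ := (T.isPGroup'.map N.subtype).exists_le_sylow
  obtain ⟨g, rfl⟩ := MulAction.exists_smul_eq G U S
  have h1 : MulAut.conj g • ((T : Subgroup N).map N.subtype) ≤ (g • U : Sylow p G) :=
    Subgroup.pointwise_smul_le_pointwise_smul_iff.mpr hU
  have h2 : MulAut.conj g • ((T : Subgroup N).map N.subtype) ≤ N := by
    rintro _ ⟨_, ⟨t, -, rfl⟩, rfl⟩
    exact Subgroup.Normal.conj_mem ‹N.Normal› _ t.2 g
  set T' := MulAut.conj g • ((T : Subgroup N).map N.subtype) with hT'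
  have hcard : Nat.card T' = Nat.card (T : Subgroup N) := by
    rw [hT', ← Nat.card_congr (Subgroup.equivSMul (MulAut.conj g) _).toEquiv, Subgroup.card_subtype]
  have h3 : ((g • U : Sylow p G) : Subgroup G).relIndex N ∣ T'.relIndex N :=
    Subgroup.relIndex_dvd_of_le_left _ h1
  have h4 : T'.relIndex N = (T : Subgroup N).index := by
    have ha : Nat.card T' * T'.relIndex N = Nat.card N := by
      rw [← Subgroup.relIndex_bot_left, ← Subgroup.relIndex_bot_left,
        Subgroup.relIndex_mul_relIndex _ _ _ bot_le h2]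
    rw [hcard, ← (T : Subgroup N).card_mul_index] at ha
    exact Nat.eq_of_mul_eq_mul_left Nat.card_pos ha
  rw [h4] at h3
  exact T.not_dvd_index (hd.trans h3)

/-- Coprime action: if `Q` is a `q`-group normalising the `q'`-group `N`, and each element of `Q`
centralises some Sylow `p`-subgroup of `N`, then `Q` centralises a Sylow `p`-subgroup of `N`. -/
theorem centralizes_sylow (N : Subgroup G) [N.Normal] (hq : ¬ q ∣ Nat.card N) (Q : Subgroup G)
    (hQ : IsPGroup q Q)
    (h : ∀ y ∈ Q, ¬ p ∣ (Subgroup.centralizer ({y} : Set G)).index) :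
    ∃ P0 : Subgroup G, P0 ≤ N ∧ ¬ p ∣ P0.relIndex N ∧ Q ≤ Subgroup.centralizer (P0 : Set G) := by
  obtain ⟨T⟩ : Nonempty (Sylow p N) := inferInstance
  -- a Sylow subgroup of N normalised by Q, obtained through the Frattini criterion in N
  have hQN : Q ≤ Subgroup.normalizer (N : Set G) := by
    rw [Subgroup.normalizer_eq_top_iff.mpr ‹N.Normal›]; exact le_top
  set T1 := (T : Subgroup N).map N.subtype with hT1
  have hfix : ∃ P0 : Subgroup G, P0 ≤ N ∧ IsPGroup p P0 ∧ ¬ p ∣ P0.relIndex N ∧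
      Q ≤ Subgroup.normalizer (P0 : Set G) := by
    letI : MulAction Q (Sylow p N) := MulAction.compHom (Sylow p N)
      ((MulAut.conjNormal (H := N)).comp Q.subtype)
    haveI := Fintype.ofFinite (Sylow p N)
    have hnd : ¬ q ∣ Nat.card (Sylow p N) := fun hd => hq
      (hd.trans (((Sylow.card_dvd_index T)).trans (Subgroup.index_dvd_card _)))
    obtain ⟨S, hS⟩ := hQ.nonempty_fixed_point_of_prime_not_dvd_card (Sylow p N) hnd
    have hsub : ∀ y ∈ Q, ∀ x, x ∈ (S : Subgroup N) → (MulAut.conjNormal y x) ∈ (S : Subgroup N) := by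
      intro y hy x hx
      have h1 := congrArg (fun R : Sylow p N => (R : Subgroup N)) (hS ⟨y, hy⟩)
      exact h1 ▸ ⟨x, hx, rfl⟩
    refine ⟨(S : Subgroup N).map N.subtype, Subgroup.map_subtype_le _, S.isPGroup'.map _, ?_, ?_⟩
    · have e : (S : Subgroup N).map N.subtype ⊓ N = (S : Subgroup N).map N.subtype :=
        inf_eq_left.mpr (Subgroup.map_subtype_le _)
      rw [Subgroup.relIndex, Subgroup.subgroupOf,
        Subgroup.comap_map_eq_self_of_injective N.subtype_injective]
      exact S.not_dvd_index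
    · intro y hy
      rw [Subgroup.mem_normalizer_iff]
      intro z
      constructor
      · rintro ⟨x, hx, rfl⟩
        exact ⟨_, hsub y hy x hx, by simp [MulAut.conjNormal_apply]⟩
      · rintro ⟨x, hx, hxe⟩
        refine ⟨_, hsub y⁻¹ (Q.inv_mem hy) x hx, ?_⟩
        have : (x : G) = y * z * y⁻¹ := hxe
        simp [MulAut.conjNormal_apply, this, mul_assoc]
  obtain ⟨P0, hP0N, hP0p, hP0i, hQP0⟩ := hfix
  refine ⟨P0, hP0N, hP0i, fun y hy => ?_⟩
  -- y centralises S ⊓ N for some Sylow subgroup S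
  obtain ⟨S, hS⟩ := exists_sylow_le (h y hy)
  have hT : ¬ p ∣ ((S : Subgroup G) ⊓ N).relIndex N := not_dvd_relIndex_inf S N
  set P1 : Sylow p N := (hP0p.comap_of_injective N.subtype N.subtype_injective).toSylow hP0i
  set P2 : Sylow p N := ((S.isPGroup'.to_le inf_le_left).comap_of_injective N.subtype
    N.subtype_injective).toSylow hT
  obtain ⟨n, hn⟩ := MulAction.exists_smul_eq N P2 P1
  set y' := (n : G) * y * (n : G)⁻¹ with hy'
  have hy'c : y' ∈ Subgroup.centralizer (P0 : Set G) := by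
    rw [Subgroup.mem_centralizer_iff]
    intro z hz
    have h1 : (⟨z, hP0N hz⟩ : N) ∈ (n • P2 : Sylow p N) := by rw [hn]; exact hz
    obtain ⟨w, hw, hwe⟩ := h1
    have h2 : z = (n : G) * w * (n : G)⁻¹ := congrArg Subtype.val hwe.symm
    have h3 : (w : G) * y = y * w :=
      (Subgroup.mem_centralizer_singleton_iff.mp (hS hw.1)).symm ▸ rfl
    rw [h2, hy']
    calc (n : G) * w * (n : G)⁻¹ * ((n : G) * y * (n : G)⁻¹) = n * (w * y) * (n : G)⁻¹ := by group
      _ = n * (y * w) * (n : G)⁻¹ := by rw [h3]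
      _ = _ := by group
  -- both y and y' generate Sylow q-subgroups of the normaliser of P0 in N⟨y⟩
  set M := (N ⊔ Subgroup.zpowers y) ⊓ Subgroup.normalizer (P0 : Set G) with hM
  have hyM : y ∈ M := ⟨Subgroup.mem_sup_right (Subgroup.mem_zpowers y), hQP0 hy⟩
  have hy'M : y' ∈ M := by
    refine ⟨?_, Subgroup.centralizer_le_normalizer _ hy'c⟩
    exact mul_mem (mul_mem (Subgroup.mem_sup_left n.2) (Subgroup.mem_sup_right (Subgroup.mem_zpowers y)))
      (Subgroup.mem_sup_left (N.inv_mem n.2))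
  have hyq : IsPGroup q (Subgroup.zpowers y) := hQ.to_le (Subgroup.zpowers_le.mpr hy)
  obtain ⟨k, hk⟩ := (IsPGroup.iff_card (p := q)).mp hyq
  have hMcard : ¬ q ^ (k + 1) ∣ Nat.card M := by
    intro hd
    have h1 : Nat.card M ∣ Nat.card (N ⊔ Subgroup.zpowers y : Subgroup G) :=
      Subgroup.card_dvd_of_le inf_le_left
    have h2 := CfsgLib.PLocal.card_sup_dvd_mul (Subgroup.zpowers y) N
    rw [sup_comm] at h2
    have h3 : q ^ k * q ∣ q ^ k * Nat.card N := by
      rw [← pow_succ, ← hk]; exact (hd.trans h1).trans h2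
    exact hq (Nat.dvd_of_mul_dvd_mul_left (pow_pos (Fact.out : q.Prime).pos k) h3)
  have hord : orderOf y = q ^ k := by rw [← Nat.card_zpowers]; exact hk
  have hord' : orderOf y' = q ^ k := by
    rw [hy', ← MulAut.conj_apply, MulEquiv.orderOf_eq, hord]
  have mk : ∀ z (hz : z ∈ M), orderOf z = q ^ k →
      ∃ S : Sylow q M, (S : Subgroup M) = Subgroup.zpowers ⟨z, hz⟩ := by
    intro z hz hzo
    have hc : Nat.card (Subgroup.zpowers (⟨z, hz⟩ : M)) = q ^ k := by
      rw [Nat.card_zpowers, Subgroup.orderOf_mk, hzo]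
    refine ⟨(IsPGroup.of_card hc).toSylow ?_, rfl⟩
    intro hd
    apply hMcard
    rw [← (Subgroup.zpowers (⟨z, hz⟩ : M)).card_mul_index, hc, pow_succ]
    exact Nat.mul_dvd_mul_left _ hd
  obtain ⟨Sy, hSy⟩ := mk y hyM hord
  obtain ⟨Sy', hSy'⟩ := mk y' hy'M hord'
  obtain ⟨⟨m, hm⟩, hme⟩ := MulAction.exists_smul_eq M Sy Sy'
  have h4 : m * y * m⁻¹ ∈ Subgroup.centralizer (P0 : Set G) := by
    have h5 : (⟨m, hm⟩ : M) * ⟨y, hyM⟩ * ⟨m, hm⟩⁻¹ ∈ Subgroup.zpowers (⟨y', hy'M⟩ : M) := by
      rw [← hSy', ← hme]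
      exact ⟨⟨y, hyM⟩, hSy ▸ Subgroup.mem_zpowers _, rfl⟩
    obtain ⟨j, hj⟩ := h5
    have h6 : y' ^ j = m * y * m⁻¹ := congrArg Subtype.val hj
    rw [← h6]
    exact Subgroup.zpow_mem _ hy'c j
  rw [Subgroup.mem_centralizer_iff] at h4 ⊢
  intro z hz
  have h7 := h4 (m * z * m⁻¹) ((Subgroup.mem_normalizer_iff.mp hm.2 z).mp hz)
  calc z * y = m⁻¹ * ((m * z * m⁻¹) * (m * y * m⁻¹)) * m := by group
    _ = m⁻¹ * ((m * y * m⁻¹) * (m * z * m⁻¹)) * m := by rw [h7]
    _ = y * z := by group

end aux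

universe u

theorem main (p q : ℕ) [Fact p.Prime] [Fact q.Prime] (n : ℕ) :
    ∀ (G : Type u) [Group G] [Finite G], Nat.card G = n →
      (Cfsg.IsPSolvable p G ∨ Cfsg.IsPSolvable q G) →
      (∀ y : G, (∃ k : ℕ, orderOf y = q ^ k) → ¬ p ∣ (Subgroup.centralizer ({y} : Set G)).index) →
      ∃ (P : Sylow p G) (Q : Sylow q G),
        (P : Subgroup G) ≤ Subgroup.normalizer ((Q : Subgroup G) : Set G) := by
  induction n using Nat.strong_induction_on with
  | _ n ih =>
    intro G _ _ hn hsolv h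
    rcases subsingleton_or_nontrivial G with hG | hG
    · obtain ⟨P⟩ : Nonempty (Sylow p G) := inferInstance
      obtain ⟨Q⟩ : Nonempty (Sylow q G) := inferInstance
      refine ⟨P, Q, fun x _ => ?_⟩
      rw [Subsingleton.elim x 1]
      exact one_mem _
    by_cases hpq : p = q
    · subst hpq
      obtain ⟨P⟩ : Nonempty (Sylow p G) := inferInstance
      exact ⟨P, P, Subgroup.le_normalizer⟩
    -- a nontrivial normal p-group, p'-group or q'-group
    obtain ⟨N, hN, hN1, hNc⟩ : ∃ N : Subgroup G, N.Normal ∧ N ≠ ⊥ ∧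
        (IsPGroup p N ∨ IsPGroup q N ∨ ¬ p ∣ Nat.card N ∨ ¬ q ∣ Nat.card N) := by
      rcases hsolv with hs | hs
      · rcases CfsgLib.PLocal.pCore_ne_bot_or_of_isPSolvable hs with h' | h'
        · exact ⟨_, inferInstance, h', Or.inl (CfsgLib.PLocal.isPGroup_pCore p G)⟩
        · exact ⟨_, inferInstance, h', Or.inr (Or.inr (Or.inl
            (CfsgLib.PLocal.not_dvd_iff_coprime.mp (CfsgLib.PLocal.coprime_card_pPrimeCore p G))))⟩
      · rcases CfsgLib.PLocal.pCore_ne_bot_or_of_isPSolvable hs with h' | h'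
        · exact ⟨_, inferInstance, h', Or.inr (Or.inl (CfsgLib.PLocal.isPGroup_pCore q G))⟩
        · exact ⟨_, inferInstance, h', Or.inr (Or.inr (Or.inr
            (CfsgLib.PLocal.not_dvd_iff_coprime.mp (CfsgLib.PLocal.coprime_card_pPrimeCore q G))))⟩
    have hlt : Nat.card (G ⧸ N) < n := by
      have h1 := N.card_eq_card_quotient_mul_card_subgroup
      have h2 : 1 < Nat.card N := N.one_lt_card_iff_ne_bot.mpr hN1
      have h3 : 0 < Nat.card (G ⧸ N) := Nat.card_pos
      rw [← hn, h1]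
      calc Nat.card (G ⧸ N) = Nat.card (G ⧸ N) * 1 := (mul_one _).symm
        _ < _ := Nat.mul_lt_mul_of_pos_left h2 h3
    have hquot : ∀ y : G ⧸ N, (∃ k : ℕ, orderOf y = q ^ k) →
        ¬ p ∣ (Subgroup.centralizer ({y} : Set (G ⧸ N))).index := by
      rintro y ⟨k, hk⟩ hd
      obtain ⟨S, hS⟩ := (IsPGroup.of_card (p := q) (G := Subgroup.zpowers y) (n := k)
        (by rw [Nat.card_zpowers, hk])).exists_le_sylow
      obtain ⟨Q, hQ⟩ := Sylow.mapSurjective_surjective (QuotientGroup.mk'_surjective N) q S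
      have hy : y ∈ ((Q.mapSurjective (QuotientGroup.mk'_surjective N) : Sylow q (G ⧸ N)) :
          Subgroup (G ⧸ N)) := hQ ▸ hS (Subgroup.mem_zpowers y)
      rw [Sylow.coe_mapSurjective] at hy
      obtain ⟨x, hxQ, rfl⟩ := hy
      obtain ⟨j, hj⟩ := (IsPGroup.iff_card (p := q)).mp (Q.isPGroup'.to_le (Subgroup.zpowers_le.mpr hxQ))
      rw [Nat.card_zpowers] at hj
      refine h x ⟨j, hj⟩ (hd.trans ?_)
      refine (Subgroup.index_dvd_of_le ?_).trans
        (Subgroup.index_map_dvd _ (QuotientGroup.mk'_surjective N))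
      rintro _ ⟨c, hc, rfl⟩
      rw [Subgroup.mem_centralizer_singleton_iff]
      rw [← map_mul, ← map_mul, Subgroup.mem_centralizer_singleton_iff.mp hc]
    obtain ⟨Pb, Qb, hPQ⟩ := ih _ hlt (G ⧸ N) rfl
      (hsolv.imp (fun hs => CfsgLib.PLocal.isPSolvable_quotient hs N)
        (fun hs => CfsgLib.PLocal.isPSolvable_quotient hs N)) hquot
    obtain ⟨P, rfl⟩ := Sylow.mapSurjective_surjective (QuotientGroup.mk'_surjective N) p Pb
    obtain ⟨Q, rfl⟩ := Sylow.mapSurjective_surjective (QuotientGroup.mk'_surjective N) q Qb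
    rw [Sylow.coe_mapSurjective, Sylow.coe_mapSurjective] at hPQ
    set X := ((Q : Subgroup G).map (QuotientGroup.mk' N)).comap (QuotientGroup.mk' N) with hX
    have hQX : (Q : Subgroup G) ≤ X := Subgroup.le_comap_map _ _
    have hXe : X = (Q : Subgroup G) ⊔ N := by
      rw [hX, Subgroup.comap_map_eq, QuotientGroup.ker_mk']
    have hPX : (P : Subgroup G) ≤ Subgroup.normalizer (X : Set G) := by
      intro x hx
      have h1 := hPQ ⟨x, hx, rfl⟩
      rw [Subgroup.mem_normalizer_iff] at h1 ⊢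
      intro z
      rw [hX]
      simp only [Subgroup.mem_comap, map_mul, map_inv]
      exact h1 _
    suffices hidx : ¬ p ∣ (Subgroup.normalizer ((Q : Subgroup G) : Set G)).relIndex X by
      obtain ⟨Q', -, hQ'⟩ :=
        CfsgLib.SylowPairs.exists_normalized_sylow p q P.isPGroup' hPX Q hQX hidx
      exact ⟨P, Q', hQ'⟩
    have hpne : ¬ p ∣ Nat.card (Q : Subgroup G) := by
      obtain ⟨k, hk⟩ := (IsPGroup.iff_card (p := q)).mp Q.isPGroup'
      rw [hk]
      intro hd
      exact hpq ((Nat.prime_dvd_prime_iff_eq Fact.out Fact.out).mp ((Fact.out : p.Prime).dvd_of_dvd_pow hd))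
    rcases hNc with hc | hc | hc | hc
    · have hle : X ≤ Subgroup.normalizer ((Q : Subgroup G) : Set G) := by
        rw [hXe]
        refine sup_le Subgroup.le_normalizer fun x hx => ?_
        apply Subgroup.centralizer_le_normalizer
        rw [Subgroup.mem_centralizer_iff]
        intro y hy
        obtain ⟨j, hj⟩ := (IsPGroup.iff_card (p := q)).mp (Q.isPGroup'.to_le (Subgroup.zpowers_le.mpr hy))
        rw [Nat.card_zpowers] at hj
        obtain ⟨S, hS⟩ := exists_sylow_le (h y ⟨j, hj⟩)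
        have hxS : x ∈ (S : Subgroup G) :=
          CfsgLib.PLocal.pCore_le_sylow S (CfsgLib.PLocal.le_pCore hc hx)
        exact (Subgroup.mem_centralizer_singleton_iff.mp (hS hxS)).symm
      rw [Subgroup.relIndex_eq_one.mpr hle]
      exact (Fact.out : p.Prime).not_dvd_one
    · have hle : N ≤ (Q : Subgroup G) :=
        (CfsgLib.PLocal.le_pCore hc).trans (CfsgLib.PLocal.pCore_le_sylow Q)
      rw [hXe, sup_eq_left.mpr hle, Subgroup.relIndex_eq_one.mpr Subgroup.le_normalizer]
      exact (Fact.out : p.Prime).not_dvd_one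
    · intro hd
      have h1 := hd.trans (Subgroup.relIndex_dvd_card _ _)
      rw [hXe] at h1
      rcases (Fact.out : p.Prime).dvd_mul.mp (h1.trans (CfsgLib.PLocal.card_sup_dvd_mul _ N)) with h2 | h2
      · exact hpne h2
      · exact hc h2
    · obtain ⟨P0, hP0N, hP0i, hQP0⟩ := centralizes_sylow (p := p) N hc (Q : Subgroup G) Q.isPGroup'
        (fun y hy => by
          obtain ⟨j, hj⟩ := (IsPGroup.iff_card (p := q)).mp (Q.isPGroup'.to_le (Subgroup.zpowers_le.mpr hy))
          rw [Nat.card_zpowers] at hj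
          exact h y ⟨j, hj⟩)
      have hP0 : P0 ≤ Subgroup.normalizer ((Q : Subgroup G) : Set G) :=
        (Subgroup.le_centralizer_iff.mp hQP0).trans (Subgroup.centralizer_le_normalizer _)
      intro hd
      have hP0X : P0 ≤ X := by rw [hXe]; exact hP0N.trans le_sup_right
      have h1 := hd.trans (Subgroup.relIndex_dvd_of_le_left X hP0)
      rw [← Subgroup.relIndex_mul_relIndex P0 N X hP0N (by rw [hXe]; exact le_sup_right)] at h1
      rcases (Fact.out : p.Prime).dvd_mul.mp h1 with h2 | h2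
      · exact hP0i h2
      · apply hpne
        refine h2.trans ?_
        rw [hXe, Subgroup.relIndex_sup_right]
        exact Subgroup.relIndex_dvd_card _ _

/-- Let p and q be primes and G a finite group that is p-solvable or q-solvable, in which no q-element has conjugacy class size divisible by p. Then some Sylow p-subgroup of G normalizes some Sylow q-subgroup of G. -/
theorem result {G : Type*} [Group G] [Finite G] (p q : ℕ) [Fact p.Prime] [Fact q.Prime] (hsolv : Cfsg.IsPSolvable p G ∨ Cfsg.IsPSolvable q G)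
    (h : ∀ y : G, (∃ k : ℕ, orderOf y = q ^ k) → ¬ p ∣ (Subgroup.centralizer ({y} : Set G)).index) :
    ∃ (P : Sylow p G) (Q : Sylow q G), (P : Subgroup G) ≤ Subgroup.normalizer ((Q : Subgroup G) : Set G) := by
  exact main p q _ G rfl hsolv h

end Cfsg.Agent.S4601
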