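import Cfsg.Statements.S4602
import Cfsg.Agent.SylowPairs.Basic
import Cfsg.Agent.PLocal.Cores
import Cfsg.Agent.PLocal.PSolvable

set_option autoImplicit false
open Cfsg
open scoped Pointwise

namespace Cfsg.Agent.S4602

/-- Let G be a finite p-solvable group and q a prime different from p. Some Sylow p-subgroup of G normalizes some Sylow q-subgroup of G if and only if q does not divide the order of G/O_{p'}(G), the quotient by the largest normal subgroup of order prime to p. -/
theorem result {G : Type*} [Group G] [Finite G] (p q : ℕ) [Fact p.Prime] [Fact q.Prime] (hpq : p ≠ q) (hsolv : Cfsg.IsPSolvable p G) :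
    (∃ (P : Sylow p G) (Q : Sylow q G), (P : Subgroup G) ≤ Subgroup.normalizer ((Q : Subgroup G) : Set G)) ↔ ¬ q ∣ (Cfsg.pPrimeCore p G).index := by
  set K := Cfsg.pPrimeCore p G with hK
  constructor
  · rintro ⟨P, Q, hPQ⟩ hd
    set π := QuotientGroup.mk' K
    have hπ := QuotientGroup.mk'_surjective K
    have hs := CfsgLib.PLocal.isPSolvable_quotient hsolv K
    have hO : pPrimeCore p (G ⧸ K) = ⊥ := CfsgLib.PLocal.pPrimeCore_quotient_pPrimeCore_eq_bot p G
    set R := pCore p (G ⧸ K) with hR
    have hRP : R ≤ (P : Subgroup G).map π := by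
      have := CfsgLib.PLocal.pCore_le_sylow (P.mapSurjective hπ)
      rwa [Sylow.coe_mapSurjective] at this
    have hdisj : R ⊓ (Q : Subgroup G).map π = ⊥ := disjoint_iff.mp
      (IsPGroup.disjoint_of_ne p q hpq _ _ (CfsgLib.PLocal.isPGroup_pCore p _) (Q.isPGroup'.map π))
    have hQC : (Q : Subgroup G).map π ≤ Subgroup.centralizer (R : Set (G ⧸ K)) := by
      rintro _ ⟨x, hx, rfl⟩
      rw [Subgroup.mem_centralizer_iff]
      intro r hr
      obtain ⟨u, hu, rfl⟩ := hRP hr
      have h1 : π u * π x * (π u)⁻¹ * (π x)⁻¹ ∈ R ⊓ (Q : Subgroup G).map π := by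
        constructor
        · have : π x * (π u)⁻¹ * (π x)⁻¹ ∈ R :=
            (inferInstance : R.Normal).conj_mem _ (R.inv_mem hr) _
          simpa [mul_assoc] using R.mul_mem hr this
        · refine mul_mem ⟨u * x * u⁻¹, (Subgroup.mem_normalizer_iff.mp (hPQ hu) x).mp hx, by simp⟩
            (Subgroup.inv_mem _ ⟨x, hx, rfl⟩)
      rw [hdisj, Subgroup.mem_bot, mul_inv_eq_one, mul_inv_eq_iff_eq_mul] at h1
      exact h1
    have h2 : (Q : Subgroup G).map π = ⊥ := by
      rw [eq_bot_iff]
      calc (Q : Subgroup G).map π ≤ R ⊓ (Q : Subgroup G).map π :=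
            le_inf (hQC.trans (CfsgLib.PLocal.centralizer_pCore_le hs hO)) le_rfl
        _ = ⊥ := hdisj
    rw [Subgroup.map_eq_bot_iff, QuotientGroup.ker_mk'] at h2
    exact Q.not_dvd_index (hd.trans (Subgroup.index_dvd_of_le h2))
  · intro hq
    obtain ⟨P⟩ : Nonempty (Sylow p G) := inferInstance
    obtain ⟨T⟩ : Nonempty (Sylow q K) := inferInstance
    set Q : Sylow q G := (T.isPGroup'.map K.subtype).toSylow (by
      rw [Subgroup.index_map_subtype]
      exact (Fact.out : q.Prime).not_dvd_mul T.not_dvd_index hq) with hQ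
    obtain ⟨Q', -, hQ'⟩ := CfsgLib.SylowPairs.exists_normalized_sylow p q P.isPGroup' (X := K)
      (by rw [Subgroup.normalizer_eq_top_iff.mpr inferInstance]; exact le_top) Q
      (Subgroup.map_subtype_le _) (fun hd => by
        have := hd.trans (Subgroup.relIndex_dvd_card _ _)
        exact CfsgLib.PLocal.not_dvd_iff_coprime.mp (CfsgLib.PLocal.coprime_card_pPrimeCore p G) this)
    exact ⟨P, Q', hQ'⟩

end Cfsg.Agent.S4602
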