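import Cfsg.Statements.S4604
import Cfsg.Agent.PowerCongruence.Basic

set_option autoImplicit false
open Cfsg CfsgLib.PowerCongruence

namespace Cfsg.Agent.S4604

/-- Let G be a finite group, p a prime and p^a the p-part of the order of G. Let x, y ∈ G and let x′, y′ be their p-regular parts: x′ has order prime to p, commutes with x·x′⁻¹, and x·x′⁻¹ has p-power order (likewise for y). Then x′ and y′ are conjugate in G if and only if for every irreducible character χ of G the algebraic integer χ(x)^(p^a) − χ(y)^(p^a) is p times an algebraic integer. -/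
theorem result {G : Type*} [Group G] [Finite G] (p : ℕ) [Fact p.Prime] (x y x' y' : G)
    (hx : (∃ k : ℕ, orderOf (x * x'⁻¹) = p ^ k) ∧ Commute (x * x'⁻¹) x' ∧ ¬ p ∣ orderOf x')
    (hy : (∃ k : ℕ, orderOf (y * y'⁻¹) = p ^ k) ∧ Commute (y * y'⁻¹) y' ∧ ¬ p ∣ orderOf y') :
    IsConj x' y' ↔ ∀ χ : Cfsg.IrrCharacter G, ∃ γ : Cfsg.AlgInt,
      (χ : G → ℂ) x ^ (p ^ (Nat.card G).factorization p) - (χ : G → ℂ) y ^ (p ^ (Nat.card G).factorization p) = (p : ℂ) * (γ : ℂ) := by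
  set a := (Nat.card G).factorization p with ha
  have hx' := pow_eq_of_regular_part (p := p) hx.1 hx.2.1
  have hy' := pow_eq_of_regular_part (p := p) hy.1 hy.2.1
  have key : ∀ χ : Cfsg.IrrCharacter G, ∀ g : G, ∃ γ : Cfsg.AlgInt,
      (χ : G → ℂ) g ^ p ^ a - (χ : G → ℂ) (g ^ p ^ a) = (p : ℂ) * (γ : ℂ) := fun χ g =>
    pow_congr (CfsgLib.Characters.isCharacter_of_isIrr χ.2) g a
  constructor
  · intro h χ
    obtain ⟨γ, hγ⟩ := key χ x
    obtain ⟨δ, hδ⟩ := key χ y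
    refine ⟨γ - δ, ?_⟩
    obtain ⟨c, hc⟩ := isConj_iff.1 h
    have he : (χ : G → ℂ) (x ^ p ^ a) = (χ : G → ℂ) (y ^ p ^ a) := by
      rw [hx', hy', ← hc, conj_pow]
      exact (CfsgLib.Characters.isClassFunction_of_isIrr χ.2 _ c).symm
    push_cast
    linear_combination hγ - hδ + he
  · intro h
    have hreg : ∀ {z : G}, ¬ p ∣ orderOf z → ¬ p ∣ orderOf (z ^ p ^ a) := fun {z} hz hd =>
      hz (hd.trans (orderOf_pow_dvd _))
    refine isConj_of_pow (a := a) hx.2.2 hy.2.2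
      (isConj_of_congr (hreg hx.2.2) (hreg hy.2.2) fun χ => ?_)
    obtain ⟨γ, hγ⟩ := key χ x
    obtain ⟨δ, hδ⟩ := key χ y
    obtain ⟨ε, hε⟩ := h χ
    rw [hx'] at hγ
    rw [hy'] at hδ
    refine ⟨ε - γ + δ, ?_⟩
    push_cast
    linear_combination hε - hγ + hδ

end Cfsg.Agent.S4604
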