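import Cfsg.Statements.S4606
import Cfsg.Agent.OneClassP.Block

set_option autoImplicit false
set_option linter.style.haveILetI false
open Cfsg

namespace Cfsg.Agent.S4606

/-- Let G be a finite group, p a prime, M a maximal ideal of the algebraic integers containing p, and B a p-block of G with defect group D. Suppose the number of irreducible characters in B exceeds the p-regular rank of B (the number of irreducible Brauer characters in B) by exactly one. If B is the principal block, or if G is p-solvable, then D is elementary abelian. -/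
theorem result {G : Type*} [Group G] [Finite G] (p : ℕ) [Fact p.Prime] (M : Ideal Cfsg.AlgInt) (hM : Cfsg.IsPModular p M) (B : Set (Cfsg.IrrCharacter G)) (hB : Cfsg.IsPBlock M B) (D : Subgroup G) (hD : Cfsg.IsDefectGroup p M B D)
    (hk : Nat.card B = Cfsg.blockRank p B + 1) (hB0 : B = Cfsg.principalBlock M G ∨ Cfsg.IsPSolvable p G) :
    Cfsg.IsElementaryAbelian p D := by
  classical
  haveI : M.IsPrime := CfsgLib.Blocks.IsPModular.isPrime hM
  haveI := CfsgLib.Blocks.charP_res hM
  haveI : IsAlgClosed (CfsgLib.Blocks.Res M) := CfsgLib.BlockPairs.isAlgClosed_res hM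
  letI := Fintype.ofFinite G
  obtain ⟨hDp, hconj, -⟩ := CfsgLib.OneClassP.subsection_data hM hB hD hk
  have hexp : ∀ a ∈ D, a ^ p = 1 := by
    intro a ha
    by_cases ha1 : a = 1
    · rw [ha1, one_pow]
    obtain ⟨k, hk'⟩ := CfsgLib.OneClassP.exists_prime_power hDp ha
    obtain ⟨m, rfl⟩ : ∃ m, k = m + 1 := by
      refine ⟨k - 1, (Nat.succ_pred_eq_of_ne_zero fun h0 => ha1 ?_).symm⟩
      rw [h0, pow_zero] at hk'
      exact orderOf_eq_one_iff.1 hk'
    have hb : orderOf (a ^ p ^ m) = p := by
      rw [orderOf_pow' a (pow_ne_zero _ (Fact.out : p.Prime).ne_zero), hk',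
        Nat.gcd_eq_right (pow_dvd_pow p (Nat.le_succ m)), Nat.pow_div (Nat.le_succ m)
          (Fact.out : p.Prime).pos, Nat.succ_eq_add_one, Nat.add_sub_cancel_left, pow_one]
    have hb1 : a ^ p ^ m ≠ 1 := fun h => by
      rw [h, orderOf_one] at hb
      exact (Fact.out : p.Prime).ne_one hb.symm
    obtain ⟨g, hg⟩ := isConj_iff.1 (hconj _ (pow_mem ha _) a ha hb1 ha1)
    have hbp : (a ^ p ^ m) ^ p = 1 := orderOf_dvd_iff_pow_eq_one.1 (dvd_of_eq hb)
    rw [← hg, conj_pow, hbp, mul_one, mul_inv_cancel]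
  have hcomm : ∀ a ∈ D, ∀ b ∈ D, a * b = b * a := by
    rcases hB0 with rfl | hsolv
    · by_cases hp2 : p = 2
      · subst hp2
        intro a ha b hb
        have hinv : ∀ x ∈ D, x⁻¹ = x := fun x hx =>
          inv_eq_of_mul_eq_one_right (by rw [← pow_two]; exact hexp x hx)
        have h := hinv _ (mul_mem ha hb)
        rw [mul_inv_rev, hinv a ha, hinv b hb] at h
        exact h.symm
      · exact CfsgLib.OneClassP.comm_of_principal hM hp2 hD hk
    · exact CfsgLib.OneClassP.comm_of_pSolvable hsolv hDp hconj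
  exact ⟨⟨⟨fun x y => Subtype.ext (hcomm x x.2 y y.2)⟩⟩, hexp⟩

end Cfsg.Agent.S4606
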