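import Cfsg.Statements.S4608
import Cfsg.Agent.SmallBlock.Five.Counting
import Cfsg.Agent.SmallBlock.Five.Abelian

set_option autoImplicit false
open Cfsg

namespace Cfsg.Agent.S4608

/-- Let G be a finite group, p a prime, M a maximal ideal of the algebraic integers containing p, and B a p-block of G with defect group D. If B has p-regular rank one and exactly five irreducible characters, then D is cyclic of order 5, or D has order 8 and is non-abelian (dihedral or quaternion). -/
theorem result {G : Type*} [Group G] [Finite G] (p : ℕ) [Fact p.Prime] (M : Ideal Cfsg.AlgInt) (hM : Cfsg.IsPModular p M) (B : Set (Cfsg.IrrCharacter G)) (hB : Cfsg.IsPBlock M B) (D : Subgroup G) (hD : Cfsg.IsDefectGroup p M B D)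
    (hl : Cfsg.blockRank p B = 1) (hk : Nat.card B = 5) :
    (Nat.card D = 5) ∨ (Nat.card D = 8 ∧ ¬ IsMulCommutative D) := by
  classical
  haveI := Fintype.ofFinite G
  haveI := CfsgLib.Blocks.IsPModular.isPrime hM
  have hp : p.Prime := Fact.out
  have hDc := CfsgLib.Blocks.card_defectGroup hM hB hD
  rcases CfsgLib.SmallBlock.Five.pow_defect_cases hM hB hl hk with h5 | h8
  · exact Or.inl (hDc.trans h5)
  · refine Or.inr ⟨hDc.trans h8, fun hcm => ?_⟩
    haveI := hcm
    obtain rfl : p = 2 := by
      have hd : Cfsg.blockDefect p B ≠ 0 := fun h0 => by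
        rw [h0, pow_zero] at h8
        norm_num at h8
      have h2 : p ∣ 2 ^ 3 := by
        have := dvd_pow_self p hd
        rw [h8] at this
        simpa using this
      exact (Nat.prime_dvd_prime_iff_eq hp Nat.prime_two).1 (hp.dvd_of_dvd_pow h2)
    have hcomm : ∀ x ∈ D, ∀ y ∈ D, x * y = y * x := fun x hx y hy =>
      congrArg Subtype.val (mul_comm' (⟨x, hx⟩ : D) ⟨y, hy⟩)
    haveI := CfsgLib.Blocks.charP_res hM
    haveI := CfsgLib.BlockPairs.isAlgClosed_res hM
    have hab := CfsgLib.InertialQuotient.le_centralizer_of_comm hcomm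
    obtain ⟨c, hc⟩ := CfsgLib.AbelianDefect.exists_root_block hM hB hD hcomm
    obtain ⟨-, hmax⟩ := CfsgLib.InertialQuotient.maxPair_of_induced hM hD hab hc
    exact CfsgLib.SmallBlock.Five.not_five_of_abelian hM hB hmax hab (hDc.trans h8) hl hk

end Cfsg.Agent.S4608
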