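import Cfsg.Statements.S4611
import Cfsg.Agent.PrincipalBlock.Basic
import Cfsg.Agent.PLocal.Constraint

set_option autoImplicit false
open Cfsg CfsgLib.Blocks CfsgLib.PrincipalBlock

namespace Cfsg.Agent.S4611

/-- Let G be a finite solvable group and π a nonempty set of primes, each dividing the order of G; fix for each p in π a maximal ideal M p of the algebraic integers containing p. Then the only irreducible character lying in the principal p-block for every p in π is the principal character if and only if G is generated by the subgroups O_{p'}(G), p in π (the largest normal subgroups of order prime to p). -/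
theorem result {G : Type*} [Group G] [Finite G] [Group.IsSolvable G] (π : Set ℕ) (hπ : ∀ p ∈ π, p.Prime ∧ p ∣ Nat.card G) (hne : π.Nonempty) (M : ℕ → Ideal Cfsg.AlgInt) (hM : ∀ p ∈ π, Cfsg.IsPModular p (M p)) :
    (∀ χ : Cfsg.IrrCharacter G, (∀ p ∈ π, χ ∈ Cfsg.principalBlock (M p) G) → (χ : G → ℂ) = fun _ => 1) ↔
      ⨆ p ∈ π, Cfsg.pPrimeCore p G = ⊤ := by
  classical
  haveI := Fintype.ofFinite G
  set N := ⨆ p ∈ π, Cfsg.pPrimeCore p G with hN
  constructor
  · intro h
    haveI : N.Normal := by
      rw [hN]
      refine ⟨fun x hx g => ?_⟩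
      have hle : ∀ p ∈ π, (pPrimeCore p G).map (MulAut.conj g).toMonoidHom ≤ N := fun p hp =>
        (Subgroup.characteristic_iff_map_le.mp inferInstance (MulAut.conj g)).trans
          (le_biSup (fun p => pPrimeCore p G) hp)
      have : N.map (MulAut.conj g).toMonoidHom ≤ N := by
        rw [hN]
        simp only [Subgroup.map_iSup]
        exact iSup₂_le hle
      exact this ⟨x, hx, rfl⟩
    have hall : ∀ χ : IrrCharacter G, N ≤ charKer χ → χ = trivChar G := by
      intro χ hχ
      apply Subtype.ext
      refine h χ fun p hp => ?_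
      haveI : M p |>.IsPrime := (hM p hp).2.1.isPrime
      haveI : Fact p.Prime := ⟨(hπ p hp).1⟩
      have hcon := CfsgLib.PLocal.isPConstrained_of_isPSolvable
        (CfsgLib.PLocal.isPSolvable_of_isSolvable (p := p) (G := G))
      obtain ⟨P⟩ : Nonempty (Sylow p (pPrimePCore p G)) := inferInstance
      refine mem_principalBlock_of_ker (hM p hp) (pPrimeCore p G)
        ((P : Subgroup (pPrimePCore p G)).map (pPrimePCore p G).subtype) (pPrimePCore p G)
        (CfsgLib.PLocal.not_dvd_iff_coprime.mp (CfsgLib.PLocal.coprime_card_pPrimeCore p G))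
        (P.isPGroup'.map _) (by rw [sup_comm]; exact CfsgLib.PLocal.sylow_pPrimePCore_sup P) (hcon P)
        ((le_biSup (fun p => pPrimeCore p G) hp).trans hχ)
    -- expand the indicator of N in irreducible characters
    set θ : G → ℂ := fun g => if g ∈ N then 1 else 0 with hθ
    have hcl : Cfsg.IsClassFunction G θ := by
      intro g x
      simp only [hθ]
      refine if_congr ⟨fun h1 => ?_, fun h1 => Subgroup.Normal.conj_mem ‹_› _ h1 x⟩ rfl rfl
      simpa [mul_assoc] using Subgroup.Normal.conj_mem' ‹_› _ h1 x
    have hexp := CfsgLib.Characters.classFunction_expansion hcl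
    rw [eq_top_iff]
    intro g _
    have h1 : θ g = θ 1 := by
      rw [hexp]
      simp only [Finset.sum_apply, Pi.smul_apply, smul_eq_mul]
      refine Finset.sum_congr rfl fun χ _ => ?_
      by_cases hχ : N ≤ charKer χ
      · rw [hall χ hχ]; simp
      · have h0 : Cfsg.classInner θ (χ : G → ℂ) = 0 := by
          simp only [Cfsg.classInner, hθ]
          have := congrArg (starRingEnd ℂ) (sum_normal_eq_zero N χ hχ)
          simp only [map_sum, map_zero, apply_ite (starRingEnd ℂ)] at this
          simp only [ite_mul, one_mul, zero_mul, this, mul_zero]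
        rw [h0]; simp
    by_contra hne
    simp [hθ, hne] at h1
  · intro hN' χ hχ
    have hle : N ≤ charKer χ := by
      rw [hN]
      refine iSup₂_le fun p hp => ?_
      haveI : M p |>.IsPrime := (hM p hp).2.1.isPrime
      haveI : Fact p.Prime := ⟨(hπ p hp).1⟩
      exact le_charKer_of_mem (hM p hp) _
        (CfsgLib.PLocal.not_dvd_iff_coprime.mp (CfsgLib.PLocal.coprime_card_pPrimeCore p G)) (hχ p hp)
    rw [hN', top_le_iff] at hle
    rw [eq_trivChar_of_charKer_eq_top hle]
    rfl

end Cfsg.Agent.S4611
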