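import Cfsg.Statements.S4620
-- import your own Cfsg.Agent.* helpers here

set_option autoImplicit false
open scoped Pointwise
open Cfsg
open scoped Pointwise

namespace Cfsg.Agent.S4620

section aux

variable {H : Type*} [Group H] [Finite H] {p : ℕ} [Fact p.Prime]

/-- In a group with trivial-intersection Sylow subgroups, two Sylow subgroups with a common
nontrivial element are equal. -/
theorem sylow_eq_of_common (P : Sylow p H)
    (hTI : ∀ g : H, g ∉ Subgroup.normalizer ((P : Subgroup H) : Set H) →
      (P : Subgroup H) ⊓ (MulAut.conj g • (P : Subgroup H)) = ⊥)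
    (S T : Sylow p H) {x : H} (hxS : x ∈ S) (hxT : x ∈ T) (hx : x ≠ 1) : S = T := by
  obtain ⟨a, rfl⟩ := MulAction.exists_smul_eq H P S
  obtain ⟨b, rfl⟩ := MulAction.exists_smul_eq H P T
  have hA : a⁻¹ * x * a ∈ (P : Subgroup H) := by
    have h := Subgroup.mem_pointwise_smul_iff_inv_smul_mem.mp hxS
    simpa [MulAut.smul_def] using h
  have hB : b⁻¹ * x * b ∈ (P : Subgroup H) := by
    have h := Subgroup.mem_pointwise_smul_iff_inv_smul_mem.mp hxT
    simpa [MulAut.smul_def] using h
  have hn : a⁻¹ * b ∈ Subgroup.normalizer ((P : Subgroup H) : Set H) := by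
    by_contra hn
    have h1 : a⁻¹ * x * a ∈ (P : Subgroup H) ⊓ (MulAut.conj (a⁻¹ * b) • (P : Subgroup H)) := by
      refine ⟨hA, ?_⟩
      refine ⟨b⁻¹ * x * b, hB, ?_⟩
      simp [mul_assoc]
    rw [hTI _ hn, Subgroup.mem_bot] at h1
    apply hx
    calc x = a * (a⁻¹ * x * a) * a⁻¹ := by group
      _ = 1 := by rw [h1]; simp
  have h2 : (a⁻¹ * b) • P = P := Sylow.smul_eq_iff_mem_normalizer.mpr hn
  calc a • P = a • ((a⁻¹ * b) • P) := by rw [h2]
    _ = b • P := by rw [smul_smul, mul_inv_cancel_left]

/-- A subgroup containing a `p`-element in common with the Sylow subgroup `S`, centralised by `y`,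
forces `y` to normalise `S`. -/
theorem mem_normalizer_of_commute (P : Sylow p H)
    (hTI : ∀ g : H, g ∉ Subgroup.normalizer ((P : Subgroup H) : Set H) →
      (P : Subgroup H) ⊓ (MulAut.conj g • (P : Subgroup H)) = ⊥)
    (S : Sylow p H) {x y : H} (hxS : x ∈ S) (hx : x ≠ 1) (hc : y * x = x * y) :
    y ∈ Subgroup.normalizer ((S : Subgroup H) : Set H) := by
  refine Sylow.smul_eq_iff_mem_normalizer.mp ?_
  refine sylow_eq_of_common P hTI _ _ (x := x) ?_ hxS hx
  refine ⟨x, hxS, ?_⟩
  simp [hc]

/-- A `p`-element normalising a Sylow subgroup lies in it. -/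
theorem mem_of_order_normalizer (S : Sylow p H) {x : H} (hx : IsPGroup p (Subgroup.zpowers x))
    (hn : x ∈ Subgroup.normalizer ((S : Subgroup H) : Set H)) : x ∈ (S : Subgroup H) := by
  have h := IsPGroup.to_sup_of_normal_right' hx S.isPGroup'
    (Subgroup.zpowers_le.mpr hn)
  have := S.is_maximal' h le_sup_right
  rw [← this]
  exact Subgroup.mem_sup_left (Subgroup.mem_zpowers x)

/-- Conjugation preserves being a `p`-element. -/
theorem conj_pgroup {x : H} (hx : IsPGroup p (Subgroup.zpowers x)) (g : H) :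
    IsPGroup p (Subgroup.zpowers (g * x * g⁻¹)) := by
  have h := hx.map (MulAut.conj g).toMonoidHom
  rw [MonoidHom.map_zpowers] at h
  exact h

/-- A subgroup of order divisible by `p` has a nontrivial element inside some Sylow subgroup. -/
theorem exists_in_sylow {K : Subgroup H} (h : p ∣ Nat.card K) :
    ∃ x ∈ K, x ≠ 1 ∧ IsPGroup p (Subgroup.zpowers x) ∧ ∃ S : Sylow p H, x ∈ S := by
  obtain ⟨⟨x, hxK⟩, hx⟩ := exists_prime_orderOf_dvd_card' p h
  rw [Subgroup.orderOf_mk] at hx
  have hp : IsPGroup p (Subgroup.zpowers x) :=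
    IsPGroup.of_card (n := 1) (by rw [Nat.card_zpowers, hx, pow_one])
  obtain ⟨S, hS⟩ := hp.exists_le_sylow
  refine ⟨x, hxK, ?_, hp, S, hS (Subgroup.mem_zpowers x)⟩
  rintro rfl
  rw [orderOf_one] at hx
  exact (Fact.out : p.Prime).one_lt.ne hx

/-- The join of two subgroups, one normalising the other, has order dividing the product. -/
theorem coprime_sup {A B : Subgroup H} (hn : B ≤ Subgroup.normalizer (A : Set H))
    (hA : (Nat.card A).Coprime p) (hB : (Nat.card B).Coprime p) :
    (Nat.card (A ⊔ B : Subgroup H)).Coprime p := by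
  have h1 : A.relIndex (A ⊔ B) ∣ Nat.card B := by
    set M := Subgroup.normalizer (A : Set H) with hM
    have hA' : A ≤ M := Subgroup.le_normalizer
    haveI : (A.subgroupOf M).Normal := Subgroup.normal_in_normalizer
    rw [← Subgroup.relIndex_subgroupOf (sup_le hA' hn), Subgroup.subgroupOf_sup hA' hn,
      Subgroup.relIndex_sup_left, Subgroup.relIndex_subgroupOf hn]
    exact Subgroup.relIndex_dvd_card _ _
  have h2 : Nat.card A * A.relIndex (A ⊔ B) = Nat.card (A ⊔ B : Subgroup H) := by
    rw [← Subgroup.relIndex_bot_left, ← Subgroup.relIndex_bot_left,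
      Subgroup.relIndex_mul_relIndex _ _ _ bot_le le_sup_left]
  rw [← h2]
  exact Nat.Coprime.mul_left hA (hB.coprime_dvd_left h1)

end aux

/-- Let H be a finite group with no nontrivial normal p-subgroup and no nontrivial normal subgroup of order prime to p, whose Sylow p-subgroup P is nontrivial and a trivial-intersection set (P meets its conjugates by elements outside N_H(P) trivially). Then H has a unique minimal normal subgroup N; N is non-abelian simple with trivial centralizer in H (so H embeds in Aut(N)), and a Sylow p-subgroup of N is again a nontrivial trivial-intersection set in N. -/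
theorem result {H : Type*} [Group H] [Finite H] (p : ℕ) [Fact p.Prime] (hOp : Cfsg.pCore p H = ⊥) (hOp' : Cfsg.pPrimeCore p H = ⊥) (P : Sylow p H) (hP1 : (P : Subgroup H) ≠ ⊥)
    (hTI : ∀ g : H, g ∉ Subgroup.normalizer ((P : Subgroup H) : Set H) → (P : Subgroup H) ⊓ (MulAut.conj g • (P : Subgroup H)) = ⊥) :
    ∃ N : Subgroup H, N.Normal ∧ N ≠ ⊥ ∧ (∀ K : Subgroup H, K.Normal → K ≠ ⊥ → N ≤ K) ∧
      IsSimpleGroup N ∧ ¬ IsMulCommutative N ∧ Subgroup.centralizer (N : Set H) = ⊥ ∧
      ∀ Q : Sylow p N, (Q : Subgroup N) ≠ ⊥ ∧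
        ∀ n : N, n ∉ Subgroup.normalizer ((Q : Subgroup N) : Set N) → (Q : Subgroup N) ⊓ (MulAut.conj n • (Q : Subgroup N)) = ⊥ := by
  classical
  have hdiv : ∀ K : Subgroup H, K.Normal → K ≠ ⊥ → p ∣ Nat.card K := by
    intro K hK hK1
    by_contra hn
    apply hK1
    rw [eq_bot_iff, ← hOp']
    exact le_sSup ⟨hK, ((Fact.out : p.Prime).coprime_iff_not_dvd.mpr hn).symm⟩
  -- a normal subgroup normalising a Sylow subgroup is trivial
  have hL : ∀ (Y : Subgroup H) (S : Sylow p H), Y.Normal →
      Y ≤ Subgroup.normalizer ((S : Subgroup H) : Set H) → Y = ⊥ := by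
    intro Y S hY hYS
    by_contra hne
    have hnorm : (Y ⊓ (S : Subgroup H)).Normal := by
      refine ⟨fun x hx g => ⟨hY.conj_mem x hx.1 g, mem_of_order_normalizer S ?_ (hYS (hY.conj_mem x hx.1 g))⟩⟩
      exact conj_pgroup (S.isPGroup'.to_le (Subgroup.zpowers_le.mpr hx.2)) g
    have h1 : Y ⊓ (S : Subgroup H) = ⊥ := by
      rw [eq_bot_iff, ← hOp]
      exact le_sSup ⟨hnorm, S.isPGroup'.to_le inf_le_right⟩
    obtain ⟨x, hxY, hx1, hxp, -⟩ := exists_in_sylow (hdiv Y hY hne)
    have : x ∈ Y ⊓ (S : Subgroup H) := ⟨hxY, mem_of_order_normalizer S hxp (hYS hxY)⟩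
    rw [h1, Subgroup.mem_bot] at this
    exact hx1 this
  have hnt : Nontrivial H := by
    by_contra hn
    rw [not_nontrivial_iff_subsingleton] at hn
    exact hP1 (Subsingleton.elim _ _)
  obtain ⟨N, hN, hNmin⟩ := Set.Finite.exists_minimal
    (Set.toFinite {K : Subgroup H | K.Normal ∧ K ≠ ⊥}) ⟨⊤, inferInstance, by simp⟩
  obtain ⟨hNn, hN1⟩ := hN
  have hCn : (Subgroup.centralizer (N : Set H)).Normal := inferInstance
  have hC : Subgroup.centralizer (N : Set H) = ⊥ := by
    obtain ⟨x, hxN, hx1, -, S, hxS⟩ := exists_in_sylow (hdiv N hNn hN1)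
    refine hL _ S hCn fun y hy => mem_normalizer_of_commute P hTI S hxS hx1 ?_
    exact (Subgroup.mem_centralizer_iff.mp hy x hxN).symm
  have hnab : ¬ IsMulCommutative N := by
    intro hc
    apply hN1
    rw [eq_bot_iff, ← hC]
    intro x hx
    rw [Subgroup.mem_centralizer_iff]
    intro y hy
    exact congrArg Subtype.val (hc.is_comm.comm (⟨y, hy⟩ : N) ⟨x, hx⟩)
  have huniq : ∀ K : Subgroup H, K.Normal → K ≠ ⊥ → N ≤ K := by
    intro K hK hK1
    by_cases hb : N ⊓ K = ⊥
    · exfalso
      apply hK1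
      rw [eq_bot_iff, ← hC]
      intro x hx
      rw [Subgroup.mem_centralizer_iff]
      intro y hy
      exact (Subgroup.commute_of_normal_of_disjoint N K hNn hK (disjoint_iff.mpr hb) y x hy hx).eq
    · exact (hNmin ⟨Subgroup.normal_inf_normal N K, hb⟩ inf_le_left).trans inf_le_right
  refine ⟨N, hNn, hN1, huniq, ?_, hnab, hC, ?_⟩
  · haveI : Nontrivial N := (Subgroup.nontrivial_iff_ne_bot N).mpr hN1
    refine ⟨fun M hM => ?_⟩
    by_contra hMne
    push_neg at hMne
    obtain ⟨hMb, hMt⟩ := hMne
    -- a minimal nontrivial subgroup of N normalised by N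
    obtain ⟨A, ⟨hAN, hAn, hA1⟩, hAmin⟩ := Set.Finite.exists_minimal
      (Set.toFinite {A : Subgroup H | A ≤ M.map N.subtype ∧ N ≤ Subgroup.normalizer (A : Set H) ∧ A ≠ ⊥})
      ⟨M.map N.subtype, le_rfl, by
        intro n hn
        rw [Subgroup.mem_normalizer_iff_map_conj_eq]
        haveI := hM
        ext x
        constructor
        · rintro ⟨_, ⟨m, hm, rfl⟩, rfl⟩
          exact ⟨⟨n, hn⟩ * m * ⟨n, hn⟩⁻¹, hM.conj_mem m hm _, by simp⟩
        · rintro ⟨m, hm, rfl⟩
          exact ⟨_, ⟨⟨n, hn⟩⁻¹ * m * ⟨n, hn⟩, hM.conj_mem' m hm _, rfl⟩, by simp [mul_assoc]⟩,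
        by simpa [Subgroup.map_eq_bot_iff_of_injective M N.subtype_injective] using hMb⟩
    have hAN' : A ≤ N := hAN.trans (Subgroup.map_subtype_le M)
    have hAnormal : ¬ A.Normal := by
      intro hA
      apply hMt
      have h := (huniq A hA hA1).trans hAN
      rw [eq_top_iff]
      intro x _
      obtain ⟨m, hm, hmx⟩ := h x.2
      exact (Subtype.ext hmx) ▸ hm
    -- conjugates of A
    have hconjN : ∀ g : H, MulAut.conj g • A ≤ N := by
      rintro g _ ⟨a, ha, rfl⟩
      exact hNn.conj_mem a (hAN' ha) g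
    have hconjn : ∀ (B : Subgroup H), N ≤ Subgroup.normalizer (B : Set H) → ∀ g : H,
        N ≤ Subgroup.normalizer ((MulAut.conj g • B : Subgroup H) : Set H) := by
      intro B hB g n hn
      rw [Subgroup.mem_normalizer_iff_map_conj_eq]
      have h := Subgroup.mem_normalizer_iff_map_conj_eq.mp (hB (hNn.conj_mem' n hn g))
      change MulAut.conj n • (MulAut.conj g • B) = MulAut.conj g • B
      change MulAut.conj (g⁻¹ * n * g) • B = B at h
      conv_rhs => rw [← h]
      rw [smul_smul, smul_smul, ← map_mul, ← map_mul]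
      congr 2
      group
    have hcomm : ∀ g h : H, MulAut.conj g • A ≠ MulAut.conj h • A →
        ∀ x ∈ MulAut.conj g • A, ∀ y ∈ MulAut.conj h • A, y * x = x * y := by
      intro g h hne x hx y hy
      have hc : x * y * x⁻¹ * y⁻¹ ∈ (MulAut.conj g • A) ⊓ (MulAut.conj h • A) := by
        constructor
        · have := (Subgroup.mem_normalizer_iff.mp (hconjn A hAn g (hconjN h hy)) x⁻¹).mp
            ((MulAut.conj g • A).inv_mem hx)
          have e : x * y * x⁻¹ * y⁻¹ = x * (y * x⁻¹ * y⁻¹) := by group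
          rw [e]
          exact mul_mem hx this
        · have := (Subgroup.mem_normalizer_iff.mp (hconjn A hAn h (hconjN g hx)) y).mp hy
          exact (MulAut.conj h • A).mul_mem this ((MulAut.conj h • A).inv_mem hy)
      -- the pullback of the intersection lies inside A, so is trivial
      have hbot : (MulAut.conj g • A) ⊓ (MulAut.conj h • A) = ⊥ := by
        by_contra hb
        set B : Subgroup H := MulAut.conj g⁻¹ • ((MulAut.conj g • A) ⊓ (MulAut.conj h • A))
          with hBdef
        have hBA : B ≤ A := by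
          rw [hBdef, map_inv, Subgroup.pointwise_smul_subset_iff, inv_inv]
          exact inf_le_left
        have hB : A ≤ B := hAmin ⟨hBA.trans hAN, by
          refine hconjn _ ?_ _
          intro n hn
          have h1 := Subgroup.mem_normalizer_iff_map_conj_eq.mp (hconjn A hAn g hn)
          have h2 := Subgroup.mem_normalizer_iff_map_conj_eq.mp (hconjn A hAn h hn)
          rw [Subgroup.mem_normalizer_iff_map_conj_eq,
            Subgroup.map_inf _ _ _ (MulAut.conj n).injective, h1, h2], by
          intro h0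
          apply hb
          have := congrArg (fun X => (MulAut.conj g⁻¹)⁻¹ • X) h0
          simpa [hBdef] using this⟩ hBA
        have h3 : MulAut.conj g • A ≤ MulAut.conj h • A := by
          rw [hBdef, map_inv, Subgroup.subset_pointwise_smul_iff, inv_inv] at hB
          exact hB.trans inf_le_right
        exact hne (Subgroup.eq_of_le_of_card_ge h3 (le_of_eq (Nat.card_congr
          ((Subgroup.equivSMul (MulAut.conj h) A).symm.trans (Subgroup.equivSMul (MulAut.conj g) A)).toEquiv)))
      rw [hbot, Subgroup.mem_bot, mul_inv_eq_one, mul_inv_eq_iff_eq_mul] at hc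
      exact hc.symm
    have hexn : ∀ g : H, ∃ k : H, MulAut.conj g • A ≠ MulAut.conj k • A := by
      intro g
      by_contra hall
      push_neg at hall
      apply hAnormal
      refine ⟨fun a ha k => ?_⟩
      have h1 : MulAut.conj k • A = A := by
        rw [← hall k, hall 1, map_one, one_smul]
      have h2 : k * a * k⁻¹ ∈ MulAut.conj k • A := ⟨a, ha, by simp⟩
      rwa [h1] at h2
    by_cases hpA : p ∣ Nat.card A
    · obtain ⟨x, hxA, hx1, hxp, S, hxS⟩ := exists_in_sylow hpA
      have hxA' : x ∈ MulAut.conj (1 : H) • A := by simpa using hxA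
      -- a conjugate centralising a nontrivial element of S lies in S
      have hin : ∀ g : H, (∀ y ∈ MulAut.conj g • A, y ∈ Subgroup.normalizer ((S : Subgroup H) : Set H)) →
          MulAut.conj g • A ≤ (S : Subgroup H) := by
        intro g hg
        have hp' : p ∣ Nat.card (MulAut.conj g • A : Subgroup H) :=
          (Nat.card_congr (Subgroup.equivSMul (MulAut.conj g) A).toEquiv) ▸ hpA
        obtain ⟨z, hzA, hz1, hzp, -⟩ := exists_in_sylow hp'
        set D : Subgroup H := MulAut.conj g⁻¹ • ((MulAut.conj g • A) ⊓ (S : Subgroup H)) with hDdef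
        have hDA : D ≤ A := by
          rw [hDdef, map_inv, Subgroup.pointwise_smul_subset_iff, inv_inv]
          exact inf_le_left
        have hD : A ≤ D := hAmin ⟨hDA.trans hAN, by
          refine hconjn _ ?_ _
          intro n hn
          have hmem : ∀ (m : H), m ∈ N → ∀ w ∈ (MulAut.conj g • A) ⊓ (S : Subgroup H),
              m * w * m⁻¹ ∈ (MulAut.conj g • A) ⊓ (S : Subgroup H) := by
            intro m hm w hw
            have hw' := (Subgroup.mem_normalizer_iff.mp (hconjn A hAn g hm) w).mp hw.1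
            exact ⟨hw', mem_of_order_normalizer S
              (conj_pgroup (S.isPGroup'.to_le (Subgroup.zpowers_le.mpr hw.2)) m) (hg _ hw')⟩
          rw [Subgroup.mem_normalizer_iff]
          refine fun w => ⟨hmem n hn w, fun hw => ?_⟩
          simpa [mul_assoc] using hmem n⁻¹ (N.inv_mem hn) _ hw, by
          intro h0
          have := congrArg (fun X => (MulAut.conj g⁻¹)⁻¹ • X) h0
          simp [hDdef] at this
          have hz : z ∈ (MulAut.conj g • A) ⊓ (S : Subgroup H) :=
            ⟨hzA, mem_of_order_normalizer S hzp (hg z hzA)⟩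
          rw [this, Subgroup.mem_bot] at hz
          exact hz1 hz⟩ hDA
        rw [hDdef, map_inv, Subgroup.subset_pointwise_smul_iff, inv_inv] at hD
        exact hD.trans inf_le_right
      obtain ⟨k, hk⟩ := hexn 1
      have hkS : MulAut.conj k • A ≤ (S : Subgroup H) := hin k fun y hy =>
        mem_normalizer_of_commute P hTI S hxS hx1 (hcomm 1 k hk x hxA' y hy)
      have hkne : ∃ z ∈ MulAut.conj k • A, z ≠ 1 :=
        ⟨k * x * k⁻¹, ⟨x, hxA, by simp⟩, by simpa using hx1⟩
      obtain ⟨z, hz, hz1⟩ := hkne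
      have hall : ∀ g : H, MulAut.conj g • A ≤ (S : Subgroup H) := by
        intro g
        by_cases hg : MulAut.conj (1 : H) • A = MulAut.conj g • A
        · exact hin g fun y hy => mem_normalizer_of_commute P hTI S (hkS hz) hz1
            (hcomm k g (fun e => hk (hg.trans e.symm)) z hz y hy)
        · exact hin g fun y hy =>
            mem_normalizer_of_commute P hTI S hxS hx1 (hcomm 1 g hg x hxA' y hy)
      have hK := Subgroup.normalCore_normal (S : Subgroup H)
      have hle : A ≤ (S : Subgroup H).normalCore := by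
        intro a ha g
        exact hall g ⟨a, ha, by simp⟩
      apply hA1
      rw [eq_bot_iff, ← hOp]
      exact hle.trans (le_sSup ⟨hK, S.isPGroup'.to_le (Subgroup.normalCore_le _)⟩)
    · obtain ⟨L, hLle, hLmax⟩ := Set.Finite.exists_le_maximal
        (Set.toFinite {L : Subgroup H | L ≤ N ∧ N ≤ Subgroup.normalizer (L : Set H) ∧ (Nat.card L).Coprime p})
        (show A ∈ _ from ⟨hAN', hAn, ((Fact.out : p.Prime).coprime_iff_not_dvd.mpr hpA).symm⟩)
      obtain ⟨hLN, hLn, hLp⟩ := hLmax.prop
      have hLnormal : L.Normal := by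
        refine ⟨fun a ha g => ?_⟩
        have h' : L ⊔ MulAut.conj g • L ≤ L := by
          refine hLmax.le_of_ge ⟨?_, ?_, ?_⟩ le_sup_left
          · refine sup_le hLN ?_
            rintro _ ⟨b, hb, rfl⟩
            exact hNn.conj_mem b (hLN hb) g
          · exact (le_inf hLn (hconjn L hLn g)).trans
              (Subgroup.normalizer_inf_normalizer_le_normalizer_sup _ _)
          · refine coprime_sup ?_ hLp ?_
            · refine le_trans ?_ hLn
              rintro _ ⟨b, hb, rfl⟩
              exact hNn.conj_mem b (hLN hb) g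
            · rwa [← Nat.card_congr (Subgroup.equivSMul (MulAut.conj g) L).toEquiv]
        exact h' (Subgroup.mem_sup_right ⟨a, ha, by simp⟩)
      apply hA1
      rw [eq_bot_iff, ← hOp']
      exact hLle.trans (le_sSup ⟨hLnormal, hLp⟩)
  · intro Q
    refine ⟨Q.ne_bot_of_dvd_card (hdiv N hNn hN1), fun n hn => ?_⟩
    by_contra hne
    apply hn
    obtain ⟨S, hS⟩ := (Q.isPGroup'.map N.subtype).exists_le_sylow
    obtain ⟨x, hx, hx1⟩ := (Subgroup.bot_or_exists_ne_one _).resolve_left hne
    obtain ⟨y, hy, hyx⟩ := hx.2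
    have hxx : (x : H) ∈ S := hS ⟨x, hx.1, rfl⟩
    have hx1' : (x : H) ≠ 1 := by simpa using hx1
    have hmem : (n : H) ∈ Subgroup.normalizer ((S : Subgroup H) : Set H) := by
      refine Sylow.smul_eq_iff_mem_normalizer.mp ?_
      refine sylow_eq_of_common P hTI _ _ (x := (x : H)) ⟨(y : H), hS ⟨y, hy, rfl⟩, ?_⟩ hxx hx1'
      rw [← hyx]; simp
    have hQS : (S : Subgroup H).comap N.subtype = (Q : Subgroup N) :=
      Q.is_maximal' (S.isPGroup'.comap_of_injective _ N.subtype_injective) (Subgroup.map_le_iff_le_comap.mp hS)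
    rw [Subgroup.mem_normalizer_iff]
    intro w
    rw [← hQS]
    exact Subgroup.mem_normalizer_iff.mp hmem w

end Cfsg.Agent.S4620
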