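import Mathlib
import Cfsg.Statements.S4623
-- import your own Cfsg.Agent.* helpers here

set_option autoImplicit false
open Cfsg

namespace Cfsg.Agent.S4623

open Equiv Subgroup

variable {p : ℕ} [Fact p.Prime] {m r : ℕ}

/-- Translations inside the blocks. -/
def trans' (f : Fin m → ZMod p) : Perm ((Fin m × ZMod p) ⊕ Fin r) :=
  Equiv.sumCongr (Equiv.prodCongrRight fun i => Equiv.addRight (f i)) (Equiv.refl _)

/-- Permutations of the blocks. -/
def blocks : Perm (Fin m) →* Perm ((Fin m × ZMod p) ⊕ Fin r) where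
  toFun π := Equiv.sumCongr (Equiv.prodCongrLeft fun _ => π) (Equiv.refl _)
  map_one' := by ext (⟨i, a⟩ | x) <;> rfl
  map_mul' _ _ := by ext (⟨i, a⟩ | x) <;> rfl

theorem trans'_add (f g : Fin m → ZMod p) :
    trans' (r := r) (f + g) = trans' f * trans' g := by
  ext (⟨i, a⟩ | x)
  · simp [trans', add_comm, add_left_comm]
  · simp [trans']

theorem trans'_zero : trans' (r := r) (0 : Fin m → ZMod p) = 1 := by
  ext (⟨i, a⟩ | x) <;> simp [trans']

theorem blocks_mul_trans' (π : Perm (Fin m)) (f : Fin m → ZMod p) :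
    blocks (r := r) π * trans' f = trans' (f ∘ π.symm) * blocks π := by
  ext (⟨i, a⟩ | x) <;> simp [trans', blocks]

theorem trans'_pow (f : Fin m → ZMod p) : trans' (r := r) f ^ p = 1 := by
  have : ∀ k : ℕ, trans' (r := r) f ^ k = trans' (k • f) := by
    intro k
    induction k with
    | zero => rw [pow_zero, zero_nsmul, trans'_zero]
    | succ k ih => rw [pow_succ, ih, ← trans'_add, succ_nsmul]
  rw [this, show p • f = 0 from funext fun i => by simp, trans'_zero]

/-- The wreath subgroup over a group of block permutations. -/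
def wr (W : Subgroup (Perm (Fin m))) : Subgroup (Perm ((Fin m × ZMod p) ⊕ Fin r)) where
  carrier := {g | ∃ f : Fin m → ZMod p, ∃ π ∈ W, g = trans' f * blocks π}
  one_mem' := ⟨0, 1, one_mem _, by rw [trans'_zero, map_one, one_mul]⟩
  mul_mem' := by
    rintro _ _ ⟨f, π, hπ, rfl⟩ ⟨f', π', hπ', rfl⟩
    refine ⟨f + f' ∘ π.symm, π * π', mul_mem hπ hπ', ?_⟩
    rw [trans'_add, map_mul, mul_assoc (trans' f), ← mul_assoc (blocks π), blocks_mul_trans']
    simp only [mul_assoc]
  inv_mem' := by
    rintro _ ⟨f, π, hπ, rfl⟩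
    refine ⟨(-f) ∘ π, π⁻¹, inv_mem hπ, ?_⟩
    have hneg : (trans' (r := r) f)⁻¹ = trans' (-f) := by
      rw [inv_eq_iff_mul_eq_one, ← trans'_add, add_neg_cancel, trans'_zero]
    rw [mul_inv_rev, ← map_inv, hneg, blocks_mul_trans']
    rfl

theorem card_wr (W : Subgroup (Perm (Fin m))) :
    Nat.card (wr (p := p) (r := r) W) = p ^ m * Nat.card W := by
  have e : (Fin m → ZMod p) × W ≃ wr (p := p) (r := r) W := Equiv.ofBijective
    (fun x => ⟨trans' x.1 * blocks x.2.1, x.1, x.2.1, x.2.2, rfl⟩) ⟨fun x y h => by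
      have h' : trans' (r := r) x.1 * blocks x.2.1 = trans' y.1 * blocks y.2.1 :=
        congrArg Subtype.val h
      have hπ : x.2.1 = y.2.1 := by
        ext i
        have := congrArg (fun g : Perm ((Fin m × ZMod p) ⊕ Fin r) =>
          g (Sum.inl (i, 0))) h'
        simp [trans', blocks] at this
        exact congrArg Fin.val this.1
      refine Prod.ext ?_ (Subtype.ext hπ)
      rw [hπ] at h'
      funext i
      have := congrArg (fun g : Perm ((Fin m × ZMod p) ⊕ Fin r) =>
        g (Sum.inl (i, 0))) (mul_right_cancel h')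
      simpa [trans'] using this,
    fun ⟨g, f, π, hπ, hg⟩ => ⟨(f, ⟨π, hπ⟩), Subtype.ext hg.symm⟩⟩
  rw [← Nat.card_congr e, Nat.card_prod, Nat.card_fun, Nat.card_zmod, Nat.card_fin]

theorem sign_eq_one {α : Type*} [Fintype α] [DecidableEq α] {W : Subgroup (Perm α)} (hp : p ≠ 2)
    (hW : IsPGroup p W) {g : Perm α} (hg : g ∈ W) : Perm.sign g = 1 := by
  obtain ⟨k, hk⟩ := hW ⟨g, hg⟩
  have h1 : Perm.sign g ^ p ^ k = 1 := by
    rw [← map_pow, show g ^ p ^ k = 1 from congrArg Subtype.val hk, map_one]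
  have hodd : Odd (p ^ k) := ((Fact.out : p.Prime).odd_of_ne_two hp).pow
  rcases Int.units_eq_one_or (Perm.sign g) with h | h
  · exact h
  · rw [h, hodd.neg_one_pow] at h1; exact absurd h1 (by decide)

theorem sign_blocks {W : Subgroup (Perm (Fin m))} (hW : IsPGroup p W) {π : Perm (Fin m)}
    (hπ : π ∈ W) : Perm.sign (blocks (p := p) (r := r) π) = 1 := by
  show Perm.sign (Equiv.sumCongr (Equiv.prodCongrLeft fun _ => π) (Equiv.refl _)) = 1
  rw [Perm.sign_sumCongr, Perm.sign_prodCongrLeft, Perm.sign_refl, mul_one, Finset.prod_const,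
    Finset.card_univ, ZMod.card]
  by_cases hp : p = 2
  · subst hp; rw [sq]; exact Int.units_mul_self _
  · rw [sign_eq_one hp hW hπ, one_pow]

/-- `W` is generated by its elements killed by `p`, and so is its even part. -/
def Good (p : ℕ) {α : Type*} [Fintype α] [DecidableEq α] (W : Subgroup (Perm α)) : Prop :=
  W ≤ closure {x | x ∈ W ∧ x ^ p = 1} ∧
    W ⊓ alternatingGroup α ≤ closure {x | x ∈ W ⊓ alternatingGroup α ∧ x ^ p = 1}

theorem good_wr {W : Subgroup (Perm (Fin m))} (hW : IsPGroup p W)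
    (hgen : W ≤ closure {x | x ∈ W ∧ x ^ p = 1}) : Good p (wr (p := p) (r := r) W) := by
  have hlift : ∀ π ∈ W, blocks (p := p) (r := r) π ∈
      closure {x | x ∈ wr (p := p) (r := r) W ⊓ alternatingGroup _ ∧ x ^ p = 1} := by
    intro π hπ
    have hle : (closure {x | x ∈ W ∧ x ^ p = 1}).map (blocks (p := p) (r := r)) ≤
        closure {x | x ∈ wr (p := p) (r := r) W ⊓ alternatingGroup _ ∧ x ^ p = 1} := by
      rw [MonoidHom.map_closure]
      refine closure_mono ?_
      rintro _ ⟨x, ⟨hx, hxp⟩, rfl⟩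
      exact ⟨⟨⟨0, x, hx, by rw [trans'_zero, one_mul]⟩,
        Perm.mem_alternatingGroup.2 (sign_blocks hW hx)⟩, by rw [← map_pow, hxp, map_one]⟩
    exact hle ⟨π, hgen hπ, rfl⟩
  constructor
  · rintro _ ⟨f, π, hπ, rfl⟩
    refine mul_mem (subset_closure ⟨⟨f, 1, one_mem _, by rw [map_one, mul_one]⟩, trans'_pow f⟩)
      (closure_mono ?_ (hlift π hπ))
    rintro x ⟨hx, hxp⟩
    exact ⟨hx.1, hxp⟩
  · rintro _ ⟨⟨f, π, hπ, rfl⟩, hA⟩
    refine mul_mem (subset_closure ⟨⟨⟨f, 1, one_mem _, by rw [map_one, mul_one]⟩, ?_⟩,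
      trans'_pow f⟩) (hlift π hπ)
    have h := Perm.mem_alternatingGroup.1 hA
    rw [map_mul, sign_blocks hW hπ, mul_one] at h
    exact Perm.mem_alternatingGroup.2 h

theorem exists_good (p : ℕ) [Fact p.Prime] (n : ℕ) : ∃ W : Subgroup (Perm (Fin n)),
    Nat.card W = p ^ padicValNat p n.factorial ∧ Good p W := by
  induction n using Nat.strong_induction_on with
  | _ n ih =>
    rcases Nat.eq_zero_or_pos n with rfl | hn
    · refine ⟨⊥, ?_, bot_le, inf_le_left.trans bot_le⟩
      simp
    obtain ⟨W', hc, hg⟩ := ih (n / p) (Nat.div_lt_self hn (Fact.out : p.Prime).one_lt)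
    let e : ((Fin (n / p) × ZMod p) ⊕ Fin (n % p)) ≃ Fin n := Fintype.equivFinOfCardEq (by
      rw [Fintype.card_sum, Fintype.card_prod, Fintype.card_fin, ZMod.card, Fintype.card_fin]
      exact Nat.div_add_mod' n p)
    let Φ : Perm ((Fin (n / p) × ZMod p) ⊕ Fin (n % p)) →* Perm (Fin n) := e.permCongrHom.toMonoidHom
    have hΦ : Function.Injective Φ := e.permCongrHom.injective
    have hsign : ∀ g, Perm.sign (Φ g) = Perm.sign g := fun g => Perm.sign_permCongr e g
    obtain ⟨g1, g2⟩ := good_wr (r := n % p) (IsPGroup.of_card hc) hg.1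
    refine ⟨(wr W').map Φ, ?_, ?_, ?_⟩
    · rw [Nat.card_congr (Subgroup.equivMapOfInjective _ Φ hΦ).toEquiv.symm, card_wr, hc,
        ← pow_add]
      congr 1
      conv_rhs => rw [← Nat.div_add_mod n p]
      rw [padicValNat_factorial_mul_add _ (Nat.mod_lt _ (Fact.out : p.Prime).pos),
        padicValNat_factorial_mul, add_comm]
    · refine (map_mono g1).trans ?_
      rw [MonoidHom.map_closure]
      refine closure_mono ?_
      rintro _ ⟨x, ⟨hx, hxp⟩, rfl⟩
      exact ⟨mem_map_of_mem _ hx, by rw [← map_pow, hxp, map_one]⟩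
    · rintro _ ⟨⟨x, hx, rfl⟩, hA⟩
      have hxA : x ∈ alternatingGroup _ :=
        Perm.mem_alternatingGroup.2 ((hsign x).symm.trans (Perm.mem_alternatingGroup.1 hA))
      have := mem_map_of_mem Φ (g2 ⟨hx, hxA⟩)
      rw [MonoidHom.map_closure] at this
      refine closure_mono ?_ this
      rintro _ ⟨y, ⟨⟨hy, hyA⟩, hyp⟩, rfl⟩
      exact ⟨⟨mem_map_of_mem _ hy, Perm.mem_alternatingGroup.2
        ((hsign y).trans (Perm.mem_alternatingGroup.1 hyA))⟩, by rw [← map_pow, hyp, map_one]⟩

/-- A group generated by elements killed by `p` has elementary abelianization. -/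
theorem pow_mem_commutator {G H : Type*} [Group G] [Group H] (f : H →* G) (hf : Function.Injective f)
    {W : Subgroup G} (hW : f.range = W) {p : ℕ} (h : W ≤ closure {x | x ∈ W ∧ x ^ p = 1}) (x : H) :
    x ^ p ∈ commutator H := by
  let T : Subgroup H := ((powMonoidHom p : Abelianization H →* Abelianization H).comp
    Abelianization.of).ker
  have hT : ∀ y : H, y ∈ T ↔ y ^ p ∈ commutator H := fun y => by
    show Abelianization.of y ^ p = 1 ↔ _
    rw [← map_pow, ← Abelianization.ker_of, MonoidHom.mem_ker]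
  have hle : closure {x | x ∈ W ∧ x ^ p = 1} ≤ T.map f := by
    rw [closure_le]
    rintro y ⟨hy, hyp⟩
    obtain ⟨z, rfl⟩ := hW.symm ▸ hy
    exact ⟨z, (hT z).2 (by
      rw [hf (show f (z ^ p) = f 1 by rw [map_pow, hyp, map_one])]; exact one_mem _), rfl⟩
  obtain ⟨z, hz, hzx⟩ := hle (h (hW ▸ ⟨x, rfl⟩ : f x ∈ W))
  exact (hT x).1 (hf hzx ▸ hz)

/-- For every prime p and every n, a Sylow p-subgroup P of the symmetric group on n letters has P/P' elementary abelian (the p-th power of every element of P lies in the derived subgroup of P), and the same holds for a Sylow p-subgroup of the alternating group on n letters. -/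
theorem result (p : ℕ) [Fact p.Prime] (n : ℕ) (P : Sylow p (Equiv.Perm (Fin n))) (Q : Sylow p (alternatingGroup (Fin n))) :
    (∀ x : (P : Subgroup (Equiv.Perm (Fin n))), x ^ p ∈ commutator (P : Subgroup (Equiv.Perm (Fin n)))) ∧
    (∀ x : (Q : Subgroup (alternatingGroup (Fin n))), x ^ p ∈ commutator (Q : Subgroup (alternatingGroup (Fin n)))) := by
  obtain ⟨W, hWc, hWg, hWA⟩ := exists_good p n
  have hWcard : Nat.card W = p ^ (Nat.card (Equiv.Perm (Fin n))).factorization p := by
    rw [hWc, Nat.card_perm, Nat.card_fin, Nat.factorization_def _ (Fact.out : p.Prime)]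
  let PW : Sylow p (Equiv.Perm (Fin n)) := Sylow.ofCard W hWcard
  have hconj : ∀ P' : Sylow p (Equiv.Perm (Fin n)), ∃ g : Equiv.Perm (Fin n),
      (W.map (MulAut.conj g).toMonoidHom) = (P' : Subgroup (Equiv.Perm (Fin n))) := by
    intro P'
    obtain ⟨g, hg⟩ := MulAction.exists_smul_eq (Equiv.Perm (Fin n)) PW P'
    exact ⟨g, by rw [← hg]; rfl⟩
  refine ⟨?_, ?_⟩
  · obtain ⟨g, hg⟩ := hconj P
    let f : (P : Subgroup (Equiv.Perm (Fin n))) →* Equiv.Perm (Fin n) :=
      (MulAut.conj g⁻¹).toMonoidHom.comp (P : Subgroup (Equiv.Perm (Fin n))).subtype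
    have hr : f.range = W := by
      rw [MonoidHom.range_comp, Subgroup.range_subtype, ← hg, Subgroup.map_map]
      refine (congrArg (Subgroup.map · W) ?_).trans W.map_id
      ext y; simp [mul_assoc]
    exact pow_mem_commutator f ((MulAut.conj g⁻¹).injective.comp Subtype.val_injective) hr hWg
  · obtain ⟨P', hP'⟩ := (Q.isPGroup'.map (alternatingGroup (Fin n)).subtype).exists_le_sylow
    obtain ⟨g, hg⟩ := hconj P'
    let f : (Q : Subgroup (alternatingGroup (Fin n))) →* Equiv.Perm (Fin n) :=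
      ((MulAut.conj g⁻¹).toMonoidHom.comp (alternatingGroup (Fin n)).subtype).comp
        (Q : Subgroup (alternatingGroup (Fin n))).subtype
    have hQ : (P' : Subgroup (Equiv.Perm (Fin n))).subgroupOf (alternatingGroup (Fin n)) =
        (Q : Subgroup (alternatingGroup (Fin n))) := by
      refine Q.is_maximal' ?_ fun y hy => hP' ⟨y, hy, rfl⟩
      exact P'.isPGroup'.comap_subtype
    have hr : f.range = W ⊓ alternatingGroup (Fin n) := by
      ext y
      constructor
      · rintro ⟨z, rfl⟩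
        have hz : ((z : alternatingGroup (Fin n)) : Equiv.Perm (Fin n)) ∈
            W.map (MulAut.conj g).toMonoidHom := hg ▸ hP' ⟨_, z.2, rfl⟩
        obtain ⟨w, hw, hwz⟩ := hz
        have hzA := z.1.2
        refine ⟨?_, ?_⟩
        · show g⁻¹ * _ * g⁻¹⁻¹ ∈ W
          simp only [Subgroup.coe_subtype, ← hwz]
          simpa [mul_assoc] using hw
        · show g⁻¹ * _ * g⁻¹⁻¹ ∈ alternatingGroup (Fin n)
          exact (inferInstance : (alternatingGroup (Fin n)).Normal).conj_mem _ hzA _
      · rintro ⟨hy, hyA⟩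
        have hA' : g * y * g⁻¹ ∈ alternatingGroup (Fin n) :=
          (inferInstance : (alternatingGroup (Fin n)).Normal).conj_mem y hyA g
        have hQ' : (⟨g * y * g⁻¹, hA'⟩ : alternatingGroup (Fin n)) ∈
            (Q : Subgroup (alternatingGroup (Fin n))) := by
          rw [← hQ, Subgroup.mem_subgroupOf, ← hg]
          exact ⟨y, hy, rfl⟩
        exact ⟨⟨_, hQ'⟩, by simp [f, mul_assoc]⟩
    exact pow_mem_commutator f (((MulAut.conj g⁻¹).injective.comp Subtype.val_injective).comp
      Subtype.val_injective) hr hWA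

end Cfsg.Agent.S4623
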