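import Cfsg.Statements.S4624
import Cfsg.Agent.SylowTwoAb.Wreath
import Cfsg.Agent.S2250
import Cfsg.Agent.S0261

set_option autoImplicit false
open Cfsg

namespace Cfsg.Agent.S4624

/-- Let F be a finite field of odd order and n ≥ 1. A Sylow 2-subgroup P of the symplectic group Sp_{2n}(F) has P/P' elementary abelian: the square of every element of P lies in the derived subgroup of P. -/
theorem result {F : Type*} [Field F] [Fintype F] (hF : Odd (Fintype.card F)) (n : ℕ) (hn : 1 ≤ n) (P : Sylow 2 (Matrix.symplecticGroup (Fin n) F)) :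
    ∀ x : (P : Subgroup (Matrix.symplecticGroup (Fin n) F)), x ^ 2 ∈ commutator (P : Subgroup (Matrix.symplecticGroup (Fin n) F)) := by
  classical
  haveI : Fact (Nat.Prime 2) := ⟨Nat.prime_two⟩
  obtain ⟨Q⟩ : Nonempty (Sylow 2 (Matrix.SpecialLinearGroup (Fin 2) F)) := Sylow.nonempty
  obtain ⟨T, hTc, hTg⟩ := CfsgLib.SylowTwoAb.exists_perm_sylow n
  obtain ⟨k, hk, ⟨e⟩⟩ := Cfsg.Agent.S0261.result hF Q
  have hD : CfsgLib.SylowTwoAb.SqComm ↥(Q : Subgroup (Matrix.SpecialLinearGroup (Fin 2) F)) := by
    refine CfsgLib.SylowTwoAb.sqComm_congr e.symm ?_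
    have hc : ∀ i : ZMod (2 * 2 ^ k), QuaternionGroup.a (i + i) ∈ commutator (QuaternionGroup (2 ^ k)) :=
      fun i => by
        have i1 : (QuaternionGroup.xa 0 : QuaternionGroup (2 ^ k))⁻¹ =
            QuaternionGroup.xa ((2 ^ k : ℕ) : ZMod (2 * 2 ^ k)) := by
          apply inv_eq_of_mul_eq_one_right
          rw [QuaternionGroup.xa_mul_xa, QuaternionGroup.one_def, sub_zero, ← Nat.cast_add, ← two_mul,
            ZMod.natCast_self]
        have i2 : (QuaternionGroup.a (-i) : QuaternionGroup (2 ^ k))⁻¹ = QuaternionGroup.a i := by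
          apply inv_eq_of_mul_eq_one_right
          rw [QuaternionGroup.a_mul_a, QuaternionGroup.one_def, neg_add_cancel]
        have h0 : ((2 ^ k : ℕ) : ZMod (2 * 2 ^ k)) + ((2 ^ k : ℕ) : ZMod (2 * 2 ^ k)) = 0 := by
          rw [← Nat.cast_add, ← two_mul, ZMod.natCast_self]
        open scoped commutatorElement in
        have e1 : ⁅(QuaternionGroup.xa 0 : QuaternionGroup (2 ^ k)), (QuaternionGroup.a (-i) : QuaternionGroup (2 ^ k))⁆ = QuaternionGroup.a (i + i) := by
          rw [commutatorElement_def, i1, i2, QuaternionGroup.xa_mul_a, QuaternionGroup.xa_mul_xa,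
            QuaternionGroup.a_mul_a]
          congr 1
          linear_combination h0
        rw [← e1, commutator_def]
        exact Subgroup.commutator_mem_commutator (Subgroup.mem_top _) (Subgroup.mem_top _)
    rintro (i | i)
    · rw [pow_two, QuaternionGroup.a_mul_a]; exact hc i
    · rw [pow_two, QuaternionGroup.xa_mul_xa]
      obtain ⟨j, hj⟩ : ∃ j, k = j + 1 := ⟨k - 1, by omega⟩
      have e2 : ((2 ^ k : ℕ) : ZMod (2 * 2 ^ k)) + i - i = ((2 ^ j : ℕ) : ZMod _) + ((2 ^ j : ℕ) : ZMod _) := by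
        rw [add_sub_cancel_right, ← Nat.cast_add]; congr 1; rw [hj, pow_succ]; ring
      rw [e2]; exact hc _
  let emb : CfsgLib.SylowTwoAb.Wr ↥(Q : Subgroup (Matrix.SpecialLinearGroup (Fin 2) F)) T →*
      Matrix.symplecticGroup (Fin n) F :=
    (Cfsg.Agent.S2250.wreathHom (F := F) (n := n)).comp (SemidirectProduct.map
      ((Subgroup.subtype _).compLeft (Fin n)) T.subtype fun t => rfl)
  have hemb : Function.Injective emb := Cfsg.Agent.S2250.wreathHom_injective.comp fun a b h => by
    have h1 := congrArg SemidirectProduct.left h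
    have h2 := congrArg SemidirectProduct.right h
    exact SemidirectProduct.ext (funext fun i => Subtype.ext (congrFun h1 i)) (Subtype.ext h2)
  refine CfsgLib.SylowTwoAb.sqComm_sylow emb hemb (CfsgLib.SylowTwoAb.sqComm_wr hTg hD) ?_ P
  haveI := Finite.of_injective _ hemb
  refine le_antisymm ?_ (Nat.le_of_dvd Nat.card_pos ?_)
  · have h1 : Nat.card (CfsgLib.SylowTwoAb.Wr ↥(Q : Subgroup (Matrix.SpecialLinearGroup (Fin 2) F)) T) ∣
        Nat.card (Matrix.symplecticGroup (Fin n) F) := by
      rw [Nat.card_congr (MonoidHom.ofInjective hemb).toEquiv]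
      exact Subgroup.card_subgroup_dvd_card _
    rw [SemidirectProduct.card, Nat.card_fun, Nat.card_fin, Q.card_eq_multiplicity, hTc, ← pow_mul,
      ← pow_add] at h1 ⊢
    exact Nat.pow_le_pow_right two_pos
      ((Nat.prime_two.pow_dvd_iff_le_factorization Nat.card_pos.ne').1 h1)
  · rw [SemidirectProduct.card, Nat.card_fun, Nat.card_fin, Q.card_eq_multiplicity, hTc, ← pow_mul,
      ← pow_add]
    refine pow_dvd_pow 2 ((Cfsg.Agent.S2250.factorization_card_le hF).trans (le_of_eq ?_))
    rw [SemidirectProduct.card, Nat.card_fun, Nat.card_fin, Nat.card_perm, Nat.card_fin,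
      Nat.factorization_mul (pow_ne_zero _ Nat.card_pos.ne') (Nat.factorial_ne_zero n),
      Nat.factorization_pow, ← Nat.factorization_def _ Nat.prime_two]
    simp [mul_comm]

end Cfsg.Agent.S4624
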