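import Cfsg.Statements.S4625
import Cfsg.Agent.LieSylowTwo.Classical
import Cfsg.Agent.LieSylowTwo.Exceptional
import Cfsg.Agent.LieSylowTwo.Rank

set_option autoImplicit false
open Cfsg

namespace Cfsg.Agent.S4625

open CfsgLib.LieSylowTwo in
/-- Let G be a finite simple group of Lie type in characteristic 2, not counting the Tits group ²F₄(2)′. Then a Sylow 2-subgroup P of G has P/P' elementary abelian: the square of every element of P lies in the derived subgroup of P. -/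
theorem result {G : Type*} [Group G] [Finite G] [IsSimpleGroup G] (hG : Cfsg.IsLieTypeChar 2 G) (P : Sylow 2 G) :
    ∀ x : (P : Subgroup G), x ^ 2 ∈ commutator (P : Subgroup G) := by
  suffices h : SqComm (P : Subgroup G) from h.mem_commutator
  rcases hG with ⟨F, _, _, _, n, hn, -, ⟨e⟩⟩ | ⟨F, _, _, _, m, hm, -, ⟨e⟩⟩ |
    ⟨F, _, _, _, n, q, hF, hn, -, ⟨e⟩⟩ | ⟨F, _, _, _, m, -, hodd, -⟩ |
    ⟨F, _, _, _, m, hm, ⟨e⟩⟩ | ⟨F, _, _, _, m, a, b, hm, hab, ⟨e⟩⟩ |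
    ⟨F, _, _, _, h⟩ | ⟨K, _, _, _, q, hq, ⟨hK, ⟨e⟩⟩ | ⟨hK, ⟨e⟩⟩⟩ | ⟨-, h⟩ | ⟨-, h⟩ | ⟨h, -⟩
  · exact sqComm_sylow_PSL (by omega) e.symm P
  · exact sqComm_sylow_PSp (by omega) e.symm P
  · exact sqComm_sylow_PSU hF (by omega) e.symm P
  · exfalso
    obtain ⟨k, -, hk⟩ := FiniteField.card F 2
    exact Nat.not_even_iff_odd.2 hodd (hk ▸ Nat.even_pow.2 ⟨even_two, k.ne_zero⟩)
  · exact sqComm_sylow_POmegaPlus m (by omega) e.symm P
  · exact sqComm_sylow_POmegaMinus (m - 1) (by omega) a b hab e.symm P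
  · rcases h with ⟨-, ⟨e⟩⟩ | ⟨⟨e⟩⟩ | ⟨⟨e⟩⟩ | ⟨⟨e⟩⟩ | ⟨⟨e⟩⟩ <;>
      exact sqComm_sylow_chev (by simp) e.symm P
  · exact sqComm_sylow_E6 hq hK e.symm P
  · exact sqComm_sylow_D4 hq hK e.symm P
  · exact sqComm_sylow_suzuki h P
  · exact sqComm_sylow_reeF4 h P
  · exact absurd h (by norm_num)

end Cfsg.Agent.S4625
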