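import Cfsg.Statements.S4626
import Cfsg.Agent.PrincipalBlock.Basic

set_option autoImplicit false
open Cfsg CfsgLib.Blocks CfsgLib.PrincipalBlock
open scoped Pointwise

namespace Cfsg.Agent.S4626

/-- Let G be a finite group, p a prime, M a maximal ideal of the algebraic integers containing p, P a Sylow p-subgroup of G and N a normal subgroup of index prime to p containing the centralizer C_G(P). Then every irreducible character of G whose kernel contains N lies in the principal p-block of G. -/
theorem result {G : Type*} [Group G] [Finite G] (p : ℕ) [Fact p.Prime] (M : Ideal Cfsg.AlgInt) (hM : Cfsg.IsPModular p M) (P : Sylow p G) (N : Subgroup G) [N.Normal] (hidx : ¬ p ∣ N.index)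
    (hC : Subgroup.centralizer ((P : Subgroup G) : Set G) ≤ N) (χ : Cfsg.IrrCharacter G) (hker : ∀ n ∈ N, (χ : G → ℂ) n = (χ : G → ℂ) 1) :
    χ ∈ Cfsg.principalBlock M G := by
  classical
  haveI := Fintype.ofFinite G
  haveI : M.IsPrime := hM.2.1.isPrime
  haveI : Fact p.Prime := ⟨hM.1⟩
  have hN : N ≤ charKer χ := fun n hn => mem_charKer.mpr (hker n hn)
  obtain ⟨d, hd, hdvd⟩ := degree_dvd_index N χ hN
  have hdp : ¬ p ∣ d := fun h => hidx (h.trans hdvd)
  intro g
  by_cases hg : g ∈ N
  · have e : centralChar (fun _ : G => (1 : ℂ)) g - centralChar (χ : G → ℂ) g = 0 := by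
      simp only [centralChar]
      rw [hker g hg, mul_div_assoc, mul_div_assoc, div_self (CfsgLib.Characters.irr_one_ne_zero χ.2)]
      simp
    rw [e]; exact memLocalIdeal_zero
  · have hp : p ∣ (Subgroup.centralizer ({g} : Set G)).index := by
      by_contra hnd
      obtain ⟨R⟩ : Nonempty (Sylow p (Subgroup.centralizer ({g} : Set G))) := inferInstance
      set S := (R.isPGroup'.map (Subgroup.centralizer ({g} : Set G)).subtype).toSylow (by
        rw [Subgroup.index_map_subtype]; exact hM.1.not_dvd_mul R.not_dvd_index hnd) with hS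
      obtain ⟨x, hx⟩ := MulAction.exists_smul_eq G S P
      have : x * g * x⁻¹ ∈ N := by
        refine hC ?_
        rw [Subgroup.mem_centralizer_iff]
        intro s hs
        rw [← hx] at hs
        obtain ⟨t, ht, rfl⟩ := hs
        obtain ⟨u, -, rfl⟩ := ht
        have hu := Subgroup.mem_centralizer_singleton_iff.mp u.2
        show x * (u : G) * x⁻¹ * (x * g * x⁻¹) = x * g * x⁻¹ * (x * (u : G) * x⁻¹)
        calc x * (u : G) * x⁻¹ * (x * g * x⁻¹) = x * ((u : G) * g) * x⁻¹ := by group
          _ = x * (g * (u : G)) * x⁻¹ := by rw [hu]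
          _ = _ := by group
      apply hg
      simpa [mul_assoc] using Subgroup.Normal.conj_mem' ‹N.Normal› _ this x
    have hidl := (memLocalIdeal_natCast_iff hM _).mpr hp
    refine memLocalIdeal_sub ?_ ?_
    · simpa [centralChar] using hidl
    · simp only [centralChar, hd, mul_div_assoc]
      refine memLocalIdeal_mul_right hidl ?_
      rw [div_eq_mul_inv]
      exact (localRing M).mul_mem (memLocalRing_of_isIntegral
        (CfsgLib.Characters.character_isIntegral (CfsgLib.Characters.isCharacter_of_isIrr χ.2) g))
        (memLocalRing_natCast_inv hM hdp)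

end Cfsg.Agent.S4626
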