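import Cfsg.Statements.S4630
import Cfsg.Agent.SylowTwoAb.OrthVal

set_option autoImplicit false
open Cfsg

namespace Cfsg.Agent.S4630

/-- Let F be a finite field of odd order and m ≥ 1 with m even or m ≥ 4. For the commutator subgroup Ω of the isometry group of the plus-type quadratic form Σ_{i<m} x_i y_i in dimension 2m over F, a Sylow 2-subgroup P of Ω has P/P' elementary abelian: the square of every element of P lies in the derived subgroup of P. -/
theorem result {F : Type*} [Field F] [Fintype F] (hF : Odd (Fintype.card F)) (m : ℕ) (hm : 1 ≤ m) (hm' : Even m ∨ 4 ≤ m) (P : Sylow 2 (Cfsg.Omega F (Cfsg.quadFormPlus m F))) : ∀ x : (P : Subgroup (Cfsg.Omega F (Cfsg.quadFormPlus m F))), x ^ 2 ∈ commutator (P : Subgroup (Cfsg.Omega F (Cfsg.quadFormPlus m F))) := by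
  classical
  haveI : Fact (Nat.Prime 2) := ⟨Nat.prime_two⟩
  have h2 := CfsgLib.SylowTwoAb.two_ne_zero_of_odd hF
  have h3 := CfsgLib.SylowTwoAb.three_le_card hF
  have hm2 : 2 ≤ m := by
    rcases hm' with ⟨k, hk⟩ | h <;> omega
  have hne : Fintype.card F ^ m - 1 ≠ 0 := by
    have : 3 ≤ Fintype.card F ^ m := h3.trans (Nat.le_self_pow (by omega) _)
    omega
  obtain ⟨k, rfl⟩ : ∃ k, m = k + 1 := ⟨m - 1, by omega⟩
  have hv : (Nat.card ↥(Cfsg.isometryGroup F ⇑(CfsgLib.StdForms.plusQ (k + 1) F))).factorization 2 =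
      1 + padicValNat 2 (Fintype.card F ^ (k + 1) - 1) + k * padicValNat 2 (Fintype.card F ^ 2 - 1) +
        padicValNat 2 k.factorial := by
    rw [Nat.factorization_def _ Nat.prime_two, CfsgLib.StdForms.coe_plusQ,
      CfsgLib.Forms4.card_isometryGroup_quadFormPlus rfl (k + 1) (by omega), Nat.add_sub_cancel]
    exact CfsgLib.SylowTwoAb.val_card_even_aux hF _ hne
  have hsum := CfsgLib.SylowTwoAb.val_plus_add_minus hF h3 (m := k + 1) (by omega)
  revert P
  rw [← CfsgLib.StdForms.coe_plusQ]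
  intro P
  rcases CfsgLib.SylowTwoAb.pow_mod_four hF (k + 1) with ⟨h4, -⟩ | ⟨h4, ho, -⟩
  · refine CfsgLib.SylowTwoAb.sqComm_omega h2 (CfsgLib.StdForms.plusQ_nondegenerate _) (m := k + 1)
      hm2 (fun i : Fin 0 => i.elim0) (fun i => i.elim0) (by simp; omega) ?_ ?_ P
    · simpa using CfsgLib.SylowTwoAb.disc_plus (m := k + 1) h2
        (X := 1) (by rw [mul_one]; exact (CfsgLib.SylowTwoAb.isSquare_neg_one_pow hF).2 h4)
    · rw [hv, CfsgLib.SylowTwoAb.val_card_plane hF, Nat.factorial_succ,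
        padicValNat.mul k.succ_ne_zero k.factorial_ne_zero, Nat.succ_eq_add_one, add_mul, one_mul]
      have := CfsgLib.SylowTwoAb.val_of_mod_four (n := Fintype.card F ^ (k + 1) + 1) (by omega)
      omega
  · have hk2 : 2 ≤ k := by
      obtain ⟨j, hj⟩ := ho
      rcases hm' with ⟨l, hl⟩ | h <;> omega
    refine CfsgLib.SylowTwoAb.sqComm_omega h2 (CfsgLib.StdForms.plusQ_nondegenerate _) (m := k)
      hk2 ![1, (-1 : F) ^ (k + 1)] (fun i => by fin_cases i <;> simp) (by simp; omega) ?_ ?_ P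
    · have := CfsgLib.SylowTwoAb.disc_plus (m := k + 1) h2 (X := (-1 : F) ^ (k + 1)) (by simp [← mul_pow])
      simpa [Fin.prod_univ_two, show 2 * (k + 1) = 2 * k + 2 by ring] using this
    · rw [hv, CfsgLib.SylowTwoAb.val_card_plane hF,
        CfsgLib.SylowTwoAb.val_of_mod_four (n := Fintype.card F ^ (k + 1) - 1) (by omega)]
      omega

end Cfsg.Agent.S4630
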