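import Cfsg.Statements.S4631
import Cfsg.Agent.SylowTwoAb.OrthVal

set_option autoImplicit false
open Cfsg

namespace Cfsg.Agent.S4631

/-- Let F be a finite field of odd order, m ≥ 4, and a, b ∈ F with z₁² + a z₁ z₂ + b z₂² anisotropic. For the commutator subgroup Ω of the isometry group of the minus-type quadratic form Σ_{i<m−1} x_i y_i + (z₁² + a z₁ z₂ + b z₂²) in dimension 2m over F, a Sylow 2-subgroup P of Ω has P/P' elementary abelian: the square of every element of P lies in the derived subgroup of P. -/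
theorem result {F : Type*} [Field F] [Fintype F] (hF : Odd (Fintype.card F)) (m : ℕ) (hm : 4 ≤ m) (a b : F) (hab : ∀ z₁ z₂ : F, z₁ ^ 2 + a * z₁ * z₂ + b * z₂ ^ 2 = 0 → z₁ = 0 ∧ z₂ = 0) (P : Sylow 2 (Cfsg.Omega F (Cfsg.quadFormMinus (m - 1) F a b))) : ∀ x : (P : Subgroup (Cfsg.Omega F (Cfsg.quadFormMinus (m - 1) F a b))), x ^ 2 ∈ commutator (P : Subgroup (Cfsg.Omega F (Cfsg.quadFormMinus (m - 1) F a b))) := by
  classical
  haveI : Fact (Nat.Prime 2) := ⟨Nat.prime_two⟩
  have h2 := CfsgLib.SylowTwoAb.two_ne_zero_of_odd hF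
  have h3 := CfsgLib.SylowTwoAb.three_le_card hF
  obtain ⟨k, rfl⟩ : ∃ k, m = k + 1 := ⟨m - 1, by omega⟩
  have hD := CfsgLib.StdForms.disc_ne_zero_of_anisotropic h2 hab
  have hns := CfsgLib.SylowTwoAb.not_isSquare_of_anisotropic h2 hab
  have hne : Fintype.card F ^ (k + 1) + 1 ≠ 0 := by omega
  have hv : (Nat.card ↥(Cfsg.isometryGroup F ⇑(CfsgLib.StdForms.minusQ k F a b))).factorization 2 =
      1 + padicValNat 2 (Fintype.card F ^ (k + 1) + 1) + k * padicValNat 2 (Fintype.card F ^ 2 - 1) +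
        padicValNat 2 k.factorial := by
    have e := CfsgLib.Forms4.card_isometryGroup_quadFormMinus (F := F) rfl (k + 1) (by omega) a b hab
    rw [Nat.add_sub_cancel] at e
    rw [Nat.factorization_def _ Nat.prime_two, CfsgLib.StdForms.coe_minusQ, e]
    exact CfsgLib.SylowTwoAb.val_card_even_aux hF _ hne
  have hsum := CfsgLib.SylowTwoAb.val_plus_add_minus hF h3 (m := k + 1) (by omega)
  revert P
  rw [Nat.add_sub_cancel, ← CfsgLib.StdForms.coe_minusQ]
  intro P
  rcases CfsgLib.SylowTwoAb.pow_mod_four hF (k + 1) with ⟨h4, -⟩ | ⟨h4, -, -⟩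
  · have hd0 : b - a ^ 2 / 4 ≠ 0 := fun h => hns (h.symm ▸ ⟨0, by simp⟩)
    refine CfsgLib.SylowTwoAb.sqComm_omega h2 (CfsgLib.StdForms.minusQ_nondegenerate _ hD) (m := k)
      (by omega) ![1, (-1 : F) ^ k * (b - a ^ 2 / 4)] (fun i => by fin_cases i <;> simp [hd0])
      (by simp; omega) ?_ ?_ P
    · have := CfsgLib.SylowTwoAb.disc_minus (k := k) h2 hD (X := (-1 : F) ^ k * (b - a ^ 2 / 4))
        ⟨(-1 : F) ^ k * (b - a ^ 2 / 4), rfl⟩
      simpa [Fin.prod_univ_two] using this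
    · rw [hv, CfsgLib.SylowTwoAb.val_card_plane hF,
        CfsgLib.SylowTwoAb.val_of_mod_four (n := Fintype.card F ^ (k + 1) + 1) (by omega)]
      omega
  · refine CfsgLib.SylowTwoAb.sqComm_omega h2 (CfsgLib.StdForms.minusQ_nondegenerate _ hD) (m := k + 1)
      (by omega) (fun i : Fin 0 => i.elim0) (fun i => i.elim0) (by simp; omega) ?_ ?_ P
    · have hn1 : ¬ IsSquare ((-1 : F) ^ (k + 1)) := by
        rw [CfsgLib.SylowTwoAb.isSquare_neg_one_pow hF]; omega
      have := CfsgLib.SylowTwoAb.disc_minus (k := k) h2 hD (X := 1) (by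
        have := CfsgLib.SylowTwoAb.isSquare_mul_of_not _ _ hn1 hns
        convert this using 1
        ring)
      simpa [show 2 * (k + 1) = 2 * k + 2 by ring] using this
    · rw [hv, CfsgLib.SylowTwoAb.val_card_plane hF, Nat.factorial_succ,
        padicValNat.mul k.succ_ne_zero k.factorial_ne_zero, Nat.succ_eq_add_one, add_mul, one_mul]
      have := CfsgLib.SylowTwoAb.val_of_mod_four (n := Fintype.card F ^ (k + 1) - 1) (by omega)
      omega

end Cfsg.Agent.S4631
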