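import Cfsg.Statements.S4635
import Cfsg.Agent.CyclicIsometry.Exists

set_option autoImplicit false
set_option linter.style.haveILetI false
open Cfsg

namespace Cfsg.Agent.S4635

/-- Let B be a block of the finite group G relative to a maximal ideal M of the algebraic integers containing the prime p, with a nontrivial cyclic defect group P; let Z be the subgroup of order p of P and H = N_G(Z), which contains N_G(P). Let c be the block of H with defect group P that induces B. Then B and c contain the same number of irreducible characters, have the same p-regular rank, and there is a perfect isometry from c onto B. -/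
theorem result {G : Type*} [Group G] [Finite G] (p : ℕ) [Fact p.Prime] (M : Ideal Cfsg.AlgInt) (hM : Cfsg.IsPModular p M) (B : Set (Cfsg.IrrCharacter G)) (hB : Cfsg.IsPBlock M B) (P : Subgroup G) (hPD : Cfsg.IsDefectGroup p M B P) (hP1 : P ≠ ⊥) (hcyc : IsCyclic P) (Z : Subgroup G) (hZ : Z ≤ P) (hZcard : Nat.card Z = p) (H : Subgroup G) (hH : H = Subgroup.normalizer (Z : Set G)) (c : Set (Cfsg.IrrCharacter H)) (hcD : Cfsg.IsDefectGroup p M c (P.subgroupOf H)) (hc : Cfsg.IsInducedBlock M H c B) : Nat.card c = Nat.card B ∧ Cfsg.blockRank p c = Cfsg.blockRank p B ∧ ∃ (I : Cfsg.IrrCharacter H → Cfsg.IrrCharacter G) (ε : Cfsg.IrrCharacter H → ℤ), Cfsg.IsPerfectIsometry p M c B I ε := by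
  haveI := CfsgLib.Blocks.IsPModular.isPrime hM
  haveI := CfsgLib.Blocks.charP_res hM
  haveI := CfsgLib.BlockPairs.isAlgClosed_res hM
  haveI := Fintype.ofFinite G
  haveI := Fintype.ofFinite H
  have hPH : P ≤ H := by
    rw [hH]
    intro x hx
    haveI := hcyc
    refine Subgroup.centralizer_le_normalizer _ (Subgroup.mem_centralizer_iff.2 fun z hz => ?_)
    exact congrArg Subtype.val ((IsCyclic.commGroup (α := P)).mul_comm ⟨z, hZ hz⟩ ⟨x, hx⟩)
  refine CfsgLib.CyclicIsometry.isometry_local hB hPD hcyc hZ hH hcD hc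
    (CfsgLib.CyclicIsometry.setupExists hM hPD hP1 hcyc)
    (CfsgLib.CyclicIsometry.setupExists hM hcD (fun h => hP1 ?_)
      ((Subgroup.subgroupOfEquivOfLe hPH).isCyclic.2 hcyc))
  exact le_bot_iff.1 fun x hx => by
    have h1 : (⟨x, hPH hx⟩ : H) ∈ P.subgroupOf H := hx
    rw [h, Subgroup.mem_bot] at h1
    exact congrArg Subtype.val h1

end Cfsg.Agent.S4635
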