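import Cfsg.Statements.S4636
-- import your own Cfsg.Agent.* helpers here

set_option autoImplicit false
open scoped Pointwise
open Cfsg
open scoped Pointwise

namespace Cfsg.Agent.S4636

/-- In a finite cyclic group, a subgroup is determined by its order. -/
theorem subgroup_eq_of_card {A : Type*} [Group A] [Finite A] [IsCyclic A] (H K : Subgroup A)
    (h : Nat.card H = Nat.card K) : H = K := by
  classical
  haveI := Fintype.ofFinite A
  have sub : ∀ L : Subgroup A, Finset.univ.filter (fun x => x ∈ L) ⊆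
      Finset.univ.filter (fun x => x ^ Nat.card L = 1) := by
    intro L x hx
    simp only [Finset.mem_filter, Finset.mem_univ, true_and] at hx ⊢
    exact orderOf_dvd_iff_pow_eq_one.mp (L.orderOf_dvd_natCard hx)
  have card : ∀ L : Subgroup A, (Finset.univ.filter (fun x => x ∈ L)).card = Nat.card L := by
    intro L
    rw [Nat.card_eq_fintype_card, Fintype.card_subtype]
  have eqs : ∀ L : Subgroup A, Finset.univ.filter (fun x => x ∈ L) =
      Finset.univ.filter (fun x => x ^ Nat.card L = 1) := fun L =>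
    Finset.eq_of_subset_of_card_le (sub L) (by
      rw [card L]; exact IsCyclic.card_pow_eq_one_le Nat.card_pos)
  ext x
  have hH := Finset.ext_iff.mp (eqs H) x
  have hK := Finset.ext_iff.mp (eqs K) x
  simp only [Finset.mem_filter, Finset.mem_univ, true_and] at hH hK
  rw [hH, hK, h]

/-- A cyclic subgroup contains only one subgroup of each order. -/
theorem eq_of_le_cyclic {A : Type*} [Group A] [Finite A] {P H K : Subgroup A} [IsCyclic P]
    (hH : H ≤ P) (hK : K ≤ P) (h : Nat.card H = Nat.card K) : H = K := by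
  have e : H.subgroupOf P = K.subgroupOf P := subgroup_eq_of_card _ _ (by
    rw [Nat.card_congr (Subgroup.subgroupOfEquivOfLe hH).toEquiv,
      Nat.card_congr (Subgroup.subgroupOfEquivOfLe hK).toEquiv, h])
  rwa [Subgroup.subgroupOf_inj, inf_eq_left.mpr hH, inf_eq_left.mpr hK] at e

/-- Let P be a nontrivial cyclic p-subgroup of the finite group G and Z its subgroup of order p. For every x outside N_G(Z), P meets its conjugate xPx⁻¹ trivially; consequently N_G(Q) ≤ N_G(Z) for every nontrivial subgroup Q of P. -/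
theorem result {G : Type*} [Group G] [Finite G] (p : ℕ) [Fact p.Prime] (P : Subgroup G) (hP : IsPGroup p P) (hP1 : P ≠ ⊥) (hcyc : IsCyclic P) (Z : Subgroup G) (hZ : Z ≤ P) (hZcard : Nat.card Z = p) : (∀ x : G, x ∉ Subgroup.normalizer (Z : Set G) → P ⊓ MulAut.conj x • P = ⊥) ∧ ∀ Q : Subgroup G, Q ≤ P → Q ≠ ⊥ → Subgroup.normalizer (Q : Set G) ≤ Subgroup.normalizer (Z : Set G) := by
  haveI := hcyc
  have hsub : ∀ Q : Subgroup G, Q ≤ P → Q ≠ ⊥ → Z ≤ Q := by
    intro Q hQ hQ1
    obtain ⟨k, hk⟩ := (IsPGroup.iff_card (p := p)).mp (hP.to_le hQ)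
    have h1 : p ^ 1 ∣ Nat.card Q := by
      rw [hk]
      refine pow_dvd_pow p ?_
      rcases Nat.eq_zero_or_pos k with rfl | h
      · exact absurd (Subgroup.card_eq_one.mp (by simpa using hk)) hQ1
      · exact h
    obtain ⟨R, hR⟩ := Sylow.exists_subgroup_card_pow_prime p h1
    have e : R.map Q.subtype = Z := eq_of_le_cyclic ((Subgroup.map_subtype_le R).trans hQ) hZ (by
      rw [Subgroup.card_subtype, hR, hZcard, pow_one])
    exact e ▸ Subgroup.map_subtype_le R
  have key : ∀ x : G, x ∉ Subgroup.normalizer (Z : Set G) → P ⊓ MulAut.conj x • P = ⊥ := by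
    intro x hx
    by_contra hne
    have h1 := hsub _ inf_le_left hne
    have h2 : MulAut.conj x⁻¹ • Z ≤ P := by
      rw [map_inv, Subgroup.pointwise_smul_subset_iff, inv_inv]
      exact h1.trans inf_le_right
    have h3 : MulAut.conj x⁻¹ • Z = Z := eq_of_le_cyclic h2 hZ
      (Nat.card_congr (Subgroup.equivSMul (MulAut.conj x⁻¹) Z).symm.toEquiv)
    apply hx
    rw [← inv_mem_iff, Subgroup.mem_normalizer_iff_map_conj_eq]
    exact h3
  refine ⟨key, fun Q hQ hQ1 g hg => ?_⟩
  by_contra hn
  have h4 : MulAut.conj g • Q = Q := Subgroup.mem_normalizer_iff_map_conj_eq.mp hg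
  have h1 : Q ≤ P ⊓ MulAut.conj g • P := by
    refine le_inf hQ ?_
    rw [← h4]; exact Subgroup.pointwise_smul_le_pointwise_smul_iff.mpr hQ
  rw [key g hn, le_bot_iff] at h1
  exact hQ1 h1

end Cfsg.Agent.S4636
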