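import Cfsg.Statements.S4638
import Cfsg.Agent.InertialQuotient.KleinIsometry

set_option autoImplicit false
open Cfsg CfsgLib.BlockPairs CfsgLib.InertialQuotient

namespace Cfsg.Agent.S4638

/-- Let B be a block of the finite group G relative to a maximal ideal M of the algebraic integers containing 2, with a Klein four defect group P, and let c be its Brauer correspondent: the block of N_G(P) with defect group P that induces B. Then there is a perfect isometry from c onto B. -/
theorem result {G : Type*} [Group G] [Finite G] (M : Ideal Cfsg.AlgInt) (hM : Cfsg.IsPModular 2 M) (B : Set (Cfsg.IrrCharacter G)) (hB : Cfsg.IsPBlock M B) (P : Subgroup G) (hPD : Cfsg.IsDefectGroup 2 M B P) (hV : IsKleinFour P) (c : Set (Cfsg.IrrCharacter (Subgroup.normalizer (P : Set G)))) (hcD : Cfsg.IsDefectGroup 2 M c (P.subgroupOf (Subgroup.normalizer (P : Set G)))) (hc : Cfsg.IsInducedBlock M (Subgroup.normalizer (P : Set G)) c B) : ∃ (I : Cfsg.IrrCharacter (Subgroup.normalizer (P : Set G)) → Cfsg.IrrCharacter G) (ε : Cfsg.IrrCharacter (Subgroup.normalizer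 (P : Set G)) → ℤ), Cfsg.IsPerfectIsometry 2 M c B I ε := by
  haveI := CfsgLib.Blocks.IsPModular.isPrime hM
  haveI := CfsgLib.Blocks.charP_res hM
  haveI := CfsgLib.BlockPairs.isAlgClosed_res hM
  haveI : Fact (Nat.Prime 2) := ⟨Nat.prime_two⟩
  haveI := Fintype.ofFinite G
  haveI := Fintype.ofFinite (Subgroup.normalizer (P : Set G))
  haveI := hV
  haveI := Fintype.ofFinite c
  obtain ⟨eP, e, hmax, hmax', hst⟩ := exists_maxPair_correspondent hM hB hPD rfl hcD hc
  let f := Subgroup.subgroupOfEquivOfLe (Subgroup.le_normalizer (H := P))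
  haveI : IsKleinFour (P.subgroupOf (Subgroup.normalizer (P : Set G))) :=
    { card_four := by rw [Nat.card_congr f.toEquiv]; exact IsKleinFour.card_four
      exponent_two := by rw [Monoid.exponent_eq_of_mulEquiv f]; exact IsKleinFour.exponent_two }
  have hiff : stab ⊤ P eP ≤ Subgroup.centralizer (P : Set G) ↔
      stab ⊤ (P.subgroupOf (Subgroup.normalizer (P : Set G))) e ≤
        Subgroup.centralizer ((P.subgroupOf (Subgroup.normalizer (P : Set G)) : Subgroup _) : Set _) := by
    constructor
    · exact fun h x hx => Subgroup.mem_centralizer_iff.2 fun y hy =>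
        Subtype.ext (Subgroup.mem_centralizer_iff.1 (h ((hst x).1 hx)) y hy)
    · exact fun h x hx => Subgroup.mem_centralizer_iff.2 fun y hy =>
        congrArg Subtype.val (Subgroup.mem_centralizer_iff.1 (h ((hst ⟨x, hx.1.2⟩).2 hx))
          ⟨y, Subgroup.le_normalizer hy⟩ hy)
  obtain ⟨V, hVd⟩ := kleinData hM hB hPD hmax (E := stab ⊤ P eP ≤ Subgroup.centralizer (P : Set G)) Iff.rfl
  obtain ⟨W, hWd⟩ := kleinData hM hc.1 hcD hmax' hiff
  exact exists_perfect hM hVd hWd (card_klein hM hB hPD hmax) (card_klein hM hc.1 hcD hmax')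

end Cfsg.Agent.S4638
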