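import Cfsg.Statements.S4641

import Cfsg.Agent.BlocksRational.DecompositionSurj
import Cfsg.Agent.BlockPairing.Heights
import Cfsg.Agent.BlocksCharsC.RegularSupport

set_option autoImplicit false
open Cfsg

namespace Cfsg.Agent.S4641

open MonoidAlgebra CfsgLib.Star CfsgLib.BlockPairing CfsgLib.BlocksRational
open CfsgLib.BlockPairs (GA)
open CfsgLib.Blocks (localRing Res IsBlockUnion)
open scoped ComplexConjugate

universe u

variable {G : Type u} [Group G] [Fintype G] {M : Ideal AlgInt} [M.IsPrime] {p : ℕ} [Fact p.Prime]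

open Classical in
theorem main (hM : Cfsg.IsPModular p M) {B : Set (IrrCharacter G)} (hB : Cfsg.IsPBlock M B)
    (g u : ℕ) (hg : ∀ χ ∈ B, g ∣ Cfsg.charDegree (χ : G → ℂ)) (hu : u ∣ g) (hpu : ¬ p ∣ u) :
    Cfsg.blockRank p B * g * (p ^ (Nat.card G).factorization p * u) ≤
      ∑ χ : IrrCharacter G, (if χ ∈ B then Cfsg.charDegree (χ : G → ℂ) ^ 2 else 0) := by
  have hU := CfsgLib.Blocks.isBlockUnion_of_isPBlock hB
  obtain ⟨s, hs, ι, hι, cl, F, hsurj, hFc, hdual, hclass, hexp⟩ := exists_dual hU hM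
  have hprim : ∀ a : {a // a ∈ s}, Prim (⊤ : Subalgebra (Res M) (GA (Res M) G)) (a : GA (Res M) G) :=
    fun a => hs.1 _ a.2
  have hidem : ∀ a : {a // a ∈ s}, (a : GA (Res M) G) * a = a := fun a => (hprim a).2.1
  have hbelow : ∀ a : {a // a ∈ s}, rho M G (idemU M hU) * (a : GA (Res M) G) = a :=
    fun a => (hs.mul_mem_eq a.2).1
  choose d hd using fun (η : IrrCharacter G) (a : {a // a ∈ s}) => exists_nat_T (M := M) η (hidem a)
  have hdout : ∀ η, η ∉ B → ∀ a, d η a = 0 := by
    intro η hη a
    have h := T_outside hU hη (hidem a) (hbelow a)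
    rw [hd] at h
    exact_mod_cast h
  have htop : ∀ η ∈ B, ∑ a, d η a = Cfsg.charDegree (η : G → ℂ) := by
    intro η hη
    have hc := CfsgLib.Characters.isClassFunction_of_isIrr η.2
    have hsum : T M (η : G → ℂ) 1 (rho M G (idemU M hU)) =
        ∑ a ∈ s, T M (η : G → ℂ) 1 a := by
      rw [← hs.2.2]
      exact T_sum hc 1 s id (fun i hi => (hs.1 i hi).2.1) hs.2.1
        (fun i _ => CfsgLib.BlockPairs.conjA_one_left i)
    rw [T_eq_sum hc (idemU_mul_self hU) rfl, ← tau_apply,
      ← mul_one (idemU M hU), MonoidAlgebra.one_def, tau_idemU_single hU hc, OneMemClass.coe_one,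
      one_mul, proj, Finset.sum_eq_single η (fun ψ _ hne => by
        rw [CfsgLib.Characters.classInner_irr, if_neg (Ne.symm hne), zero_mul])
        (fun h => absurd (mem_members.2 hη) h), CfsgLib.Characters.classInner_irr, if_pos rfl, one_mul,
      ← Finset.sum_coe_sort s] at hsum
    simp only [hd] at hsum
    rw [← CfsgLib.Blocks.charDegree_cast η] at hsum
    exact_mod_cast hsum.symm
  -- the dual functions are integral on the primitive idempotents
  have hint : ∀ i, ∀ b, Prim (⊤ : Subalgebra (Res M) (GA (Res M) G)) b →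
      rho M G (idemU M hU) * b = b → ∃ z : ℤ, T M (F i) 1 b = z := by
    intro i b hb hbU
    obtain ⟨a, ha, h⟩ := hclass b hb hbU
    rw [h _ (hFc i), hdual ⟨a, ha⟩ i]
    split_ifs
    · exact ⟨1, by simp⟩
    · exact ⟨0, by simp⟩
  choose n hn hninner using fun i =>
    CfsgLib.Characters.exists_int_coeff (isGen_proj_regP hU hM (hFc i) (hint i))
  have hT : ∀ i a, ∑ η : IrrCharacter G, (n i η : ℂ) * (d η a : ℂ) =
      if cl a = i then 1 else 0 := by
    intro i a
    rw [← hdual a i, ← T_proj hU (hFc i) (hidem a) (hbelow a)]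
    have hc : ∀ η ∈ (Finset.univ : Finset (IrrCharacter G)),
        Cfsg.IsClassFunction G (η : G → ℂ) := fun η _ => CfsgLib.Characters.isClassFunction_of_isIrr η.2
    have h1 : T M (fun y => ∑ η : IrrCharacter G, (n i η : ℂ) * (η : G → ℂ) y) 1 (a : GA (Res M) G) =
        T M (proj B (F i)) 1 (a : GA (Res M) G) := by
      refine T_congr_regular hM (isClassFunction_linear _ _ _ hc) (isClassFunction_proj _)
        (fun y hy => ?_) (hidem a)
      have h := congrFun (hn i) y
      simp only [Finset.sum_apply, Pi.smul_apply, smul_eq_mul, regP_of_regular hy] at h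
      exact h.symm
    rw [← h1, T_linear _ _ _ hc (hidem a)]
    simp only [hd]
  -- every fibre has at least `g` elements
  have hfib : ∀ i, g ≤ (Finset.univ.filter fun a => cl a = i).card := by
    intro i
    have hpos : 0 < (Finset.univ.filter fun a => cl a = i).card := by
      obtain ⟨a, ha⟩ := hsurj i
      exact Finset.card_pos.2 ⟨a, by simp [ha]⟩
    have he : ((Finset.univ.filter fun a => cl a = i).card : ℤ) =
        ∑ η : IrrCharacter G, n i η * ((∑ a, d η a : ℕ) : ℤ) := by
      apply Int.cast_injective (α := ℂ)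
      push_cast
      simp only [Finset.mul_sum]
      rw [Finset.sum_comm, Finset.sum_congr rfl fun a _ => hT i a, Finset.sum_boole]
    refine Nat.le_of_dvd hpos (Int.natCast_dvd_natCast.1 (he ▸ Finset.dvd_sum fun η _ => ?_))
    by_cases hη : η ∈ B
    · rw [htop η hη]
      exact dvd_mul_of_dvd_right (Int.natCast_dvd_natCast.2 (hg η hη)) _
    · rw [Finset.sum_eq_zero fun a _ => hdout η hη a, Nat.cast_zero, mul_zero]
      exact dvd_zero _
  have hrank : Cfsg.blockRank p B ≤ Fintype.card ι := by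
    rw [Cfsg.blockRank]
    refine le_trans (Submodule.finrank_mono (t := Submodule.span ℂ
      (Set.range fun i => Cfsg.pRegularPart p (proj B (F i)))) (Submodule.span_le.2 ?_))
      (finrank_range_le_card _)
    rintro _ ⟨η, hη, rfl⟩
    obtain ⟨c, hc⟩ := hexp η hη
    refine Submodule.mem_span_range_iff_exists_fun ℂ |>.2 ⟨c, ?_⟩
    funext y
    simp only [Finset.sum_apply, Pi.smul_apply, smul_eq_mul, Cfsg.pRegularPart]
    by_cases hy : Cfsg.IsPRegular p y
    · simp only [if_pos hy]
      exact (hc y hy).symm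
    · simp [if_neg hy]
  have hcount : Fintype.card ι * g ≤ Fintype.card {a // a ∈ s} := by
    rw [show Fintype.card {a // a ∈ s} = ∑ i : ι, (Finset.univ.filter fun a => cl a = i).card from
      Finset.card_eq_sum_card_fiberwise fun a _ => Finset.mem_univ (cl a)]
    refine le_trans ?_ (Finset.sum_le_sum fun i _ => hfib i)
    rw [Finset.sum_const, smul_eq_mul, Finset.card_univ]
  -- the projective characters
  let P : {a // a ∈ s} → ℕ := fun a => ∑ χ : IrrCharacter G, d χ a * Cfsg.charDegree (χ : G → ℂ)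
  have hP : ∀ a, p ^ (Nat.card G).factorization p * u ≤ P a := by
    intro a
    let θ : G → ℂ := ∑ χ : IrrCharacter G, (d χ a : ℂ) • (χ : G → ℂ)
    have hθ : Cfsg.IsCharacter G θ := CfsgLib.Characters.isCharacter_sum _ _ fun χ _ =>
      CfsgLib.Characters.isCharacter_natCast_smul (CfsgLib.Characters.isCharacter_of_isIrr χ.2) _
    have hzero : ∀ y, p ∣ orderOf y → θ y = 0 := by
      intro y hy
      have hc : ∀ χ ∈ (Finset.univ : Finset (IrrCharacter G)),
          Cfsg.IsClassFunction G (χ : G → ℂ) := fun χ _ => CfsgLib.Characters.isClassFunction_of_isIrr χ.2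
      let w : IrrCharacter G → ℂ := fun χ => if χ ∈ B then (χ : G → ℂ) y else 0
      have h1 : T M (fun z => ∑ χ, w χ * (χ : G → ℂ) z) 1 (a : GA (Res M) G) =
          T M (fun _ => (0 : ℂ)) 1 (a : GA (Res M) G) := by
        refine T_congr_regular hM (isClassFunction_linear _ _ _ hc) (fun _ _ => rfl)
          (fun z hz => ?_) (hidem a)
        refine Eq.trans ?_ (CfsgLib.Blocks.sum_union_mul_conj_eq_zero hM hU hz (y := y⁻¹)
          (by rwa [orderOf_inv]))
        refine Finset.sum_congr rfl fun χ _ => ?_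
        simp only [w]
        split_ifs
        · rw [CfsgLib.Characters.character_inv (CfsgLib.Characters.isCharacter_of_isIrr χ.2), Complex.conj_conj,
            mul_comm]
        · rw [zero_mul]
      rw [T_linear _ _ _ hc (hidem a), T_eq_sum (fun _ _ => rfl)
        (exists_lift (M := M) (a : GA (Res M) G) (hidem a)).choose_spec.1
        ((exists_lift (M := M) (a : GA (Res M) G) (hidem a)).choose_spec.2 1
          (CfsgLib.BlockPairs.conjA_one_left _)).2] at h1
      simp only [mul_zero, Finset.sum_const_zero, hd, w] at h1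
      rw [← h1]
      simp only [θ, Finset.sum_apply, Pi.smul_apply, smul_eq_mul]
      refine Finset.sum_congr rfl fun χ _ => ?_
      split_ifs with h
      · rw [mul_comm]
      · rw [hdout χ h, Nat.cast_zero]; ring
    have hθ1 : θ 1 = (P a : ℂ) := by
      simp only [θ, P, Finset.sum_apply, Pi.smul_apply, smul_eq_mul, Nat.cast_sum, Nat.cast_mul]
      exact Finset.sum_congr rfl fun χ _ => by
        rw [← CfsgLib.Blocks.charDegree_cast χ]
    have hdiv : p ^ (Nat.card G).factorization p ∣ P a := by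
      obtain ⟨S⟩ : Nonempty (Sylow p G) := inferInstance
      haveI := Fintype.ofFinite (S : Subgroup G)
      obtain ⟨m, hm⟩ := CfsgLib.Characters.classInner_characters
        (CfsgLib.Characters.isCharacter_restrict (S : Subgroup G) hθ)
        (CfsgLib.Characters.isCharacter_one (G := (S : Subgroup G)))
      simp only [Cfsg.classInner, map_one, mul_one] at hm
      rw [Finset.sum_eq_single (1 : (S : Subgroup G)) (fun x _ hx => hzero x ?_)
        (fun h => absurd (Finset.mem_univ _) h), OneMemClass.coe_one, hθ1,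
        inv_mul_eq_iff_eq_mul₀ (Nat.cast_ne_zero.2 Nat.card_pos.ne')] at hm
      · refine ⟨m, ?_⟩
        rw [← S.card_eq_multiplicity]
        exact_mod_cast hm
      · obtain ⟨k, hk⟩ := IsPGroup.iff_orderOf.1 S.isPGroup' x
        rw [← Subgroup.orderOf_coe] at hk
        rw [hk]
        refine dvd_pow_self p fun h0 => hx ?_
        rw [h0, pow_zero, orderOf_eq_one_iff] at hk
        exact Subtype.ext hk
    have hudiv : u ∣ P a := Finset.dvd_sum fun χ _ => by
      by_cases h : χ ∈ B
      · exact dvd_mul_of_dvd_right (hu.trans (hg χ h)) _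
      · rw [hdout χ h, zero_mul]; exact dvd_zero _
    refine Nat.le_of_dvd ?_ (Nat.Coprime.mul_dvd_of_dvd_of_dvd
      (((Fact.out : p.Prime).coprime_iff_not_dvd.2 hpu).pow_left _) hdiv hudiv)
    by_contra hz
    have h0 : ∀ χ : IrrCharacter G, d χ a = 0 := fun χ =>
      (Nat.mul_eq_zero.1 ((Finset.sum_eq_zero_iff.1 (Nat.eq_zero_of_not_pos hz)) χ
        (Finset.mem_univ χ))).resolve_right (CfsgLib.Blocks.charDegree_ne_zero χ)
    have := hT (cl a) a
    simp [h0] at this
  have hS : ∑ χ : IrrCharacter G, (if χ ∈ B then Cfsg.charDegree (χ : G → ℂ) ^ 2 else 0) =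
      ∑ a, P a := by
    simp only [P]
    rw [Finset.sum_comm]
    refine Finset.sum_congr rfl fun χ _ => ?_
    rw [← Finset.sum_mul]
    split_ifs with h
    · rw [htop χ h, sq]
    · rw [Finset.sum_eq_zero fun a _ => hdout χ h a, zero_mul]
  rw [hS]
  calc Cfsg.blockRank p B * g * (p ^ (Nat.card G).factorization p * u)
      ≤ Fintype.card {a // a ∈ s} * (p ^ (Nat.card G).factorization p * u) :=
        Nat.mul_le_mul_right _ ((Nat.mul_le_mul_right g hrank).trans hcount)
    _ ≤ ∑ a, P a := by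
        refine le_trans ?_ (Finset.sum_le_sum fun a _ => hP a)
        rw [Finset.sum_const, smul_eq_mul, Finset.card_univ]

/-- Let B be a block of the finite group G relative to a maximal ideal M of the algebraic integers containing the prime p, let p^a be the p-part of the order of G and p^d the order of a defect group D of B, and let g be the greatest common divisor of the degrees of the members of B. Then the p-part of g is exactly p^(a−d), and writing g = p^(a−d)·u there is a positive integer v, prime to p and at least the p-regular rank of B (its number of irreducible Brauer characters), with Σ_{χ ∈ B} χ(1)² = p^(2a−d)·u²·v. -/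
theorem result {G : Type*} [Group G] [Finite G] (p : ℕ) [Fact p.Prime] (M : Ideal Cfsg.AlgInt) (hM : Cfsg.IsPModular p M) (B : Set (Cfsg.IrrCharacter G)) (hB : Cfsg.IsPBlock M B) (D : Subgroup G) (hD : Cfsg.IsDefectGroup p M B D) (a d : ℕ) (ha : (Nat.card G).factorization p = a) (hd : Nat.card D = p ^ d) (g : ℕ) (hg1 : ∀ χ ∈ B, g ∣ Cfsg.charDegree (χ : G → ℂ)) (hg2 : ∀ g' : ℕ, (∀ χ ∈ B, g' ∣ Cfsg.charDegree (χ : G → ℂ)) → g' ∣ g) : g.factorization p = a - d ∧ ∃ v : ℕ, 0 < v ∧ ¬ p ∣ v ∧ Cfsg.blockRank p B ≤ v ∧ ∑ᶠ χ ∈ B, Cfsg.charDegree (χ : G → ℂ) ^ 2 = p ^ (2 * a - d) * (g / p ^ (a - d)) ^ 2 * v := by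
  classical
  cases nonempty_fintype G
  haveI := CfsgLib.Blocks.IsPModular.isPrime hM
  have hp : p.Prime := Fact.out
  have hblk : Cfsg.blockDefect p B = d := by
    rw [CfsgLib.Blocks.blockDefect_eq hM hB hD, hd, hp.factorization_pow, Finsupp.single_eq_same]
  have hda : d ≤ a := by
    rw [← ha, ← hp.pow_dvd_iff_le_factorization Nat.card_pos.ne', ← hd]
    exact Subgroup.card_subgroup_dvd_card D
  obtain ⟨χ₀, hχ₀, hmin, -⟩ := CfsgLib.BlockPairing.exists_minimal (p := p) hB
  have hge : ∀ χ ∈ B, a - d ≤ (Cfsg.charDegree (χ : G → ℂ)).factorization p := fun χ hχ => by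
    have := CfsgLib.Blocks.defect_add_degree_ge hM hB hD hχ
    rw [hd, hp.factorization_pow, Finsupp.single_eq_same, ha] at this
    omega
  obtain ⟨χ₁, hχ₁, he⟩ := CfsgLib.Blocks.exists_degree_eq hM hB hD
  rw [hd, hp.factorization_pow, Finsupp.single_eq_same, ha] at he
  have hg0 : g ≠ 0 := by
    rintro rfl
    exact CfsgLib.Blocks.charDegree_ne_zero χ₁ (zero_dvd_iff.1 (hg1 χ₁ hχ₁))
  have hgp : g.factorization p = a - d := by
    refine le_antisymm ?_ ((hp.pow_dvd_iff_le_factorization hg0).1 (hg2 _ fun χ hχ =>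
      (hp.pow_dvd_iff_le_factorization (CfsgLib.Blocks.charDegree_ne_zero χ)).2 (hge χ hχ)))
    have := (Nat.factorization_le_iff_dvd hg0 (CfsgLib.Blocks.charDegree_ne_zero χ₁)).2
      (hg1 χ₁ hχ₁) p
    omega
  refine ⟨hgp, ?_⟩
  set u := g / p ^ (a - d) with hudef
  have hgu : g = p ^ (a - d) * u := by
    rw [hudef, Nat.mul_div_cancel']
    rw [← hgp]; exact Nat.ordProj_dvd g p
  have hpu : ¬ p ∣ u := by
    rw [hudef, ← hgp]; exact Nat.not_dvd_ordCompl hp hg0
  rw [CfsgLib.Blocks.finsum_irr_mem]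
  set S := ∑ χ : Cfsg.IrrCharacter G,
    if χ ∈ B then Cfsg.charDegree (χ : G → ℂ) ^ 2 else 0 with hSdef
  have hSp : S.factorization p = 2 * a - d := by
    rw [hSdef, CfsgLib.BlockPairing.sum_degree_sq_factorization hM hB, hblk, ha]
  have hS0 : S ≠ 0 := by
    intro h0
    have := Finset.sum_eq_zero_iff.1 h0 χ₁ (Finset.mem_univ _)
    rw [if_pos hχ₁] at this
    exact CfsgLib.Blocks.charDegree_ne_zero χ₁ (pow_eq_zero_iff two_ne_zero |>.1 this)
  have hdvd : p ^ (2 * a - d) * u ^ 2 ∣ S := by
    refine Nat.Coprime.mul_dvd_of_dvd_of_dvd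
      (((hp.coprime_iff_not_dvd.2 hpu).pow_left _).pow_right _)
      ((hp.pow_dvd_iff_le_factorization hS0).2 hSp.ge) ?_
    refine Finset.dvd_sum fun χ _ => ?_
    split_ifs with h
    · exact pow_dvd_pow_of_dvd ((Dvd.intro_left _ hgu.symm).trans (hg1 χ h)) 2
    · exact dvd_zero _
  obtain ⟨v, hv⟩ := hdvd
  have hv0 : 0 < v := by
    rcases Nat.eq_zero_or_pos v with rfl | h
    · exact absurd (by rw [hv, mul_zero]) hS0
    · exact h
  refine ⟨v, hv0, fun hdiv => ?_, ?_, hv⟩
  · obtain ⟨w, rfl⟩ := hdiv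
    have h : p ^ (2 * a - d + 1) ∣ S := ⟨u ^ 2 * w, by rw [hv, pow_succ]; ring⟩
    have := (hp.pow_dvd_iff_le_factorization hS0).1 h
    omega
  · have hmain := main hM hB g u hg1 (Dvd.intro_left _ hgu.symm) hpu
    rw [ha, ← hSdef, hv] at hmain
    have h2 : p ^ (2 * a - d) = p ^ (a - d) * p ^ a := by
      rw [← pow_add]; congr 1; omega
    have hpos : 0 < p ^ (2 * a - d) * u ^ 2 := Nat.mul_pos (pow_pos hp.pos _)
      (pow_pos (Nat.pos_of_ne_zero fun h => hpu ((congrArg (p ∣ ·) h).mpr (dvd_zero p))) 2)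
    refine Nat.le_of_mul_le_mul_left ?_ hpos
    refine le_trans (le_of_eq ?_) hmain
    rw [hgu, h2]; ring

end Cfsg.Agent.S4641
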