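import Cfsg.Statements.S4645
import Cfsg.Agent.InertialQuotient.NilpotentRank

set_option autoImplicit false
open Cfsg CfsgLib.BlockPairs CfsgLib.InertialQuotient

namespace Cfsg.Agent.S4645

/-- Let B be a block of the finite group G relative to a maximal ideal M of the algebraic integers containing the prime p, with a nontrivial cyclic defect group P; let c be a block of C_G(P) inducing B and T the stabilizer of c in N_G(P). Let Q be a nontrivial subgroup of P (so C_G(P) ≤ C_G(Q)), f the block of C_G(Q) induced by c inside C_G(Q), and T' the stabilizer of f in N_G(Q). Then T' = T·C_G(Q), the index of C_G(Q) in T' equals the index of C_G(P) in T, f has p-regular rank 1, and f is a nilpotent block of C_G(Q). -/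
theorem result {G : Type*} [Group G] [Finite G] (p : ℕ) [Fact p.Prime] (M : Ideal Cfsg.AlgInt) (hM : Cfsg.IsPModular p M) (B : Set (Cfsg.IrrCharacter G)) (hB : Cfsg.IsPBlock M B) (P : Subgroup G) (hPD : Cfsg.IsDefectGroup p M B P) (hP1 : P ≠ ⊥) (hcyc : IsCyclic P) (c : Set (Cfsg.IrrCharacter (Subgroup.centralizer (P : Set G)))) (hc : Cfsg.IsInducedBlock M (Subgroup.centralizer (P : Set G)) c B) (T : Subgroup G) (hT : ∀ g : G, g ∈ T ↔ (g ∈ Subgroup.normalizer (P : Set G) ∧ Cfsg.StabilizesBlock (Subgroup.centralizer (P : Set G)) c g)) (Q : Subgroup G) (hQP : Q ≤ P) (hQ1 : Q ≠ ⊥) (f : Set (Cfsg.IrrCharacter (Subgroup.centralizer (Q : Set G)))) (hf : Cfsg.IsInducedBlockIn M (Subgroup.centralizer (Q : Set G)) (Subgroup.centralizer (P : Set G)) c f) (T' : Subgroup G) (hT' : ∀ g : G, g ∈ T' ↔ (g ∈ Subgroup.normalizer (Q : Set G) ∧ Cfsg.StabilizesBlock (Subgroup.centralizer (Q : Set G)) f g)) : T' = T ⊔ Subgroup.centralizer (Q : Set G) ∧ (Subgroup.centralizer (Q : Set G)).relIndex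 T' = (Subgroup.centralizer (P : Set G)).relIndex T ∧ Cfsg.blockRank p f = 1 ∧ Cfsg.IsNilpotentBlock p M f := by
  haveI := CfsgLib.Blocks.IsPModular.isPrime hM
  haveI := CfsgLib.Blocks.charP_res hM
  haveI := CfsgLib.BlockPairs.isAlgClosed_res hM
  haveI := Fintype.ofFinite G
  haveI := Fintype.ofFinite (Subgroup.centralizer (Q : Set G))
  have hab := le_centralizer_of_cyclic hcyc
  obtain ⟨hb, hmax⟩ := maxPair_of_induced hM hPD hab hc
  obtain rfl := stab_eq hc.1 hT
  obtain rfl := stab_eq hf.2.1 hT'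
  have hPC := le_centralizer_of_le hab hQP
  have hle := le_of_blockHas hmax.1.1 hab hQP (isBlock_sblk hf.2.1)
    (blockHas_of_inducedIn hmax.1.1.2.1 hf
      (Subgroup.centralizer_le (SetLike.coe_subset_coe.2 hQP)) hPC)
  set e := sblk M (Subgroup.centralizer (P : Set G)) c
  set f' := sblk M (Subgroup.centralizer (Q : Set G)) f with hf'
  have hTN : stab ⊤ P e ≤ Subgroup.normalizer (Q : Set G) := by
    obtain ⟨u, hu⟩ : ∃ u : G, Subgroup.zpowers u = P := by
      obtain ⟨v, hv⟩ := hcyc.exists_generator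
      refine ⟨v, le_antisymm (Subgroup.zpowers_le.2 v.2) fun y hy => ?_⟩
      obtain ⟨i, hi⟩ := hv ⟨y, hy⟩
      exact ⟨i, congrArg Subtype.val hi⟩
    intro g hg
    obtain ⟨n, hn⟩ := exists_conj_pow hu hg.1.2
    refine mem_normalizer_of_cj_eq (Subgroup.eq_of_le_of_card_ge ?_ (card_cj g Q).ge)
    intro y hy
    obtain ⟨q, hq, rfl⟩ := Subgroup.mem_map.1 hy
    show g * q * g⁻¹ ∈ Q
    rw [hn q (hQP hq)]
    exact pow_mem hq n
  have hfree : stab ⊤ P e ⊓ Subgroup.centralizer (Q : Set G) ≤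
      Subgroup.centralizer (P : Set G) := by
    rintro g ⟨hg, hgQ⟩
    obtain ⟨x, hx, hx1⟩ := Q.bot_or_exists_ne_one.resolve_left hQ1
    exact free_of_cyclic hb hmax hcyc hg (hQP hx) hx1
      (mul_inv_eq_iff_eq_mul.2 (Subgroup.mem_centralizer_iff.1 hgQ x hx).symm)
  have hsup : stab ⊤ Q f' = stab ⊤ P e ⊔ Subgroup.centralizer (Q : Set G) := by
    refine le_antisymm (fun g hg => ?_) (sup_le (fun g hg => stab_inf_normalizer_le hmax.1.1 hle
      ⟨hg, hTN hg⟩) (centralizer_le_stab (le_pair hmax.1.1 hle)))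
    obtain ⟨y, hy, z, hz, rfl⟩ := exists_mul_of_abelian hb hmax hab hle hg
    exact mul_mem (Subgroup.mem_sup_left hy) (Subgroup.mem_sup_right hz)
  have hnilp : Nilp p (Subgroup.centralizer (Q : Set G)) f' :=
    (nilp_centralizer_iff hb hmax hab hle).2 hfree
  have hnil := (isNilpotentBlock_sblk_iff hf.2.1).2 hnilp
  refine ⟨hsup, ?_, ?_, hnil⟩
  · rw [hsup, relIndex_sup_of_le_normalizer (hTN.trans (le_normalizer_centralizer Q)),
      ← Subgroup.inf_relIndex_right (Subgroup.centralizer (Q : Set G)),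
      ← Subgroup.inf_relIndex_right (Subgroup.centralizer (P : Set G))]
    congr 1
    exact le_antisymm (le_inf (fun g hg => hfree ⟨hg.2, hg.1⟩) inf_le_right)
      (inf_le_inf_right _ (Subgroup.centralizer_le (SetLike.coe_subset_coe.2 hQP)))
  · haveI : IsCyclic (P.subgroupOf (Subgroup.centralizer (Q : Set G))) :=
      (Subgroup.subgroupOfEquivOfLe hPC).isCyclic.2 hcyc
    exact blockRank_eq_one hM hf.2.1 ((isDefectGroup_subgroupOf_iff hf.2.1 hPC).2
      ((defect_centralizer hb hmax hab hle).isDefectGrp (isBlock_sblk hf.2.1)).1) inferInstance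
      ((isNilpotentBlock_gblk_iff hf.2.1).1 hnil)

end Cfsg.Agent.S4645
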