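import Cfsg.Statements.S4647
import Cfsg.Agent.MinimalBlock.Fusion
import Cfsg.Agent.BlockPairs.PairBridge

set_option autoImplicit false
open Cfsg

namespace Cfsg.Agent.S4647

/-- Let B be a block of the finite group G relative to a maximal ideal M of the algebraic integers containing the prime p, p^a the p-part of the order of G and p^d the order of a defect group D of B. If Σ_{χ ∈ B} χ(1)² = p^(2a−d) (the least possible value), then B is nilpotent. -/
theorem result {G : Type*} [Group G] [Finite G] (p : ℕ) [Fact p.Prime] (M : Ideal Cfsg.AlgInt) (hM : Cfsg.IsPModular p M) (B : Set (Cfsg.IrrCharacter G)) (hB : Cfsg.IsPBlock M B) (D : Subgroup G) (hD : Cfsg.IsDefectGroup p M B D) (a d : ℕ) (ha : (Nat.card G).factorization p = a) (hd : Nat.card D = p ^ d) (hmin : ∑ᶠ χ ∈ B, Cfsg.charDegree (χ : G → ℂ) ^ 2 = p ^ (2 * a - d)) : Cfsg.IsNilpotentBlock p M B := by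
  classical
  haveI : M.IsPrime := CfsgLib.Blocks.IsPModular.isPrime hM
  haveI := CfsgLib.Blocks.charP_res hM
  haveI := CfsgLib.BlockPairs.isAlgClosed_res hM
  haveI := Fintype.ofFinite G
  refine ⟨hB, fun Q e hBP x hx _ hreg => ?_⟩
  have hQ : IsPGroup p Q := hBP.1.1
  obtain ⟨c, hc, hne⟩ : ∃ c ∈ Subgroup.centralizer (Q : Set G),
      (CfsgLib.Blocks.idemBar M B (CfsgLib.Blocks.isBlockUnion_of_isPBlock hB) :
        MonoidAlgebra (CfsgLib.Blocks.Res M) G).coeff c ≠ 0 := by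
    obtain ⟨hpair, hbr⟩ := (CfsgLib.BlockPairs.isBrauerPairOf_iff hB hBP.1.2).1 hBP
    by_contra hno
    simp only [not_exists, not_and, not_not] at hno
    have hz : CfsgLib.BlockPairs.br Q (CfsgLib.BlockPairs.gblk M B) = 0 := by
      refine CfsgLib.BlockPairs.ga_ext fun g => ?_
      by_cases hg : g ∈ Subgroup.centralizer (Q : Set G)
      · rw [CfsgLib.BlockPairs.br_coeff_mem Q _ hg, CfsgLib.BlockPairs.gblk_coeff,
          CfsgLib.BlockPairs.redC_of_mem (CfsgLib.Blocks.memLocalRing_blockCoeff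
            (CfsgLib.Blocks.isBlockUnion_of_isPBlock hB) g), ← CfsgLib.Blocks.coeff_idemBar B (CfsgLib.Blocks.isBlockUnion_of_isPBlock hB) g,
          hno g hg]
        rfl
      · rw [CfsgLib.BlockPairs.br_coeff_not_mem Q _ hg]
        rfl
    rw [hz, zero_mul] at hbr
    exact (CfsgLib.BlockPairs.isBlock_sblk hBP.1.2).ne_zero hbr.symm
  obtain ⟨P, hQP⟩ := hQ.exists_le_sylow
  have hmin' : (∑ᶠ χ ∈ B, Cfsg.charDegree (χ : G → ℂ) ^ 2) * Nat.card D ≤
      p ^ (2 * (Nat.card G).factorization p) := by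
    rw [hmin, hd, ha, ← pow_add, Nat.sub_add_cancel]
    have h1 : d ≤ a := by
      have h2 : p ^ d ∣ Nat.card G := hd ▸ Subgroup.card_subgroup_dvd_card D
      rw [← ha]
      exact ((Fact.out : p.Prime).pow_dvd_iff_le_factorization Nat.card_pos.ne').1 h2
    omega
  obtain ⟨u, huP, hu⟩ := CfsgLib.MinimalBlock.exists_mem_mul_inv_mem_centralizer hM hB hD hmin' P
    hQP hc hne hx
  -- `x` acts on `Q` as the p-element `u`
  set C := Subgroup.centralizer (Q : Set G) with hCdef
  set N := Subgroup.normalizer (Q : Set G) with hNdef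
  have hCN : C ≤ N := Subgroup.centralizer_le_normalizer _
  have huN : u ∈ N := by
    have := N.mul_mem (hCN hu) hx
    simpa using this
  haveI : (C.subgroupOf N).Normal := ⟨fun n hn g => by
    rw [Subgroup.mem_subgroupOf] at hn ⊢
    exact (CfsgLib.Blocks.mem_centralizer_conj_iff g.2 _).2 hn⟩
  let f := QuotientGroup.mk' (C.subgroupOf N)
  have hfe : f ⟨u, huN⟩ = f ⟨x, hx⟩ := by
    refine QuotientGroup.eq_iff_div_mem.2 ?_
    rw [div_eq_mul_inv]
    exact hu
  have hord : orderOf (f ⟨x, hx⟩) = 1 := by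
    obtain ⟨j, hj⟩ := IsPGroup.iff_orderOf.1 P.2 ⟨u, huP⟩
    have h1 : orderOf (f ⟨x, hx⟩) ∣ p ^ j := by
      rw [← hfe, ← hj, ← Subgroup.orderOf_coe (⟨u, huP⟩ : (P : Subgroup G))]
      exact (orderOf_map_dvd f _).trans (Subgroup.orderOf_coe (⟨u, huN⟩ : N)).symm.dvd
    have h2 : orderOf (f ⟨x, hx⟩) ∣ orderOf x :=
      (orderOf_map_dvd f _).trans (Subgroup.orderOf_coe (⟨x, hx⟩ : N)).symm.dvd
    exact Nat.Coprime.eq_one_of_dvd (Nat.Coprime.of_dvd_left h1
      (((Fact.out : p.Prime).coprime_iff_not_dvd.2 hreg).pow_left j)) h2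
  exact Subgroup.mem_subgroupOf.1 ((QuotientGroup.eq_one_iff _).1 (orderOf_eq_one_iff.1 hord))

end Cfsg.Agent.S4647
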