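import Cfsg.Statements.S4650
import Cfsg.Agent.InertialQuotient.Setup

set_option autoImplicit false
open Cfsg CfsgLib.BlockPairs CfsgLib.InertialQuotient

namespace Cfsg.Agent.S4650

/-- Let B be a block of the finite group G relative to a maximal ideal M of the algebraic integers containing the prime p, with a nontrivial commutative defect group P; let c be a block of C_G(P) inducing B and T the stabilizer of c in N_G(P). Then T/C_G(P) acts freely on the non-identity elements of P (an element of T fixing a non-identity element of P under conjugation lies in C_G(P)) if and only if, for every nontrivial subgroup Q of P, the block of C_G(Q) induced by c inside C_G(Q) is a nilpotent block of C_G(Q). -/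
theorem result {G : Type*} [Group G] [Finite G] (p : ℕ) [Fact p.Prime] (M : Ideal Cfsg.AlgInt) (hM : Cfsg.IsPModular p M) (B : Set (Cfsg.IrrCharacter G)) (hB : Cfsg.IsPBlock M B) (P : Subgroup G) (hPD : Cfsg.IsDefectGroup p M B P) (hPab : ∀ x ∈ P, ∀ y ∈ P, x * y = y * x) (hP1 : P ≠ ⊥) (c : Set (Cfsg.IrrCharacter (Subgroup.centralizer (P : Set G)))) (hc : Cfsg.IsInducedBlock M (Subgroup.centralizer (P : Set G)) c B) (T : Subgroup G) (hT : ∀ g : G, g ∈ T ↔ (g ∈ Subgroup.normalizer (P : Set G) ∧ Cfsg.StabilizesBlock (Subgroup.centralizer (P : Set G)) c g)) : (∀ g ∈ T, ∀ x ∈ P, x ≠ 1 → g * x * g⁻¹ = x → g ∈ Subgroup.centralizer (P : Set G)) ↔ ∀ Q : Subgroup G, Q ≤ P → Q ≠ ⊥ → ∀ f : Set (Cfsg.IrrCharacter (Subgroup.centralizer (Q : Set G))), Cfsg.IsInducedBlockIn M (Subgroup.centralizer (Q : Set G)) (Subgroup.centralizer (P : Set G)) c f → Cfsg.IsNilpotentBlock p M f := by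
  haveI := CfsgLib.Blocks.IsPModular.isPrime hM
  haveI := CfsgLib.Blocks.charP_res hM
  haveI := CfsgLib.BlockPairs.isAlgClosed_res hM
  haveI := Fintype.ofFinite G
  have hab := le_centralizer_of_comm hPab
  obtain ⟨hb, hmax⟩ := maxPair_of_induced hM hPD hab hc
  obtain rfl := stab_eq hc.1 hT
  have hle : ∀ (Q : Subgroup G), Q ≤ P → ∀ f : Set (IrrCharacter (Subgroup.centralizer (Q : Set G))),
      IsInducedBlockIn M (Subgroup.centralizer (Q : Set G)) (Subgroup.centralizer (P : Set G)) c f →
        Le p ⊤ Q (sblk M (Subgroup.centralizer (Q : Set G)) f) P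
          (sblk M (Subgroup.centralizer (P : Set G)) c) := fun Q hQP f hf =>
    le_of_blockHas hmax.1.1 hab hQP (isBlock_sblk hf.2.1)
      (blockHas_of_inducedIn hmax.1.1.2.1 hf
        (Subgroup.centralizer_le (SetLike.coe_subset_coe.2 hQP)) (le_centralizer_of_le hab hQP))
  constructor
  · intro hfree Q hQP hQ1 f hf
    rw [isNilpotentBlock_sblk_iff hf.2.1, nilp_centralizer_iff hb hmax hab (hle Q hQP f hf)]
    rintro g ⟨hg, hgQ⟩
    obtain ⟨x, hx, hx1⟩ := Q.bot_or_exists_ne_one.resolve_left hQ1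
    exact hfree g hg x (hQP hx) hx1
      (mul_inv_eq_iff_eq_mul.2 (Subgroup.mem_centralizer_iff.1 hgQ x hx).symm)
  · intro h g hg x hx hx1 hfix
    set Q := Subgroup.zpowers x with hQ
    have hQP : Q ≤ P := Subgroup.zpowers_le.2 hx
    obtain ⟨f', hf', hlef⟩ := exists_below hmax.1.1 hQP
    obtain ⟨f, hf, rfl⟩ := exists_eq_sblk (M := M) (isBlock_centralizer hf')
    have hind := isInducedBlockIn_of_blockHas hmax.1.1.2.1 hc.1 hf
      (Subgroup.centralizer_le (SetLike.coe_subset_coe.2 hQP)) (le_centralizer_of_le hab hQP)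
      (defect_centralizer hb hmax hab hlef).1
    have hn := (isNilpotentBlock_sblk_iff hf).1 (h Q hQP
      (fun h0 => hx1 (Subgroup.zpowers_eq_bot.1 h0)) f hind)
    refine inertial_inf_of_nilp hb hmax hab hlef hn hg ?_
    rw [hQ, centralizer_zpowers]
    exact Subgroup.mem_centralizer_singleton_iff.2 (mul_inv_eq_iff_eq_mul.1 hfix)

end Cfsg.Agent.S4650
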