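import Cfsg.Statements.S4651
import Cfsg.Agent.ChainSum.Identity

set_option autoImplicit false
open Cfsg CfsgLib.Blocks CfsgLib.ChainSum

namespace Cfsg.Agent.S4651

/-- An alternating-sum identity over chains of p-subgroups (the character-count form behind the chain reformulation of Alperin's weight conjecture, which holds unconditionally for the difference k − l). Let b be a block of the finite group G relative to a maximal ideal M of the algebraic integers containing the prime p. Consider the nonempty chains s = {Q_0 < Q_1 < ⋯ < Q_m} of nontrivial p-subgroups of G in which every member is normal in the largest member; let N_G(s) be the intersection of the normalizers of the members (the stabilizer of the chain), and let b_s be the set of irreducible characters of N_G(s) lying in blocks of N_G(s) that induce b. Then #G · (k(b) − l(b)) equals the sum over all such chains s of (−1)^m · #N_G(s) · (k(b_s) − l(b_s)), where k counts irreducible characters and l is the p-regular rank; equivalently,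 k(b) − l(b) is the alternating sum of k(b_s) − l(b_s) over representatives of the conjugacy classes of such chains. -/
theorem result {G : Type*} [Group G] [Finite G] (p : ℕ) [Fact p.Prime] (M : Ideal Cfsg.AlgInt) (hM : Cfsg.IsPModular p M) (b : Set (Cfsg.IrrCharacter G)) (hb : Cfsg.IsPBlock M b) : (Nat.card G : ℤ) * ((Nat.card b : ℤ) - (Cfsg.blockRank p b : ℤ)) = ∑ᶠ s ∈ {s : Finset (Subgroup G) | s.Nonempty ∧ (∀ Q ∈ s, ∀ R ∈ s, Q ≤ R ∨ R ≤ Q) ∧ (∀ Q ∈ s, Q ≠ ⊥ ∧ IsPGroup p Q) ∧ ∃ T ∈ s, ∀ Q ∈ s, Q ≤ T ∧ T ≤ Subgroup.normalizer ((Q : Subgroup G) : Set G)}, (-1 : ℤ) ^ (s.card - 1) * (Nat.card (((⨅ Q ∈ s, Subgroup.normalizer ((Q : Subgroup G) : Set G) : Subgroup G))) : ℤ) * ((Nat.card {ψ : Cfsg.IrrCharacter (((⨅ Q ∈ s, Subgroup.normalizer ((Q : Subgroup G) : Set G) : Subgroup G))) | ∃ β : Set (Cfsg.IrrCharacter (((⨅ Q ∈ s, Subgroup.normalizer ((Q : Subgroup G) : Set G) : Subgroup G)))), ψ ∈ β ∧ Cfsg.IsInducedBlock M (((⨅ Q ∈ s, Subgroup.normalizer ((Q : Subgroup G) : Set G) : Subgroup G))) β b}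 : ℤ) - (Cfsg.blockRank p {ψ : Cfsg.IrrCharacter (((⨅ Q ∈ s, Subgroup.normalizer ((Q : Subgroup G) : Set G) : Subgroup G))) | ∃ β : Set (Cfsg.IrrCharacter (((⨅ Q ∈ s, Subgroup.normalizer ((Q : Subgroup G) : Set G) : Subgroup G)))), ψ ∈ β ∧ Cfsg.IsInducedBlock M (((⨅ Q ∈ s, Subgroup.normalizer ((Q : Subgroup G) : Set G) : Subgroup G))) β b} : ℤ)) := by
  classical
  haveI := CfsgLib.Blocks.IsPModular.isPrime hM
  haveI : Fact p.Prime := ⟨hM.1⟩
  haveI := Fintype.ofFinite G
  haveI : ∀ H : Subgroup G, Fintype H := fun _ => Fintype.ofFinite _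
  apply Int.cast_injective (α := ℂ)
  set z := idemBar M b (isBlockUnion_of_isPBlock hb)
  let C : Finset (Finset (Subgroup G)) := Finset.univ.filter fun s => IsChainP p s
  have hC : ∀ s, s ∈ C ↔ IsChainP p s := fun s => by simp [C]
  rw [finsum_mem_eq_finite_toFinset_sum _ (Set.toFinite _),
    Finset.sum_congr (show (Set.toFinite _).toFinset = C by ext s; rw [Set.Finite.mem_toFinset, hC]; rfl)
      fun s _ => rfl]
  push_cast
  rw [card_sub_rank hM z b fun ξ => by rw [omegaBar_idemBar]; split_ifs with h <;> simp [h]]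
  have hterm : ∀ s ∈ C, ∀ A : Set (IrrCharacter (stabN s)),
      A = {ψ | ∃ β : Set (IrrCharacter (stabN s)), ψ ∈ β ∧ Cfsg.IsInducedBlock M (stabN s) β b} →
      (Nat.card (stabN s) : ℂ) * ((Nat.card A : ℂ) - (Cfsg.blockRank p A : ℂ)) =
        ∑ h : G, if p ∣ orderOf h then chainVal M z s h else 0 := by
    intro s hs A hA
    obtain ⟨χ₀, hχ₀⟩ := isPBlock_nonempty hb
    rw [card_sub_rank hM (resCtr (stabN s) z) A fun ψ => by
      rw [hA]
      constructor
      · rintro ⟨β, hψ, hind⟩
        rw [(isInducedBlock_iff _ hind.1 hb hψ hχ₀).1 hind, omegaBar_idemBar, if_pos hχ₀]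
        exact one_ne_zero
      · intro hψ
        obtain ⟨B', hB'⟩ := inducedBlockDefined_stabN hM ((hC s).1 hs) ψ
        obtain ⟨χ, hχ⟩ := isPBlock_nonempty hB'.2.1
        rw [(isInducedBlock_iff _ hB'.1 hB'.2.1 (mem_blockOf_self ψ) hχ).1 hB',
          omegaBar_idemBar] at hψ
        by_cases hm : χ ∈ b
        · exact ⟨_, mem_blockOf_self ψ, isPBlock_eq_of_mem hb hB'.2.1 hm hχ ▸ hB'⟩
        · rw [if_neg hm] at hψ
          exact absurd rfl hψ]
    rw [← Finset.sum_subset (Finset.subset_univ (Finset.univ.filter fun h : G => h ∈ stabN s))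
      fun h _ hh => by
        rw [chainVal, dif_neg fun h' => hh (Finset.mem_filter.2 ⟨Finset.mem_univ _, h'⟩), ite_self]]
    rw [Finset.sum_subtype (p := fun h : G => h ∈ stabN s) (F := inferInstance)
      (Finset.univ.filter fun h : G => h ∈ stabN s) (fun h => by simp)]
    refine Finset.sum_congr (by ext; simp) fun h _ => ?_
    rw [Subgroup.orderOf_coe]
    split_ifs
    · exact (chainVal_coe (z := z) h.2).symm
    · rfl
  rw [Finset.sum_congr rfl fun s hs => (mul_assoc _ _ _).trans
    (congrArg (fun t : ℂ => (-1 : ℂ) ^ (s.card - 1) * t) (hterm s hs _ rfl))]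
  rw [Finset.sum_congr rfl fun s _ => Finset.mul_sum _ _ _, Finset.sum_comm]
  refine Finset.sum_congr rfl fun h _ => ?_
  split_ifs with hh
  · rw [← sum_chains hM hb C hC hh]
    push_cast
    rfl
  · simp

end Cfsg.Agent.S4651
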