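import Cfsg.Statements.S4653
import Cfsg.Agent.PrincipalBlock.Basic

set_option autoImplicit false
open Cfsg CfsgLib.Blocks CfsgLib.PrincipalBlock

namespace Cfsg.Agent.S4653

/-- Fix a prime p and a maximal ideal M of the algebraic integers containing p. Let P be a normal p-subgroup of the finite group G and B a p-block of G. Then the idempotent of B is supported on C_G(P): its coefficient at every element of G outside C_G(P) is zero. -/
theorem result {G : Type*} [Group G] [Fintype G] (p : ℕ) [Fact p.Prime] (M : Ideal Cfsg.AlgInt) (hM : Cfsg.IsPModular p M) (P : Subgroup G) [P.Normal] (hP : IsPGroup p P) (B : Set (Cfsg.IrrCharacter G)) (hB : Cfsg.IsPBlock M B) (g : G) (hg : g ∉ Subgroup.centralizer (P : Set G)) : Cfsg.blockCoeff B g = 0 := by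
  classical
  haveI : M.IsPrime := hM.2.1.isPrime
  haveI := charP_res hM
  set N := Subgroup.centralizer (P : Set G) with hN
  haveI hNn : N.Normal := inferInstance
  -- central elements supported on N
  let S : Subring (Ctr ℂ G) :=
    { carrier := {z | ∀ x, x ∉ N → (z : MonoidAlgebra ℂ G).coeff x = 0}
      zero_mem' := fun x _ => by simp
      one_mem' := fun x hx => by
        rw [Subring.coe_one, MonoidAlgebra.one_def]
        have h1 : x ≠ 1 := fun h => hx (h ▸ one_mem N)
        simp [h1]
      add_mem' := fun {a b} ha hb x hx => by simp [ha x hx, hb x hx]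
      neg_mem' := fun {a} ha x hx => by simp [ha x hx]
      mul_mem' := fun {a b} ha hb x hx => by
        rw [Subring.coe_mul, coeff_mul_eq_sum]
        refine Finset.sum_eq_zero fun y _ => ?_
        by_cases hy : y ∈ N
        · rw [hb (y⁻¹ * x) (fun h => hx (by simpa using mul_mem hy h)), mul_zero]
        · rw [ha y hy, zero_mul] }
  have hscalar : ∀ c : ℂ, scalar c ∈ S := fun c x hx => by
    have h1 : x ≠ 1 := fun h => hx (h ▸ one_mem N)
    simp [coe_scalar, h1]
  have hout : ∀ (χ : IrrCharacter G) (x : G), x ∉ N →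
      omegaBar M χ (classSum _ (ConjClasses.mk x)) = 0 := by
    intro χ x hx
    have hn : IsNilpotent ((classSum (Res M) (ConjClasses.mk x) : MonoidAlgebra (Res M) G) *
        indOf (Res M) (⊥ : Subgroup G)) := by
      refine isNilpotent_mul_indOf (p := p) ⊥ P P hP (by simp) (classSum _ _).2 fun y => ?_
      refine sum_eq_zero_of_no_fixed (p := p) (hP.map ConjAct.toConjAct.toMonoidHom) _ ?_ ?_
      · rintro ⟨_, z, hz, rfl⟩ w hne
        have hw : y⁻¹ * w ∈ P := by by_contra h; exact hne (if_neg h)
        show (if y⁻¹ * (z * w * z⁻¹) ∈ P then _ else _) = _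
        have h2 : y⁻¹ * (z * w * z⁻¹) ∈ P := by
          have h3 : w⁻¹ * z * w * z⁻¹ ∈ P :=
            mul_mem (Subgroup.Normal.conj_mem' ‹P.Normal› z hz w) (P.inv_mem hz)
          have e : y⁻¹ * (z * w * z⁻¹) = y⁻¹ * w * (w⁻¹ * z * w * z⁻¹) := by group
          rw [e]; exact mul_mem hw h3
        rw [if_pos h2, if_pos hw]
        exact coeff_conj_of_mem_ctr (classSum _ _).2 w z
      · intro w hne
        by_contra hall
        push Not at hall
        have hwN : w ∈ N := by
          rw [hN, Subgroup.mem_centralizer_iff]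
          intro z hz
          have h : z * w * z⁻¹ = w := hall ⟨_, z, hz, rfl⟩
          rwa [mul_inv_eq_iff_eq_mul] at h
        have hxC : (classSum (Res M) (ConjClasses.mk x) : MonoidAlgebra (Res M) G).coeff w = 0 := by
          rw [coeff_classSum, if_neg]
          intro he
          obtain ⟨z, hz⟩ := isConj_iff.mp (ConjClasses.mk_eq_mk_iff_isConj.mp he)
          exact hx (hz ▸ hNn.conj_mem w hwN z)
        exact hne (by simp [hxC])
    have hone : indOf (Res M) (⊥ : Subgroup G) = 1 := by
      ext w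
      rw [coeff_indOf, MonoidAlgebra.one_def]
      by_cases hw : w = 1
      · simp [hw]
      · simp [hw]
    rw [hone, mul_one] at hn
    obtain ⟨n, hn⟩ := hn
    exact (IsNilpotent.map ⟨n, Subtype.ext hn⟩ (omegaBar M χ)).eq_zero
  have hsep : ∀ ψ φ : IrrCharacter G, ∃ a ∈ S,
      omega ψ a = 1 ∧ (φ ∉ blockOf M (ψ : G → ℂ) → omega φ a = 0) := by
    intro ψ φ
    by_cases hb : φ ∈ blockOf M (ψ : G → ℂ)
    · exact ⟨1, one_mem S, map_one _, fun h => (h hb).elim⟩
    rw [mem_blockOf, sameBlock_iff] at hb
    obtain ⟨x, hx, hne⟩ : ∃ x ∈ N, omega ψ (classSum ℂ (ConjClasses.mk x)) ≠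
        omega φ (classSum ℂ (ConjClasses.mk x)) := by
      by_contra hall
      push Not at hall
      apply hb
      refine omegaBar_ext (omegaBar_scalar ψ) (omegaBar_scalar φ) fun C => ?_
      obtain ⟨x, rfl⟩ := ConjClasses.mk_surjective C
      by_cases hx : x ∈ N
      · rw [omegaBar_classSum, omegaBar_classSum]
        congr 1
        apply Subtype.ext
        simpa only [omega_classSum] using hall x hx
      · rw [hout ψ x hx, hout φ x hx]
    refine ⟨scalar (omega ψ (classSum ℂ (ConjClasses.mk x)) - omega φ (classSum ℂ (ConjClasses.mk x)))⁻¹ *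
      (classSum ℂ (ConjClasses.mk x) - scalar (omega φ (classSum ℂ (ConjClasses.mk x)))),
      mul_mem (hscalar _) (sub_mem ?_ (hscalar _)), ?_, fun _ => ?_⟩
    · intro w hw
      rw [coeff_classSum, if_neg]
      intro he
      obtain ⟨z, hz⟩ := isConj_iff.mp (ConjClasses.mk_eq_mk_iff_isConj.mp he).symm
      exact hw (hz ▸ hNn.conj_mem x hx z)
    · rw [map_mul, map_sub, omega_scalar, omega_scalar, inv_mul_cancel₀ (sub_ne_zero.mpr hne)]
    · rw [map_mul, map_sub, omega_scalar, omega_scalar, sub_self, mul_zero]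
  choose a haS ha1 ha0 using hsep
  set f : IrrCharacter G → Ctr ℂ G := fun ψ => ∏ φ, a ψ φ with hf
  set z : Ctr ℂ G := 1 - ∏ ψ : {ψ // ψ ∈ B}, (1 - f ψ.1) with hz
  have hzS : z ∈ S := sub_mem (one_mem S) (prod_mem fun ψ _ => sub_mem (one_mem S)
    (prod_mem fun φ _ => haS _ φ))
  have hzB : z = setIdemC B := by
    refine ctr_ext_omega fun φ => ?_
    rw [omega_setIdemC, hz, map_sub, map_one, map_prod]
    split_ifs with hφ
    · rw [Finset.prod_eq_zero (Finset.mem_univ (⟨φ, hφ⟩ : {ψ // ψ ∈ B})), sub_zero]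
      rw [map_sub, map_one, hf, map_prod, Finset.prod_eq_one fun χ _ => ha1 φ χ, sub_self]
    · rw [Finset.prod_eq_one, sub_self]
      intro ψ _
      rw [map_sub, map_one, hf, map_prod, Finset.prod_eq_zero (Finset.mem_univ φ), sub_zero]
      exact ha0 _ φ fun h => hφ (isBlockUnion_of_isPBlock hB _ ψ.2 h)
  rw [hzB] at hzS
  simpa using hzS g hg

end Cfsg.Agent.S4653
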