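import Cfsg.Statements.S4654
import Cfsg.Agent.BlockPairs.Lift
import Cfsg.Agent.BlockPairs.Local
import Cfsg.Agent.BlockPairs.ResField

set_option autoImplicit false
open Cfsg CfsgLib.BlockPairs

namespace Cfsg.Agent.S4654

/-- Fix a prime p and a maximal ideal M of the algebraic integers containing p. Let P be a normal p-subgroup of the finite group G, B a p-block of G and e a p-block of C_G(P) such that (P, e) is a Brauer pair of B (as P is normal, this says that e occurs in the idempotent of B, which is supported on C_G(P)). Let T be the stabilizer of e in G under conjugation. Then the idempotent of e is a block idempotent of T: some block E of T has, at every element of T, the same idempotent coefficient as e (zero off C_G(P)); and the idempotent of B is the sum of the distinct G-conjugates of the idempotent of e: its coefficient at g is the sum over all x in G of the coefficient of e at x⁻¹ g x, divided by the order of T. -/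
theorem result {G : Type*} [Group G] [Fintype G] (p : ℕ) [Fact p.Prime] (M : Ideal Cfsg.AlgInt) (hM : Cfsg.IsPModular p M) (P : Subgroup G) [P.Normal] (hP : IsPGroup p P) (B : Set (Cfsg.IrrCharacter G)) (e : Set (Cfsg.IrrCharacter (Subgroup.centralizer (P : Set G)))) (hBe : Cfsg.IsBrauerPairOf p M B P e) (T : Subgroup G) (hT : ∀ x : G, x ∈ T ↔ Cfsg.StabilizesBlock (Subgroup.centralizer (P : Set G)) e x) : (∃ E : Set (Cfsg.IrrCharacter T), Cfsg.IsPBlock M E ∧ ∀ t : T, Cfsg.blockCoeff E t = Cfsg.subgroupBlockCoeff (Subgroup.centralizer (P : Set G)) e (t : G)) ∧ ∀ g : G, Cfsg.blockCoeff B g = (Nat.card T : ℂ)⁻¹ * ∑ x : G, Cfsg.subgroupBlockCoeff (Subgroup.centralizer (P : Set G)) e (x⁻¹ * g * x) := by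
  classical
  haveI : M.IsPrime := hM.2.1.isPrime
  haveI := CfsgLib.Blocks.charP_res hM
  haveI := isAlgClosed_res hM
  obtain ⟨⟨-, he⟩, hB, -⟩ := id hBe
  have hb := (isBrauerPairOf_iff hB he).1 hBe
  haveI : (Subgroup.centralizer (P : Set G)).Normal := inferInstance
  have hNP : Subgroup.normalizer (P : Set G) = ⊤ := Subgroup.normalizer_eq_top_iff.mpr ‹P.Normal›
  have hpair : IsPair p ⊤ P (sblk M (Subgroup.centralizer (P : Set G)) e) := hb.1
  have hblk : IsBlock (Subgroup.centralizer (P : Set G)) (sblk M (Subgroup.centralizer (P : Set G)) e) := isBlock_sblk he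
  have hTiff : ∀ x : G, x ∈ T ↔ conjA (CfsgLib.Blocks.Res M) x (sblk M (Subgroup.centralizer (P : Set G)) e) = sblk M (Subgroup.centralizer (P : Set G)) e := by
    intro x
    rw [hT, stabilizesBlock_iff he]
    exact and_iff_right (normalizer_le_normalizer_centralizer P (hNP ▸ Subgroup.mem_top x))
  have hCT : (Subgroup.centralizer (P : Set G)) ≤ T := fun x hx => (hTiff x).2 (hblk.fixed x hx)
  have hPT : P ≤ T := by
    intro u hu
    rw [hTiff]
    refine ga_ext fun g => ?_
    rw [conjA_coeff]
    by_cases hg : g ∈ (Subgroup.centralizer (P : Set G))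
    · congr 1
      rw [mul_assoc, ← Subgroup.mem_centralizer_iff.1 hg u hu]; group
    · rw [hblk.supp.coeff_eq_zero hg, hblk.supp.coeff_eq_zero]
      intro h
      apply hg
      have := Subgroup.Normal.conj_mem ‹(Subgroup.centralizer (P : Set G)).Normal› _ h u
      simpa [mul_assoc] using this
  refine ⟨?_, ?_⟩
  · have hblkT : IsBlock T (sblk M (Subgroup.centralizer (P : Set G)) e) :=
      block_of_le_stab hpair hPT (inf_le_right.trans hCT) fun x hx =>
        mem_stab.2 ⟨⟨Subgroup.mem_top x, hNP ▸ Subgroup.mem_top x⟩, (hTiff x).1 hx⟩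
    obtain ⟨E, hE, hco, -⟩ := exists_block_lift (φ := T.subtype) T.subtype_injective
      (by rwa [T.range_subtype]) he
      (fun t ht => (hT t).1 (by rwa [T.range_subtype] at ht)) (by rwa [T.range_subtype])
    exact ⟨E, hE, hco⟩
  · haveI : Fintype (Subgroup.centralizer (P : Set G)) := Fintype.ofFinite (Subgroup.centralizer (P : Set G))
    -- the conjugates of e
    have hcj : ∀ x : G, cj x (Subgroup.centralizer (P : Set G)) = (Subgroup.centralizer (P : Set G)) := fun x =>
      cj_eq_self (normalizer_le_normalizer_centralizer P (hNP ▸ Subgroup.mem_top x))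
    let F : G → Set (IrrCharacter (Subgroup.centralizer (P : Set G))) := fun x => imageSet (conjIso (Subgroup.centralizer (P : Set G)) (Subgroup.centralizer (P : Set G)) x (hcj x)) e
    have hF : ∀ x, IsPBlock M (F x) := fun x => isPBlock_imageSet _ he
    have hFs : ∀ x, sblk M (Subgroup.centralizer (P : Set G)) (F x) = conjA (CfsgLib.Blocks.Res M) x (sblk M (Subgroup.centralizer (P : Set G)) e) := fun x => sblk_imageSet (hcj x) e
    have hFT : ∀ x y, F x = F y ↔ y⁻¹ * x ∈ T := by
      intro x y
      rw [hTiff]
      constructor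
      · intro h
        have h1 := congrArg (conjA (CfsgLib.Blocks.Res M) y⁻¹) ((hFs x).symm.trans ((congrArg _ h).trans (hFs y)))
        rwa [conjA_conjA, conjA_inv] at h1
      · intro h
        refine sblk_inj (hF x) (hF y) ?_
        rw [hFs, hFs]
        conv_rhs => rw [← h, conjA_conjA, mul_inv_cancel_left]
    set U : Set (IrrCharacter (Subgroup.centralizer (P : Set G))) := {χ | ∃ x, χ ∈ F x} with hU
    have hUu : CfsgLib.Blocks.IsBlockUnion M U := by
      rintro χ ⟨x, hx⟩ ψ hψ
      exact ⟨x, (CfsgLib.Blocks.eq_blockOf_of_mem (hF x) hx).symm ▸ hψ⟩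
    set β : G → ℂ := subgroupBlockCoeff (Subgroup.centralizer (P : Set G)) U with hβ
    -- the average of the conjugates of e is the idempotent of U
    have hsum : ∀ g : G, ∑ x : G, subgroupBlockCoeff (Subgroup.centralizer (P : Set G)) e (x⁻¹ * g * x) =
        (Nat.card T : ℂ) * β g := by
      intro g
      have hiff : ∀ x : G, x⁻¹ * g * x ∈ (Subgroup.centralizer (P : Set G)) ↔ g ∈ (Subgroup.centralizer (P : Set G)) := fun x =>
        ⟨fun h => by simpa [mul_assoc] using Subgroup.Normal.conj_mem ‹(Subgroup.centralizer (P : Set G)).Normal› _ h x,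
          fun h => Subgroup.Normal.conj_mem' ‹(Subgroup.centralizer (P : Set G)).Normal› _ h x⟩
      by_cases hg : g ∈ (Subgroup.centralizer (P : Set G))
      · rw [hβ, subgroupBlockCoeff, dif_pos hg]
        have h1 : ∀ x : G, subgroupBlockCoeff (Subgroup.centralizer (P : Set G)) e (x⁻¹ * g * x) = blockCoeff (F x) ⟨g, hg⟩ := by
          intro x
          rw [subgroupBlockCoeff, dif_pos ((hiff x).2 hg), blockCoeff_imageSet]
          exact congrArg (blockCoeff e) (Subtype.ext (conjIso_symm_apply (Subgroup.centralizer (P : Set G)) (Subgroup.centralizer (P : Set G)) x (hcj x) ⟨g, hg⟩).symm)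
        rw [Finset.sum_congr rfl fun x _ => h1 x]
        simp only [CfsgLib.Blocks.blockCoeff_eq_sum]
        rw [← Finset.mul_sum, Finset.sum_comm, ← mul_assoc, mul_comm (Nat.card T : ℂ),
          mul_assoc]
        congr 1
        rw [Finset.mul_sum]
        refine Finset.sum_congr rfl fun χ _ => ?_
        rw [← Finset.sum_filter, Finset.sum_const, nsmul_eq_mul]
        by_cases hχ : χ ∈ U
        · obtain ⟨x0, hx0⟩ := hχ
          rw [if_pos ⟨x0, hx0⟩]
          congr 1
          rw [Nat.cast_inj, ← Fintype.card_subtype, ← Nat.card_eq_fintype_card]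
          refine Nat.card_congr ⟨fun x => ⟨x0⁻¹ * x.1, (hFT _ _).1
              (CfsgLib.Blocks.isPBlock_eq_of_mem (hF _) (hF _) x.2 hx0)⟩,
            fun t => ⟨x0 * t.1, ((hFT (x0 * t.1) x0).2 (by simpa using t.2)).symm ▸ hx0⟩,
            fun x => Subtype.ext (mul_inv_cancel_left x0 x.1),
            fun t => Subtype.ext (inv_mul_cancel_left x0 t.1)⟩
        · rw [if_neg hχ, mul_zero, Finset.filter_eq_empty_iff.2 (fun x _ hx => hχ ⟨x, hx⟩)]
          simp
      · rw [hβ, subgroupBlockCoeff, dif_neg hg, mul_zero]
        refine Finset.sum_eq_zero fun x _ => ?_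
        rw [subgroupBlockCoeff, dif_neg (mt (hiff x).1 hg)]
    have hT0 : (Nat.card T : ℂ) ≠ 0 := Nat.cast_ne_zero.2 Nat.card_pos.ne'
    suffices key : ∀ g, blockCoeff B g = β g by
      intro g
      rw [hsum, ← mul_assoc, inv_mul_cancel₀ hT0, one_mul, key]
    -- β is the idempotent of a union of blocks of G
    have hβc : ∀ g h : G, β (h * g * h⁻¹) = β g := by
      intro g h
      refine mul_left_cancel₀ hT0 ?_
      rw [← hsum, ← hsum]
      refine Fintype.sum_equiv (Equiv.mulLeft h⁻¹) _ _ fun x => ?_
      simp [mul_assoc]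
    let z : CfsgLib.Blocks.Ctr ℂ G :=
      ⟨CfsgLib.Blocks.ofFun β, CfsgLib.Blocks.mem_ctr_iff.2 fun g h => by simpa using hβc g h⟩
    have hzz : z * z = z := by
      have hw : (z : GA ℂ G) = emb (Subgroup.centralizer (P : Set G)).subtype
          ((CfsgLib.Blocks.setIdemC U : CfsgLib.Blocks.Ctr ℂ (Subgroup.centralizer (P : Set G))) : GA ℂ (Subgroup.centralizer (P : Set G))) := by
        refine ga_ext fun g => ?_
        show (CfsgLib.Blocks.ofFun β).coeff g = _
        rw [CfsgLib.Blocks.coeff_ofFun, hβ, subgroupBlockCoeff]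
        split_ifs with hg
        · have := emb_coeff_apply (k := ℂ) (φ := (Subgroup.centralizer (P : Set G)).subtype) (Subgroup.centralizer (P : Set G)).subtype_injective
            ((CfsgLib.Blocks.setIdemC U : CfsgLib.Blocks.Ctr ℂ (Subgroup.centralizer (P : Set G))) : GA ℂ (Subgroup.centralizer (P : Set G))) ⟨g, hg⟩
          simpa using this.symm
        · exact (emb_coeff_not_mem _ _ (by rwa [(Subgroup.centralizer (P : Set G)).range_subtype])).symm
      apply Subtype.ext
      rw [Subring.coe_mul, hw, ← map_mul, ← Subring.coe_mul]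
      congr 2
      exact CfsgLib.Blocks.ctr_ext_omega fun ψ => by
        rw [map_mul, CfsgLib.Blocks.omega_setIdemC]; split_ifs <;> simp
    set A : Set (IrrCharacter G) := {χ | CfsgLib.Blocks.omega χ z = 1} with hA
    have hzA : z = CfsgLib.Blocks.setIdemC A := CfsgLib.Blocks.ctr_ext_omega fun ψ => by
      rw [CfsgLib.Blocks.omega_setIdemC]
      split_ifs with h
      · exact h
      · have h1 : CfsgLib.Blocks.omega ψ z * (CfsgLib.Blocks.omega ψ z - 1) = 0 := by
          rw [mul_sub, mul_one, ← map_mul, hzz, sub_self]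
        exact (mul_eq_zero.1 h1).resolve_right fun h2 => h (sub_eq_zero.1 h2)
    have hAc : ∀ g, blockCoeff A g = β g := fun g => by
      rw [← CfsgLib.Blocks.coeff_setIdemC, ← hzA]
      simp [z]
    have hAu : CfsgLib.Blocks.IsBlockUnion M A := CfsgLib.Blocks.isBlockUnion_of_memLocalRing fun g => by
      rw [hAc, hβ, subgroupBlockCoeff]
      split_ifs
      · exact CfsgLib.Blocks.memLocalRing_blockCoeff hUu _
      · exact CfsgLib.Blocks.memLocalRing_of_memLocalIdeal CfsgLib.Blocks.memLocalIdeal_zero
    -- its reduction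
    have hAU : blkE M (MonoidHom.id G) A = blkE M (Subgroup.centralizer (P : Set G)).subtype U := by
      refine ga_ext fun g => ?_
      have h1 : (blkE M (MonoidHom.id G) A).coeff g = redC M (β g) := by
        rw [← hAc]
        exact gblk_coeff A g
      rw [h1]
      exact (sblk_coeff (Subgroup.centralizer (P : Set G)) U g).symm
    have hgb := isBlock_gblk (M := M) hB
    have hsupp : IsSupp (Subgroup.centralizer (P : Set G)) (gblk M B) :=
      (isSupp_centralizer_of_normal hP le_top (hNP ▸ le_rfl) hgb.mem hgb.idem).mono inf_le_right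
    have hbrB : br P (gblk M B) = gblk M B := br_eq_self (by simpa using hsupp)
    obtain ⟨y, hy⟩ := exists_emb (φ := (Subgroup.centralizer (P : Set G)).subtype) (Subgroup.centralizer (P : Set G)).subtype_injective (z := gblk M B)
      ⟨by rwa [(Subgroup.centralizer (P : Set G)).range_subtype], fun u _ => hgb.fixed u (Subgroup.mem_top u)⟩
    have hy1 : ∀ χ ∈ U, CfsgLib.Blocks.omegaBar M χ y = 1 := by
      rintro χ ⟨x, hx⟩
      have hFu := CfsgLib.Blocks.isBlockUnion_of_isPBlock (hF x)
      have hmul : gblk M B * sblk M (Subgroup.centralizer (P : Set G)) (F x) = sblk M (Subgroup.centralizer (P : Set G)) (F x) := by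
        rw [hFs]
        conv_lhs => rw [← hgb.fixed x (Subgroup.mem_top x), ← conjA_mul]
        congr 1
        have := hb.2
        rwa [hbrB] at this
      rw [← hy, sblk, blkE_eq _ hFu, ← map_mul, ← Subring.coe_mul] at hmul
      have := congrArg (CfsgLib.Blocks.omegaBar M χ)
        (Subtype.ext (emb_injective (Subgroup.centralizer (P : Set G)).subtype_injective hmul) :
          y * CfsgLib.Blocks.idemBar M (F x) hFu = CfsgLib.Blocks.idemBar M (F x) hFu)
      rw [map_mul, CfsgLib.Blocks.omegaBar_idemBar, if_pos hx, mul_one] at this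
      exact this
    have hidem : y * CfsgLib.Blocks.idemBar M U hUu = CfsgLib.Blocks.idemBar M U hUu := by
      set i := CfsgLib.Blocks.idemBar M U hUu
      have hii := CfsgLib.Blocks.idemBar_mul_self (M := M) U hUu
      have hyy : y * y = y := Subtype.ext (emb_injective (Subgroup.centralizer (P : Set G)).subtype_injective (by
        rw [Subring.coe_mul, map_mul, hy, hgb.idem]))
      have hd : (i * (1 - y)) * (i * (1 - y)) = i * (1 - y) := by
        linear_combination (1 - y) * (1 - y) * hii + i * hyy
      obtain ⟨n, hn⟩ := CfsgLib.Blocks.isNilpotent_of_omegaBar_eq_zero (i * (1 - y)) (fun χ => by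
        rw [map_mul, map_sub, map_one, CfsgLib.Blocks.omegaBar_idemBar]
        split_ifs with h
        · rw [hy1 χ h, sub_self, mul_zero]
        · rw [zero_mul])
      rcases Nat.eq_zero_or_pos n with rfl | hn0
      · rw [pow_zero] at hn
        rw [← mul_one (y * i), hn, mul_zero, ← mul_one i, hn, mul_zero]
      · rw [IsIdempotentElem.pow_eq hd hn0.ne'] at hn
        linear_combination -hn
    have hmulA : gblk M B * blkE M (MonoidHom.id G) A = blkE M (MonoidHom.id G) A := by
      rw [hAU, blkE_eq _ hUu, ← hy, ← map_mul, ← Subring.coe_mul, hidem]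
    have hid : (MonoidHom.id G).range = ⊤ := range_id_eq
    have hAsub : blkE M (MonoidHom.id G) A ∈ sub (⊤ : Subgroup G) ⊤ := by
      rw [blkE_eq _ hAu]
      have := emb_mem_sub (φ := MonoidHom.id G) Function.injective_id
        (CfsgLib.Blocks.idemBar M A hAu).2
      rwa [hid] at this
    have hAidem : blkE M (MonoidHom.id G) A * blkE M (MonoidHom.id G) A =
        blkE M (MonoidHom.id G) A := by
      rw [blkE_eq _ hAu, ← map_mul, ← Subring.coe_mul, CfsgLib.Blocks.idemBar_mul_self]
    have hne : blkE M (MonoidHom.id G) A ≠ 0 := by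
      rw [hAU, blkE_eq _ hUu]
      intro h0
      rw [← map_zero (emb (k := CfsgLib.Blocks.Res M) (Subgroup.centralizer (P : Set G)).subtype)] at h0
      obtain ⟨χ, hχ⟩ := CfsgLib.Blocks.isPBlock_nonempty (hF 1)
      have h1 := CfsgLib.Blocks.omegaBar_idemBar (M := M) U hUu χ
      rw [if_pos ⟨1, hχ⟩, show CfsgLib.Blocks.idemBar M U hUu = 0 from
        Subtype.ext (emb_injective (Subgroup.centralizer (P : Set G)).subtype_injective h0), map_zero] at h1
      exact zero_ne_one h1
    have hcomm := sub_comm hgb.mem hAsub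
    have heq : blkE M (MonoidHom.id G) A = gblk M B := by
      rcases hgb.dichotomy hAsub hAidem with h | h
      · exfalso
        apply hne
        rw [← hmulA, hcomm, h]
      · rw [← h, ← hcomm, hmulA]
    have hBu := CfsgLib.Blocks.isBlockUnion_of_isPBlock hB
    have hAB : A = B := by
      rw [gblk, blkE_eq _ hAu, blkE_eq _ hBu] at heq
      have h2 : CfsgLib.Blocks.idemBar M A hAu = CfsgLib.Blocks.idemBar M B hBu :=
        Subtype.ext (emb_injective Function.injective_id heq)
      ext χ
      have h3 := congrArg (CfsgLib.Blocks.omegaBar M χ) h2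
      rw [CfsgLib.Blocks.omegaBar_idemBar, CfsgLib.Blocks.omegaBar_idemBar] at h3
      by_cases h4 : χ ∈ A <;> by_cases h5 : χ ∈ B <;> simp [h4, h5] at h3 ⊢
    intro g
    rw [← hAB, hAc]

end Cfsg.Agent.S4654
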