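import Cfsg.Statements.S4657
import Cfsg.Agent.BlockPairs.PairBridge
import Cfsg.Agent.BlockPairs.ResField

set_option autoImplicit false
open Cfsg CfsgLib.BlockPairs

namespace Cfsg.Agent.S4657

/-- Fix a prime p and a maximal ideal M of the algebraic integers containing p. Every Brauer pair (P, e) of the finite group G is a Brauer pair of exactly one p-block B of G. -/
theorem result {G : Type*} [Group G] [Fintype G] (p : ℕ) [Fact p.Prime] (M : Ideal Cfsg.AlgInt) (hM : Cfsg.IsPModular p M) (P : Subgroup G) (e : Set (Cfsg.IrrCharacter (Subgroup.centralizer (P : Set G)))) (hPe : Cfsg.IsBrauerPair p M P e) : ∃! B : Set (Cfsg.IrrCharacter G), Cfsg.IsBrauerPairOf p M B P e := by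
  classical
  haveI : M.IsPrime := hM.2.1.isPrime
  haveI := CfsgLib.Blocks.charP_res hM
  haveI := isAlgClosed_res hM
  have hp := (isBrauerPair_iff hPe.2).1 hPe
  obtain ⟨b, ⟨hb, hbe⟩, huniq⟩ := exists_unique_block_of_pair hp
  obtain ⟨B, hB, rfl⟩ := exists_eq_gblk (M := M) hb
  refine ⟨B, (isBrauerPairOf_iff hB hPe.2).2 ⟨hp, hbe⟩, fun B' hB' => ?_⟩
  exact gblk_inj hB'.2.1 hB
    (huniq _ ⟨isBlock_gblk hB'.2.1, ((isBrauerPairOf_iff hB'.2.1 hPe.2).1 hB').2⟩)

end Cfsg.Agent.S4657
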