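import Cfsg.Statements.S4661
import Cfsg.Agent.BlockPairs.PairBridge
import Cfsg.Agent.BlockPairs.Local

set_option autoImplicit false
open Cfsg CfsgLib.BlockPairs

namespace Cfsg.Agent.S4661

/-- Fix a prime p and a maximal ideal M of the algebraic integers containing p. Let (P, e) be a maximal Brauer pair of the p-block B of the finite group G, Q ≤ P, and f the p-block of C_G(Q) with (Q, f) ≤ (P, e). Then C_P(Q) is contained in a defect group of f (as a block of the group C_G(Q)); and for some x in G the conjugate pair (x Q x⁻¹, conjugate of f) again lies below (P, e) and C_P(x Q x⁻¹) is a defect group of the conjugate of f in C_G(x Q x⁻¹). -/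
theorem result {G : Type*} [Group G] [Fintype G] (p : ℕ) [Fact p.Prime] (M : Ideal Cfsg.AlgInt) (hM : Cfsg.IsPModular p M) (B : Set (Cfsg.IrrCharacter G)) (P Q : Subgroup G) (e : Set (Cfsg.IrrCharacter (Subgroup.centralizer (P : Set G)))) (f : Set (Cfsg.IrrCharacter (Subgroup.centralizer (Q : Set G)))) (hmax : Cfsg.IsMaximalBrauerPair p M B P e) (hQP : Q ≤ P) (hf : Cfsg.IsPBlock M f) (hle : Cfsg.SubpairLE p M Q f P e) : (∃ D : Subgroup (Subgroup.centralizer (Q : Set G)), Cfsg.IsDefectGroup p M f D ∧ (P ⊓ Subgroup.centralizer (Q : Set G)).subgroupOf (Subgroup.centralizer (Q : Set G)) ≤ D) ∧ ∃ x : G, Cfsg.SubpairLE p M (Q.map (MulAut.conj x).toMonoidHom) (Cfsg.conjBlock Q x f) P e ∧ Cfsg.IsDefectGroup p M (Cfsg.conjBlock Q x f) ((P ⊓ Subgroup.centralizer ((Q.map (MulAut.conj x).toMonoidHom) : Set G)).subgroupOf (Subgroup.centralizer ((Q.map (MulAut.conj x).toMonoidHom) : Set G))) := by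
  haveI := CfsgLib.Blocks.IsPModular.isPrime hM
  haveI := CfsgLib.Blocks.charP_res hM
  haveI := isAlgClosed_res hM
  obtain ⟨⟨⟨-, he⟩, hB, -⟩, -⟩ := id hmax
  have hmax' := (isMaximalBrauerPair_iff hB he).1 hmax
  have hle' := (subpairLE_iff hf he).1 hle
  have hQf : IsPair p (⊤ : Subgroup G) Q (sblk M (Subgroup.centralizer (Q : Set G)) f) :=
    ⟨le_top, hmax'.1.1.2.1.to_le hQP, by rw [cent_top]; exact isBlock_sblk hf⟩
  obtain ⟨D, hD, hle2⟩ := centralizer_part_le_defect hmax' hle' hQf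
  refine ⟨⟨D.subgroupOf _, (isDefectGroup_subgroupOf_iff hf hD.1).2 hD,
    fun u hu => hle2 hu⟩, ?_⟩
  obtain ⟨x, hx, hxD⟩ := exists_conj_centralizer_defect (isBlock_gblk hB) hmax' hle' hQf
  refine ⟨x, (subpairLE_iff (isPBlock_conjBlock x hf) he).2 ?_, ?_⟩
  · rw [sblk_conjBlock]; exact hx
  · rw [isDefectGroup_subgroupOf_iff (isPBlock_conjBlock x hf) inf_le_right, sblk_conjBlock]
    exact hxD

end Cfsg.Agent.S4661
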