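import Cfsg.Statements.S4662
import Cfsg.Agent.BlockPairs.Local
import Cfsg.Agent.BlockPairs.Lift

set_option autoImplicit false
open Cfsg CfsgLib.BlockPairs

namespace Cfsg.Agent.S4662

theorem stab_spec {G : Type*} [Group G] [Finite G] {p : ℕ} [Fact p.Prime] {M : Ideal AlgInt}
    [M.IsPrime] [CharP (CfsgLib.Blocks.Res M) p] [IsAlgClosed (CfsgLib.Blocks.Res M)]
    {Q : Subgroup G} {f : Set (IrrCharacter (Subgroup.centralizer (Q : Set G)))}
    (hf : Cfsg.IsPBlock M f) (hQ : IsPGroup p Q) {T : Subgroup G}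
    (hT : ∀ y : G, y ∈ T ↔ y ∈ Subgroup.normalizer (Q : Set G) ∧
      Cfsg.StabilizesBlock (Subgroup.centralizer (Q : Set G)) f y) :
    T = stab ⊤ Q (sblk M (Subgroup.centralizer (Q : Set G)) f) ∧
      ∃ F : Set (IrrCharacter T), Cfsg.IsPBlock M F ∧
        (∀ t : T, Cfsg.blockCoeff F t =
          Cfsg.subgroupBlockCoeff (Subgroup.centralizer (Q : Set G)) f (t : G)) ∧
        sblk M T F = sblk M (Subgroup.centralizer (Q : Set G)) f := by
  have hTs : T = stab ⊤ Q (sblk M (Subgroup.centralizer (Q : Set G)) f) := by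
    ext y
    rw [hT, mem_stab]
    simp only [Subgroup.mem_top, true_and]
    refine and_congr_right fun hy => ?_
    rw [stabilizesBlock_iff hf, and_iff_right (normalizer_le_normalizer_centralizer Q hy)]
  refine ⟨hTs, ?_⟩
  have hQf : IsPair p (⊤ : Subgroup G) Q (sblk M (Subgroup.centralizer (Q : Set G)) f) :=
    ⟨le_top, hQ, by rw [cent_top]; exact isBlock_sblk hf⟩
  have hr : T.subtype.range = T := T.range_subtype
  refine exists_block_lift (φ := T.subtype) T.subtype_injective ?_ hf ?_ ?_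
  · rw [hr, hTs]
    have := hQf.cent_le_stab
    rwa [cent_top] at this
  · intro t ht
    rw [hr] at ht
    exact ((hT t).1 ht).2
  · rw [hr, hTs]
    exact block_stabilizer hQf

/-- Fix a prime p and a maximal ideal M of the algebraic integers containing p. Let (P, e) be a maximal Brauer pair of the p-block B of the finite group G, Q ≤ P, and f the p-block of C_G(Q) with (Q, f) ≤ (P, e). Let T be the stabilizer of f in N_G(Q). Then the idempotent of f is a block idempotent of T, and N_P(Q) is contained in a defect group of that block of T; moreover for some x in G the conjugate pair (x Q x⁻¹, conjugate of f) again lies below (P, e) and, with T' the stabilizer of the conjugate of f in N_G(x Q x⁻¹), N_P(x Q x⁻¹) is a defect group of the block of T' whose idempotent is that of the conjugate of f. -/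
theorem result {G : Type*} [Group G] [Fintype G] (p : ℕ) [Fact p.Prime] (M : Ideal Cfsg.AlgInt) (hM : Cfsg.IsPModular p M) (B : Set (Cfsg.IrrCharacter G)) (P Q : Subgroup G) (e : Set (Cfsg.IrrCharacter (Subgroup.centralizer (P : Set G)))) (f : Set (Cfsg.IrrCharacter (Subgroup.centralizer (Q : Set G)))) (hmax : Cfsg.IsMaximalBrauerPair p M B P e) (hQP : Q ≤ P) (hf : Cfsg.IsPBlock M f) (hle : Cfsg.SubpairLE p M Q f P e) (T : Subgroup G) (hT : ∀ y : G, y ∈ T ↔ y ∈ Subgroup.normalizer (Q : Set G) ∧ Cfsg.StabilizesBlock (Subgroup.centralizer (Q : Set G)) f y) : (∃ F : Set (Cfsg.IrrCharacter T), Cfsg.IsPBlock M F ∧ (∀ t : T, Cfsg.blockCoeff F t = Cfsg.subgroupBlockCoeff (Subgroup.centralizer (Q : Set G)) f (t : G)) ∧ ∃ D : Subgroup T, Cfsg.IsDefectGroup p M F D ∧ (P ⊓ Subgroup.normalizer (Q : Set G)).subgroupOf T ≤ D) ∧ ∃ x : G, Cfsg.SubpairLE p M (Q.map (MulAut.conj x).toMonoidHom) (Cfsg.conjBlock Q x f) P e ∧ ∀ (T' : Subgroup G), (∀ y : G, y ∈ T' ↔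 y ∈ Subgroup.normalizer ((Q.map (MulAut.conj x).toMonoidHom) : Set G) ∧ Cfsg.StabilizesBlock (Subgroup.centralizer ((Q.map (MulAut.conj x).toMonoidHom) : Set G)) (Cfsg.conjBlock Q x f) y) → ∃ F' : Set (Cfsg.IrrCharacter T'), Cfsg.IsPBlock M F' ∧ (∀ t : T', Cfsg.blockCoeff F' t = Cfsg.subgroupBlockCoeff (Subgroup.centralizer ((Q.map (MulAut.conj x).toMonoidHom) : Set G)) (Cfsg.conjBlock Q x f) (t : G)) ∧ Cfsg.IsDefectGroup p M F' ((P ⊓ Subgroup.normalizer ((Q.map (MulAut.conj x).toMonoidHom) : Set G)).subgroupOf T') := by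
  haveI := CfsgLib.Blocks.IsPModular.isPrime hM
  haveI := CfsgLib.Blocks.charP_res hM
  haveI := isAlgClosed_res hM
  obtain ⟨⟨⟨-, he⟩, hB, -⟩, -⟩ := id hmax
  have hmax' := (isMaximalBrauerPair_iff hB he).1 hmax
  have hle' := (subpairLE_iff hf he).1 hle
  have hQp : IsPGroup p Q := hmax'.1.1.2.1.to_le hQP
  have hQf : IsPair p (⊤ : Subgroup G) Q (sblk M (Subgroup.centralizer (Q : Set G)) f) :=
    ⟨le_top, hQp, by rw [cent_top]; exact isBlock_sblk hf⟩
  obtain ⟨hTs, F, hF, hFc, hFb⟩ := stab_spec hf hQp hT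
  obtain ⟨D, hD, hle2⟩ := normalizer_part_le_defect hmax' hle' hQf
  refine ⟨⟨F, hF, hFc, D.subgroupOf T, (isDefectGroup_subgroupOf_iff hF (hTs ▸ hD.1)).2 ?_,
    fun u hu => hle2 hu⟩, ?_⟩
  · rw [hFb, hTs]; exact hD
  obtain ⟨x, hx, hxD⟩ := exists_conj_normalizer_defect (isBlock_gblk hB) hmax' hle' hQf
  refine ⟨x, (subpairLE_iff (isPBlock_conjBlock x hf) he).2 (by rw [sblk_conjBlock]; exact hx),
    fun T' hT' => ?_⟩
  obtain ⟨hTs', F', hF', hFc', hFb'⟩ :=
    stab_spec (p := p) (isPBlock_conjBlock x hf) (isPGroup_cj x hQp) hT'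
  rw [sblk_conjBlock] at hTs' hFb'
  refine ⟨F', hF', hFc', (isDefectGroup_subgroupOf_iff hF' (hTs' ▸ hxD.1)).2 ?_⟩
  rw [hFb', hTs']
  exact hxD

end Cfsg.Agent.S4662
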