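import Cfsg.Statements.S4664
import Cfsg.Agent.BlockPairs.RegularSpan
import Cfsg.Agent.Blocks.RegularSupport

set_option autoImplicit false
set_option linter.style.haveILetI false
open Cfsg CfsgLib.BlockPairs

namespace Cfsg.Agent.S4664

/-- Fix a prime p and a maximal ideal M of the algebraic integers containing p, and let B be a p-block of the finite group G. Let m be the p'-part of the order of G and η = exp(2πi/m). Then every coefficient of the idempotent of B lies in the cyclotomic field ℚ(η). -/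
theorem result {G : Type*} [Group G] [Fintype G] (p : ℕ) [Fact p.Prime] (M : Ideal Cfsg.AlgInt) (hM : Cfsg.IsPModular p M) (B : Set (Cfsg.IrrCharacter G)) (hB : Cfsg.IsPBlock M B) (g : G) : Cfsg.blockCoeff B g ∈ IntermediateField.adjoin ℚ ({Complex.exp (2 * Real.pi * Complex.I / ((Nat.card G / p ^ (Nat.card G).factorization p : ℕ) : ℂ))} : Set ℂ) := by
  haveI := CfsgLib.Blocks.IsPModular.isPrime hM
  classical
  by_cases hg : p ∣ orderOf g
  · rw [CfsgLib.Blocks.blockCoeff_eq_zero_of_singular hM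
      (CfsgLib.Blocks.isBlockUnion_of_isPBlock hB) hg]
    exact zero_mem _
  obtain ⟨m, hm⟩ : ∃ m : ℕ, m = Nat.card G / p ^ (Nat.card G).factorization p := ⟨_, rfl⟩
  rw [← hm]
  set F := IntermediateField.adjoin ℚ ({Complex.exp (2 * Real.pi * Complex.I / (m : ℂ))} : Set ℂ)
  have hm0 : m ≠ 0 := hm ▸ (Nat.ordCompl_pos p Nat.card_pos.ne').ne'
  haveI : NeZero m := ⟨hm0⟩
  have hdvd : orderOf g⁻¹ ∣ m := by
    rw [orderOf_inv, hm]
    refine (Nat.Coprime.dvd_of_dvd_mul_left ?_
      ((orderOf_dvd_natCard g).trans (Nat.ordProj_mul_ordCompl_eq_self _ p).symm.dvd))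
    exact (Nat.Coprime.pow_left _ ((Fact.out : p.Prime).coprime_iff_not_dvd.2 hg)).symm
  have hroot : ∀ w : ℂ, w ^ m = 1 → w ∈ F := fun w hw => by
    obtain ⟨i, -, rfl⟩ := (Complex.isPrimitiveRoot_exp m hm0).eq_pow_of_pow_eq_one hw
    refine pow_mem ?_ i
    exact IntermediateField.subset_adjoin ℚ _ (Set.mem_singleton _)
  unfold Cfsg.blockCoeff
  refine mul_mem (inv_mem (natCast_mem _ _)) ?_
  rw [finsum_mem_eq_toFinset_sum]
  refine sum_mem fun χ _ => mul_mem ?_ ?_
  · rw [← CfsgLib.Blocks.charDegree_cast]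
    exact natCast_mem _ _
  · rw [← CfsgLib.Characters.character_inv (CfsgLib.Characters.isCharacter_of_isIrr χ.2)]
    obtain ⟨k, ρ, -, hρ⟩ := χ.2
    obtain ⟨μ, hμ, hj, -⟩ := CfsgLib.Characters.exists_eigenvalues ρ g⁻¹
    have h1 := hj 1
    rw [pow_one] at h1
    rw [← hρ, h1]
    refine sum_mem fun i _ => ?_
    rw [pow_one]
    exact hroot _ (orderOf_dvd_iff_pow_eq_one.1 ((orderOf_dvd_iff_pow_eq_one.2 (hμ i)).trans hdvd))

end Cfsg.Agent.S4664
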