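import Cfsg.Statements.S4665
import Cfsg.Agent.BlockPairs.RegularSpan
import Cfsg.Agent.Blocks.RegularSupport

set_option autoImplicit false
set_option linter.style.haveILetI false
open Cfsg CfsgLib.BlockPairs

namespace Cfsg.Agent.S4665

/-- Fix a prime p, a maximal ideal M of the algebraic integers containing p, and a p-block B of the finite group G, and let p^a be the p-part of the order of G. Let χ be an integer combination of the irreducible characters in B. If the function that agrees with χ on p-regular elements and vanishes on p-singular elements is again an integer combination of the irreducible characters in B, then p^a divides χ(1). -/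
theorem result {G : Type*} [Group G] [Fintype G] (p : ℕ) [Fact p.Prime] (M : Ideal Cfsg.AlgInt) (hM : Cfsg.IsPModular p M) (B : Set (Cfsg.IrrCharacter G)) (hB : Cfsg.IsPBlock M B) (χ : G → ℂ) (hχ : (∃ n : Cfsg.IrrCharacter G → ℤ, ∀ g : G, χ g = ∑ᶠ ψ ∈ B, (n ψ : ℂ) * (ψ : G → ℂ) g)) (h0 : (∃ n : Cfsg.IrrCharacter G → ℤ, ∀ g : G, Cfsg.pRegularPart p χ g = ∑ᶠ ψ ∈ B, (n ψ : ℂ) * (ψ : G → ℂ) g)) : ∃ k : ℤ, χ 1 = (p ^ (Nat.card G).factorization p : ℂ) * k := by
  classical
  obtain ⟨m, hm⟩ := h0
  simp only [finsum_mem_eq_toFinset_sum] at hm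
  have hgen : Cfsg.IsGeneralizedCharacter G (Cfsg.pRegularPart p χ) := by
    rw [show Cfsg.pRegularPart p χ = ∑ ψ ∈ B.toFinset, (m ψ : ℂ) • (ψ : G → ℂ) from funext fun g => by
      simpa [Finset.sum_apply] using hm g]
    exact CfsgLib.Characters.isGen_sum _ _ fun ψ _ =>
      CfsgLib.Characters.isGen_zsmul (CfsgLib.Characters.isGen_of_isIrr ψ.2) _
  obtain ⟨P⟩ : Nonempty (Sylow p G) := inferInstance
  haveI := Fintype.ofFinite ↥(P : Subgroup G)
  obtain ⟨z, hz⟩ := CfsgLib.Characters.classInner_gen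
    (CfsgLib.Characters.isGen_restrict (P : Subgroup G) hgen) CfsgLib.Characters.isGen_one
  refine ⟨z, ?_⟩
  have hc : (Nat.card ↥(P : Subgroup G) : ℂ) = (p : ℂ) ^ (Nat.card G).factorization p := by
    exact_mod_cast congrArg (fun k : ℕ => (k : ℂ)) P.card_eq_multiplicity
  rw [← hc, ← hz, Cfsg.classInner, ← mul_assoc,
    mul_inv_cancel₀ (Nat.cast_ne_zero.2 Nat.card_pos.ne'), one_mul,
    Finset.sum_eq_single (1 : ↥(P : Subgroup G))]
  · simp [Cfsg.pRegularPart, Cfsg.IsPRegular, (Fact.out : p.Prime).ne_one]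
  · intro x _ hx
    obtain ⟨j, hj⟩ := IsPGroup.iff_orderOf.1 P.isPGroup' x
    have : p ∣ orderOf (x : G) := by
      rw [Subgroup.orderOf_coe, hj]
      refine dvd_pow_self p ?_
      rintro rfl
      rw [pow_zero, orderOf_eq_one_iff] at hj
      exact hx hj
    rw [Subgroup.orderOf_coe] at this
    simp [Cfsg.pRegularPart, Cfsg.IsPRegular, this]
  · intro h
    exact absurd (Finset.mem_univ _) h

end Cfsg.Agent.S4665
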