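import Cfsg.Statements.S4666
import Cfsg.Agent.BlockPairs.RegularSpan
import Cfsg.Agent.Blocks.RegularSupport

set_option autoImplicit false
set_option linter.style.haveILetI false
open Cfsg CfsgLib.BlockPairs

namespace Cfsg.Agent.S4666

/-- Fix a prime p and a maximal ideal M of the algebraic integers containing p, and a p-block B of the finite group G of defect d. For every integer combination χ of the irreducible characters in B, p^d times the function that agrees with χ on p-regular elements and vanishes elsewhere is again an integer combination of the irreducible characters in B. -/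
theorem result {G : Type*} [Group G] [Fintype G] (p : ℕ) [Fact p.Prime] (M : Ideal Cfsg.AlgInt) (hM : Cfsg.IsPModular p M) (B : Set (Cfsg.IrrCharacter G)) (hB : Cfsg.IsPBlock M B) (χ : G → ℂ) (hχ : (∃ n : Cfsg.IrrCharacter G → ℤ, ∀ g : G, χ g = ∑ᶠ ψ ∈ B, (n ψ : ℂ) * (ψ : G → ℂ) g)) : (∃ n : Cfsg.IrrCharacter G → ℤ, ∀ g : G, (p ^ Cfsg.blockDefect p B : ℂ) * Cfsg.pRegularPart p χ g = ∑ᶠ ψ ∈ B, (n ψ : ℂ) * (ψ : G → ℂ) g) := by
  haveI := CfsgLib.Blocks.IsPModular.isPrime hM
  classical
  obtain ⟨n, hn⟩ := hχ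
  simp only [finsum_mem_eq_toFinset_sum] at hn ⊢
  refine ⟨fun ψ => ∑ φ ∈ B.toFinset, n φ * CfsgLib.Contributions.contrib p B φ ψ, fun g => ?_⟩
  have hreg : Cfsg.pRegularPart p χ g =
      ∑ φ ∈ B.toFinset, (n φ : ℂ) * Cfsg.pRegularPart p (φ : G → ℂ) g := by
    simp only [Cfsg.pRegularPart]
    split_ifs <;> simp [hn]
  have hb : ∀ φ ∈ B.toFinset, (p : ℂ) ^ Cfsg.blockDefect p B * Cfsg.pRegularPart p (φ : G → ℂ) g =
      ∑ ψ ∈ B.toFinset, (CfsgLib.Contributions.contrib p B φ ψ : ℂ) * (ψ : G → ℂ) g := by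
    intro φ hφ
    have := congrFun (CfsgLib.Contributions.pow_defect_pRegularPart (p := p) hM hB
      (Set.mem_toFinset.1 hφ)) g
    simpa [Finset.sum_apply] using this
  rw [hreg, Finset.mul_sum]
  rw [Finset.sum_congr rfl fun φ hφ => by
    rw [mul_left_comm, hb φ hφ, Finset.mul_sum]]
  rw [Finset.sum_comm]
  refine Finset.sum_congr rfl fun ψ _ => ?_
  push_cast
  rw [Finset.sum_mul]
  exact Finset.sum_congr rfl fun φ _ => by ring

end Cfsg.Agent.S4666
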