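import Cfsg.Statements.S4668
import Cfsg.Agent.BlockPairs.ExactSupport
import Cfsg.Agent.BlockPairs.PIndex
import Cfsg.Agent.BlockPairs.ResField

set_option autoImplicit false
set_option linter.style.haveILetI false
open Cfsg CfsgLib.BlockPairs

namespace Cfsg.Agent.S4668

/-- Fix a prime p and a maximal ideal M of the algebraic integers containing p. Let Q₀ < Q₁ < ⋯ < Q_m be a strictly increasing chain of p-subgroups of the finite group G and N the intersection of their normalizers. Then every block idempotent of N is supported on C_G(Q_m): for every p-block E of N, the idempotent coefficient of E vanishes at every element of N outside C_G(Q_m). -/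
theorem result {G : Type*} [Group G] [Fintype G] (p : ℕ) [Fact p.Prime] (M : Ideal Cfsg.AlgInt) (hM : Cfsg.IsPModular p M) (m : ℕ) (Q : Fin (m + 1) → Subgroup G) (hQ : StrictMono Q) (hQp : ∀ i, IsPGroup p (Q i)) (N : Subgroup G) (hN : ∀ g : G, g ∈ N ↔ ∀ i, g ∈ Subgroup.normalizer (Q i : Set G)) (E : Set (Cfsg.IrrCharacter N)) (hE : Cfsg.IsPBlock M E) (n : N) (hn : (n : G) ∉ Subgroup.centralizer (Q (Fin.last m) : Set G)) : Cfsg.blockCoeff E n = 0 := by
  haveI := CfsgLib.Blocks.IsPModular.isPrime hM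
  haveI := CfsgLib.Blocks.charP_res hM
  haveI := isAlgClosed_res hM
  classical
  haveI := Fintype.ofFinite N
  set K : Subgroup N := (Subgroup.centralizer (Q (Fin.last m) : Set G)).subgroupOf N
  haveI : K.Normal := ⟨fun c hc t =>
    (Subgroup.mem_normalizer_iff.1
      (normalizer_le_normalizer_centralizer _ ((hN t).1 t.2 (Fin.last m))) c).1 hc⟩
  haveI := Fintype.ofFinite K
  refine blockCoeff_eq_zero_of_mem K hE (fun g hg => ?_) hn
  have hu := isBlock_sblk (M := M) hE
  by_contra hne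
  have hcoeff : (sblk M N E).coeff (g : G) ≠ 0 := by
    rw [sblk_coeff, Cfsg.subgroupBlockCoeff, dif_pos g.2, redC_of_mem
      (CfsgLib.Blocks.memLocalRing_blockCoeff (CfsgLib.Blocks.isBlockUnion_of_isPBlock hE) g)]
    exact fun h => hne (CfsgLib.Blocks.red_eq_zero_iff.1 h)
  have hreg : Cfsg.IsPRegular p (g : G) := fun h => hcoeff (hu.coeff_eq_zero_of_singular hM h)
  refine hg (?_ : (g : G) ∈ Subgroup.centralizer (Q (Fin.last m) : Set G))
  have hmono : ∀ i j, i ≤ j → Q i ≤ Q j := fun i j h => hQ.monotone h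
  suffices key : ∀ (k : ℕ) (i : Fin (m + 1)), (i : ℕ) = k →
      ∀ u ∈ Q i, u * (g : G) = (g : G) * u by
    exact Subgroup.mem_centralizer_iff.2 fun u hu => key _ (Fin.last m) rfl u hu
  intro k
  induction k using Nat.strong_induction_on with
  | _ k ih =>
    intro i hik u hu'
    have hfix : ∀ y ∈ Q i ⊓ N, y * (g : G) = (g : G) * y := fun y hy => by
      have hn : N ≤ Subgroup.normalizer ((Q i ⊓ N : Subgroup G) : Set G) := fun t ht =>
        mem_normalizer_of_cj_eq (by
          rw [cj, Subgroup.map_inf _ _ _ (MulAut.conj t).injective]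
          exact congrArg₂ (· ⊓ ·) (cj_eq_self ((hN t).1 ht i))
            (cj_eq_self (Subgroup.le_normalizer ht)))
      exact Subgroup.mem_centralizer_iff.1 ((isSupp_centralizer_of_normal
        ((hQp i).to_le inf_le_left) inf_le_right hn hu.mem hu.idem) _ hcoeff).2 y hy
    set C := Q i ⊓ Subgroup.centralizer ({(g : G)} : Set G) with hC
    suffices hCQ : C = Q i by
      exact Subgroup.mem_centralizer_singleton_iff.1 ((hCQ.ge hu').2)
    by_contra hne'
    refine (lt_normalizer_inf (hQp i) (lt_of_le_of_ne inf_le_left hne')).ne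
      (le_antisymm (le_inf Subgroup.le_normalizer inf_le_left) fun x hx => ?_)
    obtain ⟨hxn, hxQ⟩ := hx
    refine ⟨hxQ, Subgroup.mem_centralizer_singleton_iff.2 ?_⟩
    have hgx : (g : G) * x * (g : G)⁻¹ ∈ Q i :=
      (Subgroup.mem_normalizer_iff.1 ((hN g).1 g.2 i) x).1 hxQ
    have hyQ : x⁻¹ * ((g : G) * x * (g : G)⁻¹) ∈ Q i := (Q i).mul_mem ((Q i).inv_mem hxQ) hgx
    have hycomm : ∀ j, j < i → ∀ c ∈ Q j,
        c * (x⁻¹ * ((g : G) * x * (g : G)⁻¹)) = x⁻¹ * ((g : G) * x * (g : G)⁻¹) * c := by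
      intro j hj c hc
      have h1 : c * (g : G) = (g : G) * c := ih _ (hik ▸ hj) j rfl c hc
      have hcC : c ∈ C := ⟨hmono j i hj.le hc, Subgroup.mem_centralizer_singleton_iff.2 h1⟩
      have h2 : x * c * x⁻¹ * (g : G) = (g : G) * (x * c * x⁻¹) :=
        Subgroup.mem_centralizer_singleton_iff.1 ((Subgroup.mem_normalizer_iff.1 hxn c).1 hcC).2
      calc c * (x⁻¹ * ((g : G) * x * (g : G)⁻¹))
          = x⁻¹ * ((x * c * x⁻¹ * (g : G)) * x * (g : G)⁻¹) := by group
        _ = x⁻¹ * (g : G) * x * (c * (g : G)⁻¹) := by rw [h2]; group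
        _ = x⁻¹ * (g : G) * x * ((g : G)⁻¹ * c) := by
            rw [((Commute.inv_right (h1 : Commute c (g : G))) : c * (g : G)⁻¹ = (g : G)⁻¹ * c)]
        _ = x⁻¹ * ((g : G) * x * (g : G)⁻¹) * c := by group
    have hyN : x⁻¹ * ((g : G) * x * (g : G)⁻¹) ∈ N := (hN _).2 fun j => by
      rcases lt_or_ge j i with hj | hj
      · exact Subgroup.centralizer_le_normalizer _ (Subgroup.mem_centralizer_iff.2 (hycomm j hj))
      · exact Subgroup.le_normalizer (hmono i j hj hyQ)
    have hy := hfix _ ⟨hyQ, hyN⟩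
    have hit : ∀ j : ℕ, (g : G) ^ j * x * ((g : G) ^ j)⁻¹ =
        x * (x⁻¹ * ((g : G) * x * (g : G)⁻¹)) ^ j := by
      intro j
      induction j with
      | zero => simp
      | succ j ihj =>
        have hc : Commute (g : G) ((x⁻¹ * ((g : G) * x * (g : G)⁻¹)) ^ j) :=
          Commute.pow_right hy.symm j
        calc (g : G) ^ (j + 1) * x * ((g : G) ^ (j + 1))⁻¹
            = (g : G) * ((g : G) ^ j * x * ((g : G) ^ j)⁻¹) * (g : G)⁻¹ := by rw [pow_succ']; group
          _ = ((g : G) * x * (g : G)⁻¹) *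
              ((g : G) * (x⁻¹ * ((g : G) * x * (g : G)⁻¹)) ^ j * (g : G)⁻¹) := by rw [ihj]; group
          _ = ((g : G) * x * (g : G)⁻¹) * (x⁻¹ * ((g : G) * x * (g : G)⁻¹)) ^ j := by
              rw [hc.eq, mul_inv_cancel_right]
          _ = _ := by rw [pow_succ', ← mul_assoc x, mul_inv_cancel_left]
    have h1 : x⁻¹ * ((g : G) * x * (g : G)⁻¹) = 1 := by
      refine isPGroup_centralizes (hQp i) hyQ hreg fun j hj => ?_
      have h3 := hit j
      rw [hj] at h3
      simpa using h3.symm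
    rw [inv_mul_eq_one, eq_mul_inv_iff_mul_eq] at h1
    exact h1

end Cfsg.Agent.S4668
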