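import Cfsg.Statements.S4670
import Cfsg.Agent.BlockPairs.Correspondence
import Cfsg.Agent.BlockPairs.ResField

set_option autoImplicit false
set_option linter.style.haveILetI false
open Cfsg CfsgLib.BlockPairs

namespace Cfsg.Agent.S4670

/-- Fix a prime p and a maximal ideal M of the algebraic integers containing p. Let P be a p-subgroup of the finite group G and H a subgroup containing N_G(P). For every p-block B of G with defect group P there is exactly one p-block c of H with defect group P whose idempotent agrees with that of B, modulo the local ideal at M, at every element of C_G(P) (their Brauer-map images at P coincide); and every p-block c of H with defect group P arises in this way from exactly one such B. This is the Brauer correspondence over H. -/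
theorem result {G : Type*} [Group G] [Fintype G] (p : ℕ) [Fact p.Prime] (M : Ideal Cfsg.AlgInt) (hM : Cfsg.IsPModular p M) (P H : Subgroup G) (hP : IsPGroup p P) (hH : Subgroup.normalizer (P : Set G) ≤ H) : (∀ B : Set (Cfsg.IrrCharacter G), Cfsg.IsPBlock M B → Cfsg.IsDefectGroup p M B P → ∃! c : Set (Cfsg.IrrCharacter H), Cfsg.IsPBlock M c ∧ Cfsg.IsDefectGroup p M c (P.subgroupOf H) ∧ ∀ x : G, x ∈ Subgroup.centralizer (P : Set G) → Cfsg.MemLocalIdeal M (Cfsg.blockCoeff B x - Cfsg.subgroupBlockCoeff H c x)) ∧ (∀ c : Set (Cfsg.IrrCharacter H), Cfsg.IsPBlock M c → Cfsg.IsDefectGroup p M c (P.subgroupOf H) → ∃! B : Set (Cfsg.IrrCharacter G), Cfsg.IsPBlock M B ∧ Cfsg.IsDefectGroup p M B P ∧ ∀ x : G, x ∈ Subgroup.centralizer (P : Set G) → Cfsg.MemLocalIdeal M (Cfsg.blockCoeff B x - Cfsg.subgroupBlockCoeff H c x)) := by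
  haveI := CfsgLib.Blocks.IsPModular.isPrime hM
  haveI := CfsgLib.Blocks.charP_res hM
  haveI := isAlgClosed_res hM
  have hPH : P ≤ H := Subgroup.le_normalizer.trans hH
  have hNG : (⊤ : Subgroup G) ⊓ Subgroup.normalizer (P : Set G) = Subgroup.normalizer (P : Set G) :=
    top_inf_eq _
  have hNH : H ⊓ Subgroup.normalizer (P : Set G) = Subgroup.normalizer (P : Set G) :=
    inf_eq_right.2 hH
  refine ⟨fun B hB hBd => ?_, fun c hc hcd => ?_⟩
  · have hb := isBlock_gblk (M := M) hB
    have hd := (isDefectGroup_gblk_iff hB P).1 hBd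
    obtain ⟨h1, h2⟩ := isBlock_br_of_defect hb hd
    rw [hNG, ← hNH] at h1 h2
    obtain ⟨e, he, hed, hbr⟩ := exists_of_defect h1 h2
    obtain ⟨c, hc, rfl⟩ := exists_eq_sblk (M := M) he
    refine ⟨c, ⟨hc, (isDefectGroup_subgroupOf_iff hc hPH).2 hed,
      (br_gblk_eq_br_sblk_iff hB hc P).1 hbr.symm⟩, ?_⟩
    rintro c' ⟨hc', hc'd, hc'c⟩
    refine sblk_inj hc' hc (eq_of_br_eq (isBlock_sblk hc') he
      ((isDefectGroup_subgroupOf_iff hc' hPH).1 hc'd) ?_)
    rw [hbr]
    exact ((br_gblk_eq_br_sblk_iff hB hc' P).2 hc'c).symm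
  · have he := isBlock_sblk (M := M) hc
    have hd := (isDefectGroup_subgroupOf_iff hc hPH).1 hcd
    obtain ⟨h1, h2⟩ := isBlock_br_of_defect he hd
    rw [hNH, ← hNG] at h1 h2
    obtain ⟨b, hb, hbd, hbr⟩ := exists_of_defect h1 h2
    obtain ⟨B, hB, rfl⟩ := exists_eq_gblk (M := M) hb
    refine ⟨B, ⟨hB, (isDefectGroup_gblk_iff hB P).2 hbd,
      (br_gblk_eq_br_sblk_iff hB hc P).1 hbr⟩, ?_⟩
    rintro B' ⟨hB', hB'd, hB'c⟩
    refine gblk_inj hB' hB (eq_of_br_eq (isBlock_gblk hB') hb
      ((isDefectGroup_gblk_iff hB' P).1 hB'd) ?_)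
    rw [hbr]
    exact (br_gblk_eq_br_sblk_iff hB' hc P).2 hB'c

end Cfsg.Agent.S4670
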