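import Cfsg.Statements.S4672
import Cfsg.Agent.BlockPairs.NormalClass
import Cfsg.Agent.BlockPairs.PIndex
import Cfsg.Agent.BlockPairs.Lift
import Cfsg.Agent.BlockPairs.ResField

set_option autoImplicit false
set_option linter.style.haveILetI false
open Cfsg CfsgLib.BlockPairs

namespace Cfsg.Agent.S4672

/-- Fix a prime p and a maximal ideal M of the algebraic integers containing p. Let N be a normal subgroup of the finite group G of p-power index and c a p-block of N stable under conjugation by G. Then the idempotent of c is a block idempotent of G: there is a p-block B of G whose idempotent coefficients agree with those of c on N and vanish off N; and for every defect group P of such a block B, G = NP and P ∩ N is a defect group of c. -/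
theorem result {G : Type*} [Group G] [Fintype G] (p : ℕ) [Fact p.Prime] (M : Ideal Cfsg.AlgInt) (hM : Cfsg.IsPModular p M) (N : Subgroup G) [N.Normal] (hN : ∃ k : ℕ, N.index = p ^ k) (c : Set (Cfsg.IrrCharacter N)) (hc : Cfsg.IsPBlock M c) (hst : ∀ x : G, Cfsg.StabilizesBlock N c x) : (∃ B : Set (Cfsg.IrrCharacter G), Cfsg.IsPBlock M B ∧ ∀ g : G, Cfsg.blockCoeff B g = Cfsg.subgroupBlockCoeff N c g) ∧ ∀ B : Set (Cfsg.IrrCharacter G), Cfsg.IsPBlock M B → (∀ g : G, Cfsg.blockCoeff B g = Cfsg.subgroupBlockCoeff N c g) → ∀ P : Subgroup G, Cfsg.IsDefectGroup p M B P → N ⊔ P = ⊤ ∧ Cfsg.IsDefectGroup p M c ((P ⊓ N).subgroupOf N) := by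
  haveI := CfsgLib.Blocks.IsPModular.isPrime hM
  haveI := CfsgLib.Blocks.charP_res hM
  haveI := isAlgClosed_res hM
  classical
  obtain ⟨k, hk⟩ := hN
  have hreg : ∀ x, Cfsg.IsPRegular p x → x ∈ N := fun x hx => mem_of_index_pow N hk hx
  have hcN : IsBlock N (sblk M N c) := isBlock_sblk hc
  have hfix : ∀ t : G, conjA _ t (sblk M N c) = sblk M N c := fun t =>
    ((stabilizesBlock_iff hc).1 (hst t)).2
  have hcG : IsBlock (⊤ : Subgroup G) (sblk M N c) := by
    have h := isBlock_orbitSum_of_index (K := (⊤ : Subgroup G)) hM ‹N.Normal› (fun x _ => hreg x)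
      (g := sblk M N c) (by rwa [top_inf_eq])
    have h1 : orbitSum (⊤ : Subgroup G) (sblk M N c) = sblk M N c := by
      rw [orbitSum, Finset.sum_eq_single (sblk M N c)]
      · intro a ha hne
        obtain ⟨y, rfl⟩ := (Set.Finite.mem_toFinset _).1 ha
        exact absurd (hfix y) hne
      · intro h
        refine absurd ((Set.Finite.mem_toFinset _).2 ?_) h
        exact ⟨1, conjA_one_left _⟩
    rwa [h1] at h
  refine ⟨?_, fun B hB hBc P hP => ?_⟩
  · obtain ⟨B, hB, hBc, -⟩ := exists_block_lift (φ := MonoidHom.id G) (fun _ _ h => h)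
      (by rw [range_id_eq]; exact le_top) hc (fun t _ => hst t) (by rwa [range_id_eq])
    exact ⟨B, hB, hBc⟩
  · have heq : gblk M B = sblk M N c := ga_ext fun g => by rw [gblk_coeff, sblk_coeff, hBc]
    have hP' := (isDefectGroup_gblk_iff hB P).1 hP
    rw [heq] at hP'
    obtain ⟨h1, h2⟩ := isDefectGrp_inf_of_index hk hcN hcG hP'
    exact ⟨h1, (isDefectGroup_subgroupOf_iff hc inf_le_right).2 h2⟩

end Cfsg.Agent.S4672
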