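import Cfsg.Statements.S4673
import Cfsg.Agent.BlockPairs.Covering
import Cfsg.Agent.BlockPairs.NormalClass
import Cfsg.Agent.BlockPairs.PIndex
import Cfsg.Agent.BlockPairs.ResField

set_option autoImplicit false
set_option linter.style.haveILetI false
open Cfsg CfsgLib.BlockPairs

namespace Cfsg.Agent.S4673

/-- Fix a prime p and a maximal ideal M of the algebraic integers containing p. Let N ≤ L be normal subgroups of the finite group G with L/N a p-group, let B be a p-block of G covering the p-block c of N (some member of B has a constituent in c on restriction to N), and suppose that N contains a defect group of B. Then the stabilizer T of c in G satisfies T ∩ L = N. -/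
theorem result {G : Type*} [Group G] [Fintype G] (p : ℕ) [Fact p.Prime] (M : Ideal Cfsg.AlgInt) (hM : Cfsg.IsPModular p M) (N L : Subgroup G) [N.Normal] [L.Normal] [Fintype N] (hNL : N ≤ L) (hLN : ∃ k : ℕ, (N.subgroupOf L).index = p ^ k) (B : Set (Cfsg.IrrCharacter G)) (hB : Cfsg.IsPBlock M B) (c : Set (Cfsg.IrrCharacter N)) (hc : Cfsg.IsPBlock M c) (hcov : (∃ χ ∈ B, ∃ θ ∈ c, Cfsg.classInner (fun n : N => (χ : G → ℂ) n) (θ : N → ℂ) ≠ 0)) (hD : ∃ D : Subgroup G, Cfsg.IsDefectGroup p M B D ∧ D ≤ N) (T : Subgroup G) (hT : ∀ x : G, x ∈ T ↔ Cfsg.StabilizesBlock N c x) : T ⊓ L = N := by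
  haveI := CfsgLib.Blocks.IsPModular.isPrime hM
  haveI := CfsgLib.Blocks.charP_res hM
  haveI := isAlgClosed_res hM
  classical
  have hp : p.Prime := Fact.out
  obtain ⟨D, hD, hDN⟩ := hD
  obtain ⟨k, hk⟩ := hLN
  have hb := isBlock_gblk (M := M) hB
  have hbg := (cover_iff N hB hc).1 hcov
  have hg := isBlock_sblk (M := M) hc
  set g := sblk M N c with hgdef
  have hNT : N ≤ T ⊓ L := fun n hn => ⟨(hT n).2 ((stabilizesBlock_iff hc).2
    ⟨Subgroup.le_normalizer hn, hg.fixed n hn⟩), hNL hn⟩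
  refine le_antisymm (fun x hx => ?_) hNT
  by_contra hxN
  set T1 := T ⊓ L with hT1
  have hfix : ∀ t ∈ T1, conjA _ t g = g := fun t ht =>
    ((stabilizesBlock_iff hc).1 ((hT t).1 ht.1)).2
  have hreg : ∀ y ∈ L, Cfsg.IsPRegular p y → y ∈ N := fun y hy hyr => by
    have hyr' : Cfsg.IsPRegular p (⟨y, hy⟩ : L) := by
      show ¬ p ∣ orderOf (⟨y, hy⟩ : L)
      rwa [Subgroup.orderOf_mk]
    exact mem_of_index_pow (N.subgroupOf L) hk hyr'
  have hidx : ∃ j, N.relIndex T1 = p ^ j := by
    have h1 : N.relIndex T1 ∣ N.relIndex L :=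
      Dvd.intro (T1.relIndex L) (Subgroup.relIndex_mul_relIndex N T1 L hNT inf_le_right)
    obtain ⟨j, -, hj⟩ := (Nat.dvd_prime_pow hp).1 ((show N.relIndex L = p ^ k from hk) ▸ h1 :
      N.relIndex T1 ∣ p ^ k)
    exact ⟨j, hj⟩
  obtain ⟨j, hj⟩ := hidx
  have hgT : IsBlock T1 g := by
    have h := isBlock_orbitSum_of_index (K := T1) hM ‹N.Normal› (fun y hy => hreg y hy.2)
      (g := g) (by rwa [inf_eq_right.2 hNT])
    have h1 : orbitSum T1 g = g := by
      rw [orbitSum, Finset.sum_eq_single g]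
      · intro a ha hne
        obtain ⟨y, rfl⟩ := (Set.Finite.mem_toFinset _).1 ha
        exact absurd (hfix y y.2) hne
      · intro h
        refine absurd ((Set.Finite.mem_toFinset _).2 ?_) h
        exact ⟨1, conjA_one_left _⟩
    rwa [h1] at h
  have ho : IsBlock L (orbitSum L g) :=
    isBlock_orbitSum_of_index (K := L) hM ‹N.Normal› hreg (g := g) (by rwa [inf_eq_right.2 hNL])
  have hog : orbitSum L g * g = g :=
    orbitSum_mul_self' (K := L) ‹N.Normal› (g := g) (by rwa [inf_eq_right.2 hNL])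
  -- a p-element of the stabilizer outside N surviving the Brauer map
  obtain ⟨h, -, hcoeff, hom⟩ := exists_class_omega_ne_zero hgT hgT.mem
    (by rw [omega_self hgT]; exact one_ne_zero)
  obtain ⟨hsplit, -⟩ := exists_class_inf_of_index hNT hj hg hgT (hg.supp h hcoeff) hom
  obtain ⟨y, ⟨hyT, hyh⟩, hyx⟩ := hsplit x hx
  have hyN : y ∉ N := fun hy => hxN (by simpa using N.mul_mem hy hyx)
  set a := (orderOf y).factorization p
  set m := orderOf y / p ^ a
  have ham : p ^ a * m = orderOf y := Nat.ordProj_mul_ordCompl_eq_self _ p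
  have hm : ¬ p ∣ m := Nat.not_dvd_ordCompl hp (orderOf_pos y).ne'
  have hym : y ^ m ∉ N := fun h1 => by
    have h2 : y ^ p ^ a ∈ N := hreg _ (L.pow_mem hyT.2 _) fun hd => hm (hd.trans (by
      rw [orderOf_dvd_iff_pow_eq_one, ← pow_mul, ham, pow_orderOf_eq_one]))
    have hb := Nat.gcd_eq_gcd_ab (p ^ a) m
    rw [((hp.coprime_iff_not_dvd.2 hm).pow_left a).gcd_eq_one, Nat.cast_one] at hb
    apply hyN
    rw [← zpow_one y, hb, zpow_add, zpow_mul, zpow_mul, zpow_natCast, zpow_natCast]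
    exact N.mul_mem (N.zpow_mem h2 _) (N.zpow_mem h1 _)
  set R := Subgroup.zpowers (y ^ m)
  have hRT : R ≤ T1 := Subgroup.zpowers_le.2 (T1.pow_mem hyT _)
  have hRp : IsPGroup p R := by
    obtain ⟨i, -, hi⟩ := (Nat.dvd_prime_pow hp).1
      (show orderOf (y ^ m) ∣ p ^ a by
        rw [orderOf_dvd_iff_pow_eq_one, ← pow_mul, mul_comm, ham, pow_orderOf_eq_one])
    exact IsPGroup.of_card (n := i) (by rw [Nat.card_zpowers, hi])
  have hRg : br R g ≠ 0 := fun h0 => hcoeff (by
    have hhc : h ∈ Subgroup.centralizer (R : Set G) := Subgroup.mem_centralizer_iff.2 fun u hu =>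
      Subgroup.mem_centralizer_singleton_iff.1 ((Subgroup.zpowers_le.2
        ((Subgroup.centralizer ({h} : Set G)).pow_mem hyh m)) hu)
    have := congrArg (fun z : GA _ G => z.coeff h) h0
    simpa [br_coeff_mem R g hhc] using this)
  have hRo : br R (orbitSum L g) ≠ 0 := fun h0 => hRg (by
    conv_lhs => rw [← hog]
    rw [br_mul hRp (ho.fixed.mono (hRT.trans inf_le_right)) (hgT.fixed.mono hRT), h0, zero_mul])
  have hbo : gblk M B * orbitSum L g ≠ 0 := fun h0 => hbg (by
    rw [← hog, ← mul_assoc, h0, zero_mul])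
  obtain ⟨z, -, hz⟩ := ((isDefectGroup_gblk_iff hB D).1 hD).2.2.2 R le_top hRp
    (br_ne_zero_of_cover hb ho hbo (hRT.trans inf_le_right) hRp hRo)
  have h5 : R ≤ N := by
    rw [← cj_inv_cj z R]
    exact (cj_mono _ (hz.trans hDN)).trans (cj_of_normal z⁻¹).le
  exact hym (h5 (Subgroup.mem_zpowers _))

end Cfsg.Agent.S4673
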