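import Cfsg.Statements.S4674
import Cfsg.Agent.BlockPairs.BrauerInduction
import Cfsg.Agent.BlockPairs.ResField

set_option autoImplicit false
set_option linter.style.haveILetI false
open Cfsg CfsgLib.BlockPairs

namespace Cfsg.Agent.S4674

/-- Fix a prime p and a maximal ideal M of the algebraic integers containing p. Let N be a normal subgroup of the finite group G, Q a p-subgroup of N, H = N_G(Q) and L = H ∩ N = N_N(Q). Let d be a p-block of N with defect group Q and e the p-block of L with defect group Q that induces d inside N (its Brauer correspondent). Then block induction from H to G is a bijection from the p-blocks of H covering e onto the p-blocks of G covering d: every block of H covering e induces exactly one block of G, and that block covers d; and every block of G covering d is induced by exactly one block of H covering e. -/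
theorem result {G : Type*} [Group G] [Fintype G] (p : ℕ) [Fact p.Prime] (M : Ideal Cfsg.AlgInt) (hM : Cfsg.IsPModular p M) (N : Subgroup G) [N.Normal] [Fintype N] (Q : Subgroup G) (hQ : IsPGroup p Q) (hQN : Q ≤ N) [Fintype ↥(Subgroup.normalizer (Q : Set G) ⊓ N)] (d : Set (Cfsg.IrrCharacter N)) (hd : Cfsg.IsPBlock M d) (hdQ : Cfsg.IsDefectGroup p M d (Q.subgroupOf N)) (e : Set (Cfsg.IrrCharacter ↥(Subgroup.normalizer (Q : Set G) ⊓ N))) (he : Cfsg.IsPBlock M e) (heQ : Cfsg.IsDefectGroup p M e (Q.subgroupOf (Subgroup.normalizer (Q : Set G) ⊓ N))) (hed : Cfsg.IsInducedBlockIn M N (Subgroup.normalizer (Q : Set G) ⊓ N) e d) : (∀ c : Set (Cfsg.IrrCharacter ↥(Subgroup.normalizer (Q : Set G))), Cfsg.IsPBlock M c → (∃ ψ ∈ c, ∃ ξ ∈ e, Cfsg.classInner (fun l : ↥(Subgroup.normalizer (Q : Set G) ⊓ N) => (ψ : ↥(Subgroup.normalizer (Q : Set G)) → ℂ) (Subgroup.inclusion inf_le_left l)) (ξ : ↥(Subgroup.normalizer (Q : Set G) ⊓ N) → ℂ) ≠ 0) → ∃! B : Set (Cfsg.IrrCharacter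 G), Cfsg.IsInducedBlock M (Subgroup.normalizer (Q : Set G)) c B ∧ (∃ χ ∈ B, ∃ θ ∈ d, Cfsg.classInner (fun n : N => (χ : G → ℂ) n) (θ : N → ℂ) ≠ 0)) ∧ (∀ B : Set (Cfsg.IrrCharacter G), Cfsg.IsPBlock M B → (∃ χ ∈ B, ∃ θ ∈ d, Cfsg.classInner (fun n : N => (χ : G → ℂ) n) (θ : N → ℂ) ≠ 0) → ∃! c : Set (Cfsg.IrrCharacter ↥(Subgroup.normalizer (Q : Set G))), (Cfsg.IsPBlock M c ∧ ∃ ψ ∈ c, ∃ ξ ∈ e, Cfsg.classInner (fun l : ↥(Subgroup.normalizer (Q : Set G) ⊓ N) => (ψ : ↥(Subgroup.normalizer (Q : Set G)) → ℂ) (Subgroup.inclusion inf_le_left l)) (ξ : ↥(Subgroup.normalizer (Q : Set G) ⊓ N) → ℂ) ≠ 0) ∧ Cfsg.IsInducedBlock M (Subgroup.normalizer (Q : Set G)) c B) := by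
  haveI := CfsgLib.Blocks.IsPModular.isPrime hM
  haveI := CfsgLib.Blocks.charP_res hM
  haveI := isAlgClosed_res hM
  have hQH : Q ≤ Subgroup.normalizer (Q : Set G) := Subgroup.le_normalizer
  have hL : N ⊓ Subgroup.normalizer (Q : Set G) = Subgroup.normalizer (Q : Set G) ⊓ N :=
    inf_comm _ _
  haveI : ((Subgroup.normalizer (Q : Set G) ⊓ N).subgroupOf
      (Subgroup.normalizer (Q : Set G))).Normal := by
    rw [Subgroup.inf_subgroupOf_left]
    exact Subgroup.normal_subgroupOf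
  set dm := sblk M N d with hdm
  set em := sblk M (Subgroup.normalizer (Q : Set G) ⊓ N) e with hem
  have hdB : IsBlock N dm := isBlock_sblk hd
  have heB : IsBlock (N ⊓ Subgroup.normalizer (Q : Set G)) em := by rw [hL]; exact isBlock_sblk he
  have hdD : IsDefectGrp p N dm Q := (isDefectGroup_subgroupOf_iff hd hQN).1 hdQ
  have heD : IsDefectGrp p (N ⊓ Subgroup.normalizer (Q : Set G)) em Q := by
    rw [hL]; exact (isDefectGroup_subgroupOf_iff he (le_inf hQH hQN)).1 heQ
  have hle : br Q dm * em = em := by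
    refine (induced_iff hQ hQN hdB heB).1 fun z hz => ?_
    rw [hL]
    exact isInducedBlockIn_model inf_le_right hed z hz
  have hbr : br Q dm = em := (firstMain hdB heB heD hle).2
  obtain ⟨hfwd, hbwd⟩ := covering_correspondence hQ hQN hdB hdD heB heD hbr
  have hind : ∀ c B, Cfsg.IsPBlock M c → Cfsg.IsPBlock M B →
      (Cfsg.IsInducedBlock M (Subgroup.normalizer (Q : Set G)) c B ↔
        br Q (gblk M B) * sblk M (Subgroup.normalizer (Q : Set G)) c =
          sblk M (Subgroup.normalizer (Q : Set G)) c) := fun c B hc hB => by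
    have h := induced_iff (K := (⊤ : Subgroup G)) hQ le_top (isBlock_gblk hB)
      (c := sblk M (Subgroup.normalizer (Q : Set G)) c) (by rw [top_inf_eq]; exact isBlock_sblk hc)
    rw [top_inf_eq] at h
    rw [isInducedBlock_iff_model hc hB, h]
  refine ⟨fun c hc hcov => ?_, fun B hB hcov => ?_⟩
  · have hce := (cover_sub_iff inf_le_left hc he).1 hcov
    obtain ⟨b, ⟨hb, hbc⟩, huniq⟩ := existsUnique_induced (K := (⊤ : Subgroup G)) hQ le_top
      (c := sblk M (Subgroup.normalizer (Q : Set G)) c) (by rw [top_inf_eq]; exact isBlock_sblk hc)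
    obtain ⟨B, hB, rfl⟩ := exists_eq_gblk (M := M) hb
    refine ⟨B, ⟨(hind c B hc hB).2 hbc, (cover_iff N hB hd).2
      (hfwd _ _ (isBlock_sblk hc) hce (isBlock_gblk hB) hbc)⟩, ?_⟩
    rintro B' ⟨hB', -⟩
    exact gblk_inj hB'.2.1 hB (huniq _ (isBlock_gblk hB'.2.1) ((hind c B' hc hB'.2.1).1 hB'))
  · obtain ⟨cm, ⟨hcm, hce, hbc⟩, huniq⟩ := hbwd _ (isBlock_gblk hB) ((cover_iff N hB hd).1 hcov)
    obtain ⟨c, hc, rfl⟩ := exists_eq_sblk (M := M) hcm
    refine ⟨c, ⟨⟨hc, (cover_sub_iff inf_le_left hc he).2 hce⟩, (hind c B hc hB).2 hbc⟩, ?_⟩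
    rintro c' ⟨⟨hc', hcov'⟩, hind'⟩
    exact sblk_inj hc' hc (huniq _ (isBlock_sblk hc')
      ((cover_sub_iff inf_le_left hc' he).1 hcov') ((hind c' B hc' hB).1 hind'))

end Cfsg.Agent.S4674
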