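import Cfsg.Statements.S4675
import Cfsg.Agent.BlockPairs.RegularSpan
import Cfsg.Agent.Blocks.Height

set_option autoImplicit false
set_option linter.style.haveILetI false
open Cfsg CfsgLib.BlockPairs

namespace Cfsg.Agent.S4675

/-- Fix a prime p and a maximal ideal M of the algebraic integers containing p. Let B be a p-block of the finite group G with defect group P and p-regular rank one (a single irreducible Brauer character). Then there are a function φ on G that is, on the p-regular elements, an integer combination of the members of B, and natural numbers d_χ (χ ∈ B), such that every χ ∈ B agrees with d_χ·φ on the p-regular elements and Σ_{χ ∈ B} d_χ² equals the order of P (the single Cartan invariant of B is the order of P). -/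
theorem result {G : Type*} [Group G] [Fintype G] (p : ℕ) [Fact p.Prime] (M : Ideal Cfsg.AlgInt) (hM : Cfsg.IsPModular p M) (B : Set (Cfsg.IrrCharacter G)) (hB : Cfsg.IsPBlock M B) (P : Subgroup G) (hP : Cfsg.IsDefectGroup p M B P) (hl : Cfsg.blockRank p B = 1) : ∃ φ : G → ℂ, ∃ d : Cfsg.IrrCharacter G → ℕ, (∃ n : Cfsg.IrrCharacter G → ℤ, ∀ x : G, Cfsg.IsPRegular p x → φ x = ∑ᶠ ψ ∈ B, (n ψ : ℂ) * (ψ : G → ℂ) x) ∧ (∀ χ ∈ B, ∀ x : G, Cfsg.IsPRegular p x → (χ : G → ℂ) x = (d χ : ℂ) * φ x) ∧ ∑ᶠ χ ∈ B, d χ ^ 2 = Nat.card P := by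
  haveI := CfsgLib.Blocks.IsPModular.isPrime hM
  classical
  have hp : p.Prime := Fact.out
  rw [CfsgLib.Blocks.card_defectGroup hM hB hP]
  simp only [finsum_mem_eq_toFinset_sum]
  set D := Cfsg.blockDefect p B with hDdef
  set W := Submodule.span ℂ
    ((fun χ : Cfsg.IrrCharacter G => Cfsg.pRegularPart p (χ : G → ℂ)) '' B)
  obtain ⟨χ₀, hχ₀, hmin, -⟩ := CfsgLib.BlockPairing.exists_minimal (p := p) hB
  -- Bezout for the degrees
  obtain ⟨k, hk⟩ := Finset.gcd_eq_sum_mul B.toFinset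
    (fun χ : Cfsg.IrrCharacter G => (Cfsg.charDegree (χ : G → ℂ) : ℤ))
  set g : ℤ := B.toFinset.gcd fun χ : Cfsg.IrrCharacter G => (Cfsg.charDegree (χ : G → ℂ) : ℤ)
  have hgd : ∀ χ ∈ B, g ∣ (Cfsg.charDegree (χ : G → ℂ) : ℤ) := fun χ hχ =>
    Finset.gcd_dvd (Set.mem_toFinset.2 hχ)
  have hg0 : g ≠ 0 := fun h => CfsgLib.Blocks.charDegree_ne_zero χ₀
    (by exact_mod_cast zero_dvd_iff.1 (h ▸ hgd χ₀ hχ₀))
  have hgpos : 0 < g := lt_of_le_of_ne (Int.nonneg_of_normalize_eq_self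
    (Finset.normalize_gcd)) (Ne.symm hg0)
  set d : Cfsg.IrrCharacter G → ℕ := fun χ => Cfsg.charDegree (χ : G → ℂ) / g.toNat
  have hd : ∀ χ ∈ B, (Cfsg.charDegree (χ : G → ℂ) : ℤ) = d χ * g := fun χ hχ => by
    have h2 : g.toNat ∣ Cfsg.charDegree (χ : G → ℂ) := by
      rw [← Int.natCast_dvd_natCast, Int.toNat_of_nonneg hgpos.le]
      exact hgd χ hχ
    conv_lhs => rw [← Nat.div_mul_cancel h2]
    rw [Nat.cast_mul, Int.toNat_of_nonneg hgpos.le]
  have hkd : ∑ χ ∈ B.toFinset, (d χ : ℤ) * k χ = 1 := by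
    refine mul_right_cancel₀ hg0 ?_
    rw [one_mul, Finset.sum_mul]
    conv_rhs => rw [hk]
    exact Finset.sum_congr rfl fun χ hχ => by rw [hd χ (Set.mem_toFinset.1 hχ)]; ring
  refine ⟨∑ χ ∈ B.toFinset, (k χ : ℂ) • (χ : G → ℂ), d,
    ⟨k, fun x _ => by simp [Finset.sum_apply]⟩, ?_⟩
  -- proportionality
  have hone : ∀ χ : Cfsg.IrrCharacter G,
      Cfsg.pRegularPart p (χ : G → ℂ) 1 = (Cfsg.charDegree (χ : G → ℂ) : ℂ) := fun χ => by
    simp [Cfsg.pRegularPart, Cfsg.IsPRegular, hp.ne_one, CfsgLib.Blocks.charDegree_cast]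
  have hb₀ : Cfsg.pRegularPart p (χ₀ : G → ℂ) ∈ W := Submodule.subset_span ⟨χ₀, hχ₀, rfl⟩
  have hne₀ : (⟨_, hb₀⟩ : W) ≠ 0 := fun h => by
    have := congrFun (congrArg Subtype.val h) 1
    change Cfsg.pRegularPart p (χ₀ : G → ℂ) 1 = 0 at this
    rw [hone] at this
    exact CfsgLib.Blocks.charDegree_ne_zero χ₀ (by exact_mod_cast this)
  have hprop : ∀ χ ∈ B, ∀ x, (Cfsg.charDegree (χ₀ : G → ℂ) : ℂ) *
      Cfsg.pRegularPart p (χ : G → ℂ) x =
      (Cfsg.charDegree (χ : G → ℂ) : ℂ) * Cfsg.pRegularPart p (χ₀ : G → ℂ) x := by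
    intro χ hχ x
    obtain ⟨c, hc⟩ := (finrank_eq_one_iff_of_nonzero' _ hne₀).1 hl
      ⟨Cfsg.pRegularPart p (χ : G → ℂ), Submodule.subset_span ⟨χ, hχ, rfl⟩⟩
    have hc' : ∀ y, c * Cfsg.pRegularPart p (χ₀ : G → ℂ) y = Cfsg.pRegularPart p (χ : G → ℂ) y :=
      fun y => congrFun (congrArg Subtype.val hc) y
    have h1 := hc' 1
    rw [hone, hone] at h1
    rw [← h1, ← hc' x]
    ring
  set φ := ∑ χ ∈ B.toFinset, (k χ : ℂ) • (χ : G → ℂ)
  have hφ : ∀ χ ∈ B, Cfsg.pRegularPart p (χ : G → ℂ) = (d χ : ℂ) • Cfsg.pRegularPart p φ := by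
    intro χ hχ
    rw [CfsgLib.Contributions.pRegularPart_sum]
    funext x
    simp only [Pi.smul_apply, Finset.sum_apply, smul_eq_mul]
    refine mul_left_cancel₀ (Nat.cast_ne_zero.2 (CfsgLib.Blocks.charDegree_ne_zero χ₀)) ?_
    rw [Finset.mul_sum, Finset.mul_sum, hprop χ hχ]
    rw [Finset.sum_congr rfl fun ψ hψ => by
      rw [show (Cfsg.charDegree (χ₀ : G → ℂ) : ℂ) * ((d χ : ℂ) * ((k ψ : ℂ) *
        Cfsg.pRegularPart p (ψ : G → ℂ) x)) = (d χ : ℂ) * (k ψ : ℂ) *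
        ((Cfsg.charDegree (χ₀ : G → ℂ) : ℂ) * Cfsg.pRegularPart p (ψ : G → ℂ) x) by ring,
        hprop ψ (Set.mem_toFinset.1 hψ) x]]
    rw [← Finset.sum_congr rfl fun ψ _ => mul_assoc ((d χ : ℂ) * (k ψ : ℂ)) _ _, ← Finset.sum_mul]
    congr 1
    have hk' := congrArg (fun t : ℤ => (t : ℂ)) hk
    have hd' := congrArg (fun t : ℤ => (t : ℂ)) (hd χ hχ)
    push_cast at hk' hd'
    rw [hd', hk', Finset.mul_sum]
    exact Finset.sum_congr rfl fun ψ _ => by ring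
  refine ⟨fun χ hχ x hx => ?_, ?_⟩
  · have := congrFun (hφ χ hχ) x
    simpa [Cfsg.pRegularPart, hx] using this
  -- the Cartan invariant
  set f : Cfsg.IrrCharacter G → ℂ := fun ψ => Cfsg.classInner (Cfsg.pRegularPart p φ) (ψ : G → ℂ)
  have hf : ∀ χ ∈ B, ∀ ψ : Cfsg.IrrCharacter G,
      CfsgLib.BlockPairing.regInner p (χ : G → ℂ) ψ = d χ * f ψ := fun χ hχ ψ => by
    rw [← CfsgLib.Contributions.classInner_pRegularPart, hφ χ hχ]
    simp only [f, Cfsg.classInner, Pi.smul_apply, smul_eq_mul, Finset.mul_sum]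
    exact Finset.sum_congr rfl fun y _ => by ring
  set t : ℤ := ∑ χ ∈ B.toFinset, ∑ ψ ∈ B.toFinset,
    k χ * k ψ * CfsgLib.Contributions.contrib p B χ ψ
  have hct : ∀ χ ∈ B, ∀ ψ ∈ B, CfsgLib.Contributions.contrib p B χ ψ = d χ * d ψ * t := by
    intro χ hχ ψ hψ
    refine Int.cast_injective (α := ℂ) ?_
    have hsymm : ∀ a ∈ B, ∀ b ∈ B, (d a : ℂ) * f b = d b * f a := fun a ha b hb => by
      rw [← hf a ha, ← hf b hb, CfsgLib.BlockPairing.regInner_symm p a b]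
    have hdd : ∑ a ∈ B.toFinset, (d a : ℂ) * k a = 1 := by exact_mod_cast hkd
    have hsum : (d ψ : ℂ) * ∑ b ∈ B.toFinset, (k b : ℂ) * f b = f ψ := by
      rw [Finset.mul_sum, ← one_mul (f ψ), ← hdd, Finset.sum_mul]
      exact Finset.sum_congr rfl fun b hb => by
        rw [mul_left_comm, hsymm ψ hψ b (Set.mem_toFinset.1 hb)]; ring
    have ht : (t : ℂ) = ((p ^ D : ℕ) : ℂ) * ∑ b ∈ B.toFinset, (k b : ℂ) * f b := by
      rw [← one_mul (∑ b ∈ B.toFinset, (k b : ℂ) * f b), ← hdd, Finset.sum_mul, Finset.mul_sum]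
      simp only [t, Int.cast_sum]
      refine Finset.sum_congr rfl fun a ha => ?_
      rw [Finset.mul_sum, Finset.mul_sum]
      refine Finset.sum_congr rfl fun b _ => ?_
      push_cast
      rw [CfsgLib.Contributions.cast_contrib (Set.mem_toFinset.1 ha), ← hDdef,
        hf a (Set.mem_toFinset.1 ha)]
      push_cast
      ring
    push_cast
    rw [CfsgLib.Contributions.cast_contrib hχ, hf χ hχ, ht, ← hDdef, ← hsum]
    ring
  have hS : ((∑ χ ∈ B.toFinset, d χ ^ 2 : ℕ) : ℤ) * t = (p : ℤ) ^ D := by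
    refine Int.cast_injective (α := ℂ) ?_
    have h1 := CfsgLib.Contributions.blockRank_eq_sum (p := p) hM hB
    rw [hl, Nat.cast_one] at h1
    have h2 := congrArg (fun z : ℂ => ((p ^ D : ℕ) : ℂ) * z) h1
    simp only [mul_one, Finset.mul_sum] at h2
    push_cast at h2 ⊢
    rw [h2, Finset.sum_mul]
    refine Finset.sum_congr rfl fun χ hχ => ?_
    have h3 := CfsgLib.Contributions.cast_contrib (p := p) (Set.mem_toFinset.1 hχ) χ
    rw [hct χ (Set.mem_toFinset.1 hχ) χ (Set.mem_toFinset.1 hχ)] at h3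
    push_cast at h3
    rw [← h3]
    ring
  have h00 : Cfsg.blockHeight p B (χ₀ : G → ℂ) = 0 := by
    have hle := le_csInf (Set.image_nonempty.2 ⟨χ₀, hχ₀⟩)
      (s := (fun φ : Cfsg.IrrCharacter G => (Cfsg.charDegree (φ : G → ℂ)).factorization p) '' B)
      (by rintro _ ⟨η, hη, rfl⟩; exact hmin η hη)
    rw [Cfsg.blockHeight]
    omega
  have hpt : ¬ (p : ℤ) ∣ t := fun h => by
    refine CfsgLib.Contributions.not_dvd_of_height_zero hM hB hχ₀ hχ₀ h00 ?_
    rw [h00, zero_add, pow_one, hct χ₀ hχ₀ χ₀ hχ₀]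
    exact dvd_mul_of_dvd_right h _
  have hdvd : (t.natAbs : ℕ) ∣ p ^ D := by
    have := Int.natAbs_dvd_natAbs.2 (Dvd.intro_left _ hS)
    simpa [Int.natAbs_pow] using this
  obtain ⟨j, -, hj⟩ := (Nat.dvd_prime_pow hp).1 hdvd
  have hj0 : j = 0 := by
    by_contra hne
    exact hpt (Int.natCast_dvd.2 (hj ▸ dvd_pow_self p hne))
  have hS' := congrArg Int.natAbs hS
  rw [Int.natAbs_mul, hj, hj0, pow_zero, mul_one, Int.natAbs_natCast, Int.natAbs_pow,
    Int.natAbs_natCast] at hS'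
  exact hS'

end Cfsg.Agent.S4675
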