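import Cfsg.Statements.S4679
import Cfsg.Agent.BlockPairs.FusionBridge
import Cfsg.Agent.BlockPairs.ResField
import Cfsg.Agent.S4662

set_option autoImplicit false
set_option linter.style.haveILetI false
open Cfsg CfsgLib.BlockPairs

namespace Cfsg.Agent.S4679

/-- Fix a prime p and a maximal ideal M of the algebraic integers containing p, a p-block B of the finite group G with maximal Brauer pair (P, e), its fusion system F on P, a Brauer pair (Q, f) ≤ (P, e), and let T be the stabilizer of f in N_G(Q). Then Q is fully normalized in F if and only if N_P(Q) is a defect group of the block of T whose idempotent is that of f. -/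
theorem result {G : Type*} [Group G] [Fintype G] (p : ℕ) [Fact p.Prime] (M : Ideal Cfsg.AlgInt) (hM : Cfsg.IsPModular p M) (B : Set (Cfsg.IrrCharacter G)) (P : Subgroup G) (e : Set (Cfsg.IrrCharacter (Subgroup.centralizer (P : Set G)))) (hmax : Cfsg.IsMaximalBrauerPair p M B P e) (F : Cfsg.FusionSystem P) (hF : Cfsg.IsBlockFusionSystemOn p M B P e F) (Q : Subgroup G) (f : Set (Cfsg.IrrCharacter (Subgroup.centralizer (Q : Set G)))) (hQP : Q ≤ P) (hf : Cfsg.IsPBlock M f) (hle : Cfsg.SubpairLE p M Q f P e) (T : Subgroup G) (hT : ∀ y : G, y ∈ T ↔ y ∈ Subgroup.normalizer (Q : Set G) ∧ Cfsg.StabilizesBlock (Subgroup.centralizer (Q : Set G)) f y) : F.IsFullyNormalized Q ↔ ∃ F' : Set (Cfsg.IrrCharacter T), Cfsg.IsPBlock M F' ∧ (∀ t : T, Cfsg.blockCoeff F' t = Cfsg.subgroupBlockCoeff (Subgroup.centralizer (Q : Set G)) f (t : G)) ∧ Cfsg.IsDefectGroup p M F' ((P ⊓ Subgroup.normalizer (Q : Set G)).subgroupOf T) := by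
  haveI := CfsgLib.Blocks.IsPModular.isPrime hM
  haveI := CfsgLib.Blocks.charP_res hM
  haveI := isAlgClosed_res hM
  obtain ⟨hB, he, hb, hmax'⟩ := maxPair_model hmax
  obtain rfl := eq_blockSystem hmax hF
  have hle' := (subpairLE_iff hf he).1 hle
  have hQp : IsPGroup p Q := hmax'.1.1.2.1.to_le hQP
  obtain ⟨hTs, F₀, hF₀, hF₀c, hF₀b⟩ := S4662.stab_spec hf hQp hT
  have hNT : P ⊓ Subgroup.normalizer (Q : Set G) ≤ T := hTs ▸ (le_normalizer_part hmax' hle').1
  rw [isFullyNormalized_iff hb hmax' hle']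
  constructor
  · intro h
    refine ⟨F₀, hF₀, hF₀c, (isDefectGroup_subgroupOf_iff hF₀ hNT).2 ?_⟩
    rw [hF₀b, hTs]
    exact h
  · rintro ⟨F', hF', hF'c, hd⟩
    have heq : sblk M T F' = sblk M T F₀ := ga_ext fun g => by
      rw [sblk_coeff, sblk_coeff, Cfsg.subgroupBlockCoeff, Cfsg.subgroupBlockCoeff]
      split_ifs with hg
      · rw [hF'c, hF₀c]
      · rfl
    have := (isDefectGroup_subgroupOf_iff hF' hNT).1 hd
    rw [heq, hF₀b] at this
    rw [← hTs]
    exact this

end Cfsg.Agent.S4679
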