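import Cfsg.Statements.S4681
import Cfsg.Agent.BlockPairs.ThirdMain
import Cfsg.Agent.BlockPairs.FusionBridge
import Cfsg.Agent.BlockPairs.ResField

set_option autoImplicit false
set_option linter.style.haveILetI false
open Cfsg CfsgLib.BlockPairs

namespace Cfsg.Agent.S4681

/-- Fix a prime p and a maximal ideal M of the algebraic integers containing p. Let B₀ be the principal p-block of the finite group G, P a Sylow p-subgroup and e₀ the principal p-block of C_G(P). Then (P, e₀) is a maximal Brauer pair of B₀, and the fusion system of B₀ on (P, e₀) is the fusion system of G on P: its maps from each subgroup of P are exactly the conjugation maps into P by elements of G. -/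
theorem result {G : Type*} [Group G] [Fintype G] (p : ℕ) [Fact p.Prime] (M : Ideal Cfsg.AlgInt) (hM : Cfsg.IsPModular p M) (S : Sylow p G) : Cfsg.IsMaximalBrauerPair p M (Cfsg.principalBlock M G) (S : Subgroup G) (Cfsg.principalBlock M (Subgroup.centralizer ((S : Subgroup G) : Set G))) ∧ ∀ F : Cfsg.FusionSystem (S : Subgroup G), Cfsg.IsBlockFusionSystemOn p M (Cfsg.principalBlock M G) (S : Subgroup G) (Cfsg.principalBlock M (Subgroup.centralizer ((S : Subgroup G) : Set G))) F → ∀ Q : Subgroup G, F.Hom Q = (Cfsg.groupFusionSystem (S : Subgroup G)).Hom Q := by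
  haveI := CfsgLib.Blocks.IsPModular.isPrime hM
  haveI := CfsgLib.Blocks.charP_res hM
  haveI := isAlgClosed_res hM
  have hB := isPBlock_principal (M := M) G
  have he := isPBlock_principal (M := M) ↥(Subgroup.centralizer ((S : Subgroup G) : Set G))
  have hmax : Cfsg.IsMaximalBrauerPair p M (Cfsg.principalBlock M G) (S : Subgroup G)
      (Cfsg.principalBlock M (Subgroup.centralizer ((S : Subgroup G) : Set G))) :=
    (isMaximalBrauerPair_iff hB he).2 (isMaxPair_sylow (isBlock_gblk hB)
      ((aug_gblk_eq_one_iff hB).2 rfl) S (isBlock_sblk he) ((aug_sblk_eq_one_iff he).2 rfl))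
  refine ⟨hmax, fun F hF Q => ?_⟩
  obtain rfl := eq_blockSystem hmax hF
  ext φ
  rw [mem_blockSystem]
  constructor
  · rintro ⟨g, hg, hφ⟩
    exact ⟨hg.source_le, fun x => hg.target_le (mem_cj.2 (by simp [hφ, mul_assoc])), g, hφ⟩
  · rintro ⟨hQ, hS, g, hφ⟩
    refine ⟨g, (mor_iff_of_aug (maxPair_model hmax).2.2.2.1.1 ((aug_sblk_eq_one_iff he).2 rfl)).2
      ⟨hQ, ?_⟩, hφ⟩
    rw [← range_eq_cj hφ]
    rintro _ ⟨x, rfl⟩
    exact hS x

end Cfsg.Agent.S4681
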