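import Cfsg.Statements.S4682
import Cfsg.Agent.BlockPairs.FusionBridge
import Cfsg.Agent.BlockPairs.Nilpotent
import Cfsg.Agent.BlockPairs.ResField
import Cfsg.Agent.S4662

set_option autoImplicit false
set_option linter.style.haveILetI false
open Cfsg CfsgLib.BlockPairs

namespace Cfsg.Agent.S4682

/-- Fix a prime p and a maximal ideal M of the algebraic integers containing p, a p-block B of the finite group G with maximal Brauer pair (P, e), P abelian, and a Brauer pair (Q, f) ≤ (P, e). Let T_Q be the stabilizer of f in N_G(Q) and T_P the stabilizer of e in N_G(P). Then every element of T_Q is a product of an element of T_P and an element of C_G(Q); and the index of C_G(Q) in T_Q equals the index of T_P ∩ C_G(Q) in T_P ∩ N_G(Q). -/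
theorem result {G : Type*} [Group G] [Fintype G] (p : ℕ) [Fact p.Prime] (M : Ideal Cfsg.AlgInt) (hM : Cfsg.IsPModular p M) (B : Set (Cfsg.IrrCharacter G)) (P : Subgroup G) (e : Set (Cfsg.IrrCharacter (Subgroup.centralizer (P : Set G)))) (hmax : Cfsg.IsMaximalBrauerPair p M B P e) (hab : ∀ x ∈ P, ∀ y ∈ P, x * y = y * x) (Q : Subgroup G) (f : Set (Cfsg.IrrCharacter (Subgroup.centralizer (Q : Set G)))) (hQP : Q ≤ P) (hf : Cfsg.IsPBlock M f) (hle : Cfsg.SubpairLE p M Q f P e) (TQ : Subgroup G) (hTQ : ∀ y : G, y ∈ TQ ↔ y ∈ Subgroup.normalizer (Q : Set G) ∧ Cfsg.StabilizesBlock (Subgroup.centralizer (Q : Set G)) f y) (TP : Subgroup G) (hTP : ∀ y : G, y ∈ TP ↔ y ∈ Subgroup.normalizer (P : Set G) ∧ Cfsg.StabilizesBlock (Subgroup.centralizer (P : Set G)) e y) : (∀ x ∈ TQ, ∃ y ∈ TP, ∃ c ∈ Subgroup.centralizer (Q : Set G), x = y * c) ∧ ((Subgroup.centralizer (Q : Set G)).subgroupOf TQ).index = ((TP ⊓ Subgroup.centralizer (Q : Set G)).subgroupOf (TP ⊓ Subgroup.normalizer (Q : Set G))).index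 := by
  haveI := CfsgLib.Blocks.IsPModular.isPrime hM
  haveI := CfsgLib.Blocks.charP_res hM
  haveI := isAlgClosed_res hM
  obtain ⟨hB, he, hb, hmax'⟩ := maxPair_model hmax
  have hle' := (subpairLE_iff hf he).1 hle
  have hab' : P ≤ Subgroup.centralizer (P : Set G) := fun x hx =>
    Subgroup.mem_centralizer_iff.2 fun y hy => hab y hy x hx
  obtain ⟨hTQs, -⟩ := S4662.stab_spec hf (hmax'.1.1.2.1.to_le hQP) hTQ
  obtain ⟨hTPs, -⟩ := S4662.stab_spec he hmax'.1.1.2.1 hTP
  subst hTQs hTPs
  set N := Subgroup.normalizer (Q : Set G) with hN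
  have h1 := fun x hx => exists_mul_of_abelian hb hmax' hab' hle' (x := x) hx
  refine ⟨h1, ?_⟩
  set TQ := stab ⊤ Q (sblk M (Subgroup.centralizer (Q : Set G)) f)
  set TP := stab ⊤ P (sblk M (Subgroup.centralizer (P : Set G)) e)
  have hCN : Subgroup.centralizer (Q : Set G) ≤ N := Subgroup.centralizer_le_normalizer _
  have hsup : TQ = (TP ⊓ N) ⊔ Subgroup.centralizer (Q : Set G) := by
    refine le_antisymm (fun x hx => ?_) (sup_le (stab_inf_normalizer_le hmax'.1.1 hle')
      (centralizer_le_stab (le_pair hmax'.1.1 hle')))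
    obtain ⟨y, hy, c, hc, rfl⟩ := h1 x hx
    refine mul_mem (Subgroup.mem_sup_left ⟨hy, ?_⟩) (Subgroup.mem_sup_right hc)
    have := mul_mem (stab_le_normalizer hx) (inv_mem (hCN hc))
    simpa using this
  show (Subgroup.centralizer (Q : Set G)).relIndex TQ =
    (TP ⊓ Subgroup.centralizer (Q : Set G)).relIndex (TP ⊓ N)
  rw [hsup, relIndex_sup_of_le_normalizer (inf_le_right.trans (le_normalizer_centralizer Q)),
    ← Subgroup.inf_relIndex_right (Subgroup.centralizer (Q : Set G))]
  congr 1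
  rw [inf_comm (Subgroup.centralizer (Q : Set G)), inf_assoc, inf_eq_right.2 hCN]

end Cfsg.Agent.S4682
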