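import Cfsg.Statements.S4683
import Cfsg.Agent.BlockPairs.SubsectionNorm

set_option autoImplicit false
set_option linter.style.haveILetI false
open Cfsg
open scoped ComplexConjugate

namespace Cfsg.Agent.S4683

open CfsgLib.Blocks CfsgLib.SubsectionNorm in
theorem general {G : Type*} [Group G] [Fintype G] (p : ℕ) [Fact p.Prime] {M : Ideal Cfsg.AlgInt}
    (hM : Cfsg.IsPModular p M) [M.IsPrime] (u : G) (hu : ∃ k : ℕ, orderOf u = p ^ k)
    (H : Subgroup G) (hH : H = Subgroup.centralizer ({u} : Set G))
    {B : Set (Cfsg.IrrCharacter G)} (hB : Cfsg.IsPBlock M B)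
    (e : Set (Cfsg.IrrCharacter H)) (he : Cfsg.IsPBlock M e)
    (hone : ∀ ξ ∈ e, Cfsg.MemLocalIdeal M
      ((∑ᶠ x : H, Cfsg.blockCoeff B (x : G) * (ξ : H → ℂ) x / (ξ : H → ℂ) 1) - 1)) :
    ∑ᶠ χ ∈ B, ∑ᶠ s : H, Cfsg.pRegularPart p (Cfsg.blockPart e
        (fun c : H => (χ : G → ℂ) (u * c))) s *
      Cfsg.blockPart e (fun c : H => (χ : G → ℂ) (u⁻¹ * c)) s⁻¹ =
      (Nat.card H : ℂ) * (Cfsg.blockRank p e : ℂ) := by
  subst hH
  classical
  haveI := Fintype.ofFinite ↥(Subgroup.centralizer ({u} : Set G))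
  refine Eq.trans ?_ (sum_norm hM hu hB he fun ξ hξ =>
    omegaBar_resCtr_eq_one (isBlockUnion_of_isPBlock hB) ξ (hone ξ hξ))
  rw [finsum_irr_mem]
  refine Finset.sum_congr rfl fun χ _ => ?_
  split_ifs with hχ
  · rw [finsum_eq_sum_of_fintype]
    refine Finset.sum_congr rfl fun s _ => ?_
    rw [CfsgLib.BlockPairing.pRegularPart_apply]
    split_ifs with hs
    · simp
    · congr 1
      set C := Subgroup.centralizer ({u} : Set G)
      set f : C → ℂ := fun c => (χ : G → ℂ) (u * c) with hf
      have hinv : ∀ c : C, (χ : G → ℂ) (u⁻¹ * ((c⁻¹ : C) : G)) = conj (f c) := by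
        intro c
        rw [hf, ← CfsgLib.Characters.character_inv
          (CfsgLib.Characters.isCharacter_of_isIrr χ.2), mul_inv_rev, Subgroup.coe_inv,
          ← (Commute.inv_inv (show Commute u (c : G) from
            (Subgroup.mem_centralizer_singleton_iff.1 c.2).symm)).eq]
      have hci : ∀ ξ : Cfsg.IrrCharacter C,
          Cfsg.classInner (fun c : C => (χ : G → ℂ) (u⁻¹ * c)) (ξ : C → ℂ) =
            conj (Cfsg.classInner f (ξ : C → ℂ)) := by
        intro ξ
        simp only [Cfsg.classInner, map_mul, map_inv₀, map_natCast, map_sum]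
        congr 1
        refine Finset.sum_equiv (Equiv.inv C) (fun c => by simp) fun c _ => ?_
        have h1 := hinv c⁻¹
        rw [inv_inv] at h1
        rw [h1, Equiv.inv_apply, CfsgLib.Characters.character_inv
          (CfsgLib.Characters.isCharacter_of_isIrr ξ.2), Complex.conj_conj]
      simp only [Cfsg.blockPart]
      rw [finsum_irr_mem, finsum_irr_mem,
        show Fintype.ofFinite C = ‹Fintype C› from Subsingleton.elim _ _, map_sum]
      refine Finset.sum_congr rfl fun ξ _ => ?_
      split_ifs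
      · rw [map_mul, ← hci, CfsgLib.Characters.character_inv
          (CfsgLib.Characters.isCharacter_of_isIrr ξ.2)]
      · simp
  · rfl

/-- Fix a prime p and a maximal ideal M of the algebraic integers containing p, a p-block B of the finite group G, a p-element u and a p-block e of C = C_G(u) such that (⟨u⟩, e) is a Brauer pair of B (a Brauer element of B). For χ ∈ B let χ_u be the e-part of the class function c ↦ χ(u c) on C and χ_u' the e-part of c ↦ χ(u⁻¹ c). Then the sum over χ ∈ B and over the p-regular elements s of C of χ_u(s)·χ_u'(s⁻¹) equals the order of C times the p-regular rank of e (the number of irreducible Brauer characters of e). -/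
theorem result {G : Type*} [Group G] [Fintype G] (p : ℕ) [Fact p.Prime] (M : Ideal Cfsg.AlgInt) (hM : Cfsg.IsPModular p M) (B : Set (Cfsg.IrrCharacter G)) (u : G) (hu : ∃ k : ℕ, orderOf u = p ^ k) (e : Set (Cfsg.IrrCharacter (Subgroup.centralizer (Subgroup.zpowers u : Set G)))) (hBe : Cfsg.IsBrauerPairOf p M B (Subgroup.zpowers u) e) : ∑ᶠ χ ∈ B, ∑ᶠ s : Subgroup.centralizer (Subgroup.zpowers u : Set G), Cfsg.pRegularPart p (Cfsg.blockPart e (fun c : Subgroup.centralizer (Subgroup.zpowers u : Set G) => (χ : G → ℂ) (u * c))) s * Cfsg.blockPart e (fun c : Subgroup.centralizer (Subgroup.zpowers u : Set G) => (χ : G → ℂ) (u⁻¹ * c)) s⁻¹ = (Nat.card (Subgroup.centralizer (Subgroup.zpowers u : Set G)) : ℂ) * (Cfsg.blockRank p e : ℂ) := by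
  haveI := CfsgLib.Blocks.IsPModular.isPrime hM
  obtain ⟨⟨-, he⟩, hB, hone⟩ := hBe
  refine general p hM u hu _ ?_ hB e he hone
  refine le_antisymm (Subgroup.centralizer_le (Set.singleton_subset_iff.2 (Subgroup.mem_zpowers u)))
    fun c hc => Subgroup.mem_centralizer_iff.2 fun v hv => ?_
  obtain ⟨i, rfl⟩ := hv
  exact ((Commute.zpow_left (show Commute u c from
    (Subgroup.mem_centralizer_singleton_iff.1 hc).symm) i)).eq

end Cfsg.Agent.S4683
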