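import Cfsg.Statements.S4687
import Cfsg.Agent.BlockPairs.FusionBridge
import Cfsg.Agent.BlockPairs.Nilpotent
import Cfsg.Agent.BlockPairs.ResField

set_option autoImplicit false
set_option linter.style.haveILetI false
open Cfsg CfsgLib.BlockPairs

namespace Cfsg.Agent.S4687

/-- Fix a prime p and a maximal ideal M of the algebraic integers containing p, and a p-block B of the finite group G with maximal Brauer pair (P, e), P abelian. Then B is nilpotent if and only if its inertial quotient is trivial: every element of N_G(P) stabilizing e centralizes P. -/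
theorem result {G : Type*} [Group G] [Fintype G] (p : ℕ) [Fact p.Prime] (M : Ideal Cfsg.AlgInt) (hM : Cfsg.IsPModular p M) (B : Set (Cfsg.IrrCharacter G)) (P : Subgroup G) (e : Set (Cfsg.IrrCharacter (Subgroup.centralizer (P : Set G)))) (hmax : Cfsg.IsMaximalBrauerPair p M B P e) (hab : ∀ x ∈ P, ∀ y ∈ P, x * y = y * x) : Cfsg.IsNilpotentBlock p M B ↔ ∀ x : G, x ∈ Subgroup.normalizer (P : Set G) → Cfsg.StabilizesBlock (Subgroup.centralizer (P : Set G)) e x → x ∈ Subgroup.centralizer (P : Set G) := by
  haveI := CfsgLib.Blocks.IsPModular.isPrime hM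
  haveI := CfsgLib.Blocks.charP_res hM
  haveI := isAlgClosed_res hM
  obtain ⟨hB, he, hb, hmax'⟩ := maxPair_model hmax
  have hab' : P ≤ Subgroup.centralizer (P : Set G) := fun x hx =>
    Subgroup.mem_centralizer_iff.2 fun y hy => hab y hy x hx
  rw [isNilpotentBlock_gblk_iff hB, nilp_iff_of_abelian hb hmax' hab']
  refine ⟨fun h x hx hst => h ⟨⟨trivial, hx⟩, ((stabilizesBlock_iff he).1 hst).2⟩, fun h x hx => ?_⟩
  exact h x (stab_le_normalizer hx)
    ((stabilizesBlock_iff he).2 ⟨le_normalizer_centralizer P (stab_le_normalizer hx), hx.2⟩)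

end Cfsg.Agent.S4687
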