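import Cfsg.Statements.S4690
import Cfsg.Agent.Star.Nilpotent

set_option autoImplicit false
set_option linter.style.haveILetI false
open Cfsg CfsgLib.BlockPairs

namespace Cfsg.Agent.S4690

/-- Fix a prime p and a maximal ideal M of the algebraic integers containing p, and a nilpotent p-block B of the finite group G with defect group P. Then there is a bijection from B onto the irreducible characters of P carrying the height of each χ ∈ B to the exponent of p in the degree of its image. -/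
theorem result {G : Type*} [Group G] [Fintype G] (p : ℕ) [Fact p.Prime] (M : Ideal Cfsg.AlgInt) (hM : Cfsg.IsPModular p M) (B : Set (Cfsg.IrrCharacter G)) (hnil : Cfsg.IsNilpotentBlock p M B) (P : Subgroup G) (hP : Cfsg.IsDefectGroup p M B P) : ∃ Φ : B ≃ Cfsg.IrrCharacter P, ∀ χ : B, Cfsg.blockHeight p B ((χ : Cfsg.IrrCharacter G) : G → ℂ) = (Cfsg.charDegree ((Φ χ : Cfsg.IrrCharacter P) : P → ℂ)).factorization p := by
  classical
  haveI := CfsgLib.Blocks.IsPModular.isPrime hM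
  haveI := CfsgLib.Blocks.charP_res hM
  haveI := isAlgClosed_res hM
  have hB := hnil.1
  have hb := isBlock_gblk (M := M) hB
  have hd := (isDefectGroup_gblk_iff hB P).1 hP
  obtain ⟨e, he⟩ := exists_blockHas hb le_top hd.2.1 hd.2.2.1
  have hmax := isMaxPair_of_defect hd he
  have hn := (isNilpotentBlock_gblk_iff hB).1 hnil
  obtain ⟨χ₀, hχ₀, hmin, -⟩ := CfsgLib.BlockPairing.exists_minimal (p := p) hB
  have h0 : Cfsg.blockHeight p B (χ₀ : G → ℂ) = 0 := by
    rw [Cfsg.blockHeight, Nat.sub_eq_zero_iff_le]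
    refine le_csInf (Set.image_nonempty.2 ⟨χ₀, hχ₀⟩) ?_
    rintro _ ⟨η, hη, rfl⟩
    exact hmin η hη
  obtain ⟨Ψ, hinj, hB', hreg⟩ := CfsgLib.Star.exists_param hM hB hmax hn hχ₀ h0
  let e' : Cfsg.IrrCharacter P ≃ B := Equiv.ofBijective (fun θ => ⟨Ψ θ, (hB' _).2 ⟨θ, rfl⟩⟩)
    ⟨fun a b h => hinj (congrArg Subtype.val h), fun ψ => by
      obtain ⟨θ, hθ⟩ := (hB' ψ.1).1 ψ.2
      exact ⟨θ, Subtype.ext hθ⟩⟩
  refine ⟨e'.symm, fun χ => ?_⟩
  obtain ⟨θ, rfl⟩ := e'.surjective χ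
  rw [Equiv.symm_apply_apply]
  show Cfsg.blockHeight p B (Ψ θ : G → ℂ) = _
  have hdeg : Cfsg.charDegree (Ψ θ : G → ℂ) =
      Cfsg.charDegree (θ : P → ℂ) * Cfsg.charDegree (χ₀ : G → ℂ) := by
    apply Nat.cast_injective (R := ℂ)
    rw [Nat.cast_mul, CfsgLib.Blocks.charDegree_cast, CfsgLib.Blocks.charDegree_cast,
      CfsgLib.Blocks.charDegree_cast]
    exact hreg θ 1 (by rw [orderOf_one]; exact (Fact.out : p.Prime).not_dvd_one)
  have hz := CfsgLib.Blocks.blockHeight_eq hM hB hP ((hB' _).2 ⟨θ, rfl⟩)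
  have hz0 := CfsgLib.Blocks.blockHeight_eq hM hB hP hχ₀
  rw [hdeg, Nat.factorization_mul (CfsgLib.Blocks.charDegree_ne_zero θ)
    (CfsgLib.Blocks.charDegree_ne_zero χ₀), Finsupp.add_apply] at hz
  omega

end Cfsg.Agent.S4690
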