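import Cfsg.Statements.S4691
import Cfsg.Agent.BlockPairs.ThirdMain
import Cfsg.Agent.BlockPairs.ResField
import Cfsg.Agent.Transfer.Frobenius

set_option autoImplicit false
set_option linter.style.haveILetI false
open Cfsg CfsgLib.BlockPairs

namespace Cfsg.Agent.S4691

/-- Fix a prime p and a maximal ideal M of the algebraic integers containing p. A finite group G has a normal p-complement if and only if its principal p-block is nilpotent. -/
theorem result {G : Type*} [Group G] [Fintype G] (p : ℕ) [Fact p.Prime] (M : Ideal Cfsg.AlgInt) (hM : Cfsg.IsPModular p M) : Cfsg.HasNormalPComplement p G ↔ Cfsg.IsNilpotentBlock p M (Cfsg.principalBlock M G) := by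
  haveI := CfsgLib.Blocks.IsPModular.isPrime hM
  haveI := CfsgLib.Blocks.charP_res hM
  haveI := isAlgClosed_res hM
  have hB := isPBlock_principal (M := M) G
  rw [isNilpotentBlock_gblk_iff hB,
    nilp_principal_iff (isBlock_gblk hB) ((aug_gblk_eq_one_iff hB).2 rfl)]
  constructor
  · exact fun h Q hQ x hx hreg => CfsgLib.Transfer.mem_centralizer_of_hasNormalPComplement h hQ hx
      ((Fact.out : p.Prime).coprime_iff_not_dvd.2 hreg).symm
  · refine fun h => CfsgLib.Transfer.hasNormalPComplement_of_local default fun Q hQ x hx hco => ?_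
    exact h Q ((default : Sylow p G).isPGroup'.to_le hQ) x hx
      ((Fact.out : p.Prime).coprime_iff_not_dvd.1 hco.symm)

end Cfsg.Agent.S4691
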