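import Cfsg.Statements.S4693
import Cfsg.Agent.BlockPairs.FusionBridge
import Cfsg.Agent.BlockPairs.Nilpotent
import Cfsg.Agent.BlockPairs.ResField
import Cfsg.Agent.BlockPairs.Lift

set_option autoImplicit false
set_option linter.style.haveILetI false
open Cfsg CfsgLib.BlockPairs

namespace Cfsg.Agent.S4693

/-- Fix a prime p and a maximal ideal M of the algebraic integers containing p, a p-block B of the finite group G with maximal Brauer pair (P, e) and fusion system F on P, and a Brauer pair (Q, f) ≤ (P, e) with Q centric in F. Suppose every element of G normalizes Q and stabilizes f. Then the idempotent of B agrees with that of f modulo M at every element of G, and f is the idempotent of a nilpotent block of Q·C_G(Q): some p-block of Q·C_G(Q) has the idempotent coefficients of f and is nilpotent. -/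
theorem result {G : Type*} [Group G] [Fintype G] (p : ℕ) [Fact p.Prime] (M : Ideal Cfsg.AlgInt) (hM : Cfsg.IsPModular p M) (B : Set (Cfsg.IrrCharacter G)) (P : Subgroup G) (e : Set (Cfsg.IrrCharacter (Subgroup.centralizer (P : Set G)))) (hmax : Cfsg.IsMaximalBrauerPair p M B P e) (F : Cfsg.FusionSystem P) (hF : Cfsg.IsBlockFusionSystemOn p M B P e F) (Q : Subgroup G) (f : Set (Cfsg.IrrCharacter (Subgroup.centralizer (Q : Set G)))) (hQP : Q ≤ P) (hf : Cfsg.IsPBlock M f) (hle : Cfsg.SubpairLE p M Q f P e) (hcen : F.IsCentric Q) (hG : ∀ x : G, x ∈ Subgroup.normalizer (Q : Set G) ∧ Cfsg.StabilizesBlock (Subgroup.centralizer (Q : Set G)) f x) : (∀ g : G, Cfsg.MemLocalIdeal M (Cfsg.blockCoeff B g - Cfsg.subgroupBlockCoeff (Subgroup.centralizer (Q : Set G)) f g)) ∧ ∃ F' : Set (Cfsg.IrrCharacter ↥(Q ⊔ Subgroup.centralizer (Q : Set G))), Cfsg.IsPBlock M F' ∧ (∀ t : ↥(Q ⊔ Subgroup.centralizer (Q : Set G)), Cfsg.blockCoeff F' t = Cfsg.subgroupBlockCoeff (Subgroup.centralizer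 (Q : Set G)) f (t : G)) ∧ Cfsg.IsNilpotentBlock p M F' := by
  haveI := CfsgLib.Blocks.IsPModular.isPrime hM
  haveI := CfsgLib.Blocks.charP_res hM
  haveI := isAlgClosed_res hM
  obtain ⟨hB, he, hb, hmax'⟩ := maxPair_model hmax
  obtain rfl := eq_blockSystem hmax hF
  have hle' := (subpairLE_iff hf he).1 hle
  have hQf := le_pair hmax'.1.1 hle'
  have hd := (isCentric_iff hb hmax' hle').1 hcen
  haveI := Fintype.ofFinite (Subgroup.centralizer (Q : Set G))
  set ff := sblk M (Subgroup.centralizer (Q : Set G)) f with hff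
  have hall : stab ⊤ Q ff = ⊤ := top_le_iff.1 fun x _ =>
    ⟨⟨trivial, (hG x).1⟩, ((stabilizesBlock_iff hf).1 (hG x).2).2⟩
  have hblk : IsBlock (⊤ : Subgroup G) ff := hall ▸ block_stabilizer hQf
  have hbf : gblk M B = ff := by
    refine hb.eq_of_mul_ne_zero hblk fun h0 => hblk.ne_zero ?_
    have hQN : (⊤ : Subgroup G) ≤ Subgroup.normalizer (Q : Set G) := fun x _ => (hG x).1
    have h1 := (mem_blockHas_of_le hb hmax' hle').2.2
    rw [br_eq_self_of_normal hQf.2.1 le_top hQN hb.mem hb.idem] at h1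
    rw [← h1, h0]
  refine ⟨fun g => ?_, ?_⟩
  · have h := congrArg (fun a : GA (CfsgLib.Blocks.Res M) G => a.coeff g) hbf
    simp only [hff, gblk_coeff, sblk_coeff] at h
    have h1 : Cfsg.MemLocalRing M (Cfsg.blockCoeff B g) := CfsgLib.Blocks.memLocalRing_blockCoeff
      (CfsgLib.Blocks.isBlockUnion_of_isPBlock hB) g
    have h2 : Cfsg.MemLocalRing M
        (Cfsg.subgroupBlockCoeff (Subgroup.centralizer (Q : Set G)) f g) := by
      rw [Cfsg.subgroupBlockCoeff]
      split_ifs with hg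
      · exact CfsgLib.Blocks.memLocalRing_blockCoeff (CfsgLib.Blocks.isBlockUnion_of_isPBlock hf) _
      · exact CfsgLib.Blocks.memLocalRing_of_memLocalIdeal CfsgLib.Blocks.memLocalIdeal_zero
    rw [redC_of_mem h1, redC_of_mem h2] at h
    exact CfsgLib.Blocks.red_eq_red_iff.1 h
  set C := Subgroup.centralizer (Q : Set G) with hC
  have hQC : Q ≤ Subgroup.normalizer (C : Set G) :=
    Subgroup.le_normalizer.trans (le_normalizer_centralizer Q)
  have hCT : C ≤ Q ⊔ C := le_sup_right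
  have hbT : IsBlock (Q ⊔ C) ff :=
    block_of_le_stab hQf le_sup_left (by rw [cent, top_inf_eq]; exact hCT) (le_of_le_of_eq le_top hall.symm)
  have hr : (Q ⊔ C).subtype.range = Q ⊔ C := (Q ⊔ C).range_subtype
  obtain ⟨F', hF', hF'c, hF'b⟩ := exists_block_lift (φ := (Q ⊔ C).subtype)
    (Q ⊔ C).subtype_injective (by rw [hr]; exact hCT) hf (fun t _ => (hG t).2)
    (by rw [hr]; exact hbT)
  refine ⟨F', hF', hF'c, (isNilpotentBlock_sblk_iff hF').2 ?_⟩
  rw [show sblk M (Q ⊔ C) F' = ff from hF'b]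
  have hQd : IsDefectGrp p (Q ⊔ C) ff Q := by
    refine isDefectGrp_of_card hbT le_sup_left hQf.2.1
      (fun h0 => hQf.2.2.ne_zero (by rw [← hQf.blockHas_self, h0, zero_mul]))
      fun S hS hSp hne => card_le_card_of_inf_le hQC hS ?_
    refine (hd.card_le inf_le_left (hSp.to_le inf_le_right) fun h0 =>
      hne (br_eq_zero_of_le inf_le_right h0)).trans (le_of_eq ?_)
    rw [inf_comm]
  intro R g hR x hx hreg
  obtain ⟨y, hy, hyR⟩ := hQd.2.2.2 R hR.1.1 hR.1.2.1 hR.br_ne_zero
  have hRQ : R ≤ Q := by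
    have := cj_mono y⁻¹ hyR
    rwa [cj_inv_cj, cj_eq_self ((sup_le Subgroup.le_normalizer
      (Subgroup.centralizer_le_normalizer _) : Q ⊔ C ≤ _) (inv_mem hy))] at this
  refine Subgroup.centralizer_le (SetLike.coe_subset_coe.2 hRQ) ?_
  have hxT : x ∈ Q ⊔ C := stab_le hx
  rw [← SetLike.mem_coe, Subgroup.coe_mul_of_left_le_normalizer_right _ _ hQC] at hxT
  obtain ⟨q, hq, c, hc, rfl⟩ := Set.mem_mul.1 hxT
  have hqc : Commute q c := Subgroup.mem_centralizer_iff.1 hc q hq
  have hqn : q ^ orderOf (q * c) ∈ C := by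
    have h1 := pow_orderOf_eq_one (q * c)
    rw [hqc.mul_pow, mul_eq_one_iff_eq_inv] at h1
    exact h1 ▸ inv_mem (pow_mem hc _)
  obtain ⟨m, hm⟩ := hQf.2.1 ⟨q, hq⟩
  have hm' : q ^ p ^ m = 1 := congrArg Subtype.val hm
  have hcop : (orderOf (q * c)).Coprime (orderOf q) :=
    Nat.Coprime.of_dvd_right (orderOf_dvd_of_pow_eq_one hm')
      (((Fact.out : p.Prime).coprime_iff_not_dvd.2 hreg).symm.pow_right m)
  obtain ⟨l, hl⟩ := exists_pow_eq_self_of_coprime hcop
  exact mul_mem (hl ▸ pow_mem hqn l) hc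

end Cfsg.Agent.S4693
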