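import Cfsg.Statements.S4694
import Cfsg.Agent.BlockPairs.Weight
import Cfsg.Agent.CentralDefect.Basic
import Cfsg.Agent.BlockPairs.PairBridge

set_option autoImplicit false
set_option linter.style.haveILetI false
open Cfsg CfsgLib.BlockPairs

namespace Cfsg.Agent.S4694

/-- Fix a prime p and a maximal ideal M of the algebraic integers containing p, a p-block B of the finite group G and a Brauer pair (Q, e) of B. Let T be the stabilizer of e in N_G(Q) and suppose that (Q, e) carries a weight: the block of T whose idempotent is that of e contains an irreducible character χ that is constant on the cosets of Q and whose degree has p-part equal to the p-part of the index of Q in T. Then Z(Q) is a defect group of e as a block of C_G(Q), and Q is the largest normal p-subgroup of T: every p-subgroup of T normalized by T lies in Q. -/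
theorem result {G : Type*} [Group G] [Fintype G] (p : ℕ) [Fact p.Prime] (M : Ideal Cfsg.AlgInt) (hM : Cfsg.IsPModular p M) (B : Set (Cfsg.IrrCharacter G)) (Q : Subgroup G) (e : Set (Cfsg.IrrCharacter (Subgroup.centralizer (Q : Set G)))) (hQe : Cfsg.IsBrauerPairOf p M B Q e) (T : Subgroup G) (hT : ∀ y : G, y ∈ T ↔ y ∈ Subgroup.normalizer (Q : Set G) ∧ Cfsg.StabilizesBlock (Subgroup.centralizer (Q : Set G)) e y) (F' : Set (Cfsg.IrrCharacter T)) (hF' : Cfsg.IsPBlock M F') (hF'e : ∀ t : T, Cfsg.blockCoeff F' t = Cfsg.subgroupBlockCoeff (Subgroup.centralizer (Q : Set G)) e (t : G)) (χ : Cfsg.IrrCharacter T) (hχ : χ ∈ F') (hχQ : ∀ q : G, q ∈ Q → ∀ t : T, ∀ t' : T, (t' : G) = q * (t : G) → (χ : T → ℂ) t' = (χ : T → ℂ) t) (hdeg : (Cfsg.charDegree (χ : T → ℂ)).factorization p + (Nat.card Q).factorization p = (Nat.card T).factorization p) : Cfsg.IsDefectGroup p M e ((Q ⊓ Subgroup.centralizer (Q : Set G)).subgroupOf (Subgroup.centralizer (Q : Set G))) ∧ ∀ R : Subgroup G, R ≤ T → IsPGroup p R → (∀ t ∈ T, t ∈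 Subgroup.normalizer (R : Set G)) → R ≤ Q := by
  haveI := CfsgLib.Blocks.IsPModular.isPrime hM
  classical
  have hp : p.Prime := Fact.out
  obtain ⟨⟨hQp, he⟩, -, -⟩ := hQe
  haveI := Fintype.ofFinite (Subgroup.centralizer (Q : Set G))
  haveI := Fintype.ofFinite T
  have hCT : (Subgroup.centralizer (Q : Set G)) ≤ T := fun c hc => by
    rw [hT]
    have hn : c ∈ Subgroup.normalizer (Q : Set G) := Subgroup.centralizer_le_normalizer _ hc
    refine ⟨hn, ⟨Subgroup.le_normalizer hc, fun ξ hξ => ?_⟩⟩
    exact ⟨ξ, hξ, fun k k' hk => by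
      rw [← CfsgLib.Characters.isClassFunction_of_isIrr ξ.2 k ⟨c, hc⟩]
      exact congrArg (ξ : (Subgroup.centralizer (Q : Set G)) → ℂ) (Subtype.ext hk)⟩
  have hQT : Q ≤ T := fun q hq => by
    rw [hT]
    have hn : q ∈ Subgroup.normalizer (Q : Set G) := Subgroup.le_normalizer hq
    have hqC : q ∈ Subgroup.normalizer ((Subgroup.centralizer (Q : Set G)) : Set G) :=
      CfsgLib.BlockPairs.normalizer_le_normalizer_centralizer Q hn
    refine ⟨hn, ⟨hqC, fun ξ hξ => ⟨ξ, hξ, fun k k' hk => ?_⟩⟩⟩
    refine congrArg (ξ : (Subgroup.centralizer (Q : Set G)) → ℂ) (Subtype.ext ?_)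
    rw [hk, Subgroup.mem_centralizer_iff.1 k.2 q hq, mul_inv_cancel_right]
  have hTn : ∀ t ∈ T, t ∈ Subgroup.normalizer (Q : Set G) := fun t ht => ((hT t).1 ht).1
  haveI hQn : (Q.subgroupOf T).Normal := ⟨fun q hq t =>
    (Subgroup.mem_normalizer_iff.1 (hTn t t.2) q).1 hq⟩
  haveI hCn : ((Subgroup.centralizer (Q : Set G)).subgroupOf T).Normal := ⟨fun c hc t =>
    (Subgroup.mem_normalizer_iff.1
      (CfsgLib.BlockPairs.normalizer_le_normalizer_centralizer Q (hTn t t.2)) c).1 hc⟩
  -- the weight as a character of `T ⧸ Q`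
  obtain ⟨χ', hχ', hval⟩ := CfsgLib.Characters.exists_irr_quotient (Q.subgroupOf T) χ.2
    fun q hq => hχQ q hq 1 q (by simp)
  haveI := Fintype.ofFinite (T ⧸ Q.subgroupOf T)
  have hQc : Nat.card (Q.subgroupOf T) = Nat.card Q :=
    Nat.card_congr (Subgroup.subgroupOfEquivOfLe hQT).toEquiv
  have hdeg' : (Nat.card (T ⧸ Q.subgroupOf T)).factorization p ≤
      (Cfsg.charDegree χ').factorization p := by
    have h1 : Cfsg.charDegree χ' = Cfsg.charDegree (χ : T → ℂ) := by
      rw [Cfsg.charDegree, Cfsg.charDegree, hval 1, QuotientGroup.mk_one]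
    rw [h1]
    rw [Subgroup.card_eq_card_quotient_mul_card_subgroup (Q.subgroupOf T), hQc,
      Nat.factorization_mul Nat.card_pos.ne' Nat.card_pos.ne', Finsupp.add_apply] at hdeg
    omega
  refine ⟨?_, fun R hR hRp hRn => ?_⟩
  swap
  · haveI : (R.subgroupOf T).Normal := ⟨fun r hr t =>
      (Subgroup.mem_normalizer_iff.1 (hRn t t.2) r).1 hr⟩
    haveI : ((R.subgroupOf T).map (QuotientGroup.mk' (Q.subgroupOf T))).Normal :=
      Subgroup.Normal.map inferInstance _ (QuotientGroup.mk'_surjective _)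
    have h := CfsgLib.Weight.eq_bot_of_defect_zero
      ((R.subgroupOf T).map (QuotientGroup.mk' (Q.subgroupOf T)))
      ((hRp.of_equiv (Subgroup.subgroupOfEquivOfLe hR).symm).map _) ⟨χ', hχ'⟩ hdeg'
    intro r hr
    have h1 : (⟨r, hR hr⟩ : T) ∈ (QuotientGroup.mk' (Q.subgroupOf T)).ker :=
      (Subgroup.map_eq_bot_iff _).1 h (show r ∈ R from hr)
    rw [QuotientGroup.ker_mk'] at h1
    exact h1
  -- a constituent of the weight in the block
  set Z : Subgroup (Subgroup.centralizer (Q : Set G)) := (Q ⊓ (Subgroup.centralizer (Q : Set G))).subgroupOf (Subgroup.centralizer (Q : Set G)) with hZ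
  have hZc : Z ≤ Subgroup.center (Subgroup.centralizer (Q : Set G)) := fun z hz => Subgroup.mem_center_iff.2 fun k =>
    Subtype.ext (Subgroup.mem_centralizer_iff.1 k.2 z hz.1).symm
  have hZp : IsPGroup p Z :=
    (hQp.to_le inf_le_left).of_equiv (Subgroup.subgroupOfEquivOfLe inf_le_right).symm
  set i : (Subgroup.centralizer (Q : Set G)) →* T := Subgroup.inclusion hCT
  set π : (Subgroup.centralizer (Q : Set G)) →* T ⧸ Q.subgroupOf T := (QuotientGroup.mk' (Q.subgroupOf T)).comp i
  have hker : π.ker = Z := by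
    ext k
    rw [MonoidHom.mem_ker, MonoidHom.comp_apply, QuotientGroup.mk'_apply,
      QuotientGroup.eq_one_iff, hZ, Subgroup.mem_subgroupOf, Subgroup.mem_subgroupOf]
    exact ⟨fun h => ⟨h, k.2⟩, fun h => h.1⟩
  have hNn : π.range.Normal := by
    have hr : π.range = ((Subgroup.centralizer (Q : Set G)).subgroupOf T).map (QuotientGroup.mk' (Q.subgroupOf T)) := by
      rw [MonoidHom.range_comp]
      exact congrArg _ (Subgroup.inclusion_range hCT)
    rw [hr]
    exact Subgroup.Normal.map hCn _ (QuotientGroup.mk'_surjective _)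
  haveI := hNn
  haveI := Fintype.ofFinite π.range
  -- some constituent lies in the block
  set θ : (Subgroup.centralizer (Q : Set G)) → ℂ := fun k => (χ : T → ℂ) (i k) with hθ
  have hθc : Cfsg.IsClassFunction (Subgroup.centralizer (Q : Set G)) θ := fun x y => by
    simp only [θ, map_mul, map_inv]
    exact CfsgLib.Characters.isClassFunction_of_isIrr χ.2 _ _
  obtain ⟨ξ, hξ, hm⟩ : ∃ ξ ∈ e, Cfsg.classInner θ (ξ : (Subgroup.centralizer (Q : Set G)) → ℂ) ≠ 0 := by
    by_contra hno
    push Not at hno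
    have h1 : ∑ t : T, Cfsg.blockCoeff F' t * (χ : T → ℂ) t = (χ : T → ℂ) 1 := by
      have h := CfsgLib.Blocks.omega_setIdemC F' χ
      rw [CfsgLib.Blocks.omega_apply, if_pos hχ,
        div_eq_one_iff_eq (CfsgLib.Characters.irr_one_ne_zero χ.2)] at h
      simpa only [CfsgLib.Blocks.coeff_setIdemC] using h
    have h2 : ∑ t : T, Cfsg.blockCoeff F' t * (χ : T → ℂ) t =
        ∑ k : (Subgroup.centralizer (Q : Set G)), Cfsg.blockCoeff e k * θ k := by
      symm
      refine Finset.sum_of_injOn i ((Subgroup.inclusion_injective hCT).injOn) (by simp)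
        (fun t _ ht => ?_) fun k _ => ?_
      · rw [hF'e, Cfsg.subgroupBlockCoeff, dif_neg, zero_mul]
        exact fun h => ht ⟨⟨t, h⟩, by simp, Subtype.ext rfl⟩
      · rw [hF'e, Cfsg.subgroupBlockCoeff, dif_pos (show ((i k : T) : G) ∈ (Subgroup.centralizer (Q : Set G)) from k.2)]
        rfl
    have h3 : ∑ k : (Subgroup.centralizer (Q : Set G)), Cfsg.blockCoeff e k * θ k = 0 := by
      rw [CfsgLib.Characters.classFunction_expansion hθc]
      simp only [Finset.sum_apply, Pi.smul_apply, smul_eq_mul, Finset.mul_sum]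
      rw [Finset.sum_comm]
      refine Finset.sum_eq_zero fun ψ _ => ?_
      by_cases hψ : ψ ∈ e
      · simp [hno ψ hψ]
      · have h := CfsgLib.Blocks.omega_setIdemC e ψ
        rw [CfsgLib.Blocks.omega_apply, if_neg hψ, div_eq_zero_iff] at h
        have h' := h.resolve_right (CfsgLib.Characters.irr_one_ne_zero ψ.2)
        simp only [CfsgLib.Blocks.coeff_setIdemC] at h'
        calc _ = Cfsg.classInner θ (ψ : (Subgroup.centralizer (Q : Set G)) → ℂ) *
              ∑ k : (Subgroup.centralizer (Q : Set G)), Cfsg.blockCoeff e k * (ψ : (Subgroup.centralizer (Q : Set G)) → ℂ) k := by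
              rw [Finset.mul_sum]
              exact Finset.sum_congr rfl fun k _ => by ring
          _ = 0 := by rw [h', mul_zero]
    exact CfsgLib.Characters.irr_one_ne_zero χ.2 (h1.symm.trans (h2.trans h3))
  -- it comes from a constituent in the quotient
  have hθ' : θ = fun k => ∑ η : Cfsg.IrrCharacter π.range,
      Cfsg.classInner (fun n : π.range => χ' n) (η : π.range → ℂ) *
        (η : π.range → ℂ) (π.rangeRestrict k) := by
    funext k
    have hcf : Cfsg.IsClassFunction π.range (fun n : π.range => χ' n) := fun x y => by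
      simpa using CfsgLib.Characters.isClassFunction_of_isIrr hχ' (x : _) (y : _)
    have h := congrFun (CfsgLib.Characters.classFunction_expansion hcf) (π.rangeRestrict k)
    simp only [Finset.sum_apply, Pi.smul_apply, smul_eq_mul] at h
    rw [← h]
    exact hval (i k)
  obtain ⟨η, hη, hne⟩ : ∃ η : Cfsg.IrrCharacter π.range,
      (fun k => (η : π.range → ℂ) (π.rangeRestrict k)) = (ξ : (Subgroup.centralizer (Q : Set G)) → ℂ) ∧
      Cfsg.classInner (fun n : π.range => χ' n) (η : π.range → ℂ) ≠ 0 := by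
    by_contra hno
    push Not at hno
    refine hm ?_
    have hθ'' : θ = ∑ η : Cfsg.IrrCharacter π.range,
        Cfsg.classInner (fun n : π.range => χ' n) (η : π.range → ℂ) •
          fun k => (η : π.range → ℂ) (π.rangeRestrict k) := by
      rw [hθ']
      funext k
      simp [Finset.sum_apply]
    rw [hθ'', CfsgLib.Characters.classInner_sum_left]
    refine Finset.sum_eq_zero fun η _ => ?_
    rw [CfsgLib.Characters.classInner_smul_left]
    by_cases h : (fun k => (η : π.range → ℂ) (π.rangeRestrict k)) = (ξ : (Subgroup.centralizer (Q : Set G)) → ℂ)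
    · rw [hno η h, zero_mul]
    · rw [CfsgLib.Characters.classInner_isIrr_ne (CfsgLib.Characters.isIrr_comp π.rangeRestrict
        π.rangeRestrict_surjective η.2) ξ.2 h, mul_zero]
  refine CfsgLib.CentralDefect.isDefectGroup_of_degree hM he Z hZc hZp hξ (le_antisymm
    ((Nat.factorization_le_iff_dvd (CfsgLib.Blocks.charDegree_ne_zero ξ)
      Subgroup.index_ne_zero_of_finite).2 (CfsgLib.CentralDefect.charDegree_dvd_index ξ Z hZc) p) ?_)
  have hd : Cfsg.charDegree (ξ : (Subgroup.centralizer (Q : Set G)) → ℂ) = Cfsg.charDegree (η : π.range → ℂ) := by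
    rw [Cfsg.charDegree, Cfsg.charDegree, ← hη]
    simp
  have h := hdeg'.trans (CfsgLib.Weight.factorization_le_add_index π.range ⟨χ', hχ'⟩ η hne)
  rw [← hd, ← Subgroup.card_mul_index π.range, Nat.factorization_mul Nat.card_pos.ne'
    Subgroup.index_ne_zero_of_finite, Finsupp.add_apply] at h
  rw [← hker, Subgroup.index_ker]
  omega

end Cfsg.Agent.S4694
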