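import Cfsg.Statements.S4697
import Cfsg.Agent.AbelianDefect.Main
import Cfsg.Agent.AbelianDefect.Shape
import Cfsg.Agent.S4695
import Cfsg.Agent.S4696


set_option autoImplicit false
open Cfsg

namespace Cfsg.Agent.S4697

open CfsgLib.Blocks CfsgLib.AbelianDefect

universe u

theorem cyclicShape {K : Type u} [Group K] [Fintype K] {p : ℕ} [Fact p.Prime] {M : Ideal AlgInt}
    (hM : Cfsg.IsPModular p M) (B' : Set (IrrCharacter K)) (hB' : Cfsg.IsPBlock M B')
    (E : Subgroup K) (hE : Cfsg.IsDefectGroup p M B' E) (hc : IsCyclic E) (a : ℕ) (ha : 1 ≤ a)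
    (hEa : Nat.card E = p ^ a) : HasCyclicShape p B' a := by
  haveI := IsPModular.isPrime hM
  obtain ⟨b, hind⟩ := exists_root_block hM hB' hE fun x hx y hy => by
    obtain ⟨g, hg⟩ := IsCyclic.exists_generator (α := E)
    obtain ⟨i, hi⟩ := Subgroup.mem_zpowers_iff.1 (hg ⟨x, hx⟩)
    obtain ⟨j, hj⟩ := Subgroup.mem_zpowers_iff.1 (hg ⟨y, hy⟩)
    exact congrArg Subtype.val (show (⟨x, hx⟩ : E) * ⟨y, hy⟩ = ⟨y, hy⟩ * ⟨x, hx⟩ by
      rw [← hi, ← hj]; exact ((Commute.refl g).zpow_zpow i j).eq)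
  obtain ⟨T, hT⟩ := exists_stab E b
  obtain ⟨he, -, X, Y, h1, h2, h3, h4, -, δ, δ₀, h5, h6, h7, -⟩ :=
    Cfsg.Agent.S4696.result p M hM E hc a ha hEa B' hB' hE b hind T hT _ rfl
  exact hasCyclicShape_of_relation he
    (Cfsg.Agent.S4695.result p M hM E hc a ha hEa B' hB' hE b hind T hT _ rfl)
    ⟨X, Y, h1, h2, h3, h4, δ, δ₀, h5, h6, h7⟩


/-- Let p be a prime, M a maximal ideal of the algebraic integers containing p, and B a p-block of the finite group G with an abelian defect group D of order p^d. If D has rank 2 (its least number of generators is 2) then B contains at most p^d irreducible characters; if D has rank 3 then the number k of irreducible characters in B satisfies k^3 ≤ p^(5d). -/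
theorem result {G : Type*} [Group G] [Finite G] (p : ℕ) [Fact p.Prime] (M : Ideal Cfsg.AlgInt) (hM : Cfsg.IsPModular p M) (B : Set (Cfsg.IrrCharacter G)) (hB : Cfsg.IsPBlock M B) (D : Subgroup G) (hBD : Cfsg.IsDefectGroup p M B D) (hab : IsMulCommutative D) (d : ℕ) (hDd : Nat.card D = p ^ d) : (Group.rank D = 2 → Nat.card B ≤ p ^ d) ∧ (Group.rank D = 3 → Nat.card B ^ 3 ≤ p ^ (5 * d)) := by
  classical
  haveI := Fintype.ofFinite G
  haveI := IsPModular.isPrime hM
  have hd : d = Cfsg.blockDefect p B :=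
    Nat.pow_right_injective (Fact.out : p.Prime).two_le (hDd.symm.trans (card_defectGroup hM hB hBD))
  have hcomm : ∀ x ∈ D, ∀ y ∈ D, x * y = y * x := fun x hx y hy =>
    congrArg Subtype.val (hab.is_comm.comm (⟨x, hx⟩ : D) ⟨y, hy⟩)
  subst hd
  exact ⟨fun hr => card_le_of_rank_le_two (fun K _ _ B' h E hE hc a ha ha' =>
      cyclicShape hM B' h E hE hc a ha ha') hM hB hBD hcomm hr.le,
    fun hr => card_cube_le_of_rank_le_three (fun K _ _ B' h E hE hc a ha ha' =>
      cyclicShape hM B' h E hE hc a ha ha') hM hB hBD hcomm hr.le⟩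

end Cfsg.Agent.S4697
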