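import Cfsg.Statements.S4707
import Cfsg.Agent.PrimeDegreeTwoP.Core
import Cfsg.Agent.Perm.PermChar
import Cfsg.Agent.Perm69.JordanPrime
import Cfsg.Agent.Characters.Linear
import Cfsg.Agent.S0669
import Cfsg.Agent.S0720
import Cfsg.Agent.S0252

set_option autoImplicit false
open Cfsg

namespace Cfsg.Agent.S4707

/-- Let p > 3 be a prime and G a primitive permutation group of degree 2p that is not doubly transitive. If a Sylow p-subgroup of G has normalizer of order 2p, then p = 5 and G is isomorphic to the alternating group of degree 5. -/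
theorem result {α : Type*} [Fintype α] [DecidableEq α] {p : ℕ} [Fact p.Prime] (hp : 3 < p) (hα : Fintype.card α = 2 * p) (G : Subgroup (Equiv.Perm α)) (hprim : MulAction.IsPreprimitive G α) (hnot2 : ¬ MulAction.IsMultiplyPretransitive G α 2) (P : Sylow p G) (hN : Nat.card (Subgroup.normalizer ((P : Subgroup G) : Set G)) = 2 * p) : p = 5 ∧ Nonempty (G ≃* alternatingGroup (Fin 5)) := by
  classical
  haveI := Fintype.ofFinite G
  have hpp : p.Prime := Fact.out
  have hp5 : 5 ≤ p := by
    by_contra h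
    have h4 : p = 4 := by omega
    rw [h4] at hpp
    norm_num at hpp
  haveI := hprim.toIsPretransitive
  haveI : Nontrivial α := Fintype.one_lt_card_iff_nontrivial.1 (by omega)
  set N := Subgroup.normalizer ((P : Subgroup G) : Set G) with hNdef
  have hPp : Nat.card (P : Subgroup G) = p := by
    have h1 : p ∣ Nat.card (P : Subgroup G) :=
      P.dvd_card_of_dvd_card ((dvd_mul_left p 2).trans (hN ▸ Subgroup.card_subgroup_dvd_card N))
    obtain ⟨n, hn⟩ := P.2.exists_card_eq
    have h2 : p ^ n ∣ 2 * p := hn ▸ hN ▸ Subgroup.card_dvd_of_le Subgroup.le_normalizer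
    rcases Nat.lt_or_ge n 2 with h | h
    · rcases Nat.eq_zero_or_pos n with rfl | h0
      · rw [hn, pow_zero, Nat.dvd_one] at h1; omega
      · rw [hn, show n = 1 by omega, pow_one]
    · exfalso
      have h3 := (pow_dvd_pow p h).trans h2
      rw [pow_two] at h3
      have := Nat.le_of_dvd two_pos (Nat.dvd_of_mul_dvd_mul_right hpp.pos h3)
      omega
  have hdvdG : 2 * p ∣ Nat.card G := hN ▸ Subgroup.card_subgroup_dvd_card N
  -- normal subgroups
  have hnormal : ∀ K : Subgroup G, K.Normal → ¬ p ∣ Nat.card K → K = ⊥ := by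
    intro K hK hKp
    by_contra hne
    haveI := hK
    haveI := hprim
    have hfix : MulAction.fixedPoints K α ≠ Set.univ := by
      intro hu
      obtain ⟨k, hk, hk1⟩ := (Subgroup.bot_or_exists_ne_one K).resolve_left hne
      exact hk1 (Subtype.ext (Equiv.ext fun a =>
        (hu.symm ▸ Set.mem_univ a : a ∈ MulAction.fixedPoints K α) ⟨k, hk⟩))
    haveI := MulAction.IsQuasiPreprimitive.isPretransitive_of_normal hfix
    obtain ⟨a₀⟩ := (inferInstance : Nonempty α)
    have h1 : (MulAction.stabilizer K a₀).index ∣ Nat.card K := Subgroup.index_dvd_card _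
    rw [MulAction.index_stabilizer_of_transitive, Nat.card_eq_fintype_card, hα] at h1
    exact hKp (dvd_trans (dvd_mul_left p 2) h1)
  -- the centraliser
  haveI : IsMulCommutative (P : Subgroup G) := by
    haveI := isCyclic_of_prime_card hPp
    infer_instance
  have hPC : (P : Subgroup G) ≤ Subgroup.centralizer ((P : Subgroup G) : Set G) :=
    Subgroup.le_centralizer _
  have hC : Subgroup.centralizer ((P : Subgroup G) : Set G) = P := by
    have hCN : Subgroup.centralizer ((P : Subgroup G) : Set G) ≤ N :=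
      Subgroup.centralizer_le_normalizer _
    have hd := Subgroup.card_dvd_of_le hCN
    obtain ⟨j, hj⟩ := Subgroup.card_dvd_of_le hPC
    rw [hPp] at hj
    rw [hN, hj, mul_comm 2 p] at hd
    rcases (Nat.dvd_prime Nat.prime_two).1 (Nat.dvd_of_mul_dvd_mul_left hpp.pos hd) with rfl | rfl
    · exact (Subgroup.eq_of_le_of_card_ge hPC (by rw [hj, hPp, mul_one])).symm
    · exfalso
      have hle : N ≤ Subgroup.centralizer ((P : Subgroup G) : Set G) :=
        (Subgroup.eq_of_le_of_card_ge hCN (by rw [hN, hj, mul_comm])).ge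
      have hker := hnormal _ inferInstance (MonoidHom.not_dvd_card_ker_transferSylow P hle)
      have hc := (MonoidHom.ker_transferSylow_isComplement' P hle).card_mul
      rw [hker, Subgroup.card_bot, one_mul, hPp] at hc
      rw [← hc] at hdvdG
      have := Nat.le_of_dvd hpp.pos hdvdG
      omega
  have hrel : (P : Subgroup G).relIndex N = 2 := by
    have h := Subgroup.relIndex_mul_relIndex ⊥ (P : Subgroup G) N bot_le Subgroup.le_normalizer
    rw [Subgroup.relIndex_bot_left, Subgroup.relIndex_bot_left, hPp, hN, mul_comm 2] at h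
    exact Nat.eq_of_mul_eq_mul_left hpp.pos h
  obtain ⟨x, hxP, hx1⟩ := CfsgLib.BlocksCyclic.exists_generator hPp
  have hxo : orderOf x = p := CfsgLib.BlocksCyclic.orderOf_generator hPp hxP hx1
  have hcentw : ∀ w ∈ (P : Subgroup G), w ≠ 1 →
      Subgroup.centralizer ({w} : Set G) = (P : Subgroup G) := fun w hw hw1 => by
    rw [CfsgLib.BlocksCyclic.centralizer_generator hPp hw hw1, hC]
  -- elements of order `p` move every point
  have hfree : ∀ w : G, orderOf w = p → ∀ a : α, w • a ≠ a := by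
    intro w hw a ha
    have hxo' : orderOf (w : Equiv.Perm α) = p := by rw [Subgroup.orderOf_coe, hw]
    obtain ⟨r, hr⟩ := Equiv.Perm.cycleType_prime_order (σ := (w : Equiv.Perm α))
      (by rw [hxo']; exact hpp)
    have hsupp : (w : Equiv.Perm α).support.card = (r + 1) * p := by
      rw [← Equiv.Perm.sum_cycleType, hr, Multiset.sum_replicate, smul_eq_mul, hxo']
    have hlt : (w : Equiv.Perm α).support.card < Fintype.card α := by
      rw [← Finset.card_univ]
      refine Finset.card_lt_card (Finset.ssubset_univ_iff.2 fun h => ?_)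
      have := h ▸ Finset.mem_univ a
      exact Equiv.Perm.mem_support.1 this ha
    rw [hsupp, hα] at hlt
    have hr0 : r = 0 := by
      have := Nat.lt_of_mul_lt_mul_right hlt
      omega
    subst hr0
    rw [zero_add, one_mul] at hsupp
    have hcyc : (w : Equiv.Perm α).IsCycle := by
      rw [← Equiv.Perm.card_cycleType_eq_one, hr, Multiset.card_replicate]
    have hA : alternatingGroup α ≤ G :=
      CfsgLib.JordanPrime.alternatingGroup_le_of_prime_cycle hprim hpp
        (by omega) hcyc hsupp w.2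
    refine hnot2 (MulAction.is_two_pretransitive_iff.2 fun {a b c d} hab hcd => ?_)
    haveI : MulAction.IsMultiplyPretransitive (alternatingGroup α) α 2 := by
      haveI := alternatingGroup.isMultiplyPretransitive α
      refine MulAction.isMultiplyPretransitive_of_le
        (n := Nat.card α - 2) (by rw [Nat.card_eq_fintype_card, hα]; omega) ?_
      rw [Nat.card_eq_fintype_card, hα]; omega
    obtain ⟨g, h1, h2⟩ := MulAction.is_two_pretransitive_iff.1 this hab hcd
    exact ⟨⟨g, hA g.2⟩, h1, h2⟩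
  let π : G → ℂ := CfsgLib.Perm.PermChar.perm G α
  have hπc : Cfsg.IsCharacter G π := CfsgLib.Perm.PermChar.isCharacter_perm
  have hπ0 : ∀ g : G, p ∣ orderOf g → π g = 0 := by
    intro g hg
    show (Nat.card (MulAction.fixedBy α g) : ℂ) = 0
    rw [Nat.cast_eq_zero, Nat.card_eq_zero]
    refine Or.inl ⟨fun ⟨a, ha⟩ => hfree (g ^ (orderOf g / p)) ?_ a ?_⟩
    · rw [orderOf_pow_of_dvd (Nat.div_pos (Nat.le_of_dvd (orderOf_pos g) hg) hpp.pos).ne'
        (Nat.div_dvd_of_dvd hg), Nat.div_div_self hg (orderOf_pos g).ne']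
    · have : g ∈ MulAction.stabilizer G a := ha
      exact MulAction.mem_stabilizer_iff.1 (pow_mem this _)
  obtain ⟨a₀⟩ := (inferInstance : Nonempty α)
  obtain ⟨hrank, k, hk0, hpk, -⟩ :=
    (Cfsg.Agent.S0720.result hpp hα G hprim a₀).resolve_left hnot2
  obtain ⟨m, hm, hdegsum, hnorm⟩ := CfsgLib.Perm.PermChar.exists_mult (G := G) (Ω := α)
  rw [Cfsg.Agent.S0669.result a₀, hrank] at hnorm
  have htriv := CfsgLib.Characters.isIrr_one (G := G)
  set triv : Cfsg.IrrCharacter G := ⟨fun _ => 1, htriv⟩ with htrivdef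
  have hmtriv : m triv = 1 := by
    have h := hm triv
    rw [show (triv : G → ℂ) = fun _ => 1 from rfl,
      CfsgLib.Perm.PermChar.inner_one_of_transitive] at h
    exact_mod_cast h.symm
  have hsum2 : ∑ ψ ∈ Finset.univ.erase triv, m ψ * m ψ = 2 := by
    have := Finset.add_sum_erase Finset.univ (fun ψ => m ψ * m ψ) (Finset.mem_univ triv)
    rw [← hnorm, hmtriv] at this
    omega
  have hle1 : ∀ ψ, ψ ≠ triv → m ψ ≤ 1 := by
    intro ψ hψ
    have := Finset.single_le_sum (f := fun ψ => m ψ * m ψ) (fun _ _ => Nat.zero_le _)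
      (Finset.mem_erase.2 ⟨hψ, Finset.mem_univ ψ⟩)
    rw [hsum2] at this
    by_contra h
    have h4 : 2 * 2 ≤ m ψ * m ψ := Nat.mul_le_mul (by omega) (by omega)
    omega
  set C := (Finset.univ.erase triv).filter (fun ψ => m ψ ≠ 0) with hCdef
  have hCm : ∀ ψ ∈ C, m ψ = 1 := fun ψ hψ => by
    obtain ⟨h1, h2⟩ := Finset.mem_filter.1 hψ
    have := hle1 ψ (Finset.ne_of_mem_erase h1)
    omega
  have hCc : C.card = 2 := by
    rw [← hsum2, Finset.card_eq_sum_ones,
      show ∑ ψ ∈ Finset.univ.erase triv, m ψ * m ψ = ∑ ψ ∈ C, m ψ * m ψ from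
        (Finset.sum_subset (Finset.filter_subset _ _) (fun ψ h1 h2 => by
          have : m ψ = 0 := by
            by_contra h
            exact h2 (Finset.mem_filter.2 ⟨h1, h⟩)
          rw [this, mul_zero])).symm]
    exact Finset.sum_congr rfl fun ψ hψ => by rw [hCm ψ hψ]
  have hexp : ∀ g, π g = 1 + ∑ ψ ∈ C, (ψ : G → ℂ) g := by
    intro g
    have h := congrFun (CfsgLib.Characters.character_expansion hπc) g
    simp only [Finset.sum_apply, Pi.smul_apply, smul_eq_mul] at h
    rw [h, ← Finset.add_sum_erase Finset.univ _ (Finset.mem_univ triv)]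
    show Cfsg.classInner π (triv : G → ℂ) * _ + _ = _
    congr 1
    · rw [show (triv : G → ℂ) = fun _ => 1 from rfl,
        CfsgLib.Perm.PermChar.inner_one_of_transitive, one_mul]
    · rw [← Finset.sum_subset (Finset.filter_subset _ _) (fun ψ h1 h2 => by
        have : m ψ = 0 := by
          by_contra h
          exact h2 (Finset.mem_filter.2 ⟨h1, h⟩)
        rw [show Cfsg.classInner π (ψ : G → ℂ) = m ψ from hm ψ, this]; simp)]
      exact Finset.sum_congr rfl fun ψ hψ => by
        rw [show Cfsg.classInner π (ψ : G → ℂ) = m ψ from hm ψ, hCm ψ hψ, Nat.cast_one, one_mul]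
  -- the principal block
  obtain ⟨M, hM⟩ := CfsgLib.Blocks.exists_isPModular p hpp
  haveI : M.IsPrime := CfsgLib.Blocks.IsPModular.isPrime hM
  set B := Cfsg.principalBlock M G with hBdef
  obtain ⟨X, Y, hB, hdisj, hXc, hYc, εX, ε, hX, hε, hYd, hYreg, hid⟩ :=
    Cfsg.Agent.S4441.result p M hM (by omega) P hPp 2 (by rw [hC, hrel])
  have houtB : ∀ w ∈ (P : Subgroup G), w ≠ 1 → ∀ ψ : Cfsg.IrrCharacter G, ψ ∉ B →
      (ψ : G → ℂ) w = 0 := by
    intro w hw hw1
    have hall := CfsgLib.Characters.sum_irr_mul_conj_of_isConj (IsConj.refl w)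
    have hblk := CfsgLib.BlocksCyclic.sum_principal_mul_conj hPp hw hw1 hM hw
    rw [hcentw w hw hw1, hPp, ← Finset.sum_filter_add_sum_filter_not Finset.univ
      (fun ψ => ψ ∈ B)] at hall
    rw [if_pos (IsConj.refl w), ← Finset.sum_filter, ← hBdef] at hblk
    rw [hblk, add_eq_left] at hall
    intro ψ hψ
    have hre := congrArg Complex.re hall
    simp only [Complex.mul_conj, Complex.re_sum, Complex.ofReal_re, Complex.zero_re] at hre
    exact Complex.normSq_eq_zero.1 ((Finset.sum_eq_zero_iff_of_nonneg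
      fun ψ _ => Complex.normSq_nonneg _).1 hre ψ (Finset.mem_filter.2 ⟨Finset.mem_univ _, hψ⟩))
  have hCY : ∀ θ ∈ C, θ ∉ Y := by
    intro θ hθC hθY
    have hind : ∀ θ' ∈ Y, m θ' = m θ := by
      intro θ' hθ'
      have h : Cfsg.classInner π (θ' : G → ℂ) = Cfsg.classInner π (θ : G → ℂ) := by
        rw [Cfsg.classInner, Cfsg.classInner]
        congr 1
        refine Finset.sum_congr rfl fun g _ => ?_
        by_cases hg : p ∣ orderOf g
        · rw [hπ0 g hg]; ring
        · rw [hYreg θ' hθ' θ hθY g hg]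
      rw [show Cfsg.classInner π (θ' : G → ℂ) = m θ' from hm θ',
        show Cfsg.classInner π (θ : G → ℂ) = m θ from hm θ] at h
      exact_mod_cast h
    have hYtriv : triv ∉ Y := by
      intro h
      have h' := hYd triv h
      rw [show Cfsg.charDegree (triv : G → ℂ) = 1 by simp [Cfsg.charDegree, htrivdef],
        Int.modEq_iff_dvd] at h'
      rcases hε with rfl | rfl
      · have := Int.le_of_dvd (by norm_num) h'; omega
      · have := Int.le_of_dvd (by norm_num) (dvd_neg.2 h'); omega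
    have hsub : Finset.univ.filter (fun ψ => ψ ∈ Y) ⊆ C := by
      intro ψ hψ
      have hψY := (Finset.mem_filter.1 hψ).2
      refine Finset.mem_filter.2 ⟨Finset.mem_erase.2
        ⟨fun e => hYtriv (e ▸ hψY), Finset.mem_univ _⟩, ?_⟩
      rw [hind ψ hψY, hCm θ hθC]; exact one_ne_zero
    have hYFc : (Finset.univ.filter (fun ψ => ψ ∈ Y)).card = (p - 1) / 2 := by
      rw [← Fintype.card_subtype, ← Nat.card_eq_fintype_card]
      exact hYc
    have hle := Finset.card_le_card hsub
    rw [hYFc, hCc] at hle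
    obtain ⟨n, -, hn, -, -⟩ := CfsgLib.ClassPairs.exists_irr_degree θ
    have hodd : p % 2 = 1 := (hpp.eq_two_or_odd).resolve_left (by omega)
    have hCY' : C = Finset.univ.filter (fun ψ => ψ ∈ Y) :=
      (Finset.eq_of_subset_of_card_le hsub (by rw [hYFc, hCc]; omega)).symm
    have h := hexp 1
    rw [show π 1 = ((2 * p : ℕ) : ℂ) by
      show CfsgLib.Perm.PermChar.perm G α 1 = _
      rw [CfsgLib.Perm.PermChar.perm_one, Nat.card_eq_fintype_card, hα],
      Finset.sum_congr rfl (g := fun _ => (n : ℂ)) (fun ψ hψ => by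
        rw [hYreg ψ (Finset.mem_filter.1 (hCY' ▸ hψ)).2 θ hθY 1
          (by rw [orderOf_one]; exact hpp.not_dvd_one), hn]),
      Finset.sum_const, hCc, nsmul_eq_mul] at h
    have h' : 2 * p = 1 + 2 * n := by exact_mod_cast h
    omega
  have hxsum : ∑ ψ ∈ C, (ψ : G → ℂ) x = -1 := by
    have := hexp x
    rw [hπ0 x (by rw [hxo])] at this
    linear_combination -this
  obtain ⟨χ, hχC, hχne⟩ := Finset.exists_ne_zero_of_sum_ne_zero
    (by rw [hxsum]; norm_num : ∑ ψ ∈ C, (ψ : G → ℂ) x ≠ 0)
  have hinX : ∀ ψ ∈ C, ψ ∈ B → ψ ∈ X := fun ψ hψ hψB => by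
    rw [hBdef, hB] at hψB
    exact hψB.resolve_right (hCY ψ hψ)
  have hχB : χ ∈ B := by
    by_contra h
    exact hχne (houtB x hxP hx1 χ h)
  have hχX := hinX χ hχC hχB
  have htX : triv ∈ X := by
    refine ((Set.mem_union _ _ _).1 (hB ▸ CfsgLib.PrincipalBlock.trivChar_mem)).resolve_right
      fun h => ?_
    have h' := hYd triv h
    rw [show Cfsg.charDegree (triv : G → ℂ) = 1 by simp [Cfsg.charDegree, htrivdef],
      Int.modEq_iff_dvd] at h'
    rcases hε with rfl | rfl
    · have := Int.le_of_dvd (by norm_num) h'; omega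
    · have := Int.le_of_dvd (by norm_num) (dvd_neg.2 h'); omega
  have hne : triv ≠ χ := fun h =>
    Finset.ne_of_mem_erase (Finset.mem_filter.1 hχC).1 h.symm
  have hXeq : X = {triv, χ} := (Set.eq_of_subset_of_ncard_le
    (Set.insert_subset htX (Set.singleton_subset_iff.2 hχX))
    (by rw [Set.ncard_pair hne, ← Nat.card_coe_set_eq, hXc]) (Set.toFinite _)).symm
  obtain ⟨χ₂, hχ₂, hχ₂ne⟩ := Finset.exists_mem_ne (by rw [hCc]; norm_num : 1 < C.card) χ
  have hχ₂B : χ₂ ∉ B := fun h => by
    have := hinX χ₂ hχ₂ h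
    rw [hXeq, Set.mem_insert_iff, Set.mem_singleton_iff] at this
    exact this.elim (Finset.ne_of_mem_erase (Finset.mem_filter.1 hχ₂).1) hχ₂ne
  have hCeq : C = {χ, χ₂} := (Finset.eq_of_subset_of_card_le
    (Finset.insert_subset hχC (Finset.singleton_subset_iff.2 hχ₂))
    (by rw [Finset.card_pair hχ₂ne.symm, hCc])).symm
  have hχP : ∀ w ∈ (P : Subgroup G), w ≠ 1 → (χ : G → ℂ) w = -1 := by
    intro w hw hw1
    have hwo : orderOf w = p := CfsgLib.BlocksCyclic.orderOf_generator hPp hw hw1
    have := hexp w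
    rw [hπ0 w (by rw [hwo]), hCeq, Finset.sum_pair hχ₂ne.symm, houtB w hw hw1 χ₂ hχ₂B] at this
    linear_combination -this
  have hdeg : Cfsg.charDegree (χ : G → ℂ) = p - 1 := by
    haveI : Fintype (P : Subgroup G) := Fintype.ofFinite _
    obtain ⟨s, hs⟩ := CfsgLib.PrimeDegreeTwoP.exists_sum_subgroup
      (CfsgLib.Characters.isCharacter_of_isIrr χ₂.2) (P : Subgroup G)
    rw [Finset.sum_eq_single (1 : (P : Subgroup G))
      (fun w _ hw => houtB w w.2 (fun e => hw (Subtype.ext e)) χ₂ hχ₂B) (by simp), hPp,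
      OneMemClass.coe_one] at hs
    obtain ⟨s', hs'⟩ := CfsgLib.PrimeDegreeTwoP.exists_sum_subgroup
      (CfsgLib.Characters.isCharacter_of_isIrr χ.2) (P : Subgroup G)
    rw [← Finset.add_sum_erase Finset.univ _ (Finset.mem_univ (1 : (P : Subgroup G))),
      Finset.sum_congr rfl (s₁ := Finset.univ.erase (1 : (P : Subgroup G))) (g := fun _ => (-1 : ℂ))
        (fun w hw => hχP w w.2
        (fun e => Finset.ne_of_mem_erase hw (Subtype.ext e))), Finset.sum_const,
      Finset.card_erase_of_mem (Finset.mem_univ _), Finset.card_univ,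
      ← Nat.card_eq_fintype_card, hPp, OneMemClass.coe_one, nsmul_eq_mul,
      Nat.cast_sub hpp.one_le, Nat.cast_one] at hs'
    obtain ⟨d₁, hd₁0, hd₁, hd₁', -⟩ := CfsgLib.ClassPairs.exists_irr_degree χ
    obtain ⟨d₂, hd₂0, hd₂, -, -⟩ := CfsgLib.ClassPairs.exists_irr_degree χ₂
    have h := hexp 1
    rw [show π 1 = ((2 * p : ℕ) : ℂ) by
      show CfsgLib.Perm.PermChar.perm G α 1 = _
      rw [CfsgLib.Perm.PermChar.perm_one, Nat.card_eq_fintype_card, hα],
      hCeq, Finset.sum_pair hχ₂ne.symm, hd₁, hd₂] at h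
    rw [hd₂] at hs
    rw [hd₁] at hs'
    have h2 : d₂ = p * s := by exact_mod_cast hs
    have h1 : d₁ + 1 = p * (s' + 1) := by
      have e : ((d₁ + 1 : ℕ) : ℂ) = ((p * (s' + 1) : ℕ) : ℂ) := by
        push_cast; linear_combination hs'
      exact_mod_cast e
    have h3 : 2 * p = 1 + (d₁ + d₂) := by exact_mod_cast h
    have h4 : s + (s' + 1) = 2 := Nat.eq_of_mul_eq_mul_left hpp.pos (by rw [mul_add, ← h2, ← h1]; omega)
    have hs0 : s ≠ 0 := fun e => by rw [e, mul_zero] at h2; omega
    rw [hd₁', show d₁ = p - 1 by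
      have hs'0 : s' = 0 := by omega
      rw [hs'0] at h1; omega]
  have hfaith : ∀ g : G, (χ : G → ℂ) g = (χ : G → ℂ) 1 → g = 1 := by
    obtain ⟨d, ρ, hρ, hρc⟩ := χ.2
    intro g hg
    rw [← hρc, Representation.char_one, CfsgLib.Characters.char_eq_finrank_iff] at hg
    have hker : ρ.ker = ⊥ := by
      refine hnormal _ inferInstance fun hdvd => ?_
      obtain ⟨w, hw⟩ := exists_prime_orderOf_dvd_card' (G := ρ.ker) p hdvd
      rw [← Subgroup.orderOf_coe] at hw
      obtain ⟨Q, hQ⟩ := (IsPGroup.of_card (p := p) (n := 1)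
        (by rw [Nat.card_zpowers, hw, pow_one] :
          Nat.card (Subgroup.zpowers (w : G)) = p ^ 1)).exists_le_sylow
      obtain ⟨c, hc⟩ := MulAction.exists_smul_eq G Q P
      have hmem : c * w * c⁻¹ ∈ (P : Subgroup G) := by
        rw [← hc]
        exact Subgroup.mem_map.2 ⟨w, hQ (Subgroup.mem_zpowers (w : G)), rfl⟩
      have hne1 : c * w * c⁻¹ ≠ 1 := fun e => by
        rw [conj_eq_one_iff.1 e, orderOf_one] at hw
        omega
      have hval := hχP _ hmem hne1
      rw [CfsgLib.Characters.isClassFunction_of_isIrr χ.2 w c, ← hρc,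
        (CfsgLib.Characters.char_eq_finrank_iff ρ w).2 w.2] at hval
      have hre : (Module.finrank ℂ (Fin d → ℂ) : ℝ) = -1 := by simpa using congrArg Complex.re hval
      have := (Nat.cast_nonneg (Module.finrank ℂ (Fin d → ℂ)) : (0 : ℝ) ≤ _)
      linarith
    have : g ∈ ρ.ker := hg
    rwa [hker, Subgroup.mem_bot] at this
  obtain ⟨a, F, fF, fFin, ha, hF, ⟨e⟩⟩ :=
    CfsgLib.PrimeDegreeTwoP.core hp5 P hPp hC hrel χ hdeg hfaith
  -- the degree
  have hk1 : k = 1 := by
    have h2 : 2 ^ a = 2 * (k * (k + 1)) := by rw [show 2 * k ^ 2 = 2 * (k * k) by ring] at hpk; linarith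
    have hkd : k ∣ 2 ^ a := ⟨2 * (k + 1), by rw [h2]; ring⟩
    have hkd' : k + 1 ∣ 2 ^ a := ⟨2 * k, by rw [h2]; ring⟩
    obtain ⟨i, -, rfl⟩ := (Nat.dvd_prime_pow Nat.prime_two).1 hkd
    obtain ⟨j, -, hj⟩ := (Nat.dvd_prime_pow Nat.prime_two).1 hkd'
    rcases i with _ | i
    · rfl
    · exfalso
      rcases j with _ | j
      · rw [pow_zero] at hj; have := Nat.one_le_two_pow (n := i + 1); omega
      · rw [pow_succ, pow_succ] at hj; omega
  subst hk1
  have hp5' : p = 5 := by omega
  refine ⟨hp5', ?_⟩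
  have hF4 : Fintype.card F = 4 := by omega
  haveI : CharP F 2 := by
    obtain ⟨q, hq'⟩ := CharP.exists F
    obtain ⟨n, hqp, hn⟩ := FiniteField.card F q
    have h1 : q ∣ 2 ^ 2 := (hF4 ▸ hn ▸ dvd_pow_self q n.ne_zero : q ∣ 4)
    rw [← (Nat.prime_dvd_prime_iff_eq hqp Nat.prime_two).1 (hqp.dvd_of_dvd_pow h1)]
    exact hq'
  obtain ⟨e'⟩ := Cfsg.Agent.S0252.result hF4
  exact ⟨(e.trans CfsgLib.CAGroups.sl2EquivPSL2).trans e'⟩

end Cfsg.Agent.S4707
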