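import Cfsg.Statements.S4708
import Cfsg.Agent.BlockPairs.PrincipalNormal

set_option autoImplicit false
set_option linter.style.haveILetI false
set_option linter.unusedSectionVars false
open Cfsg CfsgLib CfsgLib.Blocks

namespace Cfsg.Agent.S4708

universe u

theorem main {G : Type u} [Group G] [Fintype G] {p : ℕ} [Fact p.Prime] {M : Ideal AlgInt}
    [M.IsPrime] (hM : Cfsg.IsPModular p M) (H : Subgroup G) [H.Normal] [Fintype H] :
    (∑ᶠ θ ∈ Cfsg.principalBlock M H, Cfsg.charDegree (θ : H → ℂ) ^ 2) ≤
        (∑ᶠ χ ∈ Cfsg.principalBlock M G, Cfsg.charDegree (χ : G → ℂ) ^ 2) ∧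
      (∑ᶠ χ ∈ Cfsg.principalBlock M G, Cfsg.charDegree (χ : G → ℂ) ^ 2) ≤
        H.index * ∑ᶠ θ ∈ Cfsg.principalBlock M H, Cfsg.charDegree (θ : H → ℂ) ^ 2 := by
  classical
  set b₀ := Cfsg.principalBlock M H with hb₀
  set B₀ := Cfsg.principalBlock M G with hB₀
  have hres : ∀ χ : IrrCharacter G, Cfsg.IsCharacter H (fun h : H => (χ : G → ℂ) h) := fun χ =>
    Characters.isCharacter_restrict H (Characters.isCharacter_of_isIrr χ.2)
  choose m hm using fun (χ : IrrCharacter G) (θ : IrrCharacter H) =>
    Characters.classInner_character_irr (hres χ) θ.2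
  have hdeg : ∀ χ : IrrCharacter G, ∑ θ : IrrCharacter H, m χ θ * Cfsg.charDegree (θ : H → ℂ) =
      Cfsg.charDegree (χ : G → ℂ) := by
    intro χ
    apply Nat.cast_injective (R := ℂ)
    have h := congrFun (Characters.classFunction_expansion
      (Characters.isClassFunction_of_isCharacter (hres χ))) 1
    simp only [Finset.sum_apply, Pi.smul_apply, smul_eq_mul, hm, Subgroup.coe_one] at h
    push_cast
    simp only [charDegree_cast]
    exact h.symm
  have hind : ∀ θ : IrrCharacter H, ∑ χ : IrrCharacter G, m χ θ * Cfsg.charDegree (χ : G → ℂ) =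
      H.index * Cfsg.charDegree (θ : H → ℂ) := by
    intro θ
    apply Nat.cast_injective (R := ℂ)
    have hc : Cfsg.IsClassFunction G (Cfsg.indFun H (θ : H → ℂ)) :=
      Characters.isClassFunction_of_isCharacter
        (Characters.isCharacter_indFun H (Characters.isCharacter_of_isIrr θ.2))
    have h := congrFun (Characters.classFunction_expansion hc) 1
    rw [Characters.indFun_one, Finset.sum_apply] at h
    push_cast
    simp only [charDegree_cast]
    rw [h]
    refine Finset.sum_congr rfl fun χ _ => ?_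
    rw [Pi.smul_apply, smul_eq_mul,
      Characters.classInner_indFun H _ (Characters.isClassFunction_of_isIrr χ.2),
      Characters.classInner_conj_symm, hm, map_natCast]
  have hunder : ∀ χ ∈ B₀, ∀ θ, m χ θ ≠ 0 → θ ∈ b₀ := fun χ hχ θ h =>
    PrincipalNormal.constituent_mem_principal H hχ (by rw [hm]; exact_mod_cast h)
  rw [finsum_irr_mem, finsum_irr_mem]
  refine ⟨?_, ?_⟩
  · calc ∑ θ : IrrCharacter H, (if θ ∈ b₀ then Cfsg.charDegree (θ : H → ℂ) ^ 2 else 0)
        ≤ ∑ θ : IrrCharacter H, ∑ χ : IrrCharacter G,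
            if χ ∈ B₀ then m χ θ ^ 2 * Cfsg.charDegree (θ : H → ℂ) ^ 2 else 0 := by
          refine Finset.sum_le_sum fun θ _ => ?_
          split_ifs with hθ
          · obtain ⟨χ, hχ, hne⟩ := PrincipalNormal.exists_over_principal hM H hθ
            refine le_trans ?_ (Finset.single_le_sum (f := fun χ : IrrCharacter G =>
              if χ ∈ B₀ then m χ θ ^ 2 * Cfsg.charDegree (θ : H → ℂ) ^ 2 else 0)
              (fun χ _ => Nat.zero_le _) (Finset.mem_univ χ))
            rw [if_pos hχ]
            refine Nat.le_mul_of_pos_left _ (pow_pos (Nat.pos_of_ne_zero fun h => hne ?_) _)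
            rw [hm, h, Nat.cast_zero]
          · exact Nat.zero_le _
      _ = ∑ χ : IrrCharacter G,
            if χ ∈ B₀ then ∑ θ : IrrCharacter H, (m χ θ * Cfsg.charDegree (θ : H → ℂ)) ^ 2 else 0 := by
          rw [Finset.sum_comm]
          refine Finset.sum_congr rfl fun χ _ => ?_
          split_ifs
          · simp only [mul_pow]
          · simp
      _ ≤ _ := by
          refine Finset.sum_le_sum fun χ _ => ?_
          split_ifs
          · rw [← hdeg χ]
            exact Finset.sum_sq_le_sq_sum_of_nonneg fun θ _ => Nat.zero_le _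
          · exact le_rfl
  · calc ∑ χ : IrrCharacter G, (if χ ∈ B₀ then Cfsg.charDegree (χ : G → ℂ) ^ 2 else 0)
        ≤ ∑ χ : IrrCharacter G, ∑ θ : IrrCharacter H, (if θ ∈ b₀ then
            m χ θ * Cfsg.charDegree (χ : G → ℂ) * Cfsg.charDegree (θ : H → ℂ) else 0) := by
          refine Finset.sum_le_sum fun χ _ => ?_
          split_ifs with hχ
          · rw [sq]
            nth_rw 1 [← hdeg χ]
            rw [Finset.sum_mul]
            refine Finset.sum_le_sum fun θ _ => ?_
            by_cases hθ : θ ∈ b₀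
            · rw [if_pos hθ]
              exact le_of_eq (by ring)
            · rw [if_neg hθ, show m χ θ = 0 from by_contra fun h => hθ (hunder χ hχ θ h)]
              simp
          · exact Nat.zero_le _
      _ = _ := by
          rw [Finset.sum_comm, Finset.mul_sum]
          refine Finset.sum_congr rfl fun θ _ => ?_
          split_ifs
          · rw [← Finset.sum_mul, hind]; ring
          · simp

/-- Let p be a prime, M a maximal ideal of the algebraic integers containing p, G a finite group and H a normal subgroup. Write λ(X) for the sum of the squares of the degrees of the irreducible characters in the principal p-block of a group X. Then λ(H) ≤ λ(G) ≤ [G : H]·λ(H). -/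
theorem result {G : Type*} [Group G] [Finite G] (p : ℕ) [Fact p.Prime] (M : Ideal Cfsg.AlgInt) (hM : Cfsg.IsPModular p M) (H : Subgroup G) [H.Normal] : (∑ᶠ θ ∈ Cfsg.principalBlock M H, Cfsg.charDegree (θ : H → ℂ) ^ 2) ≤ (∑ᶠ χ ∈ Cfsg.principalBlock M G, Cfsg.charDegree (χ : G → ℂ) ^ 2) ∧ (∑ᶠ χ ∈ Cfsg.principalBlock M G, Cfsg.charDegree (χ : G → ℂ) ^ 2) ≤ H.index * ∑ᶠ θ ∈ Cfsg.principalBlock M H, Cfsg.charDegree (θ : H → ℂ) ^ 2 := by
  haveI := CfsgLib.Blocks.IsPModular.isPrime hM
  haveI := Fintype.ofFinite G
  haveI := Fintype.ofFinite H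
  exact main hM H

end Cfsg.Agent.S4708
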