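import Cfsg.Statements.S4709
import Cfsg.Agent.BlocksFrobenius.Frame

set_option autoImplicit false
set_option linter.style.haveILetI false
open Cfsg

namespace Cfsg.Agent.S4709

/-- Let p be a prime, M a maximal ideal of the algebraic integers containing p, and G a finite group with a nontrivial abelian Sylow p-subgroup P; put N = N_G(P), C = C_G(P). Suppose N/C is cyclic of order m with 1 < m < #P − 1 (C has index m in N and N is generated by C and one element), and C_G(y) ∩ N = C for every non-identity y ∈ P. Put r = (#P − 1)/m. Then there is s ≤ m such that the principal p-block is the disjoint union of a set X of s characters containing the principal character and a set Y of r characters, with integers a_χ ≠ 0 (χ ∈ X), d and a sign δ = ±1, such that: every χ ∈ X takes the value a_χ at every element whose p-part is a non-identity element of P; there is a map ζ from the non-principal linear characters ψ of P onto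 Y, constant on N-conjugacy classes, with ζ_ψ(z) = d + δ·Σ ψ'(y) for every z whose p-part y is a non-identity element of P, the sum running over the N-conjugates ψ' of ψ; (d − δ)^2 + (r − 1) d^2 + Σ_{χ ∈ X} a_χ^2 = m + 1; all members of Y agree on p-regular elements; and (r d − δ) η(g) + Σ_{χ ∈ X} a_χ χ(g) = 0 for every η ∈ Y and every p-regular g. -/
theorem result {G : Type*} [Group G] [Finite G] (p : ℕ) [Fact p.Prime] (M : Ideal Cfsg.AlgInt) (hM : Cfsg.IsPModular p M) (P : Sylow p G) (hab : IsMulCommutative P) (hP1 : Nat.card P ≠ 1) (m : ℕ) (hm1 : 1 < m) (hm2 : m + 1 < Nat.card P) (hCN : (Subgroup.centralizer ((P : Subgroup G) : Set G)).relIndex (Subgroup.normalizer ((P : Subgroup G) : Set G)) = m) (hcyc : ∃ g : G, g ∈ Subgroup.normalizer ((P : Subgroup G) : Set G) ∧ Subgroup.centralizer ((P : Subgroup G) : Set G) ⊔ Subgroup.zpowers g = Subgroup.normalizer ((P : Subgroup G) : Set G)) (hfrob : ∀ y : G, y ∈ (P : Subgroup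 G) → y ≠ 1 → Subgroup.centralizer ({y} : Set G) ⊓ Subgroup.normalizer ((P : Subgroup G) : Set G) = Subgroup.centralizer ((P : Subgroup G) : Set G)) : ∃ (s : ℕ) (X Y : Set (Cfsg.IrrCharacter G)), s ≤ m ∧ Cfsg.principalBlock M G = X ∪ Y ∧ Disjoint X Y ∧ Nat.card X = s ∧ Nat.card Y = (Nat.card P - 1) / m ∧ (∃ χ₁ ∈ X, (χ₁ : G → ℂ) = fun _ => 1) ∧ ∃ (a : Cfsg.IrrCharacter G → ℤ) (d δ : ℤ) (ζ : (↥(P : Subgroup G) →* ℂˣ) → Cfsg.IrrCharacter G), (δ = 1 ∨ δ = -1) ∧ (∀ χ ∈ X, a χ ≠ 0 ∧ ∀ z y : G, Cfsg.IsPPart p z y → y ∈ (P : Subgroup G) → y ≠ 1 → (χ : G → ℂ) z = (a χ : ℂ)) ∧ (∀ ψ : ↥(P : Subgroup G) →* ℂˣ, ψ ≠ 1 → ζ ψ ∈ Y) ∧ (∀ η ∈ Y, ∃ ψ : ↥(P : Subgroup G) →* ℂˣ, ψ ≠ 1 ∧ ζ ψ = η) ∧ (∀ ψ ψ' : ↥(P : Subgroup G) →* ℂˣ, ψ ≠ 1 → (∃ n : G, n ∈ Subgroup.normalizer ((P : Subgroup G) : Set G) ∧ ∀ w w' : ↥(P : Subgroup G), (w' : G) = n * w * n⁻¹ → ψ' w' = ψ w) → ζ ψ' = ζ ψ) ∧ (∀ ψ : ↥(P : Subgroup G) →* ℂˣ, ψ ≠ 1 → ∀ (z : G) (y : ↥(P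 : Subgroup G)), Cfsg.IsPPart p z (y : G) → (y : G) ≠ 1 → (ζ ψ : G → ℂ) z = (d : ℂ) + (δ : ℂ) * ∑ᶠ ψ' ∈ {ψ' : ↥(P : Subgroup G) →* ℂˣ | ∃ n : G, n ∈ Subgroup.normalizer ((P : Subgroup G) : Set G) ∧ ∀ w w' : ↥(P : Subgroup G), (w' : G) = n * w * n⁻¹ → ψ' w' = ψ w}, ((ψ' y : ℂˣ) : ℂ)) ∧ ((d - δ) ^ 2 + ((Nat.card P - 1) / m - 1 : ℤ) * d ^ 2 + ∑ᶠ χ ∈ X, a χ ^ 2 = (m : ℤ) + 1) ∧ (∀ η ∈ Y, ∀ η' ∈ Y, ∀ g : G, ¬ p ∣ orderOf g → (η : G → ℂ) g = (η' : G → ℂ) g) ∧ (∀ η ∈ Y, ∀ g : G, ¬ p ∣ orderOf g → ((((Nat.card P - 1) / m : ℕ) : ℂ) * d - δ) * (η : G → ℂ) g + ∑ᶠ χ ∈ X, (a χ : ℂ) * (χ : G → ℂ) g = 0) := by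
  classical
  open CfsgLib.BlocksFrobenius CfsgLib.PrincipalBlock in
    haveI := Fintype.ofFinite G
    haveI : M.IsPrime := hM.2.1.isPrime
    have h : Semireg P := ⟨hab, hfrob⟩
    haveI := finite_lin h
    haveI := finite_orb h
    haveI := Fintype.ofFinite (Orb P)
    have hm : Nat.card (aut P) = m := by rw [card_aut, hCN]
    have hcard := card_orb_mul h
    rw [Nat.card_eq_fintype_card (α := Orb P), hm] at hcard
    have hr : (Nat.card P - 1) / m = Fintype.card (Orb P) := by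
      rw [← hcard, Nat.add_sub_cancel, Nat.mul_div_cancel _ (by omega)]
    have h2 : 2 ≤ Fintype.card (Orb P) := by
      by_contra hlt
      rcases (by omega : Fintype.card (Orb P) = 0 ∨ Fintype.card (Orb P) = 1) with e | e <;>
        rw [e] at hcard <;> omega
    haveI : Nontrivial (Orb P) := Fintype.one_lt_card_iff_nontrivial.1 h2
    haveI : DecidableEq (Orb P) := Classical.decEq _
    obtain ⟨F⟩ := exists_frame h hM h2
    refine ⟨F.rest.card, (F.rest : Set _), Set.range F.η, hm ▸ F.card_rest_le h hM hP1, F.eq_union,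
      F.disjoint_rest, by simp, by rw [Nat.card_range_of_injective F.inj,
        Nat.card_eq_fintype_card, hr], ⟨trivChar G, F.trivChar_mem_rest, rfl⟩,
      F.aval, F.d, F.δ,
      fun ψ => if hψ : ψ ≠ 1 then F.η (cls ψ hψ) else F.η (Classical.arbitrary _), F.sign,
      fun χ hχ => ⟨F.aval_ne_zero h hM hP1 hχ, fun z y hz hyP hy =>
        F.rest_apply h hM hχ hz hyP hy⟩, ?_, ?_, ?_, ?_, ?_, ?_, ?_⟩
    · intro ψ hψ
      simp only [dif_pos hψ]
      exact ⟨_, rfl⟩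
    · rintro _ ⟨u, rfl⟩
      exact ⟨rep u, rep_ne_one u, by simp only [dif_pos (rep_ne_one u), cls_rep]⟩
    · intro ψ ψ' hψ hconj
      have hmem : ψ' ∈ Set.range fun f : aut P => pre f.1 ψ := by
        rw [← conj_set_eq]; exact hconj
      obtain ⟨f, rfl⟩ := hmem
      simp only [dif_pos hψ, dif_pos (pre_ne_one (f := f.1) hψ)]
      rw [cls_eq_of_rel hψ _ f.2 rfl]
    · intro ψ hψ z y hz hy
      rw [finsum_conj_set h hψ]
      simp only [dif_pos hψ]
      exact F.eta_apply h hM _ hz hy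
    · have := F.norm_eq h hM
      rw [hm] at this
      have hdiv : ((Nat.card P : ℤ) - 1) / (m : ℤ) = (Fintype.card (Orb P) : ℤ) := by
        rw [← hcard]
        push_cast
        rw [add_sub_cancel_right, Int.mul_ediv_cancel _ (by omega)]
      rw [finsum_mem_coe_finset, ← this, hdiv]
    · rintro _ ⟨u, rfl⟩ _ ⟨v, rfl⟩ g hg
      exact F.eta_eq hM u v hg
    · rintro _ ⟨u, rfl⟩ g hg
      rw [finsum_mem_coe_finset, hr]
      exact F.regular_identity hM u hg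

end Cfsg.Agent.S4709
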