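import Cfsg.Statements.S4711
import Cfsg.Agent.Star.PLengthOne
import Cfsg.Agent.OddOrder.BG3.PLengthOne
import Cfsg.Agent.Characters.Linear

set_option autoImplicit false
open Cfsg

namespace Cfsg.Agent.S4711

/-- Let p be a prime, M a maximal ideal of the algebraic integers containing p, G a finite group, P a Sylow p-subgroup and N = N_G(P). Then G has p-length 1 (G = O_{p',p,p'}(G)) if and only if every irreducible character in the principal p-block of G restricts to an irreducible character of N. -/
theorem result {G : Type*} [Group G] [Finite G] (p : ℕ) [Fact p.Prime] (M : Ideal Cfsg.AlgInt) (hM : Cfsg.IsPModular p M) (P : Sylow p G) : Cfsg.PLengthLE p 1 G ↔ ∀ χ ∈ Cfsg.principalBlock M G, Cfsg.IsIrrCharacter ↥(Subgroup.normalizer ((P : Subgroup G) : Set G)) (fun n : ↥(Subgroup.normalizer ((P : Subgroup G) : Set G)) => (χ : G → ℂ) n) := by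
  classical
  cases nonempty_fintype G
  haveI : M.IsPrime := CfsgLib.Blocks.IsPModular.isPrime hM
  constructor
  · intro h χ hχ
    set K := Cfsg.pPrimeCore p G
    have hKp : ¬ p ∣ Nat.card K :=
      ((Fact.out : p.Prime).coprime_iff_not_dvd).1
        (CfsgLib.PLocal.coprime_card_pPrimeCore p G).symm
    have hker := CfsgLib.PrincipalBlock.le_charKer_of_mem hM K hKp hχ
    obtain ⟨ψ, hψ, hval⟩ := CfsgLib.Characters.exists_irr_quotient K χ.2
      (fun n hn => CfsgLib.PrincipalBlock.mem_charKer.1 (hker hn))
    set N := Subgroup.normalizer ((P : Subgroup G) : Set G)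
    have hsurj : Function.Surjective ((QuotientGroup.mk' K).comp N.subtype) := by
      intro q
      obtain ⟨g, rfl⟩ := QuotientGroup.mk_surjective q
      have hg : g ∈ K ⊔ N := by
        rw [CfsgLib.OddOrder.pPrimeCore_sup_normalizer h P]; exact Subgroup.mem_top g
      rw [← SetLike.mem_coe, Subgroup.normal_mul] at hg
      obtain ⟨c, hc, n, hn, rfl⟩ := hg
      refine ⟨⟨n, hn⟩, ?_⟩
      simp only [MonoidHom.coe_comp, Function.comp_apply, Subgroup.coe_subtype,
        QuotientGroup.mk'_apply]
      rw [QuotientGroup.eq]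
      simpa [mul_assoc] using Subgroup.Normal.conj_mem' inferInstance c hc n
    have := CfsgLib.Characters.isIrr_comp _ hsurj hψ
    convert this using 1
    funext n
    exact hval n
  · intro hN
    set B := Cfsg.principalBlock M G
    set K := CfsgLib.PrincipalBlock.setKer B
    have hKp := CfsgLib.PrincipalBlock.not_dvd_card_setKer (G := G) hM
    set L := Subgroup.normalClosure ((P : Subgroup G) : Set G)
    set f := QuotientGroup.mk' K
    have hLp : IsPGroup p (L.map f) := by
      rintro ⟨_, g, hg, rfl⟩
      refine ⟨(Nat.card G).factorization p, Subtype.ext ?_⟩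
      rw [SubmonoidClass.coe_pow, Subgroup.coe_one, ← map_pow, QuotientGroup.mk'_apply,
        QuotientGroup.eq_one_iff]
      refine CfsgLib.Star.PLen.mem_setKer hM (P : Subgroup G) P.2 hN (pow_mem hg _) ?_
      have hdvd : orderOf (g ^ p ^ (Nat.card G).factorization p) ∣
          Nat.card G / p ^ (Nat.card G).factorization p := by
        rw [orderOf_dvd_iff_pow_eq_one, ← pow_mul, Nat.ordProj_mul_ordCompl_eq_self,
          pow_card_eq_one']
      exact ((Nat.coprime_ordCompl Fact.out Nat.card_pos.ne').symm).coprime_dvd_left hdvd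
    have hsurj : Function.Surjective f := QuotientGroup.mk'_surjective K
    let S := P.mapSurjective hsurj
    have hSL : (S : Subgroup (G ⧸ K)) ≤ L.map f := by
      rw [Sylow.coe_mapSurjective]
      exact Subgroup.map_mono Subgroup.subset_normalClosure
    haveI : (L.map f).Normal := Subgroup.normalClosure_normal.map f hsurj
    have hS : (S : Subgroup (G ⧸ K)) ≤ Cfsg.pCore p (G ⧸ K) :=
      hSL.trans (CfsgLib.PLocal.le_pCore hLp)
    have h0 : Cfsg.PLengthLE p 0 K :=
      CfsgLib.PLength.pLengthLE_zero_iff.2
        ((Fact.out : p.Prime).coprime_iff_not_dvd.2 hKp).symm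
    exact CfsgLib.PLength.pLengthLE_extension (a := 0) (b := 1) K h0
      (CfsgLib.OddOrder.pLengthLE_one_of_sylow_le_pCore S hS)

end Cfsg.Agent.S4711
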