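import Cfsg.Statements.S4712
import Cfsg.Agent.BlocksRational.Count
import Mathlib.RingTheory.ZMod.UnitsCyclic

set_option autoImplicit false
open Cfsg

namespace Cfsg.Agent.S4712

/-- Let p be an odd prime, M a maximal ideal of the algebraic integers containing p, G a finite group of order n with p-part p^a, and B a p-block of G. Call an irreducible character χ p-rational when χ(g^k) = χ(g) for every g and every k coprime to n with k ≡ 1 modulo n/p^a (χ is fixed by the Galois automorphisms fixing the roots of unity of order prime to p). Then the number of p-rational irreducible characters in B is at least the p-regular rank of B (the number of irreducible Brauer characters in B). -/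
theorem result {G : Type*} [Group G] [Finite G] (p : ℕ) [Fact p.Prime] (hodd : p ≠ 2) (M : Ideal Cfsg.AlgInt) (hM : Cfsg.IsPModular p M) (B : Set (Cfsg.IrrCharacter G)) (hB : Cfsg.IsPBlock M B) : Cfsg.blockRank p B ≤ Nat.card {χ : Cfsg.IrrCharacter G // χ ∈ B ∧ ∀ k : ℕ, Nat.Coprime k (Nat.card G) → k ≡ 1 [MOD Nat.card G / p ^ (Nat.card G).factorization p] → ∀ g : G, (χ : G → ℂ) (g ^ k) = (χ : G → ℂ) g} := by
  classical
  haveI := Fintype.ofFinite G
  haveI := CfsgLib.Blocks.IsPModular.isPrime hM
  have hp : p.Prime := Fact.out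
  set n := Nat.card G with hn
  set q := p ^ n.factorization p with hq
  have hn0 : n ≠ 0 := Nat.card_pos.ne'
  have hqn : q ∣ n := Nat.ordProj_dvd n p
  set n' := n / q with hn'
  have hcop : Nat.Coprime n' q := ((hp.coprime_iff_not_dvd.2
    (Nat.not_dvd_ordCompl hp hn0)).symm).pow_right _
  have hmul : n' * q = n := Nat.div_mul_cancel hqn
  haveI : NeZero q := ⟨pow_ne_zero _ hp.ne_zero⟩
  haveI : IsCyclic (ZMod q)ˣ := ZMod.isCyclic_units_of_prime_pow p hp hodd (n.factorization p)
  obtain ⟨u, hu⟩ := IsCyclic.exists_generator (α := (ZMod q)ˣ)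
  obtain ⟨k, hk1, hk2⟩ := Nat.chineseRemainder hcop 1 (u : ZMod q).val
  have hkq : (k : ZMod q) = (u : ZMod q) := by
    rw [(ZMod.natCast_eq_natCast_iff _ _ _).2 hk2, ZMod.natCast_zmod_val]
  have hkcop : Nat.Coprime k n := by
    rw [← hmul]
    refine Nat.Coprime.mul_right ?_ ((ZMod.isUnit_iff_coprime k q).1 (hkq ▸ u.isUnit))
    rw [Nat.Coprime, Nat.ModEq.gcd_eq hk1, Nat.gcd_one_left]
  have hreg : ∀ g : G, ¬ p ∣ orderOf g → g ^ k = g := by
    intro g hg
    have hd : orderOf g ∣ n' := by
      refine (Nat.Coprime.pow_right (n.factorization p)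
        (hp.coprime_iff_not_dvd.2 hg).symm).dvd_of_dvd_mul_right ?_
      rw [← hq, hmul]
      exact orderOf_dvd_natCard g
    conv_rhs => rw [← pow_one g]
    exact pow_eq_pow_iff_modEq.2 (hk1.of_dvd hd)
  refine (CfsgLib.BlocksRational.blockRank_le_card_fixed hM hB k hkcop hreg).trans ?_
  refine Nat.card_le_card_of_injective (fun χ => ⟨χ.1, χ.2.1, fun k' hk' hk'1 g => ?_⟩)
    fun a b h => Subtype.ext (Subtype.mk.inj h)
  have hk'u : IsUnit (k' : ZMod q) := (ZMod.isUnit_iff_coprime k' q).2 (hk'.coprime_dvd_right hqn)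
  obtain ⟨m, hm⟩ := mem_powers_iff_mem_zpowers.2 (hu hk'u.unit)
  have hm' : k' ≡ k ^ m [MOD n] := by
    rw [← hmul]
    refine (Nat.modEq_and_modEq_iff_modEq_mul hcop).1 ⟨hk'1.trans ?_, ?_⟩
    · have := (hk1.pow m).symm
      rwa [one_pow] at this
    · rw [← ZMod.natCast_eq_natCast_iff, Nat.cast_pow, hkq, ← Units.val_pow_eq_pow_val]
      exact (congrArg Units.val hm).symm
  rw [pow_eq_pow_iff_modEq.2 (hm'.of_dvd (orderOf_dvd_natCard g))]
  clear hm hm'
  induction m with
  | zero => simp
  | succ m ih => rw [pow_succ, pow_mul, χ.2.2, ih]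

end Cfsg.Agent.S4712
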