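import Cfsg.Statements.S4714
import Cfsg.Agent.BlocksLocal.Reynolds

set_option autoImplicit false
set_option linter.style.haveILetI false
set_option linter.unusedSectionVars false
open Cfsg CfsgLib CfsgLib.Blocks CfsgLib.BlocksLocal

namespace Cfsg.Agent.S4714

universe u

/-- The shape of the members of the block. -/
def Shape {G : Type u} [Group G] (p : ℕ) (D : Subgroup G) (χ θ : Cfsg.IrrCharacter G)
    (ζ : Cfsg.IrrCharacter D) : Prop :=
  (∀ (y : D) (x : G), ¬ p ∣ orderOf x → Commute (y : G) x → (θ : G → ℂ) ((y : G) * x) = (ζ : D → ℂ) y * (χ : G → ℂ) x) ∧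
    ∀ z : G, (∀ y : G, Cfsg.IsPPart p z y → y ∉ D) → (θ : G → ℂ) z = 0

variable {G : Type u} [Group G] [Fintype G] {p : ℕ} [Fact p.Prime] {M : Ideal AlgInt} [M.IsPrime]
  {D : Subgroup G}

theorem shape_unique {χ θ θ' : Cfsg.IrrCharacter G} {ζ : Cfsg.IrrCharacter D}
    (h : Shape p D χ θ ζ) (h' : Shape p D χ θ' ζ) : θ = θ' := by
  refine Subtype.ext (funext fun z => ?_)
  obtain ⟨y, hy⟩ := exists_isPPart (p := p) (Fact.out : p.Prime) z
  by_cases hyD : y ∈ D
  · obtain ⟨w, hw, hc, -, hwreg⟩ := hy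
    rw [← hw]
    exact (h.1 ⟨y, hyD⟩ w hwreg hc).trans (h'.1 ⟨y, hyD⟩ w hwreg hc).symm
  · have hall : ∀ y' : G, Cfsg.IsPPart p z y' → y' ∉ D := fun y' hy' => by
      rwa [isPPart_unique (Fact.out : p.Prime) hy' hy]
    rw [h.2 z hall, h'.2 z hall]

theorem shape_inj {χ θ : Cfsg.IrrCharacter G} {ζ ζ' : Cfsg.IrrCharacter D}
    (h : Shape p D χ θ ζ) (h' : Shape p D χ θ ζ') : ζ = ζ' := by
  refine Subtype.ext (funext fun y => ?_)
  have hone : ¬ p ∣ orderOf (1 : G) := by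
    rw [orderOf_one]; exact (Fact.out : p.Prime).not_dvd_one
  have e := (h.1 y 1 hone (Commute.one_right _)).symm.trans (h'.1 y 1 hone (Commute.one_right _))
  exact mul_right_cancel₀ (Characters.irr_one_ne_zero χ.2) e

/-- Every member of the block has the shape. -/
theorem exists_shape [D.Normal] (hD : IsPGroup p D)
    (hG : D ⊔ Subgroup.centralizer (D : Set G) = ⊤) {B : Set (Cfsg.IrrCharacter G)}
    (hM : Cfsg.IsPModular p M) (hB : Cfsg.IsPBlock M B) (hBD : Cfsg.IsDefectGroup p M B D)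
    {χ : Cfsg.IrrCharacter G} (hχ : χ ∈ B) (hker : ∀ y ∈ D, (χ : G → ℂ) y = (χ : G → ℂ) 1)
    {θ : Cfsg.IrrCharacter G} (hθ : θ ∈ B) : ∃ ζ : Cfsg.IrrCharacter D, Shape p D χ θ ζ := by
  haveI := Fintype.ofFinite D
  obtain ⟨ζ, hζ⟩ := exists_constituent D θ
  have hinv : ∀ g : G, conjIrr D ζ g = ζ := by
    intro g
    refine Subtype.ext (funext fun n => ?_)
    obtain ⟨u, hu, c, hc, rfl⟩ := exists_mul_centralizer hD hG g
    show (ζ : D → ℂ) (MulAut.conjNormal (u * c) n) = _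
    have hn : MulAut.conjNormal (u * c) n = ⟨u, hu⟩ * n * ⟨u, hu⟩⁻¹ := Subtype.ext (by
      have := Subgroup.mem_centralizer_iff.1 hc n n.2
      rw [MulAut.conjNormal_apply]
      calc u * c * (n : G) * (u * c)⁻¹ = u * (c * n) * c⁻¹ * u⁻¹ := by group
        _ = u * (n : G) * u⁻¹ := by rw [← this]; group)
    rw [hn, Characters.isClassFunction_of_isIrr ζ.2]
  obtain ⟨e, -, hres, -⟩ :=
    CharactersDeep.Clifford.restrict_eq_smul D θ.2 ζ.2 (fun g => congrArg Subtype.val (hinv g)) hζ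
  have hn := (norm_restrict hD hG hM hB hBD hχ hker hθ).1
  rw [hres, Characters.classInner_smul_left, Characters.classInner_smul_right,
    Characters.classInner_isIrr_self ζ.2, mul_one, ← charDegree_cast χ] at hn
  simp only [map_natCast] at hn
  have he : e = Cfsg.charDegree (χ : G → ℂ) := Nat.mul_self_inj.1 (by exact_mod_cast hn)
  refine ⟨ζ, fun y x hx _ => ?_, fun z hz => ?_⟩
  · have h := char_mul_regular hD hG hM hB hBD hχ hker hθ y.2 hx
    have hval := congrFun hres y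
    simp only [Pi.smul_apply, smul_eq_mul] at hval
    rw [hval, he, charDegree_cast] at h
    refine mul_right_cancel₀ (Characters.irr_one_ne_zero χ.2) ?_
    rw [h]; ring
  · obtain ⟨y, hy⟩ := exists_isPPart (p := p) (Fact.out : p.Prime) z
    refine char_eq_zero_of_not_mem_defectGroup hM θ hy fun E hE hmem => hz y hy ?_
    rw [← eq_blockOf_of_mem hB hθ] at hE
    obtain ⟨c, rfl⟩ := IsDefectGroup.exists_conj hM hB hBD hE
    rwa [BlockPairs.cj_eq_self (by rw [Subgroup.normalizer_eq_top]; trivial)] at hmem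

theorem main [D.Normal] (hD : IsPGroup p D) (hG : D ⊔ Subgroup.centralizer (D : Set G) = ⊤)
    {B : Set (Cfsg.IrrCharacter G)} (hM : Cfsg.IsPModular p M) (hB : Cfsg.IsPBlock M B)
    (hBD : Cfsg.IsDefectGroup p M B D) {χ : Cfsg.IrrCharacter G} (hχ : χ ∈ B)
    (hker : ∀ y ∈ D, (χ : G → ℂ) y = (χ : G → ℂ) 1) :
    (∀ θ : Cfsg.IrrCharacter G, θ ∈ B ↔ ∃ ζ, Shape p D χ θ ζ) ∧
      ∀ ζ : Cfsg.IrrCharacter D, ∃ θ ∈ B, Shape p D χ θ ζ := by
  classical
  haveI := Fintype.ofFinite D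
  choose f hf using fun θ : B => exists_shape hD hG hM hB hBD hχ hker θ.2
  have hinj : Function.Injective f := fun a c h =>
    Subtype.ext (shape_unique (hf a) (h ▸ hf c))
  have hcard : Nat.card B = Nat.card (Cfsg.IrrCharacter D) := by
    rw [card_block_eq hD hG hM hB hBD, Characters.card_irrCharacter]
  have hbij := (Nat.bijective_iff_injective_and_card f).2 ⟨hinj, hcard⟩
  have hex : ∀ ζ : Cfsg.IrrCharacter D, ∃ θ ∈ B, Shape p D χ θ ζ := fun ζ => by
    obtain ⟨θ, rfl⟩ := hbij.2 ζ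
    exact ⟨θ.1, θ.2, hf θ⟩
  refine ⟨fun θ => ⟨fun h => ⟨f ⟨θ, h⟩, hf ⟨θ, h⟩⟩, ?_⟩, hex⟩
  rintro ⟨ζ, hζ⟩
  obtain ⟨θ', hθ', hθ's⟩ := hex ζ
  rwa [shape_unique hζ hθ's]

/-- Let p be a prime, M a maximal ideal of the algebraic integers containing p, D a p-subgroup of the finite group G with G = D·C_G(D), and B a p-block with defect group D. Let χ be a member of B having D in its kernel (there is exactly one, the canonical character of B). Then the irreducible characters in B are exactly the functions θ on G for which there is an irreducible character ζ of D such that θ(yx) = ζ(y)χ(x) whenever y ∈ D, x has order prime to p and x commutes with y, and θ(z) = 0 whenever the p-part of z does not lie in D. -/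
theorem result {G : Type*} [Group G] [Finite G] (p : ℕ) [Fact p.Prime] (M : Ideal Cfsg.AlgInt) (hM : Cfsg.IsPModular p M) (D : Subgroup G) (hD : IsPGroup p D) (hG : D ⊔ Subgroup.centralizer (D : Set G) = ⊤) (B : Set (Cfsg.IrrCharacter G)) (hB : Cfsg.IsPBlock M B) (hBD : Cfsg.IsDefectGroup p M B D) (χ : Cfsg.IrrCharacter G) (hχ : χ ∈ B) (hχD : ∀ y ∈ D, (χ : G → ℂ) y = (χ : G → ℂ) 1) : (∀ θ : Cfsg.IrrCharacter G, θ ∈ B ↔ ∃ ζ : Cfsg.IrrCharacter D, (∀ (y : D) (x : G), ¬ p ∣ orderOf x → Commute (y : G) x → (θ : G → ℂ) ((y : G) * x) = (ζ : D → ℂ) y * (χ : G → ℂ) x) ∧ (∀ z : G, (∀ y : G, Cfsg.IsPPart p z y → y ∉ D) → (θ : G → ℂ) z = 0)) ∧ ∀ ζ : Cfsg.IrrCharacter D, ∃ θ ∈ B, (∀ (y : D) (x : G), ¬ p ∣ orderOf x → Commute (y : G) x → (θ : G → ℂ) ((y : G) * x) = (ζ : D → ℂ) y * (χ : G → ℂ) x) ∧ (∀ z : G, (∀ y : G, Cfsg.IsPPart p z y → y ∉ D) → (θ : G → ℂ) z = 0) := by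
  haveI := CfsgLib.Blocks.IsPModular.isPrime hM
  haveI := Fintype.ofFinite G
  haveI : D.Normal := Subgroup.normalizer_eq_top_iff.1 (top_le_iff.1 (hG ▸ sup_le
    Subgroup.le_normalizer (Subgroup.centralizer_le_normalizer _)))
  exact main hD hG hM hB hBD hχ hχD

end Cfsg.Agent.S4714
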