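import Cfsg.Statements.S4715
import Cfsg.Agent.Star.Height
import Cfsg.Agent.PiKernel.Bridge

set_option autoImplicit false
set_option linter.style.haveILetI false
open Cfsg CfsgLib.BlockPairs
open CfsgLib.Blocks (Res)

namespace Cfsg.Agent.S4715

/-- Let p be a prime, M a maximal ideal of the algebraic integers containing p, B a p-block of the finite group G with defect group D of order p^d, H = D·C_G(D), b a block of H inducing B, T the stabilizer of b in N_G(D) and e = [T : H] the inertial index of B; let n be the integer with p^n ≤ e < p^(n+1) and p^c the order of the centre of D. Then every irreducible character in B has height h with h + c ≤ n + d. -/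
theorem result {G : Type*} [Group G] [Finite G] (p : ℕ) [Fact p.Prime] (M : Ideal Cfsg.AlgInt) (hM : Cfsg.IsPModular p M) (B : Set (Cfsg.IrrCharacter G)) (hB : Cfsg.IsPBlock M B) (D : Subgroup G) (hBD : Cfsg.IsDefectGroup p M B D) (d : ℕ) (hDd : Nat.card D = p ^ d) (H : Subgroup G) (hH : H = D ⊔ Subgroup.centralizer (D : Set G)) (b : Set (Cfsg.IrrCharacter H)) (hind : Cfsg.IsInducedBlock M H b B) (T : Subgroup G) (hT : ∀ g : G, g ∈ T ↔ (g ∈ Subgroup.normalizer (D : Set G) ∧ ∀ θ ∈ b, ∀ θ' : Cfsg.IrrCharacter H, (∀ h h' : H, (h' : G) = g * h * g⁻¹ → (θ' : H → ℂ) h' = (θ : H → ℂ) h) → θ' ∈ b)) (e : ℕ) (he : H.relIndex T = e) (n : ℕ) (hn : p ^ n ≤ e ∧ e < p ^ (n + 1)) (c : ℕ) (hc : Nat.card (Subgroup.center D) = p ^ c) : ∀ χ ∈ B, Cfsg.blockHeight p B (χ : G → ℂ) + c ≤ n + d := by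
  classical
  haveI := CfsgLib.Blocks.IsPModular.isPrime hM
  haveI := CfsgLib.Blocks.charP_res hM
  haveI := isAlgClosed_res hM
  haveI := Fintype.ofFinite G
  have hd := (isDefectGroup_gblk_iff hB D).1 hBD
  have hDH : D ≤ H := hH ▸ le_sup_left
  have hCH : Subgroup.centralizer (D : Set G) ≤ H := hH ▸ le_sup_right
  have hHN : H ≤ Subgroup.normalizer (D : Set G) :=
    hH ▸ sup_le Subgroup.le_normalizer (Subgroup.centralizer_le_normalizer _)
  have hblk : IsBlock H (sblk M H b) := isBlock_sblk hind.1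
  obtain ⟨E, hE⟩ := exists_defectGrp (p := p) hblk
  have hDE : D ≤ E := hE.le_of_normal hblk.mem hblk.idem hblk.ne_zero hd.2.1 hDH hHN
  obtain ⟨f, hbh, hf, hbf⟩ := CfsgLib.PiKernel.exists_blockHas_of_induced hind hd.2.1 hDH hCH
    fun h0 => hE.2.2.1 (br_eq_zero_of_le hDE h0)
  have hmax := isMaxPair_of_defect hd hbh
  -- the block of `H` is the block of `C(D)`
  have hHstab : stab H D f = H := le_antisymm stab_le fun x hx => by
    refine ⟨⟨hx, hHN hx⟩, ?_⟩
    have hle : D ⊔ Subgroup.centralizer (D : Set G) ≤ stab ⊤ D f :=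
      sup_le hbh.1.le_stab (by
        rw [← cent_top]; exact hbh.1.cent_le_stab)
    exact (hle (hH ▸ hx)).2
  have hpair : IsPair p H D f := hbh.1.of_top hDH hCH
  have hfH : IsBlock H f := by
    have := block_stabilizer hpair
    rwa [hHstab] at this
  have heq : sblk M H b = f := by
    refine (hblk.eq_or_mul_eq_zero hfH).resolve_right fun h0 => hf.ne_zero ?_
    have h1 := congrArg (br D) h0
    rw [br_mul hd.2.1 (hblk.fixed.mono hDH) hbh.1.fixed_self, br_zero,
      br_eq_self (hf.supp.mono le_rfl), hbf] at h1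
    exact h1
  -- the stabilizer
  have hTstab : T = stab ⊤ D f := by
    ext g
    rw [hT g, mem_stab]
    constructor
    · rintro ⟨hgN, hg⟩
      refine ⟨⟨trivial, hgN⟩, ?_⟩
      have hgH : g ∈ Subgroup.normalizer (H : Set G) := by
        refine mem_normalizer_of_cj_eq ?_
        rw [hH, cj, Subgroup.map_sup]
        exact congrArg₂ (· ⊔ ·) (cj_eq_self hgN) ((cj_centralizer g D).trans (by rw [cj_eq_self hgN]))
      have hst : Cfsg.StabilizesBlock H b g := ⟨hgH, fun θ hθ => by
        have hcj := cj_eq_self hgH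
        set e₀ := conjIso H H g hcj
        refine ⟨irrComp e₀.symm θ, hg θ hθ _ fun k k' hk => ?_, fun k k' hk => ?_⟩
        all_goals
          rw [irrComp_apply, show k' = e₀ k from
            Subtype.ext (hk.trans (conjIso_apply H H g hcj k).symm), MulEquiv.symm_apply_apply]⟩
      have := ((stabilizesBlock_iff hind.1).1 hst).2
      rwa [heq] at this
    · rintro ⟨⟨-, hgN⟩, hgf⟩
      refine ⟨hgN, ?_⟩
      have hgH : g ∈ Subgroup.normalizer (H : Set G) := by
        refine mem_normalizer_of_cj_eq ?_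
        rw [hH, cj, Subgroup.map_sup]
        exact congrArg₂ (· ⊔ ·) (cj_eq_self hgN) ((cj_centralizer g D).trans (by rw [cj_eq_self hgN]))
      have hst : Cfsg.StabilizesBlock H b g :=
        (stabilizesBlock_iff hind.1).2 ⟨hgH, by rw [heq]; exact hgf⟩
      intro θ hθ θ' hrel
      obtain ⟨χ', hχ', hc'⟩ := hst.2 θ hθ
      have : θ' = χ' := Subtype.ext (funext fun k' => by
        obtain ⟨k, hk⟩ : ∃ k : H, (k' : G) = g * k * g⁻¹ :=
          ⟨⟨g⁻¹ * k' * g, by
            have := ((Subgroup.mem_normalizer_iff).1 (inv_mem hgH) (k' : G)).1 k'.2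
            simpa using this⟩, by simp [mul_assoc]⟩
        rw [hrel k k' hk, hc' k k' hk])
      rw [this]
      exact hχ'
  intro χ hχ
  obtain ⟨φ, hφ, hmin, -⟩ := CfsgLib.BlockPairing.exists_minimal (p := p) hB
  have hφ0 : Cfsg.blockHeight p B (φ : G → ℂ) = 0 := by
    rw [Cfsg.blockHeight, Nat.sub_eq_zero_iff_le]
    refine le_csInf (Set.image_nonempty.2 ⟨φ, hφ⟩) ?_
    rintro _ ⟨η, hη, rfl⟩
    exact hmin η hη
  have hZc : (Subgroup.center D).map D.subtype ≤ Subgroup.centralizer (D : Set G) := by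
    rintro _ ⟨z, hz, rfl⟩
    exact Subgroup.mem_centralizer_iff.2 fun y hy =>
      congrArg Subtype.val (Subgroup.mem_center_iff.1 hz ⟨y, hy⟩)
  have hmain := CfsgLib.Star.pow_height_mul_le hM hB hmax hχ hφ hφ0
    ((Subgroup.center D).map D.subtype) (Subgroup.map_subtype_le _) hZc
  rw [Subgroup.card_map_of_injective D.subtype_injective, hc, hDd, ← hH, ← hTstab, he,
    ← pow_add] at hmain
  have hlt : p ^ (Cfsg.blockHeight p B (χ : G → ℂ) + c) < p ^ (n + 1 + d) := by
    refine hmain.trans_lt ?_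
    rw [pow_add p (n + 1) d]
    exact Nat.mul_lt_mul_of_pos_right hn.2 (pow_pos (Fact.out : p.Prime).pos d)
  have := (Nat.pow_lt_pow_iff_right (Fact.out : p.Prime).one_lt).1 hlt
  omega

end Cfsg.Agent.S4715
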