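import Cfsg.Statements.S4717
import Cfsg.Agent.BlockPairs.ThirdMain
import Cfsg.Agent.BlockPairs.FusionBridge
import Cfsg.Agent.BlockPairs.ResField
import Cfsg.Agent.Blocks.Height

set_option autoImplicit false
set_option linter.style.haveILetI false
open Cfsg CfsgLib.BlockPairs

namespace Cfsg.Agent.S4717

/-- Let p be a prime, M a maximal ideal of the algebraic integers containing p, and r a natural number; say that a finite group X has deficiency class r when X has no non-principal p-block of defect ≥ r. If G has deficiency class r then so does the centralizer of every p-element of G; conversely, if r > 0 and the centralizer of every element of order p has deficiency class r, then G has deficiency class r. -/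
theorem result {G : Type*} [Group G] [Finite G] (p : ℕ) [Fact p.Prime] (M : Ideal Cfsg.AlgInt) (hM : Cfsg.IsPModular p M) (r : ℕ) : ((∀ B' : Set (Cfsg.IrrCharacter G), Cfsg.IsPBlock M B' → B' ≠ Cfsg.principalBlock M G → Cfsg.blockDefect p B' < r) → ∀ y : G, (∃ k : ℕ, orderOf y = p ^ k) → (∀ B' : Set (Cfsg.IrrCharacter ↥(Subgroup.centralizer ({y} : Set G))), Cfsg.IsPBlock M B' → B' ≠ Cfsg.principalBlock M ↥(Subgroup.centralizer ({y} : Set G)) → Cfsg.blockDefect p B' < r)) ∧ (0 < r → (∀ y : G, orderOf y = p → (∀ B' : Set (Cfsg.IrrCharacter ↥(Subgroup.centralizer ({y} : Set G))), Cfsg.IsPBlock M B' → B' ≠ Cfsg.principalBlock M ↥(Subgroup.centralizer ({y} : Set G)) → Cfsg.blockDefect p B' < r)) → (∀ B' : Set (Cfsg.IrrCharacter G), Cfsg.IsPBlock M B' → B' ≠ Cfsg.principalBlock M G → Cfsg.blockDefect p B' < r)) := by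
  haveI := CfsgLib.Blocks.IsPModular.isPrime hM
  haveI := CfsgLib.Blocks.charP_res hM
  haveI := isAlgClosed_res hM
  haveI := Fintype.ofFinite G
  have hp : p.Prime := Fact.out
  have hG := isPBlock_principal (M := M) G
  have hceq : ∀ y : G, Subgroup.centralizer ({y} : Set G) =
      Subgroup.centralizer ((Subgroup.zpowers y : Subgroup G) : Set G) := fun y => by
    rw [Subgroup.zpowers_eq_closure, Subgroup.centralizer_closure]
  have hdefect : ∀ {K : Subgroup G} {f : Set (IrrCharacter K)}, Cfsg.IsPBlock M f →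
      ∀ {D : Subgroup G}, IsDefectGrp p K (sblk M K f) D →
        Nat.card D = p ^ Cfsg.blockDefect p f := by
    intro K f hf D hD
    haveI := Fintype.ofFinite K
    rw [← CfsgLib.Blocks.card_defectGroup hM hf ((isDefectGroup_subgroupOf_iff hf hD.1).2 hD),
      Nat.card_congr (Subgroup.subgroupOfEquivOfLe hD.1).toEquiv]
  have hdefectG : ∀ {B : Set (IrrCharacter G)}, Cfsg.IsPBlock M B →
      ∀ {D : Subgroup G}, IsDefectGrp p ⊤ (gblk M B) D → Nat.card D = p ^ Cfsg.blockDefect p B :=
    fun hB D hD => CfsgLib.Blocks.card_defectGroup hM hB ((isDefectGroup_gblk_iff hB D).2 hD)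
  refine ⟨fun hG' y hy B' hB' hne => ?_, fun hr hy B hB hne => ?_⟩
  · obtain ⟨n, hn⟩ := hy
    set Y := Subgroup.zpowers y
    have hY : IsPGroup p Y :=
      CfsgLib.Fusion.isPGroup_zpowers_of_pow_eq_one (hn ▸ pow_orderOf_eq_one y)
    set f := sblk M (Subgroup.centralizer ({y} : Set G)) B'
    have hf : IsBlock (Subgroup.centralizer ({y} : Set G)) f := isBlock_sblk hB'
    have hpair : IsPair p ⊤ Y f := ⟨le_top, hY, by rw [cent, top_inf_eq, ← hceq]; exact hf⟩
    obtain ⟨b, ⟨hb, hbf⟩, -⟩ := exists_unique_block_of_pair hpair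
    obtain ⟨B₀, hB₀, rfl⟩ := exists_eq_gblk (M := M) hb
    have hB₀ne : B₀ ≠ Cfsg.principalBlock M G := fun h => hne ((aug_sblk_eq_one_iff hB').1
      ((blockHas_iff_aug hb ((aug_gblk_eq_one_iff hB₀).2 h) hpair).1 ⟨hpair, hbf⟩))
    obtain ⟨D, hD⟩ := exists_defectGrp (p := p) hf
    obtain ⟨E, hE⟩ := exists_defectGrp (p := p) hb
    have hDY : D ≤ Subgroup.centralizer (Y : Set G) := hceq y ▸ hD.1
    have hU : IsPGroup p (Y ⊔ D : Subgroup G) :=
      hY.to_sup_of_normal_left' hD.2.1 (hDY.trans (Subgroup.centralizer_le_normalizer _))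
    have hbr : br (Y ⊔ D) (gblk M B₀) ≠ 0 := fun h0 => hD.2.2.1 <| by
      have h1 := congrArg (br D) hbf
      rw [br_mul hD.2.1 ((isFixed_br (Subgroup.centralizer_le_normalizer (Y : Set G))
          (hb.fixed.mono le_top)).mono hDY) (hf.fixed.mono hD.1),
        ← br_sup, h0, zero_mul] at h1
      exact h1.symm
    refine lt_of_le_of_lt ((Nat.pow_le_pow_iff_right hp.one_lt).1 ?_) (hG' B₀ hB₀ hB₀ne)
    rw [← hdefect hB' hD, ← hdefectG hB₀ hE]
    exact (Subgroup.card_le_of_le le_sup_right).trans (hE.card_le le_top hU hbr)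
  · by_contra hlt
    rw [not_lt] at hlt
    have hb := isBlock_gblk (M := M) hB
    obtain ⟨D, eD, hmax⟩ := exists_maxPair (p := p) hb
    have hcard := hdefectG hB (hmax.isDefectGrp hb).1
    have hDne : Nontrivial D := by
      rw [← Finite.one_lt_card_iff_nontrivial, hcard]
      exact Nat.one_lt_pow (by omega) hp.one_lt
    haveI := hmax.1.1.2.1.center_nontrivial
    obtain ⟨z, hz⟩ : ∃ z : Subgroup.center D, orderOf z = p := by
      obtain ⟨n, hn⟩ := IsPGroup.iff_card.1 (hmax.1.1.2.1.to_subgroup (Subgroup.center D))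
      refine exists_prime_orderOf_dvd_card' p (hn ▸ dvd_pow_self p ?_)
      rintro rfl
      exact absurd hn (Finite.one_lt_card).ne'
    set y : G := ((z : D) : G) with hy_def
    have hyo : orderOf y = p := by rw [hy_def, Subgroup.orderOf_coe, Subgroup.orderOf_coe, hz]
    have hYD : Subgroup.zpowers y ≤ D := Subgroup.zpowers_le.2 (z : D).2
    have hDC : D ≤ Subgroup.centralizer (Subgroup.zpowers y : Set G) := by
      intro d hd
      rw [← hceq, Subgroup.mem_centralizer_singleton_iff]
      exact congrArg Subtype.val (Subgroup.mem_center_iff.1 z.2 ⟨d, hd⟩)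
    obtain ⟨f, hfP, hle⟩ := exists_below hmax.1.1 hYD
    obtain ⟨g, hs, -⟩ := step_of_le hle hmax.1.1 hYD le_rfl
      (hDC.trans (Subgroup.centralizer_le_normalizer _))
    have hfb : IsBlock (Subgroup.centralizer ({y} : Set G)) f := hceq y ▸ isBlock_centralizer hfP
    obtain ⟨f', hf', rfl⟩ := exists_eq_sblk (M := M) hfb
    have hne' : f' ≠ Cfsg.principalBlock M ↥(Subgroup.centralizer ({y} : Set G)) := fun h =>
      hne ((aug_gblk_eq_one_iff hB).1
        (((blockHas_iff_of_le hb hle hfP).2 hmax.1).aug_eq_of_aug hb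
          ((aug_sblk_eq_one_iff hf').2 h)))
    obtain ⟨E, hE⟩ := exists_defectGrp (p := p) hfb
    refine absurd (hy y hyo f' hf' hne') (not_lt.2 (hlt.trans
      ((Nat.pow_le_pow_iff_right hp.one_lt).1 ?_)))
    rw [← hcard, ← hdefect hf' hE]
    exact hE.card_le (hceq y ▸ hDC) hmax.1.1.2.1 hs.br_ne_zero

end Cfsg.Agent.S4717
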