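import Cfsg.Statements.S4720
import Cfsg.Agent.BlocksLocal.PrincipalSection

set_option autoImplicit false
set_option linter.style.haveILetI false
open Cfsg

namespace Cfsg.Agent.S4720

/-- Let p be a prime, M a maximal ideal of the algebraic integers containing p, P a p-subgroup of the finite group G, N a subgroup with P ≤ N ≤ N_G(P), and U a nonempty subset of P normalized by N such that an element of U and an element of P that are conjugate in G are already conjugate in N, and such that λ(C_G(y)) = w·#C_N(y) for every y ∈ U with one rational number w, where λ(X) denotes the sum of the squares of the degrees of the irreducible characters in the principal p-block of X. For a complex function θ on P and χ in the principal block of G put a_χ(θ) = #P⁻¹ Σ_{y ∈ P} χ(y) θ(y⁻¹). Then for generalized characters θ, η of P with θ vanishing outside U, Σ_χ a_χ(θ)·conj(a_χ(η)) = (w/#P²)·Σ_{y ∈ P} θ(y)·conj(Σ_{x ∈ N} η(x y x⁻¹)) (η extended by zero off P; the conjugates lie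 in P), the first sum over the principal p-block of G. -/
theorem result {G : Type*} [Group G] [Finite G] (p : ℕ) [Fact p.Prime] (M : Ideal Cfsg.AlgInt) (hM : Cfsg.IsPModular p M) (P : Subgroup G) (hP : IsPGroup p P) (N : Subgroup G) (hPN : P ≤ N) (hNN : N ≤ Subgroup.normalizer (P : Set G)) (U : Set G) (hUne : U.Nonempty) (hUP : U ⊆ (P : Set G)) (hUN : ∀ n ∈ N, ∀ u ∈ U, n * u * n⁻¹ ∈ U) (hfus : ∀ u ∈ U, ∀ g : G, g * u * g⁻¹ ∈ (P : Set G) → ∃ n ∈ N, n * u * n⁻¹ = g * u * g⁻¹) (w : ℚ) (hw : ∀ y ∈ U, ((∑ᶠ ψ ∈ Cfsg.principalBlock M ↥(Subgroup.centralizer ({y} : Set G)), Cfsg.charDegree (ψ : ↥(Subgroup.centralizer ({y} : Set G)) → ℂ) ^ 2) : ℚ) = w * Nat.card ↥(N ⊓ Subgroup.centralizer ({y} : Set G))) (θ η : ↥P → ℂ) (hθ : Cfsg.IsGeneralizedCharacter ↥P θ) (hη : Cfsg.IsGeneralizedCharacter ↥P η) (hθU : ∀ y : ↥P, (y : G) ∉ U → θ y = 0) : ∑ᶠ χ ∈ Cfsg.principalBlock M G, ((Nat.card ↥P : ℂ)⁻¹ * ∑ᶠ y : ↥P, (χ : G → ℂ) (y : G) * θ y⁻¹) * (starRingEnd ℂ) ((Nat.card ↥P : ℂ)⁻¹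 * ∑ᶠ y : ↥P, (χ : G → ℂ) (y : G) * η y⁻¹) = ((w : ℂ) / ((Nat.card ↥P : ℂ) ^ 2)) * ∑ᶠ y : ↥P, θ y * (starRingEnd ℂ) (∑ᶠ x : ↥N, Cfsg.extendByZero P η ((x : G) * (y : G) * (x : G)⁻¹)) := by
  classical
  letI : Fintype G := Fintype.ofFinite G
  letI : Fintype ↥P := Fintype.ofFinite ↥P
  letI : Fintype ↥N := Fintype.ofFinite ↥N
  haveI := CfsgLib.Blocks.IsPModular.isPrime hM
  have hp : p.Prime := Fact.out
  set B := Cfsg.principalBlock M G with hBdef
  have hB : Cfsg.IsPBlock M B := CfsgLib.PrincipalBlock.isPBlock_principalBlock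
  have hord : ∀ y : ↥P, ∃ k, orderOf (y : G) = p ^ k := fun y => by
    obtain ⟨k, hk⟩ := IsPGroup.iff_orderOf.1 hP y
    exact ⟨k, by rw [Subgroup.orderOf_coe]; exact hk⟩
  have hpart : ∀ y : ↥P, Cfsg.IsPPart p (y : G) (y : G) := fun y =>
    ⟨1, mul_one _, Commute.one_right _, hord y, by rw [orderOf_one]; exact hp.not_dvd_one⟩
  set T : ↥P → ↥P → ℂ := fun y z => ∑ χ : Cfsg.IrrCharacter G,
    (if χ ∈ B then (starRingEnd ℂ) ((χ : G → ℂ) (y : G)) * (χ : G → ℂ) (z : G) else 0) with hT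
  have key : ∀ y : ↥P, (y : G) ∈ U → ∀ z : ↥P, T y z =
      (w : ℂ) * (Nat.card {x : ↥N // (x : G) * (y : G) * (x : G)⁻¹ = (z : G)} : ℂ) := by
    intro y hy z
    by_cases hc : IsConj (y : G) (z : G)
    · obtain ⟨g, hg⟩ := isConj_iff.1 hc
      obtain ⟨n, hn, hnz⟩ := hfus _ hy g (by rw [hg]; exact z.2)
      rw [hg] at hnz
      have hcard : Nat.card {x : ↥N // (x : G) * (y : G) * (x : G)⁻¹ = (z : G)} =
          Nat.card ↥(N ⊓ Subgroup.centralizer ({(y : G)} : Set G)) := by
        refine Nat.card_congr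
          { toFun := fun x => ⟨n⁻¹ * (x : G), Subgroup.mul_mem N (N.inv_mem hn) x.1.2, ?_⟩
            invFun := fun c => ⟨⟨n * (c : G), mul_mem hn c.2.1⟩, ?_⟩
            left_inv := fun x => by ext; simp
            right_inv := fun c => by ext; simp }
        · show n⁻¹ * (x : G) ∈ Subgroup.centralizer ({(y : G)} : Set G)
          rw [Subgroup.mem_centralizer_singleton_iff]
          calc n⁻¹ * (x : G) * (y : G) = n⁻¹ * ((x : G) * (y : G) * (x : G)⁻¹) * (x : G) := by group
            _ = n⁻¹ * (n * (y : G) * n⁻¹) * (x : G) := by rw [x.2, hnz]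
            _ = (y : G) * (n⁻¹ * (x : G)) := by group
        · show n * (c : G) * (y : G) * (n * (c : G))⁻¹ = (z : G)
          rw [← hnz]
          calc n * (c : G) * (y : G) * (n * (c : G))⁻¹
              = n * ((c : G) * (y : G) * (c : G)⁻¹) * n⁻¹ := by group
            _ = n * (y : G) * n⁻¹ := by
              rw [Subgroup.mem_centralizer_singleton_iff.1 c.2.2, mul_inv_cancel_right]
      letI : Fintype ↥(Subgroup.centralizer ({(y : G)} : Set G)) := Fintype.ofFinite _
      have hsec := CfsgLib.BlocksLocal.sum_principal_section_mul_conj hM (hord y)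
        (c := 1) (c' := 1) (by rw [orderOf_one]; exact hp.not_dvd_one)
        (by rw [orderOf_one]; exact hp.not_dvd_one)
      have h2 := congrArg (fun q : ℚ => (q : ℂ)) (hw _ hy)
      rw [CfsgLib.Blocks.finsum_irr_mem] at h2
      push_cast at h2
      rw [hcard, ← h2]
      refine Eq.trans ?_ (hsec.trans ?_)
      · simp only [hT]
        refine Finset.sum_congr rfl fun χ _ => if_congr Iff.rfl ?_ rfl
        rw [OneMemClass.coe_one, mul_one, ← hnz,
          CfsgLib.Characters.isClassFunction_of_isIrr χ.2 (y : G) n, mul_comm]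
      · refine Finset.sum_congr ?_ fun ξ _ => ?_
        · ext ξ; simp
        · split_ifs
          swap
          · simp
          push_cast
          rw [CfsgLib.Blocks.charDegree_cast, sq,
            ← CfsgLib.Characters.character_inv (CfsgLib.Characters.isCharacter_of_isIrr ξ.2),
            inv_one]
    · haveI : IsEmpty {x : ↥N // (x : G) * (y : G) * (x : G)⁻¹ = (z : G)} :=
        ⟨fun x => hc (isConj_iff.2 ⟨_, x.2⟩)⟩
      rw [Nat.card_of_isEmpty, Nat.cast_zero, mul_zero]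
      refine Eq.trans ?_ (CfsgLib.Blocks.sum_block_mul_inv_eq_zero hM (hpart z) (hpart y)
        (fun h => hc h.symm) hB)
      simp only [hT]
      refine Finset.sum_congr rfl fun χ _ => if_congr Iff.rfl ?_ rfl
      rw [CfsgLib.Characters.character_inv (CfsgLib.Characters.isCharacter_of_isIrr χ.2), mul_comm]
  have hre : ∀ (χ : Cfsg.IrrCharacter G) (f : ↥P → ℂ),
      ∑ᶠ y : ↥P, (χ : G → ℂ) (y : G) * f y⁻¹ =
        ∑ y : ↥P, (starRingEnd ℂ) ((χ : G → ℂ) (y : G)) * f y := by
    intro χ f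
    rw [finsum_eq_sum_of_fintype]
    refine Fintype.sum_equiv (Equiv.inv ↥P) _ _ fun y => ?_
    rw [Equiv.inv_apply, InvMemClass.coe_inv,
      CfsgLib.Characters.character_inv (CfsgLib.Characters.isCharacter_of_isIrr χ.2),
      Complex.conj_conj]
  have hext : ∀ y : ↥P, (y : G) ∈ U →
      (starRingEnd ℂ) (∑ᶠ x : ↥N, Cfsg.extendByZero P η ((x : G) * (y : G) * (x : G)⁻¹)) =
        ∑ z : ↥P, (starRingEnd ℂ) (η z) *
          (Nat.card {x : ↥N // (x : G) * (y : G) * (x : G)⁻¹ = (z : G)} : ℂ) := by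
    intro y hy
    have hmem : ∀ x : ↥N, (x : G) * (y : G) * (x : G)⁻¹ ∈ P := fun x =>
      (Subgroup.mem_normalizer_iff.1 (hNN x.2) _).1 y.2
    rw [finsum_eq_sum_of_fintype, map_sum,
      ← Finset.sum_fiberwise Finset.univ (fun x : ↥N => (⟨_, hmem x⟩ : ↥P))]
    refine Finset.sum_congr rfl fun z _ => ?_
    rw [Finset.sum_congr rfl fun x hx => ?_, Finset.sum_const, nsmul_eq_mul, mul_comm]
    · rw [Nat.card_eq_fintype_card, Fintype.card_subtype]
      congr 3
      ext x
      simp [Subtype.ext_iff]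
    · obtain rfl := (Finset.mem_filter.1 hx).2
      exact congrArg _ (Subtype.val_injective.extend_apply η 0 ⟨_, hmem x⟩)
  simp only [hre]
  rw [CfsgLib.Blocks.finsum_irr_mem, finsum_eq_sum_of_fintype]
  have hRHS : ∀ y : ↥P,
      θ y * (starRingEnd ℂ) (∑ᶠ x : ↥N, Cfsg.extendByZero P η ((x : G) * (y : G) * (x : G)⁻¹)) *
        (w : ℂ) = θ y * ∑ z : ↥P, (starRingEnd ℂ) (η z) * T y z := by
    intro y
    by_cases hy : (y : G) ∈ U
    · rw [hext y hy, Finset.mul_sum, Finset.sum_mul, Finset.mul_sum]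
      refine Finset.sum_congr rfl fun z _ => ?_
      rw [key y hy z]
      ring
    · rw [hθU y hy]; simp
  rw [div_mul_eq_mul_div, mul_comm (w : ℂ), Finset.sum_mul,
    Finset.sum_congr rfl fun y _ => hRHS y]
  simp only [hT, Finset.mul_sum]
  rw [div_eq_inv_mul, Finset.mul_sum]
  simp only [Finset.mul_sum]
  rw [Finset.sum_congr rfl fun y _ => Finset.sum_comm, Finset.sum_comm]
  refine Finset.sum_congr ?_ fun χ _ => ?_
  · ext χ; simp
  split_ifs
  · simp only [map_mul, map_inv₀, map_natCast, map_sum, Complex.conj_conj, Finset.mul_sum,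
      Finset.sum_mul]
    rw [Finset.sum_comm]
    refine Finset.sum_congr rfl fun y _ => Finset.sum_congr rfl fun z _ => ?_
    ring
  · simp

end Cfsg.Agent.S4720
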