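import Cfsg.Statements.S4721
import Cfsg.Agent.BlocksFrobenius.IndexThree

set_option autoImplicit false
set_option linter.style.haveILetI false
open Cfsg

namespace Cfsg.Agent.S4721

/-- Let p be a prime, M a maximal ideal of the algebraic integers containing p, and G a finite group with a nontrivial abelian Sylow p-subgroup P, N = N_G(P), C = C_G(P), such that N/C is cyclic of order 3, #P > 4, and C_G(y) ∩ N = C for every non-identity y ∈ P. Then the principal p-block is the disjoint union of a set X of exactly 3 characters containing the principal character and a set Y of (#P − 1)/3 characters, with signs a_χ = ±1 (χ ∈ X, a = 1 at the principal character) and δ = ±1 such that every χ ∈ X takes the value a_χ at every element whose p-part is a non-identity element of P, and there is a map ζ from the non-principal linear characters of P onto Y, constant on N-conjugacy classes, with ζ_ψ(z) = δ·Σ ψ'(y) over the N-orbit of ψ, for z with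 p-part y ≠ 1 in P. If moreover G has an involution lying in no proper normal subgroup of G, then exactly two of the three numbers −δ and a_χ (χ ∈ X non-principal) equal −1, and the product of the degrees of the two non-principal members of X and of any member of Y is a perfect square. -/
theorem result {G : Type*} [Group G] [Finite G] (p : ℕ) [Fact p.Prime] (M : Ideal Cfsg.AlgInt) (hM : Cfsg.IsPModular p M) (P : Sylow p G) (hab : IsMulCommutative P) (hP1 : Nat.card P ≠ 1) (hCN : (Subgroup.centralizer ((P : Subgroup G) : Set G)).relIndex (Subgroup.normalizer ((P : Subgroup G) : Set G)) = 3) (hcyc : ∃ g : G, g ∈ Subgroup.normalizer ((P : Subgroup G) : Set G) ∧ Subgroup.centralizer ((P : Subgroup G) : Set G) ⊔ Subgroup.zpowers g = Subgroup.normalizer ((P : Subgroup G) : Set G)) (hm2 : 3 + 1 < Nat.card P) (hfrob : ∀ y : G, y ∈ (P : Subgroup G) → y ≠ 1 → Subgroup.centralizer ({y} : Set G) ⊓ Subgroup.normalizer ((P : Subgroup G) : Set G) =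 Subgroup.centralizer ((P : Subgroup G) : Set G)) : ∃ (X Y : Set (Cfsg.IrrCharacter G)), Cfsg.principalBlock M G = X ∪ Y ∧ Disjoint X Y ∧ Nat.card X = 3 ∧ Nat.card Y = (Nat.card P - 1) / 3 ∧ (∃ χ₁ ∈ X, (χ₁ : G → ℂ) = fun _ => 1) ∧ ∃ (a : Cfsg.IrrCharacter G → ℤ) (δ : ℤ) (ζ : (↥(P : Subgroup G) →* ℂˣ) → Cfsg.IrrCharacter G), (δ = 1 ∨ δ = -1) ∧ (∀ χ ∈ X, (a χ = 1 ∨ a χ = -1) ∧ ∀ z y : G, Cfsg.IsPPart p z y → y ∈ (P : Subgroup G) → y ≠ 1 → (χ : G → ℂ) z = (a χ : ℂ)) ∧ (∀ ψ : ↥(P : Subgroup G) →* ℂˣ, ψ ≠ 1 → ζ ψ ∈ Y) ∧ (∀ η ∈ Y, ∃ ψ : ↥(P : Subgroup G) →* ℂˣ, ψ ≠ 1 ∧ ζ ψ = η) ∧ (∀ ψ ψ' : ↥(P : Subgroup G) →* ℂˣ, ψ ≠ 1 → (∃ n : G, n ∈ Subgroup.normalizer ((P : Subgroup G) : Set G) ∧ ∀ w w' : ↥(P : Subgroup G), (w' : G) = n * w * n⁻¹ → ψ' w' = ψ w) → ζ ψ' = ζ ψ) ∧ (∀ ψ : ↥(P : Subgroup G) →* ℂˣ, ψ ≠ 1 → ∀ (z : G) (y : ↥(P : Subgroup G)), Cfsg.IsPPart p z (y : G) → (y : G) ≠ 1 → (ζ ψ : G → ℂ) z = (δ : ℂ) * ∑ᶠ ψ' ∈ {ψ' : ↥(P : Subgroup G) →*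 ℂˣ | ∃ n : G, n ∈ Subgroup.normalizer ((P : Subgroup G) : Set G) ∧ ∀ w w' : ↥(P : Subgroup G), (w' : G) = n * w * n⁻¹ → ψ' w' = ψ w}, ((ψ' y : ℂˣ) : ℂ)) ∧ ((∃ t : G, orderOf t = 2 ∧ ∀ K : Subgroup G, K.Normal → t ∈ K → K = ⊤) → Nat.card {χ : Cfsg.IrrCharacter G // χ ∈ X ∧ (χ : G → ℂ) ≠ (fun _ => 1) ∧ a χ = -1} + (if δ = 1 then 1 else 0) = 2 ∧ ∀ η ∈ Y, IsSquare (Cfsg.charDegree (η : G → ℂ) * ∏ᶠ χ ∈ {χ : Cfsg.IrrCharacter G | χ ∈ X ∧ (χ : G → ℂ) ≠ fun _ => 1}, Cfsg.charDegree (χ : G → ℂ))) := by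
  classical
  open CfsgLib.BlocksFrobenius CfsgLib.PrincipalBlock in
    haveI := Fintype.ofFinite G
    haveI : M.IsPrime := hM.2.1.isPrime
    have h : Semireg P := ⟨hab, hfrob⟩
    haveI := finite_lin h
    haveI := finite_orb h
    haveI := Fintype.ofFinite (Orb P)
    have hm : Nat.card (aut P) = 3 := by rw [card_aut, hCN]
    have hcard := card_orb_mul h
    rw [Nat.card_eq_fintype_card (α := Orb P), hm] at hcard
    haveI : Nonempty (Orb P) := Fintype.card_pos_iff.1 (Nat.pos_of_ne_zero fun e0 => by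
      rw [e0, zero_mul] at hcard; omega)
    haveI : DecidableEq (Orb P) := Classical.decEq _
    obtain ⟨F, hd, h3, htriv, hsign⟩ := exists_frame_three h hM hm (by omega)
    obtain ⟨χ, χ', hne, hpair⟩ := Finset.card_eq_two.1
      (show (F.rest.erase (trivChar G)).card = 2 by rw [Finset.card_erase_of_mem htriv, h3])
    have hχ : χ ≠ trivChar G ∧ χ ∈ F.rest := Finset.mem_erase.1 (hpair ▸ Finset.mem_insert_self _ _)
    have hχ' : χ' ≠ trivChar G ∧ χ' ∈ F.rest :=
      Finset.mem_erase.1 (hpair ▸ Finset.mem_insert_of_mem (Finset.mem_singleton_self _))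
    have hrest : F.rest = {trivChar G, χ, χ'} := by rw [← hpair, Finset.insert_erase htriv]
    have hiff : ∀ φ : IrrCharacter G,
        (φ ∈ (F.rest : Set _) ∧ (φ : G → ℂ) ≠ fun _ => 1) ↔ φ ∈ ({χ, χ'} : Finset _) := fun φ => by
      rw [← hpair, Finset.mem_erase, and_comm]
      exact and_congr (not_congr ⟨fun e => Subtype.ext e, fun e => congrArg Subtype.val e⟩) Iff.rfl
    refine ⟨(F.rest : Set _), Set.range F.η, F.eq_union,
      F.disjoint_rest, by rw [Nat.card_coe_set_eq, Set.ncard_coe_finset, h3],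
      by rw [F.card_range h, hm], ⟨trivChar G, htriv, rfl⟩,
      F.aval, F.δ,
      fun ψ => if hψ : ψ ≠ 1 then F.η (cls ψ hψ) else F.η (Classical.arbitrary _), F.sign,
      fun φ hφ => ⟨hsign φ hφ, fun z y hz hyP hy => F.rest_apply h hM hφ hz hyP hy⟩,
      ?_, ?_, ?_, ?_, ?_⟩
    · intro ψ hψ
      simp only [dif_pos hψ]
      exact ⟨_, rfl⟩
    · rintro _ ⟨u, rfl⟩
      exact ⟨rep u, rep_ne_one u, by simp only [dif_pos (rep_ne_one u), cls_rep]⟩
    · intro ψ ψ' hψ hconj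
      have hmem : ψ' ∈ Set.range fun f : aut P => pre f.1 ψ := by
        rw [← conj_set_eq]; exact hconj
      obtain ⟨f, rfl⟩ := hmem
      simp only [dif_pos hψ, dif_pos (pre_ne_one (f := f.1) hψ)]
      rw [cls_eq_of_rel hψ _ f.2 rfl]
    · intro ψ hψ z y hz hy
      rw [finsum_conj_set h hψ]
      simp only [dif_pos hψ]
      rw [F.eta_apply h hM _ hz hy, hd, Int.cast_zero, zero_add]
    · rintro ⟨t, ht, hgen⟩
      obtain ⟨hcount, hsq⟩ := involution_signs h hM hm (by omega) F hd hne hχ.1 hχ'.1 hrest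
        (hsign χ hχ.2) (hsign χ' hχ'.2) ht hgen
      refine ⟨?_, ?_⟩
      · rw [← hcount, Nat.card_congr (Equiv.subtypeEquivRight (p := fun φ : IrrCharacter G =>
            φ ∈ (F.rest : Set _) ∧ (φ : G → ℂ) ≠ (fun _ => 1) ∧ F.aval φ = -1)
          (q := fun φ => φ ∈ ({χ, χ'} : Finset _).filter fun φ => F.aval φ = -1)
          fun φ => by rw [Finset.mem_filter, ← hiff φ, and_assoc]),
          Nat.card_eq_fintype_card, Fintype.card_coe, Finset.card_filter, Finset.sum_pair hne]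
      · rintro _ ⟨u, rfl⟩
        rw [show {φ : IrrCharacter G | φ ∈ (F.rest : Set _) ∧ (φ : G → ℂ) ≠ fun _ => 1} =
          (({χ, χ'} : Finset (IrrCharacter G)) : Set (IrrCharacter G)) from Set.ext hiff,
          finprod_mem_coe_finset, Finset.prod_pair hne]
        exact hsq u

end Cfsg.Agent.S4721
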