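import Cfsg.Statements.S4722
import Cfsg.Agent.InvolColumn.Basic
import Cfsg.Agent.Characters.Generalized

set_option autoImplicit false
set_option linter.style.haveILetI false
open Cfsg

namespace Cfsg.Agent.S4722

/-- Let M be a maximal ideal of the algebraic integers containing 2, P a 2-subgroup of the finite group G, U a subset of P, and t an involution of G such that no element of U is inverted by any conjugate of t. Let θ be a generalized character of P vanishing outside U, and for χ in the principal 2-block B₀ put a_χ = #P⁻¹ Σ_{y ∈ P} χ(y) θ(y⁻¹). Then Σ_{χ ∈ B₀} a_χ χ(t)^2/χ(1) = 0, Σ_{χ ∈ B₀} a_χ χ(1) = 0 and Σ_{χ ∈ B₀} a_χ χ(t) = 0. If moreover #P⁻¹ Σ_{y ∈ P} θ(y) ≠ 0, then either at least two of the a_χ have positive real part and at least two have negative real part, or G has a proper normal subgroup containing O_2'(G) and t. -/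
theorem result {G : Type*} [Group G] [Finite G] (M : Ideal Cfsg.AlgInt) (hM : Cfsg.IsPModular 2 M) (P : Subgroup G) (hP : IsPGroup 2 P) (U : Set G) (hUP : U ⊆ (P : Set G)) (t : G) (ht : orderOf t = 2) (hinv : ∀ u ∈ U, ∀ g : G, (g * t * g⁻¹) * u * (g * t * g⁻¹)⁻¹ ≠ u⁻¹) (θ : ↥P → ℂ) (hθ : Cfsg.IsGeneralizedCharacter ↥P θ) (hθU : ∀ y : ↥P, (y : G) ∉ U → θ y = 0) : (∑ᶠ χ ∈ Cfsg.principalBlock M G, ((Nat.card ↥P : ℂ)⁻¹ * ∑ᶠ y : ↥P, (χ : G → ℂ) (y : G) * θ y⁻¹) * (χ : G → ℂ) t ^ 2 / (χ : G → ℂ) 1 = 0) ∧ (∑ᶠ χ ∈ Cfsg.principalBlock M G, ((Nat.card ↥P : ℂ)⁻¹ * ∑ᶠ y : ↥P, (χ : G → ℂ) (y : G) * θ y⁻¹) * (χ : G → ℂ) 1 = 0) ∧ (∑ᶠ χ ∈ Cfsg.principalBlock M G, ((Nat.card ↥P : ℂ)⁻¹ * ∑ᶠ y : ↥P, (χ : G → ℂ) (y : G) * θ y⁻¹) * (χ : G → ℂ) t = 0) ∧ ((Nat.card ↥P : ℂ)⁻¹ * ∑ᶠ y : ↥P, θ y ≠ 0 → (2 ≤ Nat.card {χ : Cfsg.IrrCharacter G // χ ∈ Cfsg.principalBlock M G ∧ 0 < (((Nat.card ↥P : ℂ)⁻¹ * ∑ᶠ y : ↥P, (χ : G → ℂ) (y : G) * θ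 y⁻¹)).re} ∧ 2 ≤ Nat.card {χ : Cfsg.IrrCharacter G // χ ∈ Cfsg.principalBlock M G ∧ (((Nat.card ↥P : ℂ)⁻¹ * ∑ᶠ y : ↥P, (χ : G → ℂ) (y : G) * θ y⁻¹)).re < 0}) ∨ ∃ K : Subgroup G, K.Normal ∧ K ≠ ⊤ ∧ Cfsg.pPrimeCore 2 G ≤ K ∧ t ∈ K) := by
  classical
  letI : Fintype G := Fintype.ofFinite G
  letI : Fintype ↥P := Fintype.ofFinite ↥P
  haveI : Fact (Nat.Prime 2) := ⟨Nat.prime_two⟩
  haveI := CfsgLib.Blocks.IsPModular.isPrime hM
  have hB : Cfsg.IsPBlock M (Cfsg.principalBlock M G) :=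
    CfsgLib.BlocksCharsC.isPBlock_principalBlock
  have htt : t * t = 1 := by rw [← sq, ← ht, pow_orderOf_eq_one]
  have hti : t⁻¹ = t := inv_eq_of_mul_eq_one_right htt
  set a : Cfsg.IrrCharacter G → ℂ := fun χ =>
    (Nat.card ↥P : ℂ)⁻¹ * ∑ y : ↥P, (χ : G → ℂ) (y : G) * θ y⁻¹ with ha
  have rel : ∀ c : Cfsg.IrrCharacter G → ℂ,
      (∀ y : ↥P, (y : G)⁻¹ ∈ U → ∑ χ : Cfsg.IrrCharacter G,
        (if χ ∈ Cfsg.principalBlock M G then c χ * (χ : G → ℂ) (y : G) else 0) = 0) →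
      ∑ χ : Cfsg.IrrCharacter G, (if χ ∈ Cfsg.principalBlock M G then a χ * c χ else 0) = 0 := by
    intro c hc
    have e : ∀ χ : Cfsg.IrrCharacter G,
        (if χ ∈ Cfsg.principalBlock M G then a χ * c χ else 0) =
          (Nat.card ↥P : ℂ)⁻¹ * ∑ y : ↥P, θ y⁻¹ *
            (if χ ∈ Cfsg.principalBlock M G then c χ * (χ : G → ℂ) (y : G) else 0) := by
      intro χ
      split_ifs
      · rw [ha, mul_assoc, Finset.sum_mul]
        exact congrArg _ (Finset.sum_congr rfl fun y _ => by ring)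
      · simp
    rw [Finset.sum_congr rfl fun χ _ => e χ, ← Finset.mul_sum, Finset.sum_comm]
    refine mul_eq_zero_of_right _ (Finset.sum_eq_zero fun y _ => ?_)
    rw [← Finset.mul_sum]
    by_cases hy : (y : G)⁻¹ ∈ U
    · rw [hc y hy, mul_zero]
    · rw [hθU y⁻¹ (by simpa using hy), zero_mul]
  have hrel : ∀ y : ↥P, (y : G)⁻¹ ∈ U → _ := fun y hy =>
    CfsgLib.InvolColumn.three_relations hM hB ht (y := (y : G)) (by
      obtain ⟨k, hk⟩ := hP.exists_card_eq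
      obtain ⟨j, -, hj⟩ := (Nat.dvd_prime_pow Nat.prime_two).1
        (hk ▸ orderOf_dvd_natCard (G := ↥P) y)
      exact ⟨j, by rw [← hj, Subgroup.orderOf_coe]⟩)
      (fun g hg => by
        refine hinv _ hy g ?_
        rw [inv_inv]
        have h := congrArg (·⁻¹) hg
        simpa [mul_assoc] using h)
  have h2 := rel (fun χ => (χ : G → ℂ) t ^ 2 / (χ : G → ℂ) 1) fun y hy => (hrel y hy).1
  have h0 := rel (fun χ => (χ : G → ℂ) 1) fun y hy => (hrel y hy).2.1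
  have h1 := rel (fun χ => (χ : G → ℂ) t) fun y hy => (hrel y hy).2.2
  clear hrel rel
  have efin : ∀ f : ↥P → ℂ, ∑ᶠ y, f y = ∑ y, f y := fun f => finsum_eq_sum_of_fintype f
  simp only [efin]
  refine ⟨?_, ?_, ?_, fun hne => ?_⟩
  · refine Eq.trans ?_ h2
    rw [CfsgLib.Blocks.finsum_irr_mem]
    exact Finset.sum_congr rfl fun χ _ => if_congr Iff.rfl (mul_div_assoc _ _ _) rfl
  · refine Eq.trans ?_ h0
    rw [CfsgLib.Blocks.finsum_irr_mem]
  · refine Eq.trans ?_ h1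
    rw [CfsgLib.Blocks.finsum_irr_mem]
  -- the coefficient of the trivial character is a nonzero integer
  set χ₁ : Cfsg.IrrCharacter G := CfsgLib.PrincipalBlock.trivChar G with hχ₁
  have hχ₁mem : χ₁ ∈ Cfsg.principalBlock M G := CfsgLib.PrincipalBlock.trivChar_mem
  have hχ₁v : ∀ g : G, (χ₁ : G → ℂ) g = 1 := fun g => by
    simp [hχ₁]
  obtain ⟨z, hz⟩ := CfsgLib.Characters.classInner_gen hθ (CfsgLib.Characters.isGen_one (G := ↥P))
  have ha1 : a χ₁ = (z : ℂ) := by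
    rw [← hz, ha, Cfsg.classInner]
    refine congrArg _ (Fintype.sum_equiv (Equiv.inv ↥P) _ _ fun y => ?_)
    simp [hχ₁v]
  have hz0 : z ≠ 0 := by
    rintro rfl
    refine hne ?_
    rw [Int.cast_zero] at ha1
    rw [← ha1, ha]
    refine congrArg _ (Fintype.sum_equiv (Equiv.inv ↥P) _ _ fun y => ?_)
    simp [hχ₁v]
  -- real coordinates
  have hdeg : ∀ χ : Cfsg.IrrCharacter G, ∃ d : ℝ, 0 < d ∧ (χ : G → ℂ) 1 = d := fun χ => by
    obtain ⟨n, hn, hn'⟩ := CfsgLib.Characters.exists_degree_pos χ.2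
    exact ⟨n, Nat.cast_pos.2 hn, by rw [hn']; norm_cast⟩
  choose d hd0 hd using hdeg
  have hτ : ∀ χ : Cfsg.IrrCharacter G, ∃ τ : ℝ, (χ : G → ℂ) t = τ := fun χ =>
    Complex.conj_eq_iff_real.1 (CfsgLib.InvolColumn.char_involution_real χ hti)
  choose τ hτ using hτ
  set w : Cfsg.IrrCharacter G → ℝ := fun χ =>
    if χ ∈ Cfsg.principalBlock M G then (a χ).re * d χ else 0 with hw
  set r : Cfsg.IrrCharacter G → ℝ := fun χ => τ χ / d χ with hr
  have s0 : ∑ χ, w χ = 0 := by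
    have h := congrArg Complex.re h0
    rw [Complex.re_sum, Complex.zero_re] at h
    refine Eq.trans (Finset.sum_congr rfl fun χ _ => ?_) h
    simp only [hw]; split_ifs
    · rw [hd, Complex.re_mul_ofReal]
    · simp
  have s1 : ∑ χ, w χ * r χ = 0 := by
    have h := congrArg Complex.re h1
    rw [Complex.re_sum, Complex.zero_re] at h
    refine Eq.trans (Finset.sum_congr rfl fun χ _ => ?_) h
    simp only [hw, hr]; split_ifs
    · rw [hτ, Complex.re_mul_ofReal]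
      have := (hd0 χ).ne'
      field_simp
    · simp
  have s2 : ∑ χ, w χ * r χ ^ 2 = 0 := by
    have h := congrArg Complex.re h2
    rw [Complex.re_sum, Complex.zero_re] at h
    refine Eq.trans (Finset.sum_congr rfl fun χ _ => ?_) h
    simp only [hw, hr]; split_ifs
    · rw [hτ, hd, ← Complex.ofReal_pow, ← Complex.ofReal_div, Complex.re_mul_ofReal]
      have := (hd0 χ).ne'
      field_simp
    · simp
  have hw1 : w χ₁ ≠ 0 := by
    simp only [hw, if_pos hχ₁mem, ha1]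
    exact mul_ne_zero (by simpa using hz0) (hd0 χ₁).ne'
  -- signs
  have hpos : ∀ χ, 0 < w χ ↔ χ ∈ Cfsg.principalBlock M G ∧ 0 < (a χ).re := fun χ => by
    simp only [hw]; split_ifs with h <;> simp [h, mul_pos_iff_of_pos_right (hd0 χ)]
  have hneg : ∀ χ, w χ < 0 ↔ χ ∈ Cfsg.principalBlock M G ∧ (a χ).re < 0 := fun χ => by
    simp only [hw]; split_ifs with h
    · simp [h, mul_neg_iff, hd0 χ, (hd0 χ).not_gt]
    · simp [h]
  by_contra hcon
  obtain ⟨hcnt, hK⟩ := not_or.1 hcon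
  push Not at hK
  -- if one sign occurs once, all ratios agree
  have hone : ∀ v : Cfsg.IrrCharacter G → ℝ, (∀ χ, v χ = 0 ↔ w χ = 0) → ∑ χ, v χ = 0 →
      ∑ χ, v χ * r χ = 0 → ∑ χ, v χ * r χ ^ 2 = 0 →
      Nat.card {χ : Cfsg.IrrCharacter G // 0 < v χ} < 2 → False := by
    intro v hv t0 t1 t2 hlt
    obtain ⟨χ', -, hχ'⟩ : ∃ χ' ∈ Finset.univ, 0 < v χ' :=
      Finset.exists_pos_of_sum_zero_of_exists_nonzero v t0
        ⟨χ₁, Finset.mem_univ _, fun h => hw1 ((hv χ₁).1 h)⟩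
    haveI : Subsingleton {χ : Cfsg.IrrCharacter G // 0 < v χ} :=
      Finite.card_le_one_iff_subsingleton.1 (by omega)
    have hle : ∀ χ, v χ * (r χ - r χ') ^ 2 ≤ 0 := fun χ => by
      rcases le_or_gt (v χ) 0 with h | h
      · exact mul_nonpos_of_nonpos_of_nonneg h (sq_nonneg _)
      · rw [show χ = χ' from congrArg Subtype.val
          (Subsingleton.elim (⟨χ, h⟩ : {χ // 0 < v χ}) ⟨χ', hχ'⟩)]
        simp
    have hsum : ∑ χ, v χ * (r χ - r χ') ^ 2 = 0 := by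
      have : ∀ χ, v χ * (r χ - r χ') ^ 2 =
          v χ * r χ ^ 2 - 2 * r χ' * (v χ * r χ) + r χ' ^ 2 * v χ := fun χ => by ring
      simp only [this, Finset.sum_add_distrib, Finset.sum_sub_distrib, ← Finset.mul_sum, t0, t1,
        t2]
      ring
    have heq : ∀ χ, v χ ≠ 0 → r χ = r χ' := fun χ hχ => by
      have h := (Finset.sum_eq_zero_iff_of_nonpos fun χ _ => hle χ).1 hsum χ (Finset.mem_univ _)
      rcases mul_eq_zero.1 h with h | h
      · exact absurd h hχ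
      · linarith [pow_eq_zero_iff (two_ne_zero) |>.1 h]
    have hr1 : r χ₁ = 1 := by
      simp only [hr]
      have e1 := (hd χ₁).symm.trans (hχ₁v 1)
      have e2 := (hτ χ₁).symm.trans (hχ₁v t)
      norm_cast at e1 e2
      rw [e1, e2, div_one]
    obtain ⟨χ, hχne, hχv⟩ : ∃ χ, χ ≠ χ₁ ∧ v χ ≠ 0 := by
      by_contra hall
      push Not at hall
      rw [Finset.sum_eq_single χ₁ (fun b _ hb => hall b hb) (by simp)] at t0
      exact hw1 ((hv χ₁).1 t0)
    have hmem : χ ∈ Cfsg.principalBlock M G := by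
      by_contra h
      exact hχv ((hv χ).2 (by simp [hw, h]))
    have hker : t ∈ CfsgLib.PrincipalBlock.charKer χ := by
      rw [CfsgLib.PrincipalBlock.mem_charKer, hτ, hd]
      have h := (heq χ hχv).trans ((heq χ₁ fun h => hw1 ((hv χ₁).1 h)).symm.trans hr1)
      simp only [hr] at h
      rw [div_eq_one_iff_eq (hd0 χ).ne'] at h
      rw [h]
    refine hK (CfsgLib.PrincipalBlock.charKer χ) (CfsgLib.PrincipalBlock.charKer_normal χ)
      (fun h => hχne (CfsgLib.PrincipalBlock.eq_trivChar_of_charKer_eq_top h)) ?_ hker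
    refine CfsgLib.PrincipalBlock.le_charKer_of_mem hM _ ?_ hmem
    intro h2
    exact absurd ((Nat.Coprime.eq_one_of_dvd (CfsgLib.PLocal.coprime_card_pPrimeCore 2 G).symm h2))
      (by omega)
  rcases not_and_or.1 hcnt with h | h
  · refine hone w (fun _ => Iff.rfl) s0 s1 s2 ?_
    exact lt_of_eq_of_lt (Nat.card_congr (Equiv.subtypeEquivRight hpos)) (not_le.1 h)
  · refine hone (fun χ => - w χ) (fun χ => neg_eq_zero) (by simp [s0]) (by simp [s1])
      (by simp [s2]) ?_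
    exact lt_of_eq_of_lt (Nat.card_congr
      (Equiv.subtypeEquivRight fun χ => (neg_pos (a := w χ)).trans (hneg χ))) (not_le.1 h)

end Cfsg.Agent.S4722
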