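import Cfsg.Statements.S4723
import Cfsg.Agent.BlocksLocal.Fong
import Cfsg.Agent.BlockPairs.Contributions
import Cfsg.Agent.BlockPairs.Transport
import Cfsg.Agent.OddOrderChar.Clifford

set_option autoImplicit false
set_option linter.style.haveILetI false
open Cfsg

namespace Cfsg.Agent.S4723

open CfsgLib CfsgLib.OddOrderChar CfsgLib.Blocks

universe u

/-- An invariant block has a height zero character whose inertia group has index prime to `p`. -/
theorem invariant_case {G : Type u} [Group G] [Fintype G] {p : ℕ} [Fact p.Prime] {M : Ideal Cfsg.AlgInt}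
    (hM : Cfsg.IsPModular p M) [M.IsPrime] (H : Subgroup G) [H.Normal] [Fintype H]
    {b : Set (Cfsg.IrrCharacter H)} (hb : Cfsg.IsPBlock M b)
    (hinv : ∀ (g : G), ∀ θ ∈ b, BlocksLocal.conjIrr H θ g ∈ b) :
    ∃ θ ∈ b, Cfsg.blockHeight p b (θ : H → ℂ) = 0 ∧ ∃ S : Subgroup G,
      (∀ g : G, g ∈ S ↔ conjBy H (θ : H → ℂ) g = (θ : H → ℂ)) ∧ ¬ p ∣ S.index := by
  classical
  set cov := Finset.univ.filter fun χ : Cfsg.IrrCharacter G =>
    ∃ θ ∈ b, Cfsg.classInner (fun h : H => (χ : G → ℂ) h) (θ : H → ℂ) ≠ 0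
  have hcov : cov.Nonempty := by
    obtain ⟨θ, hθ⟩ := isPBlock_nonempty hb
    by_contra hno
    have h0 : ∀ χ : Cfsg.IrrCharacter G,
        Cfsg.classInner (Cfsg.indFun H (θ : H → ℂ)) (χ : G → ℂ) = 0 := by
      intro χ
      by_contra hne
      refine hno ⟨χ, Finset.mem_filter.2 ⟨Finset.mem_univ _, θ, hθ, fun hz => hne ?_⟩⟩
      rw [classInner_indFun_left H _ (Characters.isClassFunction_of_isIrr χ.2),
        Characters.classInner_conj_symm, hz, map_zero]
    have h1 := congrFun (Characters.classFunction_eq_zero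
      (Characters.isClassFunction_of_isCharacter
        (Characters.isCharacter_indFun H (Characters.isCharacter_of_isIrr θ.2))) h0) 1
    rw [Characters.indFun_one] at h1
    exact mul_ne_zero (Nat.cast_ne_zero.2 H.index_ne_zero_of_finite)
      (Characters.irr_one_ne_zero θ.2) h1
  obtain ⟨χ₀, hχ₀, hmax⟩ := Finset.exists_max_image cov
    (fun χ => Cfsg.blockDefect p (Cfsg.blockOf M (χ : G → ℂ))) hcov
  obtain ⟨θ₀, hθ₀, hne₀⟩ := (Finset.mem_filter.1 hχ₀).2
  set B := Cfsg.blockOf M (χ₀ : G → ℂ)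
  have hB : Cfsg.IsPBlock M B := isPBlock_blockOf χ₀
  obtain ⟨P, hP⟩ := exists_isDefectGroup (p := p) hB
  have hd : Cfsg.blockDefect p B = Cfsg.blockDefect p b + H.index.factorization p :=
    (BlocksLocal.fong H hM hb hinv hB ⟨χ₀, mem_blockOf_self χ₀, θ₀, hθ₀, hne₀⟩ (fun B' hB' hc => by
      obtain ⟨χ, hχ, hc⟩ := hc
      rw [eq_blockOf_of_mem hB' hχ]
      exact hmax χ (Finset.mem_filter.2 ⟨Finset.mem_univ _, hc⟩)) hP).2.2
  obtain ⟨χ, hχ, hmin, -⟩ := BlockPairing.exists_minimal (p := p) hB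
  have hχ0 : Cfsg.blockHeight p B (χ : G → ℂ) = 0 := by
    have hle := le_csInf (Set.image_nonempty.2 ⟨χ, hχ⟩)
      (s := (fun φ : Cfsg.IrrCharacter G => (Cfsg.charDegree (φ : G → ℂ)).factorization p) '' B)
      (by rintro _ ⟨η, hη, rfl⟩; exact hmin η hη)
    rw [Cfsg.blockHeight]
    omega
  obtain ⟨θ, hθne⟩ := BlocksLocal.exists_constituent H χ
  have hθ : θ ∈ b := by
    obtain ⟨g, η, hη, rfl⟩ := BlocksLocal.mem_coverSet_of_covers H hB hb (mem_blockOf_self χ₀)
      hθ₀ hne₀ hχ hθne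
    exact hinv g η hη
  let S : Subgroup G :=
    { carrier := {g | conjBy H (θ : H → ℂ) g = (θ : H → ℂ)}
      one_mem' := conjBy_one H _
      mul_mem' := fun {a c} ha hc => by
        show conjBy H (θ : H → ℂ) (a * c) = _
        rw [← conjBy_mul, show conjBy H (θ : H → ℂ) a = _ from ha]
        exact hc
      inv_mem' := fun {a} ha => by
        show conjBy H (θ : H → ℂ) a⁻¹ = _
        conv_lhs => rw [← show conjBy H (θ : H → ℂ) a = _ from ha]
        rw [conjBy_mul, mul_inv_cancel, conjBy_one] }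
  obtain ⟨m, hm⟩ := Characters.classInner_character_irr
    (Characters.isCharacter_restrict H (Characters.isCharacter_of_isIrr χ.2)) θ.2
  have hdeg := clifford_degree H χ.2 θ.2 S (fun g => Iff.rfl) hθne
  rw [hm, ← charDegree_cast, ← charDegree_cast] at hdeg
  have hdeg' : Cfsg.charDegree (χ : G → ℂ) = m * (S.index * Cfsg.charDegree (θ : H → ℂ)) := by
    exact_mod_cast hdeg
  have hm0 : m ≠ 0 := fun h => charDegree_ne_zero χ (by rw [hdeg', h, zero_mul])
  have hS0 : S.index ≠ 0 := S.index_ne_zero_of_finite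
  have h1 := Contributions.height_add (p := p) χ hχ
  have h2 := Contributions.height_add (p := p) θ hθ
  have h3 : (Nat.card G).factorization p = (Nat.card H).factorization p + H.index.factorization p := by
    rw [← H.card_mul_index, Nat.factorization_mul Nat.card_pos.ne' H.index_ne_zero_of_finite,
      Finsupp.add_apply]
  have h4 : (Cfsg.charDegree (χ : G → ℂ)).factorization p = m.factorization p +
      (S.index.factorization p + (Cfsg.charDegree (θ : H → ℂ)).factorization p) := by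
    rw [hdeg', Nat.factorization_mul hm0 (mul_ne_zero hS0 (charDegree_ne_zero θ)),
      Finsupp.add_apply, Nat.factorization_mul hS0 (charDegree_ne_zero θ), Finsupp.add_apply]
  refine ⟨θ, hθ, by omega, S, fun g => Iff.rfl, fun hdvd => ?_⟩
  have := (Fact.out : p.Prime).factorization_pos_of_dvd hS0 hdvd
  omega


/-- Let p be a prime, M a maximal ideal of the algebraic integers containing p, H a normal subgroup of the finite group G and b a p-block of H. Let T be the stabilizer of b in G. Then b contains a character θ of height zero whose own stabilizer in G (the elements g with θ(g h g⁻¹) = θ(h) for all h ∈ H) has index prime to p in T, i.e. contains a Sylow p-subgroup of T. -/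
theorem result {G : Type*} [Group G] [Finite G] (p : ℕ) [Fact p.Prime] (M : Ideal Cfsg.AlgInt) (hM : Cfsg.IsPModular p M) (H : Subgroup G) [H.Normal] (b : Set (Cfsg.IrrCharacter ↥H)) (hb : Cfsg.IsPBlock M b) (T : Subgroup G) (hT : (∀ g : G, g ∈ T ↔ ∀ θ ∈ b, ∀ θ' : Cfsg.IrrCharacter ↥H, (∀ h h' : ↥H, (h' : G) = g * h * g⁻¹ → (θ' : ↥H → ℂ) h' = (θ : ↥H → ℂ) h) → θ' ∈ b)) : ∃ θ ∈ b, Cfsg.blockHeight p b (θ : ↥H → ℂ) = 0 ∧ ∃ S : Subgroup G, S ≤ T ∧ (∀ g : G, g ∈ S ↔ (g ∈ T ∧ ∀ h h' : ↥H, (h' : G) = g * h * g⁻¹ → (θ : ↥H → ℂ) h' = (θ : ↥H → ℂ) h)) ∧ ¬ p ∣ S.relIndex T := by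

  classical
  haveI := hM.2.1.isPrime
  haveI := Fintype.ofFinite G
  haveI := Fintype.ofFinite H
  have hchar : ∀ (g : G) (θ θ' : Cfsg.IrrCharacter ↥H),
      (∀ h h' : ↥H, (h' : G) = g * h * g⁻¹ → (θ' : ↥H → ℂ) h' = (θ : ↥H → ℂ) h) ↔
        conjBy H (θ' : ↥H → ℂ) g = (θ : ↥H → ℂ) := by
    intro g θ θ'
    refine ⟨fun h => funext fun n => h n _ (by rfl), fun h n n' hn => ?_⟩
    rw [← h]
    exact congrArg (θ' : ↥H → ℂ) (Subtype.ext hn)
  have hHT : H ≤ T := fun x hx => (hT x).2 fun θ hθ θ' h => by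
    rw [hchar] at h
    have h2 : conjBy H (θ' : ↥H → ℂ) x = (θ' : ↥H → ℂ) := funext fun n =>
      (congrArg (θ' : ↥H → ℂ) (Subtype.ext (by simp)) :
        (θ' : ↥H → ℂ) _ = (θ' : ↥H → ℂ) (⟨x, hx⟩ * n * ⟨x, hx⟩⁻¹)).trans
        (Characters.isClassFunction_of_isIrr θ'.2 n ⟨x, hx⟩)
    rw [h2] at h
    rwa [Subtype.ext h]
  haveI := Fintype.ofFinite T
  haveI := Fintype.ofFinite (H.subgroupOf T)
  let e : H.subgroupOf T ≃* H := Subgroup.subgroupOfEquivOfLe hHT
  set b' := BlockPairs.imageSet e.symm b with hb'def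
  have hb' : Cfsg.IsPBlock M b' := BlockPairs.isPBlock_imageSet e.symm hb
  have himage : (fun χ : Cfsg.IrrCharacter ↥(H.subgroupOf T) =>
      (Cfsg.charDegree (χ : ↥(H.subgroupOf T) → ℂ)).factorization p) '' b' =
      (fun χ : Cfsg.IrrCharacter ↥H => (Cfsg.charDegree (χ : ↥H → ℂ)).factorization p) '' b := by
    apply Set.Subset.antisymm
    · rintro _ ⟨η, hη, rfl⟩
      refine ⟨BlockPairs.irrComp e.symm η, hη, ?_⟩
      simp only [Cfsg.charDegree, BlockPairs.irrComp_apply, map_one]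
    · rintro _ ⟨η, hη, rfl⟩
      refine ⟨BlockPairs.irrComp e η, ?_, ?_⟩
      · show BlockPairs.irrComp e.symm (BlockPairs.irrComp e η) ∈ b
        convert hη
        exact Subtype.ext (funext fun x => by simp [BlockPairs.irrComp_apply])
      · simp only [Cfsg.charDegree, BlockPairs.irrComp_apply, map_one]
  obtain ⟨η, hη, hη0, S₀, hS₀, hidx⟩ := invariant_case (p := p) hM (H.subgroupOf T) hb'
    (fun t η hη => by
      show BlockPairs.irrComp e.symm _ ∈ b
      refine (hT ((t : G)⁻¹)).1 (T.inv_mem t.2) (BlockPairs.irrComp e.symm η) hη _ fun n n' hn => ?_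
      show conjBy (H.subgroupOf T) (η : ↥(H.subgroupOf T) → ℂ) t (e.symm n') =
        (η : ↥(H.subgroupOf T) → ℂ) (e.symm n)
      refine congrArg (η : ↥(H.subgroupOf T) → ℂ) (Subtype.ext (Subtype.ext ?_))
      show (t : G) * (n' : G) * (t : G)⁻¹ = (n : G)
      rw [hn]; group)
  set θ := BlockPairs.irrComp e.symm η with hθdef
  have hθη : ∀ x : H.subgroupOf T, (η : ↥(H.subgroupOf T) → ℂ) x = (θ : ↥H → ℂ) (e x) := fun x => by
    simp [hθdef, BlockPairs.irrComp_apply]
  refine ⟨θ, hη, ?_, S₀.map T.subtype, Subgroup.map_subtype_le _, fun g => ?_, ?_⟩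
  · rw [Cfsg.blockHeight] at hη0 ⊢
    rw [himage] at hη0
    convert hη0 using 3
    rw [Cfsg.charDegree, Cfsg.charDegree, hθη, map_one]
  · constructor
    · rintro ⟨t, ht, rfl⟩
      refine ⟨t.2, (hchar _ θ θ).2 (funext fun n => ?_)⟩
      have h1 := congrFun ((hS₀ t).1 ht) (e.symm n)
      simp only [OddOrderChar.conjBy, hθη] at h1
      rw [MulEquiv.apply_symm_apply] at h1
      refine Eq.trans ?_ h1
      exact congrArg (θ : ↥H → ℂ) (Subtype.ext rfl)
    · rintro ⟨hgT, hg⟩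
      refine ⟨⟨g, hgT⟩, (hS₀ _).2 (funext fun x => ?_), rfl⟩
      have h1 := congrFun ((hchar g θ θ).1 hg) (e x)
      simp only [OddOrderChar.conjBy, hθη] at h1 ⊢
      refine Eq.trans ?_ h1
      exact congrArg (θ : ↥H → ℂ) (Subtype.ext rfl)
  · have hrel : (S₀.map T.subtype).relIndex T = S₀.index := by
      rw [Subgroup.relIndex, Subgroup.subgroupOf, Subgroup.comap_map_eq_self_of_injective
        T.subtype_injective]
    rwa [hrel]

end Cfsg.Agent.S4723
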