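import Cfsg.Statements.S4724
import Cfsg.Agent.PrimeDegreeTI.Recognize
import Cfsg.Agent.S0806
import Cfsg.Agent.S0253

set_option autoImplicit false
open Cfsg

namespace Cfsg.Agent.S4724

/-- Let G be a transitive permutation group of prime degree p having exactly one irreducible character of degree p. Let P be a Sylow p-subgroup and suppose N_G(P) = P·E for a subgroup E with P ∩ E = 1, such that the normalizer of E has order 2·#E and E meets each of its conjugates by elements outside its normalizer trivially. Then p is 5, 7 or 11 and G is isomorphic to PSL(2, p). -/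
theorem result {α : Type*} [Fintype α] [DecidableEq α] {p : ℕ} [Fact p.Prime] (hα : Fintype.card α = p) (G : Subgroup (Equiv.Perm α)) [MulAction.IsPretransitive G α] (huniq : ∃! χ : Cfsg.IrrCharacter G, Cfsg.charDegree (χ : G → ℂ) = p) (P : Sylow p G) (E : Subgroup G) (hPE : (P : Subgroup G) ⊔ E = Subgroup.normalizer ((P : Subgroup G) : Set G)) (hPE' : (P : Subgroup G) ⊓ E = ⊥) (hNE : Nat.card (Subgroup.normalizer (E : Set G)) = 2 * Nat.card E) (hTI : ∀ g : G, g ∉ Subgroup.normalizer (E : Set G) → E ⊓ E.map (MulAut.conj g).toMonoidHom = ⊥) : (p = 5 ∨ p = 7 ∨ p = 11) ∧ ∃ (F : Type) (_ : Field F) (_ : Fintype F), Fintype.card F = p ∧ Nonempty (G ≃* Matrix.ProjectiveSpecialLinearGroup (Fin 2) F) := by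
  classical
  have hp : p.Prime := Fact.out
  obtain ⟨S⟩ := CfsgLib.PrimeDegreeTI.nonempty_data hα P E hPE hPE'
  have hsq := CfsgLib.PrimeDegreeTI.sq_le_card huniq
  have hp4 : 4 ≤ p ^ 2 := by have := hp.two_le; nlinarith
  have hle : p * orderOf S.x < p ^ 2 := by
    rw [sq]
    refine Nat.mul_lt_mul_of_pos_left ?_ hp.pos
    have h1 := Nat.le_of_dvd (by have := hp.two_le; omega) S.dvd_pred
    have := hp.two_le
    omega
  have hnn : ¬ (P : Subgroup G).Normal := by
    intro hN
    have h1 := S.card_normalizer hPE hPE'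
    rw [Subgroup.normalizer_eq_top_iff.2 hN, Subgroup.card_top] at h1
    omega
  have he2 : 2 ≤ orderOf S.x := by
    by_contra hlt
    have h1 : orderOf S.x = 1 := by have := orderOf_pos S.x; omega
    have hbot : E = ⊥ := by
      rw [← Subgroup.card_eq_one, S.card_E, h1]
    subst hbot
    rw [Subgroup.normalizer_eq_top_iff.2 inferInstance, Subgroup.card_top, Subgroup.card_bot] at hNE
    omega
  have hp2 : p ≠ 2 := by
    intro h
    have h1 := Nat.le_of_dvd (by omega) S.dvd_pred
    omega
  have hperf := CfsgLib.PrimeDegreeTI.commutator_eq_top hα P huniq hnn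
  haveI := CfsgLib.PrimeDegreeTI.isSimpleGroup hα S hPE hperf
  have hhalf := S.dvd_half hp2 hperf
  have hp5 : 5 ≤ p := by
    have h1 := Nat.le_of_dvd (by have := hp.two_le; omega) hhalf
    omega
  rcases he2.eq_or_lt with he | he
  · obtain ⟨rfl, ⟨f⟩⟩ :=
      CfsgLib.PrimeDegreeTI.two_case hα S hp5 he.symm hPE hPE' hnn hperf hNE hTI
    obtain ⟨g⟩ := Cfsg.Agent.S0253.result (F := ZMod 5) (ZMod.card 5)
    exact ⟨Or.inl rfl, ZMod 5, inferInstance, inferInstance, ZMod.card 5, ⟨f.trans g.symm⟩⟩
  obtain ⟨t, ht, htx⟩ := CfsgLib.PrimeDegreeTI.exists_not_commute hperf E S.x S.zpowers_x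
    (by omega) hNE (fun g y hy hy1 hg => CfsgLib.PrimeDegreeTI.centralizer_le hTI hy hy1 hg) hTI
  have hsmall := CfsgLib.PrimeDegreeTI.hasSmallRep hα S hp2 hperf hPE huniq (by omega) hNE hTI ht htx
  obtain ⟨f⟩ := CfsgLib.PrimeDegreeTI.nonempty_psl_of_small hα hp5 P hnn hsmall
  refine ⟨?_, ZMod p, inferInstance, inferInstance, ZMod.card p, ⟨f⟩⟩
  by_contra hcon
  push Not at hcon
  have hnot : p ∉ ({2, 3, 5, 7, 9, 11} : Finset ℕ) := by
    simp only [Finset.mem_insert, Finset.mem_singleton]
    have h9 : p ≠ 9 := fun h => by rw [h] at hp; norm_num at hp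
    omega
  haveI : Nonempty α := Fintype.card_pos_iff.1 (hα ▸ hp.pos)
  set H := (MulAction.stabilizer G (Classical.arbitrary α)).map f.toMonoidHom with hH
  have hidx : H.index = p := by
    rw [hH, show f.toMonoidHom = (f : _ →* _) from rfl, Subgroup.index_map_equiv, MulAction.index_stabilizer_of_transitive,
      Nat.card_eq_fintype_card, hα]
  have h1 := (Cfsg.Agent.S0806.result (F := ZMod p) (ZMod.card p) hnot).1 H (fun h => by
    rw [h, Subgroup.index_top] at hidx
    exact hp.ne_one hidx.symm)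
  omega

end Cfsg.Agent.S4724
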