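import Cfsg.Statements.S4725
import Cfsg.Agent.Blocks.Height
import Cfsg.Agent.Blocks.Induced
import Cfsg.Agent.Characters.Induction

set_option autoImplicit false
set_option linter.style.haveILetI false
open Cfsg

namespace Cfsg.Agent.S4725

/-- Let p be a prime, M a maximal ideal of the algebraic integers containing p, H a subgroup of the finite group G, and b a p-block of H inducing the p-block B of G, with b and B of the same defect. Then for every height-zero ζ ∈ b there is a height-zero χ ∈ B whose multiplicity in the character induced from ζ is not divisible by p. -/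
theorem result {G : Type*} [Group G] [Fintype G] (p : ℕ) [Fact p.Prime] (M : Ideal Cfsg.AlgInt) (hM : Cfsg.IsPModular p M) (H : Subgroup G) (b : Set (Cfsg.IrrCharacter ↥H)) (B : Set (Cfsg.IrrCharacter G)) (hind : Cfsg.IsInducedBlock M H b B) (hdef : Cfsg.blockDefect p b = Cfsg.blockDefect p B) (ζ : Cfsg.IrrCharacter ↥H) (hζ : ζ ∈ b) (hζ0 : Cfsg.blockHeight p b (ζ : ↥H → ℂ) = 0) : ∃ χ ∈ B, Cfsg.blockHeight p B (χ : G → ℂ) = 0 ∧ ∃ a : ℕ, Cfsg.classInner (Cfsg.indFun H (ζ : ↥H → ℂ)) (χ : G → ℂ) = (a : ℂ) ∧ ¬ p ∣ a := by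
  classical
  letI : Fintype H := Fintype.ofFinite H
  haveI := CfsgLib.Blocks.IsPModular.isPrime hM
  have hp : p.Prime := Fact.out
  obtain ⟨hb, hB, -⟩ := id hind
  obtain ⟨χ₀, hχ₀⟩ := CfsgLib.Blocks.isPBlock_nonempty hB
  have hA := CfsgLib.Blocks.isBlockUnion_of_isPBlock hB
  have h1 := (CfsgLib.Blocks.isInducedBlock_iff H hb hB hζ hχ₀).1 hind
    (CfsgLib.Blocks.idemBar M B hA)
  rw [CfsgLib.Blocks.omegaBar_idemBar, if_pos hχ₀, CfsgLib.Blocks.idemBar,
    CfsgLib.Blocks.redCtr, ← CfsgLib.Blocks.mapCtr_resCtr, ← CfsgLib.Blocks.redCtr,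
    CfsgLib.Blocks.omegaBar_redCtr] at h1
  set z := CfsgLib.Blocks.omegaO M ζ (CfsgLib.Blocks.resCtr H
    (CfsgLib.Blocks.setIdemO M B (CfsgLib.Blocks.memLocalRing_blockCoeff hA))) with hz
  have hzI : ¬ Cfsg.MemLocalIdeal M (z : ℂ) := by
    intro hmem
    have h2 : CfsgLib.Blocks.red M z = CfsgLib.Blocks.red M 0 :=
      CfsgLib.Blocks.red_eq_red_iff.2 (by simpa using hmem)
    rw [h1, map_zero] at h2
    exact one_ne_zero h2
  have hval : (z : ℂ) = (∑ h : H, Cfsg.blockCoeff B (h : G) * (ζ : H → ℂ) h) /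
      (ζ : H → ℂ) 1 := by
    rw [hz, CfsgLib.Blocks.coe_omegaO, CfsgLib.Blocks.toC, CfsgLib.Blocks.mapCtr_resCtr,
      ← CfsgLib.Blocks.toC, CfsgLib.Blocks.toC_setIdemO, CfsgLib.Blocks.omega_apply]
    simp only [CfsgLib.Blocks.coeff_resCtr, CfsgLib.Blocks.coeff_setIdemC]
  have hζc := CfsgLib.Characters.isCharacter_indFun H
    (CfsgLib.Characters.isCharacter_of_isIrr ζ.2)
  choose m hm using fun χ : Cfsg.IrrCharacter G =>
    CfsgLib.Characters.classInner_character_irr hζc χ.2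
  set nζ := Cfsg.charDegree (ζ : H → ℂ) with hnζ
  have hnζ0 : nζ ≠ 0 := CfsgLib.Blocks.charDegree_ne_zero ζ
  have hidx : H.index ≠ 0 := Subgroup.index_ne_zero_of_finite
  have hH0 : (Nat.card H : ℂ) ≠ 0 := CfsgLib.Characters.natCard_ne_zero
  have hsum : (z : ℂ) = ∑ χ : Cfsg.IrrCharacter G,
      (if χ ∈ B then ((m χ * Cfsg.charDegree (χ : G → ℂ) : ℕ) : ℂ) * 1 /
        ((H.index * nζ : ℕ) : ℂ) else 0) := by
    have hg : (Nat.card G : ℂ) = (H.index : ℂ) * (Nat.card H : ℂ) := by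
      rw [← Nat.cast_mul, Subgroup.index_mul_card]
    have hi : (H.index : ℂ) ≠ 0 := Nat.cast_ne_zero.2 hidx
    have hd : (ζ : H → ℂ) 1 ≠ 0 := CfsgLib.Characters.irr_one_ne_zero ζ.2
    have he : ∀ h : H, Cfsg.blockCoeff B (h : G) * (ζ : H → ℂ) h =
        ∑ χ : Cfsg.IrrCharacter G, (if χ ∈ B then (Nat.card G : ℂ)⁻¹ * (χ : G → ℂ) 1 *
          ((ζ : H → ℂ) h * (starRingEnd ℂ) ((χ : G → ℂ) (h : G))) else 0) := by
      intro h
      rw [CfsgLib.Blocks.blockCoeff_eq_sum, Finset.mul_sum, Finset.sum_mul]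
      refine Finset.sum_congr rfl fun χ _ => ?_
      split_ifs <;> ring
    rw [hval, Finset.sum_congr rfl fun h _ => he h, Finset.sum_comm, Finset.sum_div]
    refine Finset.sum_congr rfl fun χ _ => ?_
    split_ifs
    · push_cast
      rw [← hm χ, CfsgLib.Characters.classInner_indFun H _
        (CfsgLib.Characters.isClassFunction_of_isIrr χ.2), hnζ, CfsgLib.Blocks.charDegree_cast,
        CfsgLib.Blocks.charDegree_cast, ← Finset.mul_sum, hg]
      simp only [Cfsg.classInner]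
      field_simp
    · simp
  by_contra hcon
  push Not at hcon
  refine hzI ?_
  rw [hsum]
  refine CfsgLib.Blocks.memLocalIdeal_sum _ fun χ _ => ?_
  split_ifs with hχ
  swap
  · exact CfsgLib.Blocks.memLocalIdeal_zero
  by_cases hm0 : m χ = 0
  · simp [hm0, CfsgLib.Blocks.memLocalIdeal_zero]
  refine CfsgLib.Blocks.memLocalIdeal_mul_div_of_lt hM (mul_ne_zero hidx hnζ0) ?_
    (Subring.one_mem (CfsgLib.Blocks.localRing M))
  obtain ⟨D, hD⟩ := CfsgLib.Blocks.exists_isDefectGroup (p := p) hB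
  obtain ⟨E, hE⟩ := CfsgLib.Blocks.exists_isDefectGroup (p := p) hb
  have e1 := CfsgLib.Blocks.blockHeight_eq hM hb hE hζ
  rw [hζ0, zero_add, ← hnζ] at e1
  have e2 := CfsgLib.Blocks.blockDefect_eq hM hb hE
  have e3 := CfsgLib.Blocks.blockDefect_eq hM hB hD
  have e4 := CfsgLib.Blocks.blockHeight_eq hM hB hD hχ
  have e5 : (Nat.card G).factorization p = H.index.factorization p + (Nat.card H).factorization p := by
    rw [← Subgroup.index_mul_card H, Nat.factorization_mul hidx Nat.card_pos.ne']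
    rfl
  rw [Nat.factorization_mul hidx hnζ0,
    Nat.factorization_mul hm0 (CfsgLib.Blocks.charDegree_ne_zero χ), Finsupp.add_apply,
    Finsupp.add_apply]
  by_cases hh : Cfsg.blockHeight p B (χ : G → ℂ) = 0
  · have := hp.factorization_pos_of_dvd hm0 (hcon χ hχ hh (m χ) (hm χ))
    omega
  · omega

end Cfsg.Agent.S4725
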