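import Cfsg.Statements.S4726
import Cfsg.Agent.PiKernel.Bridge
import Cfsg.Agent.BlockPairs.Local

set_option autoImplicit false
set_option linter.style.haveILetI false
open Cfsg

namespace Cfsg.Agent.S4726

/-- Let p be a prime, M a maximal ideal of the algebraic integers containing p, H a subgroup of the finite group G and b a p-block of H with defect group D₀ such that C_G(D₀) ≤ H. Then b induces a block of G, and for every block B of G induced by b there is a defect group D of B with Z(D) ≤ Z(D₀) ≤ D₀ ≤ D (as subgroups of G). In particular, if the defect groups of B are abelian then D₀ is a defect group of B. -/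
theorem result {G : Type*} [Group G] [Finite G] (p : ℕ) [Fact p.Prime] (M : Ideal Cfsg.AlgInt) (hM : Cfsg.IsPModular p M) (H : Subgroup G) (b : Set (Cfsg.IrrCharacter ↥H)) (hb : Cfsg.IsPBlock M b) (D₀ : Subgroup ↥H) (hD₀ : Cfsg.IsDefectGroup p M b D₀) (hC : Subgroup.centralizer ((D₀.map H.subtype : Subgroup G) : Set G) ≤ H) : Cfsg.InducedBlockDefined M H b ∧ ∀ B : Set (Cfsg.IrrCharacter G), Cfsg.IsInducedBlock M H b B → (∃ D : Subgroup G, Cfsg.IsDefectGroup p M B D ∧ (Subgroup.center ↥D).map D.subtype ≤ ((Subgroup.center ↥D₀).map D₀.subtype).map H.subtype ∧ ((Subgroup.center ↥D₀).map D₀.subtype).map H.subtype ≤ D₀.map H.subtype ∧ D₀.map H.subtype ≤ D) ∧ (∀ D : Subgroup G, Cfsg.IsDefectGroup p M B D → IsMulCommutative ↥D → Cfsg.IsDefectGroup p M B (D₀.map H.subtype)) := by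

  classical
  haveI := hM.2.1.isPrime
  haveI := CfsgLib.Blocks.charP_res hM
  haveI := CfsgLib.BlockPairs.isAlgClosed_res hM
  haveI := Fintype.ofFinite G
  haveI := Fintype.ofFinite H
  open CfsgLib.BlockPairs CfsgLib.PiKernel CfsgLib.Blocks in
  have hd := (isDefectGroup_sblk_iff hb D₀).1 hD₀
  set P := D₀.map H.subtype with hPdef
  set e := sblk M H b with he
  have hblk : IsBlock H e := isBlock_sblk hb
  have hm : br P e ∈ sub (Subgroup.centralizer (P : Set G)) (Subgroup.centralizer (P : Set G)) := by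
    have := br_mem_cent_block (P := P) hblk.mem
    rwa [cent, inf_eq_right.2 hC] at this
  obtain ⟨f, hf, hle⟩ := exists_isBlock_below hm
    (br_idem hd.2.1 (hblk.fixed.mono hd.1) hblk.idem) hd.2.2.1
  obtain ⟨ξ, hξ⟩ := isPBlock_nonempty hb
  have hinj : Function.Injective (MonoidHom.id G) := Function.injective_id
  have hmem : ∀ a : Ctr (Res M) G,
      emb (MonoidHom.id G) (a : GA (Res M) G) ∈ sub (⊤ : Subgroup G) ⊤ := fun a => by
    have := emb_mem_sub (φ := MonoidHom.id G) hinj a.2
    rwa [range_id_eq] at this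
  have hmemC : ∀ a : Ctr (Res M) G, br P (emb (MonoidHom.id G) (a : GA (Res M) G)) ∈
      sub (Subgroup.centralizer (P : Set G)) (Subgroup.centralizer (P : Set G)) := fun a => by
    have := br_mem_cent_block (P := P) (hmem a)
    rwa [cent_top] at this
  have key : ∀ a : Ctr (Res M) G, omegaBar M ξ (resCtr H a) =
      omega (Subgroup.centralizer (P : Set G)) f (br P (emb (MonoidHom.id G) (a : GA (Res M) G))) := by
    intro a
    set u := emb H.subtype ((resCtr H a : Ctr (Res M) H) : GA (Res M) H) with hu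
    have hum : u ∈ sub H H := by
      have := emb_mem_sub (φ := H.subtype) H.subtype_injective (resCtr H a).2
      rwa [H.range_subtype] at this
    have hw : omega H e u = omegaBar M ξ (resCtr H a) := by
      have h1 := omega_blkE (φ := H.subtype) H.subtype_injective hb hξ (resCtr H a)
      rw [H.range_subtype] at h1
      exact h1
    have hbu : br P u = br P (emb (MonoidHom.id G) (a : GA (Res M) G)) := by
      refine ga_ext fun g => ?_
      by_cases hg : g ∈ Subgroup.centralizer (P : Set G)
      · rw [br_coeff_mem P _ hg, br_coeff_mem P _ hg]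
        have h1 := emb_coeff_apply (k := Res M) H.subtype_injective
          ((resCtr H a : Ctr (Res M) H) : GA (Res M) H) ⟨g, hC hg⟩
        have h2 := emb_coeff_apply (k := Res M) hinj (a : GA (Res M) G) g
        rw [Subgroup.coe_subtype] at h1
        rw [hu, h1, coeff_resCtr]
        exact h2.symm
      · rw [br_coeff_not_mem P _ hg, br_coeff_not_mem P _ hg]
    symm
    refine omega_unique hf (hmemC a) ?_
    rw [← hbu, ← hw]
    obtain ⟨n, hn⟩ := isNilpotent_omega hblk hum
    set y := u * e - omega H e u • e with hy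
    have hym : y ∈ sub H H := sub_mem (mul_mem hum hblk.mem) (Subalgebra.smul_mem _ hblk.mem _)
    have hpow : ∀ k : ℕ, br P y ^ k = br P (y ^ k) := by
      intro k
      induction k with
      | zero => rw [pow_zero, pow_zero, br_one]
      | succ k ih =>
        rw [pow_succ, pow_succ, ih,
          br_mul hd.2.1 ((pow_mem hym k).2.mono hd.1) (hym.2.mono hd.1)]
    have heq : br P u * f - omega H e u • f = br P y * f := by
      rw [hy, br_sub, br_mul hd.2.1 (hum.2.mono hd.1) (hblk.fixed.mono hd.1), br_smul, sub_mul,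
        smul_mul_assoc, mul_assoc, hle]
    have hymC : br P y ∈ sub (Subgroup.centralizer (P : Set G))
        (Subgroup.centralizer (P : Set G)) := by
      have := br_mem_cent_block (P := P) hym
      rwa [cent, inf_eq_right.2 hC] at this
    rw [heq]
    exact Commute.isNilpotent_mul_right (sub_comm hymC hf.mem)
      ⟨n, by rw [hpow, hn, br_zero]⟩
  refine ⟨(inducedBlockDefined_iff H hb hξ).2 fun a a' => ?_, ?_⟩
  · rw [key, key, key, Subring.coe_mul, map_mul,
      br_mul hd.2.1 ((hmem a).2.mono le_top) ((hmem a').2.mono le_top),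
      omega_mul hf (hmemC a) (hmemC a')]
  intro B hind
  have hgb := isBlock_gblk (M := M) hind.2.1
  have hhas : BlockHas p ⊤ (gblk M B) P f := blockHas_of_induced hind hd.2.1 hd.1 hC hf hle
  obtain ⟨D, e', hmax, hPD⟩ := exists_le_maxPair hgb hhas
  have hDd := (hmax.isDefectGrp hgb).1
  have hcen : (Subgroup.center ↥D).map D.subtype ≤ P := by
    rintro _ ⟨z, hz, rfl⟩
    set U := P ⊔ Subgroup.zpowers (z : G) with hU
    have hzC : (z : G) ∈ Subgroup.centralizer (P : Set G) := Subgroup.mem_centralizer_iff.2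
      fun w hw => congrArg Subtype.val (Subgroup.mem_center_iff.1 hz ⟨w, hPD.subgroup_le hw⟩)
    have hUD : U ≤ D := sup_le hPD.subgroup_le (Subgroup.zpowers_le.2 z.2)
    have hUH : U ≤ H := sup_le hd.1 (Subgroup.zpowers_le.2 (hC hzC))
    have hUN : U ≤ Subgroup.normalizer (P : Set G) :=
      sup_le Subgroup.le_normalizer
        (Subgroup.zpowers_le.2 (Subgroup.centralizer_le_normalizer _ hzC))
    have hUp : IsPGroup p U := hDd.2.1.to_le hUD
    obtain ⟨g, hg, -⟩ := step_of_le hPD hmax.1.1 le_sup_left hUD hUN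
    have hne : br U e ≠ 0 := by
      intro h0
      refine hg.br_ne_zero ?_
      have h1 := congrArg (br U) hle
      rw [br_mul hUp (isFixed_br hUN (hblk.fixed.mono hUH)) hg.2.2.2.2.1,
        br_br_of_le le_sup_left, h0, zero_mul] at h1
      exact h1.symm
    have hUP : U = P := card_le_of_le_defect hd hUH hUp hne le_sup_left
    exact hUP ▸ Subgroup.mem_sup_right (Subgroup.mem_zpowers (z : G))
  refine ⟨⟨D, (isDefectGroup_gblk_iff hind.2.1 D).2 hDd, ?_, ?_, hPD.subgroup_le⟩, ?_⟩
  · intro x hx
    obtain ⟨x', hx', rfl⟩ := hcen hx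
    obtain ⟨z, hz, hzx⟩ := hx
    refine ⟨x', ⟨⟨x', hx'⟩, Subgroup.mem_center_iff.2 fun w => Subtype.ext (Subtype.ext ?_), rfl⟩,
      rfl⟩
    have hw : ((w : ↥H) : G) ∈ D := hPD.subgroup_le (Subgroup.mem_map_of_mem _ w.2)
    have h1 := congrArg Subtype.val (Subgroup.mem_center_iff.1 hz ⟨_, hw⟩)
    simp only [Subgroup.coe_mul] at h1 ⊢
    rwa [show (z : G) = (x' : G) from hzx] at h1
  · exact Subgroup.map_mono (Subgroup.map_subtype_le _)
  · intro E hE hcomm
    rw [isDefectGroup_gblk_iff hind.2.1] at hE ⊢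
    obtain ⟨x, -, hx⟩ := hDd.conj_of hE
    have hDP : D = P := by
      refine le_antisymm (fun u hu => hcen ⟨⟨u, hu⟩, Subgroup.mem_center_iff.2 fun w => ?_, rfl⟩)
        hPD.subgroup_le
      obtain ⟨w, hw⟩ := w
      have hu' := mem_cj.1 (hx.ge hu)
      have hw' := mem_cj.1 (hx.ge hw)
      have h1 : (⟨_, hw'⟩ : ↥E) * ⟨_, hu'⟩ = ⟨_, hu'⟩ * ⟨_, hw'⟩ := hcomm.is_comm.comm _ _
      have h2 := congrArg (fun v : ↥E => x * (v : G) * x⁻¹) h1
      apply Subtype.ext
      simpa [mul_assoc] using h2
    exact hDP ▸ hDd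

end Cfsg.Agent.S4726
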