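import Cfsg.Statements.S4727
import Cfsg.Agent.PiKernel.Bridge
import Cfsg.Agent.Blocks.Sections

set_option autoImplicit false
set_option linter.style.haveILetI false
open Cfsg

namespace Cfsg.Agent.S4727

/-- Let p be a prime, π a set of primes containing p, M a maximal ideal of the algebraic integers containing p, and B a p-block of the finite group G with defect group D; let B₁ be the block of N_G(D) with defect group D that induces B (the Brauer correspondent of B). Suppose every element of O_π'(N_G(D)), the largest normal subgroup of N_G(D) whose order has no prime divisor in π, lies in the kernel of every member of B₁. If y is a p-element whose centralizer C has a normal Hall π'-subgroup (every element of C whose order has no prime divisor in π lies in O_π'(C)), then χ(y x) = χ(y) for every χ ∈ B and every x ∈ C whose order has no prime divisor in π. -/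
theorem result {G : Type*} [Group G] [Finite G] (p : ℕ) [Fact p.Prime] (M : Ideal Cfsg.AlgInt) (hM : Cfsg.IsPModular p M) (π : Set ℕ) (hpπ : p ∈ π) (B : Set (Cfsg.IrrCharacter G)) (hB : Cfsg.IsPBlock M B) (D : Subgroup G) (hBD : Cfsg.IsDefectGroup p M B D) (B₁ : Set (Cfsg.IrrCharacter ↥(Subgroup.normalizer (D : Set G)))) (hB₁ : Cfsg.IsInducedBlock M (Subgroup.normalizer (D : Set G)) B₁ B) (hB₁D : Cfsg.IsDefectGroup p M B₁ (D.subgroupOf (Subgroup.normalizer (D : Set G)))) (hker : ∀ n : ↥(Subgroup.normalizer (D : Set G)), n ∈ Cfsg.piCore {q | q ∉ π} ↥(Subgroup.normalizer (D : Set G)) → n ∈ Cfsg.blockKer B₁) (y : G) (hy : ∃ k : ℕ, orderOf y = p ^ k) (hC : ∀ x : ↥(Subgroup.centralizer ({y} : Set G)), (∀ q : ℕ, q.Prime → q ∣ orderOf x → q ∉ π) → x ∈ Cfsg.piCore {q | q ∉ π} ↥(Subgroup.centralizer ({y} : Set G))) : ∀ χ ∈ B, ∀ x : G, x ∈ Subgroup.centralizer ({y} : Set G) → (∀ q : ℕ, q.Prime → q ∣ orderOf x → q ∉ π) → (χ : G → ℂ) (y * x) = (χ : G → ℂ) y := by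

  classical
  haveI := hM.2.1.isPrime
  haveI := CfsgLib.Blocks.charP_res hM
  haveI := CfsgLib.BlockPairs.isAlgClosed_res hM
  haveI := Fintype.ofFinite G
  haveI := Fintype.ofFinite (Subgroup.centralizer ({y} : Set G))
  open CfsgLib.BlockPairs CfsgLib.PiKernel CfsgLib.Blocks in
  intro χ hχ x hx hxo
  set Q := Subgroup.zpowers y with hQdef
  have hQ : IsPGroup p Q := by
    obtain ⟨k, hk⟩ := hy
    exact IsPGroup.of_card (n := k) (by rw [Nat.card_zpowers, hk])
  have hCQ : Subgroup.centralizer (Q : Set G) = Subgroup.centralizer ({y} : Set G) := by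
    rw [hQdef, Subgroup.zpowers_eq_closure, Subgroup.centralizer_closure]
  have hQC : Q ≤ Subgroup.centralizer ({y} : Set G) :=
    Subgroup.zpowers_le.2 (Subgroup.mem_centralizer_singleton_iff.2 rfl)
  set A := overSet M (Subgroup.centralizer ({y} : Set G)) B (isBlockUnion_of_isPBlock hB)
  have hAker : ∀ ξ ∈ A, ∀ z : Subgroup.centralizer ({y} : Set G),
      (z : G) ∈ core π (Subgroup.centralizer ({y} : Set G)) →
      (ξ : Subgroup.centralizer ({y} : Set G) → ℂ) z =
        (ξ : Subgroup.centralizer ({y} : Set G) → ℂ) 1 := by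
    intro ξ hξ z hz
    have hind := isInducedBlock_of_mem_overSet hM hy hB hξ
    have hblk := isBlock_sblk (M := M) hind.1
    set e := sblk M (Subgroup.centralizer ({y} : Set G))
      (Cfsg.blockOf M (ξ : Subgroup.centralizer ({y} : Set G) → ℂ)) with he
    have hbr : br Q e = e := br_eq_self (by rw [hCQ]; exact hblk.supp)
    have hg : Good π Q e := good_of_local_kernel hpπ hBD hB₁ hker
      (blockHas_of_induced hind hQ hQC hCQ.le (by rw [hCQ]; exact hblk)
        (by rw [← he, hbr]; exact hblk.idem))
    unfold Good at hg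
    rw [hCQ] at hg
    exact (avg_mul_sblk_iff hind.1 (core_le _) (le_normalizer_core _)
      (not_dvd_card_of_isPi hpπ (isPi_core _))).1 hg ξ (mem_blockOf_self ξ) z hz
  set c : Subgroup.centralizer ({y} : Set G) := ⟨x, hx⟩ with hc
  have hcore : (c : G) ∈ core π (Subgroup.centralizer ({y} : Set G)) :=
    mem_core_iff.2 (hC c fun q hq hd => hxo q hq (by rwa [← Subgroup.orderOf_coe] at hd))
  have hp' : ¬ p ∣ orderOf c := fun hd =>
    hxo p Fact.out (by rwa [← Subgroup.orderOf_coe] at hd) hpπ
  have h1 := blockPart_overSet hM hy hB χ hp'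
  have h2 := blockPart_overSet hM hy hB χ
    (y := (1 : Subgroup.centralizer ({y} : Set G))) (by
      rw [orderOf_one]; exact (Fact.out : p.Prime).not_dvd_one)
  rw [if_pos hχ] at h1 h2
  simp only [hc, Subgroup.coe_one, mul_one] at h1 h2
  rw [← h1, ← h2, Cfsg.blockPart, Cfsg.blockPart]
  exact finsum_mem_congr rfl fun ξ hξ => by rw [hAker ξ hξ c hcore]

end Cfsg.Agent.S4727
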