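import Cfsg.Statements.S4728
import Cfsg.Agent.PiKernel.Bridge

set_option autoImplicit false
set_option linter.style.haveILetI false
open Cfsg

namespace Cfsg.Agent.S4728

/-- Let p be a prime, π a set of primes containing p, M a maximal ideal of the algebraic integers containing p, B a p-block of the finite group G with defect group D, and B₁ the block of N_G(D) with defect group D inducing B. Let D₀ be a p-subgroup, H₀ = D₀·C_G(D₀), and b a block of H₀ inducing B. Write O_π'(X) for the largest normal subgroup of X whose order has no prime divisor in π. Suppose that O_π'(C_G(D₀)) is a normal Hall π'-subgroup of C_G(D₀) (it contains every element of C_G(D₀) whose order has no prime divisor in π) and that every element of it lies in the kernel of every member of b. Then every element of O_π'(N_G(D)) lies in the kernel of every member of B₁. -/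
theorem result {G : Type*} [Group G] [Finite G] (p : ℕ) [Fact p.Prime] (M : Ideal Cfsg.AlgInt) (hM : Cfsg.IsPModular p M) (π : Set ℕ) (hpπ : p ∈ π) (B : Set (Cfsg.IrrCharacter G)) (hB : Cfsg.IsPBlock M B) (D : Subgroup G) (hBD : Cfsg.IsDefectGroup p M B D) (B₁ : Set (Cfsg.IrrCharacter ↥(Subgroup.normalizer (D : Set G)))) (hB₁ : Cfsg.IsInducedBlock M (Subgroup.normalizer (D : Set G)) B₁ B) (hB₁D : Cfsg.IsDefectGroup p M B₁ (D.subgroupOf (Subgroup.normalizer (D : Set G)))) (D₀ : Subgroup G) (hD₀ : IsPGroup p D₀) (H₀ : Subgroup G) (hH₀ : H₀ = D₀ ⊔ Subgroup.centralizer (D₀ : Set G)) (b : Set (Cfsg.IrrCharacter ↥H₀)) (hb : Cfsg.IsInducedBlock M H₀ b B) (hcompl : ∀ x : ↥(Subgroup.centralizer (D₀ : Set G)), (∀ q : ℕ, q.Prime → q ∣ orderOf x → q ∉ π) → x ∈ Cfsg.piCore {q | q ∉ π} ↥(Subgroup.centralizer (D₀ : Set G))) (hkerb : ∀ x : ↥(Subgroup.centralizer (D₀ : Set G)), x ∈ Cfsg.piCore {q | q ∉ π} ↥(Subgroup.centralizer (D₀ : Set G)) → ∀ θ ∈ b, ∀ h : ↥H₀, (h : G) = (x :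 G) → (θ : ↥H₀ → ℂ) h = (θ : ↥H₀ → ℂ) 1) : ∀ n : ↥(Subgroup.normalizer (D : Set G)), n ∈ Cfsg.piCore {q | q ∉ π} ↥(Subgroup.normalizer (D : Set G)) → n ∈ Cfsg.blockKer B₁ := by

  haveI := hM.2.1.isPrime
  haveI := CfsgLib.Blocks.charP_res hM
  haveI := CfsgLib.BlockPairs.isAlgClosed_res hM
  open CfsgLib.BlockPairs CfsgLib.PiKernel in
  intro n hn
  have hDH : D₀ ≤ H₀ := hH₀ ▸ le_sup_left
  have hCH : Subgroup.centralizer (D₀ : Set G) ≤ H₀ := hH₀ ▸ le_sup_right
  have hHN : H₀ ≤ Subgroup.normalizer (D₀ : Set G) := hH₀ ▸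
    sup_le Subgroup.le_normalizer (Subgroup.centralizer_le_normalizer _)
  have hblk := isBlock_sblk (M := M) hb.1
  have hbr : br D₀ (sblk M H₀ b) = sblk M H₀ b :=
    br_eq_self_of_normal hD₀ hDH hHN hblk.mem hblk.idem
  obtain ⟨f, hf, -, hle⟩ := exists_blockHas_of_induced hb hD₀ hDH hCH
    (by rw [hbr]; exact hblk.ne_zero)
  rw [hbr] at hle
  set O := core π (Subgroup.centralizer (D₀ : Set G)) with hO
  have hHO : H₀ ≤ Subgroup.normalizer (O : Set G) :=
    (hHN.trans (normalizer_le_normalizer_centralizer D₀)).trans (normalizer_le_core _)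
  have hk : avg (CfsgLib.Blocks.Res M) O * sblk M H₀ b = sblk M H₀ b := by
    refine (avg_mul_sblk_iff hb.1 ((core_le _).trans hCH) hHO
      (not_dvd_card_of_isPi hpπ (isPi_core _))).2 fun θ hθ h hh => ?_
    exact hkerb ⟨h, core_le _ hh⟩ (mem_core_iff.1 hh) θ hθ h rfl
  have hgood : Good π D₀ f := by
    unfold Good
    rw [← hle, ← mul_assoc, hk]
  have hfull : Full π D₀ := fun x hx hxo =>
    mem_core_iff.2 (hcompl ⟨x, hx⟩ fun q hq hd => hxo q hq (by rwa [← Subgroup.orderOf_coe] at hd))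
  exact local_kernel_of_good hpπ hBD hB₁
    (fun e he => good_of_full hpπ (isBlock_gblk hB) hf hfull hgood he) hn

end Cfsg.Agent.S4728
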