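import Cfsg.Statements.S4730
import Cfsg.Agent.Characters.Burnside
import Cfsg.Agent.ClassPairs.Basic
import Cfsg.Agent.Blocks.Idempotent

set_option autoImplicit false
open Cfsg

namespace Cfsg.Agent.S4730

/-- Let p be a prime, M a maximal ideal of the algebraic integers containing p, and G a finite group with trivial centre, Sylow p-subgroup P of order p^a and centre Z(P) of order p^b. If χ is a faithful irreducible character of G whose degree is a power of p, then the p-block of χ has defect at most a − b; in particular, if P is abelian then χ lies in a block of defect zero. -/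
theorem result {G : Type*} [Group G] [Finite G] (p : ℕ) [Fact p.Prime] (M : Ideal Cfsg.AlgInt) (hM : Cfsg.IsPModular p M) (hZ : Subgroup.center G = ⊥) (P : Sylow p G) (a b : ℕ) (ha : Nat.card P = p ^ a) (hb : Nat.card (Subgroup.center ↥(P : Subgroup G)) = p ^ b) (χ : Cfsg.IrrCharacter G) (hfaith : ∀ g : G, (χ : G → ℂ) g = (χ : G → ℂ) 1 → g = 1) (n : ℕ) (hdeg : Cfsg.charDegree (χ : G → ℂ) = p ^ n) : Cfsg.blockDefect p (Cfsg.blockOf M (χ : G → ℂ)) ≤ a - b ∧ (IsMulCommutative ↥(P : Subgroup G) → Cfsg.blockDefect p (Cfsg.blockOf M (χ : G → ℂ)) = 0) := by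
  classical
  have := Fintype.ofFinite G
  have := CfsgLib.Blocks.IsPModular.isPrime hM
  have hpp : p.Prime := Fact.out
  let Z : Subgroup G := (Subgroup.center ↥(P : Subgroup G)).map (P : Subgroup G).subtype
  have hZcard : Nat.card ↥Z = p ^ b := by
    rw [← hb, Subgroup.card_map_of_injective (P : Subgroup G).subtype_injective]
  -- class sizes of elements of `Z` are prime to `p`
  have hindex : ∀ z ∈ Z, ¬ p ∣ (Subgroup.centralizer ({z} : Set G)).index := by
    rintro _ ⟨⟨z, hzP⟩, hz, rfl⟩ hdvd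
    refine P.not_dvd_index (hdvd.trans (Subgroup.index_dvd_of_le ?_))
    intro x hx
    rw [Subgroup.mem_centralizer_singleton_iff]
    exact congrArg Subtype.val (Subgroup.mem_center_iff.1 hz ⟨x, hx⟩)
  -- `χ` vanishes on `Z` off the identity
  have hzero : ∀ z ∈ Z, z ≠ 1 → (χ : G → ℂ) z = 0 := by
    intro z hz hz1
    obtain ⟨d, ρ, hρ, hρc⟩ := χ.2
    have hd : Module.finrank ℂ (Fin d → ℂ) = p ^ n := by
      rw [← hdeg, Cfsg.charDegree, ← hρc, Representation.char_one]
      simp
    have hcop : Nat.Coprime (Module.finrank ℂ (Fin d → ℂ))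
        (Subgroup.centralizer ({z} : Set G)).index := by
      rw [hd]
      exact Nat.Coprime.pow_left n (hpp.coprime_iff_not_dvd.2 (hindex z hz))
    rcases CfsgLib.Characters.char_zero_or_norm_of_coprime ρ z hcop with h | h
    · rw [← hρc]; exact h
    · exfalso
      obtain ⟨ω, hω, -⟩ := CfsgLib.Characters.exists_scalar_of_norm_char_eq ρ z h
      have hcen : z ∈ Subgroup.center G := by
        refine Subgroup.mem_center_iff.2 fun g => ?_
        have hk : ρ (g * z * (z * g)⁻¹) = 1 := by
          have h1 : ρ (g * z) = ρ (z * g) := by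
            rw [map_mul, map_mul, hω]; ext v; simp
          rw [map_mul, h1, ← map_mul, mul_inv_cancel, map_one]
        have h2 : g * z * (z * g)⁻¹ = 1 := by
          refine hfaith _ ?_
          rw [← hρc, Representation.character, Representation.character, hk, map_one ρ]
        exact mul_inv_eq_one.1 h2
      rw [hZ, Subgroup.mem_bot] at hcen
      exact hz1 hcen
  -- every member of the block has degree divisible by `p ^ b`
  have hall : ∀ ψ ∈ Cfsg.blockOf M (χ : G → ℂ),
      b ≤ (Cfsg.charDegree (ψ : G → ℂ)).factorization p := by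
    intro ψ hψ
    obtain ⟨d, hd0, hd1, hdd, -⟩ := CfsgLib.ClassPairs.exists_irr_degree ψ
    rw [hdd]
    by_contra hlt
    set h := d.factorization p with hh
    set o := ordCompl[p] d with ho
    have hdo : d = p ^ h * o := (Nat.ordProj_mul_ordCompl_eq_self d p).symm
    obtain ⟨m, hm⟩ := CfsgLib.Characters.classInner_characters (G := ↥Z)
      (CfsgLib.Characters.isCharacter_restrict Z (CfsgLib.Characters.isCharacter_of_isIrr ψ.2))
      (η := fun _ : ↥Z => (1 : ℂ)) ⟨1, Representation.trivial ℂ ↥Z (Fin 1 → ℂ), by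
        funext g; simp [Representation.character]⟩
    rw [Cfsg.classInner, inv_mul_eq_iff_eq_mul₀ CfsgLib.Characters.natCard_ne_zero, hZcard] at hm
    simp only [map_one, mul_one, Nat.cast_pow] at hm
    have hsmall : ∀ z : ↥Z, z ≠ 1 →
        Cfsg.MemLocalIdeal M ((ψ : G → ℂ) (z : G) / (ψ : G → ℂ) 1) := by
      intro z hz1
      have h1 := hψ (z : G)
      rw [Cfsg.centralChar, Cfsg.centralChar, hzero z z.2 (fun he => hz1 (Subtype.ext he))] at h1
      have hI : ((Subgroup.centralizer ({(z : G)} : Set G)).index : ℂ) ≠ 0 :=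
        Nat.cast_ne_zero.2 Subgroup.index_ne_zero_of_finite
      have e : (ψ : G → ℂ) (z : G) / (ψ : G → ℂ) 1 =
          -(((((Subgroup.centralizer ({(z : G)} : Set G)).index : ℂ) * 0 / (χ : G → ℂ) 1 -
            ((Subgroup.centralizer ({(z : G)} : Set G)).index : ℂ) * (ψ : G → ℂ) (z : G) /
              (ψ : G → ℂ) 1)) * ((Subgroup.centralizer ({(z : G)} : Set G)).index : ℂ)⁻¹) := by
        field_simp
        ring
      rw [e]
      exact CfsgLib.Blocks.memLocalIdeal_neg (CfsgLib.Blocks.memLocalIdeal_mul_right h1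
        (CfsgLib.Blocks.memLocalRing_natCast_inv hM (hindex z z.2)))
    set i := ∑ z ∈ Finset.univ.erase (1 : ↥Z), (ψ : G → ℂ) (z : G) / (ψ : G → ℂ) 1 with hi
    have hI : Cfsg.MemLocalIdeal M i := CfsgLib.Blocks.memLocalIdeal_sum _ fun z hz =>
      hsmall z (Finset.mem_erase.1 hz).1
    have hirr : (ψ : G → ℂ) 1 ≠ 0 := CfsgLib.Characters.irr_one_ne_zero ψ.2
    have hsplit : (ψ : G → ℂ) 1 * (1 + i) = ((p : ℂ) ^ b) * (m : ℂ) := by
      rw [← hm, ← Finset.add_sum_erase _ _ (Finset.mem_univ (1 : ↥Z)), hi, mul_add, mul_one,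
        Finset.mul_sum]
      congr 1
      refine Finset.sum_congr rfl fun z _ => ?_
      field_simp
    have hkey : (o : ℂ) = (p : ℂ) * (((p : ℂ) ^ (b - h - 1) * (m : ℂ))) + -((o : ℂ) * i) := by
      have h3 : (p : ℂ) ^ h * ((o : ℂ) * (1 + i)) = (p : ℂ) ^ h * ((p : ℂ) * ((p : ℂ) ^ (b - h - 1) * m)) := by
        rw [show (p : ℂ) ^ h * ((p : ℂ) * ((p : ℂ) ^ (b - h - 1) * m)) = (p : ℂ) ^ (h + 1 + (b - h - 1)) * m by
          ring, show h + 1 + (b - h - 1) = b by omega, ← hsplit, hd1]
        conv_rhs => rw [hdo]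
        push_cast
        ring
      have h4 := mul_left_cancel₀ (pow_ne_zero h (Nat.cast_ne_zero.2 hpp.ne_zero)) h3
      rw [← h4]; ring
    have hom : Cfsg.MemLocalIdeal M (o : ℂ) := by
      rw [hkey]
      refine CfsgLib.Blocks.memLocalIdeal_add (CfsgLib.Blocks.memLocalIdeal_mul_right
        ((CfsgLib.Blocks.memLocalIdeal_natCast_iff hM p).2 dvd_rfl)
        ((CfsgLib.Blocks.localRing M).mul_mem ((CfsgLib.Blocks.localRing M).pow_mem
          (CfsgLib.Blocks.memLocalRing_natCast p) _) (CfsgLib.Blocks.memLocalRing_natCast m)))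
        (CfsgLib.Blocks.memLocalIdeal_neg
          (CfsgLib.Blocks.memLocalIdeal_mul_left (CfsgLib.Blocks.memLocalRing_natCast o) hI))
    exact Nat.not_dvd_ordCompl hpp hd0.ne' ((CfsgLib.Blocks.memLocalIdeal_natCast_iff hM o).1 hom)
  have hav : (Nat.card G).factorization p = a := by
    have h1 := P.card_eq_multiplicity
    rw [ha] at h1
    exact (Nat.pow_right_injective hpp.two_le h1).symm
  have hne := (CfsgLib.Blocks.mem_blockOf_self (M := M) χ)
  have hinf : b ≤ sInf ((fun ψ : Cfsg.IrrCharacter G => (Cfsg.charDegree (ψ : G → ℂ)).factorization p) ''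
      Cfsg.blockOf M (χ : G → ℂ)) :=
    le_csInf (Set.Nonempty.image _ ⟨χ, hne⟩) (by rintro _ ⟨ψ, hψ, rfl⟩; exact hall ψ hψ)
  have hdef : Cfsg.blockDefect p (Cfsg.blockOf M (χ : G → ℂ)) ≤ a - b := by
    unfold Cfsg.blockDefect
    rw [hav]
    exact Nat.sub_le_sub_left hinf a
  refine ⟨hdef, fun hab => ?_⟩
  have htop : Subgroup.center ↥(P : Subgroup G) = ⊤ :=
    eq_top_iff.2 fun x _ => Subgroup.mem_center_iff.2 fun y => hab.is_comm.comm y x
  rw [htop, Subgroup.card_top, ha] at hb
  have := Nat.pow_right_injective hpp.two_le hb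
  omega

end Cfsg.Agent.S4730
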