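import Cfsg.Statements.S4731
import Cfsg.Agent.Blocks.Sections
import Cfsg.Agent.Blocks.Height
import Cfsg.Agent.Characters.Linear

set_option autoImplicit false
set_option linter.style.haveILetI false
open Cfsg

namespace Cfsg.Agent.S4731

/-- Let p ≠ q be primes, M_p and M_q maximal ideals of the algebraic integers containing p and q respectively, and G a finite group with no element of order pq; let q^b be the q-part of the order of G. For a p-block B_p (relative to M_p), a q-block B_q (relative to M_q) and a p-singular element y, the sum of χ(1)χ(y) over the irreducible characters χ lying in both B_p and B_q is q^b times an algebraic integer. -/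
theorem result {G : Type*} [Group G] [Finite G] (p q : ℕ) [Fact p.Prime] [Fact q.Prime] (hpq : p ≠ q) (Mp Mq : Ideal Cfsg.AlgInt) (hMp : Cfsg.IsPModular p Mp) (hMq : Cfsg.IsPModular q Mq) (hno : ∀ g : G, orderOf g ≠ p * q) (b : ℕ) (hb : (Nat.card G).factorization q = b) (Bp : Set (Cfsg.IrrCharacter G)) (hBp : Cfsg.IsPBlock Mp Bp) (Bq : Set (Cfsg.IrrCharacter G)) (hBq : Cfsg.IsPBlock Mq Bq) (y : G) (hy : p ∣ orderOf y) : ∃ ω : Cfsg.AlgInt, ∑ᶠ χ ∈ Bp ∩ Bq, (Cfsg.charDegree (χ : G → ℂ) : ℂ) * (χ : G → ℂ) y = (q : ℂ) ^ b * (ω : ℂ) := by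
  classical
  letI : Fintype G := Fintype.ofFinite G
  haveI := CfsgLib.Blocks.IsPModular.isPrime hMp
  haveI := CfsgLib.Blocks.IsPModular.isPrime hMq
  have hp : p.Prime := Fact.out
  have hq : q.Prime := Fact.out
  set c : Cfsg.IrrCharacter G → ℂ := fun χ => if χ ∈ Bp then (χ : G → ℂ) y else 0 with hc
  have hqs : ∀ g : G, q ∣ orderOf g → ∑ χ, c χ * (χ : G → ℂ) g = 0 := by
    intro g hg
    have hpg : ¬ p ∣ orderOf g := by
      intro hpg
      obtain ⟨k, hk⟩ := Nat.Coprime.mul_dvd_of_dvd_of_dvd ((Nat.coprime_primes hp hq).2 hpq) hpg hg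
      refine hno (g ^ k) ?_
      have hk0 : k ≠ 0 := by
        rintro rfl
        exact (orderOf_pos g).ne' (hk.trans (mul_zero _))
      rw [orderOf_pow_of_dvd hk0 ⟨p * q, hk.trans (mul_comm _ _)⟩, hk,
        Nat.mul_div_cancel _ (Nat.pos_of_ne_zero hk0)]
    refine Eq.trans ?_ (CfsgLib.Blocks.sum_union_mul_conj_eq_zero hMp
      (CfsgLib.Blocks.isBlockUnion_of_isPBlock hBp) hpg (y := y⁻¹) (by rwa [orderOf_inv]))
    refine Finset.sum_congr rfl fun χ _ => ?_
    simp only [hc]
    split_ifs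
    · rw [← CfsgLib.Characters.character_inv (CfsgLib.Characters.isCharacter_of_isIrr χ.2),
        inv_inv, mul_comm]
    · rw [zero_mul]
  set ϑ : G → ℂ := ∑ χ, c χ • (χ : G → ℂ) with hϑ
  have hcl : Cfsg.IsClassFunction G ϑ := fun g x => by
    simp only [hϑ, Finset.sum_apply, Pi.smul_apply]
    exact Finset.sum_congr rfl fun χ _ => by
      rw [CfsgLib.Characters.isClassFunction_of_isIrr χ.2 g x]
  have hF : ∀ g : G, q ∣ orderOf g →
      ∑ χ : Cfsg.IrrCharacter G, (if χ ∈ Bq then c χ * (χ : G → ℂ) g else 0) = 0 := by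
    intro g hg
    obtain ⟨z, hz⟩ := CfsgLib.Blocks.exists_isPPart hq g
    have key := CfsgLib.Blocks.blockPart_eq_zero_of_section hMq hcl (x := z)
      (fun u v hu huv => ?_) hBq hz (IsConj.refl z)
    · rw [Cfsg.blockPart, CfsgLib.Blocks.finsum_irr_mem] at key
      refine Eq.trans (Finset.sum_congr ?_ fun χ _ => ?_) key
      · ext; simp
      · rw [hϑ, CfsgLib.Characters.classInner_irr_coeff]
    · rw [hϑ, Finset.sum_apply]
      refine Eq.trans (Finset.sum_congr rfl fun χ _ => rfl) (hqs u ?_)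
      obtain ⟨s, rfl, hcomm, ⟨k, hk⟩, hs⟩ := hu
      have hz1 : z ≠ 1 := by
        rintro rfl
        obtain ⟨s', hs', -, -, hso⟩ := hz
        rw [one_mul] at hs'
        exact hso (hs' ▸ hg)
      have hv1 : k ≠ 0 := by
        rintro rfl
        rw [pow_zero, orderOf_eq_one_iff] at hk
        subst hk
        exact hz1 (isConj_one_left.1 huv)
      rw [hcomm.orderOf_mul_eq_mul_orderOf_of_coprime
        (by rw [hk]; exact (hq.coprime_iff_not_dvd.2 hs).pow_left k), hk]
      exact Dvd.dvd.mul_right (dvd_pow_self q hv1) _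
  obtain ⟨S⟩ : Nonempty (Sylow q G) := inferInstance
  letI : Fintype (S : Subgroup G) := Fintype.ofFinite _
  choose m hm using fun χ : Cfsg.IrrCharacter G => CfsgLib.Characters.classInner_character_irr
    (CfsgLib.Characters.isCharacter_restrict (S : Subgroup G)
      (CfsgLib.Characters.isCharacter_of_isIrr χ.2))
    (CfsgLib.Characters.isIrr_one (G := (S : Subgroup G)))
  refine ⟨⟨∑ χ : Cfsg.IrrCharacter G, (if χ ∈ Bq then c χ * (m χ : ℂ) else 0), ?_⟩, ?_⟩
  · refine Subalgebra.sum_mem _ fun χ _ => ?_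
    simp only [hc]
    split_ifs
    · exact Subalgebra.mul_mem _
        (CfsgLib.Characters.character_isIntegral (CfsgLib.Characters.isCharacter_of_isIrr χ.2) y)
        (natCast_mem _ _)
    · simp
    · exact Subalgebra.zero_mem _
  have hS : (Nat.card (S : Subgroup G) : ℂ) = (q : ℂ) ^ b := by
    rw [S.card_eq_multiplicity, hb, Nat.cast_pow]
  have h1 : ∑ χ : Cfsg.IrrCharacter G, (if χ ∈ Bq then c χ * (χ : G → ℂ) 1 else 0) =
      (q : ℂ) ^ b * ∑ χ : Cfsg.IrrCharacter G, (if χ ∈ Bq then c χ * (m χ : ℂ) else 0) := by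
    have e : ∀ χ : Cfsg.IrrCharacter G,
        (q : ℂ) ^ b * (if χ ∈ Bq then c χ * (m χ : ℂ) else 0) =
          ∑ u : (S : Subgroup G), (if χ ∈ Bq then c χ * (χ : G → ℂ) u else 0) := by
      intro χ
      split_ifs
      · rw [← hm χ, Cfsg.classInner, ← hS, mul_left_comm, mul_inv_cancel_left₀
          CfsgLib.Characters.natCard_ne_zero, Finset.mul_sum]
        simp
      · simp
    rw [Finset.mul_sum, Finset.sum_congr rfl fun χ _ => e χ, Finset.sum_comm,
      Finset.sum_eq_single (1 : (S : Subgroup G)) (fun u _ hu => hF u ?_) (by simp)]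
    · rfl
    obtain ⟨k, hk⟩ := IsPGroup.iff_orderOf.1 S.isPGroup' u
    rw [Subgroup.orderOf_coe, hk]
    refine dvd_pow_self q fun h0 => hu (orderOf_eq_one_iff.1 ?_)
    rw [hk, h0, pow_zero]
  refine Eq.trans ?_ h1
  rw [CfsgLib.Blocks.finsum_irr_mem]
  refine Finset.sum_congr ?_ fun χ _ => ?_
  · ext; simp
  simp only [hc, Set.mem_inter_iff]
  rw [CfsgLib.Blocks.charDegree_cast]
  by_cases h1 : χ ∈ Bp <;> by_cases h2 : χ ∈ Bq <;> simp [h1, h2, mul_comm]

end Cfsg.Agent.S4731
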