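import Cfsg.Statements.S4734
import Cfsg.Agent.PiKernel.Bridge

set_option autoImplicit false
set_option linter.style.haveILetI false
open Cfsg

namespace Cfsg.Agent.S4734

/-- Let p be a prime, π a set of primes containing p, M a maximal ideal of the algebraic integers containing p, B a p-block of the finite group G with defect group D, and B₁ the block of N_G(D) with defect group D inducing B. Write O_π'(X) for the largest normal subgroup of X whose order has no prime divisor in π, and suppose every element of O_π'(N_G(D)) lies in the kernel of every member of B₁. Let G₀ be a subgroup and B₀ a block of G₀ with defect group D₀ such that C_G(D₀) ≤ G₀ and B₀ induces B. Then every element of O_π'(G₀) lies in the kernel of every member of B₀. -/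
theorem result {G : Type*} [Group G] [Finite G] (p : ℕ) [Fact p.Prime] (M : Ideal Cfsg.AlgInt) (hM : Cfsg.IsPModular p M) (π : Set ℕ) (hpπ : p ∈ π) (B : Set (Cfsg.IrrCharacter G)) (hB : Cfsg.IsPBlock M B) (D : Subgroup G) (hBD : Cfsg.IsDefectGroup p M B D) (B₁ : Set (Cfsg.IrrCharacter ↥(Subgroup.normalizer (D : Set G)))) (hB₁ : Cfsg.IsInducedBlock M (Subgroup.normalizer (D : Set G)) B₁ B) (hB₁D : Cfsg.IsDefectGroup p M B₁ (D.subgroupOf (Subgroup.normalizer (D : Set G)))) (hker : ∀ n : ↥(Subgroup.normalizer (D : Set G)), n ∈ Cfsg.piCore {q | q ∉ π} ↥(Subgroup.normalizer (D : Set G)) → n ∈ Cfsg.blockKer B₁) (G₀ : Subgroup G) (B₀ : Set (Cfsg.IrrCharacter ↥G₀)) (hB₀ : Cfsg.IsInducedBlock M G₀ B₀ B) (D₀ : Subgroup ↥G₀) (hD₀ : Cfsg.IsDefectGroup p M B₀ D₀) (hC : Subgroup.centralizer ((D₀.map G₀.subtype : Subgroup G) : Set G) ≤ G₀) : ∀ x : ↥G₀, x ∈ Cfsg.piCore {q | q ∉ π} ↥G₀ → x ∈ Cfsg.blockKer B₀ := by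

  haveI := hM.2.1.isPrime
  haveI := CfsgLib.Blocks.charP_res hM
  haveI := CfsgLib.BlockPairs.isAlgClosed_res hM
  open CfsgLib.BlockPairs CfsgLib.PiKernel in
  intro x hx
  have hD := (isDefectGroup_sblk_iff hB₀.1 D₀).1 hD₀
  set P := D₀.map G₀.subtype with hPdef
  have hblk := isBlock_sblk (M := M) hB₀.1
  obtain ⟨f, hf, hfb, hle⟩ := exists_blockHas_of_induced hB₀ hD.2.1 hD.1 hC hD.2.2.1
  have hgood : Good π P f := good_of_local_kernel hpπ hBD hB₁ hker hf
  have hN := not_dvd_card_of_isPi (p := p) hpπ (isPi_core (π := π) G₀)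
  have hPN : P ≤ Subgroup.normalizer ((core π G₀ : Subgroup G) : Set G) :=
    hD.1.trans (le_normalizer_core G₀)
  have hk : avg (CfsgLib.Blocks.Res M) (core π G₀) * sblk M G₀ B₀ = sblk M G₀ B₀ := by
    refine (hblk.dichotomy (avg_mem_sub (core_le _) (le_normalizer_core _))
      (avg_mul_self (natCast_card_ne_zero hN))).resolve_left fun h0 => hfb.ne_zero ?_
    have h1 := congrArg (br P) h0
    rw [br_mul hD.2.1 (isFixed_avg hPN) (hblk.fixed.mono hD.1), br_avg hD.2.1 hPN, br_zero] at h1
    have hle2 : core π G₀ ⊓ Subgroup.centralizer (P : Set G) ≤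
        core π (Subgroup.centralizer (P : Set G)) :=
      le_core inf_le_right (le_normalizer_inf (hC.trans (le_normalizer_core _))
        Subgroup.le_normalizer) (CfsgLib.OddOrder.isPiSubgroup_mono inf_le_left (isPi_core _))
    rw [← hgood.absorb hpπ hle2, ← hle, ← mul_assoc, h1, zero_mul]
  exact fun χ hχ => (avg_mul_sblk_iff hB₀.1 (core_le _) (le_normalizer_core _) hN).1 hk χ hχ x
    (mem_core_iff.2 hx)

end Cfsg.Agent.S4734
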