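import Cfsg.Statements.S4735
import Cfsg.Agent.BlocksLocal.PrincipalColumn
import Cfsg.Agent.PLocal.Cores

set_option autoImplicit false
set_option linter.style.haveILetI false
open Cfsg

namespace Cfsg.Agent.S4735

/-- Let p be a prime, M a maximal ideal of the algebraic integers containing p, G a finite group, H = O_p'(G) and Ḡ = G/H. For x ∈ G write λ(G, x) for the sum of |χ(x)|^2 over the irreducible characters χ in the principal p-block of G. Then λ(G, x) is a positive integer, λ(G, x) = λ(Ḡ, x̄) where x̄ is the image of x, and λ(G, x) ≤ #C_Ḡ(x̄). Moreover λ(G, 1) = [G : H] if and only if the principal block is the only p-block of Ḡ. -/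
theorem result {G : Type*} [Group G] [Finite G] (p : ℕ) [Fact p.Prime] (M : Ideal Cfsg.AlgInt) (hM : Cfsg.IsPModular p M) (x : G) : (∃ n : ℕ, 0 < n ∧ ∑ᶠ χ ∈ Cfsg.principalBlock M G, Complex.normSq ((χ : G → ℂ) x) = n) ∧ ∑ᶠ χ ∈ Cfsg.principalBlock M G, Complex.normSq ((χ : G → ℂ) x) = ∑ᶠ ψ ∈ Cfsg.principalBlock M (G ⧸ Cfsg.pPrimeCore p G), Complex.normSq ((ψ : G ⧸ Cfsg.pPrimeCore p G → ℂ) (QuotientGroup.mk x)) ∧ ∑ᶠ χ ∈ Cfsg.principalBlock M G, Complex.normSq ((χ : G → ℂ) x) ≤ (Nat.card ↥(Subgroup.centralizer ({(QuotientGroup.mk x : G ⧸ Cfsg.pPrimeCore p G)} : Set (G ⧸ Cfsg.pPrimeCore p G))) : ℝ) ∧ ((∑ᶠ χ ∈ Cfsg.principalBlock M G, Cfsg.charDegree (χ : G → ℂ) ^ 2) = (Cfsg.pPrimeCore p G).index ↔ ∀ B : Set (Cfsg.IrrCharacter (G ⧸ Cfsg.pPrimeCore p G)), Cfsg.IsPBlock M B → B = Cfsg.principalBlock M (G ⧸ Cfsg.pPrimeCore p G)) := by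

  classical
  haveI := hM.2.1.isPrime
  haveI : Fact p.Prime := ‹_›
  haveI := Fintype.ofFinite G
  haveI := Fintype.ofFinite (G ⧸ Cfsg.pPrimeCore p G)
  open CfsgLib CfsgLib.PrincipalColumn in
  set H := Cfsg.pPrimeCore p G with hHdef
  have hH : ¬ p ∣ Nat.card H :=
    PLocal.not_dvd_iff_coprime.1 (PLocal.coprime_card_pPrimeCore p G)
  have hbij := bijOn_inflate (M := M) H hM hH
  have hfs : ∀ {X : Type _} [Group X] [Fintype X] (s : Set (Cfsg.IrrCharacter X))
      (f : Cfsg.IrrCharacter X → ℝ), ∑ᶠ χ ∈ s, f χ = ∑ χ, if χ ∈ s then f χ else 0 := by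
    intro X _ _ s f
    rw [finsum_mem_def, finsum_eq_sum_of_fintype]
    exact Finset.sum_congr rfl fun χ _ => by rw [Set.indicator_apply]
  have heq : ∑ᶠ χ ∈ Cfsg.principalBlock M G, Complex.normSq ((χ : G → ℂ) x) =
      ∑ᶠ ψ ∈ Cfsg.principalBlock M (G ⧸ H), Complex.normSq ((ψ : G ⧸ H → ℂ) (QuotientGroup.mk x)) :=
    (finsum_mem_eq_of_bijOn _ hbij fun ψ _ => rfl).symm
  refine ⟨?_, heq, ?_, ?_⟩
  · obtain ⟨n, hn, h⟩ := exists_nat_colFun (M := M) hM x
    refine ⟨n, hn, ?_⟩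
    rw [colFun_eq_ofReal] at h
    rw [hfs]
    exact_mod_cast h
  · rw [heq, hfs]
    have h := Characters.sum_irr_mul_conj_of_isConj (G := G ⧸ H)
      (IsConj.refl (QuotientGroup.mk x : G ⧸ H))
    simp only [Complex.mul_conj, ← Complex.ofReal_sum] at h
    have h' : ∑ ψ : Cfsg.IrrCharacter (G ⧸ H),
        Complex.normSq ((ψ : G ⧸ H → ℂ) (QuotientGroup.mk x)) =
        (Nat.card (Subgroup.centralizer ({(QuotientGroup.mk x : G ⧸ H)} : Set (G ⧸ H))) : ℝ) := by
      exact_mod_cast h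
    rw [← h']
    refine Finset.sum_le_sum fun ψ _ => ?_
    split_ifs
    · exact le_rfl
    · exact Complex.normSq_nonneg _
  · have hdeg : ∑ᶠ χ ∈ Cfsg.principalBlock M G, Cfsg.charDegree (χ : G → ℂ) ^ 2 =
        ∑ᶠ ψ ∈ Cfsg.principalBlock M (G ⧸ H), Cfsg.charDegree (ψ : G ⧸ H → ℂ) ^ 2 :=
      (finsum_mem_eq_of_bijOn _ hbij fun ψ _ => by
        rw [Cfsg.charDegree, Cfsg.charDegree, inflate_apply, QuotientGroup.mk_one]).symm
    have htot : ∑ ψ : Cfsg.IrrCharacter (G ⧸ H), Cfsg.charDegree (ψ : G ⧸ H → ℂ) ^ 2 = H.index := by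
      refine Nat.cast_injective (R := ℂ) ?_
      push_cast
      rw [Subgroup.index_eq_card]
      have h := Characters.sum_irr_mul_conj_of_isConj (G := G ⧸ H) (IsConj.refl (1 : G ⧸ H))
      have hc : Subgroup.centralizer ({(1 : G ⧸ H)} : Set (G ⧸ H)) = ⊤ :=
        top_unique fun g _ => by simp [Subgroup.mem_centralizer_singleton_iff]
      rw [hc, Subgroup.card_top] at h
      rw [← h]
      exact Finset.sum_congr rfl fun ψ _ => by
        rw [← Blocks.charDegree_cast, map_natCast, sq]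
    rw [hdeg, finsum_mem_def, finsum_eq_sum_of_fintype, ← htot]
    simp only [Set.indicator_apply]
    constructor
    · intro h B hB
      obtain ⟨ψ, hψ⟩ := Blocks.isPBlock_nonempty hB
      by_contra hne
      have hψ' : ψ ∉ Cfsg.principalBlock M (G ⧸ H) := fun h' => hne
        (Blocks.isPBlock_eq_of_mem hB PrincipalBlock.isPBlock_principalBlock hψ h')
      refine h.not_lt (Finset.sum_lt_sum (fun φ _ => ?_) ⟨ψ, Finset.mem_univ _, ?_⟩)
      · split_ifs <;> simp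
      · rw [if_neg hψ']
        exact pow_pos (Nat.pos_of_ne_zero (Blocks.charDegree_ne_zero ψ)) 2
    · intro h
      refine Finset.sum_congr rfl fun ψ _ => if_pos ?_
      rw [← h _ (Blocks.isPBlock_blockOf (M := M) ψ)]
      exact Blocks.mem_blockOf_self ψ

end Cfsg.Agent.S4735
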