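import Cfsg.Statements.S4885
-- import your own Cfsg.Agent.* helpers here

import Cfsg.Agent.BlocksCharsC.Restriction
import Cfsg.Agent.BlocksCharsC.TateNormal
import Cfsg.Agent.PrincipalBlock.Basic
import Cfsg.Agent.PLocal.Constraint
import Cfsg.Agent.PLocal.PSolvable
import Cfsg.Agent.Coprime.SchurZassenhaus
import Cfsg.Agent.Solvable.Frattini
import Cfsg.Agent.Characters.Linear
import Mathlib.GroupTheory.FiniteAbelian.Duality
import Mathlib.GroupTheory.Frattini

set_option autoImplicit false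
set_option linter.style.haveILetI false
open Cfsg

namespace Cfsg.Agent.S4885

open scoped Pointwise

universe u

open CfsgLib CfsgLib.PrincipalBlock

section Tools

variable {G : Type u} [Group G] [Finite G] {p : ℕ} [Fact p.Prime]

/-- What lies in every kernel of a `p'`-degree character meets a Sylow `p`-subgroup in its
derived group. -/
theorem inf_le_commutator_of_forall [Fintype G] (P : Sylow p G) (K : Subgroup G)
    (hK : ∀ χ : Cfsg.IrrCharacter G, ¬ p ∣ Cfsg.charDegree (χ : G → ℂ) → K ≤ charKer χ) :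
    (P : Subgroup G) ⊓ K ≤ ⁅(P : Subgroup G), (P : Subgroup G)⁆ := by
  classical
  rintro x ⟨hxP, hxK⟩
  rw [← Subgroup.map_subtype_commutator]
  refine ⟨⟨x, hxP⟩, ?_, rfl⟩
  by_contra hx
  haveI : Finite (Abelianization (P : Subgroup G)) := Quotient.finite _
  haveI := Fintype.ofFinite (P : Subgroup G)
  have hne : (Abelianization.of ⟨x, hxP⟩ : Abelianization (P : Subgroup G)) ≠ 1 := fun he =>
    hx ((QuotientGroup.eq_one_iff _).1 he)
  obtain ⟨φ, hφ⟩ := CommGroup.exists_apply_ne_one_of_hasEnoughRootsOfUnity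
    (Abelianization (P : Subgroup G)) ℂ hne
  have hirr := Characters.isIrr_linChar (φ.comp Abelianization.of)
  obtain ⟨χ, hd, hinner⟩ := BlocksCharsC.exists_constituent_not_dvd (P : Subgroup G)
    P.not_dvd_index (Characters.isCharacter_of_isIrr hirr)
    (by simp [Cfsg.charDegree, (Fact.out : p.Prime).one_lt.ne'])
  have h1 := BlocksCharsC.constituent_eq_degree (Characters.isCharacter_restrict _
    (Characters.isCharacter_of_isIrr χ.2)) hirr hinner (g := ⟨x, hxP⟩)
    (by simpa using mem_charKer.1 (hK χ hd hxK))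
  exact hφ (Units.ext (by simpa using h1))

theorem le_frattini_of_le_commutator (P : Sylow p G) (W : Subgroup G) [hW : W.Normal]
    (hWP : W ≤ (P : Subgroup G)) (h : W ≤ ⁅(P : Subgroup G), (P : Subgroup G)⁆) :
    W ≤ frattini G := by
  intro w hw
  rw [Solvable.mem_frattini_iff]
  intro M hM
  by_contra hwM
  have htop : M ⊔ W = ⊤ := hM.2 _ (left_lt_sup.2 fun hle => hwM (hle hw))
  let M' := M.subgroupOf (P : Subgroup G)
  have hM' : M' = ⊤ := by
    refine Solvable.eq_top_of_sup_frattini ?_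
    rw [eq_top_iff]
    rintro ⟨y, hy⟩ -
    have hy' : y ∈ ((M : Set G) * (W : Set G) : Set G) := by
      rw [← Subgroup.mul_normal, htop]; trivial
    obtain ⟨m, hm, v, hv, hmv⟩ := hy'
    have hmP : m ∈ (P : Subgroup G) := by
      rw [show m = y * v⁻¹ by rw [← hmv]; group]
      exact mul_mem hy (inv_mem (hWP hv))
    have hv' : (⟨v, hWP hv⟩ : (P : Subgroup G)) ∈ frattini (P : Subgroup G) := by
      refine Solvable.commutator_le_frattini P.isPGroup' ?_
      have h1 := h hv
      rw [← Subgroup.map_subtype_commutator] at h1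
      obtain ⟨z, hz, hze⟩ := h1
      rwa [show (⟨v, hWP hv⟩ : (P : Subgroup G)) = z from Subtype.ext hze.symm]
    rw [show (⟨y, hy⟩ : (P : Subgroup G)) = ⟨m, hmP⟩ * ⟨v, hWP hv⟩ from Subtype.ext hmv.symm]
    exact mul_mem (Subgroup.mem_sup_left (Subgroup.mem_subgroupOf.2 hm))
      (Subgroup.mem_sup_right hv')
  exact hwM (Subgroup.subgroupOf_eq_top.1 hM' (hWP hw))

theorem mem_block [Fintype G] {M : Ideal Cfsg.AlgInt} [M.IsPrime] (hM : Cfsg.IsPModular p M)
    (hps : Cfsg.IsPSolvable p G) {χ : Cfsg.IrrCharacter G}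
    (hχ : Cfsg.pPrimeCore p G ≤ charKer χ) : χ ∈ Cfsg.principalBlock M G := by
  obtain ⟨P⟩ : Nonempty (Sylow p (Cfsg.pPrimePCore p G)) := inferInstance
  refine mem_principalBlock_of_ker hM (Cfsg.pPrimeCore p G)
    ((P : Subgroup (Cfsg.pPrimePCore p G)).map (Cfsg.pPrimePCore p G).subtype)
    (Cfsg.pPrimePCore p G) (PLocal.not_dvd_iff_coprime.mp (PLocal.coprime_card_pPrimeCore p G))
    (P.isPGroup'.map _) (by rw [sup_comm]; exact PLocal.sylow_pPrimePCore_sup P)
    (PLocal.isPConstrained_of_isPSolvable hps P) hχ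

/-- One side: `K / O_{p'}` is a `p`-group and lies in the derived group of a Sylow subgroup. -/
theorem side [Fintype G] (K : Subgroup G) [K.Normal]
    (hK : ∀ χ : Cfsg.IrrCharacter G, Cfsg.pPrimeCore p G ≤ charKer χ →
      ¬ p ∣ Cfsg.charDegree (χ : G → ℂ) → K ≤ charKer χ) :
    IsPGroup p (K.map (QuotientGroup.mk' (Cfsg.pPrimeCore p G))) ∧
      ∀ P : Sylow p (G ⧸ Cfsg.pPrimeCore p G),
        (P : Subgroup (G ⧸ Cfsg.pPrimeCore p G)) ⊓ K.map (QuotientGroup.mk' (Cfsg.pPrimeCore p G)) ≤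
          ⁅(P : Subgroup (G ⧸ Cfsg.pPrimeCore p G)), (P : Subgroup (G ⧸ Cfsg.pPrimeCore p G))⁆ := by
  set A := Cfsg.pPrimeCore p G
  let π := QuotientGroup.mk' A
  haveI := Fintype.ofFinite (G ⧸ A)
  haveI : (K.map π).Normal := Subgroup.Normal.map inferInstance π (QuotientGroup.mk'_surjective A)
  have hall : ∀ χ : Cfsg.IrrCharacter (G ⧸ A), ¬ p ∣ Cfsg.charDegree (χ : G ⧸ A → ℂ) →
      K.map π ≤ charKer χ := by
    intro χ hd
    let ψ : Cfsg.IrrCharacter G := ⟨fun g => (χ : G ⧸ A → ℂ) (π g),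
      Characters.isIrr_comp π (QuotientGroup.mk'_surjective A) χ.2⟩
    have h1 : ∀ g, g ∈ charKer ψ ↔ π g ∈ charKer χ := fun g => by
      rw [mem_charKer, mem_charKer, show (ψ : G → ℂ) 1 = (χ : G ⧸ A → ℂ) 1 by simp [ψ]]
    have hA : A ≤ charKer ψ := fun a ha => by
      rw [h1, show π a = 1 from (QuotientGroup.eq_one_iff a).2 ha]; exact one_mem _
    have hdeg : Cfsg.charDegree (ψ : G → ℂ) = Cfsg.charDegree (χ : G ⧸ A → ℂ) := by
      simp [Cfsg.charDegree, ψ]
    rintro _ ⟨k, hk, rfl⟩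
    exact (h1 k).1 (hK ψ hA (hdeg ▸ hd) hk)
  have hinf : ∀ P : Sylow p (G ⧸ A), (P : Subgroup (G ⧸ A)) ⊓ K.map π ≤
      ⁅(P : Subgroup (G ⧸ A)), (P : Subgroup (G ⧸ A))⁆ :=
    fun P => inf_le_commutator_of_forall P _ hall
  refine ⟨?_, hinf⟩
  have hc := BlocksCharsC.hasNormalPComplement_of_inf_le_commutator default (K.map π) (hinf default)
  have hR := Transfer.hasNormalPComplement_iff.1 hc
  haveI := PLocal.normal_map_subtype (K.map π) (Cfsg.pResidual p (K.map π))
  have hle : (Cfsg.pResidual p (K.map π)).map (K.map π).subtype ≤ Cfsg.pPrimeCore p (G ⧸ A) := by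
    refine PLocal.le_pPrimeCore ?_
    rw [Subgroup.card_map_of_injective (Subgroup.subtype_injective _)]
    exact PLocal.not_dvd_iff_coprime.2 hR
  rw [PLocal.pPrimeCore_quotient_pPrimeCore_eq_bot, le_bot_iff,
    Subgroup.map_eq_bot_iff_of_injective _ (Subgroup.subtype_injective _)] at hle
  have hq := Transfer.isPGroup_quotient_pResidual (p := p) (G := ↥(K.map π))
  intro x
  obtain ⟨k, hk⟩ := hq (QuotientGroup.mk x)
  refine ⟨k, ?_⟩
  rwa [← QuotientGroup.mk_pow, QuotientGroup.eq_one_iff, hle, Subgroup.mem_bot] at hk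

end Tools

section Core

/-- The final configuration is impossible. -/
theorem false_of_config {G : Type u} [Group G] [Finite G] {p q : ℕ} [Fact p.Prime] [Fact q.Prime]
    (hpq : p ≠ q) (hps : Cfsg.IsPSolvable p G) (hqs : Cfsg.IsPSolvable q G)
    (hpG : p ∣ Nat.card G) (A B : Subgroup G) [A.Normal] [B.Normal]
    (hA : IsPGroup q A) (hB : IsPGroup p B)
    (hmaxA : ∀ N : Subgroup G, N.Normal → (Nat.card N).Coprime p → N ≤ A)
    (hmaxB : ∀ N : Subgroup G, N.Normal → (Nat.card N).Coprime q → N ≤ B)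
    (hAF : A ≤ frattini G) (hBF : B ≤ frattini G) : False := by
  classical
  have hpp : p.Prime := Fact.out
  have hqq : q.Prime := Fact.out
  haveI hGn : Nontrivial G := Finite.one_lt_card_iff_nontrivial.1
    (lt_of_lt_of_le hpp.one_lt (Nat.le_of_dvd Nat.card_pos hpG))
  set K := A ⊔ B with hK
  have hKF : K ≤ frattini G := sup_le hAF hBF
  have hKtop : K ≠ ⊤ := fun h => by
    obtain ⟨M, hM, -⟩ := Solvable.exists_coatom_ge (bot_ne_top (α := Subgroup G))
    refine hM.1 (eq_top_iff.2 fun g _ => ?_)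
    exact Solvable.mem_frattini_iff.1 (hKF (h ▸ Subgroup.mem_top g)) M hM
  have hsupK : ∀ H : Subgroup G, H ⊔ K = ⊤ → H = ⊤ := fun H hH =>
    Solvable.eq_top_of_sup_frattini (top_le_iff.1 (hH ▸ sup_le_sup_left hKF H))
  -- no normal `p`- or `q`-subgroup of the quotient
  have hcore : ∀ (r s : ℕ), [Fact r.Prime] → r ≠ s → s.Prime → ∀ A' B' : Subgroup G,
      B' ≤ K → A' ⊔ B' = K → IsPGroup r B' → IsPGroup s A' →
      (∀ N : Subgroup G, N.Normal → (Nat.card N).Coprime s → N ≤ B') →
      Cfsg.pCore r (G ⧸ K) = ⊥ := by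
    intro r s _ hrs hs A' B' hB'K hsup hB' hA' hmax
    haveI := Fact.mk hs
    by_contra hne
    set π := QuotientGroup.mk' K
    let L := (Cfsg.pCore r (G ⧸ K)).comap π
    haveI : (Cfsg.pCore r (G ⧸ K)).Normal := Solvable.pCore_normal r
    haveI : L.Normal := Subgroup.Normal.comap inferInstance π
    obtain ⟨S⟩ : Nonempty (Sylow r L) := inferInstance
    -- the image of `S` is everything
    have hLmap : L.map π = Cfsg.pCore r (G ⧸ K) :=
      Subgroup.map_comap_eq_self_of_surjective (QuotientGroup.mk'_surjective K) _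
    have hKL : K ≤ L := fun k hk => by
      refine Subgroup.mem_comap.2 ?_
      rw [show π k = 1 from (QuotientGroup.eq_one_iff k).2 hk]; exact one_mem _
    let S' := (S : Subgroup L).map L.subtype
    have hS'p : IsPGroup r S' := S.isPGroup'.map _
    have hLS : L ≤ S' ⊔ K := by
      let f : L →* Cfsg.pCore r (G ⧸ K) := (π.comp L.subtype).codRestrict _ fun x => x.2
      have hf : Function.Surjective f := fun y => by
        obtain ⟨x, hx⟩ := QuotientGroup.mk'_surjective K (y : G ⧸ K)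
        exact ⟨⟨x, show π x ∈ _ by rw [hx]; exact y.2⟩, Subtype.ext hx⟩
      have htop : ((S.mapSurjective hf : Sylow r (Cfsg.pCore r (G ⧸ K))) :
          Subgroup (Cfsg.pCore r (G ⧸ K))) = ⊤ :=
        ((S.mapSurjective hf).is_maximal' ((Solvable.isPGroup_pCore r).to_subgroup ⊤) le_top).symm
      intro l hl
      have h1 : f ⟨l, hl⟩ ∈ (S : Subgroup L).map f := by
        rw [← Sylow.coe_mapSurjective hf S, htop]; trivial
      obtain ⟨s', hs', he⟩ := h1
      have h2 : (s' : G)⁻¹ * l ∈ K := QuotientGroup.eq.1 (congrArg Subtype.val he)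
      rw [show l = (s' : G) * ((s' : G)⁻¹ * l) by group]
      exact mul_mem (Subgroup.mem_sup_left ⟨s', hs', rfl⟩) (Subgroup.mem_sup_right h2)
    have hnorm : Subgroup.normalizer (S' : Set G) = ⊤ := by
      refine hsupK _ ?_
      rw [eq_top_iff, ← Sylow.normalizer_sup_eq_top S]
      refine sup_le le_sup_left (hLS.trans (sup_le ?_ le_sup_right))
      exact le_trans Subgroup.le_normalizer le_sup_left
    haveI hS'n : S'.Normal := Subgroup.normalizer_eq_top_iff.1 hnorm
    have hle : S' ≤ B' := hmax S' inferInstance (by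
      obtain ⟨k, hk⟩ := IsPGroup.iff_card.1 hS'p
      rw [hk]
      exact Nat.Coprime.pow_left _ ((Nat.coprime_primes Fact.out hs).2 hrs))
    refine hne (le_bot_iff.1 ?_)
    rw [← hLmap, Subgroup.map_le_iff_le_comap]
    refine hLS.trans (sup_le (hle.trans hB'K) le_rfl) |>.trans ?_
    intro k hk
    show π k = 1
    exact (QuotientGroup.eq_one_iff k).2 hk
  have hp0 : Cfsg.pCore p (G ⧸ K) = ⊥ :=
    hcore p q hpq hqq A B le_sup_right rfl hB hA hmaxB
  have hq0 : Cfsg.pCore q (G ⧸ K) = ⊥ :=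
    hcore q p hpq.symm hpp B A le_sup_left (sup_comm B A) hA hB hmaxA
  haveI : Nontrivial (G ⧸ K) := QuotientGroup.nontrivial_iff.2 hKtop
  set V := Cfsg.pPrimeCore p (G ⧸ K) with hV
  have hVne : V ≠ ⊥ := ((PLocal.pCore_ne_bot_or_of_isPSolvable
    (PLocal.isPSolvable_quotient hps K))).resolve_left (fun h => h hp0)
  haveI : Nontrivial V := (Subgroup.nontrivial_iff_ne_bot V).2 hVne
  haveI : V.Normal := inferInstance
  have hUne : Cfsg.pPrimeCore q V ≠ ⊥ := by
    refine (PLocal.pCore_ne_bot_or_of_isPSolvable (PLocal.isPSolvable_subgroup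
      (PLocal.isPSolvable_quotient hqs K) V)).resolve_left fun h => h ?_
    have h1 := PLocal.pCore_map_subtype_le (p := q) V
    rwa [hq0, le_bot_iff, Subgroup.map_eq_bot_iff_of_injective _ V.subtype_injective] at h1
  set U := (Cfsg.pPrimeCore q V).map V.subtype with hU
  haveI : U.Normal := PLocal.normal_map_subtype V _
  have hUne' : U ≠ ⊥ := by
    rw [hU, Ne, Subgroup.map_eq_bot_iff_of_injective _ V.subtype_injective]; exact hUne
  have hUp : (Nat.card U).Coprime p := (PLocal.coprime_card_pPrimeCore p (G ⧸ K)).coprime_dvd_left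
    (Subgroup.card_dvd_of_le (Subgroup.map_subtype_le _))
  have hUq : (Nat.card U).Coprime q := by
    rw [hU, Subgroup.card_map_of_injective V.subtype_injective]
    exact PLocal.coprime_card_pPrimeCore q V
  set π := QuotientGroup.mk' K
  let L := U.comap π
  haveI : L.Normal := Subgroup.Normal.comap inferInstance π
  have hKL : K ≤ L := fun k hk => by
    show π k ∈ U
    rw [show π k = 1 from (QuotientGroup.eq_one_iff k).2 hk]; exact one_mem _
  have hKidx : (K.subgroupOf L).index = Nat.card U := by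
    show K.relIndex L = _
    have h1 := Subgroup.relIndex_ker (f := π) L
    rw [QuotientGroup.ker_mk'] at h1
    rw [h1, Subgroup.map_comap_eq_self_of_surjective (QuotientGroup.mk'_surjective K)]
  have hcop : Nat.Coprime (Nat.card (K.subgroupOf L)) (K.subgroupOf L).index := by
    rw [hKidx, Nat.card_congr (Subgroup.subgroupOfEquivOfLe hKL).toEquiv]
    obtain ⟨a, ha⟩ := IsPGroup.iff_card.1 hA
    obtain ⟨b, hb⟩ := IsPGroup.iff_card.1 hB
    refine Nat.Coprime.coprime_dvd_left (PLocal.card_sup_dvd_mul A B) ?_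
    rw [ha, hb]
    exact Nat.Coprime.mul_left (Nat.Coprime.pow_left _ hUq.symm) (Nat.Coprime.pow_left _ hUp.symm)
  obtain ⟨M0', hM0'⟩ := Subgroup.exists_right_complement'_of_coprime hcop
  set M0 := M0'.map L.subtype with hM0
  have hM0L : M0 ≤ L := Subgroup.map_subtype_le _
  have hM0card : Nat.card M0 = Nat.card U := by
    rw [hM0, Subgroup.card_map_of_injective L.subtype_injective, ← hM0'.symm.index_eq_card, hKidx]
  have hsup : K ⊔ M0 = L := by
    have h1 := congrArg (Subgroup.map L.subtype) hM0'.sup_eq_top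
    rwa [Subgroup.map_sup, Subgroup.map_subgroupOf_eq_of_le hKL, ← MonoidHom.range_eq_map,
      Subgroup.range_subtype] at h1
  have hKsolv : Group.IsSolvable K := by
    haveI : Group.IsNilpotent A := hA.isNilpotent
    haveI : Group.IsNilpotent B := hB.isNilpotent
    let f : K →* K ⧸ A.subgroupOf K := QuotientGroup.mk' _
    haveI : Group.IsSolvable (A.subgroupOf K) :=
      Group.isSolvable_of_isSolvable_injective
        (f := (Subgroup.subgroupOfEquivOfLe (le_sup_left : A ≤ K)).toMonoidHom)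
        (MulEquiv.injective _)
    haveI : Group.IsSolvable (K ⧸ A.subgroupOf K) := by
      let g : B →* K ⧸ A.subgroupOf K := f.comp (Subgroup.inclusion le_sup_right)
      refine Group.isSolvable_of_surjective (f := g) fun x => ?_
      obtain ⟨k, rfl⟩ := QuotientGroup.mk'_surjective _ x
      have hk : (k : G) ∈ ((A : Set G) * (B : Set G) : Set G) := by
        rw [← Subgroup.normal_mul]; exact k.2
      obtain ⟨a, ha, b, hb, hab⟩ := hk
      refine ⟨⟨b, hb⟩, QuotientGroup.eq.2 ?_⟩
      rw [Subgroup.mem_subgroupOf]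
      show b⁻¹ * (k : G) ∈ A
      rw [← hab, ← mul_assoc]
      simpa [mul_assoc] using (inferInstance : A.Normal).conj_mem a ha b⁻¹
    exact Group.isSolvable_of_ker_le_range (A.subgroupOf K).subtype f (by simp [f])
  have hcop2 : (Nat.card K).Coprime (Nat.card M0) := by
    rw [hM0card, ← hKidx, ← Nat.card_congr (Subgroup.subgroupOfEquivOfLe hKL).toEquiv]
    exact hcop
  have hnorm : Subgroup.normalizer (M0 : Set G) = ⊤ := by
    refine hsupK _ (eq_top_iff.2 fun g _ => ?_)
    obtain ⟨k, hk, hke⟩ := Coprime.exists_conj_eq_of_sup_eq (N := K) (H := M0)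
      (K := MulAut.conj g • M0) Subgroup.le_normalizer_of_normal Subgroup.le_normalizer_of_normal
      hcop2 (Solvable.card_conj_smul g M0)
      (by
        have h1 := congrArg (fun H : Subgroup G => MulAut.conj g • H) hsup
        simp only [Subgroup.smul_sup, Subgroup.Normal.conj_smul_eq_self g K,
          Subgroup.Normal.conj_smul_eq_self g L] at h1
        rw [hsup]
        exact h1.symm)
      (Or.inl hKsolv)
    have hmem : k⁻¹ * g ∈ Subgroup.normalizer (M0 : Set G) := by
      rw [Solvable.mem_normalizer_iff_conj_smul, map_mul, mul_smul, ← hke, ← mul_smul, ← map_mul,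
        inv_mul_cancel, map_one, one_smul]
    rw [show g = k * (k⁻¹ * g) by group]
    exact mul_mem (Subgroup.mem_sup_right hk) (Subgroup.mem_sup_left hmem)
  haveI hM0n : M0.Normal := Subgroup.normalizer_eq_top_iff.1 hnorm
  have hle : M0 ≤ A := hmaxA M0 inferInstance (hM0card ▸ hUp)
  refine hUne' (Subgroup.card_eq_one.1 ?_)
  rw [← hM0card]
  exact Nat.eq_one_of_dvd_coprimes hcop2
    (Subgroup.card_dvd_of_le (hle.trans le_sup_left)) dvd_rfl

end Core

/-- Let p and q be primes dividing the order of the finite group G, and suppose G is p-solvable and q-solvable. Fix maximal ideals of the algebraic integers containing p and q, defining the principal p-block and the principal q-block. If the irreducible characters of degree prime to p in the principal p-block are exactly the irreducible characters of degree prime to q in the principal q-block, then p = q. -/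
theorem result {G : Type*} [Group G] [Finite G] (p q : ℕ) [Fact p.Prime] [Fact q.Prime] (hp : p ∣ Nat.card G) (hq : q ∣ Nat.card G) (hps : Cfsg.IsPSolvable p G) (hqs : Cfsg.IsPSolvable q G) (Mp Mq : Ideal Cfsg.AlgInt) (hMp : Cfsg.IsPModular p Mp) (hMq : Cfsg.IsPModular q Mq) (h : ∀ χ : Cfsg.IrrCharacter G, (χ ∈ Cfsg.principalBlock Mp G ∧ ¬ p ∣ Cfsg.charDegree (χ : G → ℂ)) ↔ (χ ∈ Cfsg.principalBlock Mq G ∧ ¬ q ∣ Cfsg.charDegree (χ : G → ℂ))) : p = q := by
  classical
  by_contra hpq
  haveI := Fintype.ofFinite G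
  haveI : Mp.IsPrime := hMp.2.1.isPrime
  haveI : Mq.IsPrime := hMq.2.1.isPrime
  set A := Cfsg.pPrimeCore p G with hA
  set B := Cfsg.pPrimeCore q G with hB
  have hAp : (Nat.card A).Coprime p := PLocal.coprime_card_pPrimeCore p G
  have hBq : (Nat.card B).Coprime q := PLocal.coprime_card_pPrimeCore q G
  -- the common kernel
  let T : Set (Cfsg.IrrCharacter G) :=
    {χ | χ ∈ Cfsg.principalBlock Mp G ∧ ¬ p ∣ Cfsg.charDegree (χ : G → ℂ)}
  set K := setKer T with hK
  haveI hKn : K.Normal := ⟨fun k hk g => mem_setKer.2 fun χ hχ => by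
    rw [Characters.isClassFunction_of_isIrr χ.2 k g]; exact mem_setKer.1 hk χ hχ⟩
  have hKle : ∀ χ ∈ T, K ≤ charKer χ := fun χ hχ k hk => mem_charKer.2 (mem_setKer.1 hk χ hχ)
  have hAK : A ≤ K := fun a ha => mem_setKer.2 fun χ hχ => mem_charKer.1
    (le_charKer_of_mem hMp A (PLocal.not_dvd_iff_coprime.1 hAp) hχ.1 ha)
  have hBK : B ≤ K := fun a ha => mem_setKer.2 fun χ hχ => mem_charKer.1
    (le_charKer_of_mem hMq B (PLocal.not_dvd_iff_coprime.1 hBq) ((h χ).1 hχ).1 ha)
  obtain ⟨hKA, hinfA⟩ := side (p := p) K fun χ hle hd =>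
    hKle χ ⟨mem_block hMp hps hle, hd⟩
  obtain ⟨hKB, hinfB⟩ := side (p := q) K fun χ hle hd =>
    hKle χ ((h χ).2 ⟨mem_block hMq hqs hle, hd⟩)
  -- factor out the intersection
  set D := A ⊓ B with hD
  haveI : D.Normal := inferInstance
  let π := QuotientGroup.mk' D
  have hπ : Function.Surjective π := QuotientGroup.mk'_surjective D
  have hDp : (Nat.card D).Coprime p := hAp.coprime_dvd_left (Subgroup.card_dvd_of_le inf_le_left)
  have hDq : (Nat.card D).Coprime q := hBq.coprime_dvd_left (Subgroup.card_dvd_of_le inf_le_right)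
  have hpre : ∀ (r : ℕ), r.Prime → (Nat.card D).Coprime r → ∀ N : Subgroup (G ⧸ D), N.Normal →
      (Nat.card N).Coprime r → N ≤ (Cfsg.pPrimeCore r G).map π := by
    intro r hr hDr N hN hNr
    haveI := hN
    have hle : N.comap π ≤ Cfsg.pPrimeCore r G := by
      haveI : (N.comap π).Normal := hN.comap π
      refine PLocal.le_pPrimeCore ?_
      have h1 := (N.comap π).card_mul_index
      rw [Subgroup.index_comap_of_surjective N hπ] at h1
      have h2 := N.card_mul_index
      have h3 := Subgroup.card_eq_card_quotient_mul_card_subgroup D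
      rw [← h2] at h3
      rw [Nat.eq_of_mul_eq_mul_right (Nat.pos_of_ne_zero Subgroup.index_ne_zero_of_finite)
        (h1.trans (h3.trans (by ring : _ = Nat.card N * Nat.card D * N.index)))]
      exact hNr.mul_left hDr
    rw [← Subgroup.map_comap_eq_self_of_surjective hπ N]
    exact Subgroup.map_mono hle
  -- the two small groups
  have hgrp : ∀ (r : ℕ), [Fact r.Prime] → ∀ A' B' : Subgroup G, A'.Normal → B'.Normal →
      A' ⊓ B' = D → Cfsg.pPrimeCore r G = A' → B' ≤ K →
      IsPGroup r (K.map (QuotientGroup.mk' (Cfsg.pPrimeCore r G))) →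
      IsPGroup r (B'.map π) := by
    intro r _ A' B' _ _ hinf he hle hKr
    obtain ⟨m, hm⟩ := IsPGroup.iff_card.1 (hKr.to_le (Subgroup.map_mono hle))
    refine IsPGroup.of_card (n := m) ?_
    rw [← hm, ← Subgroup.relIndex_ker (f := π) B', ← Subgroup.relIndex_ker
      (f := QuotientGroup.mk' (Cfsg.pPrimeCore r G)) B', QuotientGroup.ker_mk',
      QuotientGroup.ker_mk', he, ← hinf, Subgroup.inf_relIndex_right]
  have hB1 : IsPGroup p (B.map π) :=
    hgrp p A B inferInstance inferInstance rfl rfl hBK hKA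
  have hA1 : IsPGroup q (A.map π) :=
    hgrp q B A inferInstance inferInstance (inf_comm B A) rfl hAK hKB
  -- inside the derived groups
  have hfr : ∀ (r : ℕ), [Fact r.Prime] → ∀ W : Subgroup G, W.Normal → W ≤ K →
      IsPGroup r (W.map π) → ∀ hDle : D ≤ Cfsg.pPrimeCore r G,
      (∀ P : Sylow r (G ⧸ Cfsg.pPrimeCore r G),
        (P : Subgroup (G ⧸ Cfsg.pPrimeCore r G)) ⊓ K.map (QuotientGroup.mk' (Cfsg.pPrimeCore r G)) ≤
          ⁅(P : Subgroup (G ⧸ Cfsg.pPrimeCore r G)), (P : Subgroup (G ⧸ Cfsg.pPrimeCore r G))⁆) →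
      W.map π ≤ frattini (G ⧸ D) := by
    intro r _ W hW hWK hWp hDle hinf
    haveI := hW
    haveI : (W.map π).Normal := Subgroup.Normal.map hW π hπ
    obtain ⟨P1⟩ : Nonempty (Sylow r (G ⧸ D)) := inferInstance
    have hWP : W.map π ≤ (P1 : Subgroup (G ⧸ D)) := hWp.le_sylow_of_normal P1
    refine le_frattini_of_le_commutator P1 _ hWP ?_
    let f : G ⧸ D →* G ⧸ Cfsg.pPrimeCore r G :=
      QuotientGroup.map D (Cfsg.pPrimeCore r G) (MonoidHom.id G) hDle
    have hfs : Function.Surjective f := fun y => by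
      obtain ⟨g, rfl⟩ := QuotientGroup.mk'_surjective _ y
      exact ⟨π g, rfl⟩
    rintro _ ⟨w, hw, rfl⟩
    have h1 : f (π w) ∈ (P1.mapSurjective hfs : Subgroup (G ⧸ Cfsg.pPrimeCore r G)) ⊓
        K.map (QuotientGroup.mk' (Cfsg.pPrimeCore r G)) := by
      refine ⟨?_, ⟨w, hWK hw, rfl⟩⟩
      rw [SetLike.mem_coe, Sylow.coe_mapSurjective]
      exact ⟨π w, hWP ⟨w, hw, rfl⟩, rfl⟩
    have h2 := hinf _ h1
    rw [Sylow.coe_mapSurjective, ← Subgroup.map_commutator] at h2
    obtain ⟨y, hy, hye⟩ := h2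
    have hz : y⁻¹ * π w ∈ (P1 : Subgroup (G ⧸ D)) :=
      mul_mem (inv_mem (Subgroup.commutator_le_self _ hy)) (hWP ⟨w, hw, rfl⟩)
    obtain ⟨k, hk⟩ := IsPGroup.iff_orderOf.1 P1.isPGroup' ⟨_, hz⟩
    rw [Subgroup.orderOf_mk] at hk
    obtain ⟨g, hg⟩ := hπ (y⁻¹ * π w)
    have hgA : g ∈ Cfsg.pPrimeCore r G := by
      rw [← QuotientGroup.eq_one_iff]
      show f (π g) = 1
      rw [hg, map_mul, map_inv, hye, inv_mul_cancel]
    have hd : orderOf (π g) ∣ Nat.card (Cfsg.pPrimeCore r G) :=
      (orderOf_map_dvd π g).trans (Subgroup.orderOf_dvd_natCard _ hgA)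
    rw [hg, hk] at hd
    have h1' : r ^ k = 1 := Nat.eq_one_of_dvd_coprimes
      (Nat.Coprime.pow_right k (PLocal.coprime_card_pPrimeCore r G)) hd dvd_rfl
    rw [h1', orderOf_eq_one_iff, inv_mul_eq_one] at hk
    exact hk ▸ hy
  refine false_of_config (G := G ⧸ D) hpq (PLocal.isPSolvable_quotient hps D)
    (PLocal.isPSolvable_quotient hqs D) ?_ (A.map π) (B.map π) hA1 hB1
    (hpre p Fact.out hDp) (hpre q Fact.out hDq)
    (hfr q A inferInstance hAK hA1 inf_le_right hinfB)
    (hfr p B inferInstance hBK hB1 inf_le_left hinfA)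
  have h3 := Subgroup.card_eq_card_quotient_mul_card_subgroup D
  rw [h3] at hp
  exact ((Fact.out : p.Prime).dvd_mul.1 hp).resolve_right fun hd =>
    PLocal.not_dvd_iff_coprime.1 hDp hd

end Cfsg.Agent.S4885
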