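import Cfsg.Statements.S4736
import Cfsg.Agent.S4713
import Cfsg.Agent.S4885
import Cfsg.Agent.BlocksLocal.PrincipalColumn
import Cfsg.Agent.PLocal.PSolvable
import Cfsg.Agent.PLocal.Cores

set_option autoImplicit false
set_option linter.style.haveILetI false
open Cfsg

namespace Cfsg.Agent.S4736

/-- Let p be a prime, M a maximal ideal of the algebraic integers containing p, and G a finite p-solvable group with Sylow p-subgroup P. Then P is abelian if and only if every irreducible character in the principal p-block of G has height zero. -/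
theorem result {G : Type*} [Group G] [Finite G] (p : ℕ) [Fact p.Prime] (M : Ideal Cfsg.AlgInt) (hM : Cfsg.IsPModular p M) (hsolv : Cfsg.IsPSolvable p G) (P : Sylow p G) : IsMulCommutative P ↔ ∀ χ ∈ Cfsg.principalBlock M G, Cfsg.blockHeight p (Cfsg.principalBlock M G) (χ : G → ℂ) = 0 := by
  classical
  haveI := Fintype.ofFinite G
  haveI : M.IsPrime := hM.2.1.isPrime
  have hp : p.Prime := Fact.out
  set O := Cfsg.pPrimeCore p G with hO
  have hco : (Nat.card O).Coprime p := CfsgLib.PLocal.coprime_card_pPrimeCore p G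
  have hO' : ¬ p ∣ Nat.card O := CfsgLib.PLocal.not_dvd_iff_coprime.mp hco
  haveI := Fintype.ofFinite (G ⧸ O)
  have hdeg : ∀ ψ : Cfsg.IrrCharacter (G ⧸ O),
      Cfsg.charDegree (CfsgLib.PrincipalColumn.inflate O ψ : G → ℂ) =
        Cfsg.charDegree (ψ : G ⧸ O → ℂ) := fun ψ => by
    simp [Cfsg.charDegree, CfsgLib.PrincipalColumn.inflate_apply]
  have hinf : sInf ((fun χ : Cfsg.IrrCharacter G =>
      (Cfsg.charDegree (χ : G → ℂ)).factorization p) '' Cfsg.principalBlock M G) = 0 := by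
    refine Nat.sInf_eq_zero.2 (Or.inl ⟨CfsgLib.PrincipalBlock.trivChar G,
      CfsgLib.PrincipalBlock.trivChar_mem, ?_⟩)
    simp [Cfsg.charDegree, CfsgLib.PrincipalBlock.trivChar]
  have hheight : ∀ χ : Cfsg.IrrCharacter G,
      Cfsg.blockHeight p (Cfsg.principalBlock M G) (χ : G → ℂ) = 0 ↔
        ¬ p ∣ Cfsg.charDegree (χ : G → ℂ) := by
    intro χ
    rw [Cfsg.blockHeight, hinf, Nat.sub_zero, Nat.factorization_eq_zero_iff]
    have hne : Cfsg.charDegree (χ : G → ℂ) ≠ 0 := fun h =>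
      (Fintype.card_ne_zero : Fintype.card G ≠ 0) (by
        simpa [h, Nat.card_eq_fintype_card] using CfsgLib.Blocks.charDegree_dvd_card χ)
    tauto
  have key : (∀ χ ∈ Cfsg.principalBlock M G,
      Cfsg.blockHeight p (Cfsg.principalBlock M G) (χ : G → ℂ) = 0) ↔
      ∀ ψ : Cfsg.IrrCharacter (G ⧸ O), ¬ p ∣ Cfsg.charDegree (ψ : G ⧸ O → ℂ) := by
    constructor
    · intro h ψ
      rw [← hdeg ψ, ← hheight]
      refine h _ (Cfsg.Agent.S4885.mem_block hM hsolv fun a ha => ?_)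
      rw [CfsgLib.PrincipalBlock.mem_charKer, CfsgLib.PrincipalColumn.inflate_apply,
        CfsgLib.PrincipalColumn.inflate_apply, (QuotientGroup.eq_one_iff a).2 ha,
        QuotientGroup.mk_one]
    · intro h χ hχ
      obtain ⟨ψ, -, rfl⟩ := (CfsgLib.PrincipalColumn.bijOn_inflate O hM hO').surjOn hχ
      rw [hheight, hdeg]
      exact h ψ
  have hQsolv : Cfsg.IsPSolvable p (G ⧸ O) := CfsgLib.PLocal.isPSolvable_quotient hsolv O
  rw [key]
  let Pb : Sylow p (G ⧸ O) := P.mapSurjective (QuotientGroup.mk'_surjective O)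
  have hPb : (Pb : Subgroup (G ⧸ O)) = (P : Subgroup G).map (QuotientGroup.mk' O) :=
    Sylow.coe_mapSurjective _ P
  refine Iff.trans ?_ (Cfsg.Agent.S4713.result p hQsolv Pb)
  constructor
  · intro hc
    have hab : ∀ x ∈ (Pb : Subgroup (G ⧸ O)), ∀ y ∈ (Pb : Subgroup (G ⧸ O)), x * y = y * x := by
      rw [hPb]
      rintro _ ⟨a, ha, rfl⟩ _ ⟨b, hb, rfl⟩
      rw [← map_mul, ← map_mul]
      exact congrArg _ (congrArg Subtype.val (hc.is_comm.comm ⟨a, ha⟩ ⟨b, hb⟩))
    have hle : Cfsg.pCore p (G ⧸ O) ≤ Pb := CfsgLib.PLocal.pCore_le_sylow Pb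
    have hge : (Pb : Subgroup (G ⧸ O)) ≤ Cfsg.pCore p (G ⧸ O) := by
      refine le_trans (fun x hx => ?_) (CfsgLib.PLocal.centralizer_pCore_le hQsolv
        (CfsgLib.PLocal.pPrimeCore_quotient_pPrimeCore_eq_bot p G))
      rw [Subgroup.mem_centralizer_iff]
      exact fun y hy => hab y (hle hy) x hx
    refine ⟨?_, ⟨⟨fun a b => Subtype.ext (hab a a.2 b b.2)⟩⟩⟩
    rw [le_antisymm hge hle]
    infer_instance
  · rintro ⟨-, hc⟩
    refine ⟨⟨fun a b => Subtype.ext ?_⟩⟩
    have hm : ∀ x ∈ (P : Subgroup G), (QuotientGroup.mk x : G ⧸ O) ∈ (Pb : Subgroup (G ⧸ O)) :=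
      fun x hx => by rw [hPb]; exact ⟨x, hx, rfl⟩
    have h1 : ((a : G) * (b : G) : G ⧸ O) = ((b : G) * (a : G) : G ⧸ O) :=
      congrArg Subtype.val (hc.is_comm.comm ⟨_, hm a a.2⟩ ⟨_, hm b b.2⟩)
    rw [← QuotientGroup.mk_mul, ← QuotientGroup.mk_mul, QuotientGroup.eq] at h1
    obtain ⟨k, hk⟩ := IsPGroup.iff_card.1 P.2
    have hdisj : (P : Subgroup G) ⊓ O = ⊥ := (Subgroup.disjoint_of_coprime_natCard (by
      rw [hk]; exact Nat.Coprime.pow_left k hco.symm)).eq_bot
    have h2 : ((a : G) * b)⁻¹ * ((b : G) * a) ∈ (P : Subgroup G) ⊓ O :=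
      ⟨(P : Subgroup G).mul_mem ((P : Subgroup G).inv_mem ((P : Subgroup G).mul_mem a.2 b.2))
        ((P : Subgroup G).mul_mem b.2 a.2), h1⟩
    rw [hdisj, Subgroup.mem_bot, inv_mul_eq_one] at h2
    exact h2

end Cfsg.Agent.S4736
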