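import Cfsg.Statements.S4737
import Cfsg.Agent.ClassPairs.InvolutionSum
import Mathlib.LinearAlgebra.Matrix.Rank

set_option autoImplicit false
open Cfsg

namespace Cfsg.Agent.S4737
open CfsgLib

/-- `x` has order three and normalises no nontrivial 2-subgroup. -/
def Good {G : Type*} [Group G] (x : G) : Prop :=
  orderOf x = 3 ∧ ∀ Q : Subgroup G, IsPGroup 2 ↥Q → x ∈ Subgroup.normalizer (Q : Set G) → Q = ⊥

variable {G : Type*} [Group G] [Finite G]

theorem no_involution_centralizing {x z : G} (hx : Good x) (hz : orderOf z = 2) : x * z ≠ z * x := by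
  intro hc
  have hbot := hx.2 (Subgroup.zpowers z) (IsPGroup.of_card (n := 1) (by rw [Nat.card_zpowers, hz, pow_one]))
    (Subgroup.centralizer_le_normalizer _ (Subgroup.mem_centralizer_iff.2 fun w hw => by
      obtain ⟨i, rfl⟩ := hw
      exact ((show Commute z x from hc.symm).zpow_left i).eq))
  rw [Subgroup.zpowers_eq_bot] at hbot
  rw [hbot, orderOf_one] at hz
  exact absurd hz (by decide)

/-- The A₄ configuration: `x` and `x t` of order dividing three. -/
theorem eq_one_of_cubes {x t : G} (hx : Good x) (ht : t * t = 1) (hxt : (x * t) ^ 3 = 1) : t = 1 := by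
  have hx3 : x ^ 3 = 1 := by rw [← hx.1, pow_orderOf_eq_one]
  set v := x * t * x⁻¹ with hv
  set w := x * v * x⁻¹ with hw
  have hvv : v * v = 1 := by rw [hv, show x * t * x⁻¹ * (x * t * x⁻¹) = x * (t * t) * x⁻¹ by group, ht]; group
  have hww : w * w = 1 := by rw [hw, show x * v * x⁻¹ * (x * v * x⁻¹) = x * (v * v) * x⁻¹ by group, hvv]; group
  have hwu : x * w * x⁻¹ = t := by
    rw [hw, hv]
    calc x * (x * (x * t * x⁻¹) * x⁻¹) * x⁻¹ = x ^ 3 * t * (x ^ 3)⁻¹ := by
          simp only [pow_succ, pow_zero, one_mul]; group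
      _ = t := by rw [hx3]; group
  have hprod : v * w * t = 1 := by
    rw [← hxt, hw, hv]
    calc x * t * x⁻¹ * (x * (x * t * x⁻¹) * x⁻¹) * t
        = x * t * (x * t * x⁻¹) * x⁻¹ * 1 * t := by group
      _ = x * t * (x * t * x⁻¹) * x⁻¹ * x ^ 3 * t := by rw [hx3]
      _ = (x * t) ^ 3 := by simp only [pow_succ, pow_zero, one_mul]; group
  have hvw : v * w = t := by
    calc v * w = v * w * (t * t) := by rw [ht, mul_one]
      _ = (v * w * t) * t := by group
      _ = t := by rw [hprod, one_mul]
  have huvw : t * v = w := by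
    have hinv : (v * w)⁻¹ = w * v := by
      rw [mul_inv_rev, inv_eq_of_mul_eq_one_left hww, inv_eq_of_mul_eq_one_left hvv]
    rw [hvw, inv_eq_of_mul_eq_one_left ht] at hinv
    rw [hinv, mul_assoc, hvv, mul_one]
  have huv : t * v = v * t := by
    rw [huvw, ← hvw, ← mul_assoc, hvv, one_mul]
  set Q : Subgroup G := Subgroup.closure {t, v} with hQ
  have hcomm : ∀ a ∈ Q, ∀ b ∈ Q, a * b = b * a := by
    have h : Q ≤ Subgroup.centralizer (Q : Set G) := by
      rw [hQ, Subgroup.centralizer_closure, Subgroup.closure_le]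
      intro a ha
      rw [SetLike.mem_coe, Subgroup.mem_centralizer_iff]
      intro b hb
      rcases ha with rfl | rfl <;> rcases hb with rfl | rfl
      · rfl
      · exact huv.symm
      · exact huv
      · rfl
    exact fun a ha b hb => (Subgroup.mem_centralizer_iff.1 (h ha) b hb).symm
  have hexp : ∀ a ∈ Q, a * a = 1 := by
    intro a ha
    induction ha using Subgroup.closure_induction with
    | mem y hy =>
      rcases hy with rfl | rfl
      · exact ht
      · exact hvv
    | one => rw [one_mul]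
    | mul y z hy hz ihy ihz =>
      rw [show y * z * (y * z) = y * (z * y) * z by group, hcomm z hz y hy,
        show y * (y * z) * z = (y * y) * (z * z) by group, ihy, ihz, one_mul]
    | inv y _ ihy => rw [← mul_inv_rev, ihy, inv_one]
  have hp : IsPGroup 2 Q := fun a => ⟨1, Subtype.ext (by
    rw [pow_one, SubmonoidClass.coe_pow, sq]; exact hexp a a.2)⟩
  have hle : Q.map (MulAut.conj x).toMonoidHom ≤ Q := by
    rw [hQ, MonoidHom.map_closure, Subgroup.closure_le]
    rintro _ ⟨a, ha, rfl⟩
    rcases ha with rfl | rfl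
    · exact Subgroup.subset_closure (Set.mem_insert_of_mem _ rfl)
    · show w ∈ Subgroup.closure {t, v}
      rw [← huvw]
      exact Subgroup.mul_mem _ (Subgroup.subset_closure (Set.mem_insert _ _))
        (Subgroup.subset_closure (Set.mem_insert_of_mem _ rfl))
  have heq : Q.map (MulAut.conj x).toMonoidHom = Q := by
    refine Subgroup.eq_of_le_of_card_ge hle ?_
    rw [Subgroup.card_map_of_injective (MulAut.conj x).injective]
  have hxn : x ∈ Subgroup.normalizer (Q : Set G) := by
    rw [Subgroup.mem_normalizer_iff]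
    intro a
    constructor
    · intro ha; exact hle ⟨a, ha, rfl⟩
    · intro ha
      rw [← heq] at ha
      obtain ⟨b, hb, hb'⟩ := ha
      have : b = a := (MulAut.conj x).injective hb'
      exact this ▸ hb
  have hbot := hx.2 Q hp hxn
  have hu : t ∈ Q := Subgroup.subset_closure (Set.mem_insert _ _)
  rw [hbot, Subgroup.mem_bot] at hu
  exact hu


/-- Let G be a finite group of order divisible by 6. Then the number of irreducible characters of G whose degree has the same 2-part as the order of G (the characters of 2-defect zero, each forming a 2-block of defect zero on its own) is at least the number of conjugacy classes of elements of order 3 that normalize no nontrivial 2-subgroup of G. In particular G has a 2-block of defect zero as soon as some element of order 3 normalizes no nontrivial 2-subgroup. -/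
theorem result {G : Type*} [Group G] [Finite G] (h6 : 6 ∣ Nat.card G) : Nat.card {C : ConjClasses G // ∃ g ∈ C.carrier, orderOf g = 3 ∧ ∀ Q : Subgroup G, IsPGroup 2 ↥Q → g ∈ Subgroup.normalizer (Q : Set G) → Q = ⊥} ≤ Nat.card {χ : Cfsg.IrrCharacter G // (Cfsg.charDegree (χ : G → ℂ)).factorization 2 = (Nat.card G).factorization 2} := by
  classical
  have := Fintype.ofFinite G
  obtain ⟨M, hM⟩ := CfsgLib.Blocks.exists_isPModular 2 Nat.prime_two
  have := CfsgLib.Blocks.IsPModular.isPrime hM
  let Cl := {C : ConjClasses G // ∃ g ∈ C.carrier, orderOf g = 3 ∧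
    ∀ Q : Subgroup G, IsPGroup 2 ↥Q → g ∈ Subgroup.normalizer (Q : Set G) → Q = ⊥}
  let D := {χ : Cfsg.IrrCharacter G //
    (Cfsg.charDegree (χ : G → ℂ)).factorization 2 = (Nat.card G).factorization 2}
  show Nat.card Cl ≤ Nat.card D
  have hrep : ∀ c : Cl, ∃ g : G, ConjClasses.mk g = c.1 ∧ Good g := fun c => by
    obtain ⟨g, hg, hg'⟩ := c.2
    exact ⟨g, ConjClasses.mem_carrier_iff_mk_eq.1 hg, hg'⟩
  choose rep hrep1 hrep2 using hrep
  set T := CfsgLib.ClassPairs.sqOne G with hT
  -- the orthogonality relation weighted by the square-one elements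
  have horth : ∀ c c' : Cl, ∑ χ : Cfsg.IrrCharacter G,
      (∑ t ∈ T, (χ : G → ℂ) t) / (χ : G → ℂ) 1 * ((χ : G → ℂ) (rep c)⁻¹ * (χ : G → ℂ) (rep c'))
      = if c = c' then (Nat.card ↥(Subgroup.centralizer ({rep c} : Set G)) : ℂ) else 0 := by
    intro c c'
    have hpairs := CfsgLib.ClassPairs.card_pairs (rep c)⁻¹ (rep c') T
    have hone : ∀ a b : G, a * (rep c)⁻¹ * a⁻¹ * (b * rep c' * b⁻¹) ∈ T →
        a * (rep c)⁻¹ * a⁻¹ * (b * rep c' * b⁻¹) = 1 := by
      intro a b hab
      rw [hT, CfsgLib.ClassPairs.mem_sqOne] at hab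
      set t := a * (rep c)⁻¹ * a⁻¹ * (b * rep c' * b⁻¹) with ht
      have h1 : rep c * (a⁻¹ * t * a) = (a⁻¹ * b) * rep c' * (a⁻¹ * b)⁻¹ := by rw [ht]; group
      have h2 : (rep c * (a⁻¹ * t * a)) ^ 3 = 1 := by
        rw [h1, conj_pow, show (3 : ℕ) = orderOf (rep c') from (hrep2 c').1.symm, pow_orderOf_eq_one]
        group
      have h3 := eq_one_of_cubes (hrep2 c) (t := a⁻¹ * t * a)
        (by rw [show a⁻¹ * t * a * (a⁻¹ * t * a) = a⁻¹ * (t * t) * a by group, hab]; group) h2
      calc t = a * (a⁻¹ * t * a) * a⁻¹ := by group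
        _ = 1 := by rw [h3]; group
    have hcount : (∑ a : G, ∑ b : G,
        if a * (rep c)⁻¹ * a⁻¹ * (b * rep c' * b⁻¹) ∈ T then (1 : ℂ) else 0) =
        (Nat.card G : ℂ) *
          if c = c' then (Nat.card ↥(Subgroup.centralizer ({rep c} : Set G)) : ℂ) else 0 := by
      have hinner : ∀ a : G, (∑ b : G,
          if a * (rep c)⁻¹ * a⁻¹ * (b * rep c' * b⁻¹) ∈ T then (1 : ℂ) else 0) =
          if c = c' then (Nat.card ↥(Subgroup.centralizer ({rep c} : Set G)) : ℂ) else 0 := by
        intro a
        split_ifs with hcc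
        · subst hcc
          rw [Finset.sum_boole, ← Fintype.card_subtype, ← Nat.card_eq_fintype_card]
          congr 1
          refine Nat.card_congr
            { toFun := fun b => ⟨a⁻¹ * b.1, ?_⟩
              invFun := fun k => ⟨a * k.1, ?_⟩
              left_inv := fun b => Subtype.ext (by group)
              right_inv := fun k => Subtype.ext (by group) }
          · have h1 := hone a b.1 b.2
            rw [Subgroup.mem_centralizer_singleton_iff]
            calc a⁻¹ * b.1 * rep c
                = rep c * (a⁻¹ * (a * (rep c)⁻¹ * a⁻¹ * (b.1 * rep c * b.1⁻¹)) * b.1) := by group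
              _ = rep c * (a⁻¹ * b.1) := by rw [h1]; group
          · have hk := Subgroup.mem_centralizer_singleton_iff.1 k.2
            rw [hT, CfsgLib.ClassPairs.mem_sqOne,
              show a * k.1 * rep c * (a * k.1)⁻¹ = a * (k.1 * rep c) * k.1⁻¹ * a⁻¹ by group, hk]
            group
        · refine Finset.sum_eq_zero fun b _ => if_neg fun hb => hcc (Subtype.ext ?_)
          rw [← hrep1 c, ← hrep1 c', ConjClasses.mk_eq_mk_iff_isConj]
          have h1 := hone a b hb
          refine (isConj_iff.2 ⟨a⁻¹ * b, ?_⟩).symm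
          calc a⁻¹ * b * rep c' * (a⁻¹ * b)⁻¹
              = rep c * a⁻¹ * (a * (rep c)⁻¹ * a⁻¹ * (b * rep c' * b⁻¹)) * a := by group
            _ = rep c := by rw [h1]; group
      simp only [hinner, Finset.sum_const, Finset.card_univ, nsmul_eq_mul, Nat.card_eq_fintype_card]
    rw [hcount] at hpairs
    rw [mul_left_cancel₀ Characters.natCard_ne_zero hpairs]
    refine Finset.sum_congr rfl fun χ _ => ?_
    have hc : (starRingEnd ℂ) (∑ t ∈ T, (χ : G → ℂ) t) = ∑ t ∈ T, (χ : G → ℂ) t := by
      rw [map_sum]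
      refine Finset.sum_congr rfl fun t ht => ?_
      rw [← Characters.character_inv (Characters.isCharacter_of_isIrr χ.2),
        inv_eq_of_mul_eq_one_left (CfsgLib.ClassPairs.mem_sqOne.1 ht)]
    rw [← map_sum, hc]
    ring
  -- reduction modulo `M`
  let v : Cfsg.IrrCharacter G → G → CfsgLib.Blocks.localRing M := fun χ g =>
    ⟨(χ : G → ℂ) g, CfsgLib.Blocks.memLocalRing_of_isIntegral
      (Characters.character_isIntegral (Characters.isCharacter_of_isIrr χ.2) g)⟩
  let w : Cfsg.IrrCharacter G → CfsgLib.Blocks.localRing M := fun χ =>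
    ⟨(∑ t ∈ T, (χ : G → ℂ) t) / (χ : G → ℂ) 1, CfsgLib.Blocks.memLocalRing_of_isIntegral
      (CfsgLib.ClassPairs.isIntegral_sum_sqOne_div χ)⟩
  let A : Matrix Cl D (CfsgLib.Blocks.Res M) :=
    Matrix.of fun c χ => CfsgLib.Blocks.red M (w χ.1 * v χ.1 (rep c)⁻¹)
  let B : Matrix D Cl (CfsgLib.Blocks.Res M) :=
    Matrix.of fun χ c => CfsgLib.Blocks.red M (v χ.1 (rep c))
  have hodd : ∀ c : Cl, ¬ 2 ∣ Nat.card ↥(Subgroup.centralizer ({rep c} : Set G)) := by
    intro c h
    obtain ⟨z, hz⟩ := exists_prime_orderOf_dvd_card' 2 h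
    rw [← Subgroup.orderOf_coe] at hz
    exact no_involution_centralizing (hrep2 c) hz (Subgroup.mem_centralizer_singleton_iff.1 z.2).symm
  have hAB : A * B = Matrix.diagonal fun c : Cl =>
      ((Nat.card ↥(Subgroup.centralizer ({rep c} : Set G)) : ℕ) : CfsgLib.Blocks.Res M) := by
    ext c c'
    rw [Matrix.mul_apply]
    have h1 : ∑ χ : Cfsg.IrrCharacter G, w χ * v χ (rep c)⁻¹ * v χ (rep c') =
        if c = c' then ((Nat.card ↥(Subgroup.centralizer ({rep c} : Set G)) : ℕ) :
          CfsgLib.Blocks.localRing M) else 0 := by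
      apply Subtype.ext
      have h0 := horth c c'
      rw [AddSubmonoidClass.coe_finsetSum]
      split_ifs with hcc
      · rw [if_pos hcc] at h0
        push_cast
        rw [← h0]
        exact Finset.sum_congr rfl fun χ _ => mul_assoc _ _ _
      · rw [if_neg hcc] at h0
        rw [ZeroMemClass.coe_zero, ← h0]
        exact Finset.sum_congr rfl fun χ _ => mul_assoc _ _ _
    have h2 := congrArg (CfsgLib.Blocks.red M) h1
    rw [map_sum, ← Finset.sum_filter_add_sum_filter_not Finset.univ
      (fun χ : Cfsg.IrrCharacter G =>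
        (Cfsg.charDegree (χ : G → ℂ)).factorization 2 = (Nat.card G).factorization 2)] at h2
    rw [Finset.sum_eq_zero (s := Finset.univ.filter fun χ : Cfsg.IrrCharacter G =>
        ¬ (Cfsg.charDegree (χ : G → ℂ)).factorization 2 = (Nat.card G).factorization 2)
      (fun χ hχ => by
        rw [map_mul, map_mul, CfsgLib.Blocks.red_eq_zero_iff.2
          (CfsgLib.ClassPairs.memLocalIdeal_sum_sqOne_div hM χ (Finset.mem_filter.1 hχ).2),
          zero_mul, zero_mul]), add_zero] at h2
    rw [Finset.sum_subtype (p := fun χ : Cfsg.IrrCharacter G =>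
        (Cfsg.charDegree (χ : G → ℂ)).factorization 2 = (Nat.card G).factorization 2) _
      (fun χ => by simp)] at h2
    simp only [A, B, Matrix.of_apply, ← map_mul]
    rw [h2, Matrix.diagonal_apply]
    split_ifs <;> simp
  have hrank : (A * B).rank = Fintype.card Cl := by
    rw [hAB, Matrix.rank_diagonal, Fintype.card_subtype_compl]
    have hzero : Fintype.card {c : Cl //
        ((Nat.card ↥(Subgroup.centralizer ({rep c} : Set G)) : ℕ) : CfsgLib.Blocks.Res M) = 0} = 0 := by
      rw [Fintype.card_eq_zero_iff]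
      refine ⟨fun c => hodd c.1 ?_⟩
      have hc := c.2
      exact (CfsgLib.Blocks.red_natCast_eq_zero_iff hM _).1 hc
    omega
  rw [Nat.card_eq_fintype_card, Nat.card_eq_fintype_card, ← hrank]
  exact (Matrix.rank_mul_le_left A B).trans (Matrix.rank_le_card_width A)

end Cfsg.Agent.S4737
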