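import Cfsg.Statements.S4741
import Cfsg.Agent.Blocks.Height
import Cfsg.Agent.ClassPairs.Basic
import Cfsg.Agent.Characters.Linear

set_option autoImplicit false
set_option linter.style.haveILetI false
open Cfsg

namespace Cfsg.Agent.S4741

open CfsgLib.Blocks in
/-- A local quotient of natural numbers with equal p-parts is a unit. -/
theorem unit_div {M : Ideal Cfsg.AlgInt} [M.IsPrime] {p : ℕ} (hM : Cfsg.IsPModular p M) {n m : ℕ}
    (hn : n ≠ 0) (hm : m ≠ 0) (h : n.factorization p = m.factorization p) :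
    ∃ u : localRing M, (u : ℂ) = (n : ℂ) / (m : ℂ) ∧ red M u ≠ 0 := by
  refine ⟨⟨_, memLocalRing_div_of_eq hM hm h.ge⟩, rfl, fun h0 => ?_⟩
  have h1 := red_eq_red_iff.1 (h0.trans (map_zero (red M)).symm)
  have h2 := memLocalIdeal_mul_left (memLocalRing_div_of_eq hM hn h.le) h1
  simp only [ZeroMemClass.coe_zero, sub_zero] at h2
  rw [div_mul_div_cancel₀ (Nat.cast_ne_zero.2 hn), div_self (Nat.cast_ne_zero.2 hm)] at h2
  exact not_memLocalIdeal_one h2


/-- Let p be a prime, M a maximal ideal of the algebraic integers containing p, and D a subgroup of the finite group G. Let x₁, …, x_r be pairwise non-conjugate elements of G such that D is a Sylow p-subgroup of the centralizer of each xᵢ, and such that for any conjugates g of some xᵢ and h of some xⱼ the element g h⁻¹ is never a non-identity p-element. Then there are r distinct p-blocks B₁, …, B_r of G, each having D as a defect group, such that for every choice of characters χᵢ ∈ Bᵢ of height zero the determinant of the r × r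 matrix (χᵢ(xⱼ)) does not lie in the local ideal at M. -/
theorem result {G : Type*} [Group G] [Finite G] (p : ℕ) [Fact p.Prime] (M : Ideal Cfsg.AlgInt) (hM : Cfsg.IsPModular p M) (D : Subgroup G) {r : ℕ} (x : Fin r → G) (hx : ∀ i j : Fin r, IsConj (x i) (x j) → i = j) (hD : ∀ i : Fin r, ∃ S : Sylow p ↥(Subgroup.centralizer ({x i} : Set G)), (S : Subgroup ↥(Subgroup.centralizer ({x i} : Set G))).map (Subgroup.centralizer ({x i} : Set G)).subtype = D) (hsep : ∀ i j : Fin r, ∀ g h : G, IsConj (x i) g → IsConj (x j) h → ∀ k : ℕ, 0 < k → orderOf (g * h⁻¹) ≠ p ^ k) : ∃ B : Fin r → Set (Cfsg.IrrCharacter G), Function.Injective B ∧ (∀ i : Fin r, Cfsg.IsPBlock M (B i) ∧ Cfsg.IsDefectGroup p M (B i) D) ∧ ∀ χ : Fin r → Cfsg.IrrCharacter G, (∀ i : Fin r, χ i ∈ B i ∧ Cfsg.blockHeight p (B i) (χ i : G → ℂ) = 0) → ¬ Cfsg.MemLocalIdeal M (Matrix.det (Matrix.of fun i j : Fin r => (χ i : G → ℂ) (x j))) := by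
  classical
  letI : Fintype G := Fintype.ofFinite G
  haveI := CfsgLib.Blocks.IsPModular.isPrime hM
  have hp : p.Prime := Fact.out
  set a := (Nat.card G).factorization p with ha
  set d := (Nat.card D).factorization p with hd
  have hDx : ∀ i, CfsgLib.Blocks.IsSylowIn p (Subgroup.centralizer ({x i} : Set G)) D :=
    fun i => CfsgLib.Blocks.isSylowIn_iff.2 (hD i)
  have hidx : ∀ i, (Subgroup.centralizer ({x i} : Set G)).index.factorization p + d = a := fun i =>
    CfsgLib.Blocks.index_centralizer_factorization (hDx i)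
  set IX : Fin r → ℕ := fun i => (Subgroup.centralizer ({x i} : Set G)).index with hIX
  have hIX0 : ∀ i, IX i ≠ 0 := fun i => Subgroup.index_ne_zero_of_finite
  -- the trivial multiplicity on a Sylow subgroup
  obtain ⟨P⟩ : Nonempty (Sylow p G) := inferInstance
  letI : Fintype (P : Subgroup G) := Fintype.ofFinite _
  choose m hm using fun χ : Cfsg.IrrCharacter G => CfsgLib.Characters.classInner_character_irr
    (CfsgLib.Characters.isCharacter_restrict (P : Subgroup G)
      (CfsgLib.Characters.isCharacter_of_isIrr χ.2))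
    (CfsgLib.Characters.isIrr_one (G := (P : Subgroup G)))
  have hmsum : ∀ χ : Cfsg.IrrCharacter G, (m χ : ℂ) =
      (Nat.card (P : Subgroup G) : ℂ)⁻¹ * ∑ u : (P : Subgroup G),
        (starRingEnd ℂ) ((χ : G → ℂ) u) := by
    intro χ
    have h := congrArg (starRingEnd ℂ) (hm χ)
    rw [Cfsg.classInner, map_mul, map_sum, map_inv₀, map_natCast, map_natCast] at h
    rw [← h]
    simp
  have key : ∀ i j : Fin r, ∑ χ : Cfsg.IrrCharacter G, Cfsg.centralChar (χ : G → ℂ) (x i) *
      ((m χ : ℂ) * (starRingEnd ℂ) ((χ : G → ℂ) (x j))) =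
      if i = j then ((Nat.card G : ℕ) : ℂ) / ((p ^ a : ℕ) : ℂ) else 0 := by
    intro i j
    have e : ∀ χ : Cfsg.IrrCharacter G, Cfsg.centralChar (χ : G → ℂ) (x i) *
        ((m χ : ℂ) * (starRingEnd ℂ) ((χ : G → ℂ) (x j))) =
        (IX i : ℂ) * (Nat.card (P : Subgroup G) : ℂ)⁻¹ * ∑ u : (P : Subgroup G),
          (starRingEnd ℂ) ((χ : G → ℂ) u) *
            ((χ : G → ℂ) (x i) * (χ : G → ℂ) (x j)⁻¹ / (χ : G → ℂ) 1) := by
      intro χ
      rw [Cfsg.centralChar, hmsum,
        ← CfsgLib.Characters.character_inv (CfsgLib.Characters.isCharacter_of_isIrr χ.2),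
        ← Finset.sum_mul]
      ring
    rw [Finset.sum_congr rfl fun χ _ => e χ, ← Finset.mul_sum, Finset.sum_comm,
      Finset.sum_eq_single (1 : (P : Subgroup G)) (fun u _ hu => ?_) (by simp)]
    · have e2 : ∀ χ : Cfsg.IrrCharacter G,
          (starRingEnd ℂ) ((χ : G → ℂ) ((1 : (P : Subgroup G)) : G)) *
            ((χ : G → ℂ) (x i) * (χ : G → ℂ) (x j)⁻¹ / (χ : G → ℂ) 1) =
          (χ : G → ℂ) (x i) * (starRingEnd ℂ) ((χ : G → ℂ) (x j)) := by
        intro χ
        have h1 : (χ : G → ℂ) 1 ≠ 0 := CfsgLib.Characters.irr_one_ne_zero χ.2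
        rw [OneMemClass.coe_one,
          ← CfsgLib.Characters.character_inv (CfsgLib.Characters.isCharacter_of_isIrr χ.2) 1,
          inv_one, CfsgLib.Characters.character_inv (CfsgLib.Characters.isCharacter_of_isIrr χ.2)]
        field_simp
      rw [Finset.sum_congr rfl fun χ _ => e2 χ]
      split_ifs with hij
      · subst hij
        rw [CfsgLib.Characters.sum_irr_mul_conj_of_isConj (IsConj.refl (x i)), ha,
          ← P.card_eq_multiplicity]
        simp only [hIX]
        rw [mul_right_comm, ← Nat.cast_mul, Subgroup.index_mul_card, div_eq_mul_inv]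
      · rw [CfsgLib.Characters.sum_irr_mul_conj_of_not_isConj fun h => hij (hx i j h), mul_zero]
    · have h := CfsgLib.ClassPairs.card_pairs (x i) (x j)⁻¹ {(u : G)}
      rw [Finset.sum_eq_zero fun a _ => Finset.sum_eq_zero fun b _ => if_neg fun hab => ?_] at h
      · have h' := (mul_eq_zero.1 h.symm).resolve_left CfsgLib.Characters.natCard_ne_zero
        simpa only [Finset.sum_singleton] using h'
      · rw [Finset.mem_singleton] at hab
        obtain ⟨k, hk⟩ := IsPGroup.iff_orderOf.1 P.isPGroup' u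
        have hk0 : 0 < k := by
          rcases Nat.eq_zero_or_pos k with h0 | h0
          · rw [h0, pow_zero, orderOf_eq_one_iff] at hk
            exact absurd hk hu
          · exact h0
        refine hsep i j (a * x i * a⁻¹) (b * x j * b⁻¹) (isConj_iff.2 ⟨a, rfl⟩)
          (isConj_iff.2 ⟨b, rfl⟩) k hk0 ?_
        rw [show a * x i * a⁻¹ * (b * x j * b⁻¹)⁻¹ = a * x i * a⁻¹ * (b * (x j)⁻¹ * b⁻¹) by group,
          hab, Subgroup.orderOf_coe, hk]
  -- reduction
  let K := CfsgLib.Blocks.Res M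
  let ω : Cfsg.IrrCharacter G → Fin r → K := fun χ i =>
    CfsgLib.Blocks.red M ⟨_, CfsgLib.Blocks.memLocalRing_centralChar χ (x i)⟩
  let s : Cfsg.IrrCharacter G → Fin r → CfsgLib.Blocks.localRing M := fun χ j =>
    ⟨(m χ : ℂ) * (starRingEnd ℂ) ((χ : G → ℂ) (x j)), by
      rw [← CfsgLib.Characters.character_inv (CfsgLib.Characters.isCharacter_of_isIrr χ.2)]
      exact Subring.mul_mem (CfsgLib.Blocks.localRing M) (CfsgLib.Blocks.memLocalRing_natCast _)
        (CfsgLib.Blocks.memLocalRing_char χ _)⟩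
  obtain ⟨c, hc, hc0⟩ := unit_div hM (Nat.card_pos (α := G)).ne' (pow_ne_zero a hp.ne_zero)
    (by rw [hp.factorization_pow, Finsupp.single_eq_same])
  have keyK : ∀ i j : Fin r, ∑ χ : Cfsg.IrrCharacter G, ω χ i * CfsgLib.Blocks.red M (s χ j) =
      if i = j then CfsgLib.Blocks.red M c else 0 := by
    intro i j
    simp only [ω, ← map_mul, ← map_sum]
    rw [← map_zero (CfsgLib.Blocks.red M), ← apply_ite (CfsgLib.Blocks.red M)]
    refine congrArg _ (Subtype.ext ?_)
    rw [AddSubmonoidClass.coe_finsetSum]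
    simp only [Subring.coe_mul, s]
    rw [key]
    split_ifs with h
    · exact hc.symm
    · rfl
  let good : Cfsg.IrrCharacter G → Prop := fun χ =>
    Cfsg.IsDefectGroup p M (Cfsg.blockOf M (χ : G → ℂ)) D
  have hbad : ∀ χ i j, ¬ good χ → ω χ i * CfsgLib.Blocks.red M (s χ j) = 0 := by
    intro χ i j hg
    by_contra hne
    have hB := CfsgLib.Blocks.isPBlock_blockOf (M := M) χ
    obtain ⟨E, hE⟩ := CfsgLib.Blocks.exists_isDefectGroup (p := p) hB
    obtain ⟨y, hy⟩ := CfsgLib.Blocks.IsDefectGroup.exists_conj_le hM hB hE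
      (CfsgLib.Blocks.mem_blockOf_self χ) (h := x i)
      (by rw [CfsgLib.Blocks.omegaBar_classSum]; exact fun h0 => hne (by simp only [ω, h0, zero_mul]))
      (hDx i)
    have hne' : CfsgLib.BlockPairs.cj y E ≠ D := fun he =>
      hg (show Cfsg.IsDefectGroup p M _ D from he ▸ CfsgLib.Blocks.IsDefectGroup.conj hB hE y)
    have hlt : Nat.card E < Nat.card D := by
      rw [← CfsgLib.BlockPairs.card_cj y E]
      refine lt_of_le_of_ne (Subgroup.card_le_of_le hy) fun he => hne' ?_
      exact Subgroup.eq_of_le_of_card_ge hy he.ge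
    have hfl : (Nat.card E).factorization p < d := by
      obtain ⟨k1, hk1⟩ := IsPGroup.iff_card.1 (CfsgLib.Blocks.IsDefectGroup.isPGroup hE)
      obtain ⟨k2, hk2⟩ := IsPGroup.iff_card.1 (hDx i).2.1
      rw [hk1, hk2] at hlt
      rw [hd, hk1, hk2, hp.factorization_pow, hp.factorization_pow, Finsupp.single_eq_same,
        Finsupp.single_eq_same]
      exact (Nat.pow_lt_pow_iff_right hp.one_lt).1 hlt
    have hge := CfsgLib.Blocks.defect_add_degree_ge hM hB hE (CfsgLib.Blocks.mem_blockOf_self χ)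
    have hlt2 : (IX j).factorization p < (Cfsg.charDegree (χ : G → ℂ)).factorization p := by
      have := hidx j
      simp only [hIX]
      omega
    refine hne (mul_eq_zero_of_right _ ?_)
    rw [← map_zero (CfsgLib.Blocks.red M), CfsgLib.Blocks.red_eq_red_iff]
    simp only [s, ZeroMemClass.coe_zero, sub_zero]
    rw [← CfsgLib.Characters.character_inv (CfsgLib.Characters.isCharacter_of_isIrr χ.2)]
    refine CfsgLib.Blocks.memLocalIdeal_mul_left (CfsgLib.Blocks.memLocalRing_natCast _) ?_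
    have hI := CfsgLib.Blocks.memLocalIdeal_mul_div_of_lt hM (hIX0 j) hlt2
      (CfsgLib.Blocks.memLocalRing_centralChar χ (x j)⁻¹)
    convert hI using 1
    rw [CfsgLib.Blocks.centralChar_eq, CfsgLib.Blocks.centralizer_inv_singleton]
    have h1 : ((Cfsg.charDegree (χ : G → ℂ) : ℕ) : ℂ) ≠ 0 :=
      Nat.cast_ne_zero.2 (CfsgLib.Blocks.charDegree_ne_zero χ)
    have h2 : (IX j : ℂ) ≠ 0 := Nat.cast_ne_zero.2 (hIX0 j)
    simp only [hIX] at h2 ⊢
    field_simp
  -- the good columns span
  have hspan : Submodule.span K (ω '' {χ | good χ}) = ⊤ := by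
    rw [eq_top_iff]
    intro v _
    have hv : v = ∑ j : Fin r, (v j / CfsgLib.Blocks.red M c) •
        ∑ χ : Cfsg.IrrCharacter G, (if good χ then CfsgLib.Blocks.red M (s χ j) • ω χ else 0) := by
      funext i
      rw [Finset.sum_apply, Finset.sum_eq_single i]
      rotate_left
      · intro j _ hj
        rw [Pi.smul_apply, Finset.sum_apply, smul_eq_mul]
        refine mul_eq_zero_of_right _ (Eq.trans (Finset.sum_congr rfl fun χ _ => ?_)
          ((keyK i j).trans (if_neg (Ne.symm hj))))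
        split_ifs with h
        · rw [Pi.smul_apply, smul_eq_mul, mul_comm]
        · rw [hbad χ i j h]; rfl
      · simp
      rw [Pi.smul_apply, Finset.sum_apply, smul_eq_mul]
      rw [Finset.sum_congr rfl (g := fun χ => ω χ i * CfsgLib.Blocks.red M (s χ i)) fun χ _ => ?_,
        keyK i i, if_pos rfl, div_mul_cancel₀ _ hc0]
      split_ifs with h
      · rw [Pi.smul_apply, smul_eq_mul, mul_comm]
      · rw [hbad χ i i h]; rfl
    rw [hv]
    refine Submodule.sum_mem _ fun j _ => Submodule.smul_mem _ _ (Submodule.sum_mem _ fun χ _ => ?_)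
    split_ifs with h
    · exact Submodule.smul_mem _ _ (Submodule.subset_span ⟨χ, h, rfl⟩)
    · exact Submodule.zero_mem _
  obtain ⟨b, hb, hbspan, hbli⟩ := exists_linearIndependent K (ω '' {χ | good χ})
  let bas : Module.Basis b K (Fin r → K) := Module.Basis.mk hbli (by rw [Subtype.range_coe, hbspan, hspan])
  haveI : Finite b := ((Set.toFinite _).image ω |>.subset hb).to_subtype
  letI : Fintype b := Fintype.ofFinite b
  let e : Fin r ≃ b := (Fintype.equivFinOfCardEq (by
    rw [← Module.finrank_eq_card_basis bas, Module.finrank_fin_fun])).symm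
  choose ψ hψg hψω using fun i : Fin r => hb (e i).2
  have hωblock : ∀ χ φ : Cfsg.IrrCharacter G, χ ∈ Cfsg.blockOf M (φ : G → ℂ) → ω χ = ω φ := by
    intro χ φ h
    funext i
    refine CfsgLib.Blocks.red_eq_red_iff.2 ?_
    exact CfsgLib.Blocks.sameBlock_symm (CfsgLib.Blocks.mem_blockOf.1 h) (x i)
  have hinj : Function.Injective fun i => Cfsg.blockOf M (ψ i : G → ℂ) := by
    intro i j hij
    dsimp only at hij
    refine e.injective (Subtype.ext ?_)
    rw [← hψω i, ← hψω j]
    exact hωblock _ _ (hij ▸ CfsgLib.Blocks.mem_blockOf_self (ψ i))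
  refine ⟨fun i => Cfsg.blockOf M (ψ i : G → ℂ), hinj,
    fun i => ⟨CfsgLib.Blocks.isPBlock_blockOf _, hψg i⟩, fun χ hχ => ?_⟩
  have hu : ∀ i, ∃ u : CfsgLib.Blocks.localRing M,
      (u : ℂ) = ((Cfsg.charDegree (χ i : G → ℂ) : ℕ) : ℂ) / ((p ^ (a - d) : ℕ) : ℂ) ∧
        CfsgLib.Blocks.red M u ≠ 0 := fun i => by
    refine unit_div hM (CfsgLib.Blocks.charDegree_ne_zero _) (pow_ne_zero _ hp.ne_zero) ?_
    rw [hp.factorization_pow, Finsupp.single_eq_same]
    have h1 := CfsgLib.Blocks.blockHeight_eq hM (CfsgLib.Blocks.isPBlock_blockOf _) (hψg i) (hχ i).1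
    rw [(hχ i).2] at h1
    omega
  have hw : ∀ j, ∃ u : CfsgLib.Blocks.localRing M,
      (u : ℂ) = ((p ^ (a - d) : ℕ) : ℂ) / ((IX j : ℕ) : ℂ) ∧
        CfsgLib.Blocks.red M u ≠ 0 := fun j => by
    refine unit_div hM (pow_ne_zero _ hp.ne_zero) (hIX0 j) ?_
    rw [hp.factorization_pow, Finsupp.single_eq_same]
    have := hidx j
    simp only [hIX]
    omega
  choose u hu hu0 using hu
  choose w hw hw0 using hw
  let A : Matrix (Fin r) (Fin r) (CfsgLib.Blocks.localRing M) := Matrix.of fun i j =>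
    u i * ⟨_, CfsgLib.Blocks.memLocalRing_centralChar (χ i) (x j)⟩ * w j
  have hA : (Matrix.of fun i j : Fin r => (χ i : G → ℂ) (x j)) =
      (CfsgLib.Blocks.localRing M).subtype.mapMatrix A := by
    ext i j
    show (χ i : G → ℂ) (x j) =
      ((u i : CfsgLib.Blocks.localRing M) : ℂ) * Cfsg.centralChar (χ i : G → ℂ) (x j) *
        ((w j : CfsgLib.Blocks.localRing M) : ℂ)
    rw [hu, hw, CfsgLib.Blocks.centralChar_eq]
    have h1 : ((Cfsg.charDegree (χ i : G → ℂ) : ℕ) : ℂ) ≠ 0 :=
      Nat.cast_ne_zero.2 (CfsgLib.Blocks.charDegree_ne_zero _)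
    have h2 : ((p ^ (a - d) : ℕ) : ℂ) ≠ 0 := Nat.cast_ne_zero.2 (pow_ne_zero _ hp.ne_zero)
    have h3 : (IX j : ℂ) ≠ 0 := Nat.cast_ne_zero.2 (hIX0 j)
    simp only [hIX] at h3 ⊢
    field_simp
  rw [hA, ← RingHom.map_det]
  intro hI
  have h0 : CfsgLib.Blocks.red M A.det = 0 := by
    rw [← map_zero (CfsgLib.Blocks.red M), CfsgLib.Blocks.red_eq_red_iff]
    simpa using hI
  rw [RingHom.map_det] at h0
  have hAK : (CfsgLib.Blocks.red M).mapMatrix A = Matrix.diagonal (fun i => CfsgLib.Blocks.red M (u i)) *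
      Matrix.of (fun i j => ((e i : b) : Fin r → K) j) *
      Matrix.diagonal (fun j => CfsgLib.Blocks.red M (w j)) := by
    ext i j
    rw [Matrix.mul_diagonal, Matrix.diagonal_mul, RingHom.mapMatrix_apply, Matrix.map_apply]
    simp only [A, Matrix.of_apply, map_mul]
    rw [← hψω i, ← hωblock _ _ (hχ i).1]
  rw [hAK, Matrix.det_mul, Matrix.det_mul, Matrix.det_diagonal, Matrix.det_diagonal, mul_eq_zero,
    mul_eq_zero] at h0
  rcases h0 with (h | h) | h
  · exact Finset.prod_ne_zero_iff.2 (fun i _ => hu0 i) h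
  · have hli : LinearIndependent K
        (Matrix.of (fun i j => ((e i : b) : Fin r → K) j)).row := hbli.comp e e.injective
    exact ((Matrix.isUnit_iff_isUnit_det _).1
      (Matrix.linearIndependent_rows_iff_isUnit.1 hli)).ne_zero h
  · exact Finset.prod_ne_zero_iff.2 (fun j _ => hw0 j) h

end Cfsg.Agent.S4741
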