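import Cfsg.Statements.S4742
import Cfsg.Agent.ClassPairs.Involution

set_option autoImplicit false
open Cfsg

namespace Cfsg.Agent.S4742

/-- Let p ≠ q be primes dividing the order of the finite group G, and suppose the centralizer of every non-identity p-element of G has order prime to q. Then either G has an irreducible character of p-defect zero, or for every non-identity q-element z of G there are conjugates g, h of z such that g h⁻¹ is a non-identity p-element. -/
theorem result {G : Type*} [Group G] [Finite G] (p q : ℕ) [Fact p.Prime] [Fact q.Prime] (hppq : p ≠ q) (hpG : p ∣ Nat.card G) (hqG : q ∣ Nat.card G) (hC : ∀ g : G, g ≠ 1 → (∃ k : ℕ, orderOf g = p ^ k) → ¬ q ∣ Nat.card ↥(Subgroup.centralizer ({g} : Set G))) : (∃ χ : Cfsg.IrrCharacter G, (Cfsg.charDegree (χ : G → ℂ)).factorization p = (Nat.card G).factorization p) ∨ ∀ z : G, z ≠ 1 → (∃ k : ℕ, orderOf z = q ^ k) → ∃ g h : G, IsConj z g ∧ IsConj z h ∧ g * h⁻¹ ≠ 1 ∧ ∃ k : ℕ, orderOf (g * h⁻¹) = p ^ k := by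
  classical
  have := Fintype.ofFinite G
  by_contra hcon
  push Not at hcon
  obtain ⟨hno, z, hz1, hzq, hz⟩ := hcon
  obtain ⟨P⟩ : Nonempty (Sylow p G) := inferInstance
  have hCz : ¬ p ∣ Nat.card ↥(Subgroup.centralizer ({z} : Set G)) := by
    intro h
    obtain ⟨u, hu⟩ := exists_prime_orderOf_dvd_card' p h
    have hu' : orderOf (u : G) = p := by rw [Subgroup.orderOf_coe]; exact hu
    refine hC (u : G) (fun h1 => ?_) ⟨1, by rw [hu', pow_one]⟩ ?_
    · rw [h1, orderOf_one] at hu'
      exact (Fact.out : p.Prime).one_lt.ne hu'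
    · obtain ⟨k, hk⟩ := hzq
      have hk0 : k ≠ 0 := by
        rintro rfl
        exact hz1 (orderOf_eq_one_iff.1 (by simpa using hk))
      have hzm : z ∈ Subgroup.centralizer ({(u : G)} : Set G) :=
        Subgroup.mem_centralizer_singleton_iff.2 (Subgroup.mem_centralizer_singleton_iff.1 u.2).symm
      refine (dvd_pow_self q hk0).trans ?_
      rw [← hk, ← Subgroup.orderOf_mk z hzm]
      exact orderOf_dvd_natCard _
  obtain ⟨χ, hχ⟩ := CfsgLib.ClassPairs.exists_defectZero z z⁻¹ (IsConj.refl _) hCz P fun a b hab => by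
    by_contra hne
    obtain ⟨k, hk⟩ := CfsgLib.ClassPairs.orderOf_pow_of_isPGroup P.isPGroup' hab
    have h1 : a * z * a⁻¹ * (b * z * b⁻¹)⁻¹ = a * z * a⁻¹ * (b * z⁻¹ * b⁻¹) := by group
    exact hz (a * z * a⁻¹) (b * z * b⁻¹) (isConj_iff.2 ⟨a, rfl⟩) (isConj_iff.2 ⟨b, rfl⟩)
      (by rw [h1]; exact hne) k (by rw [h1]; exact hk)
  exact hno χ hχ

end Cfsg.Agent.S4742
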