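import Cfsg.Statements.S4743
import Cfsg.Agent.S4742

set_option autoImplicit false
open Cfsg

namespace Cfsg.Agent.S4743

theorem defectZero_of_normal {G : Type*} [Group G] [Finite G] (p q : ℕ) [Fact p.Prime] [Fact q.Prime]
    (hpq : p ≠ q) (hpG : p ∣ Nat.card G)
    (hC : ∀ g : G, g ≠ 1 → (∃ k : ℕ, orderOf g = p ^ k) →
      ¬ q ∣ Nat.card ↥(Subgroup.centralizer ({g} : Set G)))
    (N : Subgroup G) [N.Normal] (hqN : q ∣ Nat.card N) (hpN : ¬ p ∣ Nat.card N) :
    ∃ χ : Cfsg.IrrCharacter G,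
      (Cfsg.charDegree (χ : G → ℂ)).factorization p = (Nat.card G).factorization p := by
  obtain ⟨z, hz⟩ := exists_prime_orderOf_dvd_card' q hqN
  rw [← Subgroup.orderOf_coe] at hz
  rcases Cfsg.Agent.S4742.result p q hpq hpG (hqN.trans (Subgroup.card_subgroup_dvd_card N)) hC
    with h | h
  · exact h
  · exfalso
    obtain ⟨g, g', hg, hg', hne, k, hk⟩ := h (z : G) (fun h1 => by
      rw [h1, orderOf_one] at hz
      exact (Fact.out : q.Prime).one_lt.ne hz) ⟨1, by rw [hz, pow_one]⟩
    obtain ⟨a, rfl⟩ := isConj_iff.1 hg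
    obtain ⟨b, rfl⟩ := isConj_iff.1 hg'
    have hmem : a * (z : G) * a⁻¹ * (b * (z : G) * b⁻¹)⁻¹ ∈ N :=
      N.mul_mem (Subgroup.Normal.conj_mem inferInstance _ z.2 a)
        (N.inv_mem (Subgroup.Normal.conj_mem inferInstance _ z.2 b))
    have hdvd : p ^ k ∣ Nat.card N := by
      rw [← hk, ← Subgroup.orderOf_mk _ hmem]
      exact orderOf_dvd_natCard _
    cases k with
    | zero => exact hne (orderOf_eq_one_iff.1 (by simpa using hk))
    | succ j => exact hpN ((dvd_pow_self p j.succ_ne_zero).trans hdvd)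

theorem centralizer_symm {G : Type*} [Group G] [Finite G] (p q : ℕ) [Fact p.Prime] [Fact q.Prime]
    (hC : ∀ g : G, g ≠ 1 → (∃ k : ℕ, orderOf g = p ^ k) →
      ¬ q ∣ Nat.card ↥(Subgroup.centralizer ({g} : Set G))) :
    ∀ g : G, g ≠ 1 → (∃ k : ℕ, orderOf g = q ^ k) →
      ¬ p ∣ Nat.card ↥(Subgroup.centralizer ({g} : Set G)) := by
  intro g hg ⟨k, hk⟩ h
  obtain ⟨u, hu⟩ := exists_prime_orderOf_dvd_card' p h
  have hu' : orderOf (u : G) = p := by rw [Subgroup.orderOf_coe]; exact hu
  refine hC (u : G) (fun h1 => ?_) ⟨1, by rw [hu', pow_one]⟩ ?_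
  · rw [h1, orderOf_one] at hu'
    exact (Fact.out : p.Prime).one_lt.ne hu'
  · have hk0 : k ≠ 0 := by
      rintro rfl
      exact hg (orderOf_eq_one_iff.1 (by simpa using hk))
    have hm : g ∈ Subgroup.centralizer ({(u : G)} : Set G) :=
      Subgroup.mem_centralizer_singleton_iff.2 (Subgroup.mem_centralizer_singleton_iff.1 u.2).symm
    refine (dvd_pow_self q hk0).trans ?_
    rw [← hk, ← Subgroup.orderOf_mk g hm]
    exact orderOf_dvd_natCard _

theorem exists_separating {G : Type*} [Group G] [Finite G] (p q : ℕ) [Fact p.Prime] [Fact q.Prime]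
    (hpq : p ≠ q) (hpG : p ∣ Nat.card G) (hs : Cfsg.IsPSolvable p G) :
    ∃ N : Subgroup G, N.Normal ∧
      ((q ∣ Nat.card N ∧ ¬ p ∣ Nat.card N) ∨ (p ∣ Nat.card N ∧ ¬ q ∣ Nat.card N)) := by
  obtain ⟨n, H, h0, hlast, hmono, hnorm, hstep⟩ := hs
  by_contra hcon
  push Not at hcon
  have hnone : ∀ i, ¬ p ∣ Nat.card (H i) ∧ ¬ q ∣ Nat.card (H i) := by
    intro i
    induction i using Fin.induction with
    | zero =>
      rw [h0, Subgroup.card_bot]
      exact ⟨fun h => (Fact.out : p.Prime).ne_one (Nat.dvd_one.1 h),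
        fun h => (Fact.out : q.Prime).ne_one (Nat.dvd_one.1 h)⟩
    | succ i ih =>
      have hcard : Nat.card (H i.castSucc) * (H i.castSucc).relIndex (H i.succ) = Nat.card (H i.succ) := by
        have h4 := Subgroup.card_mul_index ((H i.castSucc).subgroupOf (H i.succ))
        rwa [Nat.card_congr (Subgroup.subgroupOfEquivOfLe
          (hmono (Fin.castSucc_le_succ i))).toEquiv] at h4
      obtain ⟨h1, h2⟩ := hcon (H i.succ) (hnorm _)
      rcases hstep i with ⟨m, hm⟩ | hm
      · have hq : ¬ q ∣ Nat.card (H i.succ) := by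
          rw [← hcard, hm]
          intro h
          rcases (Nat.Prime.dvd_mul Fact.out).1 h with h | h
          · exact ih.2 h
          · exact hpq ((Nat.prime_dvd_prime_iff_eq Fact.out Fact.out).1
              ((Fact.out : q.Prime).dvd_of_dvd_pow h)).symm
        exact ⟨fun h => hq (h2 h), hq⟩
      · have hp' : ¬ p ∣ Nat.card (H i.succ) := by
          rw [← hcard]
          intro h
          rcases (Nat.Prime.dvd_mul Fact.out).1 h with h | h
          · exact ih.1 h
          · exact (Fact.out : p.Prime).ne_one ((hm.symm.coprime_dvd_right h).eq_one_of_dvd dvd_rfl)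
        exact ⟨hp', fun h => hp' (h1 h)⟩
  have h3 := (hnone (Fin.last n)).1
  rw [hlast, Subgroup.card_top] at h3
  exact h3 hpG


/-- Let p ≠ q be primes dividing the order of the finite group G, suppose the centralizer of every non-identity p-element has order prime to q, and suppose G is p-solvable or q-solvable. Then G has an irreducible character of p-defect zero or an irreducible character of q-defect zero. -/
theorem result {G : Type*} [Group G] [Finite G] (p q : ℕ) [Fact p.Prime] [Fact q.Prime] (hppq : p ≠ q) (hpG : p ∣ Nat.card G) (hqG : q ∣ Nat.card G) (hC : ∀ g : G, g ≠ 1 → (∃ k : ℕ, orderOf g = p ^ k) → ¬ q ∣ Nat.card ↥(Subgroup.centralizer ({g} : Set G))) (hsolv : Cfsg.IsPSolvable p G ∨ Cfsg.IsPSolvable q G) : (∃ χ : Cfsg.IrrCharacter G, (Cfsg.charDegree (χ : G → ℂ)).factorization p = (Nat.card G).factorization p) ∨ (∃ χ : Cfsg.IrrCharacter G, (Cfsg.charDegree (χ : G → ℂ)).factorization q = (Nat.card G).factorization q) := by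
  have hC' := centralizer_symm p q hC
  rcases hsolv with hs | hs
  · obtain ⟨N, hN, ⟨h1, h2⟩ | ⟨h1, h2⟩⟩ := exists_separating p q hppq hpG hs
    · exact Or.inl (defectZero_of_normal p q hppq hpG hC N h1 h2)
    · exact Or.inr (defectZero_of_normal q p (Ne.symm hppq) hqG hC' N h1 h2)
  · obtain ⟨N, hN, ⟨h1, h2⟩ | ⟨h1, h2⟩⟩ := exists_separating q p (Ne.symm hppq) hqG hs
    · exact Or.inr (defectZero_of_normal q p (Ne.symm hppq) hqG hC' N h1 h2)
    · exact Or.inl (defectZero_of_normal p q hppq hpG hC N h1 h2)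

end Cfsg.Agent.S4743
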