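import Cfsg.Statements.S4744
import Cfsg.Agent.ClassPairs.Involution

set_option autoImplicit false
open Cfsg

namespace Cfsg.Agent.S4744

/-- Let p be an odd prime and G a finite group of even order divisible by p in which the centralizer of every non-identity p-element has odd order. Then either G has an irreducible character of p-defect zero, or the normalizer of every Sylow p-subgroup P of G has even order and P is abelian. -/
theorem result {G : Type*} [Group G] [Finite G] (p : ℕ) [Fact p.Prime] (hp2 : p ≠ 2) (hpG : p ∣ Nat.card G) (h2G : 2 ∣ Nat.card G) (hC : ∀ g : G, g ≠ 1 → (∃ k : ℕ, orderOf g = p ^ k) → Odd (Nat.card ↥(Subgroup.centralizer ({g} : Set G)))) : (∃ χ : Cfsg.IrrCharacter G, (Cfsg.charDegree (χ : G → ℂ)).factorization p = (Nat.card G).factorization p) ∨ ∀ P : Sylow p G, Even (Nat.card ↥(Subgroup.normalizer ((P : Subgroup G) : Set G))) ∧ IsMulCommutative ↥(P : Subgroup G) := by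
  by_cases hd : ∃ χ : Cfsg.IrrCharacter G,
      (Cfsg.charDegree (χ : G → ℂ)).factorization p = (Nat.card G).factorization p
  · exact Or.inl hd
  · obtain ⟨h1, h2, -⟩ := CfsgLib.ClassPairs.structure_of_no_defectZero hp2
      (CfsgLib.ClassPairs.noTwoP_of_odd_centralizer hC) h2G hd
    refine Or.inr fun P => ⟨?_, h1 P⟩
    obtain ⟨t, ht, hinv⟩ := h2 P
    have hmem : t ∈ Subgroup.normalizer ((P : Subgroup G) : Set G) := by
      refine Subgroup.mem_normalizer_iff.2 fun q => ⟨fun hq => ?_, fun hq => ?_⟩
      · rw [hinv q hq]; exact (P : Subgroup G).inv_mem hq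
      · have h4 := hinv _ hq
        have h5 : t * (t * q * t⁻¹) * t⁻¹ = q := by
          have htt := CfsgLib.ClassPairs.mul_self_of_orderOf ht
          rw [inv_eq_of_mul_eq_one_left htt, ← mul_assoc, ← mul_assoc, htt, one_mul, mul_assoc,
            htt, mul_one]
        rw [h5] at h4
        rw [h4]; exact (P : Subgroup G).inv_mem hq
    rw [even_iff_two_dvd, ← ht, ← Subgroup.orderOf_mk t hmem]
    exact orderOf_dvd_natCard _

end Cfsg.Agent.S4744
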