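import Cfsg.Statements.S4745
import Cfsg.Statements.S4745
import Cfsg.Agent.DefectFree.Transitive
import Cfsg.Agent.S4743
import Cfsg.Agent.S0205

set_option autoImplicit false
open Cfsg
set_option linter.unusedSectionVars false
set_option linter.style.haveILetI false
set_option linter.unusedVariables false

namespace Cfsg.Agent.S4745

/-- Let p be an odd prime and G a finite group of even order divisible by p in which the centralizer of every non-identity p-element has odd order, and suppose G acts faithfully and transitively on a set with p ^ r elements, r ≥ 1. Then either G has an irreducible character of p-defect zero, or G is p-solvable and has an irreducible character of 2-defect zero. -/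
theorem result {G Ω : Type*} [Group G] [Finite G] [MulAction G Ω] [FaithfulSMul G Ω] [Fintype Ω] (htr : MulAction.IsPretransitive G Ω) (p : ℕ) [Fact p.Prime] (hp2 : p ≠ 2) (hpG : p ∣ Nat.card G) (h2G : 2 ∣ Nat.card G) (hC : ∀ g : G, g ≠ 1 → (∃ k : ℕ, orderOf g = p ^ k) → Odd (Nat.card ↥(Subgroup.centralizer ({g} : Set G)))) (r : ℕ) (hr : 1 ≤ r) (hΩ : Fintype.card Ω = p ^ r) : (∃ χ : Cfsg.IrrCharacter G, (Cfsg.charDegree (χ : G → ℂ)).factorization p = (Nat.card G).factorization p) ∨ (Cfsg.IsPSolvable p G ∧ ∃ χ : Cfsg.IrrCharacter G, (Cfsg.charDegree (χ : G → ℂ)).factorization 2 = (Nat.card G).factorization 2) := by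
  by_cases hno : ∃ χ : Cfsg.IrrCharacter G,
      (Cfsg.charDegree (χ : G → ℂ)).factorization p = (Nat.card G).factorization p
  · exact Or.inl hno
  haveI := Fintype.ofFinite G
  haveI := htr
  obtain ⟨P⟩ : Nonempty (Sylow p G) := inferInstance
  haveI := CfsgLib.DefectFree.sylow_normal (r := r) (Nat.card_eq_fintype_card.trans hΩ)
    (fun P => CfsgLib.DefectFree.sylow_comm hno hC h2G P) hno hC hp2 h2G
    (fun x hx hk => Cfsg.Agent.S0205.result (hC x hx hk)) P
  have hsolv : Cfsg.IsPSolvable p G :=
    CfsgLib.PLocal.isPSolvable_of_extension (P : Subgroup G)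
      (CfsgLib.PLocal.isPSolvable_of_isPGroup P.2)
      (CfsgLib.PLocal.isPSolvable_of_coprime (by
        rw [← Subgroup.index_eq_card]
        exact ((Fact.out : p.Prime).coprime_iff_not_dvd.2 P.not_dvd_index).symm))
  haveI := Fact.mk Nat.prime_two
  exact Or.inr ⟨hsolv, (Cfsg.Agent.S4743.result p 2 hp2 hpG h2G (fun x hx hk h =>
    Nat.not_even_iff_odd.2 (hC x hx hk) (even_iff_two_dvd.2 h)) (Or.inl hsolv)).resolve_left hno⟩

end Cfsg.Agent.S4745
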