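import Cfsg.Statements.S4746
import Cfsg.Agent.ClassPairs.Involution

set_option autoImplicit false
open Cfsg

namespace Cfsg.Agent.S4746

/-- Let p be an odd prime and G a finite group of even order divisible by p in which the centralizer of every non-identity p-element has odd order. Then G has an irreducible character of p-defect zero or an irreducible character of even degree. -/
theorem result {G : Type*} [Group G] [Finite G] (p : ℕ) [Fact p.Prime] (hp2 : p ≠ 2) (hpG : p ∣ Nat.card G) (h2G : 2 ∣ Nat.card G) (hC : ∀ g : G, g ≠ 1 → (∃ k : ℕ, orderOf g = p ^ k) → Odd (Nat.card ↥(Subgroup.centralizer ({g} : Set G)))) : (∃ χ : Cfsg.IrrCharacter G, (Cfsg.charDegree (χ : G → ℂ)).factorization p = (Nat.card G).factorization p) ∨ ∃ χ : Cfsg.IrrCharacter G, Even (Cfsg.charDegree (χ : G → ℂ)) := by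
  classical
  have := Fintype.ofFinite G
  by_contra hcon
  push Not at hcon
  obtain ⟨hno, hodd⟩ := hcon
  have hN := CfsgLib.ClassPairs.noTwoP_of_odd_centralizer hC
  obtain ⟨-, h2, -⟩ := CfsgLib.ClassPairs.structure_of_no_defectZero hp2 hN h2G (not_exists.2 hno)
  obtain ⟨P⟩ : Nonempty (Sylow p G) := inferInstance
  obtain ⟨t, -, hinv⟩ := h2 P
  have hbot : (P : Subgroup G) ≠ ⊥ := P.ne_bot_of_dvd_card hpG
  obtain ⟨⟨u, huP⟩, hu⟩ := Subgroup.ne_bot_iff_exists_ne_one.1 hbot
  have hu1 : u ≠ 1 := fun h => hu (Subtype.ext h)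
  have hCodd := hC u hu1 (CfsgLib.ClassPairs.orderOf_pow_of_isPGroup P.isPGroup' huP)
  have hreal : ∀ χ : Cfsg.IrrCharacter G,
      (starRingEnd ℂ) ((χ : G → ℂ) u) = (χ : G → ℂ) u := by
    intro χ
    rw [← CfsgLib.Characters.character_inv (CfsgLib.Characters.isCharacter_of_isIrr χ.2)]
    exact CfsgLib.Characters.classFunction_isConj (CfsgLib.Characters.isClassFunction_of_isIrr χ.2)
      (isConj_iff.2 ⟨t, hinv u huP⟩).symm
  let val : Cfsg.IrrCharacter G → Cfsg.AlgInt := fun χ =>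
    ⟨(χ : G → ℂ) u,
      CfsgLib.Characters.character_isIntegral (CfsgLib.Characters.isCharacter_of_isIrr χ.2) u⟩
  let I : Ideal Cfsg.AlgInt := Ideal.span {(2 : Cfsg.AlgInt)}
  have htwo : (2 : Cfsg.AlgInt ⧸ I) = 0 := by
    rw [← map_ofNat (Ideal.Quotient.mk I) 2, Ideal.Quotient.eq_zero_iff_mem]
    exact Ideal.mem_span_singleton_self _
  have hdeg : ∀ χ : Cfsg.IrrCharacter G,
      (Cfsg.charDegree (χ : G → ℂ) : Cfsg.AlgInt ⧸ I) = 1 := by
    intro χ
    obtain ⟨m, hm⟩ := Nat.not_even_iff_odd.1 (hodd χ)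
    rw [hm]; push_cast; rw [htwo]; simp
  have hsum1 : ∑ χ : Cfsg.IrrCharacter G, (Cfsg.charDegree (χ : G → ℂ) : Cfsg.AlgInt) * val χ = 0 := by
    apply Subtype.ext
    push_cast
    have h0 := CfsgLib.Characters.sum_degree_mul (G := G) u
    rw [if_neg hu1] at h0
    rw [← h0]
    refine Finset.sum_congr rfl fun χ _ => ?_
    obtain ⟨n, -, hn, hn', -⟩ := CfsgLib.ClassPairs.exists_irr_degree χ
    rw [hn, hn']
  have hsum2 : ∑ χ : Cfsg.IrrCharacter G, val χ ^ 2
      = (Nat.card ↥(Subgroup.centralizer ({u} : Set G)) : Cfsg.AlgInt) := by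
    apply Subtype.ext
    push_cast
    rw [← CfsgLib.Characters.sum_irr_mul_conj_of_isConj (IsConj.refl u)]
    refine Finset.sum_congr rfl fun χ _ => ?_
    rw [hreal, sq]
  have h1 : ∑ χ : Cfsg.IrrCharacter G, Ideal.Quotient.mk I (val χ) = 0 := by
    have h0 := congrArg (Ideal.Quotient.mk I) hsum1
    simpa [map_sum, map_mul, map_natCast, hdeg] using h0
  have hsq : ∀ s : Finset (Cfsg.IrrCharacter G),
      (∑ χ ∈ s, Ideal.Quotient.mk I (val χ)) ^ 2 = ∑ χ ∈ s, Ideal.Quotient.mk I (val χ) ^ 2 := by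
    intro s
    induction s using Finset.induction_on with
    | empty => simp
    | insert a s ha ih => rw [Finset.sum_insert ha, Finset.sum_insert ha, add_sq, htwo, ih]; ring
  have h2' := congrArg (Ideal.Quotient.mk I) hsum2
  simp only [map_sum, map_pow, map_natCast] at h2'
  rw [← hsq, h1, zero_pow two_ne_zero] at h2'
  obtain ⟨m, hm⟩ := hCodd
  rw [hm] at h2'
  push_cast at h2'
  rw [htwo, zero_mul, zero_add] at h2'
  have hmem : (1 : Cfsg.AlgInt) ∈ I := by
    rw [← Ideal.Quotient.eq_zero_iff_mem, map_one]; exact h2'.symm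
  obtain ⟨c, hc⟩ := Ideal.mem_span_singleton.1 hmem
  have hcC : ((1 : ℕ) : ℂ) / ((2 : ℕ) : ℂ) = (c : ℂ) := by
    have hc' : (1 : ℂ) = ((2 : Cfsg.AlgInt) : ℂ) * (c : ℂ) := congrArg Subtype.val hc
    rw [show ((2 : Cfsg.AlgInt) : ℂ) = 2 from map_ofNat Cfsg.AlgInt.val.toRingHom 2] at hc'
    push_cast
    linear_combination (1 / 2 : ℂ) * hc'
  have hdvd := CfsgLib.Characters.dvd_of_isIntegral_div (a := 1) two_ne_zero (by rw [hcC]; exact c.2)
  exact absurd hdvd (by decide)

end Cfsg.Agent.S4746
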