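import Cfsg.Statements.S4748
import Cfsg.Agent.TICharacter.Basic
import Cfsg.Agent.S3754
import Cfsg.Agent.Coprime.Generation

set_option autoImplicit false
set_option linter.style.haveILetI false
open scoped Pointwise
open Cfsg

namespace Cfsg.Agent.S4748

/-- Let G be a finite p-solvable group whose Sylow p-subgroup P meets each conjugate g P g⁻¹ with g outside N_G(P) trivially, and let χ be a faithful character of G (χ g = χ 1 only for g = 1) whose degree d satisfies d² ≤ |P|. Then P is normal in G. -/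
theorem result {G : Type*} [Group G] [Finite G] (p : ℕ) [Fact p.Prime] (hsolv : Cfsg.IsPSolvable p G) (P : Sylow p G) (hTI : ∀ g : G, g ∉ Subgroup.normalizer ((P : Subgroup G) : Set G) → (P : Subgroup G) ⊓ (MulAut.conj g • (P : Subgroup G)) = ⊥) (χ : G → ℂ) (hχ : Cfsg.IsCharacter G χ) (hfaith : ∀ g : G, χ g = χ 1 → g = 1) (hdeg : Cfsg.charDegree χ ^ 2 ≤ Nat.card ↥(P : Subgroup G)) : (P : Subgroup G).Normal := by
  classical
  letI : Fintype G := Fintype.ofFinite G
  have hp : p.Prime := Fact.out
  by_contra hnP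
  set PS : Subgroup G := (P : Subgroup G) with hPS
  obtain ⟨g, hg⟩ : ∃ g : G, g ∉ Subgroup.normalizer (PS : Set G) := by
    by_contra hall
    push Not at hall
    exact hnP (Subgroup.normalizer_eq_top_iff.1 (top_le_iff.1 fun g _ => hall g))
  have hconj : ∀ n : G, ∀ a ∈ PS, a ≠ 1 → a ∈ MulAut.conj n • PS →
      n ∈ Subgroup.normalizer (PS : Set G) := by
    intro n a ha ha1 han
    by_contra hn
    exact ha1 (Subgroup.mem_bot.1 ((hTI n hn) ▸ Subgroup.mem_inf.2 ⟨ha, han⟩))
  have hO : Cfsg.pCore p G = ⊥ := by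
    rw [eq_bot_iff]
    intro a ha
    rw [Subgroup.mem_bot]
    by_contra ha1
    have hle := (CfsgLib.PLocal.isPGroup_pCore p G).le_sylow_of_normal P
    refine hg (hconj g a (hle ha) ha1 ⟨g⁻¹ * a * g, ?_, by simp [mul_assoc]⟩)
    have h := (inferInstance : (Cfsg.pCore p G).Normal).conj_mem a ha g⁻¹
    rw [inv_inv] at h
    exact hle h
  set N := Cfsg.pPrimeCore p G with hN
  haveI : N.Normal := inferInstance
  have hCN := Cfsg.Agent.S3754.centralizer_pPrimeCore_le hsolv hO
  have hNp : (Nat.card N).Coprime p := CfsgLib.PLocal.coprime_card_pPrimeCore p G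
  obtain ⟨k, hk⟩ := IsPGroup.iff_card.1 P.isPGroup'
  have hcopP : (Nat.card PS).Coprime (Nat.card N) := by
    rw [hk]; exact (hNp.pow_right k).symm
  have hfix : ∀ u ∈ PS, (∀ n ∈ N, u * n = n * u) → u = 1 := by
    intro u hu hc
    have h : u ∈ PS ⊓ N := ⟨hu, hCN (Subgroup.mem_centralizer_iff.2 fun n hn => (hc n hn).symm)⟩
    rw [inf_comm, CfsgLib.Coprime.inf_eq_bot_of_coprime hcopP.symm] at h
    exact Subgroup.mem_bot.1 h
  have hPne : PS ≠ ⊥ := fun h => hnP (h ▸ inferInstance)
  haveI : Nontrivial PS := (Subgroup.nontrivial_iff_ne_bot _).2 hPne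
  haveI := P.isPGroup'.center_nontrivial
  obtain ⟨j, hj⟩ := IsPGroup.iff_card.1 (P.isPGroup'.to_subgroup (Subgroup.center PS))
  obtain ⟨x, hx⟩ := exists_prime_orderOf_dvd_card' p (G := Subgroup.center PS) (by
    rw [hj]
    refine dvd_pow_self p ?_
    rintro rfl
    rw [pow_zero] at hj
    exact absurd hj Finite.one_lt_card.ne')
  set x' : PS := (x : PS) with hx'
  have hxo : orderOf x' = p := by rw [hx', Subgroup.orderOf_coe, hx]
  have hxc : ∀ u : PS, u * x' = x' * u := fun u => Subgroup.mem_center_iff.1 x.2 u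
  -- only one subgroup of order p
  have hone : ∀ y : PS, y ^ p = 1 → y ∈ Subgroup.zpowers x' := by
    intro y hy
    by_contra hyx
    set A : Subgroup G := Subgroup.closure {(x' : G), (y : G)} with hA
    have hxy : ∀ a ∈ ({(x' : G), (y : G)} : Set G), ∀ b ∈ ({(x' : G), (y : G)} : Set G),
        a * b = b * a := by
      have e : (y : G) * (x' : G) = (x' : G) * (y : G) := congrArg Subtype.val (hxc y)
      rintro a (rfl | rfl) b (rfl | rfl)
      exacts [rfl, e.symm, e, rfl]
    haveI : IsMulCommutative A := Subgroup.isMulCommutative_closure hxy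
    have hAP : A ≤ PS := by
      rw [hA, Subgroup.closure_le]
      rintro a (rfl | rfl)
      exacts [x'.2, y.2]
    have hxA : (x' : G) ∈ A := Subgroup.subset_closure (Set.mem_insert _ _)
    have hyA : (y : G) ∈ A := Subgroup.subset_closure (Set.mem_insert_of_mem _ rfl)
    have hexp : ∀ a ∈ A, a ^ p = 1 := by
      intro a ha
      induction ha using Subgroup.closure_induction with
      | mem a ha =>
        rcases ha with rfl | rfl
        · rw [← SubmonoidClass.coe_pow, orderOf_dvd_iff_pow_eq_one.1 hxo.dvd, OneMemClass.coe_one]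
        · rw [← SubmonoidClass.coe_pow, hy, OneMemClass.coe_one]
      | one => exact one_pow p
      | mul a b ha hb iha ihb =>
        have hc : Commute a b :=
          setLike_mul_comm (show a ∈ A from ha) (show b ∈ A from hb)
        rw [hc.mul_pow, iha, ihb, one_mul]
      | inv a ha iha => rw [inv_pow, iha, inv_one]
    have hAc : ¬ IsCyclic A := by
      intro hc
      obtain ⟨a, ha⟩ := hc.exists_generator
      have hle : Subgroup.zpowers (x' : G) ≤ A := Subgroup.zpowers_le.2 hxA
      have hcard : Nat.card A ≤ p := by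
        rw [← orderOf_eq_card_of_forall_mem_zpowers ha]
        refine Nat.le_of_dvd hp.pos (orderOf_dvd_of_pow_eq_one ?_)
        exact Subtype.ext (by rw [SubmonoidClass.coe_pow]; exact hexp a a.2)
      have heq : Subgroup.zpowers (x' : G) = A := Subgroup.eq_of_le_of_card_ge hle (by
        rw [Nat.card_zpowers, Subgroup.orderOf_coe, hxo]; exact hcard)
      obtain ⟨i, hi⟩ := Subgroup.mem_zpowers_iff.1 (heq ▸ hyA)
      exact hyx (Subgroup.mem_zpowers_iff.2 ⟨i, Subtype.ext (by simpa using hi)⟩)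
    have hNn : N ≤ Subgroup.normalizer (PS : Set G) := by
      refine CfsgLib.Coprime.le_of_forall_inf_centralizer_le hAc
        Subgroup.le_normalizer_of_normal
        (hcopP.coprime_dvd_left (Subgroup.card_dvd_of_le hAP)) fun a ha ha1 n hn => ?_
      refine hconj n a (hAP ha) ha1 ⟨a, hAP ha, ?_⟩
      show n * a * n⁻¹ = a
      rw [Subgroup.mem_centralizer_singleton_iff.1 hn.2, mul_inv_cancel_right]
    refine hyx ?_
    have hy1 : y = 1 := Subtype.ext (hfix y y.2 fun n hn => ?_)
    · rw [hy1]; exact one_mem _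
    have h : (y : G) * n * (y : G)⁻¹ * n⁻¹ ∈ PS ⊓ N := by
      refine ⟨?_, mul_mem ((inferInstance : N.Normal).conj_mem n hn y) (N.inv_mem hn)⟩
      have h := (Subgroup.mem_normalizer_iff.1 (hNn hn) (y : G)⁻¹).1 (inv_mem (show (y : G) ∈ PS from y.2))
      have e : (y : G) * n * (y : G)⁻¹ * n⁻¹ = (y : G) * (n * (y : G)⁻¹ * n⁻¹) := by group
      rw [e]
      exact mul_mem y.2 h
    rw [inf_comm, CfsgLib.Coprime.inf_eq_bot_of_coprime hcopP.symm, Subgroup.mem_bot,
      mul_inv_eq_one, mul_inv_eq_iff_eq_mul] at h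
    exact h
  have huniq : ∀ w : PS, w ≠ 1 → x' ∈ Subgroup.zpowers w := by
    intro w hw
    obtain ⟨i, hi⟩ := IsPGroup.iff_orderOf.1 P.isPGroup' w
    have hi0 : i ≠ 0 := by
      rintro rfl
      rw [pow_zero] at hi
      exact hw (orderOf_eq_one_iff.1 hi)
    set v : PS := w ^ p ^ (i - 1) with hv
    have hvo : orderOf v = p := by
      rw [hv, orderOf_pow' _ (pow_ne_zero _ hp.ne_zero), hi,
        Nat.gcd_eq_right (pow_dvd_pow p (Nat.sub_le i 1)), Nat.pow_div (Nat.sub_le i 1) hp.pos,
        show i - (i - 1) = 1 by omega, pow_one]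
    have hle : Subgroup.zpowers v ≤ Subgroup.zpowers x' :=
      Subgroup.zpowers_le.2 (hone v (orderOf_dvd_iff_pow_eq_one.1 hvo.dvd))
    have heq := Subgroup.eq_of_le_of_card_ge hle (by rw [Nat.card_zpowers, Nat.card_zpowers, hvo, hxo])
    have hxv : x' ∈ Subgroup.zpowers v := heq ▸ Subgroup.mem_zpowers x'
    exact (Subgroup.zpowers_le.2 (Subgroup.pow_mem _ (Subgroup.mem_zpowers w) _)) hxv
  obtain ⟨d, hd⟩ := CfsgLib.Characters.exists_degree hχ
  have hdd : Cfsg.charDegree χ = d := by simp [Cfsg.charDegree, hd]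
  rw [hdd] at hdeg
  refine absurd hdeg (not_le.2 ?_)
  refine CfsgLib.TICharacter.card_lt_degree_sq_of_coprime (p := p) P.isPGroup' x'
    (fun h => hp.ne_one (by rw [← hxo, h, orderOf_one])) (by have h := pow_orderOf_eq_one x'; rwa [hxo] at h) hxc
    huniq hNp (MulAut.conjNormal.comp PS.subtype) ?_ (χ := fun n : N => χ n)
    (CfsgLib.Characters.isCharacter_restrict N hχ)
    (fun w n => by
      show χ ((MulAut.conjNormal (w : G) n : N) : G) = χ n
      rw [MulAut.conjNormal_apply]
      exact CfsgLib.Characters.isClassFunction_of_isCharacter hχ n w)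
    (fun n hn => Subtype.ext (hfaith _ hn)) hd
  by_contra hall
  push Not at hall
  have h1 : (x' : G) = 1 := hfix x' x'.2 fun n hn => by
    have h := congrArg Subtype.val (hall ⟨n, hn⟩)
    simp only [MonoidHom.comp_apply, MulAut.conjNormal_apply, Subgroup.coe_subtype] at h
    exact mul_inv_eq_iff_eq_mul.1 h
  exact hp.ne_one (by rw [← hxo, Subtype.ext h1 (a2 := (1 : PS)), orderOf_one])

end Cfsg.Agent.S4748
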