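import Cfsg.Statements.S4750
import Cfsg.Agent.TILattice.Basic
import Cfsg.Agent.Characters.RepBasic

set_option autoImplicit false
open scoped Pointwise
open Cfsg

namespace Cfsg.Agent.S4750
open scoped ComplexConjugate

theorem classInner_char {G : Type*} [Group G] [Fintype G] {V : Type*} [AddCommGroup V] [Module ℂ V]
    [FiniteDimensional ℂ V] (ρ : Representation ℂ G V) :
    Cfsg.classInner ρ.character ρ.character
      = Module.finrank ℂ (Representation.linHom ρ ρ).invariants := by
  have : Invertible (Nat.card G : ℂ) := invertibleOfNonzero (Nat.cast_ne_zero.2 Nat.card_pos.ne')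
  rw [← Representation.card_inv_mul_sum_char_eq_finrank, Cfsg.classInner]
  congr 1
  refine Finset.sum_congr rfl fun g _ => ?_
  rw [Representation.char_linHom, CfsgLib.Characters.char_inv, mul_comm]


/-- Let P be a Sylow p-subgroup of the finite group G that meets each conjugate g P g⁻¹ with g outside N_G(P) trivially, χ a character of G with χ(1)² ≤ |P|, and H a subgroup of G containing N_G(P). Then the inner product of χ with itself over G equals the inner product over H of the restriction of χ to H. -/
theorem result {G : Type*} [Group G] [Fintype G] [DecidableEq G] (p : ℕ) [Fact p.Prime] (P : Sylow p G) (hTI : ∀ g : G, g ∉ Subgroup.normalizer ((P : Subgroup G) : Set G) → (P : Subgroup G) ⊓ (MulAut.conj g • (P : Subgroup G)) = ⊥) (χ : G → ℂ) (hχ : Cfsg.IsCharacter G χ) (hdeg : Cfsg.charDegree χ ^ 2 ≤ Nat.card ↥(P : Subgroup G)) (H : Subgroup G) [Fintype ↥H] (hH : Subgroup.normalizer ((P : Subgroup G) : Set G) ≤ H) : Cfsg.classInner χ χ = Cfsg.classInner (fun h : ↥H => χ h) (fun h : ↥H => χ h) := by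
  classical
  obtain ⟨n, ρ, rfl⟩ := hχ
  have hn : Cfsg.charDegree ρ.character = n := by
    simp [Cfsg.charDegree, Representation.char_one]
  rw [hn] at hdeg
  set τ := Representation.linHom ρ ρ with hτ
  rw [classInner_char ρ]
  have hres : (fun h : ↥H => ρ.character h) = Representation.character (ρ.comp H.subtype) := rfl
  rw [hres, classInner_char]
  have hinvH : (Representation.linHom (ρ.comp H.subtype) (ρ.comp H.subtype)).invariants
      = Representation.invariants (τ.comp H.subtype) := rfl
  rw [hinvH]
  suffices hle : Representation.invariants (τ.comp H.subtype) ≤ Representation.invariants τ by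
    have heq : Representation.invariants (τ.comp H.subtype) = Representation.invariants τ :=
      le_antisymm hle fun x hx h => hx h
    rw [heq]
  intro u hu
  -- remove the `G`-fixed part
  let S : Module.End ℂ ((Fin n → ℂ) →ₗ[ℂ] (Fin n → ℂ)) := ∑ g : G, τ g
  have hSfix : ∀ x, ∀ g : G, τ g (S x) = S x := by
    intro x g
    simp only [S, LinearMap.sum_apply, map_sum]
    refine Fintype.sum_equiv (Equiv.mulLeft g) _ _ fun k => ?_
    simp [map_mul]
  have hSid : ∀ x, (∀ g : G, τ g x = x) → S x = (Nat.card G : ℂ) • x := by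
    intro x hx
    simp only [S, LinearMap.sum_apply, hx, Finset.sum_const, Finset.card_univ,
      Nat.card_eq_fintype_card, Nat.cast_smul_eq_nsmul]
  have hc : (Nat.card G : ℂ) ≠ 0 := Nat.cast_ne_zero.2 Nat.card_pos.ne'
  set u' := u - (Nat.card G : ℂ)⁻¹ • S u with hu'def
  have hfix : ∀ h ∈ H, τ h u' = u' := by
    intro h hh
    rw [hu'def, map_sub, map_smul, hSfix]
    have := hu ⟨h, hh⟩
    rw [show τ h u = u from this]
  have hsum : ∑ g : G, τ g u' = 0 := by
    have : S u' = 0 := by
      rw [hu'def, map_sub, map_smul, hSid _ (hSfix u), smul_smul, inv_mul_cancel₀ hc, one_smul,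
        sub_self]
    simpa [S, LinearMap.sum_apply] using this
  by_cases h0 : u' = 0
  · rw [hu'def, sub_eq_zero] at h0
    intro g
    rw [h0, map_smul, hSfix]
  exfalso
  have hsemi : ∀ x ∈ (P : Subgroup G), x ≠ 1 → ∀ g : G, g⁻¹ * x * g ∈ H → g ∈ H := by
    intro x hx hx1 g hgx
    let PH : Sylow p H := P.subtype (Subgroup.le_normalizer.trans hH)
    have hq : IsPGroup p (Subgroup.zpowers (⟨g⁻¹ * x * g, hgx⟩ : H)) := by
      obtain ⟨k, hk⟩ := P.isPGroup' ⟨x, hx⟩
      refine IsPGroup.of_card (n := (orderOf x).factorization p) ?_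
      rw [Nat.card_zpowers]
      have h1 : orderOf (⟨g⁻¹ * x * g, hgx⟩ : H) = orderOf x := by
        rw [← Subgroup.orderOf_coe]
        have := orderOf_injective (MulAut.conj g⁻¹).toMonoidHom (MulEquiv.injective _) x
        simpa using this
      rw [h1]
      have hdvd : orderOf x ∣ p ^ k := orderOf_dvd_of_pow_eq_one (congrArg Subtype.val hk)
      obtain ⟨j, -, hj⟩ := (Nat.dvd_prime_pow Fact.out).1 hdvd
      rw [hj, Nat.Prime.factorization_pow Fact.out]
      simp
    obtain ⟨Q, hQ⟩ := hq.exists_le_sylow
    obtain ⟨h, hh⟩ := MulAction.exists_smul_eq H PH Q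
    have hmem : (⟨g⁻¹ * x * g, hgx⟩ : H) ∈ (Q : Subgroup H) := hQ (Subgroup.mem_zpowers _)
    rw [← hh, Sylow.coe_subgroup_smul, Subgroup.mem_pointwise_smul_iff_inv_smul_mem] at hmem
    simp only [PH, Sylow.coe_subtype, Subgroup.mem_subgroupOf, ← map_inv, MulAut.smul_def,
      MulAut.conj_apply, Subgroup.coe_mul, Subgroup.coe_inv, inv_inv] at hmem
    set k := g * (h : G) with hk
    have hmem' : k⁻¹ * x * k ∈ (P : Subgroup G) := by
      convert hmem using 1
      rw [hk]; group
    have hkN : k ∈ Subgroup.normalizer ((P : Subgroup G) : Set G) := by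
      by_contra hkN
      have := hTI k hkN
      have hx' : x ∈ (P : Subgroup G) ⊓ (MulAut.conj k • (P : Subgroup G)) := by
        refine ⟨hx, Subgroup.mem_pointwise_smul_iff_inv_smul_mem.2 ?_⟩
        simpa [← map_inv, MulAut.smul_def] using hmem'
      rw [this, Subgroup.mem_bot] at hx'
      exact hx1 hx'
    have := H.mul_mem (hH hkN) (H.inv_mem h.2)
    simpa [hk] using this
  have hP := CfsgLib.TILattice.card_le_finrank_span_orbit (P : Subgroup G) H P.isPGroup'
    (Subgroup.le_normalizer.trans hH) hsemi τ u' h0 hfix hsum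
  have hker : Submodule.span ℂ (Set.range fun g : G => τ g u') ≤ LinearMap.ker S := by
    refine Submodule.span_le.2 ?_
    rintro _ ⟨g, rfl⟩
    rw [SetLike.mem_coe, LinearMap.mem_ker]
    have : S u' = 0 := by simpa [S, LinearMap.sum_apply] using hsum
    rw [← this]
    simp only [S, LinearMap.sum_apply]
    refine Fintype.sum_equiv (Equiv.mulRight g) _ _ fun k => ?_
    simp [map_mul]
  have hone : ∀ g : G, τ g LinearMap.id = LinearMap.id := by
    intro g
    ext v
    simp [hτ, Representation.linHom_apply]
  have hlt : LinearMap.ker S < ⊤ := by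
    refine lt_top_iff_ne_top.2 fun htop => ?_
    have h1 : (LinearMap.id : (Fin n → ℂ) →ₗ[ℂ] (Fin n → ℂ)) ∈ LinearMap.ker S := htop ▸ trivial
    rw [LinearMap.mem_ker, hSid _ hone, smul_eq_zero] at h1
    have h2 := h1.resolve_left hc
    refine h0 (LinearMap.ext fun v => ?_)
    have hv : v = 0 := LinearMap.congr_fun h2 v
    rw [hv]; simp
  have h1 := Submodule.finrank_lt_finrank_of_lt hlt
  rw [finrank_top, Module.finrank_linearMap, Module.finrank_fin_fun] at h1
  have h2 := (hP.trans (Submodule.finrank_mono hker)).trans_lt h1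
  nlinarith

end Cfsg.Agent.S4750
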