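import Cfsg.Statements.S4751
import Mathlib.Data.Fintype.Perm
import Mathlib.GroupTheory.Perm.Basic
import Cfsg.Agent.OddOrderChar.Clifford
import Cfsg.Agent.Blocks.Height
import Cfsg.Agent.Characters.Linear
import Cfsg.Agent.PLocal.Cores

set_option autoImplicit false
set_option linter.style.haveILetI false
set_option linter.unusedSectionVars false
open Cfsg

namespace Cfsg.Agent.S4751

open CfsgLib CfsgLib.Characters CfsgLib.OddOrderChar
open scoped ComplexConjugate

variable {G : Type*} [Group G] [Fintype G] (Q : Subgroup G) [hQn : Q.Normal] [Fintype Q]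

/-- Conjugate of a linear character of `Q`. -/
noncomputable def cj (f : Q →* ℂˣ) (g : G) : Q →* ℂˣ :=
  f.comp (MulAut.conjNormal (H := Q) g).toMonoidHom

theorem cj_apply (f : Q →* ℂˣ) (g : G) (x : Q) : cj Q f g x = f (MulAut.conjNormal (H := Q) g x) :=
  rfl

theorem cj_cj (f : Q →* ℂˣ) (a b : G) : cj Q (cj Q f a) b = cj Q f (a * b) := by
  refine MonoidHom.ext fun x => ?_
  simp only [cj_apply, map_mul]
  rfl

/-- What is proved about the restriction to `Q`. -/
structure Setting (p : ℕ) (χ : G → ℂ) : Prop where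
  hcomm : IsMulCommutative Q
  pdvd : p ∣ Nat.card Q
  htrans : ∀ a b : Q →* ℂˣ, a ≠ 1 → b ≠ 1 → ∃ g : G, b = cj Q a g
  hmult : ∀ f : Q →* ℂˣ, f ≠ 1 → Cfsg.classInner (fun x : Q => χ x) (fun x => (f x : ℂ)) = 1
  hzero : Cfsg.classInner (fun x : Q => χ x) (fun x => ((1 : Q →* ℂˣ) x : ℂ)) = 0
  hdeg : χ 1 = (Nat.card Q : ℂ) - 1
  hsing : ∀ g : G, p ∣ orderOf g → χ g * conj (χ g) = 1
  three : 3 ≤ Nat.card Q

theorem perm_three' : ∀ a b : Equiv.Perm (Fin 3), (a * a = 1 ∧ a ≠ 1 ∧ b ^ 3 = 1 ∧ b ≠ 1) →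
    (a * (b * a * b⁻¹)) ^ 3 = 1 ∧ a * (b * a * b⁻¹) ≠ 1 := by decide +kernel

theorem root_normSq {a : ℂ} {n : ℕ} (hn : 0 < n) (h : a ^ n = 1) : a * conj a = 1 := by
  rw [Complex.mul_conj', Complex.norm_eq_one_of_pow_eq_one h hn.ne']
  norm_num

theorem card_dual [IsMulCommutative Q] : Nat.card (Q →* ℂˣ) = Nat.card Q := by
  rw [Nat.card_congr (linearCharEquiv (G := Q)), card_linear_char]
  have h : commutator Q = ⊥ := by
    rw [commutator_eq_bot_iff_center_eq_top]
    exact Subgroup.eq_top_iff' _ |>.2 fun x => Subgroup.mem_center_iff.2 fun y =>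
      (IsMulCommutative.is_comm.comm y x)
  rw [h, Subgroup.index_bot]

instance [Finite Q] : Finite (Q →* ℂˣ) := Finite.of_equiv _ (linearCharEquiv (G := Q)).symm

theorem exists_apply_ne_one [IsMulCommutative Q] (z : Q) (hz : z ≠ 1) :
    ∃ f : Q →* ℂˣ, f z ≠ 1 := by
  letI : CommGroup Q := { (inferInstance : Group Q) with mul_comm := IsMulCommutative.is_comm.comm }
  haveI : NeZero (Monoid.exponent Q : ℂ) := ⟨Nat.cast_ne_zero.2 Monoid.exponent_ne_zero_of_finite⟩
  exact CommGroup.exists_apply_ne_one_of_hasEnoughRootsOfUnity Q ℂ hz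

theorem setting_mk {p : ℕ} [Fact p.Prime] (χ : Cfsg.IrrCharacter G)
    (hfaith : ∀ g : G, (χ : G → ℂ) g = (χ : G → ℂ) 1 → g = 1) (hnl : (χ : G → ℂ) 1 ≠ 1)
    (hroot : ∀ g : G, p ∣ orderOf g → ∃ n : ℕ, 0 < n ∧ ((χ : G → ℂ) g) ^ n = 1) (hQ : Q ≠ ⊥)
    (hQp : IsPGroup p Q) : Setting Q p (χ : G → ℂ) := by
  classical
  have hp : p.Prime := Fact.out
  obtain ⟨n, hn⟩ := IsPGroup.iff_card.1 hQp
  have hn0 : n ≠ 0 := by
    rintro rfl
    exact hQ (Subgroup.card_eq_one.1 (by rw [hn, pow_zero]))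
  have hpd : p ∣ Nat.card Q := hn ▸ dvd_pow_self p hn0
  have hsing : ∀ g : G, p ∣ orderOf g → (χ : G → ℂ) g * conj ((χ : G → ℂ) g) = 1 := fun g hg => by
    obtain ⟨m, hm, h⟩ := hroot g hg
    exact root_normSq hm h
  have hdvdord : ∀ x : Q, x ≠ 1 → p ∣ orderOf (x : G) := fun x hx => by
    obtain ⟨k, hk⟩ := IsPGroup.iff_orderOf.1 hQp x
    rw [Subgroup.orderOf_coe, hk]
    refine dvd_pow_self p fun h0 => hx ?_
    rw [h0, pow_zero, orderOf_eq_one_iff] at hk
    exact hk
  obtain ⟨x0, hx0⟩ := (Subgroup.ne_bot_iff_exists_ne_one.1 hQ)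
  have hres := isCharacter_restrict Q (isCharacter_of_isIrr χ.2)
  obtain ⟨θ, hθ, hin⟩ := exists_constituent hres (fun h => by
    have := congrFun h 1
    simp only [Pi.zero_apply, OneMemClass.coe_one] at this
    exact irr_one_ne_zero χ.2 this)
  obtain ⟨e, he⟩ := classInner_character_irr hres hθ
  have hcl := clifford_restrict Q χ.2 hθ hin
  rw [he] at hcl
  set O := conjOrbit Q θ with hO
  have hOirr : ∀ ψ ∈ O, Cfsg.IsIrrCharacter Q ψ := fun ψ hψ => by
    obtain ⟨g, rfl⟩ := (mem_conjOrbit Q).1 hψ; exact isIrr_conjBy Q hθ g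
  -- the multiplicity is one
  have he1 : e = 1 := by
    obtain ⟨m, hm, h⟩ := hroot x0 (hdvdord x0 hx0)
    have hv : (χ : G → ℂ) x0 = (e : ℂ) * ∑ ψ ∈ O, ψ x0 := by
      have := congrFun hcl x0
      simpa [Finset.sum_apply] using this
    have hint : IsIntegral ℤ ((((e : ℚ) ^ m)⁻¹ : ℚ) : ℂ) := by
      have h1 : IsIntegral ℤ ((∑ ψ ∈ O, ψ x0) ^ m) :=
        (IsIntegral.sum _ fun ψ hψ => character_isIntegral (isCharacter_of_isIrr (hOirr ψ hψ)) x0).pow m
      rw [hv, mul_pow] at h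
      rw [eq_inv_of_mul_eq_one_right h] at h1
      simpa using h1
    have hint' : IsIntegral ℤ (((e : ℚ) ^ m)⁻¹) :=
      (isIntegral_algHom_iff (Algebra.ofId ℚ ℂ |>.restrictScalars ℤ) (RingHom.injective _)).1
        (by simpa using hint)
    obtain ⟨z, hz⟩ := IsIntegrallyClosed.isIntegral_iff.1 hint'
    have he0 : e ≠ 0 := fun h0 => hin (by rw [he, h0, Nat.cast_zero])
    have h2 : ((e ^ m : ℕ) : ℤ) * z = 1 := by
      have hz' : (z : ℚ) = ((e : ℚ) ^ m)⁻¹ := by simpa using hz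
      have : ((((e ^ m : ℕ) : ℤ) * z : ℤ) : ℚ) = 1 := by
        push_cast
        rw [hz', mul_inv_cancel₀ (pow_ne_zero m (Nat.cast_ne_zero.2 he0))]
      exact_mod_cast this
    have h3 : e ^ m = 1 := by exact_mod_cast Int.eq_one_of_mul_eq_one_right (Int.natCast_nonneg _) h2
    exact (pow_eq_one_iff.1 h3).resolve_right hm.ne'
  rw [he1, Nat.cast_one, one_smul] at hcl
  set t := O.card with ht
  have hinner : ∀ φ : Q → ℂ, Cfsg.IsIrrCharacter Q φ →
      Cfsg.classInner (fun x : Q => (χ : G → ℂ) x) φ = if φ ∈ O then 1 else 0 := by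
    intro φ hφ
    rw [hcl, classInner_sum_left, Finset.sum_congr rfl
      (g := fun ψ => if ψ = φ then (1 : ℂ) else 0) fun ψ hψ => ?_, Finset.sum_ite_eq']
    split_ifs with h
    · rw [h, classInner_isIrr_self hφ]
    · exact classInner_isIrr_ne (hOirr ψ hψ) hφ h
  have hnorm : Cfsg.classInner (fun x : Q => (χ : G → ℂ) x) (fun x : Q => (χ : G → ℂ) x) = (t : ℂ) := by
    conv_lhs => arg 2; rw [hcl]
    rw [classInner_sum_right, Finset.sum_congr rfl (g := fun _ => (1 : ℂ)) fun ψ hψ => by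
      rw [hinner ψ (hOirr ψ hψ), if_pos hψ], Finset.sum_const, nsmul_eq_mul, mul_one]
  set d := Cfsg.charDegree θ with hd
  have hd1 : θ 1 = (d : ℂ) := (Blocks.charDegree_cast (⟨θ, hθ⟩ : Cfsg.IrrCharacter Q)).symm
  have hOdeg : ∀ ψ ∈ O, ψ 1 = (d : ℂ) := fun ψ hψ => by
    obtain ⟨g, rfl⟩ := (mem_conjOrbit Q).1 hψ
    rw [← hd1]
    exact congrArg θ (Subtype.ext (by simp))
  have hχ1 : (χ : G → ℂ) 1 = ((t * d : ℕ) : ℂ) := by
    have := congrFun hcl 1
    simp only [OneMemClass.coe_one, Finset.sum_apply, Finset.sum_congr rfl hOdeg,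
      Finset.sum_const, nsmul_eq_mul] at this
    rw [this, Nat.cast_mul]
  have hsum : (Nat.card Q : ℂ) * t + 1 = ((t * d : ℕ) : ℂ) ^ 2 + Nat.card Q := by
    have h := hnorm
    rw [Cfsg.classInner, inv_mul_eq_iff_eq_mul₀ (Nat.cast_ne_zero.2 Nat.card_pos.ne'),
      ← Finset.add_sum_erase _ _ (Finset.mem_univ (1 : Q)), Finset.sum_congr rfl (g := fun _ => (1 : ℂ))
        (fun x hx => hsing _ (hdvdord x (Finset.ne_of_mem_erase hx))), Finset.sum_const,
      Finset.card_erase_of_mem (Finset.mem_univ _), Finset.card_univ, nsmul_eq_mul, mul_one,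
      OneMemClass.coe_one, hχ1, map_natCast, ← Nat.card_eq_fintype_card,
      Nat.cast_sub Nat.card_pos, Nat.cast_one] at h
    rw [← h]; ring
  have hsumN : Nat.card Q * t + 1 = (t * d) ^ 2 + Nat.card Q := by exact_mod_cast hsum
  obtain ⟨i, -, hi⟩ := (Nat.dvd_prime_pow hp).1 (hn ▸ Blocks.charDegree_dvd_card (⟨θ, hθ⟩ : Cfsg.IrrCharacter Q))
  have hdone : d = 1 := by
    cases i with
    | zero => exact hi
    | succ i =>
      exfalso
      have hpd' : p ∣ (t * d) ^ 2 :=
        dvd_pow (dvd_mul_of_dvd_right ((show d = p ^ (i + 1) from hi) ▸ dvd_pow_self p i.succ_ne_zero) _)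
          two_ne_zero
      exact hp.one_lt.ne' (Nat.dvd_one.1 ((Nat.dvd_add_right (hpd.mul_right t)).1
        (hsumN ▸ dvd_add hpd' hpd)))
  rw [hdone, mul_one] at hsumN hχ1
  have htQ : t + 1 = Nat.card Q := by
    have ht1 : t ≠ 1 := fun h => hnl (by rw [hχ1, h, Nat.cast_one])
    have e1 : (t : ℤ) - 1 ≠ 0 := fun h => ht1 (by omega)
    have e2 : ((t : ℤ) - 1) * ((Nat.card Q : ℤ) - t - 1) = 0 := by
      have : ((Nat.card Q * t + 1 : ℕ) : ℤ) = ((t ^ 2 + Nat.card Q : ℕ) : ℤ) := by rw [hsumN]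
      push_cast at this
      linear_combination this
    rcases mul_eq_zero.1 e2 with h | h
    · exact absurd h e1
    · omega
  -- all characters of `Q` are linear
  haveI : Fintype (Q →* ℂˣ) := Fintype.ofFinite _
  have hone : (fun x : Q => ((1 : Q →* ℂˣ) x : ℂ)) ∉ O := by
    intro hmem
    obtain ⟨g, hg⟩ := (mem_conjOrbit Q).1 hmem
    have hθ1 : θ = fun _ => 1 := by
      funext y
      obtain ⟨z, rfl⟩ := (MulAut.conjNormal (H := Q) g).surjective y
      have := congrFun hg z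
      rw [conjBy_eq_comp] at this
      simpa using this
    refine hx0 (Subtype.ext (hfaith _ ?_))
    have e1 := congrFun hcl x0
    have e2 := congrFun hcl 1
    have hval : ∀ ψ ∈ O, ∀ y, ψ y = 1 := fun ψ hψ y => by
      obtain ⟨g, rfl⟩ := (mem_conjOrbit Q).1 hψ; rw [hθ1]; rfl
    simp only [Finset.sum_apply, Finset.sum_congr rfl fun ψ hψ => hval ψ hψ _, OneMemClass.coe_one]
      at e1 e2
    exact e1.trans e2.symm
  let c : (Q →* ℂˣ) → (Q → ℂ) := fun f x => (f x : ℂ)
  have hc : Function.Injective c := fun a b h => MonoidHom.ext fun x => Units.ext (congrFun h x)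
  have hsub : O ⊆ (Finset.univ.erase (1 : Q →* ℂˣ)).image c := by
    intro ψ hψ
    obtain ⟨f, hf⟩ := exists_hom_of_degree_one (isCharacter_of_isIrr (hOirr ψ hψ))
      (by rw [hOdeg ψ hψ, hdone, Nat.cast_one])
    exact Finset.mem_image.2 ⟨f, Finset.mem_erase.2 ⟨fun h => hone (by rw [← h, ← hf]; exact hψ),
      Finset.mem_univ _⟩, hf.symm⟩
  have hcard1 : Nat.card (Q →* ℂˣ) = (commutator Q).index := by
    rw [Nat.card_congr (linearCharEquiv (G := Q)), card_linear_char]
  have hle := Finset.card_le_card hsub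
  rw [Finset.card_image_of_injective _ hc, Finset.card_erase_of_mem (Finset.mem_univ _),
    Finset.card_univ, ← Nat.card_eq_fintype_card, ← ht] at hle
  have hidx : (commutator Q).index = Nat.card Q := by
    have := Nat.le_of_dvd Nat.card_pos (Subgroup.index_dvd_card (commutator Q))
    have := Subgroup.index_ne_zero_of_finite (H := commutator Q)
    omega
  have heq : O = (Finset.univ.erase (1 : Q →* ℂˣ)).image c := by
    refine Finset.eq_of_subset_of_card_le hsub ?_
    rw [Finset.card_image_of_injective _ hc, Finset.card_erase_of_mem (Finset.mem_univ _),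
      Finset.card_univ, ← Nat.card_eq_fintype_card, hcard1, hidx, ← ht]
    omega
  have hmem : ∀ f : Q →* ℂˣ, f ≠ 1 → c f ∈ O := fun f hf => heq ▸
    Finset.mem_image_of_mem c (Finset.mem_erase.2 ⟨hf, Finset.mem_univ _⟩)
  refine ⟨?_, hpd, fun a b ha hb => ?_, fun f hf => ?_, ?_, ?_, hsing, ?_⟩
  · refine ⟨⟨fun x y => ?_⟩⟩
    have hbot : commutator Q = ⊥ := by
      have := (commutator Q).card_mul_index
      rw [hidx] at this
      exact Subgroup.card_eq_one.1 (Nat.eq_of_mul_eq_mul_right Nat.card_pos (by rw [this, one_mul]))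
    exact commutatorElement_eq_one_iff_mul_comm.1 ((Subgroup.eq_bot_iff_forall _).1 hbot _
      (Subgroup.commutator_mem_commutator (Subgroup.mem_top x) (Subgroup.mem_top y)))
  · obtain ⟨ga, hga⟩ := (mem_conjOrbit Q).1 (hmem a ha)
    obtain ⟨gb, hgb⟩ := (mem_conjOrbit Q).1 (hmem b hb)
    refine ⟨ga⁻¹ * gb, hc ?_⟩
    show c b = fun x => (cj Q a (ga⁻¹ * gb) x : ℂ)
    rw [← hgb, show conjBy Q θ gb = conjBy Q (c a) (ga⁻¹ * gb) by
      rw [← hga, conjBy_mul, mul_inv_cancel_left]]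
    rw [conjBy_eq_comp]; rfl
  · rw [hinner _ (isIrr_linChar f), if_pos]; exact hmem f hf
  · rw [hinner _ (isIrr_linChar 1), if_neg]; exact hone
  · rw [hχ1, ← htQ]; push_cast; ring
  · have ht0 : t ≠ 0 := fun h0 => by
      have : θ ∈ O := (mem_conjOrbit Q).2 ⟨1, conjBy_one Q θ⟩
      rw [ht, Finset.card_eq_zero] at h0
      simp [h0] at this
    have ht1 : t ≠ 1 := fun h => hnl (by rw [hχ1, h, Nat.cast_one])
    omega

/-- The Fourier coefficient of `χ` on the coset `g Q`. -/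
noncomputable def fc (χ : G → ℂ) (g : G) (f : Q →* ℂˣ) : ℂ :=
  (Nat.card Q : ℂ)⁻¹ * ∑ x : Q, χ (g * x) * conj (f x : ℂ)

theorem parseval [IsMulCommutative Q] [Fintype (Q →* ℂˣ)] (χ : G → ℂ) (g : G) :
    ∑ f : Q →* ℂˣ, fc Q χ g f * conj (fc Q χ g f) =
      (Nat.card Q : ℂ)⁻¹ * ∑ x : Q, χ (g * x) * conj (χ (g * x)) := by
  classical
  have horth : ∀ x y : Q, ∑ f : Q →* ℂˣ, conj (f x : ℂ) * (f y : ℂ) =
      if x = y then (Nat.card Q : ℂ) else 0 := by
    intro x y
    have e : ∀ f : Q →* ℂˣ, conj (f x : ℂ) * (f y : ℂ) = (f (x⁻¹ * y) : ℂ) := fun f => by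
      rw [map_mul, Units.val_mul, map_inv]
      congr 1
      have h1 : (f x : ℂ) ^ Nat.card Q = 1 := by
        rw [← Units.val_pow_eq_pow_val, ← map_pow, pow_card_eq_one', map_one, Units.val_one]
      rw [Units.val_inv_eq_inv_val]
      exact eq_inv_of_mul_eq_one_left ((mul_comm _ _).trans (root_normSq Nat.card_pos h1))
    rw [Finset.sum_congr rfl fun f _ => e f]
    let ev : (Q →* ℂˣ) →* ℂ :=
      { toFun := fun f => (f (x⁻¹ * y) : ℂ), map_one' := rfl, map_mul' := fun a b => rfl }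
    split_ifs with h
    · rw [h, inv_mul_cancel]
      simp [← Nat.card_eq_fintype_card, card_dual Q]
    · refine sum_hom_units_eq_zero ev fun h1 => ?_
      obtain ⟨f, hf⟩ := exists_apply_ne_one Q (x⁻¹ * y) (fun h' => h (inv_mul_eq_one.1 h'))
      exact hf (Units.ext (DFunLike.congr_fun h1 f))
  have e2 : ∀ f : Q →* ℂˣ, fc Q χ g f * conj (fc Q χ g f) = ((Nat.card Q : ℂ)⁻¹) ^ 2 *
      ∑ x : Q, ∑ y : Q, χ (g * x) * conj (χ (g * y)) * (conj (f x : ℂ) * (f y : ℂ)) := by
    intro f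
    simp only [fc, map_mul, map_inv₀, map_natCast, map_sum, Complex.conj_conj, sq]
    rw [mul_mul_mul_comm, Finset.sum_mul_sum]
    congr 1
    refine Finset.sum_congr rfl fun x _ => Finset.sum_congr rfl fun y _ => ?_
    ring
  rw [Finset.sum_congr rfl fun f _ => e2 f, ← Finset.mul_sum, Finset.sum_comm,
    Finset.sum_congr rfl (g := fun x : Q => (Nat.card Q : ℂ) * (χ (g * x) * conj (χ (g * x))))
      fun x _ => ?_, ← Finset.mul_sum, ← mul_assoc]
  · congr 1
    field_simp
  · rw [Finset.sum_comm]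
    simp only [← Finset.mul_sum, horth, mul_ite, mul_zero, Finset.sum_ite_eq, Finset.mem_univ, if_true]
    ring

/-- A moved linear character has no coefficient. -/
theorem fc_moved {χ : G → ℂ} (hχ : Cfsg.IsClassFunction G χ) (g : G) (f : Q →* ℂˣ)
    (h : cj Q f g⁻¹ ≠ f) : fc Q χ g f = 0 := by
  obtain ⟨q, hq⟩ : ∃ q, cj Q f g⁻¹ q ≠ f q := by
    by_contra hall
    push Not at hall
    exact h (MonoidHom.ext hall)
  set a : Q := MulAut.conjNormal (H := Q) g⁻¹ q with ha
  have hsum : ∑ x : Q, χ (g * x) * conj (f x : ℂ) =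
      conj ((f q : ℂ) / (f a : ℂ)) * ∑ x : Q, χ (g * x) * conj (f x : ℂ) := by
    rw [Finset.mul_sum]
    refine Fintype.sum_equiv ((Equiv.mulLeft a).trans (Equiv.mulRight q⁻¹)) _ _ fun x => ?_
    simp only [Equiv.trans_apply, Equiv.coe_mulLeft, Equiv.coe_mulRight]
    have e : χ (g * ((a * x * q⁻¹ : Q) : G)) = χ (g * x) := by
      rw [← hχ (g * x) q]
      congr 1
      simp [ha, MulAut.conjNormal_apply, mul_assoc]
    rw [e]
    simp only [map_mul, map_inv, Units.val_mul, Units.val_inv_eq_inv_val, map_div₀, map_inv₀]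
    field_simp [Units.ne_zero, map_ne_zero]
  rw [fc, mul_eq_zero]
  right
  by_contra hne
  have h1 := mul_right_cancel₀ hne ((one_mul _).trans hsum)
  rw [eq_comm, ← map_one conj] at h1
  have h2 := (starRingEnd ℂ).injective h1
  rw [div_eq_one_iff_eq (Units.ne_zero _)] at h2
  exact hq (Units.ext h2.symm)

/-- A fixed linear character of multiplicity `m ≤ 1` has coefficient of absolute value `m`. -/
theorem fc_fixed {χ : G → ℂ} (hχ : Cfsg.IsCharacter G χ) (g : G) (f : Q →* ℂˣ)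
    (h : cj Q f g⁻¹ = f) (m : ℕ) (hm : m ≤ 1)
    (hmult : Cfsg.classInner (fun x : Q => χ x) (fun x => (f x : ℂ)) = (m : ℂ)) :
    fc Q χ g f * conj (fc Q χ g f) = (m : ℂ) := by
  classical
  obtain ⟨n, ρ, hρ⟩ := hχ
  subst hρ
  let P : Module.End ℂ (Fin n → ℂ) := (Nat.card Q : ℂ)⁻¹ • ∑ x : Q, conj (f x : ℂ) • ρ (x : G)
  have hcardne : (Nat.card Q : ℂ) ≠ 0 := Nat.cast_ne_zero.2 Nat.card_pos.ne'
  have hunit : ∀ y : Q, conj (f y : ℂ) * (f y : ℂ) = 1 := fun y => by
    rw [mul_comm]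
    refine root_normSq (n := Nat.card Q) Nat.card_pos ?_
    rw [← Units.val_pow_eq_pow_val, ← map_pow, pow_card_eq_one', map_one, Units.val_one]
  have htr : ∀ a : G, LinearMap.trace ℂ _ (ρ a * P) = fc Q ρ.character a f := by
    intro a
    rw [fc, show ρ a * P = (Nat.card Q : ℂ)⁻¹ • ∑ x : Q, conj (f x : ℂ) • ρ (a * x) by
      simp only [P, mul_smul_comm, Finset.mul_sum, map_mul], map_smul, map_sum, smul_eq_mul]
    congr 1
    refine Finset.sum_congr rfl fun x _ => ?_
    rw [map_smul, smul_eq_mul, mul_comm]; rfl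
  have hrP : ∀ y : Q, ρ (y : G) * P = (f y : ℂ) • P := by
    intro y
    simp only [P, mul_smul_comm, Finset.mul_sum, smul_comm (f y : ℂ)]
    congr 1
    rw [Finset.smul_sum]
    refine Fintype.sum_equiv (Equiv.mulLeft y) _ _ fun x => ?_
    rw [Equiv.coe_mulLeft, ← map_mul, smul_smul]
    congr 1
    rw [map_mul, Units.val_mul, map_mul, ← mul_assoc, mul_comm (f y : ℂ), hunit, one_mul]
  have hPP : P * P = P := by
    conv_lhs => arg 1; simp only [P]
    rw [smul_mul_assoc, Finset.sum_mul, Finset.sum_congr rfl (g := fun _ => P) fun x _ => by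
      rw [smul_mul_assoc, hrP, smul_smul, hunit, one_smul], Finset.sum_const, Finset.card_univ,
      ← Nat.card_eq_fintype_card, ← Nat.cast_smul_eq_nsmul ℂ, smul_smul, inv_mul_cancel₀ hcardne,
      one_smul]
  have hproj : LinearMap.IsProj (LinearMap.range P) P := ⟨fun x => ⟨x, rfl⟩, fun x hx => by
    obtain ⟨y, rfl⟩ := hx; exact LinearMap.congr_fun hPP y⟩
  have htrP : LinearMap.trace ℂ _ P = (m : ℂ) := by
    have h1 := htr 1
    rw [map_one, one_mul] at h1
    rw [h1, ← hmult]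
    simp only [fc, Cfsg.classInner, one_mul]
  have hrank : Module.finrank ℂ (LinearMap.range P) = m := by
    have h2 := hproj.trace
    rw [htrP] at h2
    exact_mod_cast h2.symm
  interval_cases m
  · have hP0 : P = 0 := LinearMap.range_eq_bot.1 (Submodule.finrank_eq_zero.1 hrank)
    rw [← htr g, hP0, mul_zero, map_zero]
    simp
  · obtain ⟨⟨v, hv⟩, hv0, hspan⟩ := finrank_eq_one_iff'.1 hrank
    have hv0' : v ≠ 0 := fun h => hv0 (Subtype.ext h)
    have hcomm : ρ g * P = P * ρ g := by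
      simp only [P, mul_smul_comm, smul_mul_assoc, Finset.mul_sum, Finset.sum_mul, ← map_mul]
      congr 1
      refine Fintype.sum_equiv (MulAut.conjNormal (H := Q) g).toEquiv _ _ fun x => ?_
      have hf : f (MulAut.conjNormal (H := Q) g x) = f x := by
        conv_lhs => rw [← h]
        rw [cj_apply, ← MulAut.mul_apply, ← map_mul, inv_mul_cancel, map_one, MulAut.one_apply]
      simp only [MulEquiv.toEquiv_eq_coe, EquivLike.coe_coe, hf]
      congr 2
      rw [MulAut.conjNormal_apply]; group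
    obtain ⟨a, ha⟩ : ∃ a : ℂ, ρ g v = a • v := by
      obtain ⟨w, rfl⟩ := hv
      obtain ⟨c, hc⟩ := hspan ⟨ρ g (P w), ⟨ρ g w, (LinearMap.congr_fun hcomm w).symm⟩⟩
      exact ⟨c, (congrArg Subtype.val hc).symm⟩
    have hgP : ρ g * P = a • P := by
      refine LinearMap.ext fun w => ?_
      obtain ⟨c, hc⟩ := hspan ⟨P w, ⟨w, rfl⟩⟩
      have hc' : c • v = P w := congrArg Subtype.val hc
      show ρ g (P w) = a • P w
      rw [← hc', map_smul, ha, smul_comm]
    have hfc : fc Q ρ.character g f = a := by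
      rw [← htr g, hgP, map_smul, htrP]; simp
    have hpow : ∀ k : ℕ, ρ (g ^ k) v = a ^ k • v := by
      intro k
      induction k with
      | zero => simp
      | succ k ih => rw [pow_succ', map_mul, Module.End.mul_apply, ih, map_smul, ha, smul_smul, pow_succ]
    have ha1 : a ^ orderOf g = 1 := by
      have := hpow (orderOf g)
      rw [pow_orderOf_eq_one, map_one, Module.End.one_apply] at this
      exact (smul_left_injective ℂ hv0' ((one_smul ℂ v).trans this)).symm
    rw [hfc, Nat.cast_one]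
    exact root_normSq (orderOf_pos g) ha1

variable {χ : G → ℂ} (hχ : Cfsg.IsIrrCharacter G χ) (hfaith : ∀ g : G, χ g = χ 1 → g = 1)
  {p : ℕ} [Fact p.Prime] (S : Setting Q p χ)

open Classical in
/-- The nontrivial linear characters of `Q` fixed by `g`. -/
noncomputable def fixSet [Fintype (Q →* ℂˣ)] (g : G) : Finset (Q →* ℂˣ) :=
  Finset.univ.filter fun f => f ≠ 1 ∧ cj Q f g⁻¹ = f

include hχ S in
theorem sum_coset [Fintype (Q →* ℂˣ)] (g : G) :
    ∑ x : Q, χ (g * x) * conj (χ (g * x)) = (Nat.card Q : ℂ) * (fixSet Q g).card := by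
  classical
  haveI := S.hcomm
  have h := parseval Q χ g
  have hval : ∀ f : Q →* ℂˣ, fc Q χ g f * conj (fc Q χ g f) =
      if f ∈ fixSet Q g then 1 else 0 := by
    intro f
    simp only [fixSet, Finset.mem_filter, Finset.mem_univ, true_and]
    by_cases hfix : cj Q f g⁻¹ = f
    · by_cases hf : f = 1
      · rw [if_neg (fun h => h.1 hf), fc_fixed Q (isCharacter_of_isIrr hχ) g f hfix 0 (by omega)
          (by rw [hf, S.hzero, Nat.cast_zero]), Nat.cast_zero]
      · rw [if_pos ⟨hf, hfix⟩, fc_fixed Q (isCharacter_of_isIrr hχ) g f hfix 1 le_rfl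
          (by rw [S.hmult f hf, Nat.cast_one]), Nat.cast_one]
    · rw [if_neg (fun h => hfix h.2), fc_moved Q (isClassFunction_of_isIrr hχ) g f hfix]
      simp
  rw [Finset.sum_congr rfl fun f _ => hval f, Finset.sum_boole, Finset.filter_mem_eq_inter,
    Finset.univ_inter] at h
  rw [h, mul_inv_cancel_left₀ (Nat.cast_ne_zero.2 Nat.card_pos.ne')]

include hχ S in
theorem fix_one_of_singular [Fintype (Q →* ℂˣ)] (g : G) (hg : ∀ x : Q, p ∣ orderOf (g * x)) :
    (fixSet Q g).card = 1 := by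
  have h := sum_coset Q hχ S g
  rw [Finset.sum_congr rfl (g := fun _ => (1 : ℂ)) fun x _ => S.hsing _ (hg x), Finset.sum_const,
    Finset.card_univ, nsmul_eq_mul, ← Nat.card_eq_fintype_card] at h
  have h1 := mul_left_cancel₀ (Nat.cast_ne_zero.2 Nat.card_pos.ne') h
  exact_mod_cast h1.symm

omit [Fintype G] [Fintype Q] in
theorem singular_coset [Finite G] {g : G} (hg : ∃ k, orderOf g = p ^ k) (hgQ : g ∉ Q) (x : Q) :
    p ∣ orderOf (g * x) := by
  obtain ⟨k, hk⟩ := hg
  have hp : p.Prime := Fact.out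
  have h1 : orderOf (QuotientGroup.mk' Q g) ∣ p ^ k := hk ▸ orderOf_map_dvd _ g
  obtain ⟨j, -, hj⟩ := (Nat.dvd_prime_pow hp).1 h1
  have hj0 : j ≠ 0 := by
    rintro rfl
    rw [pow_zero, orderOf_eq_one_iff, QuotientGroup.mk'_apply, QuotientGroup.eq_one_iff] at hj
    exact hgQ hj
  refine (dvd_pow_self p hj0).trans (hj ▸ ?_)
  rw [show QuotientGroup.mk' Q g = QuotientGroup.mk' Q (g * x) from
    (QuotientGroup.mk_mul_of_mem g x.2).symm]
  exact orderOf_map_dvd _ _

theorem cj_eq_of_centralizer (f : Q →* ℂˣ) {c : G} (hc : c ∈ Subgroup.centralizer (Q : Set G)) :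
    cj Q f c = f :=
  MonoidHom.ext fun x => (cj_apply Q f c x).trans <| congrArg f (Subtype.ext (by
    rw [MulAut.conjNormal_apply, ← Subgroup.mem_centralizer_iff.1 hc x x.2, mul_inv_cancel_right]))

include hχ hfaith S in
theorem centralizer_eq (hQp : IsPGroup p Q) :
    Subgroup.centralizer (Q : Set G) = Q ⊔ Subgroup.center G ∧ Q ⊓ Subgroup.center G = ⊥ := by
  classical
  have hp : p.Prime := Fact.out
  haveI := S.hcomm
  haveI := Fintype.ofFinite (Q →* ℂˣ)
  have hfixC : ∀ c ∈ Subgroup.centralizer (Q : Set G), (fixSet Q c).card + 1 = Nat.card Q := by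
    intro c hc
    have e : fixSet Q c = Finset.univ.erase 1 := by
      ext f
      simp [fixSet, cj_eq_of_centralizer Q f (inv_mem hc)]
    rw [e, Finset.card_erase_add_one (Finset.mem_univ _), Finset.card_univ,
      ← Nat.card_eq_fintype_card, card_dual Q]
  obtain ⟨n, ρ, hirr, hρ⟩ := id hχ
  have hrank : (Module.finrank ℂ (Fin n → ℂ) : ℂ) = χ 1 := by
    rw [← hρ, Representation.char_one]
  have hscal : ∀ g : G, χ g * conj (χ g) = χ 1 * χ 1 → g ∈ Subgroup.center G := by
    intro g hg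
    have hnorm : ‖ρ.character g‖ = (Module.finrank ℂ (Fin n → ℂ) : ℝ) := by
      rw [Complex.mul_conj', ← hrank] at hg
      have h2 : (‖χ g‖ : ℝ) ^ 2 = (Module.finrank ℂ (Fin n → ℂ) : ℝ) ^ 2 := by
        have : (((‖χ g‖ : ℝ) ^ 2 : ℝ) : ℂ) = (((Module.finrank ℂ (Fin n → ℂ) : ℝ) ^ 2 : ℝ) : ℂ) := by
          push_cast; rw [hg]; ring
        exact_mod_cast this
      rw [hρ]
      exact (pow_left_inj₀ (norm_nonneg _) (Nat.cast_nonneg _) two_ne_zero).1 h2
    obtain ⟨ω, hω, -⟩ := exists_scalar_of_norm_char_eq ρ g hnorm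
    rw [Subgroup.mem_center_iff]
    intro y
    refine inv_mul_eq_one.1 (hfaith _ ?_)
    rw [← hρ, Representation.char_one]
    refine (char_eq_finrank_iff ρ _).2 ?_
    have hc : ρ (y * g) = ρ (g * y) := by
      simp only [map_mul, hω]
      ext v; simp
    rw [map_mul, ← hc, ← map_mul, inv_mul_cancel, map_one]; rfl
  have hinf : Q ⊓ Subgroup.center G = ⊥ := by
    rw [Subgroup.eq_bot_iff_forall]
    rintro x ⟨hx, hxz⟩
    by_contra hne
    obtain ⟨k, hk⟩ := IsPGroup.iff_orderOf.1 hQp ⟨x, hx⟩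
    rw [Subgroup.orderOf_mk] at hk
    have hk0 : k ≠ 0 := fun h => hne (by simpa [h, orderOf_eq_one_iff] using hk)
    have h1 := S.hsing x (hk ▸ dvd_pow_self p hk0)
    -- a central element is scalar
    haveI := hirr
    obtain ⟨ω, hω⟩ := schur_scalar ρ (ρ x) fun a v => by
      rw [← Module.End.mul_apply, ← map_mul, ← Subgroup.mem_center_iff.1 hxz a, map_mul,
        Module.End.mul_apply]
    have hn : ‖χ x‖ = (Module.finrank ℂ (Fin n → ℂ) : ℝ) := by
      rw [← hρ]; exact (norm_char_eq_iff_scalar ρ x).2 ⟨ω, hω⟩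
    rw [Complex.mul_conj', hn] at h1
    have h2 : (Module.finrank ℂ (Fin n → ℂ) : ℂ) = (Nat.card Q : ℂ) - 1 := hrank.trans S.hdeg
    rw [Complex.ofReal_natCast, h2] at h1
    have h3 := S.three
    have h4 : ((Nat.card Q - 1) ^ 2 : ℕ) = 1 := by
      have : (((Nat.card Q - 1) ^ 2 : ℕ) : ℂ) = ((1 : ℕ) : ℂ) := by
        rw [Nat.cast_pow, Nat.cast_sub (by omega)]; simpa using h1
      exact_mod_cast this
    have : Nat.card Q - 1 = 1 := (pow_eq_one_iff.1 h4).resolve_right two_ne_zero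
    omega
  refine ⟨le_antisymm (fun c hc => ?_) (sup_le (fun x hx => ?_) (Subgroup.center_le_centralizer _)),
    hinf⟩
  swap
  · exact Subgroup.mem_centralizer_iff.2 fun y hy =>
      congrArg Subtype.val (IsMulCommutative.is_comm.comm (⟨y, hy⟩ : Q) ⟨x, hx⟩)
  obtain ⟨k, m, hm, hord⟩ := Nat.exists_eq_pow_mul_and_not_dvd (orderOf_pos c).ne' p hp.ne_one
  obtain ⟨a, b, hab⟩ := (Nat.Coprime.pow_left k ((hp.coprime_iff_not_dvd).2 hm)).isCoprime
  have hdec : c = c ^ (b * (m : ℤ)) * c ^ (a * ((p ^ k : ℕ) : ℤ)) := by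
    rw [← zpow_add, add_comm, hab, zpow_one]
  rw [hdec]
  refine Subgroup.mul_mem_sup ?_ ?_
  · by_contra hu
    have hord' : ∃ j, orderOf (c ^ (b * (m : ℤ))) = p ^ j := by
      refine ((Nat.dvd_prime_pow hp (m := k)).1 (orderOf_dvd_of_pow_eq_one ?_)).imp fun j hj => hj.2
      rw [← zpow_natCast, ← zpow_mul, mul_assoc, ← Nat.cast_mul, mul_comm b, zpow_mul,
        zpow_natCast, mul_comm m, ← hord, pow_orderOf_eq_one, one_zpow]
    have h1 := hfixC _ (zpow_mem hc (b * (m : ℤ)))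
    rw [fix_one_of_singular Q hχ S _ (singular_coset Q hord' hu)] at h1
    have := S.three
    omega
  · set w := c ^ (a * ((p ^ k : ℕ) : ℤ)) with hw
    have hwm : orderOf w ∣ m := by
      refine orderOf_dvd_of_pow_eq_one ?_
      rw [hw, ← zpow_natCast, ← zpow_mul, mul_assoc, ← Nat.cast_mul, mul_comm a, zpow_mul,
        zpow_natCast, ← hord, pow_orderOf_eq_one, one_zpow]
    have hwC : w ∈ Subgroup.centralizer (Q : Set G) := zpow_mem hc _
    refine hscal w ?_
    have hsum := sum_coset Q hχ S w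
    rw [← Finset.add_sum_erase _ _ (Finset.mem_univ (1 : Q)), OneMemClass.coe_one, mul_one,
      Finset.sum_congr rfl (g := fun _ => (1 : ℂ)) (fun x hx => S.hsing _ ?_), Finset.sum_const,
      Finset.card_erase_of_mem (Finset.mem_univ _), Finset.card_univ, nsmul_eq_mul, mul_one,
      ← Nat.card_eq_fintype_card, Nat.cast_sub Nat.card_pos, Nat.cast_one] at hsum
    · have hfc : ((fixSet Q w).card : ℂ) = (Nat.card Q : ℂ) - 1 := by
        rw [← hfixC w hwC]; push_cast; ring
      rw [hfc] at hsum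
      rw [S.hdeg]
      linear_combination hsum
    · obtain ⟨j, hj⟩ := IsPGroup.iff_orderOf.1 hQp x
      have hj0 : j ≠ 0 := fun h => (Finset.ne_of_mem_erase hx) (by
        simpa [h, orderOf_eq_one_iff] using hj)
      rw [← Subgroup.orderOf_coe] at hj
      rw [Commute.orderOf_mul_eq_mul_orderOf_of_coprime
        ((Subgroup.mem_centralizer_iff.1 hwC x x.2).symm) (by
          rw [hj]
          exact Nat.Coprime.coprime_dvd_left hwm
            ((hp.coprime_iff_not_dvd.2 hm).symm.pow_right j)), hj]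
      exact (dvd_pow_self p hj0).mul_left _

include hχ hfaith S in
theorem sfour (hQp : IsPGroup p Q)
    (hcent : Subgroup.centralizer (Q : Set G) = Q ⊔ Subgroup.center G ∧ Q ⊓ Subgroup.center G = ⊥)
    (g0 : G) (hg0 : ∃ k, orderOf g0 = p ^ k) (hg0Q : g0 ∉ Q) :
    p = 2 ∧ Odd (Nat.card ↥(Subgroup.center G)) ∧ ∃ H : Subgroup G, Nonempty (↥H ≃* Equiv.Perm (Fin 4)) ∧
      H ⊓ Subgroup.center G = ⊥ ∧ H ⊔ Subgroup.center G = ⊤ := by
  classical
  have hp : p.Prime := Fact.out
  haveI := S.hcomm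
  haveI := Fintype.ofFinite (Q →* ℂˣ)
  -- an element of order `p` modulo `Q`
  obtain ⟨k, hk⟩ := hg0
  obtain ⟨j, -, hj⟩ := (Nat.dvd_prime_pow hp).1 ((orderOf_map_dvd (QuotientGroup.mk' Q) g0).trans (dvd_of_eq hk))
  obtain ⟨j, rfl⟩ : ∃ i, j = i + 1 := ⟨j - 1, by
    rcases Nat.eq_zero_or_pos j with rfl | h
    · rw [pow_zero, orderOf_eq_one_iff, QuotientGroup.mk'_apply, QuotientGroup.eq_one_iff] at hj
      exact absurd hj hg0Q
    · omega⟩
  set g := g0 ^ p ^ j with hg
  have hgQ : g ∉ Q := fun h => by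
    have h1 : (QuotientGroup.mk' Q g0) ^ p ^ j = 1 := by
      rw [← map_pow, QuotientGroup.mk'_apply, QuotientGroup.eq_one_iff]; exact h
    have := Nat.le_of_dvd (pow_pos hp.pos j) (hj ▸ orderOf_dvd_of_pow_eq_one h1)
    exact absurd ((Nat.pow_le_pow_iff_right hp.one_lt).1 this) (by omega)
  have hgord : ∃ i, orderOf g = p ^ i := by
    exact ((Nat.dvd_prime_pow hp).1 ((orderOf_pow_dvd _).trans (dvd_of_eq hk))).imp fun i hi => hi.2
  have hgp : g ^ p ∈ Q := by
    rw [← QuotientGroup.eq_one_iff, ← QuotientGroup.mk'_apply, hg, map_pow, map_pow, ← pow_mul,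
      ← pow_succ, ← hj, pow_orderOf_eq_one]
  obtain ⟨f0, hf0⟩ := Finset.card_eq_one.1 (fix_one_of_singular Q hχ S g (singular_coset Q hgord hgQ))
  have hfix : ∀ f : Q →* ℂˣ, cj Q f g⁻¹ = f → f = 1 ∨ f = f0 := fun f hf => by
    by_contra h
    push Not at h
    have : f ∈ fixSet Q g := by simp [fixSet, h.1, hf]
    rw [hf0, Finset.mem_singleton] at this
    exact h.2 this
  have hf0' : f0 ≠ 1 ∧ cj Q f0 g⁻¹ = f0 := by
    have : f0 ∈ fixSet Q g := hf0 ▸ Finset.mem_singleton_self f0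
    simpa [fixSet] using this
  have hf0sq : ∀ x, f0 x * f0 x = 1 := by
    have h2 : cj Q (f0 * f0) g⁻¹ = f0 * f0 := by
      refine MonoidHom.ext fun x => ?_
      simp only [cj_apply, MonoidHom.mul_apply]
      rw [show f0 (MulAut.conjNormal (H := Q) g⁻¹ x) = f0 x from DFunLike.congr_fun hf0'.2 x]
    rcases hfix _ h2 with h | h
    · exact fun x => DFunLike.congr_fun h x
    · exact absurd (MonoidHom.ext fun x => mul_left_cancel (a := f0 x)
        ((DFunLike.congr_fun h x).trans (mul_one _).symm)) hf0'.1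
  -- `p = 2`
  have hp2 : p = 2 := by
    obtain ⟨n, hn⟩ := IsPGroup.iff_card.1 hQp
    obtain ⟨x, hx⟩ : ∃ x, f0 x ≠ 1 := by
      by_contra hall; push Not at hall; exact hf0'.1 (MonoidHom.ext hall)
    have h1 : orderOf (f0 x) = 2 := orderOf_eq_prime (by rw [sq]; exact hf0sq x) hx
    have h2 : 2 ∣ p ^ n := h1 ▸ hn ▸ (orderOf_map_dvd f0 x).trans (orderOf_dvd_natCard x)
    exact ((Nat.prime_dvd_prime_iff_eq Nat.prime_two hp).1 (Nat.prime_two.dvd_of_dvd_pow h2)).symm
  subst hp2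
  -- exponent two
  have hexpD : ∀ f : Q →* ℂˣ, ∀ x, f x * f x = 1 := by
    intro f x
    by_cases hf : f = 1
    · rw [hf]; simp
    · obtain ⟨h, rfl⟩ := S.htrans f0 f hf0'.1 hf
      exact hf0sq _
  have hexp : ∀ x : Q, x * x = 1 := by
    intro x
    by_contra hne
    obtain ⟨f, hf⟩ := exists_apply_ne_one Q _ hne
    exact hf (by rw [map_mul]; exact hexpD f x)
  have hexpG : ∀ x ∈ Q, x * x = 1 := fun x hx => congrArg Subtype.val (hexp ⟨x, hx⟩)
  have hQc : ∀ x ∈ Q, ∀ y ∈ Q, x * y = y * x := fun x hx y hy =>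
    congrArg Subtype.val (IsMulCommutative.is_comm.comm (⟨x, hx⟩ : Q) ⟨y, hy⟩)
  have hgg : ∀ f : Q →* ℂˣ, cj Q (cj Q f g⁻¹) g⁻¹ = f := fun f => by
    rw [cj_cj]
    refine cj_eq_of_centralizer Q f (Subgroup.mem_centralizer_iff.2 fun y hy => ?_)
    have : g⁻¹ * g⁻¹ ∈ Q := by rw [← mul_inv_rev, ← sq]; exact inv_mem hgp
    exact hQc y hy _ this
  -- `|Q| = 4`
  have hcard : Nat.card Q = 4 := by
    let T : (Q →* ℂˣ) →* (Q →* ℂˣ) :=
      { toFun := fun f => f * cj Q f g⁻¹
        map_one' := MonoidHom.ext fun x => by simp [cj_apply]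
        map_mul' := fun a b => MonoidHom.ext fun x => by
          simp only [MonoidHom.mul_apply, cj_apply]; exact mul_mul_mul_comm _ _ _ _ }
    have hrange : ∀ f, T f = 1 ∨ T f = f0 := fun f => hfix _ (MonoidHom.ext fun x => by
      show (f * cj Q f g⁻¹) (MulAut.conjNormal (H := Q) g⁻¹ x) = f x * cj Q f g⁻¹ x
      rw [MonoidHom.mul_apply]
      rw [show cj Q f g⁻¹ (MulAut.conjNormal (H := Q) g⁻¹ x) = f x from
        DFunLike.congr_fun (hgg f) x, mul_comm]
      rfl)
    have hker : ∀ f, f ∈ T.ker → f = 1 ∨ f = f0 := by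
      intro f hf
      refine hfix f (MonoidHom.ext fun x => ?_)
      have h1 : f x * cj Q f g⁻¹ x = 1 := DFunLike.congr_fun (MonoidHom.mem_ker.1 hf) x
      exact mul_left_cancel (h1.trans (hexpD f x).symm)
    have h1 : Nat.card T.ker ≤ 2 := by
      refine (Nat.card_mono (Set.toFinite ({1, f0} : Set (Q →* ℂˣ))) (s := (T.ker : Set (Q →* ℂˣ)))
        (fun f hf => by simpa using hker f hf)).trans ?_
      rw [Nat.card_coe_set_eq]
      exact (Set.ncard_insert_le _ _).trans (by simp)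
    have h2 : Nat.card T.range ≤ 2 := by
      refine (Nat.card_mono (Set.toFinite ({1, f0} : Set (Q →* ℂˣ))) (s := (T.range : Set (Q →* ℂˣ)))
        (fun f hf => by obtain ⟨f', rfl⟩ := hf; simpa using hrange f')).trans ?_
      rw [Nat.card_coe_set_eq]
      exact (Set.ncard_insert_le _ _).trans (by simp)
    have h3 := T.ker.card_mul_index
    rw [Subgroup.index_ker, card_dual Q] at h3
    obtain ⟨n, hn⟩ := IsPGroup.iff_card.1 hQp
    have h4 := S.three
    have h5 : Nat.card Q ≤ 4 := by rw [← h3]; exact Nat.mul_le_mul h1 h2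
    rw [hn] at h4 h5 ⊢
    rcases n with _ | _ | _ | n
    · norm_num at h4
    · norm_num at h4
    · norm_num
    · exfalso
      have : 2 ^ 3 ≤ 2 ^ (n + 1 + 1 + 1) := Nat.pow_le_pow_right (by norm_num) (by omega)
      omega
  set C := Subgroup.centralizer (Q : Set G) with hC
  -- `Z` has odd order
  have hZodd : Odd (Nat.card ↥(Subgroup.center G)) := by
    rw [← Nat.not_even_iff_odd, even_iff_two_dvd]
    intro h
    obtain ⟨z, hz⟩ := exists_prime_orderOf_dvd_card' 2 h
    have hzC : (z : G) ∈ C := Subgroup.center_le_centralizer _ z.2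
    have hzQ : (z : G) ∉ Q := fun hq => by
      have : (z : G) ∈ Q ⊓ Subgroup.center G := ⟨hq, z.2⟩
      rw [hcent.2, Subgroup.mem_bot] at this
      rw [show z = 1 from Subtype.ext this, orderOf_one] at hz
      norm_num at hz
    have h1 := fix_one_of_singular Q hχ S (z : G) (singular_coset Q ⟨1, by
      rw [Subgroup.orderOf_coe, hz, pow_one]⟩ hzQ)
    have h2 : fixSet Q (z : G) = Finset.univ.erase 1 := by
      ext f; simp [fixSet, cj_eq_of_centralizer Q f (inv_mem hzC)]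
    rw [h2, Finset.card_erase_of_mem (Finset.mem_univ _), Finset.card_univ,
      ← Nat.card_eq_fintype_card, card_dual Q, hcard] at h1
    norm_num at h1
  refine ⟨rfl, hZodd, ?_⟩
  have hgC : g ∉ C := by
    intro hmem
    have h2 : fixSet Q g = Finset.univ.erase 1 := by
      ext f; simp [fixSet, cj_eq_of_centralizer Q f (inv_mem hmem)]
    have h1 := fix_one_of_singular Q hχ S g (singular_coset Q hgord hgQ)
    rw [h2, Finset.card_erase_of_mem (Finset.mem_univ _), Finset.card_univ,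
      ← Nat.card_eq_fintype_card, card_dual Q, hcard] at h1
    norm_num at h1
  -- an involution outside `C`
  obtain ⟨s, hs2, hsC⟩ : ∃ s : G, s * s = 1 ∧ s ∉ C := by
    have hq0 : g * g ∈ Q := by rw [← sq]; exact hgp
    by_cases hgg1 : g * g = 1
    · exact ⟨g, hgg1, hgC⟩
    have hsh : ∀ q : G, q ∈ Q → g⁻¹ * q * g ∈ Q := fun q hq => by
      simpa using hQn.conj_mem q hq g⁻¹
    obtain ⟨q, hq, hqg⟩ : ∃ q ∈ Q, g⁻¹ * q * g ≠ q := by
      by_contra hall
      push Not at hall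
      refine hgC (Subgroup.mem_centralizer_iff.2 fun y hy => ?_)
      conv_rhs => rw [← hall y hy]
      group
    -- the fixed points of `g` in `Q` are `1` and `g * g`
    have hfixq : ∀ y ∈ Q, g⁻¹ * y * g = y → y = 1 ∨ y = g * g := by
      intro y hy hy2
      by_contra hne
      push Not at hne
      have key : ∀ r ∈ Q, g⁻¹ * r * g = r := by
        let F : Subgroup G := Q ⊓ Subgroup.centralizer {g}
        have hF : ∀ r, r ∈ Q → g⁻¹ * r * g = r → r ∈ F := fun r h1 h2 =>
          ⟨h1, Subgroup.mem_centralizer_singleton_iff.2 (by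
            conv_rhs => rw [← h2]
            group)⟩
        have hyF := hF y hy hy2
        have hggF := hF _ hq0 (by group)
        have hle : F ≤ Q := inf_le_left
        have hcardF : 3 ≤ Nat.card F := by
          have h1 : ({1, y, g * g} : Finset G).card = 3 :=
            Finset.card_eq_three.2 ⟨_, _, _, fun h => hne.1 h.symm, fun h => hgg1 h.symm, hne.2, rfl⟩
          rw [← h1, show Nat.card F = (F : Set G).ncard from Nat.card_coe_set_eq _,
            ← Set.ncard_coe_finset]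
          refine Set.ncard_le_ncard ?_ (Set.toFinite _)
          simp only [Finset.coe_insert, Finset.coe_singleton, Set.insert_subset_iff,
            Set.singleton_subset_iff, SetLike.mem_coe]
          exact ⟨F.one_mem, hyF, hggF⟩
        have hdvd := Subgroup.card_dvd_of_le hle
        rw [hcard] at hdvd
        have hF4 : Nat.card F = Nat.card Q := by
          have := Nat.le_of_dvd (by norm_num) hdvd
          rw [hcard]
          interval_cases h : Nat.card F <;> first | rfl | norm_num at hdvd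
        have := Subgroup.eq_of_le_of_card_ge hle hF4.ge
        intro r hr
        rw [← this] at hr
        rw [mul_assoc, Subgroup.mem_centralizer_singleton_iff.1 hr.2, inv_mul_cancel_left]
      exact hqg (key q hq)
    set r := g⁻¹ * q * g * q with hr
    have hrQ : r ∈ Q := mul_mem (hsh q hq) hq
    have hrfix : g⁻¹ * r * g = r := by
      have e : g⁻¹ * (g⁻¹ * q * g) * g = q := by
        rw [show g⁻¹ * (g⁻¹ * q * g) * g = (g * g)⁻¹ * q * (g * g) by group, mul_assoc,
          hQc q hq _ hq0, inv_mul_cancel_left]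
      rw [hr, show g⁻¹ * (g⁻¹ * q * g * q) * g = g⁻¹ * (g⁻¹ * q * g) * g * (g⁻¹ * q * g) by group, e,
        hQc q hq _ (hsh q hq)]
    have hr0 : r = g * g := (hfixq r hrQ hrfix).resolve_left fun h1 =>
      hqg (mul_right_cancel ((show g⁻¹ * q * g * q = 1 from h1).trans (hexpG q hq).symm))
    refine ⟨g * q, ?_, fun h => hgC ?_⟩
    · rw [show g * q * (g * q) = g * g * (g⁻¹ * q * g * q) by group, ← hr, hr0, hexpG _ hq0]
    · have : g = g * q * q⁻¹ := by group
      rw [this]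
      exact mul_mem h (Subgroup.mem_centralizer_iff.2 fun y hy => hQc y hy _ (inv_mem hq))
  -- the action on the three involutions
  let X := {x : Q // x ≠ 1}
  let φ : G →* Equiv.Perm X :=
    { toFun := fun a =>
        { toFun := fun x => ⟨MulAut.conjNormal (H := Q) a x.1, fun h => x.2 (by simpa using h)⟩
          invFun := fun x => ⟨MulAut.conjNormal (H := Q) a⁻¹ x.1, fun h => x.2 (by simpa using h)⟩
          left_inv := fun x => Subtype.ext (Subtype.ext (by simp [MulAut.conjNormal_apply, mul_assoc]))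
          right_inv := fun x => Subtype.ext (Subtype.ext (by simp [MulAut.conjNormal_apply, mul_assoc])) }
      map_one' := Equiv.ext fun x => Subtype.ext (by simp)
      map_mul' := fun a b => Equiv.ext fun x => Subtype.ext (by simp) }
  have hker : φ.ker = C := by
    ext a
    rw [MonoidHom.mem_ker, hC, Subgroup.mem_centralizer_iff]
    constructor
    · intro h y hy
      by_cases hy1 : y = 1
      · simp [hy1]
      have := congrArg (fun σ => (((σ ⟨⟨y, hy⟩, fun h' => hy1 (congrArg Subtype.val h')⟩ : X) : Q) : G)) h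
      simp [φ] at this
      exact (mul_inv_eq_iff_eq_mul.1 this).symm
    · intro h
      refine Equiv.ext fun x => Subtype.ext (Subtype.ext ?_)
      simp [φ, ← h (x.1 : G) x.1.2]
  have hX : Nat.card X = 3 := by
    rw [Nat.card_eq_fintype_card, Fintype.card_subtype_compl, Fintype.card_subtype_eq,
      ← Nat.card_eq_fintype_card, hcard]
  have hCidx : C.index = Nat.card φ.range := by rw [← hker, Subgroup.index_ker]
  obtain ⟨eX⟩ : Nonempty (X ≃ Fin 3) := ⟨(Finite.equivFin X).trans (finCongr hX)⟩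
  let ψ : G →* Equiv.Perm (Fin 3) := eX.permCongrHom.toMonoidHom.comp φ
  have hkerψ : ψ.ker = C := by
    rw [← hker]; ext a; simp [ψ, MonoidHom.mem_ker]
  have hCn : C.Normal := hker ▸ inferInstance
  -- an element of order three modulo `C`
  obtain ⟨f1, hf1, hf1ne⟩ : ∃ f : Q →* ℂˣ, f ≠ 1 ∧ f ≠ f0 := by
    by_contra hall
    push Not at hall
    have h1 : Nat.card (Q →* ℂˣ) ≤ 2 := by
      rw [← Nat.card_univ]
      refine (Nat.card_mono (Set.toFinite ({1, f0} : Set (Q →* ℂˣ))) (fun f _ => by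
        by_cases h : f = 1
        · exact Or.inl h
        · exact Or.inr (hall f h))).trans ?_
      rw [Nat.card_coe_set_eq]
      exact (Set.ncard_insert_le _ _).trans (by simp)
    rw [card_dual Q, hcard] at h1
    omega
  -- the stabilizer of `f0` has index three
  let T : Subgroup G :=
    { carrier := {a | cj Q f0 a = f0}
      one_mem' := cj_eq_of_centralizer Q f0 (one_mem _)
      mul_mem' := fun {a b} ha hb => by show cj Q f0 (a * b) = f0; rw [← cj_cj, ha, hb]
      inv_mem' := fun {a} ha => by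
        show cj Q f0 a⁻¹ = f0
        conv_lhs => rw [← ha, cj_cj, mul_inv_cancel]
        exact cj_eq_of_centralizer Q f0 (one_mem _) }
  have hCT : C ≤ T := fun c hc => cj_eq_of_centralizer Q f0 hc
  have hidx3 : 3 ∣ C.index := by
    refine dvd_trans (dvd_of_eq ?_) (Subgroup.index_dvd_of_le hCT)
    rw [Subgroup.index_eq_card]
    have hne0 : ∀ a : G, cj Q f0 a⁻¹ ≠ 1 := fun a h => hf0'.1 (by
      have h1 : cj Q (cj Q f0 a⁻¹) a = cj Q 1 a := congrArg (fun f => cj Q f a) h
      rw [cj_cj, inv_mul_cancel, cj_eq_of_centralizer Q f0 (one_mem _)] at h1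
      rw [h1]; ext x; rfl)
    let F : G ⧸ T → {f : Q →* ℂˣ // f ≠ 1} := Quotient.lift
      (fun a => ⟨cj Q f0 a⁻¹, hne0 a⟩)
      fun a b hab => Subtype.ext (by
        show cj Q f0 a⁻¹ = cj Q f0 b⁻¹
        rw [show a⁻¹ = a⁻¹ * b * b⁻¹ by group, ← cj_cj,
          show cj Q f0 (a⁻¹ * b) = f0 from QuotientGroup.leftRel_apply.1 hab])
    have hF : Function.Bijective F := by
      refine ⟨fun u v huv => ?_, fun ⟨f, hf⟩ => ?_⟩
      · obtain ⟨a, rfl⟩ := QuotientGroup.mk_surjective u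
        obtain ⟨b, rfl⟩ := QuotientGroup.mk_surjective v
        refine QuotientGroup.eq.2 ?_
        show cj Q f0 (a⁻¹ * b) = f0
        rw [← cj_cj, show cj Q f0 a⁻¹ = cj Q f0 b⁻¹ from congrArg Subtype.val huv, cj_cj,
          inv_mul_cancel]
        exact cj_eq_of_centralizer Q f0 (one_mem _)
      · obtain ⟨a, ha⟩ := S.htrans f0 f hf0'.1 hf
        exact ⟨QuotientGroup.mk a⁻¹, Subtype.ext (by show cj Q f0 a⁻¹⁻¹ = f; rw [inv_inv, ← ha])⟩
    rw [Nat.card_congr (Equiv.ofBijective F hF), Nat.card_eq_fintype_card,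
      Fintype.card_subtype_compl, Fintype.card_subtype_eq, ← Nat.card_eq_fintype_card, card_dual Q,
      hcard]
  have hidx6 : C.index = 6 := by
    have h1 : C.index ∣ 6 := by
      rw [← hkerψ, Subgroup.index_ker]
      refine (Subgroup.card_subgroup_dvd_card _).trans (dvd_of_eq ?_)
      rw [Nat.card_perm, Nat.card_fin]; rfl
    have h2 : 2 ∣ C.index := by
      haveI := hCn
      rw [Subgroup.index_eq_card, ← show orderOf (QuotientGroup.mk' C s) = 2 from
        orderOf_eq_prime (by rw [← map_pow, sq, hs2, map_one])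
          (by rwa [Ne, QuotientGroup.mk'_apply, QuotientGroup.eq_one_iff])]
      exact orderOf_dvd_natCard _
    exact Nat.dvd_antisymm h1 (Nat.Coprime.mul_dvd_of_dvd_of_dvd (by norm_num) h2 hidx3)
  obtain ⟨u, hu, hu1⟩ : ∃ u : G, ψ u ^ 3 = 1 ∧ ψ u ≠ 1 := by
    have h3 : 3 ∣ Nat.card ψ.range := by rw [← Subgroup.index_ker, hkerψ, hidx6]; norm_num
    haveI : Fact (Nat.Prime 3) := ⟨Nat.prime_three⟩
    obtain ⟨⟨σ, u, rfl⟩, hσ⟩ := exists_prime_orderOf_dvd_card' 3 h3
    rw [← Subgroup.orderOf_coe] at hσ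
    change orderOf (ψ u) = 3 at hσ
    refine ⟨u, ?_, fun h => by rw [h, orderOf_one] at hσ; norm_num at hσ⟩
    exact orderOf_dvd_iff_pow_eq_one.1 (dvd_of_eq hσ)
  have hψs : ψ s ≠ 1 := fun h => hsC (hkerψ ▸ h)
  have hψs2 : ψ s * ψ s = 1 := by rw [← map_mul, hs2, map_one]
  obtain ⟨hh3, hh1⟩ := perm_three' _ _ ⟨hψs2, hψs, hu, hu1⟩
  set w := s * (u * s * u⁻¹) with hw
  have hψw : ψ w ^ 3 = 1 ∧ ψ w ≠ 1 := by
    rw [hw]; simp only [map_mul, map_inv]; exact ⟨hh3, hh1⟩
  have hsinv : s⁻¹ = s := inv_eq_of_mul_eq_one_right hs2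
  have hws : s * w * s⁻¹ = w⁻¹ := by
    rw [hw, mul_inv_rev, mul_inv_rev, mul_inv_rev, inv_inv, hsinv,
      show s * (s * (u * s * u⁻¹)) = u * s * u⁻¹ by rw [← mul_assoc, hs2, one_mul]]
    group
  -- `w ^ 3` lies in `Q`
  have hw3C : w ^ 3 ∈ C := by
    rw [← hkerψ, MonoidHom.mem_ker, map_pow]; exact hψw.1
  obtain ⟨q, hq, z, hz, hqz⟩ : ∃ q ∈ Q, ∃ z ∈ Subgroup.center G, q * z = w ^ 3 := by
    rw [hcent.1] at hw3C
    exact Subgroup.mem_sup_of_normal_left.1 hw3C
  have hzsq : z * z = 1 := by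
    have h1 : s * (q * z) * s⁻¹ = (q * z)⁻¹ := by rw [hqz, ← conj_pow, hws, inv_pow]
    have h2 : q * (s * q * s⁻¹) * (z * z) = 1 := by
      have hzc := Subgroup.mem_center_iff.1 hz
      calc q * (s * q * s⁻¹) * (z * z) = q * z * (s * (q * z) * s⁻¹) := by
            rw [show s * (q * z) * s⁻¹ = s * q * s⁻¹ * z by
              rw [← mul_assoc, mul_assoc (s * q), ← hzc s⁻¹, ← mul_assoc]]
            rw [← mul_assoc (q * z), mul_assoc q z, ← hzc (s * q * s⁻¹)]
            simp only [mul_assoc]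
        _ = 1 := by rw [h1, mul_inv_cancel]
    have h3 : z * z ∈ Q ⊓ Subgroup.center G := by
      refine ⟨?_, mul_mem hz hz⟩
      rw [eq_inv_of_mul_eq_one_right h2]
      exact Q.inv_mem (Q.mul_mem hq (hQn.conj_mem q hq s))
    rw [hcent.2, Subgroup.mem_bot] at h3
    exact h3
  have hz1 : z = 1 := by
    have h1 : orderOf (⟨z, hz⟩ : Subgroup.center G) ∣ 2 :=
      orderOf_dvd_of_pow_eq_one (Subtype.ext (by rw [SubgroupClass.coe_pow, sq]; exact hzsq))
    have h2 := Nat.eq_one_of_dvd_coprimes (Nat.coprime_two_left.2 hZodd) h1 (orderOf_dvd_natCard _)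
    exact congrArg Subtype.val (orderOf_eq_one_iff.1 h2)
  rw [hz1, mul_one] at hqz
  set h := w ^ 4 with hh
  have hh3' : h ^ 3 = 1 := by
    rw [hh, ← pow_mul, show 4 * 3 = 3 * 2 * 2 by norm_num, pow_mul, pow_mul, ← hqz, sq q,
      hexpG q hq, one_pow]
  have hψh : ψ h = ψ w := by rw [hh, map_pow, pow_succ, hψw.1, one_mul]
  have hsh : s * h * s⁻¹ = h⁻¹ := by rw [hh, ← conj_pow, hws, inv_pow]
  set N := Subgroup.zpowers h with hN
  set D := N ⊔ Subgroup.zpowers s with hD
  have hsN : Subgroup.zpowers s ≤ Subgroup.normalizer (N : Set G) := by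
    rw [Subgroup.zpowers_le, Subgroup.mem_normalizer_iff]
    intro y
    have key : ∀ y ∈ N, s * y * s⁻¹ ∈ N := by
      intro y hy
      obtain ⟨i, rfl⟩ := hy
      rw [← conj_zpow, hsh]
      exact zpow_mem (inv_mem (Subgroup.mem_zpowers h)) _
    refine ⟨key y, fun hy => ?_⟩
    have := key _ hy
    rwa [show s * (s * y * s⁻¹) * s⁻¹ = y by rw [hsinv]; simp [← mul_assoc, hs2]; rw [mul_assoc, hs2, mul_one]] at this
  have hDle : Nat.card D ≤ 6 := by
    have h3 : Nat.card D ≤ Nat.card (Subgroup.zpowers s) * Nat.card N := by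
      have e := Subgroup.coe_mul_of_left_le_normalizer_right _ _ hsN
      rw [hD, sup_comm]
      exact (Nat.card_congr (Equiv.setCongr e)).trans_le Set.natCard_mul_le
    have h4 : Nat.card (Subgroup.zpowers s) ≤ 2 := by
      rw [Nat.card_zpowers]
      exact Nat.le_of_dvd (by norm_num) (orderOf_dvd_of_pow_eq_one (by rw [sq, hs2]))
    have h5 : Nat.card N ≤ 3 := by
      rw [hN, Nat.card_zpowers]
      exact Nat.le_of_dvd (by norm_num) (orderOf_dvd_of_pow_eq_one hh3')
    exact h3.trans (Nat.mul_le_mul h4 h5)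
  -- `D` maps onto the quotient
  have hDimg : Nat.card (D.map ψ) = 6 := by
    refine le_antisymm (le_trans (Nat.le_of_dvd Nat.card_pos (Subgroup.card_map_dvd _ _)) hDle) ?_
    have h2 : 2 ∣ Nat.card (D.map ψ) := by
      refine (dvd_of_eq (show orderOf (ψ s) = 2 from orderOf_eq_prime (by rw [sq]; exact hψs2) hψs).symm).trans ?_
      exact Subgroup.orderOf_dvd_natCard _ ⟨s, Subgroup.mem_sup_right (Subgroup.mem_zpowers s), rfl⟩
    have h3 : 3 ∣ Nat.card (D.map ψ) := by
      refine (dvd_of_eq (show orderOf (ψ h) = 3 from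
        orderOf_eq_prime (hψh ▸ hψw.1) (hψh ▸ hψw.2)).symm).trans ?_
      exact Subgroup.orderOf_dvd_natCard _ ⟨h, Subgroup.mem_sup_left (Subgroup.mem_zpowers h), rfl⟩
    exact Nat.le_of_dvd Nat.card_pos (Nat.Coprime.mul_dvd_of_dvd_of_dvd (by norm_num : Nat.Coprime 2 3) h2 h3)
  have hDC : D ⊓ C = ⊥ := by
    have h1 := (ψ.comp D.subtype).ker.card_mul_index
    rw [Subgroup.index_ker, MonoidHom.range_comp, Subgroup.range_subtype, hDimg] at h1
    have h2 : Nat.card (ψ.comp D.subtype).ker = 1 := by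
      have := Nat.card_pos (α := (ψ.comp D.subtype).ker)
      nlinarith
    rw [Subgroup.eq_bot_iff_forall]
    rintro y ⟨hy, hyC⟩
    have := Subgroup.card_eq_one.1 h2
    have hmem : (⟨y, hy⟩ : D) ∈ (ψ.comp D.subtype).ker := by
      rw [MonoidHom.mem_ker, MonoidHom.comp_apply, ← MonoidHom.mem_ker, hkerψ]; exact hyC
    rw [this, Subgroup.mem_bot] at hmem
    exact congrArg Subtype.val hmem
  have hDsup : D ⊔ C = ⊤ := by
    have hr : Nat.card ψ.range = 6 := by rw [← Subgroup.index_ker, hkerψ, hidx6]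
    have h1 : D.map ψ = ψ.range :=
      Subgroup.eq_of_le_of_card_ge (Subgroup.map_le_range _ _) (by rw [hr, hDimg])
    rw [← hkerψ, ← Subgroup.comap_map_eq, h1, MonoidHom.range_eq_map, Subgroup.comap_map_eq,
      top_sup_eq]
  have hQC : Q ≤ C := fun x hx => Subgroup.mem_centralizer_iff.2 fun y hy => hQc y hy x hx
  set H := Q ⊔ D with hH
  refine ⟨H, ?_, ?_, ?_⟩
  swap
  · rw [Subgroup.eq_bot_iff_forall]
    rintro y ⟨hy, hyz⟩
    obtain ⟨a, ha, b, hb, rfl⟩ := Subgroup.mem_sup_of_normal_left.1 hy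
    have hbC : b ∈ C := by
      have : b = a⁻¹ * (a * b) := by group
      rw [this]
      exact mul_mem (inv_mem (hQC ha)) (Subgroup.center_le_centralizer _ hyz)
    have hb1 : b = 1 := by
      have : b ∈ D ⊓ C := ⟨hb, hbC⟩
      rwa [hDC, Subgroup.mem_bot] at this
    subst hb1
    rw [mul_one] at hyz ⊢
    have : a ∈ Q ⊓ Subgroup.center G := ⟨ha, hyz⟩
    rwa [hcent.2, Subgroup.mem_bot] at this
  swap
  · rw [eq_top_iff, ← hDsup, hcent.1]
    exact sup_le (le_trans le_sup_right le_sup_left) (sup_le (le_trans le_sup_left le_sup_left) le_sup_right)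
  -- `H` is the symmetric group on the cosets of `D`
  haveI : (Q.subgroupOf H).Normal := hQn.subgroupOf H
  have hdisj : Q ⊓ D = ⊥ := le_bot_iff.1 (hDC ▸ fun x hx => ⟨hx.2, hQC hx.1⟩)
  have hDcard : Nat.card D = 6 := le_antisymm hDle (hDimg ▸ Nat.le_of_dvd Nat.card_pos (Subgroup.card_map_dvd _ _))
  set D' := D.subgroupOf H with hD'
  have hD'card : Nat.card D' = 6 :=
    (Nat.card_congr (Subgroup.subgroupOfEquivOfLe le_sup_right).toEquiv).trans hDcard
  have hHcard : Nat.card H = 24 := by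
    rw [← (Q.subgroupOf H).card_mul_index,
      Nat.card_congr (Subgroup.subgroupOfEquivOfLe (le_sup_left : Q ≤ H)).toEquiv, hcard]
    rw [show (Q.subgroupOf H).index = Q.relIndex (Q ⊔ D) from rfl, sup_comm,
      Subgroup.relIndex_sup_right, ← Subgroup.inf_relIndex_right, hdisj, Subgroup.relIndex_bot_left,
      hDcard]
  have hD'idx : D'.index = 4 := by
    have := D'.card_mul_index
    rw [hD'card, hHcard] at this
    omega
  have hcore : D'.normalCore = ⊥ := by
    rw [Subgroup.eq_bot_iff_forall]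
    intro y hy
    have hyD : (y : G) ∈ D := Subgroup.mem_subgroupOf.1 (Subgroup.normalCore_le _ hy)
    refine Subtype.ext ?_
    have : (y : G) ∈ D ⊓ C := ⟨hyD, Subgroup.mem_centralizer_iff.2 fun x hx => by
      let x' : H := ⟨x, Subgroup.mem_sup_left hx⟩
      have h1 : x' * y * x'⁻¹ * y⁻¹ ∈ D'.normalCore :=
        mul_mem ((Subgroup.normalCore_normal D').conj_mem y hy x') (inv_mem hy)
      have h2 : (x : G) * y * x⁻¹ * (y : G)⁻¹ ∈ D :=
        Subgroup.mem_subgroupOf.1 (Subgroup.normalCore_le _ h1)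
      have h3 : (x : G) * y * x⁻¹ * (y : G)⁻¹ ∈ Q := by
        rw [show (x : G) * y * x⁻¹ * (y : G)⁻¹ = x * (y * x⁻¹ * (y : G)⁻¹) by group]
        exact mul_mem hx (hQn.conj_mem _ (inv_mem hx) _)
      have h4 : (x : G) * y * x⁻¹ * (y : G)⁻¹ = 1 := by
        have : (x : G) * y * x⁻¹ * (y : G)⁻¹ ∈ Q ⊓ D := ⟨h3, h2⟩
        rwa [hdisj, Subgroup.mem_bot] at this
      rw [mul_inv_eq_one, mul_inv_eq_iff_eq_mul] at h4
      exact h4⟩
    rwa [hDC, Subgroup.mem_bot] at this
  let α := MulAction.toPermHom H (H ⧸ D')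
  have hαinj : Function.Injective α := by
    rw [← MonoidHom.ker_eq_bot_iff, ← hcore, Subgroup.normalCore_eq_ker]
  have hαbij : Function.Bijective α := hαinj.bijective_of_nat_card_le (by
    rw [Nat.card_perm, ← Subgroup.index_eq_card, hD'idx, hHcard]; rfl)
  have e4 : H ⧸ D' ≃ Fin 4 :=
    (Finite.equivFin _).trans (finCongr (by rw [← Subgroup.index_eq_card, hD'idx]))
  exact ⟨(MulEquiv.ofBijective α hαbij).trans e4.permCongrHom⟩


/-- Let χ be a faithful, non-linear irreducible character of the finite group G (χ g = χ 1 only for g = 1, χ 1 ≠ 1) whose value at every element of order divisible by p is a root of unity, and suppose P = O_p(G) ≠ 1. Then either P is an elementary abelian Sylow p-subgroup of G, C_G(P) is the internal direct product of P and Z(G), G acts transitively by conjugation on the non-principal linear characters of P, and χ 1 = |P| − 1; or p = 2 and G is the internal direct product of a subgroup isomorphic to the symmetric group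 S₄ and the centre Z(G), which has odd order. -/
theorem result {G : Type*} [Group G] [Finite G] (p : ℕ) [Fact p.Prime] (χ : Cfsg.IrrCharacter G) (hfaith : ∀ g : G, (χ : G → ℂ) g = (χ : G → ℂ) 1 → g = 1) (hnl : (χ : G → ℂ) 1 ≠ 1) (hroot : ∀ g : G, p ∣ orderOf g → ∃ n : ℕ, 0 < n ∧ ((χ : G → ℂ) g) ^ n = 1) (hP : Cfsg.pCore p G ≠ ⊥) : ((Nat.card ↥(Cfsg.pCore p G)).factorization p = (Nat.card G).factorization p ∧ Cfsg.IsElementaryAbelian p (Cfsg.pCore p G) ∧ Subgroup.centralizer ((Cfsg.pCore p G : Subgroup G) : Set G) = Cfsg.pCore p G ⊔ Subgroup.center G ∧ Cfsg.pCore p G ⊓ Subgroup.center G = ⊥ ∧ (∀ lam mu : ↥(Cfsg.pCore p G) → ℂ, Cfsg.IsCharacter ↥(Cfsg.pCore p G) lam → lam 1 = 1 → lam ≠ (fun _ => (1 : ℂ)) → Cfsg.IsCharacter ↥(Cfsg.pCore p G) mu → mu 1 = 1 → mu ≠ (fun _ => (1 : ℂ)) → ∃ g : G, ∀ (x : G) (hx : x ∈ Cfsg.pCore p G) (hgx : g * x * g⁻¹ ∈ Cfsg.pCore p G), mu ⟨x, hx⟩ = lam ⟨g * x * g⁻¹, hgx⟩) ∧ (χ : G → ℂ) 1 = (Nat.card ↥(Cfsg.pCore p G) : ℂ) -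 1) ∨ (p = 2 ∧ Odd (Nat.card ↥(Subgroup.center G)) ∧ ∃ H : Subgroup G, Nonempty (↥H ≃* Equiv.Perm (Fin 4)) ∧ H ⊓ Subgroup.center G = ⊥ ∧ H ⊔ Subgroup.center G = ⊤) := by
  classical
  haveI := Fintype.ofFinite G
  have hp : p.Prime := Fact.out
  set Q := Cfsg.pCore p G with hQdef
  haveI := Fintype.ofFinite Q
  have hQp : IsPGroup p Q := PLocal.isPGroup_pCore p G
  have S : Setting Q p (χ : G → ℂ) := setting_mk Q χ hfaith hnl hroot hP hQp
  haveI := S.hcomm
  haveI := Fintype.ofFinite (Q →* ℂˣ)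
  have hcent := centralizer_eq Q χ.2 hfaith S hQp
  by_cases hsyl : ∀ g : G, (∃ k, orderOf g = p ^ k) → g ∈ Q
  · refine Or.inl ⟨?_, ⟨S.hcomm, ?_⟩, hcent.1, hcent.2, ?_, ?_⟩
    · obtain ⟨P⟩ : Nonempty (Sylow p G) := inferInstance
      have hle : (P : Subgroup G) ≤ Q := fun g hg => by
        obtain ⟨k, hk⟩ := IsPGroup.iff_orderOf.1 P.2 ⟨g, hg⟩
        exact hsyl g ⟨k, by rwa [Subgroup.orderOf_mk] at hk⟩
      obtain ⟨n, hn⟩ := IsPGroup.iff_card.1 hQp
      have h1 := P.card_eq_multiplicity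
      have h2 := Subgroup.card_dvd_of_le hle
      rw [h1, hn] at h2
      have h3 : (Nat.card G).factorization p ≤ n := (Nat.pow_dvd_pow_iff_le_right hp.one_lt).1 h2
      have h4 : n ≤ (Nat.card G).factorization p :=
        (hp.pow_dvd_iff_le_factorization Nat.card_pos.ne').1 (hn ▸ Subgroup.card_subgroup_dvd_card Q)
      rw [hn, hp.factorization_pow, Finsupp.single_eq_same]
      omega
    · intro a ha
      by_contra hne
      obtain ⟨f, hf⟩ := exists_apply_ne_one Q ⟨a ^ p, pow_mem ha p⟩ fun h => hne (congrArg Subtype.val h)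
      obtain ⟨f0, hf0⟩ := exists_prime_orderOf_dvd_card' (G := Q →* ℂˣ) p (by
        rw [card_dual Q]; exact S.pdvd)
      have hf0' : f0 ≠ 1 := fun h => hp.one_lt.ne' (by rw [← hf0, h, orderOf_one])
      have hfne : f ≠ 1 := fun h => hf (by rw [h]; rfl)
      obtain ⟨g, hg⟩ := S.htrans f0 f hf0' hfne
      refine hf ?_
      rw [hg, show (⟨a ^ p, pow_mem ha p⟩ : Q) = ⟨a, ha⟩ ^ p from Subtype.ext rfl, map_pow]
      have : f0 ^ p = 1 := hf0 ▸ pow_orderOf_eq_one f0
      exact DFunLike.congr_fun this _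
    · intro lam mu hlam hlam1 hlamne hmu hmu1 hmune
      obtain ⟨a, rfl⟩ := exists_hom_of_degree_one hlam hlam1
      obtain ⟨b, rfl⟩ := exists_hom_of_degree_one hmu hmu1
      obtain ⟨g, hg⟩ := S.htrans a b (fun h => hlamne (by rw [h]; rfl)) (fun h => hmune (by rw [h]; rfl))
      exact ⟨g, fun x hx hgx => by
        show ((b ⟨x, hx⟩ : ℂˣ) : ℂ) = _
        rw [hg]; rfl⟩
    · exact S.hdeg
  · push Not at hsyl
    obtain ⟨g0, hg0, hg0Q⟩ := hsyl
    obtain ⟨hp2, hcz, H, hH1, hH2, hH3⟩ := sfour Q χ.2 hfaith S hQp hcent g0 hg0 hg0Q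
    exact Or.inr ⟨hp2, hcz, H, hH1, hH2, hH3⟩

end Cfsg.Agent.S4751
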