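import Cfsg.Statements.S4752
import Cfsg.Agent.ExtraspecialThree.Main

set_option autoImplicit false
set_option linter.style.haveILetI false
open Cfsg CfsgLib.ExtraspecialThree

namespace Cfsg.Agent.S4752

/-- Let G be a finite group whose Sylow 3-subgroup P is extraspecial of order 27 and exponent 3, with N_G(P) ≤ C_G(Z(P)), and let M be a maximal ideal of the algebraic integers containing 3, B the principal 3-block of G, k its number of irreducible characters, k₀ the number of those of height zero, l its 3-regular rank (number of irreducible Brauer characters), and e the index of P·C_G(P) in N_G(P) (the order of the inertial quotient). Then e = 1 gives (k, k₀, l) = (11, 9, 1); e = 2 gives (10, 6, 2); e = 4 gives (14, 6, 4); e = 8 gives (16, 6, 5). -/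
theorem result {G : Type*} [Group G] [Finite G] (P : Sylow 3 G) (hE : Cfsg.IsExtraspecial 3 ↥(P : Subgroup G)) (h27 : Nat.card ↥(P : Subgroup G) = 27) (hexp : ∀ x ∈ (P : Subgroup G), x ^ 3 = 1) (hNC : ∀ g ∈ Subgroup.normalizer ((P : Subgroup G) : Set G), ∀ z ∈ (P : Subgroup G), (∀ y ∈ (P : Subgroup G), z * y = y * z) → g * z = z * g) (M : Ideal Cfsg.AlgInt) (hM : Cfsg.IsPModular 3 M) (k k₀ l e : ℕ) (hk : Nat.card ↥(Cfsg.principalBlock M G) = k) (hk₀ : Nat.card {χ : Cfsg.IrrCharacter G // χ ∈ Cfsg.principalBlock M G ∧ Cfsg.blockHeight 3 (Cfsg.principalBlock M G) (χ : G → ℂ) = 0} = k₀) (hl : Cfsg.blockRank 3 (Cfsg.principalBlock M G) = l) (he : ((P : Subgroup G) ⊔ Subgroup.centralizer ((P : Subgroup G) : Set G)).relIndex (Subgroup.normalizer ((P : Subgroup G) : Set G)) = e) : (e = 1 → k = 11 ∧ k₀ = 9 ∧ l = 1) ∧ (e = 2 → k = 10 ∧ k₀ = 6 ∧ l = 2) ∧ (e = 4 → k = 14 ∧ k₀ = 6 ∧ l = 4) ∧ (e = 8 → k = 16 ∧ k₀ = 6 ∧ l = 5) := by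
  haveI : Fintype G := Fintype.ofFinite G
  haveI : M.IsPrime := hM.2.1.isPrime
  have hc3 : Nat.card (Subgroup.center ↥(P : Subgroup G)) = 3 := hE.2
  obtain ⟨⟨z₀, hz₀⟩, hz₁⟩ : ∃ z : Subgroup.center ↥(P : Subgroup G), z ≠ 1 := by
    haveI : Nontrivial (Subgroup.center ↥(P : Subgroup G)) :=
      Finite.one_lt_card_iff_nontrivial.1 (by rw [hc3]; norm_num)
    exact exists_ne 1
  have hne : (z₀ : G) ≠ 1 := fun h => hz₁ (Subtype.ext (Subtype.ext h))
  have hcen : Subgroup.zpowers z₀ = Subgroup.center ↥(P : Subgroup G) := by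
    refine Subgroup.eq_of_le_of_card_ge (Subgroup.zpowers_le.2 hz₀) ?_
    haveI : Fact (Nat.Prime 3) := ⟨Nat.prime_three⟩
    rw [hc3, Nat.card_zpowers,
      orderOf_eq_prime (Subtype.ext (hexp _ z₀.2) : z₀ ^ 3 = 1) fun h => hne (congrArg Subtype.val h)]
  have S : Setting P (z₀ : G) :=
    { card := h27
      exp := hexp
      z_mem := z₀.2
      z_ne := hne
      z_comm := fun a ha => congrArg Subtype.val (Subgroup.mem_center_iff.1 hz₀ ⟨a, ha⟩)
      center := fun a ha h => by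
        have h1 : (⟨a, ha⟩ : ↥(P : Subgroup G)) ∈ Subgroup.zpowers z₀ := by
          rw [hcen]
          exact Subgroup.mem_center_iff.2 fun b => Subtype.ext (h b b.2).symm
        obtain ⟨i, hi⟩ := Subgroup.mem_zpowers_iff.1 h1
        exact Subgroup.mem_zpowers_iff.2 ⟨i, by rw [← Subgroup.coe_zpow, hi]⟩
      comm := fun a ha b hb => by
        have h1 : (⟨a, ha⟩ * ⟨b, hb⟩ * ⟨a, ha⟩⁻¹ * ⟨b, hb⟩⁻¹ : ↥(P : Subgroup G)) ∈
            Subgroup.zpowers z₀ := by
          rw [hcen, ← hE.1.2.2, commutator_def]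
          exact Subgroup.commutator_mem_commutator (Subgroup.mem_top _) (Subgroup.mem_top _)
        obtain ⟨i, hi⟩ := Subgroup.mem_zpowers_iff.1 h1
        exact Subgroup.mem_zpowers_iff.2 ⟨i, by rw [← Subgroup.coe_zpow, hi]; rfl⟩
      norm := fun g hg => hNC g hg _ z₀.2 fun y hy =>
        (congrArg Subtype.val (Subgroup.mem_center_iff.1 hz₀ ⟨y, hy⟩)).symm }
  have hcomm : (commutator ↥(P : Subgroup G)).index = 9 := by
    have h := Subgroup.card_mul_index (commutator ↥(P : Subgroup G))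
    rw [h27, hE.1.2.2, hc3] at h
    rw [hE.1.2.2]
    omega
  have heq : S.inert = e := he
  subst hk hk₀ hl
  refine ⟨fun h => ?_, fun h => ?_, fun h => ?_, fun h => ?_⟩
  · exact S.invariants_one hM (heq.trans h) hcomm
  all_goals
    obtain ⟨m, hm, h1, h2, h3⟩ := S.invariants_even hM (by rw [heq]; omega)
    rw [heq, h] at hm
    refine ⟨?_, h2, ?_⟩ <;> omega

end Cfsg.Agent.S4752
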