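import Cfsg.Statements.S4755
import Cfsg.Agent.S4754
import Cfsg.Agent.Characters.Linear

set_option autoImplicit false
open Cfsg
open scoped commutatorElement

namespace Cfsg.Agent.S4755

/-- Let x, y be non-identity elements of the finite group G such that χ(x' y') = χ(x') χ(y') for all conjugates x' of x, y' of y and every irreducible character χ. Then the conjugacy class of x y is the set of all products of a conjugate of x with a conjugate of y; every irreducible character of degree greater than 1 vanishes at x y; and the conjugacy class of x y is the coset of the commutator subgroup containing x y. -/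
theorem result {G : Type*} [Group G] [Finite G] (x y : G) (hx : x ≠ 1) (hy : y ≠ 1) (h : ∀ (a b : G) (χ : Cfsg.IrrCharacter G), (χ : G → ℂ) (a * x * a⁻¹ * (b * y * b⁻¹)) = (χ : G → ℂ) (a * x * a⁻¹) * (χ : G → ℂ) (b * y * b⁻¹)) : (∀ z : G, IsConj (x * y) z ↔ ∃ a b : G, z = a * x * a⁻¹ * (b * y * b⁻¹)) ∧ (∀ χ : Cfsg.IrrCharacter G, (χ : G → ℂ) 1 ≠ 1 → (χ : G → ℂ) (x * y) = 0) ∧ (∀ z : G, IsConj (x * y) z ↔ (x * y)⁻¹ * z ∈ commutator G) := by
  classical
  have := Fintype.ofFinite G
  have hconst : ∀ (a b : G) (χ : Cfsg.IrrCharacter G),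
      (χ : G → ℂ) (a * x * a⁻¹ * (b * y * b⁻¹)) = (χ : G → ℂ) x * (χ : G → ℂ) y := by
    intro a b χ
    rw [h, CfsgLib.Characters.isClassFunction_of_isIrr χ.2 x a,
      CfsgLib.Characters.isClassFunction_of_isIrr χ.2 y b]
  have hxy : ∀ χ : Cfsg.IrrCharacter G, (χ : G → ℂ) (x * y) = (χ : G → ℂ) x * (χ : G → ℂ) y := by
    intro χ
    simpa using hconst 1 1 χ
  have hclass : ∀ z : G, IsConj (x * y) z ↔ ∃ a b : G, z = a * x * a⁻¹ * (b * y * b⁻¹) := by
    intro z
    constructor
    · intro hz
      obtain ⟨c, rfl⟩ := isConj_iff.1 hz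
      exact ⟨c, c, by group⟩
    · rintro ⟨a, b, rfl⟩
      exact CfsgLib.Characters.isConj_of_irr_eq fun χ => by rw [hconst, hxy]
  have hvanish : ∀ χ : Cfsg.IrrCharacter G, (χ : G → ℂ) 1 ≠ 1 → (χ : G → ℂ) (x * y) = 0 := by
    intro χ hχ
    have h1 := (Cfsg.Agent.S4754.result x y).1 hclass 1 1 χ
    simp only [one_mul, inv_one, mul_one] at h1
    rw [← hxy] at h1
    by_contra h0
    exact hχ (mul_right_cancel₀ h0 (h1.trans (one_mul _).symm))
  refine ⟨hclass, hvanish, fun z => ⟨fun hz => ?_, fun hz => ?_⟩⟩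
  · obtain ⟨c, rfl⟩ := isConj_iff.1 hz
    rw [commutator_def]
    have e : (x * y)⁻¹ * (c * (x * y) * c⁻¹) = ⁅(x * y)⁻¹, c⁆ := by
      rw [commutatorElement_def]; group
    rw [e]
    exact Subgroup.commutator_mem_commutator (Subgroup.mem_top _) (Subgroup.mem_top _)
  · by_contra hne
    have h0 := CfsgLib.Characters.sum_irr_mul_conj_of_not_isConj hne
    have hterm : ∀ χ : Cfsg.IrrCharacter G, (χ : G → ℂ) (x * y) * (starRingEnd ℂ) ((χ : G → ℂ) z) =
        if (χ : G → ℂ) 1 = 1 then 1 else 0 := by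
      intro χ
      split_ifs with h1
      · obtain ⟨f, hf⟩ := CfsgLib.Characters.exists_hom_of_degree_one
          (CfsgLib.Characters.isCharacter_of_isIrr χ.2) h1
        have hzker : f ((x * y)⁻¹ * z) = 1 :=
          MonoidHom.mem_ker.1 (Abelianization.commutator_subset_ker f hz)
        have hfz : f (x * y) = f z := by
          rwa [map_mul, map_inv, inv_mul_eq_one] at hzker
        rw [hf]
        simp only [hfz]
        rw [← CfsgLib.Characters.character_inv (χ := fun g => ((f g : ℂˣ) : ℂ))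
          (CfsgLib.Characters.isCharacter_of_isIrr (CfsgLib.Characters.isIrr_linChar f)) z]
        rw [← Units.val_mul, ← map_mul, mul_inv_cancel, map_one, Units.val_one]
      · rw [hvanish χ h1, zero_mul]
    simp only [hterm, Finset.sum_boole] at h0
    rw [Nat.cast_eq_zero, Finset.card_eq_zero] at h0
    exact Finset.notMem_empty (⟨fun _ => 1, CfsgLib.Characters.isIrr_one⟩ : Cfsg.IrrCharacter G)
      (h0 ▸ Finset.mem_filter.2 ⟨Finset.mem_univ _, rfl⟩)

end Cfsg.Agent.S4755
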