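import Cfsg.Statements.S4756
import Cfsg.Agent.S4456
import Cfsg.Agent.GaloisAverage.Ito
import Cfsg.Agent.SameDegree.Basic
import Cfsg.Agent.Coprime.Action
import Cfsg.Agent.Coprime.Generation
import Cfsg.Agent.Blocks.Height
import Cfsg.Agent.Characters.Linear
import Cfsg.Agent.Characters.Orthogonality
import Cfsg.Agent.CharactersDeep.PrimePowerDegrees

set_option autoImplicit false
set_option linter.style.haveILetI false
set_option linter.unusedSectionVars false
open Cfsg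
open scoped commutatorElement

namespace Cfsg.Agent.S4756

open CfsgLib CfsgLib.Characters
open scoped ComplexConjugate

variable {G : Type*} [Group G] [Fintype G]

/-- The product of class sums, through a character. -/
theorem sum_char_mul_conj {χ : G → ℂ} (hχ : Cfsg.IsIrrCharacter G χ) (a y : G) :
    ∑ b : G, χ (a * (b * y * b⁻¹)) = (Nat.card G : ℂ) * (χ a * χ y) / χ 1 := by
  obtain ⟨n, ρ, hρ, rfl⟩ := hχ
  obtain ⟨c, hc⟩ := schur_scalar ρ (∑ b : G, ρ (b * y * b⁻¹)) fun h v => by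
    simp only [LinearMap.sum_apply, map_sum, ← Module.End.mul_apply, ← map_mul]
    exact Fintype.sum_bijective (h⁻¹ * ·) (Group.mulLeft_bijective h⁻¹) _ _ fun b => by
      congr 2; group
  have hn : ρ.character 1 ≠ 0 := irr_one_ne_zero ⟨n, ρ, hρ, rfl⟩
  have hcn : c * ρ.character 1 = (Nat.card G : ℂ) * ρ.character y := by
    have h1 := congrArg (LinearMap.trace ℂ (Fin n → ℂ)) hc
    rw [map_sum, map_smul, LinearMap.trace_id, ← Representation.char_one ρ] at h1
    rw [← smul_eq_mul, ← h1, Nat.card_eq_fintype_card]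
    refine (Finset.sum_congr rfl (g := fun _ => ρ.character y) fun b _ =>
      ρ.char_conj y b).trans ?_
    rw [Finset.sum_const, Finset.card_univ, nsmul_eq_mul]
  have h2 : ∑ b : G, ρ.character (a * (b * y * b⁻¹)) = c * ρ.character a := by
    simp only [Representation.character, map_mul ρ a]
    rw [← map_sum, ← Finset.mul_sum, hc, mul_smul_comm, ← Module.End.one_eq_id, mul_one, map_smul,
      smul_eq_mul]
  rw [h2, eq_div_iff hn, mul_right_comm, hcn]
  ring

theorem linear_of_deg_one {χ : Cfsg.IrrCharacter G} (h : (χ : G → ℂ) 1 = 1) (a b : G) :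
    (χ : G → ℂ) (a * b) = (χ : G → ℂ) a * (χ : G → ℂ) b := by
  obtain ⟨f, hf⟩ := exists_hom_of_degree_one (isCharacter_of_isIrr χ.2) h
  rw [hf]
  simp

theorem natCard_linear :
    (∑ χ : Cfsg.IrrCharacter G, if (χ : G → ℂ) 1 = 1 then (1 : ℂ) else 0) =
      ((commutator G).index : ℂ) := by
  classical
  rw [Finset.sum_boole, ← card_linear_char, Nat.card_eq_fintype_card, Fintype.card_subtype]

/-- The column sum splits into the linear characters and the rest. -/
theorem column_split (g : G) :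
    (Nat.card (Subgroup.centralizer ({g} : Set G)) : ℝ) = ((commutator G).index : ℝ) +
      ∑ χ : Cfsg.IrrCharacter G,
        if (χ : G → ℂ) 1 = 1 then (0 : ℝ) else Complex.normSq ((χ : G → ℂ) g) := by
  classical
  have h := sum_irr_mul_conj_of_isConj (IsConj.refl g)
  have e : ∀ χ : Cfsg.IrrCharacter G, (χ : G → ℂ) g * conj ((χ : G → ℂ) g) =
      (if (χ : G → ℂ) 1 = 1 then (1 : ℂ) else 0) +
        ((if (χ : G → ℂ) 1 = 1 then (0 : ℝ) else Complex.normSq ((χ : G → ℂ) g) : ℝ) : ℂ) := by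
    intro χ
    split_ifs with h1
    · obtain ⟨f, hf⟩ := exists_hom_of_degree_one (isCharacter_of_isIrr χ.2) h1
      have hpow : (f g : ℂ) ^ Nat.card G = 1 := by
        rw [← Units.val_pow_eq_pow_val, ← map_pow, pow_card_eq_one', map_one, Units.val_one]
      rw [hf, Complex.mul_conj', Complex.norm_eq_one_of_pow_eq_one hpow Nat.card_pos.ne']
      simp
    · rw [Complex.mul_conj, zero_add]
  rw [Finset.sum_congr rfl fun χ _ => e χ, Finset.sum_add_distrib, natCard_linear,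
    ← Complex.ofReal_sum] at h
  have h2 := congrArg Complex.re h
  simpa using h2.symm

theorem vanish_of_card_le {g : G}
    (hle : Nat.card (Subgroup.centralizer ({g} : Set G)) ≤ (commutator G).index)
    (χ : Cfsg.IrrCharacter G) (hχ : (χ : G → ℂ) 1 ≠ 1) : (χ : G → ℂ) g = 0 := by
  classical
  have h := column_split g
  have hle' : (Nat.card (Subgroup.centralizer ({g} : Set G)) : ℝ) ≤ ((commutator G).index : ℝ) := by
    exact_mod_cast hle
  have hnn : ∀ ψ : Cfsg.IrrCharacter G, 0 ≤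
      (if (ψ : G → ℂ) 1 = 1 then (0 : ℝ) else Complex.normSq ((ψ : G → ℂ) g)) := fun ψ => by
    split_ifs
    · exact le_rfl
    · exact Complex.normSq_nonneg _
  have hz : ∑ ψ : Cfsg.IrrCharacter G,
      (if (ψ : G → ℂ) 1 = 1 then (0 : ℝ) else Complex.normSq ((ψ : G → ℂ) g)) = 0 :=
    le_antisymm (by linarith) (Finset.sum_nonneg fun ψ _ => hnn ψ)
  have h1 := (Finset.sum_eq_zero_iff_of_nonneg fun ψ _ => hnn ψ).1 hz χ (Finset.mem_univ _)
  rw [if_neg hχ] at h1
  exact Complex.normSq_eq_zero.1 h1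

/-- A character vanishing on the nontrivial elements of a Sylow subgroup. -/
theorem pow_dvd_of_vanish {q : ℕ} [Fact q.Prime] (χ : Cfsg.IrrCharacter G)
    (h : ∀ y : G, y ≠ 1 → (∃ b, orderOf y = q ^ b) → (χ : G → ℂ) y = 0) :
    q ^ (Nat.card G).factorization q ∣ Cfsg.charDegree (χ : G → ℂ) := by
  classical
  obtain ⟨Q⟩ : Nonempty (Sylow q G) := inferInstance
  haveI := Fintype.ofFinite (Q : Subgroup G)
  obtain ⟨e, he⟩ := classInner_character_irr
    (isCharacter_restrict (Q : Subgroup G) (isCharacter_of_isIrr χ.2))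
    (isIrr_one (G := (Q : Subgroup G)))
  simp only [Cfsg.classInner, map_one, mul_one] at he
  rw [inv_mul_eq_iff_eq_mul₀ (Nat.cast_ne_zero.2 Nat.card_pos.ne'),
    Finset.sum_eq_single (1 : (Q : Subgroup G))
      (fun b _ hb => h (b : G) (fun h1 => hb (Subtype.ext h1)) (by
        obtain ⟨k, hk⟩ := IsPGroup.iff_orderOf.1 Q.2 b
        exact ⟨k, by rw [Subgroup.orderOf_coe]; exact hk⟩))
      (fun h1 => absurd (Finset.mem_univ _) h1),
    OneMemClass.coe_one, ← Blocks.charDegree_cast χ, ← Nat.cast_mul, Nat.cast_inj] at he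
  rw [← Q.card_eq_multiplicity]
  exact Dvd.intro e he.symm

theorem deg_sq_le (χ : Cfsg.IrrCharacter G) : Cfsg.charDegree (χ : G → ℂ) ^ 2 ≤ Nat.card G := by
  classical
  have h := sum_degree_sq (G := G)
  simp only [← Blocks.charDegree_cast] at h
  have h' : ∑ ψ : Cfsg.IrrCharacter G, Cfsg.charDegree (ψ : G → ℂ) ^ 2 = Nat.card G := by
    exact_mod_cast h
  rw [← h']
  exact Finset.single_le_sum (f := fun ψ : Cfsg.IrrCharacter G => Cfsg.charDegree (ψ : G → ℂ) ^ 2)
    (fun _ _ => Nat.zero_le _) (Finset.mem_univ χ)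

/-- Every nonlinear character vanishes on the `q`-singular-power elements of all primes but one. -/
theorem vanish_split
    (H : ∀ (x y : G) (χ : Cfsg.IrrCharacter G), x ≠ 1 → y ≠ 1 → (∃ p q a b : ℕ, p.Prime ∧ q.Prime ∧
      p ≠ q ∧ orderOf x = p ^ a ∧ orderOf y = q ^ b) →
      (χ : G → ℂ) (x * y) = (χ : G → ℂ) x * (χ : G → ℂ) y)
    (χ : Cfsg.IrrCharacter G) (hχ : (χ : G → ℂ) 1 ≠ 1) {r q : ℕ} (hr : r.Prime) (hq : q.Prime)
    (hrq : r ≠ q) :
    (∀ x : G, x ≠ 1 → (∃ a, orderOf x = r ^ a) → (χ : G → ℂ) x = 0) ∨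
      ∀ y : G, y ≠ 1 → (∃ b, orderOf y = q ^ b) → (χ : G → ℂ) y = 0 := by
  by_contra hcon
  push Not at hcon
  obtain ⟨⟨x, hx1, ⟨a, ha⟩, hx0⟩, y, hy1, ⟨b, hb⟩, hy0⟩ := hcon
  have hval : ∀ c : G, (χ : G → ℂ) (x * (c * y * c⁻¹)) = (χ : G → ℂ) x * (χ : G → ℂ) y := fun c => by
    rw [H x (c * y * c⁻¹) χ hx1 (fun h => hy1 (by simpa using h))
      ⟨r, q, a, b, hr, hq, hrq, ha, by
        rw [← hb]
        exact (orderOf_injective (MulAut.conj c).toMonoidHom (MulEquiv.injective _) y)⟩]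
    exact congrArg _ (isClassFunction_of_isIrr χ.2 y c)
  have h := sum_char_mul_conj χ.2 x y
  rw [Finset.sum_congr rfl fun c _ => hval c, Finset.sum_const, Finset.card_univ, nsmul_eq_mul,
    ← Nat.card_eq_fintype_card, eq_div_iff (irr_one_ne_zero χ.2), mul_assoc] at h
  have h1 := mul_left_cancel₀ (Nat.cast_ne_zero.2 Nat.card_pos.ne') h
  exact hχ ((mul_eq_left₀ (mul_ne_zero hx0 hy0)).1 h1)

theorem card_quotient_eq {N : Subgroup G} [N.Normal] {χ : Cfsg.IrrCharacter (G ⧸ N)} [Fintype (G ⧸ N)] :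
    Cfsg.charDegree (χ : G ⧸ N → ℂ) ∣ N.index := by
  rw [Subgroup.index_eq_card]
  exact Blocks.charDegree_dvd_card χ

theorem forward
    (H : ∀ (x y : G) (χ : Cfsg.IrrCharacter G), x ≠ 1 → y ≠ 1 → (∃ p q a b : ℕ, p.Prime ∧ q.Prime ∧
      p ≠ q ∧ orderOf x = p ^ a ∧ orderOf y = q ^ b) →
      (χ : G → ℂ) (x * y) = (χ : G → ℂ) x * (χ : G → ℂ) y) :
    (∃ p : ℕ, p.Prime ∧ IsPGroup p G) ∨ IsMulCommutative G ∨ ∃ (p : ℕ) (_ : Fact p.Prime) (P : Sylow p G) (A : Subgroup G), (P : Subgroup G).Normal ∧ IsCyclic ↥A ∧ A ≠ ⊥ ∧ (Nat.card ↥A).Coprime p ∧ A ⊔ (P : Subgroup G) = ⊤ ∧ IsMulCommutative ↥((P : Subgroup G) ⊓ Subgroup.centralizer (A : Set G)) ∧ (⁅A, (P : Subgroup G)⁆).Normal ∧ ((P : Subgroup G) ⊓ Subgroup.centralizer (A : Set G)) ⊔ ⁅A, (P : Subgroup G)⁆ = (P : Subgroup G) ∧ ((P : Subgroup G) ⊓ Subgroup.centralizer (A : Set G)) ⊓ ⁅A, (P : Subgroup G)⁆ = ⊥ ∧ ∀ a ∈ A, a ≠ 1 → ∀ d ∈ ⁅A, (P : Subgroup G)⁆, a * d = d * a → d = 1 := by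
  classical
  by_cases hpg : ∃ p : ℕ, p.Prime ∧ IsPGroup p G
  · exact Or.inl hpg
  by_cases hab : IsMulCommutative G
  · exact Or.inr (Or.inl hab)
  refine Or.inr (Or.inr ?_)
  set n := Nat.card G with hn
  have hn0 : n ≠ 0 := Nat.card_pos.ne'
  have hG' : commutator G ≠ ⊥ := fun h => hab ⟨⟨fun a b =>
    commutatorElement_eq_one_iff_mul_comm.1 ((Subgroup.eq_bot_iff_forall _).1 h _
      (Subgroup.commutator_mem_commutator (Subgroup.mem_top a) (Subgroup.mem_top b)))⟩⟩
  obtain ⟨χ0, hχ0⟩ := SameDegree.exists_nonlinear hG'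
  -- full part of all primes but one
  have hfull : ∀ χ : Cfsg.IrrCharacter G, (χ : G → ℂ) 1 ≠ 1 → ∀ r q : ℕ, r.Prime → q.Prime → r ≠ q →
      r ^ n.factorization r ∣ Cfsg.charDegree (χ : G → ℂ) ∨
        q ^ n.factorization q ∣ Cfsg.charDegree (χ : G → ℂ) := by
    intro χ hχ r q hr hq hrq
    haveI := Fact.mk hr
    haveI := Fact.mk hq
    exact (vanish_split H χ hχ hr hq hrq).imp (pow_dvd_of_vanish χ) (pow_dvd_of_vanish χ)
  have hex : ∀ χ : Cfsg.IrrCharacter G, (χ : G → ℂ) 1 ≠ 1 →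
      ∃ r, r.Prime ∧ ¬ r ^ n.factorization r ∣ Cfsg.charDegree (χ : G → ℂ) := by
    intro χ hχ
    by_contra hall
    push Not at hall
    set d := Cfsg.charDegree (χ : G → ℂ) with hd
    have hdn : n ∣ d := by
      rw [Nat.dvd_iff_prime_pow_dvd_dvd]
      intro r k hr hk
      exact (pow_dvd_pow r ((hr.pow_dvd_iff_le_factorization hn0).1 hk)).trans (hall r hr)
    have hdpos : 0 < d := Nat.pos_of_dvd_of_pos (Blocks.charDegree_dvd_card χ) Nat.card_pos
    have h1 : d = n := Nat.dvd_antisymm (Blocks.charDegree_dvd_card χ) hdn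
    have h2 := deg_sq_le χ
    rw [← hd, h1, sq] at h2
    have h3 : n ≤ 1 := Nat.le_of_mul_le_mul_left (by rw [mul_one]; exact h2) (Nat.pos_of_ne_zero hn0)
    apply hχ
    rw [← Blocks.charDegree_cast χ, ← hd, h1, show n = 1 by omega, Nat.cast_one]
  obtain ⟨p, hp, hpd⟩ := hex χ0 hχ0
  haveI := Fact.mk hp
  -- the part of `n` prime to `p` is small
  set m := ordCompl[p] n with hm
  have hmdvd : ∀ χ : Cfsg.IrrCharacter G, (χ : G → ℂ) 1 ≠ 1 → ∀ r : ℕ, r.Prime →
      ¬ r ^ n.factorization r ∣ Cfsg.charDegree (χ : G → ℂ) →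
        ordCompl[r] n ∣ Cfsg.charDegree (χ : G → ℂ) ∧ ordCompl[r] n < ordProj[r] n := by
    intro χ hχ r hr hrd
    have hdvd : ordCompl[r] n ∣ Cfsg.charDegree (χ : G → ℂ) := by
      rw [Nat.dvd_iff_prime_pow_dvd_dvd]
      intro q k hq hk
      rcases Nat.eq_zero_or_pos k with rfl | hk0
      · simp
      have hqr : q ≠ r := fun h => Nat.not_dvd_ordCompl hr hn0 ((dvd_of_eq h.symm).trans ((dvd_pow_self q hk0.ne').trans hk))
      refine (pow_dvd_pow q ?_).trans ((hfull χ hχ q r hq hr hqr).resolve_right hrd)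
      exact (hq.pow_dvd_iff_le_factorization hn0).1 (hk.trans (Nat.ordCompl_dvd n r))
    refine ⟨hdvd, ?_⟩
    have hpos : 0 < Cfsg.charDegree (χ : G → ℂ) :=
      Nat.pos_of_dvd_of_pos (Blocks.charDegree_dvd_card χ) Nat.card_pos
    have hle : ordCompl[r] n ≤ Cfsg.charDegree (χ : G → ℂ) := Nat.le_of_dvd hpos hdvd
    have h1 : ordCompl[r] n ^ 2 ≤ ordProj[r] n * ordCompl[r] n := by
      rw [Nat.ordProj_mul_ordCompl_eq_self]
      exact le_trans (Nat.pow_le_pow_left hle 2) (deg_sq_le χ)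
    have hc0 : 0 < ordCompl[r] n := Nat.ordCompl_pos r hn0
    have h2 : ordCompl[r] n ≤ ordProj[r] n := by
      rw [sq] at h1; exact Nat.le_of_mul_le_mul_right h1 hc0
    refine lt_of_le_of_ne h2 fun he => ?_
    have h3 : ordCompl[r] n = 1 := by
      refine Nat.eq_one_of_dvd_coprimes ((Nat.coprime_ordCompl hr hn0).pow_left (n.factorization r))
        (dvd_of_eq he) dvd_rfl
    refine hrd ?_
    rw [← he, h3]
    exact one_dvd _
  have hmp := hmdvd χ0 hχ0 p hp hpd
  have hdiv : ∀ χ : Cfsg.IrrCharacter G, (χ : G → ℂ) 1 ≠ 1 →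
      ¬ p ^ n.factorization p ∣ Cfsg.charDegree (χ : G → ℂ) := by
    intro χ hχ
    obtain ⟨r, hr, hrd⟩ := hex χ hχ
    by_cases hrp : r = p
    · exact hrp ▸ hrd
    have h := hmdvd χ hχ r hr hrd
    exfalso
    have h1 : ordProj[p] n ∣ ordCompl[r] n := by
      refine (Nat.Coprime.dvd_of_dvd_mul_left ?_ ((Nat.ordProj_dvd n p).trans (dvd_of_eq (Nat.ordProj_mul_ordCompl_eq_self n r).symm)))
      exact Nat.Coprime.pow _ _ ((Nat.coprime_primes hp hr).2 (Ne.symm hrp))
    have h2 : ordProj[r] n ∣ ordCompl[p] n := by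
      refine (Nat.Coprime.dvd_of_dvd_mul_left ?_ ((Nat.ordProj_dvd n r).trans (dvd_of_eq (Nat.ordProj_mul_ordCompl_eq_self n p).symm)))
      exact Nat.Coprime.pow _ _ ((Nat.coprime_primes hr hp).2 hrp)
    have h3 := Nat.le_of_dvd (Nat.ordCompl_pos r hn0) h1
    have h4 := Nat.le_of_dvd (Nat.ordCompl_pos p hn0) h2
    have h5 := h.2
    have h6 := hmp.2
    omega
  have hmall : ∀ χ : Cfsg.IrrCharacter G, (χ : G → ℂ) 1 ≠ 1 → m ∣ Cfsg.charDegree (χ : G → ℂ) :=
    fun χ hχ => (hmdvd χ hχ p hp (hdiv χ hχ)).1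
  have hvan : ∀ χ : Cfsg.IrrCharacter G, (χ : G → ℂ) 1 ≠ 1 → ∀ q : ℕ, q.Prime → q ≠ p →
      ∀ y : G, y ≠ 1 → (∃ b, orderOf y = q ^ b) → (χ : G → ℂ) y = 0 := fun χ hχ q hq hqp =>
    (vanish_split H χ hχ hp hq (Ne.symm hqp)).resolve_left fun h => hdiv χ hχ (pow_dvd_of_vanish χ h)
  -- normal Sylow subgroup
  have hK : ∀ q : ℕ, ∃ K : Subgroup G, K.Normal ∧ (q.Prime → q ≠ p → q ∣ n →
      (Nat.card K).Coprime q) ∧ (Nat.Coprime p K.index) := by
    intro q
    by_cases h : q.Prime ∧ q ≠ p ∧ q ∣ n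
    · obtain ⟨hq, hqp, hqn⟩ := h
      obtain ⟨K, hKn, hKc, k, hk⟩ := Cfsg.Agent.S4456.result (G := G) q hq fun χ hχ => by
        have h1 : (χ : G → ℂ) 1 ≠ 1 := fun h1 => hχ (by simp [Cfsg.charDegree, h1])
        refine (dvd_trans ?_ (hmall χ h1))
        refine Nat.Coprime.dvd_of_dvd_mul_left ((Nat.coprime_primes hq hp).2 hqp |>.pow_right (n.factorization p)) ?_
        exact hqn.trans (dvd_of_eq (Nat.ordProj_mul_ordCompl_eq_self n p).symm)
      exact ⟨K, hKn, fun _ _ _ => hKc, hk ▸ ((Nat.coprime_primes hp hq).2 (Ne.symm hqp)).pow_right k⟩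
    · exact ⟨⊤, inferInstance, fun h1 h2 h3 => absurd ⟨h1, h2, h3⟩ h, by simp⟩
  choose K hKn hKc hKi using hK
  obtain ⟨P⟩ : Nonempty (Sylow p G) := inferInstance
  set W := ⨅ q : ℕ, K q with hW
  have hWn : W.Normal := ⟨fun x hx g => by
    rw [hW, Subgroup.mem_iInf] at hx ⊢
    exact fun q => (hKn q).conj_mem x (hx q) g⟩
  have hPW : (P : Subgroup G) ≤ W := by
    refine le_iInf fun q => fun x hx => ?_
    haveI := hKn q
    rw [← QuotientGroup.eq_one_iff, ← orderOf_eq_one_iff]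
    obtain ⟨j, hj⟩ := IsPGroup.iff_orderOf.1 P.2 ⟨x, hx⟩
    rw [Subgroup.orderOf_mk] at hj
    refine Nat.eq_one_of_dvd_coprimes ((hKi q).pow_left j) (hj ▸ orderOf_map_dvd (QuotientGroup.mk' (K q)) x) ?_
    rw [Subgroup.index_eq_card]
    exact orderOf_dvd_natCard _
  have hWp : IsPGroup p W := by
    obtain ⟨k, hk⟩ : ∃ k, Nat.card W = p ^ k := by
      refine ⟨_, Nat.eq_prime_pow_of_unique_prime_dvd Nat.card_pos.ne' fun {q} hq hqd => ?_⟩
      by_contra hqp
      have h1 := hKc q hq hqp (hqd.trans (Subgroup.card_subgroup_dvd_card W))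
      exact hq.ne_one (Nat.eq_one_of_dvd_coprimes h1
        (hqd.trans (Subgroup.card_dvd_of_le (iInf_le K q))) dvd_rfl)
    exact IsPGroup.of_card hk
  have hPW' : W = (P : Subgroup G) := P.3 hWp hPW
  haveI hPn : (P : Subgroup G).Normal := hPW' ▸ hWn
  have hPcard : Nat.card (P : Subgroup G) = ordProj[p] n := P.card_eq_multiplicity
  have hidx : (P : Subgroup G).index = m := by
    have h1 := (P : Subgroup G).card_mul_index
    rw [hPcard] at h1
    refine Nat.eq_of_mul_eq_mul_left (Nat.pos_of_ne_zero fun h0 => ?_) (h1.trans (Nat.ordProj_mul_ordCompl_eq_self n p).symm)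
    exact (pow_pos hp.pos _).ne' h0
  have hcop : (Nat.card (P : Subgroup G)).Coprime (P : Subgroup G).index := by
    rw [hPcard, hidx]
    exact (Nat.coprime_ordCompl hp hn0).pow_left _
  obtain ⟨A, hA⟩ := Subgroup.exists_right_complement'_of_coprime hcop
  have hAcard : Nat.card A = m := by
    rw [← hidx]; exact hA.symm.index_eq_card.symm
  have htop : A ⊔ (P : Subgroup G) = ⊤ := by rw [sup_comm]; exact hA.sup_eq_top
  -- `G / P` is abelian
  haveI := Fintype.ofFinite (G ⧸ (P : Subgroup G))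
  have hquot : ∀ a b : G ⧸ (P : Subgroup G), a * b = b * a := by
    refine CharactersDeep.PrimePowerDegrees.comm_of_linear fun φ => ?_
    by_contra hne
    let ψ : Cfsg.IrrCharacter G := ⟨_, isIrr_comp (QuotientGroup.mk' (P : Subgroup G))
      (QuotientGroup.mk'_surjective _) φ.2⟩
    have h1 : (ψ : G → ℂ) 1 ≠ 1 := by
      show (φ : G ⧸ (P : Subgroup G) → ℂ) (QuotientGroup.mk' (P : Subgroup G) 1) ≠ 1
      rwa [map_one]
    have h2 : Cfsg.charDegree (ψ : G → ℂ) = Cfsg.charDegree (φ : G ⧸ (P : Subgroup G) → ℂ) := by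
      simp [Cfsg.charDegree, ψ]
    have h3 : Cfsg.charDegree (φ : G ⧸ (P : Subgroup G) → ℂ) = m :=
      Nat.dvd_antisymm ((card_quotient_eq (χ := φ)).trans (dvd_of_eq hidx)) ((hmall ψ h1).trans (dvd_of_eq h2))
    have h4 := deg_sq_le φ
    rw [h3, ← Subgroup.index_eq_card, hidx, sq] at h4
    have h5 : m ≤ 1 := Nat.le_of_mul_le_mul_left (by rw [mul_one]; exact h4) (Nat.ordCompl_pos p hn0)
    apply hne
    rw [← Blocks.charDegree_cast φ, h3, show m = 1 by have := Nat.ordCompl_pos p hn0; omega, Nat.cast_one]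
  have hG'P : commutator G ≤ (P : Subgroup G) := by
    rw [commutator_def, Subgroup.commutator_le]
    intro a _ b _
    rw [← QuotientGroup.eq_one_iff, ← QuotientGroup.mk'_apply, map_commutatorElement]
    exact commutatorElement_eq_one_iff_mul_comm.2 (hquot _ _)
  have hdisjAP : ∀ a ∈ A, a ∈ (P : Subgroup G) → a = 1 := fun a ha hap =>
    Subgroup.disjoint_def.1 hA.disjoint hap ha
  have hAab : ∀ a ∈ A, ∀ b ∈ A, a * b = b * a := fun a ha b hb => by
    refine commutatorElement_eq_one_iff_mul_comm.1 (hdisjAP _ ?_ ?_)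
    · rw [commutatorElement_def]; exact A.mul_mem (A.mul_mem (A.mul_mem ha hb) (A.inv_mem ha)) (A.inv_mem hb)
    · exact hG'P (Subgroup.commutator_mem_commutator (Subgroup.mem_top a) (Subgroup.mem_top b))
  haveI hAc : IsMulCommutative A := ⟨⟨fun a b => Subtype.ext (hAab a a.2 b b.2)⟩⟩
  set D := ⁅A, (P : Subgroup G)⁆ with hD
  set C := (P : Subgroup G) ⊓ Subgroup.centralizer (A : Set G) with hC
  have hDn : D.Normal := Subgroup.normalizer_eq_top_iff.1 (top_le_iff.1 (htop ▸ sup_le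
    (Subgroup.normalizer_commutator_ge_left A _) (Subgroup.normalizer_commutator_ge_right A _)))
  have hDP : D ≤ (P : Subgroup G) := Subgroup.commutator_le_right A _
  have hcopAP : (Nat.card A).Coprime (Nat.card (P : Subgroup G)) := by
    rw [hAcard, ← hidx]; exact hcop.symm
  have hAnorm : A ≤ Subgroup.normalizer ((P : Subgroup G) : Set G) := Subgroup.le_normalizer_of_normal
  have hsup : C ⊔ D = (P : Subgroup G) := by
    have h := Coprime.commutator_sup_centralizer (G := (P : Subgroup G)) (A := A) hAnorm hcopAP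
      (Or.inl (Group.isSolvable_of_comm fun a b => Subtype.ext (hAab a a.2 b b.2)))
    rwa [Subgroup.commutator_comm, sup_comm] at h
  have hA1 : A ≠ ⊥ := fun h => by
    rw [h, bot_sup_eq] at htop
    exact hpg ⟨p, hp, by
      intro g
      obtain ⟨k, hk⟩ := P.2 ⟨g, htop ▸ Subgroup.mem_top g⟩
      exact ⟨k, congrArg Subtype.val hk⟩⟩
  -- centralizers of elements of prime order
  have key : ∀ a ∈ A, (orderOf a).Prime →
      (P : Subgroup G) ⊓ Subgroup.centralizer ({a} : Set G) = C ∧ C ⊓ D = ⊥ ∧ commutator G = D := by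
    intro a ha hq
    set q := orderOf a with hqdef
    have hqp : q ≠ p := fun h => by
      have h1 : p ∣ Nat.card A := h ▸ Subgroup.orderOf_dvd_natCard A ha
      exact Nat.not_dvd_ordCompl hp hn0 (h1.trans (dvd_of_eq hAcard))
    have hle : Nat.card (Subgroup.centralizer ({a} : Set G)) ≤ (commutator G).index := by
      have h := column_split a
      rw [Finset.sum_eq_zero, add_zero] at h
      · exact le_of_eq (by exact_mod_cast h)
      · intro χ _
        split_ifs with h1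
        · rfl
        · rw [hvan χ h1 q hq hqp a (fun h2 => hq.ne_one (by rw [hqdef, h2, orderOf_one])) ⟨1, by
            rw [pow_one]⟩, map_zero]
    set Ca := (P : Subgroup G) ⊓ Subgroup.centralizer ({a} : Set G) with hCa
    have hCCa : C ≤ Ca := fun x hx => ⟨hx.1, Subgroup.mem_centralizer_singleton_iff.2
      (Subgroup.mem_centralizer_iff.1 hx.2 a ha).symm⟩
    have h1 : Nat.card A * Nat.card Ca ≤ Nat.card (Subgroup.centralizer ({a} : Set G)) := by
      rw [← Nat.card_prod]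
      refine Nat.card_le_card_of_injective (fun x : A × Ca => (⟨(x.1 : G) * x.2, mul_mem
        (Subgroup.mem_centralizer_singleton_iff.2 (hAab _ x.1.2 a ha)) x.2.2.2⟩ :
          Subgroup.centralizer ({a} : Set G))) fun x y hxy => ?_
      have h : (x.1 : G) * x.2 = y.1 * y.2 := congrArg Subtype.val hxy
      have hy : (y.1 : G)⁻¹ * x.1 = (y.2 : G) * (x.2 : G)⁻¹ := by
        rw [eq_mul_inv_iff_mul_eq, mul_assoc, h, inv_mul_cancel_left]
      have h2 : (y.1 : G)⁻¹ * x.1 = 1 := hdisjAP _ (A.mul_mem (A.inv_mem y.1.2) x.1.2)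
        (hy ▸ (P : Subgroup G).mul_mem y.2.2.1 ((P : Subgroup G).inv_mem x.2.2.1))
      have e1 : x.1 = y.1 := Subtype.ext (inv_mul_eq_one.1 h2).symm
      refine Prod.ext e1 (Subtype.ext ?_)
      rw [e1] at h
      exact mul_left_cancel h
    have hDG : D ≤ commutator G := Subgroup.commutator_mono le_top le_top
    have h2 : Nat.card A * (Nat.card Ca * Nat.card (commutator G)) ≤
        Nat.card A * Nat.card (P : Subgroup G) := by
      rw [← mul_assoc, hA.symm.card_mul_card]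
      refine (Nat.mul_le_mul_right _ (h1.trans hle)).trans (le_of_eq ?_)
      rw [mul_comm, Subgroup.card_mul_index]
    have h3 : Nat.card Ca * Nat.card (commutator G) ≤ Nat.card (P : Subgroup G) :=
      Nat.le_of_mul_le_mul_left h2 Nat.card_pos
    have h4 : Nat.card (P : Subgroup G) * Nat.card ↥(C ⊓ D) = Nat.card C * Nat.card D := by
      haveI := hDn
      have e1 : D.relIndex C * Nat.card ↥(C ⊓ D) = Nat.card C := by
        rw [← Subgroup.inf_relIndex_right, inf_comm D C, Subgroup.relIndex,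
          ← Nat.card_congr (Subgroup.subgroupOfEquivOfLe (inf_le_left : C ⊓ D ≤ C)).toEquiv,
          mul_comm, Subgroup.card_mul_index]
      have e2 : Nat.card D * D.relIndex (C ⊔ D) = Nat.card ↥(C ⊔ D) := by
        rw [Subgroup.relIndex, ← Nat.card_congr (Subgroup.subgroupOfEquivOfLe (le_sup_right : D ≤ C ⊔ D)).toEquiv,
          Subgroup.card_mul_index]
      rw [Subgroup.relIndex_sup_right, hsup] at e2
      rw [← e2, mul_assoc, e1, mul_comm]
    have h5 : Nat.card C ≤ Nat.card Ca := Nat.le_of_dvd Nat.card_pos (Subgroup.card_dvd_of_le hCCa)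
    have h6 : Nat.card D ≤ Nat.card (commutator G) :=
      Nat.le_of_dvd Nat.card_pos (Subgroup.card_dvd_of_le hDG)
    have hC0 : 0 < Nat.card C := Nat.card_pos
    have hD0 : 0 < Nat.card D := Nat.card_pos
    have hCD0 : 0 < Nat.card ↥(C ⊓ D) := Nat.card_pos
    have h7 : Nat.card Ca * Nat.card (commutator G) * Nat.card ↥(C ⊓ D) ≤ Nat.card C * Nat.card D :=
      h4 ▸ Nat.mul_le_mul_right _ h3
    have h8 : Nat.card ↥(C ⊓ D) = 1 := by
      nlinarith [Nat.mul_le_mul h5 h6]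
    rw [h8, mul_one] at h7
    have h9 : Nat.card Ca ≤ Nat.card C := by nlinarith [Nat.mul_le_mul h5 h6]
    have h10 : Nat.card (commutator G) ≤ Nat.card D := by nlinarith [Nat.mul_le_mul h5 h6]
    exact ⟨(Subgroup.eq_of_le_of_card_ge hCCa h9).symm, Subgroup.card_eq_one.1 h8,
      (Subgroup.eq_of_le_of_card_ge hDG h10).symm⟩
  obtain ⟨a0, ha0, ha0q⟩ : ∃ a ∈ A, (orderOf a).Prime := by
    obtain ⟨q, hq, hqd⟩ := Nat.exists_prime_and_dvd (n := Nat.card A)
      (fun h => hA1 (Subgroup.card_eq_one.1 h))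
    haveI := Fact.mk hq
    obtain ⟨a, ha⟩ := exists_prime_orderOf_dvd_card' (G := A) q hqd
    exact ⟨a, a.2, by rw [Subgroup.orderOf_coe, ha]; exact hq⟩
  obtain ⟨-, hCD, hG'D⟩ := key a0 ha0 ha0q
  have hD1 : D ≠ ⊥ := fun h => hG' (hG'D.trans h)
  have hfpf : ∀ a ∈ A, a ≠ 1 → ∀ d ∈ D, a * d = d * a → d = 1 := by
    intro a ha ha1 d hd hcomm
    obtain ⟨q, hq, hqd⟩ := Nat.exists_prime_and_dvd (mt orderOf_eq_one_iff.1 ha1)
    set k := orderOf a / q
    have hb : orderOf (a ^ k) = q :=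
      orderOf_pow_orderOf_div (orderOf_pos a).ne' hqd
    obtain ⟨hCa, -, -⟩ := key (a ^ k) (A.pow_mem ha k) (hb ▸ hq)
    have : d ∈ C ⊓ D := by
      refine ⟨hCa ▸ ⟨hDP hd, ?_⟩, hd⟩
      exact Subgroup.mem_centralizer_singleton_iff.2 ((Commute.pow_left hcomm k).eq).symm
    rwa [hCD, Subgroup.mem_bot] at this
  refine ⟨p, ⟨hp⟩, P, A, hPn, ?_, hA1, ?_, htop, ?_, hDn, hsup, hCD, hfpf⟩
  · by_contra hcyc
    refine hD1 (le_bot_iff.1 (Coprime.le_of_forall_inf_centralizer_le hcyc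
      Subgroup.le_normalizer_of_normal (hcopAP.coprime_dvd_right (Subgroup.card_dvd_of_le hDP))
      fun a ha ha1 x hx => Subgroup.mem_bot.2 (hfpf a ha ha1 x hx.1
        (Subgroup.mem_centralizer_singleton_iff.1 hx.2).symm)))
  · rw [hAcard]
    exact (Nat.coprime_ordCompl hp hn0).symm
  · refine ⟨⟨fun a b => Subtype.ext ?_⟩⟩
    refine commutatorElement_eq_one_iff_mul_comm.1 ?_
    have h : ⁅(a : G), (b : G)⁆ ∈ C ⊓ D := ⟨by
      rw [commutatorElement_def]
      exact C.mul_mem (C.mul_mem (C.mul_mem a.2 b.2) (C.inv_mem a.2)) (C.inv_mem b.2),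
      hG'D ▸ Subgroup.commutator_mem_commutator (Subgroup.mem_top _) (Subgroup.mem_top _)⟩
    rwa [hCD, Subgroup.mem_bot] at h

theorem backward
    (h : (∃ p : ℕ, p.Prime ∧ IsPGroup p G) ∨ IsMulCommutative G ∨ ∃ (p : ℕ) (_ : Fact p.Prime) (P : Sylow p G) (A : Subgroup G), (P : Subgroup G).Normal ∧ IsCyclic ↥A ∧ A ≠ ⊥ ∧ (Nat.card ↥A).Coprime p ∧ A ⊔ (P : Subgroup G) = ⊤ ∧ IsMulCommutative ↥((P : Subgroup G) ⊓ Subgroup.centralizer (A : Set G)) ∧ (⁅A, (P : Subgroup G)⁆).Normal ∧ ((P : Subgroup G) ⊓ Subgroup.centralizer (A : Set G)) ⊔ ⁅A, (P : Subgroup G)⁆ = (P : Subgroup G) ∧ ((P : Subgroup G) ⊓ Subgroup.centralizer (A : Set G)) ⊓ ⁅A, (P : Subgroup G)⁆ = ⊥ ∧ ∀ a ∈ A, a ≠ 1 → ∀ d ∈ ⁅A, (P : Subgroup G)⁆, a * d = d * a → d = 1) :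
    ∀ (x y : G) (χ : Cfsg.IrrCharacter G), x ≠ 1 → y ≠ 1 → (∃ p q a b : ℕ, p.Prime ∧ q.Prime ∧
      p ≠ q ∧ orderOf x = p ^ a ∧ orderOf y = q ^ b) →
      (χ : G → ℂ) (x * y) = (χ : G → ℂ) x * (χ : G → ℂ) y := by
  classical
  rintro x y χ hx hy ⟨r, s, a, b, hr, hs, hrs, ha, hb⟩
  have ha0 : a ≠ 0 := fun h => hx (by simpa [h, orderOf_eq_one_iff] using ha)
  have hb0 : b ≠ 0 := fun h => hy (by simpa [h, orderOf_eq_one_iff] using hb)
  rcases h with ⟨p, hp, hpg⟩ | hab | ⟨p, hpf, P, A, hPn, hAcyc, hA1, hAp, htop, hCc, hDn, hsup, hCD, hfpf⟩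
  · exfalso
    haveI := Fact.mk hp
    obtain ⟨i, hi⟩ := IsPGroup.iff_orderOf.1 hpg x
    obtain ⟨j, hj⟩ := IsPGroup.iff_orderOf.1 hpg y
    have h1 : r = p := (Nat.prime_dvd_prime_iff_eq hr hp).1
      (hr.dvd_of_dvd_pow ((dvd_pow_self r ha0).trans (dvd_of_eq (ha.symm.trans hi))))
    have h2 : s = p := (Nat.prime_dvd_prime_iff_eq hs hp).1
      (hs.dvd_of_dvd_pow ((dvd_pow_self s hb0).trans (dvd_of_eq (hb.symm.trans hj))))
    exact hrs (h1.trans h2.symm)
  · refine linear_of_deg_one (PrimePowerDegrees_linear hab χ) x y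
  haveI := hPn
  haveI := hDn
  set D := ⁅A, (P : Subgroup G)⁆ with hD
  set C := (P : Subgroup G) ⊓ Subgroup.centralizer (A : Set G) with hC
  by_cases hχ : (χ : G → ℂ) 1 = 1
  · exact linear_of_deg_one hχ x y
  have hp : p.Prime := Fact.out
  haveI hAc : IsMulCommutative A := by
    letI := hAcyc.commGroup
    exact ⟨⟨fun u v => mul_comm u v⟩⟩
  -- the derived group lies in `D`
  have hG'D : commutator G ≤ D := by
    let π := QuotientGroup.mk' D
    set S := A.map π ⊔ C.map π with hS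
    have hcomm : ∀ u ∈ A.map π, ∀ v ∈ C.map π, u * v = v * u := by
      rintro _ ⟨u, hu, rfl⟩ _ ⟨v, hv, rfl⟩
      rw [← map_mul, ← map_mul, Subgroup.mem_centralizer_iff.1 hv.2 u hu]
    have hSS : S ≤ Subgroup.centralizer (S : Set (G ⧸ D)) := by
      refine sup_le ?_ ?_ <;> rw [Subgroup.le_centralizer_iff, hS] <;> refine sup_le ?_ ?_
      · rintro _ ⟨u, hu, rfl⟩
        rw [Subgroup.mem_centralizer_iff]
        rintro _ ⟨v, hv, rfl⟩
        rw [← map_mul, ← map_mul]
        exact congrArg π (congrArg Subtype.val (hAc.is_comm.comm ⟨v, hv⟩ ⟨u, hu⟩))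
      · intro v hv
        rw [Subgroup.mem_centralizer_iff]
        exact fun u hu => hcomm u hu v hv
      · intro u hu
        rw [Subgroup.mem_centralizer_iff]
        exact fun v hv => (hcomm u hu v hv).symm
      · rintro _ ⟨u, hu, rfl⟩
        rw [Subgroup.mem_centralizer_iff]
        rintro _ ⟨v, hv, rfl⟩
        rw [← map_mul, ← map_mul]
        exact congrArg π (congrArg Subtype.val (hCc.is_comm.comm ⟨v, hv⟩ ⟨u, hu⟩))
    have hStop : ∀ g : G, π g ∈ S := by
      intro g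
      have : g ∈ (A ⊔ C) ⊔ D := by rw [sup_assoc, hsup, htop]; trivial
      obtain ⟨u, hu, d, hd, rfl⟩ := Subgroup.mem_sup_of_normal_right.1 this
      rw [map_mul, show π d = 1 from (QuotientGroup.eq_one_iff d).2 hd, mul_one, hS,
        ← Subgroup.map_sup]
      exact Subgroup.mem_map_of_mem π hu
    rw [commutator_def, Subgroup.commutator_le]
    intro u _ v _
    rw [← QuotientGroup.eq_one_iff, ← QuotientGroup.mk'_apply, map_commutatorElement]
    exact commutatorElement_eq_one_iff_mul_comm.2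
      (Subgroup.mem_centralizer_iff.1 (hSS (hStop v)) _ (hStop u))
  have hPcop : ∀ g : G, g ∈ (P : Subgroup G) → ∃ k, orderOf g = p ^ k := fun g hg => by
    obtain ⟨k, hk⟩ := IsPGroup.iff_orderOf.1 P.2 ⟨g, hg⟩
    exact ⟨k, by rwa [Subgroup.orderOf_mk] at hk⟩
  have hidxA : (P : Subgroup G).index = Nat.card A := by
    have h1 : (P : Subgroup G).relIndex (A ⊔ (P : Subgroup G)) = (P : Subgroup G).index := by
      rw [htop, Subgroup.relIndex_top_right]
    obtain ⟨k, hk⟩ := IsPGroup.iff_card.1 P.2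
    rw [← h1, Subgroup.relIndex_sup_right, ← Subgroup.inf_relIndex_right,
      (Subgroup.disjoint_of_coprime_natCard (by rw [hk]; exact (Nat.Coprime.pow_left k hAp.symm))).eq_bot,
      Subgroup.relIndex_bot_left]
  -- nonlinear characters vanish outside `P`
  have hvan : ∀ g : G, g ∉ (P : Subgroup G) → (χ : G → ℂ) g = 0 := by
    intro g hg
    refine vanish_of_card_le ?_ χ hχ
    -- a power of prime order outside `P`
    obtain ⟨q, hq, hqd⟩ := Nat.exists_prime_and_dvd
      (n := orderOf (QuotientGroup.mk' (P : Subgroup G) g)) (by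
        rw [Ne, orderOf_eq_one_iff, QuotientGroup.mk'_apply, QuotientGroup.eq_one_iff]; exact hg)
    have hqidx : q ∣ Nat.card A := by
      rw [← hidxA, Subgroup.index_eq_card]; exact hqd.trans (orderOf_dvd_natCard _)
    have hqp : q ≠ p := fun h => hq.ne_one (Nat.eq_one_of_dvd_coprimes hAp hqidx (dvd_of_eq h))
    haveI := Fact.mk hq
    have hqg : q ∣ orderOf g := hqd.trans (orderOf_map_dvd _ g)
    set w := g ^ (orderOf g / q) with hw
    have hwo : orderOf w = q := orderOf_pow_orderOf_div (orderOf_pos g).ne' hqg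
    obtain ⟨Q⟩ : Nonempty (Sylow q A) := inferInstance
    have hQi : ¬ q ∣ ((Q : Subgroup A).map A.subtype).index := by
      rw [Subgroup.index_map_subtype]
      refine hq.prime.not_dvd_mul Q.not_dvd_index ?_
      have hAi : A.index = Nat.card (P : Subgroup G) := by
        refine Nat.eq_of_mul_eq_mul_left (n := Nat.card A) Nat.card_pos ?_
        rw [Subgroup.card_mul_index, ← hidxA, mul_comm, Subgroup.card_mul_index]
      rw [hAi]
      obtain ⟨k, hk⟩ := IsPGroup.iff_card.1 P.2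
      rw [hk]
      exact fun h => hqp ((Nat.prime_dvd_prime_iff_eq hq hp).1 (hq.dvd_of_dvd_pow h))
    let Q' : Sylow q G := (Q.2.map A.subtype).toSylow hQi
    obtain ⟨R, hR⟩ := (IsPGroup.of_card (G := Subgroup.zpowers w) (p := q) (n := 1)
      (by rw [Nat.card_zpowers, hwo, pow_one])).exists_le_sylow
    obtain ⟨c, hc⟩ := MulAction.exists_smul_eq G R Q'
    have hwA : c * w * c⁻¹ ∈ A := by
      have h1 : c * w * c⁻¹ ∈ ((Q' : Sylow q G) : Subgroup G) := by
        rw [← hc, Sylow.coe_subgroup_smul]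
        exact Subgroup.smul_mem_pointwise_smul _ (MulAut.conj c) _ (hR (Subgroup.mem_zpowers w))
      obtain ⟨u, -, hu⟩ := h1
      rw [← hu]
      exact u.2
    have hw1 : c * w * c⁻¹ ≠ 1 := fun h => hq.ne_one (by
      rw [← hwo, orderOf_eq_one_iff]; simpa using h)
    -- the centralizer embeds in `G / D`
    have hinj : Function.Injective fun z : Subgroup.centralizer ({g} : Set G) =>
        (QuotientGroup.mk (z : G) : G ⧸ D) := by
      intro u v huv
      refine Subtype.ext ?_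
      have hd := QuotientGroup.eq.1 huv
      have hcom : Commute ((u : G)⁻¹ * v) w := by
        refine Commute.pow_right ?_ _
        exact Subgroup.mem_centralizer_singleton_iff.1 (mul_mem (inv_mem u.2) v.2)
      have h1 := hfpf _ hwA hw1 _ (hDn.conj_mem _ hd c) (by
        calc c * w * c⁻¹ * (c * ((u : G)⁻¹ * v) * c⁻¹) = c * (w * ((u : G)⁻¹ * v)) * c⁻¹ := by group
          _ = c * ((u : G)⁻¹ * v * w) * c⁻¹ := by rw [hcom.eq]
          _ = c * ((u : G)⁻¹ * v) * c⁻¹ * (c * w * c⁻¹) := by group)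
      rw [mul_inv_eq_one, mul_eq_left, inv_mul_eq_one] at h1
      exact h1
    refine (Nat.card_le_card_of_injective _ hinj).trans ?_
    rw [← Subgroup.index_eq_card]
    exact Nat.le_of_dvd (Nat.pos_of_ne_zero Subgroup.index_ne_zero_of_finite)
      (Subgroup.index_dvd_of_le hG'D)
  by_cases hrp : r = p
  · -- `y` lies outside `P`
    have hyP : y ∉ (P : Subgroup G) := fun h => by
      obtain ⟨k, hk⟩ := hPcop y h
      refine hrs (hrp.trans ((Nat.prime_dvd_prime_iff_eq hs hp).1 ?_).symm)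
      exact hs.dvd_of_dvd_pow ((dvd_pow_self s hb0).trans (dvd_of_eq (hb.symm.trans hk)))
    have hxP : x ∈ (P : Subgroup G) := by
      have hxp : IsPGroup p (Subgroup.zpowers x) := IsPGroup.of_card (n := a) (by
        rw [Nat.card_zpowers, ha, hrp])
      obtain ⟨Q, hQ⟩ := hxp.exists_le_sylow
      letI := Sylow.unique_of_normal P hPn
      have hQP : Q = P := Subsingleton.elim _ _
      exact hQP ▸ hQ (Subgroup.mem_zpowers x)
    rw [hvan y hyP, mul_zero]
    exact hvan _ fun h => hyP ((Subgroup.mul_mem_cancel_left _ hxP).1 h)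
  · have hxP : x ∉ (P : Subgroup G) := fun h => by
      obtain ⟨k, hk⟩ := hPcop x h
      exact hrp ((Nat.prime_dvd_prime_iff_eq hr hp).1
        (hr.dvd_of_dvd_pow ((dvd_pow_self r ha0).trans (dvd_of_eq (ha.symm.trans hk)))))
    rw [hvan x hxP, zero_mul]
    refine hvan _ fun h => hxP ?_
    have e1 : (QuotientGroup.mk' (P : Subgroup G)) x = ((QuotientGroup.mk' (P : Subgroup G)) y)⁻¹ := by
      refine eq_inv_of_mul_eq_one_left ?_
      rw [← map_mul, QuotientGroup.mk'_apply, QuotientGroup.eq_one_iff]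
      exact h
    rw [← QuotientGroup.eq_one_iff, ← QuotientGroup.mk'_apply, ← orderOf_eq_one_iff]
    refine Nat.eq_one_of_dvd_coprimes (((Nat.coprime_primes hr hs).2 hrs).pow a b)
      (ha ▸ orderOf_map_dvd _ x) ?_
    rw [e1, orderOf_inv, ← hb]
    exact orderOf_map_dvd _ y
where
  PrimePowerDegrees_linear (hab : IsMulCommutative G) (χ : Cfsg.IrrCharacter G) :
      (χ : G → ℂ) 1 = 1 := by
    obtain ⟨d, hd, hdvd⟩ := GaloisAverage.exists_degree_dvd_index χ.2 (⊤ : Subgroup G)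
      (fun u _ v _ => hab.is_comm.comm u v)
    rw [Subgroup.index_top, Nat.dvd_one] at hdvd
    rw [hd, hdvd, Nat.cast_one]


/-- For a finite group G the following are equivalent. (1) χ(x y) = χ(x) χ(y) for every irreducible character χ and all non-identity elements x, y of prime power orders for two different primes. (2) G is a p-group for some prime p, or G is abelian, or for some prime p: G = A P with P a normal Sylow p-subgroup and A a nontrivial cyclic subgroup of order prime to p such that, with C = C_P(A) and D = [A, P], one has P = C D, C abelian, D normal in G, C ∩ D = 1, and A acts fixed-point-freely on D (no non-identity element of A centralizes a non-identity element of D). -/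
theorem result {G : Type*} [Group G] [Finite G] : (∀ (x y : G) (χ : Cfsg.IrrCharacter G), x ≠ 1 → y ≠ 1 → (∃ p q a b : ℕ, p.Prime ∧ q.Prime ∧ p ≠ q ∧ orderOf x = p ^ a ∧ orderOf y = q ^ b) → (χ : G → ℂ) (x * y) = (χ : G → ℂ) x * (χ : G → ℂ) y) ↔ ((∃ p : ℕ, p.Prime ∧ IsPGroup p G) ∨ IsMulCommutative G ∨ ∃ (p : ℕ) (_ : Fact p.Prime) (P : Sylow p G) (A : Subgroup G), (P : Subgroup G).Normal ∧ IsCyclic ↥A ∧ A ≠ ⊥ ∧ (Nat.card ↥A).Coprime p ∧ A ⊔ (P : Subgroup G) = ⊤ ∧ IsMulCommutative ↥((P : Subgroup G) ⊓ Subgroup.centralizer (A : Set G)) ∧ (⁅A, (P : Subgroup G)⁆).Normal ∧ ((P : Subgroup G) ⊓ Subgroup.centralizer (A : Set G)) ⊔ ⁅A, (P : Subgroup G)⁆ = (P : Subgroup G) ∧ ((P : Subgroup G) ⊓ Subgroup.centralizer (A : Set G)) ⊓ ⁅A, (P : Subgroup G)⁆ = ⊥ ∧ ∀ a ∈ A, a ≠ 1 → ∀ d ∈ ⁅A, (P : Subgroup G)⁆, a * d = d * a → d = 1) := by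
  classical
  haveI := Fintype.ofFinite G
  exact ⟨forward, backward⟩

end Cfsg.Agent.S4756
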