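import Cfsg.Statements.S4757
import Cfsg.Agent.Characters.Linear
import Cfsg.Agent.ClassPairs.Basic
import Cfsg.Agent.PLocal.Cores
import Cfsg.Prelude.Def_CaseTheorems

set_option autoImplicit false
open Cfsg

namespace Cfsg.Agent.S4757

open CfsgLib

variable {G : Type*} [Group G] [Finite G]

theorem exists_hom_ne_one (h : commutator G ≠ ⊤) : ∃ f : G →* ℂˣ, f ≠ 1 := by
  by_contra hne
  push Not at hne
  apply h
  rw [← Subgroup.index_eq_one, ← Characters.card_linear_char,
    ← Nat.card_congr (Characters.linearCharEquiv (G := G))]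
  exact Nat.card_eq_one_iff_unique.2 ⟨⟨fun a b => (hne a).trans (hne b).symm⟩, ⟨1⟩⟩

theorem hom_value {u : G} {c : ℂ}
    (hyp : ∀ χ : Cfsg.IrrCharacter G, (χ : G → ℂ) ≠ (fun _ => (1 : ℂ)) →
      ((χ : G → ℂ) 1 - (χ : G → ℂ) u = c ∨ (χ : G → ℂ) u = 0))
    (f : G →* ℂˣ) (hf : f ≠ 1) : ((f u : ℂˣ) : ℂ) = 1 - c := by
  rcases hyp ⟨fun g => (f g : ℂ), Characters.isIrr_linChar f⟩ (fun h => hf (MonoidHom.ext fun g =>
    Units.ext (congrFun h g))) with h | h
  · simp only [map_one, Units.val_one] at h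
    linear_combination -h
  · exact absurd h (Units.ne_zero _)

theorem c_eq_two {u : G} (hu : u ≠ 1) {c : ℂ}
    (hyp : ∀ χ : Cfsg.IrrCharacter G, (χ : G → ℂ) ≠ (fun _ => (1 : ℂ)) →
      ((χ : G → ℂ) 1 - (χ : G → ℂ) u = c ∨ (χ : G → ℂ) u = 0))
    (h : commutator G ≠ ⊤) : c = 2 := by
  classical
  have := Fintype.ofFinite G
  obtain ⟨f, hf⟩ := exists_hom_ne_one h
  have hv := hom_value hyp f hf
  by_cases h0 : c = 0
  · exfalso
    have hsum := Characters.sum_degree_mul (G := G) u
    rw [if_neg hu] at hsum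
    have hre := congrArg Complex.re hsum
    rw [Complex.re_sum, Complex.zero_re] at hre
    have hpos : 0 < ∑ χ : Cfsg.IrrCharacter G, ((χ : G → ℂ) 1 * (χ : G → ℂ) u).re := by
      refine Finset.sum_pos' (fun χ _ => ?_)
        ⟨⟨fun _ => 1, Characters.isIrr_one⟩, Finset.mem_univ _, by simp⟩
      obtain ⟨n, -, hn, -⟩ := ClassPairs.exists_irr_degree χ
      by_cases h1 : (χ : G → ℂ) = fun _ => 1
      · simp [h1]
      rcases hyp χ h1 with hc | hc
      · rw [h0, sub_eq_zero] at hc
        rw [← hc, hn, Complex.mul_re, Complex.natCast_re, Complex.natCast_im, mul_zero, sub_zero]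
        exact mul_self_nonneg _
      · simp [hc]
    linarith
  · have hff : f * f = 1 := by
      by_contra hne
      have h2 := hom_value hyp _ hne
      rw [MonoidHom.mul_apply, Units.val_mul, hv] at h2
      have h3 : (1 - c) = 0 ∨ c = 0 := by
        have : (1 - c) * c = 0 := by linear_combination -h2
        exact mul_eq_zero.1 this
      rcases h3 with h3 | h3
      · exact Units.ne_zero (f u) (hv.trans h3)
      · exact h0 h3
    have h4 : (1 - c) * (1 - c) = 1 := by
      rw [← hv, ← Units.val_mul, ← MonoidHom.mul_apply, hff]; simp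
    have h5 : c * (c - 2) = 0 := by linear_combination h4
    exact sub_eq_zero.1 ((mul_eq_zero.1 h5).resolve_left h0)

theorem structure_of_two {u : G} (hu : u ≠ 1)
    (hyp : ∀ χ : Cfsg.IrrCharacter G, (χ : G → ℂ) ≠ (fun _ => (1 : ℂ)) →
      ((χ : G → ℂ) 1 - (χ : G → ℂ) u = 2 ∨ (χ : G → ℂ) u = 0)) :
    orderOf u = 2 ∧ Subgroup.zpowers u ⊔ Cfsg.oddCore G = ⊤ ∧
      Subgroup.centralizer ({u} : Set G) = Subgroup.zpowers u := by
  classical
  have := Fintype.ofFinite G
  have hsign : ∀ f : G →* ℂˣ, f ≠ 1 → ((f u : ℂˣ) : ℂ) = -1 := fun f hf => by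
    rw [hom_value hyp f hf]; norm_num
  have huniq : ∀ f g : G →* ℂˣ, f ≠ 1 → g ≠ 1 → f = g := by
    intro f g hf hg
    by_contra hne
    have h1 : f * g⁻¹ ≠ 1 := fun h => hne (mul_inv_eq_one.1 h)
    have h2 := hsign _ h1
    rw [MonoidHom.mul_apply, MonoidHom.inv_apply, Units.val_mul, Units.val_inv_eq_inv_val,
      hsign f hf, hsign g hg] at h2
    norm_num at h2
  -- the real contribution of each character
  let triv : Cfsg.IrrCharacter G := ⟨fun _ => 1, Characters.isIrr_one⟩
  have hval : ∀ χ : Cfsg.IrrCharacter G, χ ≠ triv → ∃ n : ℕ, 0 < n ∧ (χ : G → ℂ) 1 = n ∧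
      ((χ : G → ℂ) u = 0 ∨ (χ : G → ℂ) u = (n : ℂ) - 2) ∧ (n = 1 → (χ : G → ℂ) u = -1) := by
    intro χ hχ
    obtain ⟨n, hn0, hn, -⟩ := ClassPairs.exists_irr_degree χ
    have hne : (χ : G → ℂ) ≠ fun _ => 1 := fun h => hχ (Subtype.ext h)
    refine ⟨n, hn0, hn, ?_, fun h1 => ?_⟩
    · rcases hyp χ hne with h | h
      · right; rw [hn] at h; linear_combination -h
      · exact Or.inl h
    · rw [h1, Nat.cast_one] at hn
      obtain ⟨f, hf⟩ := Characters.exists_hom_of_degree_one (Characters.isCharacter_of_isIrr χ.2) hn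
      rw [hf]
      refine hsign f fun h => hne ?_
      rw [hf, h]; simp
  -- there is exactly one further linear character and all others vanish at `u`
  let L := (Finset.univ.erase triv).filter fun χ : Cfsg.IrrCharacter G => (χ : G → ℂ) 1 = 1
  let R := (Finset.univ.erase triv).filter fun χ : Cfsg.IrrCharacter G => ¬ (χ : G → ℂ) 1 = 1
  have hL : L.card ≤ 1 := by
    refine Finset.card_le_one.2 fun a ha b hb => ?_
    simp only [L, Finset.mem_filter, Finset.mem_erase] at ha hb
    obtain ⟨f, hf⟩ := Characters.exists_hom_of_degree_one (Characters.isCharacter_of_isIrr a.2) ha.2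
    obtain ⟨g, hg⟩ := Characters.exists_hom_of_degree_one (Characters.isCharacter_of_isIrr b.2) hb.2
    refine Subtype.ext ?_
    rw [hf, hg, huniq f g (fun h => ha.1.1 (Subtype.ext (by rw [hf, h]; simp [triv])))
      (fun h => hb.1.1 (Subtype.ext (by rw [hg, h]; simp [triv])))]
  have hsum := Characters.sum_degree_mul (G := G) u
  rw [if_neg hu, ← Finset.add_sum_erase _ _ (Finset.mem_univ triv),
    ← Finset.sum_filter_add_sum_filter_not (Finset.univ.erase triv)
      (fun χ : Cfsg.IrrCharacter G => (χ : G → ℂ) 1 = 1)] at hsum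
  have hLsum : ∑ χ ∈ L, (χ : G → ℂ) 1 * (χ : G → ℂ) u = -(L.card : ℂ) := by
    rw [Finset.sum_congr rfl (g := fun _ => (-1 : ℂ)) fun χ hχ => ?_]
    · simp
    simp only [L, Finset.mem_filter, Finset.mem_erase] at hχ
    obtain ⟨n, -, hn, -, h1⟩ := hval χ hχ.1.1
    rw [hχ.2, one_mul]
    exact h1 (by rw [hχ.2] at hn; exact_mod_cast hn.symm)
  have hRnn : ∀ χ ∈ R, 0 ≤ ((χ : G → ℂ) 1 * (χ : G → ℂ) u).re ∧
      (((χ : G → ℂ) 1 * (χ : G → ℂ) u).re = 0 → (χ : G → ℂ) u = 0) := by
    intro χ hχ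
    simp only [R, Finset.mem_filter, Finset.mem_erase] at hχ
    obtain ⟨n, hn0, hn, hor, -⟩ := hval χ hχ.1.1
    rcases hor with h | h
    · simp [h]
    have hn2 : 2 ≤ n := by
      by_contra hlt
      exact hχ.2 (by rw [hn, show n = 1 by omega]; simp)
    have hv : (χ : G → ℂ) u = ((n - 2 : ℕ) : ℂ) := by rw [h, Nat.cast_sub hn2]; norm_num
    rw [hn, hv, ← Nat.cast_mul, Complex.natCast_re]
    refine ⟨Nat.cast_nonneg _, fun h0 => ?_⟩
    rw [Nat.cast_eq_zero, mul_eq_zero] at h0
    rw [h0.resolve_left hn0.ne', Nat.cast_zero]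
  have hre := congrArg Complex.re hsum
  rw [hLsum, Complex.add_re, Complex.add_re, Complex.re_sum, Complex.neg_re, Complex.natCast_re,
    Complex.zero_re] at hre
  simp only [triv, one_mul, Complex.one_re] at hre
  have hR0 : 0 ≤ ∑ χ ∈ R, ((χ : G → ℂ) 1 * (χ : G → ℂ) u).re :=
    Finset.sum_nonneg fun χ hχ => (hRnn χ hχ).1
  have hL' : (L.card : ℝ) ≤ 1 := by exact_mod_cast hL
  have hLcard : L.card = 1 := by
    have h6 : (L.card : ℝ) = 1 := by linarith
    exact_mod_cast h6
  have hRzero : ∀ χ ∈ R, (χ : G → ℂ) u = 0 := fun χ hχ => (hRnn χ hχ).2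
    ((Finset.sum_eq_zero_iff_of_nonneg fun χ hχ => (hRnn χ hχ).1).1
      (by have h7 : (L.card : ℝ) = 1 := (by exact_mod_cast hLcard); linarith) χ hχ)
  -- column orthogonality
  have hcard : Nat.card ↥(Subgroup.centralizer ({u} : Set G)) = 2 := by
    have h8 := Characters.sum_irr_mul_conj_of_isConj (IsConj.refl u)
    rw [← Finset.add_sum_erase _ _ (Finset.mem_univ triv),
      ← Finset.sum_filter_add_sum_filter_not (Finset.univ.erase triv)
        (fun χ : Cfsg.IrrCharacter G => (χ : G → ℂ) 1 = 1),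
      Finset.sum_eq_zero (s := R) fun χ hχ => by rw [hRzero χ hχ, zero_mul],
      Finset.sum_congr rfl (g := fun _ => (1 : ℂ)) fun χ hχ => ?_] at h8
    · simp only [show (triv : G → ℂ) u = 1 from rfl, map_one, mul_one, Finset.sum_const, add_zero,
        show (Finset.filter (fun χ : Cfsg.IrrCharacter G => (χ : G → ℂ) 1 = 1)
          (Finset.univ.erase triv)).card = 1 from hLcard] at h8
      norm_num at h8
      rw [Nat.card_eq_fintype_card]; exact_mod_cast h8.symm
    simp only [Finset.mem_filter, Finset.mem_erase] at hχ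
    obtain ⟨n, -, hn, -, h1⟩ := hval χ hχ.1.1
    rw [h1 (by rw [hχ.2] at hn; exact_mod_cast hn.symm)]
    simp
  have huC : Subgroup.zpowers u ≤ Subgroup.centralizer ({u} : Set G) := by
    rw [Subgroup.zpowers_le]
    exact Subgroup.mem_centralizer_singleton_iff.2 rfl
  have hord : orderOf u = 2 := by
    have h9 := Subgroup.card_dvd_of_le huC
    rw [Nat.card_zpowers, hcard] at h9
    exact ((Nat.dvd_prime Nat.prime_two).1 h9).resolve_left fun h => hu (orderOf_eq_one_iff.1 h)
  have hCeq : Subgroup.centralizer ({u} : Set G) = Subgroup.zpowers u :=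
    (Subgroup.eq_of_le_of_card_ge huC (by rw [hcard, Nat.card_zpowers, hord])).symm
  -- the derived group has index two and odd order
  have hidx : (commutator G).index = 2 := by
    rw [← Characters.card_linear_char, Nat.card_eq_fintype_card, Fintype.card_subtype,
      ← Finset.insert_erase (Finset.mem_univ triv), Finset.filter_insert,
      if_pos (show (triv : G → ℂ) 1 = 1 from rfl), Finset.card_insert_of_notMem (by simp)]
    exact congrArg (· + 1) hLcard
  obtain ⟨f, hf⟩ := exists_hom_ne_one (G := G) (fun h => by rw [h, Subgroup.index_top] at hidx; omega)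
  have hu' : u ∉ commutator G := by
    intro h
    have h1 := MonoidHom.mem_ker.1 (Abelianization.commutator_subset_ker f h)
    have h2 := hsign f hf
    rw [h1, Units.val_one] at h2
    norm_num at h2
  have hodd : (Nat.card ↥(commutator G)).Coprime 2 := by
    rw [Nat.coprime_two_right, ← Nat.not_even_iff_odd, even_iff_two_dvd]
    intro h2
    obtain ⟨S, hS⟩ := (IsPGroup.of_card (n := 1) (show Nat.card ↥(Subgroup.zpowers u) = 2 ^ 1 by
      rw [Nat.card_zpowers, hord, pow_one])).exists_le_sylow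
    have hcen : ∀ z : ↥(S : Subgroup G), z ∈ Subgroup.center ↥(S : Subgroup G) →
        (z : G) ∈ Subgroup.centralizer ({u} : Set G) := fun z hz =>
      Subgroup.mem_centralizer_singleton_iff.2
        (congrArg Subtype.val (Subgroup.mem_center_iff.1 hz ⟨u, hS (Subgroup.mem_zpowers u)⟩)).symm
    have : Nontrivial ↥(S : Subgroup G) :=
      ⟨⟨⟨u, hS (Subgroup.mem_zpowers u)⟩, 1, fun h => hu (congrArg Subtype.val h)⟩⟩
    have := S.isPGroup'.center_nontrivial
    obtain ⟨⟨z, hz⟩, hz1⟩ := exists_ne (1 : ↥(Subgroup.center ↥(S : Subgroup G)))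
    have hzu : (z : G) = u := by
      have hz' := hcen z hz
      rw [hCeq, Subgroup.mem_zpowers_iff] at hz'
      obtain ⟨k, hk⟩ := hz'
      rw [← zpow_mod_orderOf, hord] at hk
      rcases Int.emod_two_eq_zero_or_one k with hk2 | hk2
      · have hk' : u ^ (0 : ℤ) = (z : G) := by rw [← hk2]; exact_mod_cast hk
        rw [zpow_zero] at hk'
        exact absurd (Subtype.ext (Subtype.ext hk'.symm)) hz1
      · have hk' : u ^ (1 : ℤ) = (z : G) := by rw [← hk2]; exact_mod_cast hk
        rw [zpow_one] at hk'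
        exact hk'.symm
    have hle : (S : Subgroup G) ≤ Subgroup.centralizer ({u} : Set G) := fun s hs => by
      rw [Subgroup.mem_centralizer_singleton_iff, ← hzu]
      exact congrArg Subtype.val (Subgroup.mem_center_iff.1 hz ⟨s, hs⟩)
    have h4 : 2 * 2 ∣ Nat.card G := by
      rw [← Subgroup.card_mul_index (commutator G), hidx]
      exact Nat.mul_dvd_mul_right h2 2
    have h5 : 2 * 2 ∣ Nat.card ↥(S : Subgroup G) := by
      rw [← pow_two] at h4 ⊢
      exact S.pow_dvd_card_of_pow_dvd_card h4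
    exact absurd (Nat.le_of_dvd (by omega) (h5.trans (hcard ▸ Subgroup.card_dvd_of_le hle))) (by omega)
  refine ⟨hord, eq_top_iff.2 (le_trans ?_ (sup_le_sup_left (PLocal.le_pPrimeCore (p := 2) hodd) _)), hCeq⟩
  intro g _
  by_cases hg : g ∈ commutator G
  · exact Subgroup.mem_sup_right hg
  · have hgu : g * u ∈ commutator G :=
      (Subgroup.mul_mem_iff_of_index_two hidx).2 (iff_of_false hg hu')
    have e : g = g * u * u⁻¹ := by group
    rw [e]
    exact Subgroup.mul_mem _ (Subgroup.mem_sup_right hgu)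
      (Subgroup.mem_sup_left (Subgroup.inv_mem _ (Subgroup.mem_zpowers u)))


/-- Let u ≠ 1 be an element of the finite group G and c a complex number such that every non-principal irreducible character χ satisfies χ(1) − χ(u) = c or χ(u) = 0. Then the following are equivalent: (a) u has order 2, G is generated by u together with O(G), the largest normal subgroup of G of odd order, and the centralizer of u is {1, u}; (b) G is not perfect; (c) c = 2. -/
theorem result {G : Type*} [Group G] [Finite G] (u : G) (hu : u ≠ 1) (c : ℂ) (hyp : ∀ χ : Cfsg.IrrCharacter G, (χ : G → ℂ) ≠ (fun _ => (1 : ℂ)) → ((χ : G → ℂ) 1 - (χ : G → ℂ) u = c ∨ (χ : G → ℂ) u = 0)) : ((orderOf u = 2 ∧ Subgroup.zpowers u ⊔ Cfsg.oddCore G = ⊤ ∧ Subgroup.centralizer ({u} : Set G) = Subgroup.zpowers u) ↔ commutator G ≠ ⊤) ∧ (commutator G ≠ ⊤ ↔ c = 2) := by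
  have hba : orderOf u = 2 ∧ Subgroup.zpowers u ⊔ Cfsg.oddCore G = ⊤ ∧
      Subgroup.centralizer ({u} : Set G) = Subgroup.zpowers u → commutator G ≠ ⊤ := by
    rintro ⟨hord, htop, -⟩ hperf
    have hN : Nat.Coprime (Nat.card ↥(Cfsg.oddCore G)) 2 := CfsgLib.PLocal.coprime_card_pPrimeCore 2 G
    have hnot : Cfsg.oddCore G ≠ ⊤ := by
      intro h
      rw [h, Subgroup.card_top] at hN
      have h2 : 2 ∣ Nat.card G := hord ▸ orderOf_dvd_natCard u
      exact absurd ((Nat.coprime_comm.1 hN).eq_one_of_dvd h2) (by decide)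
    have : (Cfsg.oddCore G).Normal := inferInstance
    apply hnot
    rw [eq_top_iff, ← hperf, commutator_def, Subgroup.commutator_le]
    intro a _ b _
    have hgen : ∀ x : G ⧸ Cfsg.oddCore G, x ∈ Subgroup.zpowers (QuotientGroup.mk u) := by
      intro x
      obtain ⟨g, rfl⟩ := QuotientGroup.mk'_surjective (Cfsg.oddCore G) x
      have hg : g ∈ Subgroup.zpowers u ⊔ Cfsg.oddCore G := htop ▸ Subgroup.mem_top g
      have hmap := Subgroup.mem_map_of_mem (QuotientGroup.mk' (Cfsg.oddCore G)) hg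
      rw [Subgroup.map_sup, MonoidHom.map_zpowers, QuotientGroup.map_mk'_self, sup_bot_eq] at hmap
      exact hmap
    rw [← QuotientGroup.eq_one_iff, ← QuotientGroup.mk'_apply, map_commutatorElement,
      commutatorElement_eq_one_iff_mul_comm]
    obtain ⟨i, hi⟩ := hgen (QuotientGroup.mk' _ a)
    obtain ⟨j, hj⟩ := hgen (QuotientGroup.mk' _ b)
    simp only at hi hj
    rw [← hi, ← hj, ← zpow_add, ← zpow_add, add_comm]
  exact ⟨⟨hba, fun h => structure_of_two hu (c_eq_two hu hyp h ▸ hyp)⟩,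
    ⟨c_eq_two hu hyp, fun hc => hba (structure_of_two hu (hc ▸ hyp))⟩⟩

end Cfsg.Agent.S4757
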