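import Cfsg.Statements.S4758
import Cfsg.Agent.SmallValue.Main
import Cfsg.Agent.SmallValue.Structure
import Cfsg.Agent.S0253
import Cfsg.Agent.S3378

set_option autoImplicit false
open Cfsg

namespace Cfsg.Agent.S4758

/-- Let u ≠ 1 be an element of the finite group G such that every non-principal irreducible character χ satisfies χ(1) − χ(u) = 4 or χ(u) = 0. Then O(G), the largest normal subgroup of odd order, is abelian, and either G ⧸ O(G) ≅ PSL₂(5) and u is an involution, or G ⧸ O(G) ≅ SL₂(5) and u has order 4. -/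
theorem result {G : Type*} [Group G] [Finite G] (u : G) (hu : u ≠ 1) (hyp : ∀ χ : Cfsg.IrrCharacter G, (χ : G → ℂ) ≠ (fun _ => (1 : ℂ)) → ((χ : G → ℂ) 1 - (χ : G → ℂ) u = 4 ∨ (χ : G → ℂ) u = 0)) : IsMulCommutative ↥(Cfsg.oddCore G) ∧ ((Nonempty (G ⧸ Cfsg.oddCore G ≃* Matrix.ProjectiveSpecialLinearGroup (Fin 2) (ZMod 5)) ∧ orderOf u = 2) ∨ (Nonempty (G ⧸ Cfsg.oddCore G ≃* Matrix.SpecialLinearGroup (Fin 2) (ZMod 5)) ∧ orderOf u = 4)) := by
  classical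
  letI := Fintype.ofFinite G
  have hG : CfsgLib.SmallValue.Hyp G u := ⟨hu, fun χ hχ hne => hyp ⟨χ, hχ⟩ hne⟩
  obtain ⟨N, hN, h1, h2, hQ, hconj⟩ := CfsgLib.SmallValue.centre_data hG
  haveI := hN
  have hO : CfsgLib.SmallValue.Over u N := ⟨h1, h2, hQ, hconj⟩
  rcases hO.orderOf_t with ht | ht
  · obtain ⟨hbot, ⟨e⟩⟩ := hO.two ht
    haveI : Fact (Nat.Prime 5) := ⟨by norm_num⟩
    obtain ⟨e5⟩ := Cfsg.Agent.S0253.result (F := ZMod 5) (ZMod.card 5)
    refine ⟨?_, Or.inl ⟨?_, ht⟩⟩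
    · rw [hbot]
      exact ⟨⟨fun a b => Subsingleton.elim _ _⟩⟩
    · exact ⟨(((QuotientGroup.quotientMulEquivOfEq hbot).trans QuotientGroup.quotientBot).trans e).trans
        e5.symm⟩
  · obtain ⟨hab, hcard, hns, hsyl⟩ := hO.four ht
    exact ⟨hab, Or.inr ⟨Cfsg.Agent.S3378.first_part _ hcard hns hsyl, ht⟩⟩

end Cfsg.Agent.S4758
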