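import Cfsg.Statements.S4759
import Cfsg.Agent.ExtraExt.Reduce
import Cfsg.Agent.CharactersDeep.TransferExtend

set_option autoImplicit false
set_option linter.style.haveILetI false
open Cfsg
open scoped commutatorElement

namespace Cfsg.Agent.S4759

/-- Let G be a finite group that is the semidirect product of a normal extraspecial 2-subgroup E and a complement H acting faithfully on E (no non-identity element of H centralizes E), and suppose H has a normal subgroup K of odd order with [E, K] = E. Then every faithful irreducible character θ of E (there is exactly one) extends to G: some irreducible character of G restricts to θ on E. -/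
theorem result {G : Type*} [Group G] [Finite G] (E H : Subgroup G) [E.Normal] (hE : Cfsg.IsExtraspecial 2 ↥E) (hEH : E ⊓ H = ⊥) (hEHtop : E ⊔ H = ⊤) (hfaith : ∀ h ∈ H, (∀ e ∈ E, h * e = e * h) → h = 1) (K : Subgroup G) (hKH : K ≤ H) (hKn : ∀ h ∈ H, ∀ k ∈ K, h * k * h⁻¹ ∈ K) (hKodd : Odd (Nat.card ↥K)) (hEK : ⁅E, K⁆ = E) (θ : Cfsg.IrrCharacter ↥E) (hθ : ∀ e : ↥E, (θ : ↥E → ℂ) e = (θ : ↥E → ℂ) 1 → e = 1) : ∃ χ : Cfsg.IrrCharacter G, ∀ e : ↥E, (χ : G → ℂ) e = (θ : ↥E → ℂ) e := by
  classical
  obtain ⟨⟨hp, hfr, hcom⟩, hcard⟩ := hE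
  obtain ⟨⟨z₀, hz₀c⟩, hz₀1⟩ : ∃ x : Subgroup.center ↥E, x ≠ 1 := by
    haveI : Nontrivial (Subgroup.center ↥E) := Finite.one_lt_card_iff_nontrivial.mp (by omega)
    exact exists_ne 1
  have hne0 : z₀ ≠ 1 := fun e => hz₀1 (Subtype.ext e)
  have hcen : ∀ a : ↥E, a ∈ Subgroup.center ↥E → a = 1 ∨ a = z₀ := by
    intro a ha
    obtain ⟨w, -, hu⟩ := (Nat.card_eq_two_iff' (1 : Subgroup.center ↥E)).mp hcard
    by_cases h1 : a = 1
    · exact Or.inl h1
    · exact Or.inr (congrArg Subtype.val ((hu ⟨a, ha⟩ fun e => h1 (congrArg Subtype.val e)).trans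
        (hu ⟨z₀, hz₀c⟩ hz₀1).symm))
  have hzz : z₀ * z₀ = 1 := by
    rcases hcen _ (mul_mem hz₀c hz₀c) with e | e
    · exact e
    · exact absurd (mul_eq_right.mp e) hne0
  obtain ⟨z, hz⟩ : ∃ z : G, z = z₀ := ⟨_, rfl⟩
  have hSet : CfsgLib.ExtraExt.Setting z E :=
    { mem := hz ▸ z₀.2
      orderOf_eq := by
        rw [hz, Subgroup.orderOf_coe]
        exact orderOf_eq_prime (by rw [sq, hzz]) hne0
      central := fun g => by
        have h1 : MulAut.conjNormal g z₀ ∈ Subgroup.center ↥E := by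
          refine Subgroup.mem_center_iff.mpr fun e => ?_
          obtain ⟨e', rfl⟩ := (MulAut.conjNormal g).surjective e
          rw [← map_mul, ← map_mul, Subgroup.mem_center_iff.mp hz₀c e']
        have h2 : MulAut.conjNormal g z₀ = z₀ :=
          (hcen _ h1).resolve_left fun e => hne0 ((MulEquiv.map_eq_one_iff _).mp e)
        have h3 := congrArg Subtype.val h2
        rw [MulAut.conjNormal_apply, ← hz, mul_inv_eq_iff_eq_mul] at h3
        exact h3
      isPGroup := hp
      comm := fun a ha b hb => by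
        have h1 : ⁅(⟨a, ha⟩ : ↥E), (⟨b, hb⟩ : ↥E)⁆ ∈ Subgroup.center ↥E := by
          rw [← hcom, _root_.commutator_def]
          exact Subgroup.commutator_mem_commutator (Subgroup.mem_top _) (Subgroup.mem_top _)
        rcases hcen _ h1 with e | e
        · left
          have h2 : a * b * a⁻¹ * b⁻¹ = 1 := congrArg Subtype.val e
          rwa [mul_inv_eq_one, mul_inv_eq_iff_eq_mul] at h2
        · right
          have h2 : a * b * a⁻¹ * b⁻¹ = z := by rw [hz]; exact congrArg Subtype.val e
          rw [← h2]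
          group
      center := fun a ha h => by
        refine (hcen ⟨a, ha⟩ (Subgroup.mem_center_iff.mpr fun b =>
          Subtype.ext (h b b.2).symm)).imp (congrArg Subtype.val) fun e => ?_
        rw [hz]; exact congrArg Subtype.val e }
  have hne : (θ : ↥E → ℂ) ⟨z, hSet.mem⟩ ≠ (θ : ↥E → ℂ) 1 := fun e =>
    hSet.ne_one (congrArg Subtype.val (hθ _ e))
  obtain ⟨d, hd, hval⟩ := hSet.eq_val θ.2 hne
  have hinv : ∀ (g : G) (n : ↥E), (θ : ↥E → ℂ) ⟨g * n * g⁻¹, ‹E.Normal›.conj_mem n n.2 g⟩ =
      (θ : ↥E → ℂ) n := fun g n => by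
    rw [hval, hval, CfsgLib.ExtraExt.val_conj d hSet.central]
  have hEN : ∀ A : Subgroup G, A ≤ Subgroup.normalizer (E : Set G) := fun A => by
    rw [Subgroup.normalizer_eq_top E]; exact le_top
  have hKN : H ≤ Subgroup.normalizer (K : Set G) :=
    CfsgLib.ExtraExt.le_normalizer_of_conj_mem hKn
  have hfix : CfsgLib.ExtraExt.fixd E K ≤ Subgroup.zpowers z := by
    intro x hx
    refine hSet.mem_zpowers_iff'.mpr (hSet.center x hx.1 fun b hb => ?_)
    have h1 := CfsgLib.ExtraExt.fixed_commutes hSet (hEN K) hx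
    rw [hEK] at h1
    exact (Subgroup.mem_centralizer_iff.mp h1 b hb).symm
  have hcardG : Nat.card G = Nat.card ↥E * Nat.card ↥H := by
    have := CfsgLib.FgsSix.card_sup_mul_card_inf H E (hEN H)
    rwa [sup_comm, hEHtop, inf_comm, hEH, Subgroup.card_bot, mul_one, Subgroup.card_top,
      mul_comm (Nat.card ↥H)] at this
  obtain ⟨χ, hχ, hres⟩ := CfsgLib.CharactersDeep.ExtensionCriteria.extends_of_sylow E θ.2 hinv
    fun p hp => by
      haveI := Fact.mk hp
      let Q : Sylow p ↥H := default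
      let P : Subgroup G := (Q : Subgroup ↥H).map H.subtype
      have hPH : P ≤ H := Subgroup.map_subtype_le _
      have hPp : IsPGroup p ↥P := Q.isPGroup'.map _
      have hPE : P ⊓ E = ⊥ := by
        rw [inf_comm, eq_bot_iff]
        exact (inf_le_inf_left E hPH).trans hEH.le
      have hcardX : Nat.card ↥(E ⊔ P) = Nat.card ↥E * Nat.card ↥P := by
        have := CfsgLib.FgsSix.card_sup_mul_card_inf P E (hEN P)
        rwa [sup_comm, hPE, Subgroup.card_bot, mul_one, mul_comm (Nat.card ↥P)] at this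
      have hidx : ¬ p ∣ (E ⊔ P).index := by
        have h1 := Subgroup.card_mul_index (E ⊔ P)
        have h2 : Nat.card ↥P = Nat.card ↥(Q : Subgroup ↥H) :=
          Subgroup.card_map_of_injective H.subtype_injective
        rw [hcardX, hcardG, mul_assoc, h2, ← Subgroup.card_mul_index (Q : Subgroup ↥H)] at h1
        rw [mul_left_cancel₀ Nat.card_pos.ne' (mul_left_cancel₀ Nat.card_pos.ne' h1)]
        exact Q.not_dvd_index
      by_cases h2 : p = 2
      · subst h2
        have D : CfsgLib.ExtraExt.Datum z E P K :=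
          ⟨hSet, hEN K, hEN P, hPH.trans hKN, hKodd, hPp, hPE, hfix⟩
        obtain ⟨d', χ', hd', hχ', hr⟩ := CfsgLib.ExtraExt.good_of_datum _ E P K rfl D
        refine ⟨E ⊔ P, le_sup_left, χ', hidx, hχ', fun n => ?_⟩
        have hdd : d' = d := by
          have := Nat.eq_of_mul_eq_mul_right two_pos (hd'.trans hd.symm)
          exact (Nat.pow_left_injective two_ne_zero) this
        rw [hr _ n.2, hval, hdd]
      · let X : Subgroup G := E ⊔ P
        let e : ↥(E.subgroupOf X) ≃* ↥E := Subgroup.subgroupOfEquivOfLe le_sup_left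
        have hθ' : IsIrrCharacter ↥(E.subgroupOf X) (fun n => (θ : ↥E → ℂ) (e n)) :=
          CfsgLib.Characters.isIrr_comp e.toMonoidHom e.surjective θ.2
        have hinv' : ∀ (g : ↥X) (n : ↥(E.subgroupOf X)),
            (θ : ↥E → ℂ) (e ⟨g * n * g⁻¹, (inferInstance : (E.subgroupOf X).Normal).conj_mem n n.2 g⟩) =
              (θ : ↥E → ℂ) (e n) := fun g n => hinv g (e n)
        have hidxX : (E.subgroupOf X).index = Nat.card ↥P := by
          have h1 := Subgroup.card_mul_index (E.subgroupOf X)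
          rw [Nat.card_congr e.toEquiv, hcardX] at h1
          exact mul_left_cancel₀ Nat.card_pos.ne' h1
        have hcopE : Nat.Coprime (E.subgroupOf X).index (Nat.card ↥E) := by
          obtain ⟨a, ha⟩ := IsPGroup.iff_card.mp hPp
          haveI : Fact (Nat.Prime 2) := ⟨Nat.prime_two⟩
          obtain ⟨b, hb⟩ := IsPGroup.iff_card.mp hSet.isPGroup
          rw [hidxX, ha, hb]
          exact ((Nat.coprime_primes hp Nat.prime_two).mpr h2).pow _ _
        have hcopd : Nat.Coprime (E.subgroupOf X).index d :=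
          hcopE.coprime_dvd_right ⟨d * 2, by rw [← hd]; ring⟩
        obtain ⟨n', ρ, hρ, hρθ⟩ := id hθ'
        let f := CfsgLib.CharactersDeep.LinearChar.detHom ρ
        have hdetθ : ∀ m, Cfsg.detChar (fun n => (θ : ↥E → ℂ) (e n)) m = (f m : ℂ) := fun m => by
          rw [← hρθ, CfsgLib.CharactersDeep.LinearChar.detChar_eq_hom]
        have hinvf : ∀ (g : ↥X) (m : ↥(E.subgroupOf X)),
            f ⟨g * m * g⁻¹, (inferInstance : (E.subgroupOf X).Normal).conj_mem m m.2 g⟩ = f m :=
          fun g m => Units.ext (by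
            rw [← hdetθ, ← hdetθ]
            exact CfsgLib.CharactersDeep.ExtensionCriteria.detChar_invariant _ hθ' hinv' g m)
        haveI : NeZero (Nat.card ↥E) := ⟨Nat.card_pos.ne'⟩
        obtain ⟨μ, hμ, -⟩ := CfsgLib.CharactersDeep.TransferExtend.exists_extend_same_exponent
          (E.subgroupOf X) f hinvf (o := Nat.card ↥E) (fun m => by
            rw [← map_pow, ← Nat.card_congr e.toEquiv, pow_card_eq_one', map_one]) hcopE
        obtain ⟨η, hη, hηE⟩ := CfsgLib.CharactersDeep.ExtensionCriteria.extends_of_det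
          (E.subgroupOf X) hθ' hinv' (d := d) (by
            show (θ : ↥E → ℂ) (e 1) = _
            rw [map_one, hval, OneMemClass.coe_one, CfsgLib.ExtraExt.val_one]) hcopd μ
          (fun m => by rw [hμ, hdetθ])
        exact ⟨X, le_sup_left, η, hidx, CfsgLib.Characters.isCharacter_of_isIrr hη,
          fun n => hηE ⟨⟨n, _⟩, n.2⟩⟩
  exact ⟨⟨χ, hχ⟩, hres⟩

end Cfsg.Agent.S4759
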