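import Cfsg.Statements.S4762
import Cfsg.Agent.Characters.Linear
import Cfsg.Agent.Characters.Classes
import Cfsg.Agent.ClassPairs.Basic
import Cfsg.Prelude.Def_Transfer
import Mathlib.GroupTheory.Frattini
import Cfsg.Agent.Solvable.Frattini
import Mathlib.GroupTheory.Nilpotent
import Mathlib.GroupTheory.SpecificGroups.Cyclic
import Mathlib.GroupTheory.ClassEquation

set_option autoImplicit false
open Cfsg
open scoped commutatorElement

namespace Cfsg.Agent.S4762

open CfsgLib

variable {G : Type*} [Group G] [Finite G]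

theorem exists_hom_ne_one (h : commutator G ≠ ⊤) : ∃ f : G →* ℂˣ, f ≠ 1 := by
  by_contra hne
  push Not at hne
  apply h
  rw [← Subgroup.index_eq_one, ← Characters.card_linear_char,
    ← Nat.card_congr (Characters.linearCharEquiv (G := G))]
  exact Nat.card_eq_one_iff_unique.2 ⟨⟨fun a b => (hne a).trans (hne b).symm⟩, ⟨1⟩⟩

theorem isIrr_hom_mul (f : G →* ℂˣ) (χ : Cfsg.IrrCharacter G) :
    Cfsg.IsIrrCharacter G ((fun g => ((f g : ℂˣ) : ℂ)) * (χ : G → ℂ)) := by
  classical
  have := Fintype.ofFinite G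
  refine Characters.isIrr_of_classInner_self (Characters.isCharacter_mul
    (Characters.isCharacter_of_isIrr (Characters.isIrr_linChar f))
    (Characters.isCharacter_of_isIrr χ.2)) ?_
  rw [← Characters.classInner_isIrr_self χ.2, Cfsg.classInner, Cfsg.classInner]
  congr 1
  refine Finset.sum_congr rfl fun g _ => ?_
  rw [Pi.mul_apply, map_mul, ← Characters.character_inv (χ := fun g => ((f g : ℂˣ) : ℂ))
    (Characters.isCharacter_of_isIrr (Characters.isIrr_linChar f)) g, mul_mul_mul_comm,
    ← Units.val_mul, ← map_mul, mul_inv_cancel, map_one, Units.val_one, one_mul]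

theorem two_mul_card_conjClasses (hc : Nat.card (commutator G) = 2)
    (hle : commutator G ≤ Subgroup.center G) :
    2 * Nat.card (ConjClasses G) = Nat.card G + Nat.card (Subgroup.center G) := by
  classical
  have := Fintype.ofFinite G
  have := Fintype.ofFinite (ConjClasses G)
  have hcard : ∀ g : G, Nat.card (ConjClasses.mk g).carrier +
      (if g ∈ Subgroup.center G then 1 else 0) = 2 := by
    intro g
    split_ifs with hg
    · have h1 : (ConjClasses.mk g).carrier = {g} := by
        ext y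
        rw [ConjClasses.mem_carrier_iff_mk_eq, ConjClasses.mk_eq_mk_iff_isConj, Set.mem_singleton_iff]
        refine ⟨fun h => ?_, fun h => h ▸ IsConj.refl g⟩
        obtain ⟨c, rfl⟩ := isConj_iff.1 h.symm
        rw [Subgroup.mem_center_iff.1 hg c, mul_inv_cancel_right]
      rw [h1, Nat.card_coe_set_eq, Set.ncard_singleton]
    · rw [add_zero]
      apply le_antisymm
      · have hinj : Function.Injective
            (fun y : (ConjClasses.mk g).carrier => (⟨g⁻¹ * y.1, by
              obtain ⟨c, hc'⟩ := isConj_iff.1 (ConjClasses.mk_eq_mk_iff_isConj.1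
                (ConjClasses.mem_carrier_iff_mk_eq.1 y.2)).symm
              rw [commutator_def, ← hc', show g⁻¹ * (c * g * c⁻¹) = ⁅g⁻¹, c⁆ by
                rw [commutatorElement_def]; group]
              exact Subgroup.commutator_mem_commutator (Subgroup.mem_top _) (Subgroup.mem_top _)⟩
              : ↥(commutator G))) := fun a b h => Subtype.ext (mul_left_cancel (congrArg Subtype.val h))
        exact (Nat.card_le_card_of_injective _ hinj).trans_eq hc
      · rw [Subgroup.mem_center_iff] at hg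
        push Not at hg
        obtain ⟨c, hc'⟩ := hg
        have hne : c * g * c⁻¹ ≠ g := fun h => hc' (mul_inv_eq_iff_eq_mul.1 h)
        have h2 : ({g, c * g * c⁻¹} : Set G).ncard = 2 := Set.ncard_pair hne.symm
        rw [Nat.card_coe_set_eq, ← h2]
        refine Set.ncard_le_ncard ?_ (Set.toFinite _)
        rintro y (rfl | rfl)
        · exact ConjClasses.mem_carrier_mk
        · rw [ConjClasses.mem_carrier_iff_mk_eq, ConjClasses.mk_eq_mk_iff_isConj]
          exact (isConj_iff.2 ⟨c, rfl⟩).symm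
  have h3 : ∑ C : ConjClasses G, (Nat.card C.carrier +
      Nat.card {g : Subgroup.center G // ConjClasses.mk (g : G) = C}) = ∑ _C : ConjClasses G, 2 := by
    refine Finset.sum_congr rfl fun C _ => ?_
    obtain ⟨g, rfl⟩ := ConjClasses.mk_surjective C
    rw [← hcard g]
    congr 1
    split_ifs with hg
    · refine Nat.card_eq_one_iff_unique.2 ⟨⟨fun a b => ?_⟩, ⟨⟨⟨g, hg⟩, rfl⟩⟩⟩
      have key : ∀ x : {x : Subgroup.center G // ConjClasses.mk (x : G) = ConjClasses.mk g},
          (x.1 : G) = g := fun x => by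
        obtain ⟨c, hc'⟩ := isConj_iff.1 (ConjClasses.mk_eq_mk_iff_isConj.1 x.2).symm
        rw [← hc', Subgroup.mem_center_iff.1 hg c, mul_inv_cancel_right]
      exact Subtype.ext (Subtype.ext ((key a).trans (key b).symm))
    · rw [Nat.card_eq_zero]
      refine Or.inl ⟨fun x => hg ?_⟩
      obtain ⟨c, hc'⟩ := isConj_iff.1 (ConjClasses.mk_eq_mk_iff_isConj.1 x.2)
      rw [← hc', Subgroup.mem_center_iff.1 x.1.2 c, mul_inv_cancel_right]
      exact x.1.2
  rw [Finset.sum_add_distrib, Finset.sum_const, smul_eq_mul, Finset.card_univ,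
    ← Nat.card_eq_fintype_card] at h3
  rw [mul_comm, ← h3]
  congr 1
  · rw [← Nat.card_sigma]
    exact Nat.card_congr ((Equiv.sigmaCongrRight fun C => Equiv.subtypeEquivRight fun y =>
      ConjClasses.mem_carrier_iff_mk_eq).trans (Equiv.sigmaFiberEquiv ConjClasses.mk))
  · rw [← Nat.card_sigma]
    exact Nat.card_congr (Equiv.sigmaFiberEquiv fun g : Subgroup.center G => ConjClasses.mk (g : G))

theorem card_nonlinear :
    Nat.card {χ : Cfsg.IrrCharacter G // ¬ (χ : G → ℂ) 1 = 1} + (commutator G).index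
      = Nat.card (ConjClasses G) := by
  classical
  rw [← Characters.card_linear_char, ← Characters.card_irrCharacter, add_comm, ← Nat.card_sum]
  exact Nat.card_congr (Equiv.sumCompl fun χ : Cfsg.IrrCharacter G => (χ : G → ℂ) 1 = 1)

theorem degree_dvd_iff {p : ℕ} [Fact p.Prime] (hG : IsPGroup p G) (χ : Cfsg.IrrCharacter G) :
    p ∣ Cfsg.charDegree (χ : G → ℂ) ↔ ¬ (χ : G → ℂ) 1 = 1 := by
  have := Fintype.ofFinite G
  obtain ⟨n, hn0, hn, hdeg, hdvd⟩ := ClassPairs.exists_irr_degree χ
  rw [hdeg, hn, Nat.cast_eq_one]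
  constructor
  · intro h h1
    exact (Fact.out : p.Prime).ne_one (Nat.dvd_one.1 (h1 ▸ h))
  · intro h1
    obtain ⟨k, hk⟩ := hG.exists_card_eq
    rw [hk] at hdvd
    obtain ⟨j, -, rfl⟩ := (Nat.dvd_prime_pow Fact.out).1 hdvd
    exact dvd_pow_self p fun h => h1 (by rw [h, pow_zero])

theorem not_dvd_of_abelian_sylow [Group.IsNilpotent G] {p : ℕ} [Fact p.Prime] (P : Sylow p G)
    (hab : ∀ a ∈ (P : Subgroup G), ∀ b ∈ (P : Subgroup G), a * b = b * a)
    (χ : Cfsg.IrrCharacter G) : ¬ p ∣ Cfsg.charDegree (χ : G → ℂ) := by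
  have := Fintype.ofFinite G
  have hn : ∀ {q : ℕ} [Fact q.Prime] (Q : Sylow q G), (Q : Subgroup G).Normal := fun {q} _ Q =>
    inferInstance
  have hcen : (P : Subgroup G) ≤ Subgroup.center G := by
    intro x hx
    have htop : Subgroup.centralizer ({x} : Set G) = ⊤ := by
      refine Subgroup.eq_top_of_card_eq _ (Nat.dvd_antisymm (Subgroup.card_subgroup_dvd_card _) ?_)
      rw [← Nat.factorization_le_iff_dvd Nat.card_pos.ne' Nat.card_pos.ne']
      intro q
      by_cases hq : q.Prime
      · have : Fact q.Prime := ⟨hq⟩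
        obtain ⟨Q⟩ : Nonempty (Sylow q G) := inferInstance
        have hle : (Q : Subgroup G) ≤ Subgroup.centralizer ({x} : Set G) := by
          intro y hy
          rw [Subgroup.mem_centralizer_singleton_iff]
          by_cases hqp : q = p
          · subst hqp
            have := Sylow.unique_of_normal Q (hn Q)
            rw [Subsingleton.elim P Q] at hx hab
            exact hab y hy x hx
          · exact Subgroup.commute_of_normal_of_disjoint _ _ (hn Q) (hn P)
              (IsPGroup.disjoint_of_ne q p hqp _ _ Q.isPGroup' P.isPGroup') y x hy hx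
        have h1 := Subgroup.card_dvd_of_le hle
        rw [Q.card_eq_multiplicity] at h1
        exact (hq.pow_dvd_iff_le_factorization Nat.card_pos.ne').1 h1
      · simp [Nat.factorization_eq_zero_of_not_prime _ hq]
    refine Subgroup.mem_center_iff.2 fun y => ?_
    exact Subgroup.mem_centralizer_singleton_iff.1 (htop ▸ Subgroup.mem_top y)
  obtain ⟨n, ρ, hρ, hρc⟩ := χ.2
  have hdvd := Characters.finrank_dvd_center_index ρ
  have hdeg : Cfsg.charDegree (χ : G → ℂ) = Module.finrank ℂ (Fin n → ℂ) := by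
    rw [Cfsg.charDegree, ← hρc, Representation.char_one]
    simp
  rw [hdeg]
  exact fun h => P.not_dvd_index ((h.trans hdvd).trans (Subgroup.index_dvd_of_le hcen))

theorem isPGroup_of_unique [Group.IsNilpotent G] {p : ℕ} [Fact p.Prime]
    (hone : Nat.card {χ : Cfsg.IrrCharacter G // p ∣ Cfsg.charDegree (χ : G → ℂ)} = 1) :
    IsPGroup p G := by
  classical
  have := Fintype.ofFinite G
  obtain ⟨hsub, ⟨χ₀, hχ₀⟩⟩ := Nat.card_eq_one_iff_unique.1 hone
  have hn : ∀ {q : ℕ} [Fact q.Prime] (Q : Sylow q G), (Q : Subgroup G).Normal := fun {q} _ Q =>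
    inferInstance
  obtain ⟨P⟩ : Nonempty (Sylow p G) := inferInstance
  have hPn := hn P
  have hpG : p ∈ (Nat.card G).primeFactors := by
    obtain ⟨n, -, -, hdeg, hdvd⟩ := ClassPairs.exists_irr_degree χ₀
    rw [hdeg] at hχ₀
    exact Nat.mem_primeFactors.2 ⟨Fact.out, hχ₀.trans hdvd, Nat.card_pos.ne'⟩
  let e := Sylow.directProductOfNormal (G := G) hn
  let π : G →* ↥(P : Subgroup G) :=
    ((Pi.evalMonoidHom (fun Q : Sylow p G => ↥(Q : Subgroup G)) P).comp
      (Pi.evalMonoidHom (fun q : (Nat.card G).primeFactors => ∀ Q : Sylow q G, ↥(Q : Subgroup G))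
        ⟨p, hpG⟩)).comp e.symm.toMonoidHom
  have hπ : Function.Surjective π := by
    intro x
    refine ⟨e (Pi.mulSingle ⟨p, hpG⟩ (Pi.mulSingle P x)), ?_⟩
    simp [π]
  have := Fintype.ofFinite ↥(P : Subgroup G)
  -- `P` has a nonlinear character
  obtain ⟨φ, hφ⟩ : ∃ φ : Cfsg.IrrCharacter ↥(P : Subgroup G), ¬ (φ : ↥(P : Subgroup G) → ℂ) 1 = 1 := by
    by_contra h
    push Not at h
    refine not_dvd_of_abelian_sylow P (fun a ha b hb => ?_) χ₀ hχ₀
    have hlin := Characters.card_linear_char (G := ↥(P : Subgroup G))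
    rw [Nat.card_congr (Equiv.subtypeUnivEquiv h)] at hlin
    have hsq := Characters.sum_degree_sq (G := ↥(P : Subgroup G))
    simp only [h, one_pow, Finset.sum_const, nsmul_eq_mul, mul_one] at hsq
    rw [Nat.cast_inj, Finset.card_univ, ← Nat.card_eq_fintype_card, hlin,
      ← Subgroup.card_mul_index (commutator ↥(P : Subgroup G))] at hsq
    have hbot : commutator ↥(P : Subgroup G) = ⊥ := by
      rw [← Subgroup.card_eq_one]
      have h5 : (commutator ↥(P : Subgroup G)).index ≠ 0 := Subgroup.index_ne_zero_of_finite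
      nlinarith [Nat.pos_of_ne_zero h5]
    have hmem : ⁅(⟨a, ha⟩ : ↥(P : Subgroup G)), ⟨b, hb⟩⁆ ∈ commutator ↥(P : Subgroup G) :=
      Subgroup.commutator_mem_commutator (Subgroup.mem_top _) (Subgroup.mem_top _)
    rw [hbot, Subgroup.mem_bot, commutatorElement_eq_one_iff_mul_comm] at hmem
    exact congrArg Subtype.val hmem
  let χ : Cfsg.IrrCharacter G := ⟨fun g => (φ : ↥(P : Subgroup G) → ℂ) (π g), Characters.isIrr_comp π hπ φ.2⟩
  have hχ : p ∣ Cfsg.charDegree (χ : G → ℂ) := by
    have h1 := (degree_dvd_iff P.isPGroup' φ).2 hφ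
    simpa [Cfsg.charDegree, χ] using h1
  by_contra hG
  have htop : (P : Subgroup G) ≠ ⊤ := fun h => hG (fun g => by
    obtain ⟨k, hk⟩ := P.isPGroup' ⟨g, h ▸ Subgroup.mem_top g⟩
    exact ⟨k, congrArg Subtype.val hk⟩)
  have : Nontrivial (G ⧸ (P : Subgroup G)) :=
    Finite.one_lt_card_iff_nontrivial.1 (lt_of_le_of_ne Nat.card_pos
      fun h => htop (Subgroup.index_eq_one.1 h.symm))
  have : Group.IsNilpotent (G ⧸ (P : Subgroup G)) := inferInstance
  obtain ⟨f₀, hf₀⟩ := exists_hom_ne_one (G := G ⧸ (P : Subgroup G))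
    (Group.IsSolvable.commutator_lt_top_of_nontrivial _).ne
  let f : G →* ℂˣ := f₀.comp (QuotientGroup.mk' (P : Subgroup G))
  have hfP : (P : Subgroup G) ≤ f.ker := fun x hx => by
    rw [MonoidHom.mem_ker]
    show f₀ (QuotientGroup.mk' (P : Subgroup G) x) = 1
    rw [QuotientGroup.mk'_apply, (QuotientGroup.eq_one_iff x).2 hx, map_one]
  let χ' : Cfsg.IrrCharacter G := ⟨_, isIrr_hom_mul f χ⟩
  have hχ' : p ∣ Cfsg.charDegree (χ' : G → ℂ) := by
    simpa [Cfsg.charDegree, χ'] using hχ
  have heq : (χ' : G → ℂ) = (χ : G → ℂ) :=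
    congrArg (fun x : {χ : Cfsg.IrrCharacter G // p ∣ Cfsg.charDegree (χ : G → ℂ)} => (x.1 : G → ℂ))
      (hsub.elim ⟨χ', hχ'⟩ ⟨χ, hχ⟩)
  have hfK : π.ker ≤ f.ker := fun x hx => by
    have h1 : ((f x : ℂˣ) : ℂ) * (φ : ↥(P : Subgroup G) → ℂ) (π x) = (φ : ↥(P : Subgroup G) → ℂ) (π x) := congrFun heq x
    rw [MonoidHom.mem_ker.1 hx] at h1
    exact MonoidHom.mem_ker.2 (Units.ext (mul_right_cancel₀ (Characters.irr_one_ne_zero φ.2)
      (h1.trans (one_mul _).symm)))
  have hKindex : π.ker.index = Nat.card ↥(P : Subgroup G) := by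
    rw [Subgroup.index_ker, MonoidHom.range_eq_top.2 hπ, Subgroup.card_top]
  have hKcard : Nat.card ↥π.ker = (P : Subgroup G).index := by
    have h1 := Subgroup.card_mul_index π.ker
    rw [hKindex, ← Subgroup.card_mul_index (P : Subgroup G), mul_comm] at h1
    exact Nat.eq_of_mul_eq_mul_left Nat.card_pos h1
  have hcompl : Subgroup.IsComplement' π.ker (P : Subgroup G) := by
    refine Subgroup.isComplement'_of_coprime (by rw [hKcard, mul_comm, Subgroup.card_mul_index]) ?_
    rw [hKcard, P.card_eq_multiplicity]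
    exact Nat.Coprime.pow_right _ (((Fact.out : p.Prime).coprime_iff_not_dvd).2 P.not_dvd_index).symm
  refine hf₀ (MonoidHom.ext fun x => ?_)
  obtain ⟨g, rfl⟩ := QuotientGroup.mk'_surjective (P : Subgroup G) x
  have hg : g ∈ f.ker := sup_le hfK hfP (hcompl.sup_eq_top ▸ Subgroup.mem_top g)
  exact MonoidHom.mem_ker.1 hg

theorem extraspecial_of_unique {p : ℕ} [Fact p.Prime] (hG : IsPGroup p G)
    (hone : Nat.card {χ : Cfsg.IrrCharacter G // p ∣ Cfsg.charDegree (χ : G → ℂ)} = 1) :
    p = 2 ∧ Cfsg.IsExtraspecial 2 G := by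
  classical
  have := Fintype.ofFinite G
  have hpp : p.Prime := Fact.out
  rw [Nat.card_congr (Equiv.subtypeEquivRight (degree_dvd_iff hG))] at hone
  obtain ⟨hsub, ⟨χ, hχ⟩⟩ := Nat.card_eq_one_iff_unique.1 hone
  obtain ⟨d, -, hd, -, hdvd⟩ := ClassPairs.exists_irr_degree χ
  obtain ⟨n, hn⟩ := hG.exists_card_eq
  rw [hn] at hdvd
  obtain ⟨j, -, rfl⟩ := (Nat.dvd_prime_pow hpp).1 hdvd
  have hsum : (commutator G).index + (p ^ j) ^ 2 = Nat.card G := by
    have h1 := Characters.sum_degree_sq (G := G)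
    rw [← Finset.sum_filter_add_sum_filter_not Finset.univ
      (fun χ : Cfsg.IrrCharacter G => (χ : G → ℂ) 1 = 1),
      Finset.sum_congr rfl (g := fun _ => (1 : ℂ)) fun x hx => by
        rw [(Finset.mem_filter.1 hx).2, one_pow],
      show (Finset.univ.filter fun x : Cfsg.IrrCharacter G => ¬ (x : G → ℂ) 1 = 1) = {χ} from ?_,
      Finset.sum_singleton, Finset.sum_const, nsmul_eq_mul, mul_one, ← Fintype.card_subtype,
      ← Nat.card_eq_fintype_card, Characters.card_linear_char, hd] at h1
    · exact_mod_cast h1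
    ext x
    simp only [Finset.mem_filter, Finset.mem_univ, true_and, Finset.mem_singleton]
    exact ⟨fun h => congrArg Subtype.val (hsub.elim ⟨x, h⟩ ⟨χ, hχ⟩), fun h => h ▸ hχ⟩
  obtain ⟨m, hm⟩ := (hG.to_subgroup (commutator G)).exists_card_eq
  have hmul := Subgroup.card_mul_index (commutator G)
  rw [← hsum, hm] at hmul
  have hppos : 0 < p ^ m := pow_pos hpp.pos m
  have hsq : (p ^ m - 1) * (commutator G).index = (p ^ j) ^ 2 := by
    rw [Nat.sub_mul, one_mul]; omega
  have hone' : p ^ m - 1 = 1 := by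
    have hdiv : p ^ m - 1 ∣ p ^ (j * 2) := by rw [pow_mul]; exact ⟨_, hsq.symm⟩
    obtain ⟨i, -, hi⟩ := (Nat.dvd_prime_pow hpp).1 hdiv
    rcases Nat.eq_zero_or_pos i with rfl | hi0
    · rw [pow_zero] at hi; exact hi
    · exfalso
      rcases Nat.eq_zero_or_pos m with rfl | hm0
      · simp only [pow_zero, Nat.sub_self] at hi
        exact (pow_pos hpp.pos i).ne hi
      · have h1 : p ∣ p ^ m - 1 := hi ▸ dvd_pow_self p hi0.ne'
        have h2 := Nat.dvd_sub (dvd_pow_self p hm0.ne') h1
        rw [Nat.sub_sub_self hppos] at h2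
        exact hpp.ne_one (Nat.dvd_one.1 h2)
  have hp2 : p = 2 := by
    have h1 : p ^ m = 2 := by omega
    have hm0 : m ≠ 0 := by rintro rfl; simp at h1
    have := Nat.prime_two
    exact (Nat.prime_dvd_prime_iff_eq hpp this).1 (h1 ▸ dvd_pow_self p hm0)
  subst hp2
  have hc : Nat.card (commutator G) = 2 := by omega
  have hle : commutator G ≤ Subgroup.center G := by
    intro x hx
    refine Subgroup.mem_center_iff.2 fun g => ?_
    by_cases hx1 : x = 1
    · rw [hx1, mul_one, one_mul]
    have hconj : g * x * g⁻¹ ∈ commutator G := Subgroup.Normal.conj_mem inferInstance x hx g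
    have h3 : ({1, x} : Set G) = (commutator G : Set G) := by
      refine Set.eq_of_subset_of_ncard_le ?_ ?_ (Set.toFinite _)
      · rintro y (rfl | rfl)
        · exact one_mem _
        · exact hx
      · rw [Set.ncard_pair (Ne.symm hx1), ← Nat.card_coe_set_eq]
        exact hc.le
    have h4 : g * x * g⁻¹ ∈ ({1, x} : Set G) := h3 ▸ hconj
    rcases h4 with h4 | h4
    · exact absurd (conj_eq_one_iff.1 h4) hx1
    · exact mul_inv_eq_iff_eq_mul.1 h4
  have hz : Nat.card (Subgroup.center G) = 2 := by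
    have h1 := two_mul_card_conjClasses hc hle
    have h2 := card_nonlinear (G := G)
    rw [hone] at h2
    have h3 := Subgroup.card_mul_index (commutator G)
    rw [hc] at h3
    omega
  have heq : commutator G = Subgroup.center G :=
    Subgroup.eq_of_le_of_card_ge hle (by rw [hc, hz])
  refine ⟨rfl, ⟨hG, le_antisymm ?_ (heq.ge.trans (CfsgLib.Solvable.commutator_le_frattini hG)), heq⟩, hz⟩
  refine CfsgLib.Solvable.frattini_le_of_elementary (p := 2) hle fun a => ?_
  rw [sq]
  refine Subgroup.mem_center_iff.2 fun b => ?_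
  have hcomm : ⁅a, b⁆ ∈ commutator G :=
    Subgroup.commutator_mem_commutator (Subgroup.mem_top _) (Subgroup.mem_top _)
  set z := ⁅a, b⁆ with hz'
  have hzc : ∀ y, y * z = z * y := fun y => Subgroup.mem_center_iff.1 (hle hcomm) y
  have hz2 : z * z = 1 := by
    have h5 := pow_card_eq_one' (G := ↥(commutator G)) (x := ⟨z, hcomm⟩)
    rw [hc, sq] at h5
    exact congrArg Subtype.val h5
  have hab : a * b = z * (b * a) := by rw [hz', commutatorElement_def]; group
  calc b * (a * a) = (z * z) * (b * a * a) := by rw [hz2]; group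
    _ = z * (z * (b * a)) * a := by group
    _ = z * a * (b * a) := by rw [← hab]; group
    _ = a * (z * (b * a)) := by rw [← hzc a]; group
    _ = a * a * b := by rw [← hab]; group

theorem unique_of_extraspecial (hE : Cfsg.IsExtraspecial 2 G) :
    Nat.card {χ : Cfsg.IrrCharacter G // 2 ∣ Cfsg.charDegree (χ : G → ℂ)} = 1 := by
  obtain ⟨⟨hG, -, heq⟩, hz⟩ := hE
  rw [Nat.card_congr (Equiv.subtypeEquivRight (degree_dvd_iff hG))]
  have hc : Nat.card (commutator G) = 2 := heq ▸ hz
  have h1 := two_mul_card_conjClasses hc heq.le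
  have h2 := card_nonlinear (G := G)
  have h3 := Subgroup.card_mul_index (commutator G)
  rw [hc] at h3
  omega


/-- Let p be a prime and G a finite nilpotent group. Then G has exactly one irreducible complex character of degree divisible by p if and only if p = 2 and G is an extraspecial 2-group. -/
theorem result {G : Type*} [Group G] [Finite G] [Group.IsNilpotent G] (p : ℕ) [Fact p.Prime] : Nat.card {χ : Cfsg.IrrCharacter G // p ∣ Cfsg.charDegree (χ : G → ℂ)} = 1 ↔ (p = 2 ∧ Cfsg.IsExtraspecial 2 G) := by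
  constructor
  · intro h
    exact extraspecial_of_unique (isPGroup_of_unique h) h
  · rintro ⟨rfl, h⟩
    exact unique_of_extraspecial h

end Cfsg.Agent.S4762
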