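import Cfsg.Statements.S4763
import Cfsg.Agent.OddOrderChar.CoprimeExtension
import Cfsg.Agent.DegreeGraph.Basic
import Cfsg.Agent.CharactersDeep.Gallagher
import Cfsg.Agent.SameDegree.Basic
import Cfsg.Agent.Blocks.Height
import Cfsg.Agent.Glauberman.Correspondence
import Cfsg.Agent.Glauberman.Setting
import Cfsg.Agent.Characters.FixedPoints
import Cfsg.Agent.OddOrderChar.AbelianInertia

set_option autoImplicit false
set_option linter.style.haveILetI false
open Cfsg

namespace Cfsg.Agent.S4763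

open CfsgLib CfsgLib.OddOrderChar

universe u

variable {G : Type u} [Group G] [Fintype G] {p : ℕ} [Fact p.Prime] {N : Subgroup G} [N.Normal]
  [Fintype N]

/-- A character over a character that is not invariant has degree divisible by `p`. -/
theorem dvd_of_noninvariant (hidx : ∃ k, N.index = p ^ k) {χ : Cfsg.IrrCharacter G}
    {θ : Cfsg.IrrCharacter N}
    (hne : Cfsg.classInner (fun n : N => (χ : G → ℂ) n) (θ : N → ℂ) ≠ 0)
    {x : G} (hx : conjBy N (θ : N → ℂ) x ≠ (θ : N → ℂ)) :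
    p ∣ Cfsg.charDegree (χ : G → ℂ) := by
  let T : Subgroup G :=
    { carrier := {g | conjBy N (θ : N → ℂ) g = (θ : N → ℂ)}
      one_mem' := conjBy_one N _
      mul_mem' := fun {a c} ha hc => by
        show conjBy N (θ : N → ℂ) (a * c) = _
        rw [← conjBy_mul, show conjBy N (θ : N → ℂ) a = _ from ha]
        exact hc
      inv_mem' := fun {a} ha => by
        show conjBy N (θ : N → ℂ) a⁻¹ = _
        conv_lhs => rw [← show conjBy N (θ : N → ℂ) a = _ from ha]
        rw [conjBy_mul, mul_inv_cancel, conjBy_one] }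
  obtain ⟨m, hm⟩ := Characters.classInner_character_irr
    (Characters.isCharacter_restrict N (Characters.isCharacter_of_isIrr χ.2)) θ.2
  have hdeg := clifford_degree N χ.2 θ.2 T (fun g => Iff.rfl) hne
  rw [hm, ← Blocks.charDegree_cast, ← Blocks.charDegree_cast] at hdeg
  have hdeg' : Cfsg.charDegree (χ : G → ℂ) = m * (T.index * Cfsg.charDegree (θ : N → ℂ)) := by
    exact_mod_cast hdeg
  have hNT : N ≤ T := fun y hy => (funext fun n =>
    (congrArg (θ : N → ℂ) (Subtype.ext (by simp)) :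
      (θ : N → ℂ) _ = (θ : N → ℂ) (⟨y, hy⟩ * n * ⟨y, hy⟩⁻¹)).trans
      (Characters.isClassFunction_of_isIrr θ.2 n ⟨y, hy⟩))
  obtain ⟨k, hk⟩ := hidx
  obtain ⟨i, -, hi⟩ := (Nat.dvd_prime_pow (Fact.out : p.Prime)).1
    (hk ▸ Subgroup.index_dvd_of_le hNT)
  have hi0 : i ≠ 0 := fun h0 => by
    rw [h0, pow_zero, Subgroup.index_eq_one] at hi
    exact hx (show x ∈ T from hi ▸ Subgroup.mem_top x)
  rw [hdeg', hi]
  exact dvd_mul_of_dvd_right (dvd_mul_of_dvd_left (dvd_pow_self p hi0) _) _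

/-- An invariant character has a character over it of degree divisible by `p` when the quotient
is not abelian. -/
theorem exists_dvd_over_invariant (hidx : ∃ k, N.index = p ^ k)
    (hab : ¬ ∀ x y : G, x * y * x⁻¹ * y⁻¹ ∈ N) {θ : Cfsg.IrrCharacter N} :
    ∃ χ : Cfsg.IrrCharacter G, Cfsg.classInner (fun n : N => (χ : G → ℂ) n) (θ : N → ℂ) ≠ 0 ∧
      p ∣ Cfsg.charDegree (χ : G → ℂ) := by
  classical
  haveI := Fintype.ofFinite (G ⧸ N)
  obtain ⟨k, hk⟩ := hidx
  have hind := Characters.isCharacter_indFun N (Characters.isCharacter_of_isIrr θ.2)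
  have hind0 : Cfsg.indFun N (θ : N → ℂ) ≠ 0 := fun h => by
    have h1 := congrFun h 1
    rw [Characters.indFun_one] at h1
    exact mul_ne_zero (Nat.cast_ne_zero.2 N.index_ne_zero_of_finite)
      (Characters.irr_one_ne_zero θ.2) h1
  obtain ⟨χ, hχ, hne'⟩ := OddOrderChar.exists_constituent hind hind0
  have hne : Cfsg.classInner (fun n : N => χ n) (θ : N → ℂ) ≠ 0 := fun h => hne' (by
    rw [classInner_indFun_left N _ (Characters.isClassFunction_of_isIrr hχ),
      Characters.classInner_conj_symm, h, map_zero])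
  obtain ⟨c, -, hc⟩ := Characters.exists_degree_pos hχ
  obtain ⟨d, e, hd, rfl, he, hd0⟩ := DegreeGraph.exists_ratio N hχ θ.2 hne hc
  obtain ⟨i, -, rfl⟩ := (Nat.dvd_prime_pow (Fact.out : p.Prime)).1 (hk ▸ he)
  rcases Nat.eq_zero_or_pos i with rfl | hi
  · have hres : (fun n : N => χ n) = (θ : N → ℂ) :=
      OddOrderChar.eq_irr_of_degree_le (Characters.isCharacter_restrict N
        (Characters.isCharacter_of_isIrr hχ)) θ.2 hne (by
          show ((χ ((1 : N) : G)) : ℂ).re ≤ ((θ : N → ℂ) 1).re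
          rw [OneMemClass.coe_one, hc, hd, pow_zero, mul_one])
    have hcomm : commutator (G ⧸ N) ≠ ⊥ := fun h => hab fun x y => by
      rw [← QuotientGroup.eq_one_iff, ← Subgroup.mem_bot, ← h]
      exact Subgroup.commutator_mem_commutator (Subgroup.mem_top (x : G ⧸ N))
        (Subgroup.mem_top (y : G ⧸ N))
    obtain ⟨β, hβ⟩ := SameDegree.exists_nonlinear hcomm
    have hresIrr : Cfsg.IsIrrCharacter N fun n : N => χ n := by rw [hres]; exact θ.2
    refine ⟨⟨_, CharactersDeep.Gallagher.isIrr_prodInfl N hχ hresIrr β.2⟩, ?_, ?_⟩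
    · show Cfsg.classInner (fun n : N => CharactersDeep.Gallagher.prodInfl N χ (β : G ⧸ N → ℂ) n)
        (θ : N → ℂ) ≠ 0
      rw [← hres, CharactersDeep.Gallagher.classInner_restrict_prodInfl N hχ hresIrr]
      exact Characters.irr_one_ne_zero β.2
    · obtain ⟨j, -, hj⟩ := (Nat.dvd_prime_pow (Fact.out : p.Prime)).1
        (hk ▸ (Subgroup.index_eq_card N ▸ Blocks.charDegree_dvd_card β :
          Cfsg.charDegree (β : G ⧸ N → ℂ) ∣ N.index))
      have hj0 : j ≠ 0 := fun h0 => hβ (by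
        rw [← Blocks.charDegree_cast, hj, h0, pow_zero, Nat.cast_one])
      rw [DegreeGraph.charDegree_eq (d := d * p ^ j) (by
        simp only [CharactersDeep.Gallagher.prodInfl, hc, QuotientGroup.mk_one]
        rw [← Blocks.charDegree_cast, hj, pow_zero, mul_one]
        push_cast; ring)]
      exact dvd_mul_of_dvd_right (dvd_pow_self p hj0) _
  · refine ⟨⟨χ, hχ⟩, hne, ?_⟩
    rw [DegreeGraph.charDegree_eq (χ := χ) hc]
    exact dvd_mul_of_dvd_right (dvd_pow_self p hi.ne') _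

/-- For an abelian quotient of coprime order a character whose constituent is invariant has
degree prime to `p`. -/
theorem not_dvd_of_invariant (hN : (Nat.card N).Coprime p) (hidx : ∃ k, N.index = p ^ k)
    (hab : ∀ x y : G, x * y * x⁻¹ * y⁻¹ ∈ N) {χ : Cfsg.IrrCharacter G} {θ : Cfsg.IrrCharacter N}
    (hne : Cfsg.classInner (fun n : N => (χ : G → ℂ) n) (θ : N → ℂ) ≠ 0)
    (hinv : ∀ g, conjBy N (θ : N → ℂ) g = (θ : N → ℂ)) :
    ¬ p ∣ Cfsg.charDegree (χ : G → ℂ) := by
  classical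
  haveI := Fintype.ofFinite (G ⧸ N)
  obtain ⟨k, hk⟩ := hidx
  obtain ⟨ξ, hξ, hres⟩ := exists_extension_of_coprime N θ.2 hinv hab (hk ▸ hN.pow_right k)
  have hres' : Cfsg.IsIrrCharacter N fun n : N => ξ n := by rw [hres]; exact θ.2
  obtain ⟨β, hβ, hχ⟩ := CharactersDeep.Gallagher.exists_eq_prodInfl N hξ hres' χ.2
    (by rw [hres]; exact hne)
  have hcomm : ∀ a b : G ⧸ N, a * b = b * a := fun a b => by
    obtain ⟨x, rfl⟩ := QuotientGroup.mk_surjective a
    obtain ⟨y, rfl⟩ := QuotientGroup.mk_surjective b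
    rw [← QuotientGroup.mk_mul, ← QuotientGroup.mk_mul, QuotientGroup.eq_iff_div_mem,
      div_eq_mul_inv, mul_inv_rev, ← mul_assoc]
    exact hab x y
  have hβ1 : β 1 = 1 := OddOrderChar.irr_degree_one_of_comm hcomm ⟨β, hβ⟩
  have hdeg : Cfsg.charDegree (χ : G → ℂ) = Cfsg.charDegree (θ : N → ℂ) := by
    refine Nat.cast_injective (R := ℂ) ?_
    rw [Blocks.charDegree_cast, Blocks.charDegree_cast, hχ, ← hres]
    simp [CharactersDeep.Gallagher.prodInfl, hβ1]
  rw [hdeg]
  intro hd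
  exact (Fact.out : p.Prime).not_dvd_one (hN ▸ Nat.dvd_gcd
    (hd.trans (Blocks.charDegree_dvd_card θ)) dvd_rfl)

/-- With only one character of degree divisible by `p` the inertia groups of the characters that
are not invariant equal `N`. -/
theorem stabilizer_le (hN : (Nat.card N).Coprime p) (hidx : ∃ k, N.index = p ^ k)
    (hab : ∀ x y : G, x * y * x⁻¹ * y⁻¹ ∈ N)
    (huniq : ∀ χ χ' : Cfsg.IrrCharacter G, p ∣ Cfsg.charDegree (χ : G → ℂ) →
      p ∣ Cfsg.charDegree (χ' : G → ℂ) → χ = χ')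
    {θ : Cfsg.IrrCharacter N} {x : G} (hx : conjBy N (θ : N → ℂ) x ≠ (θ : N → ℂ)) {g : G}
    (hg : conjBy N (θ : N → ℂ) g = (θ : N → ℂ)) : g ∈ N := by
  classical
  let T : Subgroup G :=
    { carrier := {g | conjBy N (θ : N → ℂ) g = (θ : N → ℂ)}
      one_mem' := conjBy_one N _
      mul_mem' := fun {a c} ha hc => by
        show conjBy N (θ : N → ℂ) (a * c) = _
        rw [← conjBy_mul, show conjBy N (θ : N → ℂ) a = _ from ha]
        exact hc
      inv_mem' := fun {a} ha => by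
        show conjBy N (θ : N → ℂ) a⁻¹ = _
        conv_lhs => rw [← show conjBy N (θ : N → ℂ) a = _ from ha]
        rw [conjBy_mul, mul_inv_cancel, conjBy_one] }
  have hT : ∀ g, g ∈ T ↔ conjBy N (θ : N → ℂ) g = (θ : N → ℂ) := fun g => Iff.rfl
  haveI := Fintype.ofFinite T
  haveI := Fintype.ofFinite (N.subgroupOf T)
  haveI := Fintype.ofFinite (T ⧸ N.subgroupOf T)
  have hNT := inertia_le N (Characters.isClassFunction_of_isIrr θ.2) T hT
  by_contra hgN
  obtain ⟨k, hk⟩ := hidx
  have hidx' : (N.subgroupOf T).index ∣ p ^ k := by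
    rw [← hk]; exact Subgroup.relIndex_dvd_index_of_normal N T
  have hcop : Nat.Coprime (Nat.card (N.subgroupOf T)) (N.subgroupOf T).index := by
    rw [Nat.card_congr (Subgroup.subgroupOfEquivOfLe hNT).toEquiv]
    exact (hN.pow_right k).coprime_dvd_right hidx'
  have hθ' := isIrr_onSubgroupOf N T hNT θ.2
  have habT : ∀ a b : T, a * b * a⁻¹ * b⁻¹ ∈ N.subgroupOf T := fun a b => by
    rw [Subgroup.mem_subgroupOf]; push_cast; exact hab a b
  obtain ⟨ξ, hξ, hres⟩ := exists_extension_of_coprime (N.subgroupOf T) hθ'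
    (onSubgroupOf_invariant N T hT) habT hcop
  have hres' : Cfsg.IsIrrCharacter (N.subgroupOf T) fun n : N.subgroupOf T => ξ n := by
    rw [hres]; exact hθ'
  have hnt : (⟨g, hg⟩ : T) ∉ N.subgroupOf T := fun h => hgN (Subgroup.mem_subgroupOf.1 h)
  obtain ⟨β, hβ⟩ := SameDegree.exists_irr_ne (G := T ⧸ N.subgroupOf T)
    (c := ((⟨g, hg⟩ : T) : T ⧸ N.subgroupOf T)) (fun h => hnt ((QuotientGroup.eq_one_iff _).1 h))
  set ξ' := CharactersDeep.Gallagher.prodInfl (N.subgroupOf T) ξ (β : T ⧸ N.subgroupOf T → ℂ)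
    with hξ'def
  have hξ' : Cfsg.IsIrrCharacter T ξ' :=
    CharactersDeep.Gallagher.isIrr_prodInfl (N.subgroupOf T) hξ hres' β.2
  have hne1 : Cfsg.classInner (fun y : N.subgroupOf T => ξ y) (onSubgroupOf N T (θ : N → ℂ)) ≠ 0 := by
    rw [hres, Characters.classInner_isIrr_self hθ']; exact one_ne_zero
  have hne2 : Cfsg.classInner (fun y : N.subgroupOf T => ξ' y) (onSubgroupOf N T (θ : N → ℂ)) ≠ 0 := by
    rw [← hres, hξ'def, CharactersDeep.Gallagher.classInner_restrict_prodInfl (N.subgroupOf T)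
      hξ hres']
    exact Characters.irr_one_ne_zero β.2
  obtain ⟨hA, hAm, hAu⟩ := clifford_correspondence N T θ.2 hT hξ hne1
  obtain ⟨hB, hBm, -⟩ := clifford_correspondence N T θ.2 hT hξ' hne2
  have heq := congrArg Subtype.val (huniq ⟨_, hA⟩ ⟨_, hB⟩
    (dvd_of_noninvariant ⟨k, hk⟩ (by rw [hAm]; exact hne1) hx)
    (dvd_of_noninvariant ⟨k, hk⟩ (by rw [hBm]; exact hne2) hx))
  have h3 : ξ' = ξ := hAu ξ' hξ' hne2 heq.symm
  apply hβ
  have hξ1 : ξ 1 ≠ 0 := Characters.irr_one_ne_zero hξ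
  have hone : CharactersDeep.Gallagher.prodInfl (N.subgroupOf T) ξ
      (fun _ : T ⧸ N.subgroupOf T => (1 : ℂ)) = ξ := by
    funext y; simp [CharactersDeep.Gallagher.prodInfl]
  have h4 := CharactersDeep.Gallagher.prodInfl_injective (N.subgroupOf T) hξ hres' β.2
    Characters.isIrr_one (by rw [hone, ← hξ'def, h3])
  rw [h4]

/-- The P-fixed characters of a coprime group are as many as the P-fixed classes. -/
theorem card_fixed_eq (P : Subgroup G) (hP : IsPGroup p P) (hcop : ¬ p ∣ Nat.card N) :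
    Nat.card {θ : Cfsg.IrrCharacter N // ∀ x ∈ P, conjBy N (θ : N → ℂ) x = (θ : N → ℂ)} =
      Nat.card {C : ConjClasses N //
        ∀ x ∈ P, ConjClasses.map (MulAut.conjNormal (H := N) x).toMonoidHom C = C} := by
  classical
  have hnorm : ∀ s ∈ P, ∀ g ∈ N, s * g * s⁻¹ ∈ N := fun s _ g hg =>
    Subgroup.Normal.conj_mem inferInstance g hg s
  letI := Glauberman.conjAction N P hnorm
  have hs : ∀ (s : P) (n : N), s • n = MulAut.conjNormal (H := N) (s : G) n := fun s n =>
    Subtype.ext (MulAut.conjNormal_apply (H := N) (s : G) n).symm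
  set C := (N ⊓ Subgroup.centralizer (P : Set G)).subgroupOf N
  have hC : ∀ g, g ∈ C ↔ ∀ s : P, s • g = g :=
    fun g => Glauberman.mem_centralizer_iff_fixed N P hnorm _ rfl g
  haveI := Fintype.ofFinite C
  have hinv : ∀ θ : Cfsg.IrrCharacter N, Glauberman.IsInv P (θ : N → ℂ) ↔
      ∀ x ∈ P, conjBy N (θ : N → ℂ) x = (θ : N → ℂ) := by
    intro θ
    rw [Glauberman.isInv_conjAction_iff]
    exact ⟨fun h x hx => funext fun n => h x hx n _ rfl, fun h x hx n n' hn => by
      conv_rhs => rw [← h x hx]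
      exact congrArg (θ : N → ℂ) (Subtype.ext hn)⟩
  have h1 : Nat.card {θ : Cfsg.IrrCharacter N // ∀ x ∈ P, conjBy N (θ : N → ℂ) x = (θ : N → ℂ)} =
      Nat.card (Cfsg.IrrCharacter C) := by
    choose f hf hu using fun θ : {θ : Cfsg.IrrCharacter N //
        ∀ x ∈ P, conjBy N (θ : N → ℂ) x = (θ : N → ℂ)} =>
      Glauberman.existsUnique_rel hP hcop C hC ((hinv θ.1).2 θ.2)
    refine Nat.card_congr (Equiv.ofBijective f ⟨fun a b h => Subtype.ext ?_, fun β => ?_⟩)
    · exact Glauberman.rel_left_unique hP hcop C hC ((hinv a.1).2 a.2) ((hinv b.1).2 b.2)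
        (hf a) (h ▸ hf b)
    · obtain ⟨θ, hθ, hrel⟩ := Glauberman.exists_rel_left hP hcop C hC β
      exact ⟨⟨θ, (hinv θ).1 hθ⟩, (hu ⟨θ, (hinv θ).1 hθ⟩ β hrel).symm⟩
  rw [h1, Characters.card_irrCharacter]
  refine Nat.card_congr (Equiv.ofBijective
    (fun K => ⟨ConjClasses.map C.subtype K, fun x hx => ?_⟩) ⟨?_, ?_⟩)
  · obtain ⟨c, rfl⟩ := ConjClasses.mk_surjective K
    refine congrArg ConjClasses.mk ?_
    have := (hC _).1 c.2 ⟨x, hx⟩
    rwa [hs] at this
  · intro a b h
    obtain ⟨c, rfl⟩ := ConjClasses.mk_surjective a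
    obtain ⟨c', rfl⟩ := ConjClasses.mk_surjective b
    exact ConjClasses.mk_eq_mk_iff_isConj.2 (Glauberman.isConj_fixed hP hcop C hC
      (ConjClasses.mk_eq_mk_iff_isConj.1 (congrArg Subtype.val h)))
  · rintro ⟨K, hK⟩
    obtain ⟨g, rfl⟩ := ConjClasses.mk_surjective K
    obtain ⟨c, hc⟩ := Glauberman.exists_fixed_isConj hP hcop C hC (g := g) fun s => by
      rw [hs]
      exact (ConjClasses.mk_eq_mk_iff_isConj.1 (hK s s.2)).symm
    exact ⟨ConjClasses.mk c, Subtype.ext (ConjClasses.mk_eq_mk_iff_isConj.2 hc.symm)⟩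


/-- Let p be a prime and G a finite group that is not nilpotent and has a normal p-complement (a normal subgroup of order prime to p and index a power of p). If G has exactly one irreducible complex character of degree divisible by p, then G has exactly one conjugacy class whose size is divisible by p. -/
theorem result {G : Type*} [Group G] [Finite G] (p : ℕ) [Fact p.Prime] (hnil : ¬ Group.IsNilpotent G) (N : Subgroup G) [N.Normal] (hN : (Nat.card N).Coprime p) (hidx : ∃ k : ℕ, N.index = p ^ k) (hone : Nat.card {χ : Cfsg.IrrCharacter G // p ∣ Cfsg.charDegree (χ : G → ℂ)} = 1) : Nat.card {C : ConjClasses G // p ∣ Nat.card C.carrier} = 1 := by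

  classical
  haveI := Fintype.ofFinite G
  haveI := Fintype.ofFinite N
  haveI := Fintype.ofFinite (G ⧸ N)
  obtain ⟨k, hk⟩ := hidx
  have hcop : ¬ p ∣ Nat.card N := fun hd =>
    (Fact.out : p.Prime).not_dvd_one (hN ▸ Nat.dvd_gcd hd dvd_rfl)
  haveI hsub : Subsingleton {χ : Cfsg.IrrCharacter G // p ∣ Cfsg.charDegree (χ : G → ℂ)} :=
    (Nat.card_eq_one_iff_unique.1 hone).1
  obtain ⟨⟨χ₀, hχ₀⟩⟩ := (Nat.card_eq_one_iff_unique.1 hone).2
  have huniq : ∀ χ χ' : Cfsg.IrrCharacter G, p ∣ Cfsg.charDegree (χ : G → ℂ) →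
      p ∣ Cfsg.charDegree (χ' : G → ℂ) → χ = χ' := fun χ χ' h h' =>
    congrArg Subtype.val (hsub.elim ⟨χ, h⟩ ⟨χ', h'⟩)
  have hNbot : N ≠ ⊥ := by
    rintro rfl
    rw [Subgroup.index_bot] at hk
    exact hnil (IsPGroup.isNilpotent (IsPGroup.of_card hk))
  have hab : ∀ x y : G, x * y * x⁻¹ * y⁻¹ ∈ N := by
    by_contra hna
    obtain ⟨n, hnN, hn1⟩ := (Subgroup.bot_or_exists_ne_one N).resolve_left hNbot
    obtain ⟨θ, hθ⟩ := SameDegree.exists_irr_ne (G := N) (c := ⟨n, hnN⟩)
      (fun h => hn1 (congrArg Subtype.val h))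
    have hover : ∀ θ : Cfsg.IrrCharacter N, ∃ χ : Cfsg.IrrCharacter G,
        Cfsg.classInner (fun n : N => (χ : G → ℂ) n) (θ : N → ℂ) ≠ 0 ∧
          p ∣ Cfsg.charDegree (χ : G → ℂ) := fun θ => exists_dvd_over_invariant ⟨k, hk⟩ hna
    obtain ⟨χ₁, h1, h1d⟩ := hover θ
    obtain ⟨χ₂, h2, h2d⟩ := hover ⟨fun _ => 1, Characters.isIrr_one⟩
    obtain rfl := huniq χ₁ χ₂ h1d h2d
    have hres := clifford_restrict N χ₁.2 Characters.isIrr_one h2
    rw [hres, Characters.classInner_smul_left, Characters.classInner_sum_left] at h1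
    refine h1 (mul_eq_zero_of_right _ (Finset.sum_eq_zero fun ψ hψ => ?_))
    obtain ⟨g, rfl⟩ := (mem_conjOrbit N).1 hψ
    exact Characters.classInner_isIrr_ne (isIrr_conjBy N Characters.isIrr_one g) θ.2
      fun he => hθ (by rw [← he]; rfl)
  obtain ⟨S⟩ : Nonempty (Sylow p G) := inferInstance
  set P : Subgroup G := (S : Subgroup G)
  have hP : IsPGroup p P := S.2
  have hNP : N ⊓ P = ⊥ := by
    obtain ⟨j, hj⟩ := IsPGroup.iff_card.1 hP
    exact Subgroup.inf_eq_bot_of_coprime (hj ▸ hN.pow_right j)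
  have hPab : ∀ u ∈ P, ∀ v ∈ P, u * v = v * u := fun u hu v hv => by
    have h : u * v * u⁻¹ * v⁻¹ ∈ N ⊓ P :=
      ⟨hab u v, P.mul_mem (P.mul_mem (P.mul_mem hu hv) (P.inv_mem hu)) (P.inv_mem hv)⟩
    rw [hNP, Subgroup.mem_bot] at h
    calc u * v = u * v * u⁻¹ * v⁻¹ * (v * u) := by group
      _ = v * u := by rw [h, one_mul]
  have hsup : N ⊔ P = ⊤ := by
    refine Subgroup.eq_top_of_card_eq _ (Nat.dvd_antisymm (Subgroup.card_subgroup_dvd_card _) ?_)
    rw [← N.card_mul_index, hk]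
    refine Nat.Coprime.mul_dvd_of_dvd_of_dvd (hN.pow_right k)
      (Subgroup.card_dvd_of_le le_sup_left) ?_
    refine dvd_trans ?_ (Subgroup.card_dvd_of_le (le_sup_right : P ≤ N ⊔ P))
    rw [Sylow.card_eq_multiplicity]
    exact pow_dvd_pow p (((Fact.out : p.Prime).pow_dvd_iff_le_factorization Nat.card_pos.ne').1
      ⟨Nat.card N, by rw [← hk, mul_comm, Subgroup.card_mul_index]⟩)
  have hdec : ∀ g : G, ∃ n ∈ N, ∃ u ∈ P, n * u = g := fun g => by
    have h : g ∈ ((N ⊔ P : Subgroup G) : Set G) := by rw [hsup]; exact Set.mem_univ g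
    rw [Subgroup.normal_mul] at h
    exact Set.mem_mul.1 h
  have hNθ : ∀ (θ : Cfsg.IrrCharacter N) (n : G), n ∈ N → conjBy N (θ : N → ℂ) n = (θ : N → ℂ) :=
    fun θ n hn => funext fun y => (congrArg (θ : N → ℂ) (Subtype.ext (by simp)) :
      (θ : N → ℂ) _ = (θ : N → ℂ) (⟨n, hn⟩ * y * ⟨n, hn⟩⁻¹)).trans
      (Characters.isClassFunction_of_isIrr θ.2 y ⟨n, hn⟩)
  set fixI := fun θ : Cfsg.IrrCharacter N => ∀ x ∈ P, conjBy N (θ : N → ℂ) x = (θ : N → ℂ)
    with hfixI
  have hfix_all : ∀ θ, fixI θ → ∀ g, conjBy N (θ : N → ℂ) g = (θ : N → ℂ) := fun θ h g => by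
    obtain ⟨n, hn, u, hu, rfl⟩ := hdec g
    rw [← conjBy_mul, hNθ θ n hn, h u hu]
  obtain ⟨θ₀, hθ₀', hθ₀'c⟩ := DegreeGraph.exists_under N χ₀.2
  set θ₁ : Cfsg.IrrCharacter N := ⟨θ₀, hθ₀'⟩
  have hθ₁ : ¬ fixI θ₁ := fun h => not_dvd_of_invariant hN ⟨k, hk⟩ hab (θ := θ₁) hθ₀'c
    (hfix_all θ₁ h) hχ₀
  have hovernon : ∀ θ, ¬ fixI θ →
      Cfsg.classInner (fun n : N => (χ₀ : G → ℂ) n) (θ : N → ℂ) ≠ 0 := by
    intro θ hθ
    rw [hfixI] at hθ
    push Not at hθ
    obtain ⟨x, -, hx⟩ := hθ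
    have hind := Characters.isCharacter_indFun N (Characters.isCharacter_of_isIrr θ.2)
    have hind0 : Cfsg.indFun N (θ : N → ℂ) ≠ 0 := fun h => by
      have h1 := congrFun h 1
      rw [Characters.indFun_one] at h1
      exact mul_ne_zero (Nat.cast_ne_zero.2 N.index_ne_zero_of_finite)
        (Characters.irr_one_ne_zero θ.2) h1
    obtain ⟨χ, hχ, hne'⟩ := OddOrderChar.exists_constituent hind hind0
    have hne : Cfsg.classInner (fun n : N => χ n) (θ : N → ℂ) ≠ 0 := fun h => hne' (by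
      rw [classInner_indFun_left N _ (Characters.isClassFunction_of_isIrr hχ),
        Characters.classInner_conj_symm, h, map_zero])
    have := huniq ⟨χ, hχ⟩ χ₀ (dvd_of_noninvariant ⟨k, hk⟩ (χ := ⟨χ, hχ⟩) hne hx) hχ₀
    rw [← this]
    exact hne
  have hstab : ∀ θ, ¬ fixI θ → ∀ x ∈ P, conjBy N (θ : N → ℂ) x = (θ : N → ℂ) → x = 1 := by
    intro θ hθ x hx he
    rw [hfixI] at hθ
    push Not at hθ
    obtain ⟨y, -, hy⟩ := hθ
    have h : x ∈ N ⊓ P := ⟨stabilizer_le hN ⟨k, hk⟩ hab huniq hy he, hx⟩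
    rwa [hNP, Subgroup.mem_bot] at h
  have hnonfix : Nat.card {θ : Cfsg.IrrCharacter N // ¬ fixI θ} = Nat.card P := by
    symm
    have hmem : ∀ u : P, ¬ fixI ⟨_, isIrr_conjBy N θ₁.2 (u : G)⟩ := fun u h => hθ₁ fun x hx => by
      have h1 : conjBy N (conjBy N (θ₁ : N → ℂ) (u : G)) x = conjBy N (θ₁ : N → ℂ) (u : G) :=
        h x hx
      rw [conjBy_mul, hPab u u.2 x hx, ← conjBy_mul] at h1
      have h2 := congrArg (fun f => conjBy N f ((u : G)⁻¹)) h1
      simpa [conjBy_mul, mul_assoc, conjBy_one] using h2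
    refine Nat.card_congr (Equiv.ofBijective
      (fun u : P => (⟨⟨_, isIrr_conjBy N θ₁.2 (u : G)⟩, hmem u⟩ :
        {θ : Cfsg.IrrCharacter N // ¬ fixI θ})) ⟨fun a b h => ?_, fun θ => ?_⟩)
    · have h1 : conjBy N (θ₁ : N → ℂ) (a : G) = conjBy N (θ₁ : N → ℂ) (b : G) :=
        congrArg (fun t : {θ : Cfsg.IrrCharacter N // ¬ fixI θ} => (t.1 : N → ℂ)) h
      have h2 : conjBy N (θ₁ : N → ℂ) ((a : G) * (b : G)⁻¹) = (θ₁ : N → ℂ) := by
        rw [← conjBy_mul, h1, conjBy_mul, mul_inv_cancel, conjBy_one]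
      exact Subtype.ext (mul_inv_eq_one.1 (hstab θ₁ hθ₁ _ (P.mul_mem a.2 (P.inv_mem b.2)) h2))
    · obtain ⟨θ, hθ⟩ := θ
      have hne := hovernon θ hθ
      rw [clifford_restrict N χ₀.2 θ₁.2 hθ₀'c, Characters.classInner_smul_left,
        Characters.classInner_sum_left] at hne
      obtain ⟨ψ, hψ, hψne⟩ := Finset.exists_ne_zero_of_sum_ne_zero (right_ne_zero_of_mul hne)
      obtain ⟨g, rfl⟩ := (mem_conjOrbit N).1 hψ
      obtain ⟨n, hn, u, hu, rfl⟩ := hdec g
      rw [← conjBy_mul, hNθ θ₁ n hn] at hψne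
      refine ⟨⟨u, hu⟩, Subtype.ext (Subtype.ext ?_)⟩
      by_contra hne'
      exact hψne (Characters.classInner_isIrr_ne (isIrr_conjBy N θ₁.2 u) θ.2 hne')
  set fixC := fun C : ConjClasses N =>
    ∀ x ∈ P, ConjClasses.map (MulAut.conjNormal (H := N) x).toMonoidHom C = C with hfixC
  have hfc : Nat.card {θ // fixI θ} = Nat.card {C // fixC C} := card_fixed_eq P hP hcop
  have hsame : ∀ x ∈ P, x ≠ 1 → ∀ C : ConjClasses N,
      ConjClasses.map (MulAut.conjNormal (H := N) x).toMonoidHom C = C → fixC C := by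
    intro x hx hx1
    have h1 := Characters.card_fixed_irr_mulEquiv (MulAut.conjNormal (H := N) x : N ≃* N)
    have h2 : Nat.card {θ : Cfsg.IrrCharacter N //
        (θ : N → ℂ) ∘ (MulAut.conjNormal (H := N) x : N ≃* N) = (θ : N → ℂ)} =
        Nat.card {θ // fixI θ} := by
      refine Nat.card_congr (Equiv.subtypeEquivRight fun θ => ?_)
      rw [show (θ : N → ℂ) ∘ (MulAut.conjNormal (H := N) x : N ≃* N) =
        conjBy N (θ : N → ℂ) x from (conjBy_eq_comp N (θ : N → ℂ) x).symm]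
      refine ⟨fun h => ?_, fun h => h x hx⟩
      by_contra hn
      exact hx1 (hstab θ hn x hx h)
    rw [h2, hfc] at h1
    intro C hC
    by_contra hn
    have hlt : Nat.card {C // fixC C} < Nat.card {C : ConjClasses N //
        ConjClasses.map (MulAut.conjNormal (H := N) x).toMonoidHom C = C} := by
      rw [Nat.card_eq_fintype_card, Nat.card_eq_fintype_card, Fintype.card_subtype,
        Fintype.card_subtype]
      refine Finset.card_lt_card ((Finset.ssubset_iff_of_subset fun D hD => ?_).2 ⟨C, ?_, ?_⟩)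
      · simp only [Finset.mem_filter, Finset.mem_univ, true_and] at hD ⊢
        exact hD x hx
      · simp only [Finset.mem_filter, Finset.mem_univ, true_and]
        exact hC
      · simpa using hn
    exact hlt.ne h1.symm
  have hnonC : Nat.card {C // ¬ fixC C} = Nat.card P := by
    have h1 := Nat.card_congr (Equiv.sumCompl fixI)
    have h2 := Nat.card_congr (Equiv.sumCompl fixC)
    rw [Nat.card_sum] at h1 h2
    have h3 := Characters.card_irrCharacter (G := N)
    omega
  have hact : ∀ (x y : G) (C : ConjClasses N),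
      ConjClasses.map (MulAut.conjNormal (H := N) x).toMonoidHom
        (ConjClasses.map (MulAut.conjNormal (H := N) y).toMonoidHom C) =
      ConjClasses.map (MulAut.conjNormal (H := N) (x * y)).toMonoidHom C := by
    intro x y C
    obtain ⟨n, rfl⟩ := ConjClasses.mk_surjective C
    exact congrArg ConjClasses.mk (by rw [map_mul]; rfl)
  have hone' : ∀ C : ConjClasses N,
      ConjClasses.map (MulAut.conjNormal (H := N) (1 : G)).toMonoidHom C = C := fun C => by
    obtain ⟨n, rfl⟩ := ConjClasses.mk_surjective C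
    exact congrArg ConjClasses.mk (by rw [map_one]; rfl)
  obtain ⟨⟨C₀, hC₀⟩⟩ : Nonempty {C // ¬ fixC C} := by
    rw [← not_isEmpty_iff]
    intro h
    rw [Nat.card_eq_zero.2 (Or.inl h)] at hnonC
    exact Nat.card_pos.ne hnonC
  have horbit : ∀ C, ¬ fixC C →
      ∃ x ∈ P, ConjClasses.map (MulAut.conjNormal (H := N) x).toMonoidHom C₀ = C := by
    have hmem : ∀ u : P,
        ¬ fixC (ConjClasses.map (MulAut.conjNormal (H := N) (u : G)).toMonoidHom C₀) := by
      intro u h
      refine hC₀ fun x hx => ?_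
      have h1 := h x hx
      rw [hact, ← hPab u u.2 x hx, ← hact] at h1
      have h2 := congrArg
        (ConjClasses.map (MulAut.conjNormal (H := N) ((u : G)⁻¹)).toMonoidHom) h1
      simp only [hact, inv_mul_cancel, hone', inv_mul_cancel_left] at h2
      exact h2
    let F : P → {C // ¬ fixC C} := fun u => ⟨_, hmem u⟩
    have hFinj : Function.Injective F := fun a b h => by
      have h1 := congrArg (ConjClasses.map (MulAut.conjNormal (H := N) ((b : G)⁻¹)).toMonoidHom)
        (congrArg Subtype.val h)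
      simp only [F, hact, inv_mul_cancel, hone'] at h1
      by_contra hne
      exact hC₀ (hsame _ (P.mul_mem (P.inv_mem b.2) a.2)
        (fun h0 => hne (Subtype.ext (inv_mul_eq_one.1 h0).symm)) C₀ h1)
    intro C hC
    have hbij : Function.Bijective F :=
      (Nat.bijective_iff_injective_and_card F).2 ⟨hFinj, hnonC.symm⟩
    obtain ⟨u, hu⟩ := hbij.2 ⟨C, hC⟩
    exact ⟨u, u.2, congrArg Subtype.val hu⟩
  have hcrit : ∀ g : G, ¬ p ∣ (Subgroup.centralizer ({g} : Set G)).index ↔
      ∀ v ∈ P, ∃ n ∈ N, n * v ∈ Subgroup.centralizer ({g} : Set G) := by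
    intro g
    set Cg := Subgroup.centralizer ({g} : Set G)
    constructor
    · intro hd v hv
      have hdvd1 : (Cg ⊔ N).index ∣ Cg.index := Subgroup.index_dvd_of_le le_sup_left
      have hdvd2 : (Cg ⊔ N).index ∣ p ^ k := hk ▸ Subgroup.index_dvd_of_le le_sup_right
      obtain ⟨i, -, hi⟩ := (Nat.dvd_prime_pow (Fact.out : p.Prime)).1 hdvd2
      have htop : Cg ⊔ N = ⊤ := by
        rw [← Subgroup.index_eq_one, hi]
        rcases Nat.eq_zero_or_pos i with rfl | hpos
        · rfl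
        · exact absurd ((dvd_pow_self p hpos.ne').trans (hi ▸ hdvd1)) hd
      have hv' : v ∈ ((N ⊔ Cg : Subgroup G) : Set G) := by
        rw [sup_comm, htop]; exact Set.mem_univ v
      rw [Subgroup.normal_mul] at hv'
      obtain ⟨n, hn, c, hc, rfl⟩ := Set.mem_mul.1 hv'
      exact ⟨n⁻¹, N.inv_mem hn, by rwa [inv_mul_cancel_left]⟩
    · intro h hd
      have htop : Cg ⊔ N = ⊤ := by
        refine top_unique fun y _ => ?_
        obtain ⟨n, hn, v, hv, rfl⟩ := hdec y
        obtain ⟨m, hm, hmv⟩ := h v hv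
        rw [show n * v = n * m⁻¹ * (m * v) by group]
        exact Subgroup.mul_mem _ (Subgroup.mem_sup_right (N.mul_mem hn (N.inv_mem hm)))
          (Subgroup.mem_sup_left hmv)
      have h1 : N.relIndex Cg = N.index := by
        rw [← Subgroup.relIndex_sup_right (H := Cg) (K := N), htop, Subgroup.relIndex_top_right]
      have h2 : Nat.card (N.subgroupOf Cg) * N.relIndex Cg = Nat.card Cg :=
        Subgroup.card_mul_index _
      have h3 : Cg.index * Nat.card (N.subgroupOf Cg) * N.index = Nat.card N * N.index := by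
        rw [mul_assoc]
        nth_rw 1 [← h1]
        rw [h2, mul_comm, Subgroup.card_mul_index, Subgroup.card_mul_index]
      exact hcop (hd.trans ⟨_, (Nat.eq_of_mul_eq_mul_right
        (Nat.pos_of_ne_zero N.index_ne_zero_of_finite) h3).symm⟩)
  have hcritN : ∀ n : N, (¬ p ∣ (Subgroup.centralizer ({(n : G)} : Set G)).index) ↔
      fixC (ConjClasses.mk n) := by
    intro n
    rw [hcrit]
    constructor
    · intro h x hx
      obtain ⟨m, hm, hmx⟩ := h x hx
      refine ConjClasses.mk_eq_mk_iff_isConj.2 (isConj_iff.2 ⟨⟨m, hm⟩, Subtype.ext ?_⟩)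
      show m * ((MulAut.conjNormal (H := N) x n : N) : G) * m⁻¹ = n
      rw [MulAut.conjNormal_apply]
      calc m * (x * n * x⁻¹) * m⁻¹ = (m * x * n) * (m * x)⁻¹ := by group
        _ = n := by rw [Subgroup.mem_centralizer_singleton_iff.1 hmx, mul_inv_cancel_right]
    · intro h v hv
      obtain ⟨m, hm⟩ := isConj_iff.1 (ConjClasses.mk_eq_mk_iff_isConj.1 (h v hv))
      refine ⟨m, m.2, Subgroup.mem_centralizer_singleton_iff.2 ?_⟩
      have h2 := congrArg Subtype.val hm
      simp only [Subgroup.coe_mul, Subgroup.coe_inv, MulEquiv.coe_toMonoidHom,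
        MulAut.conjNormal_apply] at h2
      conv_rhs => rw [← h2]
      group
  have hout : ∀ g : G, g ∉ N → ¬ p ∣ (Subgroup.centralizer ({g} : Set G)).index := by
    intro g hg
    -- conjugate to `n * u` with commuting factors
    obtain ⟨n0, hn0, u0, hu0, rfl⟩ := hdec g
    set g := n0 * u0
    set o := orderOf g
    obtain ⟨e, o', hpo, ho⟩ := Nat.exists_eq_pow_mul_and_not_dvd (orderOf_pos g).ne' p
      (Fact.out : p.Prime).ne_one
    obtain ⟨a, b, hab'⟩ := Int.isCoprime_iff_gcd_eq_one.2 (show Int.gcd ((p ^ e : ℕ) : ℤ) o' = 1 by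
      rw [Int.gcd_natCast_natCast]
      exact Nat.Coprime.pow_left e ((Fact.out : p.Prime).coprime_iff_not_dvd.2 hpo))
    set s := g ^ (a * (p ^ e : ℕ))
    set t := g ^ (b * o')
    have hst : s * t = g := by rw [← zpow_add, hab', zpow_one]
    have hts : t * s = g := by rw [← zpow_add, add_comm, hab', zpow_one]
    have hgo : g ^ ((p ^ e : ℕ) * o' : ℤ) = 1 := by
      rw [← Nat.cast_mul, ← ho, zpow_natCast, pow_orderOf_eq_one]
    have hsN : s ∈ N := by
      have h1 : (g : G ⧸ N) ^ ((p ^ k : ℕ) : ℤ) = 1 := by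
        rw [zpow_natCast, ← hk, Subgroup.index_eq_card]
        exact pow_card_eq_one'
      have h2 : ((s : G) : G ⧸ N) ^ (o' : ℤ) = 1 := by
        rw [← QuotientGroup.mk_zpow, ← zpow_mul, mul_assoc, mul_comm a, zpow_mul, hgo, one_zpow,
          QuotientGroup.mk_one]
      obtain ⟨c, d, hcd⟩ := Int.isCoprime_iff_gcd_eq_one.2 (show Int.gcd ((p ^ k : ℕ) : ℤ) o' = 1 by
        rw [Int.gcd_natCast_natCast]
        exact Nat.Coprime.pow_left k ((Fact.out : p.Prime).coprime_iff_not_dvd.2 hpo))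
      have h3 : ((s : G) : G ⧸ N) ^ ((p ^ k : ℕ) : ℤ) = 1 := by
        rw [← QuotientGroup.mk_zpow, ← zpow_mul, mul_comm, zpow_mul, QuotientGroup.mk_zpow,
          QuotientGroup.mk_zpow, h1, one_zpow]
      rw [← QuotientGroup.eq_one_iff, ← zpow_one ((s : G) : G ⧸ N), ← hcd, zpow_add, mul_comm c,
        mul_comm d, zpow_mul, zpow_mul, h3, h2, one_zpow, one_zpow, one_mul]
    have ht : t ≠ 1 := fun h => hg (by rw [← hst, h, mul_one]; exact hsN)
    have htp : IsPGroup p (Subgroup.zpowers t) := by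
      have h1 : t ^ p ^ e = 1 := by
        rw [← zpow_natCast, ← zpow_mul, mul_assoc, mul_comm (o' : ℤ), mul_comm b, zpow_mul, hgo,
          one_zpow]
      obtain ⟨j, -, hj⟩ := (Nat.dvd_prime_pow (Fact.out : p.Prime)).1 (orderOf_dvd_of_pow_eq_one h1)
      exact IsPGroup.of_card (n := j) (by rw [Nat.card_zpowers, hj])
    obtain ⟨S', hS'⟩ := htp.exists_le_sylow
    obtain ⟨c, hc⟩ := MulAction.exists_smul_eq G S' S
    set u := c * t * c⁻¹
    have huP : u ∈ P := by
      show u ∈ (S : Subgroup G)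
      rw [← hc, Sylow.coe_subgroup_smul]
      exact Subgroup.smul_mem_pointwise_smul _ (MulAut.conj c) _ (hS' (Subgroup.mem_zpowers t))
    have hu1 : u ≠ 1 := fun h => ht (conj_eq_one_iff.1 h)
    set m : N := ⟨c * s * c⁻¹, Subgroup.Normal.conj_mem inferInstance s hsN c⟩
    have hmu : (m : G) * u = u * (m : G) := by
      show c * s * c⁻¹ * (c * t * c⁻¹) = c * t * c⁻¹ * (c * s * c⁻¹)
      calc c * s * c⁻¹ * (c * t * c⁻¹) = c * (s * t) * c⁻¹ := by group
        _ = c * (t * s) * c⁻¹ := by rw [hst, hts]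
        _ = _ := by group
    have hgood : ¬ p ∣ (Subgroup.centralizer ({(m : G) * u} : Set G)).index := by
      rw [hcrit]
      intro v hv
      have hum : ConjClasses.map (MulAut.conjNormal (H := N) u).toMonoidHom (ConjClasses.mk m) =
          ConjClasses.mk m := congrArg ConjClasses.mk (Subtype.ext (by
        rw [MulEquiv.coe_toMonoidHom, MulAut.conjNormal_apply, ← hmu, mul_inv_cancel_right]))
      have hconj := ConjClasses.mk_eq_mk_iff_isConj.1 (hsame u huP hu1 _ hum v hv)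
      let Z := Subgroup.zpowers u
      have hnorm : ∀ y ∈ Z, ∀ w ∈ N, y * w * y⁻¹ ∈ N := fun y _ w hw =>
        Subgroup.Normal.conj_mem inferInstance w hw y
      letI := Glauberman.conjAction N Z hnorm
      set C := (N ⊓ Subgroup.centralizer (Z : Set G)).subgroupOf N with hCdef
      have hC : ∀ w, w ∈ C ↔ ∀ y : Z, y • w = w :=
        fun w => Glauberman.mem_centralizer_iff_fixed N Z hnorm _ rfl w
      have hmemC : ∀ w : N, (w : G) * u = u * (w : G) → w ∈ C := fun w hw => by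
        refine Subgroup.mem_subgroupOf.2 ⟨w.2, Subgroup.mem_centralizer_iff.2 fun y hy => ?_⟩
        obtain ⟨i, rfl⟩ := Subgroup.mem_zpowers_iff.1 hy
        exact (Commute.zpow_left (show Commute u (w : G) from hw.symm) i).eq
      have hm1 := hmemC m hmu
      have hm2 : MulAut.conjNormal (H := N) v m ∈ C := hmemC _ (by
        rw [MulAut.conjNormal_apply]
        calc v * (m : G) * v⁻¹ * u = v * (m : G) * (v⁻¹ * u) := by group
          _ = v * (m : G) * (u * v⁻¹) := by rw [hPab v⁻¹ (P.inv_mem hv) u huP]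
          _ = v * ((m : G) * u) * v⁻¹ := by group
          _ = v * (u * (m : G)) * v⁻¹ := by rw [hmu]
          _ = (v * u) * (m : G) * v⁻¹ := by group
          _ = (u * v) * (m : G) * v⁻¹ := by rw [hPab v hv u huP]
          _ = u * (v * (m : G) * v⁻¹) := by group)
      obtain ⟨w, hw⟩ := isConj_iff.1 (Glauberman.isConj_fixed
        ((hP.to_le (Subgroup.zpowers_le.2 huP)) : IsPGroup p Z) hcop C hC
        (c := ⟨_, hm2⟩) (c' := ⟨m, hm1⟩) hconj)
      refine ⟨((w : N) : G), (w : N).2, Subgroup.mem_centralizer_singleton_iff.2 ?_⟩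
      have h2 := congrArg (fun y : C => ((y : N) : G)) hw
      simp only [Subgroup.coe_mul, Subgroup.coe_inv, MulAut.conjNormal_apply] at h2
      have hwu : ((w : N) : G) * u = u * ((w : N) : G) :=
        ((Subgroup.mem_centralizer_iff.1 (Subgroup.mem_subgroupOf.1 w.2).2 u
          (Subgroup.mem_zpowers u))).symm
      calc ((w : N) : G) * v * ((m : G) * u)
          = ((w : N) : G) * (v * (m : G) * v⁻¹) * (v * u) := by group
        _ = ((w : N) : G) * (v * (m : G) * v⁻¹) * (u * v) := by rw [hPab v hv u huP]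
        _ = ((w : N) : G) * (v * (m : G) * v⁻¹) * ((w : N) : G)⁻¹ * (((w : N) : G) * u) * v := by
            group
        _ = (m : G) * (u * ((w : N) : G)) * v := by rw [h2, hwu]
        _ = (m : G) * u * (((w : N) : G) * v) := by group
    have heq : (Subgroup.centralizer ({(m : G) * u} : Set G)).index =
        (Subgroup.centralizer ({g} : Set G)).index := by
      rw [← CfsgLib.Blocks.natCard_class, ← CfsgLib.Blocks.natCard_class]
      have : ConjClasses.mk ((m : G) * u) = ConjClasses.mk g := by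
        refine (ConjClasses.mk_eq_mk_iff_isConj.2 (isConj_iff.2 ⟨c, ?_⟩)).symm
        rw [← hst]
        show c * (s * t) * c⁻¹ = c * s * c⁻¹ * (c * t * c⁻¹)
        group
      rw [this]
    rwa [heq] at hgood
  obtain ⟨n₀, rfl⟩ := ConjClasses.mk_surjective C₀
  have hcard : ∀ g : G, Nat.card (ConjClasses.mk g).carrier =
      (Subgroup.centralizer ({g} : Set G)).index := fun g => by
    rw [← CfsgLib.Blocks.natCard_class]
    exact Nat.card_congr (Equiv.subtypeEquivRight fun y => ConjClasses.mem_carrier_iff_mk_eq)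
  refine Nat.card_eq_one_iff_unique.2 ⟨⟨fun A B => Subtype.ext ?_⟩, ⟨⟨ConjClasses.mk (n₀ : G), ?_⟩⟩⟩
  · suffices h : ∀ A : {C : ConjClasses G // p ∣ Nat.card C.carrier},
        A.1 = ConjClasses.mk (n₀ : G) from (h A).trans (h B).symm
    rintro ⟨A, hA⟩
    obtain ⟨g, rfl⟩ := ConjClasses.mk_surjective A
    rw [hcard] at hA
    have hgN : g ∈ N := by
      by_contra h
      exact hout g h hA
    obtain ⟨x, -, hxC⟩ := horbit (ConjClasses.mk ⟨g, hgN⟩)
      fun h => (hcritN ⟨g, hgN⟩).2 h hA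
    obtain ⟨m, hm⟩ := isConj_iff.1 (ConjClasses.mk_eq_mk_iff_isConj.1 hxC)
    refine (ConjClasses.mk_eq_mk_iff_isConj.2 (isConj_iff.2 ⟨(m : G) * x, ?_⟩)).symm
    have h2 := congrArg Subtype.val hm
    simp only [Subgroup.coe_mul, Subgroup.coe_inv, MulEquiv.coe_toMonoidHom,
      MulAut.conjNormal_apply] at h2
    rw [← h2]
    group
  · rw [hcard]
    by_contra h
    exact hC₀ ((hcritN n₀).1 h)

end Cfsg.Agent.S4763
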