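import Cfsg.Statements.S4765
import Cfsg.Agent.SL2CharTable.Final
import Cfsg.Agent.SL2CharTable.Even
import Cfsg.Agent.Characters.Linear
import Cfsg.Agent.Blocks.Height

set_option autoImplicit false
set_option linter.style.haveILetI false
set_option linter.unusedSectionVars false
set_option linter.unusedVariables false
open Cfsg

namespace Cfsg.Agent.S4765

open CfsgLib CfsgLib.Characters CfsgLib.SL2CharTable
open scoped MatrixGroups

theorem sl_facts (p : ℕ) [Fact p.Prime] (F : Type*) [Field F] [Fintype F] [DecidableEq F] [CharP F p] :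
    (∀ (χ : Cfsg.IrrCharacter SL(2, F)) (d : ℕ), (χ : SL(2, F) → ℂ) 1 = (d : ℂ) → p ∣ d →
      d = Fintype.card F) ∧ Cfsg.IsIrrCharacter SL(2, F) (St : SL(2, F) → ℂ) ∧
    (∀ z ∈ Subgroup.center SL(2, F), (St : SL(2, F) → ℂ) z = (St : SL(2, F) → ℂ) 1) ∧
    ∀ χ : Cfsg.IrrCharacter SL(2, F), (χ : SL(2, F) → ℂ) 1 = (Fintype.card F : ℂ) →
      (χ : SL(2, F) → ℂ) = St := by
  have hp : p.Prime := Fact.out
  obtain ⟨n, hn, hqn⟩ := FiniteField.card F p
  have hpq : p ∣ Fintype.card F := hqn ▸ dvd_pow_self p n.ne_zero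
  have h1q := Fintype.one_lt_card (α := F)
  have hplus : ¬ p ∣ Fintype.card F + 1 := fun h =>
    hp.not_dvd_one ((Nat.dvd_add_right hpq).1 h)
  have hminus : ¬ p ∣ Fintype.card F - 1 := fun h => hp.not_dvd_one (by
    have := Nat.dvd_sub hpq h
    rwa [show Fintype.card F - (Fintype.card F - 1) = 1 by omega] at this)
  have hone : ¬ p ∣ 1 := hp.not_dvd_one
  by_cases h2 : p = 2
  · subst h2
    obtain ⟨g, -, hg⟩ := SL2Tori.exists_nonsplit (F := F)
    refine ⟨fun χ d hd hpd => ?_, Even.irrSt.2, fun z hz => ?_, fun χ h => Even.deg_q χ.2 h⟩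
    · rcases Even.exhaustive ⟨g, hg⟩ _ χ.2 with ⟨-, e⟩ | ⟨-, e⟩ | ⟨_, -, -, e⟩ | ⟨_, -, -, e⟩ <;>
        rw [hd, Nat.cast_inj] at e
      · exact absurd (e ▸ hpd) hone
      · exact e
      · exact absurd (e ▸ hpd) hplus
      · exact absurd (e ▸ hpd) hminus
    · rcases (SL2Trace.mem_center_iff_eq z).1 hz with rfl | rfl
      · rfl
      · rw [Even.neg_one_SL]
  · have hodd : Odd (Fintype.card F) := hqn ▸ (hp.odd_of_ne_two h2).pow
    obtain ⟨Tr, h20, ⟨H⟩⟩ := exists_table (F := F) hodd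
    have hhalf : ∀ m : ℕ, m = (Fintype.card F + 1) / 2 ∨ m = (Fintype.card F - 1) / 2 → ¬ p ∣ m := by
      obtain ⟨k, hk⟩ := hodd
      rintro m (rfl | rfl) h
      · exact hplus (h.trans (Nat.div_dvd_of_dvd (by omega)))
      · exact hminus (h.trans (Nat.div_dvd_of_dvd (by omega)))
    refine ⟨fun χ d hd hpd => ?_, isIrr_St h20, fun z hz => ?_, fun χ h => H.deg_q χ.2 h⟩
    · rcases H.cases χ.2 with ⟨-, e⟩ | ⟨-, e⟩ | ⟨_, -, -, e⟩ | ⟨_, -, -, e⟩ | ⟨-, e⟩ | ⟨-, e⟩ <;>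
        rw [hd, Nat.cast_inj] at e
      · exact absurd (e ▸ hpd) hone
      · exact e
      · exact absurd (e ▸ hpd) hplus
      · exact absurd (e ▸ hpd) hminus
      · exact absurd hpd (hhalf _ (Or.inl e))
      · exact absurd hpd (hhalf _ (Or.inr e))
    · rcases (SL2Trace.mem_center_iff_eq z).1 hz with rfl | rfl
      · rfl
      · rw [St_one, ← mk_neg_one_zero, St_eq, Pi.sub_apply, R_central _ (Or.inr rfl)]
        simp


/-- Let F be a finite field of characteristic p with at least 4 elements. Then PSL(2,F) has exactly one irreducible complex character of degree divisible by p, and its degree is the order of F. -/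
theorem result (p : ℕ) [Fact p.Prime] (F : Type*) [Field F] [Fintype F] [CharP F p] (hF : 4 ≤ Fintype.card F) : Nat.card {χ : Cfsg.IrrCharacter (Matrix.ProjectiveSpecialLinearGroup (Fin 2) F) // p ∣ Cfsg.charDegree (χ : Matrix.ProjectiveSpecialLinearGroup (Fin 2) F → ℂ)} = 1 ∧ ∀ χ : Cfsg.IrrCharacter (Matrix.ProjectiveSpecialLinearGroup (Fin 2) F), p ∣ Cfsg.charDegree (χ : Matrix.ProjectiveSpecialLinearGroup (Fin 2) F → ℂ) → Cfsg.charDegree (χ : Matrix.ProjectiveSpecialLinearGroup (Fin 2) F → ℂ) = Fintype.card F := by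
  classical
  obtain ⟨hdeg, hSt, hStc, hq⟩ := sl_facts p F
  set N := Subgroup.center SL(2, F)
  have hq0 : p ∣ Fintype.card F := by
    obtain ⟨n, -, hn⟩ := FiniteField.card F p
    rw [hn]; exact dvd_pow_self p n.ne_zero
  haveI : Fintype (SL(2, F) ⧸ N) := Fintype.ofFinite _
  -- the inflation of a character of degree divisible by `p` is the Steinberg character
  have key : ∀ χ : Cfsg.IrrCharacter (SL(2, F) ⧸ N), p ∣ Cfsg.charDegree (χ : SL(2, F) ⧸ N → ℂ) →
      Cfsg.charDegree (χ : SL(2, F) ⧸ N → ℂ) = Fintype.card F ∧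
      ∀ g : SL(2, F), (χ : SL(2, F) ⧸ N → ℂ) (QuotientGroup.mk g) = (St : SL(2, F) → ℂ) g := by
    intro χ hd
    have hirr := isIrr_comp (QuotientGroup.mk' N) (QuotientGroup.mk'_surjective N) χ.2
    have hcast : (χ : SL(2, F) ⧸ N → ℂ) 1 = (Cfsg.charDegree (χ : SL(2, F) ⧸ N → ℂ) : ℂ) :=
      (Blocks.charDegree_cast χ).symm
    have h1 : Cfsg.charDegree (χ : SL(2, F) ⧸ N → ℂ) = Fintype.card F := by
      refine hdeg ⟨_, hirr⟩ _ ?_ hd
      show (χ : SL(2, F) ⧸ N → ℂ) (QuotientGroup.mk' N 1) = _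
      rw [map_one, hcast]
    refine ⟨h1, fun g => ?_⟩
    have h2 := hq ⟨_, hirr⟩ (by
      show (χ : SL(2, F) ⧸ N → ℂ) (QuotientGroup.mk' N 1) = _
      rw [map_one, hcast, h1])
    exact congrFun h2 g
  obtain ⟨ψ, hψ, hval⟩ := exists_irr_quotient N hSt hStc
  have hψ1 : Cfsg.charDegree ψ = Fintype.card F := by
    have h1 := hval 1
    rw [St_one, QuotientGroup.mk_one] at h1
    simp [Cfsg.charDegree, ← h1]
  refine ⟨?_, fun χ hd => (key χ hd).1⟩
  rw [Nat.card_eq_one_iff_unique]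
  refine ⟨⟨fun a b => Subtype.ext (Subtype.ext (funext fun x => ?_))⟩,
    ⟨⟨⟨ψ, hψ⟩, show p ∣ Cfsg.charDegree ψ from hψ1 ▸ hq0⟩⟩⟩
  obtain ⟨g, rfl⟩ := QuotientGroup.mk_surjective x
  exact ((key a.1 a.2).2 g).trans ((key b.1 b.2).2 g).symm

end Cfsg.Agent.S4765
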