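import Cfsg.Statements.S4768
import Cfsg.Agent.S4713
import Cfsg.Agent.OddOrderChar.Clifford
import Cfsg.Agent.BlocksCharsC.Restriction
import Cfsg.Agent.Glauberman.Constituent
import Cfsg.Agent.SameDegree.Basic
import Cfsg.Agent.PLocal.Cores

set_option autoImplicit false
set_option linter.style.haveILetI false
set_option linter.unusedSectionVars false
open Cfsg

namespace Cfsg.Agent.S4768

open CfsgLib CfsgLib.Characters CfsgLib.OddOrderChar

universe u

/-- The number of irreducible characters of degree divisible by `p`. -/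
noncomputable def singularCount (p : ℕ) (G : Type u) [Group G] : ℕ :=
  Nat.card {χ : Cfsg.IrrCharacter G // p ∣ Cfsg.charDegree (χ : G → ℂ)}

theorem derivedSeries_succ_eq_bot {A : Type*} [Group A] {S : Subgroup A}
    (hS : ∀ x ∈ S, ∀ y ∈ S, x * y = y * x) {k : ℕ} (h : derivedSeries A k ≤ S) :
    derivedSeries A (k + 1) = ⊥ := by
  rw [derivedSeries_succ, Subgroup.commutator_eq_bot_iff_le_centralizer]
  intro x hx
  rw [Subgroup.mem_centralizer_iff]
  exact fun y hy => hS y (h hy) x (h hx)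

theorem derivedSeries_eq_bot_of_hom {A B : Type*} [Group A] [Group B] (f : A →* B)
    (hf : Function.Injective f) {k : ℕ} (h : derivedSeries B k = ⊥) : derivedSeries A k = ⊥ := by
  rw [← Subgroup.map_eq_bot_iff_of_injective _ hf, eq_bot_iff, ← h]
  exact map_derivedSeries_le_derivedSeries f k

theorem inflate_spec {G : Type u} [Group G] [Finite G] (p : ℕ) (N : Subgroup G) [N.Normal] :
    singularCount p (G ⧸ N) ≤ singularCount p G ∧
      (singularCount p (G ⧸ N) = singularCount p G → ∀ χ : Cfsg.IrrCharacter G,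
        p ∣ Cfsg.charDegree (χ : G → ℂ) → ∀ n ∈ N, (χ : G → ℂ) n = (χ : G → ℂ) 1) := by
  let F : {ψ : Cfsg.IrrCharacter (G ⧸ N) // p ∣ Cfsg.charDegree (ψ : G ⧸ N → ℂ)} →
      {χ : Cfsg.IrrCharacter G // p ∣ Cfsg.charDegree (χ : G → ℂ)} := fun ψ =>
    ⟨⟨fun g => (ψ.1 : G ⧸ N → ℂ) (QuotientGroup.mk' N g),
      Characters.isIrr_comp (QuotientGroup.mk' N) (QuotientGroup.mk'_surjective N) ψ.1.2⟩, ψ.2⟩
  have hF : Function.Injective F := fun a b h => Subtype.ext (Subtype.ext (funext fun q => by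
    obtain ⟨g, rfl⟩ := QuotientGroup.mk'_surjective N q
    exact congrFun (congrArg Subtype.val (congrArg Subtype.val h)) g))
  refine ⟨Nat.card_le_card_of_injective F hF, fun he χ hd n hn => ?_⟩
  obtain ⟨ψ, hψ⟩ := (hF.bijective_of_nat_card_le (le_of_eq he.symm)).2 ⟨χ, hd⟩
  have h : ∀ g, (ψ.1 : G ⧸ N → ℂ) (QuotientGroup.mk' N g) = (χ : G → ℂ) g := fun g =>
    congrFun (congrArg Subtype.val (congrArg Subtype.val hψ)) g
  rw [← h n, ← h 1, map_one, QuotientGroup.mk'_apply, (QuotientGroup.eq_one_iff n).2 hn]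

theorem exists_pow_pow {A : Type*} [CommGroup A] {f : A} {r d : ℕ} (hf : f ^ r = 1)
    (hd : d.Coprime r) : ∃ m : ℕ, (f ^ d) ^ m = f :=
  exists_pow_eq_self_of_coprime (hd.coprime_dvd_right (orderOf_dvd_of_pow_eq_one hf))

variable {p : ℕ} [Fact p.Prime]

/-- Over a linear character of a normal `p`-subgroup below which all degrees are prime to `p`,
the Sylow subgroups have derived length at most two. -/
theorem derived_two {G : Type u} [Group G] [Fintype G] (hsol : Cfsg.IsPSolvable p G)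
    (R : Subgroup G) [R.Normal] [Fintype R] (hR : IsPGroup p R)
    (hab : ∀ x ∈ R, ∀ y ∈ R, x * y = y * x) (f : R →* ℂˣ)
    (h : ∀ χ : Cfsg.IrrCharacter G,
      Cfsg.classInner (fun x : R => (χ : G → ℂ) x) (fun x => (f x : ℂ)) ≠ 0 →
        ¬ p ∣ Cfsg.charDegree (χ : G → ℂ))
    (P : Sylow p G) : derivedSeries ↥(P : Subgroup G) 2 = ⊥ := by
  classical
  have hp : p.Prime := Fact.out
  set θ : R → ℂ := fun x => (f x : ℂ) with hθdef
  have hθ : Cfsg.IsIrrCharacter R θ := isIrr_linChar f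
  let T : Subgroup G :=
    { carrier := {g | conjBy R θ g = θ}
      one_mem' := conjBy_one R _
      mul_mem' := fun {a b} ha hb => by
        show conjBy R θ (a * b) = θ
        rw [← conjBy_mul, ha, hb]
      inv_mem' := fun {a} ha => by
        show conjBy R θ a⁻¹ = θ
        conv_lhs => rw [← ha, conjBy_mul, mul_inv_cancel, conjBy_one] }
  have hT : ∀ g : G, g ∈ T ↔ conjBy R θ g = θ := fun g => Iff.rfl
  have hRT : R ≤ T := inertia_le R (isClassFunction_of_isIrr hθ) T hT
  haveI := Fintype.ofFinite T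
  set R' := R.subgroupOf T with hR'
  haveI := Fintype.ofFinite R'
  set θ' := onSubgroupOf R T θ with hθ'def
  have hθ' : Cfsg.IsIrrCharacter R' θ' := isIrr_onSubgroupOf R T hRT hθ
  have hdeg : ∀ ψ : Cfsg.IrrCharacter T,
      Cfsg.classInner (fun x : R' => (ψ : T → ℂ) x) θ' ≠ 0 →
        ¬ p ∣ T.index * Cfsg.charDegree (ψ : T → ℂ) := by
    intro ψ hne
    obtain ⟨hi, he, -⟩ := clifford_correspondence R T hθ hT ψ.2 hne
    have h1 : Cfsg.charDegree (Cfsg.indFun T (ψ : T → ℂ)) = T.index * Cfsg.charDegree (ψ : T → ℂ) := by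
      apply Nat.cast_injective (R := ℂ)
      refine (Blocks.charDegree_cast (⟨_, hi⟩ : Cfsg.IrrCharacter G)).trans ?_
      show Cfsg.indFun T (ψ : T → ℂ) 1 = _
      rw [OddOrderChar.indFun_one, Nat.cast_mul, Blocks.charDegree_cast ψ]
    exact h1 ▸ h ⟨_, hi⟩ (he.symm ▸ hne)
  obtain ⟨ψ, hψ, hψne⟩ := CharactersDeep.Clifford.exists_over R' hθ'
  have hnd := hdeg ⟨ψ, hψ⟩ hψne
  have hTi : ¬ p ∣ T.index := fun hd => hnd (hd.mul_right _)
  set d := Cfsg.charDegree ψ with hd'
  have hdp : ¬ p ∣ d := fun hd => hnd (hd.mul_left _)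
  -- `θ` extends to `T`
  have hext : ∃ l : T →* ℂˣ, ∀ x : R', (l (x : T) : ℂ) = θ' x := by
    obtain ⟨n, ρ, -, hρ⟩ := id hψ
    have hres := clifford_restrict_invariant R' hψ hθ' (onSubgroupOf_invariant R T hT) hψne
    have hψ1 : ψ 1 = (d : ℂ) := (Blocks.charDegree_cast (⟨ψ, hψ⟩ : Cfsg.IrrCharacter T)).symm
    have hθ1 : θ' 1 = 1 := by
      show ((f _ : ℂˣ) : ℂ) = 1
      rw [show (⟨(((1 : R') : T) : G), _⟩ : R) = 1 from Subtype.ext (by simp), map_one, Units.val_one]
    have hval : ∀ x : R', ψ x = (d : ℂ) * θ' x := by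
      intro x
      have h1 := congrFun hres 1
      simp only [OneMemClass.coe_one, Pi.smul_apply, smul_eq_mul, hθ1, mul_one, hψ1] at h1
      have h2 := congrFun hres x
      simp only [Pi.smul_apply, smul_eq_mul, ← h1] at h2
      exact h2
    have hrank : (Module.finrank ℂ (Fin n → ℂ) : ℂ) = d := by
      rw [← Representation.char_one (ρ := ρ), ← hψ1, ← hρ]
    have hrank' : Module.finrank ℂ (Fin n → ℂ) = d := Nat.cast_injective hrank
    have hdet : ∀ x : R', LinearMap.det (ρ (x : T)) = θ' x ^ d := by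
      intro x
      have hnorm : ‖θ' x‖ = 1 := Complex.norm_eq_one_of_pow_eq_one (n := Nat.card R) (by
        show ((f _ : ℂˣ) : ℂ) ^ Nat.card R = 1
        rw [← Units.val_pow_eq_pow_val, ← map_pow, pow_card_eq_one', map_one, Units.val_one])
        Nat.card_pos.ne'
      have hch : ρ.character (x : T) = (d : ℂ) * θ' x := by rw [← hρ] at hval; exact hval x
      obtain ⟨ω, hω, hω'⟩ := exists_scalar_of_norm_char_eq ρ (x : T) (by
        rw [hch, norm_mul, hnorm, mul_one, Complex.norm_natCast, hrank'])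
      have hd0 : (d : ℂ) ≠ 0 := Nat.cast_ne_zero.2 fun h0 => hdp (h0 ▸ dvd_zero p)
      have hωθ : ω = θ' x := by
        rw [hch, hrank, mul_comm ω] at hω'
        exact (mul_left_cancel₀ hd0 hω').symm
      rw [hω, LinearMap.det_smul, LinearMap.det_id, mul_one, hrank', hωθ]
    let δ : T →* ℂˣ := ((LinearMap.det).comp ρ).toHomUnits
    let f' : R' →* ℂˣ := f.comp (Subgroup.subgroupOfEquivOfLe hRT).toMonoidHom
    have hf' : ∀ x, (f' x : ℂ) = θ' x := fun x => rfl
    have hδ : δ.comp R'.subtype = f' ^ d := by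
      refine MonoidHom.ext fun x => Units.ext ?_
      rw [MonoidHom.pow_apply, Units.val_pow_eq_pow_val, hf' x, ← hdet x]
      rfl
    obtain ⟨a, ha⟩ := IsPGroup.iff_card.1 hR
    obtain ⟨m, hm⟩ := exists_pow_pow (f := f') (r := p ^ a) (d := d) (MonoidHom.ext fun x => by
        rw [MonoidHom.pow_apply, ← map_pow, ← ha,
          ← Nat.card_congr (Subgroup.subgroupOfEquivOfLe hRT).toEquiv, pow_card_eq_one',
          map_one, MonoidHom.one_apply])
      ((hp.coprime_iff_not_dvd.2 hdp).symm.pow_right a)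
    refine ⟨δ ^ m, fun x => ?_⟩
    rw [← hf' x, ← hm, ← hδ]
    rfl
  obtain ⟨l, hl⟩ := hext
  -- Gallagher: all degrees of `T / R` are prime to `p`
  haveI := Fintype.ofFinite (T ⧸ R')
  have hall : Cfsg.Agent.S4713.AllPrime p (T ⧸ R') := by
    intro φ hφd
    let π := QuotientGroup.mk' R'
    let ξ : Cfsg.IrrCharacter T := ⟨fun g => (φ : T ⧸ R' → ℂ) (π g) * (l g : ℂ),
      Glauberman.isIrr_mul_hom (Characters.isIrr_comp π (QuotientGroup.mk'_surjective R') φ.2) l⟩
    have hres : (fun x : R' => (ξ : T → ℂ) x) = ((φ : T ⧸ R' → ℂ) 1) • θ' := by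
      funext x
      show (φ : T ⧸ R' → ℂ) (π x) * (l (x : T) : ℂ) = _
      rw [hl, show π (x : T) = 1 from (QuotientGroup.eq_one_iff _).2 x.2]
      rfl
    have hne : Cfsg.classInner (fun x : R' => (ξ : T → ℂ) x) θ' ≠ 0 := by
      rw [hres, classInner_smul_left, classInner_isIrr_self hθ', mul_one,
        ← Blocks.charDegree_cast φ, Nat.cast_ne_zero]
      intro h0
      exact Nat.card_pos.ne' (zero_dvd_iff.1 (h0 ▸ Blocks.charDegree_dvd_card φ))
    refine hdeg ξ hne (Dvd.dvd.mul_left ?_ _)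
    have h1 : Cfsg.charDegree (ξ : T → ℂ) = Cfsg.charDegree (φ : T ⧸ R' → ℂ) := by
      simp [Cfsg.charDegree, ξ, π]
    exact h1 ▸ hφd
  obtain ⟨Q⟩ : Nonempty (Sylow p T) := inferInstance
  have hQab := (Cfsg.Agent.S4713.main _ _ rfl
    (PLocal.isPSolvable_quotient (PLocal.isPSolvable_subgroup hsol T) R') hall
    (Q.mapSurjective (QuotientGroup.mk'_surjective R'))).2
  rw [Sylow.coe_mapSurjective] at hQab
  have hQ2 : derivedSeries ↥(Q : Subgroup T) 2 = ⊥ := by
    have hR'ab : ∀ x ∈ R'.subgroupOf (Q : Subgroup T), ∀ y ∈ R'.subgroupOf (Q : Subgroup T),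
        x * y = y * x := fun x hx y hy => Subtype.ext (Subtype.ext (hab _ hx _ hy))
    refine derivedSeries_succ_eq_bot hR'ab (k := 1) ?_
    rw [derivedSeries_one, commutator_def, Subgroup.commutator_le]
    intro x _ y _
    rw [Subgroup.mem_subgroupOf]
    refine (QuotientGroup.eq_one_iff _).1 ?_
    have hc := hQab _ ⟨x, x.2, rfl⟩ _ ⟨y, y.2, rfl⟩
    simp only [QuotientGroup.mk'_apply] at hc
    simp only [commutatorElement_def, Subgroup.coe_mul, Subgroup.coe_inv, QuotientGroup.mk_mul,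
      QuotientGroup.mk_inv]
    rw [hc]
    group
  let Qm : Subgroup G := (Q : Subgroup T).map T.subtype
  have hQm : ¬ p ∣ Qm.index := by
    rw [Subgroup.index_map_subtype]
    exact hp.prime.not_dvd_mul Q.not_dvd_index hTi
  let P' : Sylow p G := (Q.2.map T.subtype).toSylow hQm
  have hP' : derivedSeries ↥(P' : Subgroup G) 2 = ⊥ :=
    derivedSeries_eq_bot_of_hom
      ((Q : Subgroup T).equivMapOfInjective T.subtype T.subtype_injective).symm.toMonoidHom
      (MulEquiv.injective _) hQ2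
  exact derivedSeries_eq_bot_of_hom (P.equiv P').toMonoidHom (MulEquiv.injective _) hP'

/-- The main induction. -/
theorem main : ∀ (m : ℕ) (G : Type u) [Group G] [Fintype G], Nat.card G = m →
    Cfsg.IsPSolvable p G → ∀ P : Sylow p G,
      derivedSeries ↥(P : Subgroup G) (singularCount p G + 1) = ⊥ := by
  intro m
  induction m using Nat.strongRecOn with
  | ind m ih =>
  intro G _ _ hm hsol P
  subst hm
  classical
  have hp : p.Prime := Fact.out
  rcases Nat.eq_zero_or_pos (singularCount p G) with h0 | hpos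
  · have hall : Cfsg.Agent.S4713.AllPrime p G := fun χ hd => by
      haveI : Nonempty {χ : Cfsg.IrrCharacter G // p ∣ Cfsg.charDegree (χ : G → ℂ)} := ⟨⟨χ, hd⟩⟩
      exact (Nat.card_pos (α := {χ : Cfsg.IrrCharacter G // p ∣ Cfsg.charDegree (χ : G → ℂ)})).ne'
        h0
    have hc := (Cfsg.Agent.S4713.main _ G rfl hsol hall P).2
    exact derivedSeries_succ_eq_bot (S := ⊤)
      (fun x _ y _ => Subtype.ext (hc x x.2 y y.2)) le_top
  have hquot : ∀ (N : Subgroup G) [N.Normal], N ≠ ⊥ →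
      (derivedSeries ↥(P : Subgroup G) (singularCount p (G ⧸ N) + 1)) ≤
        N.subgroupOf (P : Subgroup G) := by
    intro N _ hN
    haveI := Fintype.ofFinite (G ⧸ N)
    have hlt : Nat.card (G ⧸ N) < Nat.card G := by
      rw [Subgroup.card_eq_card_quotient_mul_card_subgroup N]
      exact lt_mul_of_one_lt_right Nat.card_pos (N.one_lt_card_iff_ne_bot.2 hN)
    let Pb := P.mapSurjective (QuotientGroup.mk'_surjective N)
    have h1 := ih _ hlt (G ⧸ N) rfl (PLocal.isPSolvable_quotient hsol N) Pb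
    let F : (P : Subgroup G) →* (Pb : Subgroup (G ⧸ N)) :=
      ((QuotientGroup.mk' N).comp (P : Subgroup G).subtype).codRestrict _ fun x => by
        rw [Sylow.coe_mapSurjective]; exact ⟨x, x.2, rfl⟩
    intro x hx
    have h2 := map_derivedSeries_le_derivedSeries F _ (Subgroup.mem_map_of_mem F hx)
    rw [h1, Subgroup.mem_bot] at h2
    rw [Subgroup.mem_subgroupOf]
    exact (QuotientGroup.eq_one_iff _).1 (congrArg Subtype.val h2)
  by_cases hcore : Cfsg.pPrimeCore p G = ⊥
  swap
  · have h1 := hquot (Cfsg.pPrimeCore p G) hcore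
    rw [eq_bot_iff]
    refine (derivedSeries_antitone _ (Nat.add_le_add_right
      (inflate_spec p (Cfsg.pPrimeCore p G)).1 1)).trans (h1.trans fun x hx => ?_)
    rw [Subgroup.mem_subgroupOf] at hx
    obtain ⟨k, hk⟩ := IsPGroup.iff_card.1 P.2
    have hdisj : Disjoint (P : Subgroup G) (Cfsg.pPrimeCore p G) :=
      Subgroup.disjoint_of_coprime_natCard (by
        rw [hk]; exact Nat.Coprime.pow_left k (PLocal.coprime_card_pPrimeCore p G).symm)
    exact Subgroup.mem_bot.2 (Subtype.ext (Subgroup.disjoint_def.1 hdisj x.2 hx))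
  haveI : Nontrivial G := by
    by_contra hn
    rw [not_nontrivial_iff_subsingleton] at hn
    haveI : Nonempty {χ : Cfsg.IrrCharacter G // p ∣ Cfsg.charDegree (χ : G → ℂ)} :=
      (Nat.card_pos_iff.1 hpos).1
    obtain ⟨⟨χ, hd⟩⟩ := this
    exact hp.one_lt.ne' (Nat.dvd_one.1 (Nat.card_unique (α := G) ▸
      hd.trans (Blocks.charDegree_dvd_card χ)))
  set R := Cfsg.pCore p G with hRdef
  have hR0 : R ≠ ⊥ := (PLocal.pCore_ne_bot_or_of_isPSolvable hsol).resolve_right (fun h => h hcore)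
  have hRp : IsPGroup p R := PLocal.isPGroup_pCore p G
  haveI := Fintype.ofFinite R
  -- the last nontrivial term of the derived series of `R`
  obtain ⟨k, hk0, hk1⟩ : ∃ k, derivedSeries ↥R k ≠ ⊥ ∧ derivedSeries ↥R (k + 1) = ⊥ := by
    haveI : Group.IsNilpotent ↥R := hRp.isNilpotent
    obtain ⟨n, hn⟩ := (inferInstance : Group.IsSolvable ↥R).solvable
    induction n with
    | zero =>
      haveI : Nontrivial ↥R := (Subgroup.nontrivial_iff_ne_bot R).2 hR0
      exact absurd hn top_ne_bot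
    | succ n ih' =>
      by_cases h : derivedSeries ↥R n = ⊥
      · exact ih' h
      · exact ⟨n, h, hn⟩
  set N := (derivedSeries ↥R k).map R.subtype with hNdef
  haveI : N.Normal := ConjAct.normal_of_characteristic_of_normal
  have hN0 : N ≠ ⊥ := fun h => hk0 ((Subgroup.map_eq_bot_iff_of_injective _ R.subtype_injective).1 h)
  have hNab : ∀ x ∈ N, ∀ y ∈ N, x * y = y * x := by
    rintro _ ⟨a, ha, rfl⟩ _ ⟨b, hb, rfl⟩
    rw [derivedSeries_succ, Subgroup.commutator_eq_bot_iff_le_centralizer] at hk1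
    exact congrArg Subtype.val (Subgroup.mem_centralizer_iff.1 (hk1 hb) a ha)
  obtain ⟨hle, hsurj⟩ := inflate_spec p N
  rcases lt_or_eq_of_le hle with hlt | heq
  · rw [eq_bot_iff]
    refine (derivedSeries_antitone _ (Nat.add_le_add_right hlt 1)).trans ?_
    exact le_of_eq (derivedSeries_succ_eq_bot (S := N.subgroupOf (P : Subgroup G))
      (fun x hx y hy => Subtype.ext (hNab _ hx _ hy)) (hquot N hN0))
  obtain ⟨⟨⟨a, haR⟩, haN⟩, ha1'⟩ := Subgroup.ne_bot_iff_exists_ne_one.1 hk0
  have ha1 : (⟨a, haR⟩ : R) ≠ 1 := fun h => ha1' (Subtype.ext h)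
  obtain ⟨θ, hθa⟩ := SameDegree.exists_irr_ne ha1
  -- every character over `θ` has degree prime to `p`
  have hover : ∀ χ : Cfsg.IrrCharacter G,
      Cfsg.classInner (fun x : R => (χ : G → ℂ) x) (θ : R → ℂ) ≠ 0 →
        ¬ p ∣ Cfsg.charDegree (χ : G → ℂ) := fun χ hne hd => by
    refine hθa (BlocksCharsC.constituent_eq_degree
      (isCharacter_restrict R (isCharacter_of_isIrr χ.2)) θ.2 hne ?_)
    show (χ : G → ℂ) a = (χ : G → ℂ) ((1 : R) : G)
    exact hsurj heq χ hd a ⟨⟨a, haR⟩, haN, rfl⟩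
  have hθ1 : (θ : R → ℂ) 1 = 1 := by
    obtain ⟨χ, hχ, hne⟩ := CharactersDeep.Clifford.exists_over R θ.2
    have hnd := hover ⟨χ, hχ⟩ hne
    obtain ⟨e, he⟩ := classInner_character_irr
      (isCharacter_restrict R (isCharacter_of_isIrr hχ)) θ.2
    let T : Subgroup G :=
      { carrier := {g | conjBy R (θ : R → ℂ) g = θ}
        one_mem' := conjBy_one R _
        mul_mem' := fun {a b} ha hb => by
          show conjBy R (θ : R → ℂ) (a * b) = θ
          rw [← conjBy_mul, ha, hb]
        inv_mem' := fun {a} ha => by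
          show conjBy R (θ : R → ℂ) a⁻¹ = θ
          conv_lhs => rw [← ha, conjBy_mul, mul_inv_cancel, conjBy_one] }
    have hcl := clifford_degree R hχ θ.2 T (fun g => Iff.rfl) hne
    rw [show χ 1 = ((⟨χ, hχ⟩ : Cfsg.IrrCharacter G) : G → ℂ) 1 from rfl, he,
      ← Blocks.charDegree_cast, ← Blocks.charDegree_cast θ, ← Nat.cast_mul, ← Nat.cast_mul,
      Nat.cast_inj] at hcl
    obtain ⟨j, hj⟩ := IsPGroup.iff_card.1 hRp
    obtain ⟨i, -, hi⟩ := (Nat.dvd_prime_pow hp).1 (hj ▸ Blocks.charDegree_dvd_card θ)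
    cases i with
    | zero => rw [← Blocks.charDegree_cast θ, hi, pow_zero, Nat.cast_one]
    | succ i =>
      exact absurd (hcl ▸ ((hi ▸ dvd_pow_self p i.succ_ne_zero).mul_left _).mul_left _) hnd
  obtain ⟨f, hf⟩ := exists_hom_of_degree_one (isCharacter_of_isIrr θ.2) hθ1
  have hkz : k = 0 := by
    by_contra hkne
    refine hθa ?_
    rw [hθ1, hf]
    have h1 : (⟨a, haR⟩ : R) ∈ f.ker := by
      refine Abelianization.commutator_subset_ker f ?_
      rw [← derivedSeries_one]
      exact derivedSeries_antitone _ (Nat.one_le_iff_ne_zero.2 hkne) haN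
    simp [MonoidHom.mem_ker.1 h1]
  have hRab : ∀ x ∈ R, ∀ y ∈ R, x * y = y * x := fun x hx y hy =>
    hNab x ⟨⟨x, hx⟩, by simp [hkz], rfl⟩ y ⟨⟨y, hy⟩, by simp [hkz], rfl⟩
  rw [eq_bot_iff]
  refine (derivedSeries_antitone _ (show 2 ≤ singularCount p G + 1 by omega)).trans (le_of_eq ?_)
  exact derived_two hsol R hRp hRab f (fun χ h => hover χ (hf ▸ h)) P


/-- Let p be a prime, G a finite p-solvable group and P a Sylow p-subgroup of G. If n is the number of irreducible complex characters of G whose degree is divisible by p, then the (n+1)-st term of the derived series of P is trivial. (The p-solvable case has a direct inductive proof.) -/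
theorem result {G : Type*} [Group G] [Finite G] (p : ℕ) [Fact p.Prime] (hG : Cfsg.IsPSolvable p G) (P : Sylow p G) : derivedSeries ↥(P : Subgroup G) (Nat.card {χ : Cfsg.IrrCharacter G // p ∣ Cfsg.charDegree (χ : G → ℂ)} + 1) = ⊥ := by
  haveI := Fintype.ofFinite G
  exact main _ G rfl hG P

end Cfsg.Agent.S4768
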