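import Cfsg.Statements.S4774
import Cfsg.Agent.SL2CharTable.Final
import Cfsg.Agent.Characters.Linear
import Cfsg.Agent.Blocks.Height

set_option autoImplicit false
set_option linter.style.haveILetI false
set_option linter.unusedSectionVars false
open Cfsg

namespace Cfsg.Agent.S4774

open CfsgLib CfsgLib.Characters CfsgLib.SL2CharTable
open scoped MatrixGroups

theorem charDegrees_congr {S T : Type*} [Group S] [Finite S] [Group T] [Finite T] (e : S ≃* T) :
    Cfsg.charDegrees S = Cfsg.charDegrees T := by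
  ext d
  constructor
  · rintro ⟨χ, rfl⟩
    exact ⟨⟨_, isIrr_comp e.symm.toMonoidHom e.symm.surjective χ.2⟩, by simp [Cfsg.charDegree]⟩
  · rintro ⟨χ, rfl⟩
    exact ⟨⟨_, isIrr_comp e.toMonoidHom e.surjective χ.2⟩, by simp [Cfsg.charDegree]⟩

theorem charDegrees_quotient_subset {G : Type*} [Group G] [Finite G] (N : Subgroup G) [N.Normal] :
    Cfsg.charDegrees (G ⧸ N) ⊆ Cfsg.charDegrees G := by
  rintro d ⟨χ, rfl⟩
  exact ⟨⟨_, isIrr_comp (QuotientGroup.mk' N) (QuotientGroup.mk'_surjective N) χ.2⟩,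
    by simp [Cfsg.charDegree]⟩

/-- A character of even parameter whose square has order above two. -/
theorem exists_good_hom (A : Type*) [CommGroup A] [Finite A] [IsCyclic A] (h : 4 < Nat.card A)
    (z : A) (hz : z * z = 1) : ∃ β : A →* ℂˣ, β ^ 2 ≠ 1 ∧ β z = 1 := by
  haveI : NeZero (Monoid.exponent A : ℂ) :=
    ⟨Nat.cast_ne_zero.2 Monoid.exponent_ne_zero_of_finite⟩
  obtain ⟨E⟩ := CommGroup.monoidHom_mulEquiv_of_hasEnoughRootsOfUnity A ℂ
  obtain ⟨g, hg⟩ := IsCyclic.exists_ofOrder_eq_natCard (α := A)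
  refine ⟨E.symm g ^ 2, fun h1 => ?_, ?_⟩
  · have h2 : g ^ 4 = 1 := by
      have := congrArg E h1
      rw [map_one, map_pow, map_pow, MulEquiv.apply_symm_apply, ← pow_mul] at this
      exact this
    have := Nat.le_of_dvd (by norm_num) (orderOf_dvd_of_pow_eq_one h2)
    omega
  · rw [MonoidHom.pow_apply, sq, ← map_mul, hz, map_one]

theorem degrees_facts {F : Type*} [Field F] [Fintype F] (hodd : Odd (Fintype.card F))
    (h5 : 5 < Fintype.card F) :
    (∀ d ∈ Cfsg.charDegrees SL(2, F), d = 1 ∨ d = Fintype.card F ∨ d = Fintype.card F + 1 ∨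
      d = Fintype.card F - 1 ∨ d = (Fintype.card F + 1) / 2 ∨ d = (Fintype.card F - 1) / 2) ∧
    Fintype.card F ∈ Cfsg.charDegrees (Matrix.ProjectiveSpecialLinearGroup (Fin 2) F) ∧
    Fintype.card F + 1 ∈ Cfsg.charDegrees (Matrix.ProjectiveSpecialLinearGroup (Fin 2) F) ∧
    Fintype.card F - 1 ∈ Cfsg.charDegrees (Matrix.ProjectiveSpecialLinearGroup (Fin 2) F) := by
  classical
  obtain ⟨Tr, h2, ⟨H⟩⟩ := exists_table (F := F) hodd
  set q := Fintype.card F with hq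
  have hnat : ∀ {χ : SL(2, F) → ℂ} {m : ℕ}, χ 1 = (m : ℂ) → Cfsg.charDegree χ = m := by
    intro χ m h; simp [Cfsg.charDegree, h]
  have mk : ∀ (χ : SL(2, F) → ℂ) (m : ℕ), Cfsg.IsIrrCharacter SL(2, F) χ → χ 1 = (m : ℂ) →
      χ (-1) = χ 1 →
      m ∈ Cfsg.charDegrees (Matrix.ProjectiveSpecialLinearGroup (Fin 2) F) := by
    intro χ m hχ hm hneg
    obtain ⟨ψ, hψ, hval⟩ := exists_irr_quotient (Subgroup.center SL(2, F)) hχ (fun z hz => by
      rcases (SL2Trace.mem_center_iff_eq z).1 hz with rfl | rfl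
      · rfl
      · exact hneg)
    refine ⟨⟨ψ, hψ⟩, ?_⟩
    show Cfsg.charDegree ψ = m
    have h1 := hval 1
    rw [hm, QuotientGroup.mk_one] at h1
    simp [Cfsg.charDegree, ← h1]
  refine ⟨?_, ?_, ?_, ?_⟩
  · rintro d ⟨χ, rfl⟩
    rcases H.cases χ.2 with ⟨-, e⟩ | ⟨-, e⟩ | ⟨_, -, -, e⟩ | ⟨_, -, -, e⟩ | ⟨-, e⟩ | ⟨-, e⟩ <;>
      rw [hnat e] <;> simp [hq]
  · refine mk _ _ (isIrr_St h2) St_one ?_
    rw [St_one, ← mk_neg_one_zero, St_eq, Pi.sub_apply, R_central _ (Or.inr rfl)]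
    simp
  · obtain ⟨β, hb, hb'⟩ := exists_good_hom Fˣ (by
      rw [Nat.card_eq_fintype_card, Fintype.card_units]; omega) (-1) (by simp)
    refine mk _ _ (isIrr_R h2 hb) (by rw [R_one]; push_cast; rfl) ?_
    rw [R_one, ← mk_neg_one_zero, R_central _ (Or.inr rfl), hb', Units.val_one, mul_one]
  · haveI := Tr.isCyclic
    obtain ⟨η, he, he'⟩ := exists_good_hom Tr.T (by rw [Tr.card_T]; omega) Tr.negT Tr.negT_sq
    refine mk _ _ (isIrr_D Tr h2 he) (by rw [D_one, Nat.cast_sub Fintype.card_pos, Nat.cast_one]) ?_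
    rw [D_one, ← mk_neg_one_zero, D_central Tr h2 η (Or.inr rfl), beta_neg_one, he', Units.val_one,
      mul_one]


/-- Let F be a finite field of odd characteristic t with q > 5 elements and let S be isomorphic to PSL(2,F) or to SL(2,F). Then the vertices of the character degree graph of S are the primes dividing q(q²−1); the prime t is adjacent to no vertex; two distinct primes dividing q² − 1 are adjacent exactly when one of them is 2, or both divide q + 1, or both divide q − 1. -/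
theorem result (F : Type*) [Field F] [Fintype F] (t : ℕ) [Fact t.Prime] [CharP F t] (ht : t ≠ 2) (q : ℕ) (hq : Fintype.card F = q) (h5 : 5 < q) {S : Type*} [Group S] [Finite S] (hS : Nonempty (S ≃* Matrix.ProjectiveSpecialLinearGroup (Fin 2) F) ∨ Nonempty (S ≃* Matrix.SpecialLinearGroup (Fin 2) F)) : Cfsg.degreePrimes S = {r : ℕ | r.Prime ∧ r ∣ q * (q ^ 2 - 1)} ∧ ∀ r s : ℕ, (Cfsg.degreeGraph S).Adj r s ↔ (r ≠ s ∧ r.Prime ∧ s.Prime ∧ r ∣ q ^ 2 - 1 ∧ s ∣ q ^ 2 - 1 ∧ (r = 2 ∨ s = 2 ∨ (r ∣ q + 1 ∧ s ∣ q + 1) ∨ (r ∣ q - 1 ∧ s ∣ q - 1))) := by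
  classical
  subst hq
  obtain ⟨n, hn, hqn⟩ := FiniteField.card F t
  have hodd : Odd (Fintype.card F) := by
    rw [hqn]; exact ((hn.odd_of_ne_two ht)).pow
  haveI := Fintype.ofFinite S
  obtain ⟨hsub, hq0, hqp, hqm⟩ := degrees_facts (F := F) hodd h5
  -- the degrees of `S`
  have key : (∀ d ∈ Cfsg.charDegrees S, d = 1 ∨ d = Fintype.card F ∨ d = Fintype.card F + 1 ∨
      d = Fintype.card F - 1 ∨ d = (Fintype.card F + 1) / 2 ∨ d = (Fintype.card F - 1) / 2) ∧
      Fintype.card F ∈ Cfsg.charDegrees S ∧ Fintype.card F + 1 ∈ Cfsg.charDegrees S ∧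
      Fintype.card F - 1 ∈ Cfsg.charDegrees S := by
    rcases hS with ⟨⟨e⟩⟩ | ⟨⟨e⟩⟩
    · rw [charDegrees_congr e]
      exact ⟨fun d hd => hsub d (charDegrees_quotient_subset _ hd), hq0, hqp, hqm⟩
    · rw [charDegrees_congr e]
      exact ⟨hsub, charDegrees_quotient_subset _ hq0, charDegrees_quotient_subset _ hqp,
        charDegrees_quotient_subset _ hqm⟩
  obtain ⟨hd, hq0, hqp, hqm⟩ := key
  set q := Fintype.card F with hq
  have hsq : q ^ 2 - 1 = (q + 1) * (q - 1) := by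
    have := Nat.sq_sub_sq q 1; simpa using this
  have hprimeq : ∀ r : ℕ, r.Prime → r ∣ q → r = t := fun r hr hrq =>
    (Nat.prime_dvd_prime_iff_eq hr hn).1 (hr.dvd_of_dvd_pow (hqn ▸ hrq))
  obtain ⟨k, hk⟩ := hodd
  have hhalf : ∀ r d : ℕ, r ∣ d → (d = q + 1 ∨ d = (q + 1) / 2 → r ∣ q + 1) ∧
      (d = q - 1 ∨ d = (q - 1) / 2 → r ∣ q - 1) := by
    intro r d hrd
    refine ⟨?_, ?_⟩ <;> rintro (rfl | rfl)
    · exact hrd
    · exact hrd.trans (Nat.div_dvd_of_dvd (by omega))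
    · exact hrd
    · exact hrd.trans (Nat.div_dvd_of_dvd (by omega))
  refine ⟨?_, fun r s => ?_⟩
  · ext r
    constructor
    · rintro ⟨hr, d, hdS, hrd⟩
      refine ⟨hr, ?_⟩
      rw [hsq]
      rcases hd d hdS with h | h | h | h | h | h
      · subst h; exact absurd (Nat.dvd_one.1 hrd) hr.one_lt.ne'
      · exact (h ▸ hrd).mul_right _
      · exact (((hhalf r d hrd).1 (Or.inl h)).mul_right _).mul_left _
      · exact (((hhalf r d hrd).2 (Or.inl h)).mul_left _).mul_left _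
      · exact (((hhalf r d hrd).1 (Or.inr h)).mul_right _).mul_left _
      · exact (((hhalf r d hrd).2 (Or.inr h)).mul_left _).mul_left _
    · rintro ⟨hr, hrd⟩
      refine ⟨hr, ?_⟩
      rw [hsq] at hrd
      rcases hr.dvd_mul.1 hrd with h | h
      · exact ⟨q, hq0, h⟩
      rcases hr.dvd_mul.1 h with h | h
      · exact ⟨q + 1, hqp, h⟩
      · exact ⟨q - 1, hqm, h⟩
  constructor
  · rintro ⟨hne, hr, hs, d, hdS, hrs⟩
    have h1 := (dvd_mul_right r s).trans hrs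
    have h2 := (dvd_mul_left s r).trans hrs
    refine ⟨hne, hr, hs, ?_⟩
    rw [hsq]
    rcases hd d hdS with h | h | h | h | h | h
    · subst h; exact absurd (Nat.dvd_one.1 h1) hr.one_lt.ne'
    · subst h; exact absurd ((hprimeq r hr h1).trans (hprimeq s hs h2).symm) hne
    · have a := (hhalf r d h1).1 (Or.inl h); have b := (hhalf s d h2).1 (Or.inl h)
      exact ⟨a.mul_right _, b.mul_right _, Or.inr (Or.inr (Or.inl ⟨a, b⟩))⟩
    · have a := (hhalf r d h1).2 (Or.inl h); have b := (hhalf s d h2).2 (Or.inl h)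
      exact ⟨a.mul_left _, b.mul_left _, Or.inr (Or.inr (Or.inr ⟨a, b⟩))⟩
    · have a := (hhalf r d h1).1 (Or.inr h); have b := (hhalf s d h2).1 (Or.inr h)
      exact ⟨a.mul_right _, b.mul_right _, Or.inr (Or.inr (Or.inl ⟨a, b⟩))⟩
    · have a := (hhalf r d h1).2 (Or.inr h); have b := (hhalf s d h2).2 (Or.inr h)
      exact ⟨a.mul_left _, b.mul_left _, Or.inr (Or.inr (Or.inr ⟨a, b⟩))⟩
  · rintro ⟨hne, hr, hs, hrd, hsd, h⟩
    refine ⟨hne, hr, hs, ?_⟩
    have hco : Nat.Coprime r s := (Nat.coprime_primes hr hs).2 hne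
    have hcase : (r ∣ q + 1 ∧ s ∣ q + 1) ∨ (r ∣ q - 1 ∧ s ∣ q - 1) := by
      rw [hsq] at hrd hsd
      rcases h with rfl | rfl | h | h
      · rcases hs.dvd_mul.1 hsd with h | h
        · exact Or.inl ⟨by omega, h⟩
        · exact Or.inr ⟨by omega, h⟩
      · rcases hr.dvd_mul.1 hrd with h | h
        · exact Or.inl ⟨h, by omega⟩
        · exact Or.inr ⟨h, by omega⟩
      · exact Or.inl h
      · exact Or.inr h
    rcases hcase with ⟨a, b⟩ | ⟨a, b⟩
    · exact ⟨q + 1, hqp, hco.mul_dvd_of_dvd_of_dvd a b⟩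
    · exact ⟨q - 1, hqm, hco.mul_dvd_of_dvd_of_dvd a b⟩

end Cfsg.Agent.S4774
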