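import Cfsg.Statements.S4775
import Cfsg.Agent.SuzukiDegrees.Degrees
import Cfsg.Agent.Suzuki.LieModel
import Cfsg.Agent.Characters.Linear
-- import your own Cfsg.Agent.* helpers here

set_option autoImplicit false
set_option linter.unusedSectionVars false
open Cfsg

namespace Cfsg.Agent.S4775

open CfsgLib.Suzuki

theorem charDegrees_subset {G H : Type*} [Group G] [Group H] (e : G ≃* H) :
    Cfsg.charDegrees H ⊆ Cfsg.charDegrees G := by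
  rintro _ ⟨χ, rfl⟩
  refine ⟨⟨_, CfsgLib.Characters.isIrr_comp e.toMonoidHom e.surjective χ.2⟩, ?_⟩
  simp [Cfsg.charDegree]

theorem charDegrees_congr {G H : Type*} [Group G] [Group H] (e : G ≃* H) :
    Cfsg.charDegrees G = Cfsg.charDegrees H :=
  Set.Subset.antisymm (charDegrees_subset e.symm) (charDegrees_subset e)

/-- The degree graph read off from the six degrees. -/
theorem graph_arith {D : Set ℕ} {q L n₁ n₂ u w : ℕ} (hD : D = {1, q ^ 2, q ^ 2 + 1, u * L, L * n₂, L * n₁})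
    (hn : n₁ * n₂ = q ^ 2 + 1) (hu : ∀ r : ℕ, r.Prime → r ∣ u → r = 2) (hu2 : 2 ∣ u)
    (hq : ∀ r : ℕ, r.Prime → r ∣ q → r = 2) (hq2 : 2 ∣ q)
    (hw : w = L * (q ^ 2 + 1)) :
    (∀ r : ℕ, (r.Prime ∧ ∃ d ∈ D, r ∣ d) ↔ (r.Prime ∧ (r = 2 ∨ r ∣ w))) ∧
    ∀ r s : ℕ, (r ≠ s ∧ r.Prime ∧ s.Prime ∧ ∃ d ∈ D, r * s ∣ d) ↔
      (r ≠ s ∧ r.Prime ∧ s.Prime ∧ ((r ∣ w ∧ s ∣ w) ∨ (r = 2 ∧ s ∣ L) ∨ (s = 2 ∧ r ∣ L))) := by
  have hwL : L ∣ w := hw ▸ Dvd.intro _ rfl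
  have hwN : q ^ 2 + 1 ∣ w := hw ▸ Dvd.intro_left _ rfl
  have h1 : L * n₁ ∣ w := by rw [hw, ← hn, ← mul_assoc]; exact dvd_mul_right _ _
  have h2 : L * n₂ ∣ w := by rw [hw, ← hn, mul_comm n₁, ← mul_assoc]; exact dvd_mul_right _ _
  have hcases : ∀ r : ℕ, r.Prime → r ∣ w → r ∣ L ∨ r ∣ n₁ ∨ r ∣ n₂ := fun r hr h => by
    rw [hw, ← hn] at h
    exact (hr.dvd_mul.1 h).imp_right hr.dvd_mul.1
  have mem : q ^ 2 ∈ D ∧ q ^ 2 + 1 ∈ D ∧ u * L ∈ D ∧ L * n₂ ∈ D ∧ L * n₁ ∈ D := by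
    rw [hD]
    simp
  subst hD
  refine ⟨fun r => ⟨?_, ?_⟩, fun r s => ⟨?_, ?_⟩⟩
  · rintro ⟨hr, d, hd, hrd⟩
    refine ⟨hr, ?_⟩
    simp only [Set.mem_insert_iff, Set.mem_singleton_iff] at hd
    rcases hd with rfl | rfl | rfl | rfl | rfl | rfl
    · exact absurd (Nat.dvd_one.1 hrd) hr.ne_one
    · exact Or.inl (hq r hr (hr.dvd_of_dvd_pow hrd))
    · exact Or.inr (hrd.trans hwN)
    · exact (hr.dvd_mul.1 hrd).imp (hu r hr) fun h => h.trans hwL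
    · exact Or.inr (hrd.trans h2)
    · exact Or.inr (hrd.trans h1)
  · rintro ⟨hr, rfl | h⟩
    · exact ⟨hr, _, mem.1, hq2.trans (dvd_pow_self q two_ne_zero)⟩
    · refine ⟨hr, ?_⟩
      rcases hcases r hr h with h | h | h
      · exact ⟨_, mem.2.2.1, h.mul_left _⟩
      · exact ⟨_, mem.2.2.2.2, h.mul_left _⟩
      · exact ⟨_, mem.2.2.2.1, h.mul_left _⟩
  · rintro ⟨hne, hr, hs, d, hd, hd'⟩
    refine ⟨hne, hr, hs, ?_⟩
    have hrd := (Dvd.intro s rfl).trans hd'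
    have hsd := (Dvd.intro_left r rfl).trans hd'
    simp only [Set.mem_insert_iff, Set.mem_singleton_iff] at hd
    rcases hd with rfl | rfl | rfl | rfl | rfl | rfl
    · exact absurd (Nat.dvd_one.1 hrd) hr.ne_one
    · exact absurd ((hq r hr (hr.dvd_of_dvd_pow hrd)).trans (hq s hs (hs.dvd_of_dvd_pow hsd)).symm) hne
    · exact Or.inl ⟨hrd.trans hwN, hsd.trans hwN⟩
    · rcases hr.dvd_mul.1 hrd with a | a <;> rcases hs.dvd_mul.1 hsd with b | b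
      · exact absurd ((hu r hr a).trans (hu s hs b).symm) hne
      · exact Or.inr (Or.inl ⟨hu r hr a, b⟩)
      · exact Or.inr (Or.inr ⟨hu s hs b, a⟩)
      · exact Or.inl ⟨a.trans hwL, b.trans hwL⟩
    · exact Or.inl ⟨hrd.trans h2, hsd.trans h2⟩
    · exact Or.inl ⟨hrd.trans h1, hsd.trans h1⟩
  · rintro ⟨hne, hr, hs, h⟩
    refine ⟨hne, hr, hs, ?_⟩
    have hc : Nat.Coprime r s := (Nat.coprime_primes hr hs).2 hne
    have both : ∀ d, r ∣ d → s ∣ d → r * s ∣ d := fun d a b => hc.mul_dvd_of_dvd_of_dvd a b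
    rcases h with ⟨a, b⟩ | ⟨rfl, b⟩ | ⟨rfl, a⟩
    · rcases hcases r hr a with a | a | a <;> rcases hcases s hs b with b | b | b
      · exact ⟨_, mem.2.2.1, both _ (a.mul_left _) (b.mul_left _)⟩
      · exact ⟨_, mem.2.2.2.2, both _ (a.mul_right _) (b.mul_left _)⟩
      · exact ⟨_, mem.2.2.2.1, both _ (a.mul_right _) (b.mul_left _)⟩
      · exact ⟨_, mem.2.2.2.2, both _ (a.mul_left _) (b.mul_right _)⟩
      · exact ⟨_, mem.2.1, both _ (hn ▸ a.mul_right _) (hn ▸ b.mul_right _)⟩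
      · exact ⟨_, mem.2.1, both _ (hn ▸ a.mul_right _) (hn ▸ b.mul_left _)⟩
      · exact ⟨_, mem.2.2.2.1, both _ (a.mul_left _) (b.mul_right _)⟩
      · exact ⟨_, mem.2.1, both _ (hn ▸ a.mul_left _) (hn ▸ b.mul_right _)⟩
      · exact ⟨_, mem.2.1, both _ (hn ▸ a.mul_left _) (hn ▸ b.mul_left _)⟩
    · exact ⟨_, mem.2.2.1, both _ (hu2.mul_right _) (b.mul_left _)⟩
    · exact ⟨_, mem.2.2.1, both _ (a.mul_left _) (hu2.mul_right _)⟩

/-- Let F be a finite field with q = 2^(2m+1) ≥ 8 elements and let S be isomorphic to the Suzuki group over F. Then the vertices of the character degree graph of S are 2 and the primes dividing (q − 1)(q² + 1); the primes dividing (q − 1)(q² + 1) are pairwise adjacent, and 2 is adjacent exactly to the primes dividing q − 1. -/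
theorem result (F : Type*) [Field F] [Fintype F] (m : ℕ) (hm : 1 ≤ m) (q : ℕ) (hq : Fintype.card F = q) (hqm : q = 2 ^ (2 * m + 1)) {S : Type*} [Group S] [Finite S] (hS : Nonempty (S ≃* ↥(Cfsg.Lie.Sz F (2 ^ (m + 1))))) : Cfsg.degreePrimes S = {r : ℕ | r.Prime ∧ (r = 2 ∨ r ∣ (q - 1) * (q ^ 2 + 1))} ∧ ∀ r s : ℕ, (Cfsg.degreeGraph S).Adj r s ↔ (r ≠ s ∧ r.Prime ∧ s.Prime ∧ ((r ∣ (q - 1) * (q ^ 2 + 1) ∧ s ∣ (q - 1) * (q ^ 2 + 1)) ∨ (r = 2 ∧ s ∣ q - 1) ∨ (s = 2 ∧ r ∣ q - 1))) := by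
  obtain ⟨e⟩ := hS
  have hSz : SzField F m := ⟨hm, hq.trans hqm⟩
  have hdeg : Cfsg.charDegrees S = _ :=
    (charDegrees_congr (e.trans (lieSzEquiv hSz).symm)).trans
      (CfsgLib.SuzukiDegrees.charDegrees_eq hSz)
  obtain ⟨q', r', hq', hr', hqF, h8, hrr, hrq, h4, hr2, hq2⟩ := Cfsg.Agent.S2238.sizes hSz
  obtain rfl : q' = q := hqF.symm.trans hq
  rw [hqF, ← hr'] at hdeg
  have hn : (q' + r' + 1) * (q' - r' + 1) = q' ^ 2 + 1 := by
    zify [hrq.le]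
    have : (r' : ℤ) * r' = 2 * q' := by exact_mod_cast hrr
    linear_combination -this
  have htwo : ∀ k p : ℕ, p.Prime → p ∣ 2 ^ k → p = 2 := fun k p hp h =>
    (Nat.prime_dvd_prime_iff_eq hp Nat.prime_two).1 (hp.dvd_of_dvd_pow h)
  obtain ⟨hv, he⟩ := graph_arith (D := Cfsg.charDegrees S) (q := q') (L := q' - 1)
    (u := 2 ^ m) (w := (q' - 1) * (q' ^ 2 + 1)) hdeg hn (htwo m) (dvd_pow_self 2 (by omega))
    (fun p hp h => htwo (2 * m + 1) p hp (hq' ▸ h)) hq2 rfl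
  refine ⟨?_, fun a b => he a b⟩
  ext p
  exact hv p

end Cfsg.Agent.S4775
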