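import Cfsg.Statements.S4776
import Cfsg.Agent.OddOrderChar.Clifford
import Cfsg.Agent.BlocksCharsC.Restriction
import Cfsg.Agent.Glauberman.Constituent
import Cfsg.Agent.CharactersDeep.LinearChar
import Cfsg.Agent.CharactersDeep.Clifford
import Cfsg.Agent.Blocks.Height
import Cfsg.Agent.Characters.Linear

set_option autoImplicit false
set_option linter.style.haveILetI false
set_option linter.unusedSectionVars false
open Cfsg

namespace Cfsg.Agent.S4776

open CfsgLib CfsgLib.Characters CfsgLib.OddOrderChar CfsgLib.CharactersDeep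

variable {G : Type*} [Group G] [Fintype G] (N : Subgroup G) [hNn : N.Normal] [Fintype N]

/-- The inertia subgroup of a function on `N`. -/
def inertia (x : N → ℂ) : Subgroup G where
  carrier := {g | conjBy N x g = x}
  one_mem' := conjBy_one N x
  mul_mem' {a b} ha hb := by
    show conjBy N x (a * b) = x
    rw [← conjBy_mul, ha, hb]
  inv_mem' {a} ha := by
    show conjBy N x a⁻¹ = x
    conv_lhs => rw [← ha, conjBy_mul, mul_inv_cancel, conjBy_one]

/-- A linear character as a function. -/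
def cf (f : N →* ℂˣ) : N → ℂ := fun n => (f n : ℂ)

/-- Conjugate of a linear character. -/
noncomputable def cj (f : N →* ℂˣ) (g : G) : N →* ℂˣ :=
  f.comp (MulAut.conjNormal (H := N) g).toMonoidHom

theorem conjBy_cf (f : N →* ℂˣ) (g : G) : conjBy N (cf N f) g = cf N (cj N f g) := by
  rw [conjBy_eq_comp]; rfl

theorem cf_injective : Function.Injective (cf N) := fun _ _ h =>
  MonoidHom.ext fun n => Units.ext (congrFun h n)

theorem cj_pow_eq_one {f : N →* ℂˣ} {k : ℕ} (h : f ^ k = 1) (g : G) (n : N) :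
    (cj N f g n : ℂ) ^ k = 1 := by
  rw [← Units.val_pow_eq_pow_val]
  exact congrArg Units.val (DFunLike.congr_fun h _)

theorem cj_eq_of_index_one {f : N →* ℂˣ} (h : (inertia N (cf N f)).index = 1) (g : G) :
    cj N f g = f := by
  refine cf_injective N ((conjBy_cf N f g).symm.trans ?_)
  have : g ∈ inertia N (cf N f) := (Subgroup.index_eq_one.1 h) ▸ Subgroup.mem_top g
  exact this

theorem conjBy_eq_iff (x : N → ℂ) (a b : G) :
    conjBy N x a = conjBy N x b ↔ a * b⁻¹ ∈ inertia N x := by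
  show _ ↔ conjBy N x (a * b⁻¹) = x
  constructor
  · intro h
    rw [← conjBy_mul, h, conjBy_mul, mul_inv_cancel, conjBy_one]
  · intro h
    conv_rhs => rw [← h, conjBy_mul, inv_mul_cancel_right]

/-- Coprime orbits are permuted transitively in pairs. -/
theorem pair_transitive {x y : N → ℂ}
    (h : Nat.Coprime (inertia N x).index (inertia N y).index) (a b : G) :
    ∃ k : G, conjBy N x k = conjBy N x a ∧ conjBy N y k = conjBy N y b := by
  classical
  set A := inertia N x
  set B := inertia N y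
  let F : G ⧸ (A ⊓ B) → (G ⧸ A) × (G ⧸ B) := fun q =>
    (Subgroup.quotientMapOfLE inf_le_left q, Subgroup.quotientMapOfLE inf_le_right q)
  have hinj : Function.Injective F := by
    intro q r hqr
    obtain ⟨u, rfl⟩ := QuotientGroup.mk_surjective q
    obtain ⟨v, rfl⟩ := QuotientGroup.mk_surjective r
    simp only [F, Prod.mk.injEq, Subgroup.quotientMapOfLE_apply_mk, QuotientGroup.eq] at hqr
    exact QuotientGroup.eq.2 hqr
  have hle : Nat.card ((G ⧸ A) × (G ⧸ B)) ≤ Nat.card (G ⧸ (A ⊓ B)) := by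
    rw [Nat.card_prod]
    exact Nat.le_of_dvd Nat.card_pos
      (h.mul_dvd_of_dvd_of_dvd (Subgroup.index_dvd_of_le inf_le_left)
        (Subgroup.index_dvd_of_le inf_le_right))
  obtain ⟨q, hq⟩ := (hinj.bijective_of_nat_card_le hle).2
    (QuotientGroup.mk a⁻¹, QuotientGroup.mk b⁻¹)
  obtain ⟨u, rfl⟩ := QuotientGroup.mk_surjective q
  simp only [F, Prod.mk.injEq, Subgroup.quotientMapOfLE_apply_mk, QuotientGroup.eq] at hq
  refine ⟨u⁻¹, ?_, ?_⟩
  · rw [conjBy_eq_iff]
    exact hq.1
  · rw [conjBy_eq_iff]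
    exact hq.2

/-- If the orbit of `x * y` is coprime to that of `y`, products move inside the orbit of `x`. -/
theorem stable {x y : N → ℂ}
    (h1 : Nat.Coprime (inertia N (x * y)).index (inertia N y).index)
    (h2 : Nat.Coprime (inertia N x).index (inertia N y).index) (g a b : G) :
    ∃ k : G, ∀ n, conjBy N x g n * conjBy N y a n = conjBy N x k n * conjBy N y b n := by
  obtain ⟨k0, hk0, hk0'⟩ := pair_transitive N h2 g a
  obtain ⟨k, hk, hk'⟩ := pair_transitive N h1 k0 b
  refine ⟨k, fun n => ?_⟩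
  rw [← hk0, ← hk0', ← hk']
  exact (congrFun hk n).symm

/-- A linear character of order `p` fixes no character of degree prime to `p`. -/
theorem translation_free {p : ℕ} [Fact p.Prime] {μ : N →* ℂˣ} (hμ : μ ^ p = 1)
    {ψ : Cfsg.IrrCharacter N} (hd : ¬ p ∣ Cfsg.charDegree (ψ : N → ℂ))
    (h : ∀ n, (μ n : ℂ) * (ψ : N → ℂ) n = (ψ : N → ℂ) n) : μ = 1 := by
  obtain ⟨d, τ, -, hτ⟩ := id ψ.2
  obtain ⟨σ, hσc, hσd⟩ := LinearChar.detChar_smul μ τ
  have hdd : Module.finrank ℂ (Fin d → ℂ) = Cfsg.charDegree (ψ : N → ℂ) := by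
    apply Nat.cast_injective (R := ℂ)
    rw [Blocks.charDegree_cast ψ, ← hτ, Representation.char_one]
  have hch : σ.character = τ.character := by rw [hσc, hτ]; exact funext h
  have hdet : ∀ n, LinearMap.det (σ n) = LinearMap.det (τ n) := fun n =>
    (congrFun (LinearChar.detChar_eq σ) n).symm.trans
      ((congrArg (fun F => Cfsg.detChar F n) hch).trans (congrFun (LinearChar.detChar_eq τ) n))
  have hpow : μ ^ Cfsg.charDegree (ψ : N → ℂ) = 1 := by
    refine MonoidHom.ext fun n => Units.ext ?_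
    have h1 := hσd n
    rw [hdet, hdd] at h1
    rw [MonoidHom.pow_apply, Units.val_pow_eq_pow_val, MonoidHom.one_apply, Units.val_one]
    exact (mul_eq_right₀ (show LinearMap.det (τ n) ≠ 0 by
      rw [← LinearChar.detHom_apply]; exact Units.ne_zero _)).1 h1.symm
  have hco : Nat.Coprime p (Cfsg.charDegree (ψ : N → ℂ)) :=
    (Fact.out : p.Prime).coprime_iff_not_dvd.2 hd
  exact orderOf_eq_one_iff.1 (Nat.eq_one_of_dvd_coprimes hco (orderOf_dvd_of_pow_eq_one (x := μ) hμ)
    (orderOf_dvd_of_pow_eq_one (x := μ) hpow))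

/-- An orbit stable under a fixed point free translation of order `p` has size divisible by `p`. -/
theorem translation_dvd {p : ℕ} [Fact p.Prime] (x : N → ℂ) (μ : N →* ℂˣ) (hμ : μ ^ p = 1)
    (hst : ∀ g, ∃ k, ∀ n, conjBy N x g n * (μ n : ℂ) = conjBy N x k n)
    (hfree : ∀ g, ¬ ∀ n, conjBy N x g n * (μ n : ℂ) = conjBy N x g n) :
    p ∣ (inertia N x).index := by
  classical
  rw [← card_conjOrbit N x (inertia N x) fun g => Iff.rfl]
  have hmem : ∀ ψ ∈ conjOrbit N x, (fun n => ψ n * (μ n : ℂ)) ∈ conjOrbit N x := by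
    intro ψ hψ
    obtain ⟨g, rfl⟩ := (mem_conjOrbit N).1 hψ
    obtain ⟨k, hk⟩ := hst g
    exact (mem_conjOrbit N).2 ⟨k, funext fun n => (hk n).symm⟩
  let f : Function.End ↥(conjOrbit N x) := fun ψ => ⟨_, hmem ψ.1 ψ.2⟩
  have hf : ∀ (i : ℕ) (ψ : ↥(conjOrbit N x)) (n : N),
      ((f ^ i) ψ : N → ℂ) n = (ψ : N → ℂ) n * (μ n : ℂ) ^ i := by
    intro i
    induction i with
    | zero =>
      intro ψ n
      show (ψ : N → ℂ) n = _
      rw [pow_zero, mul_one]
    | succ i ih =>
      intro ψ n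
      rw [show f ^ (i + 1) = f * f ^ i from pow_succ' f i]
      show ((f ^ i) ψ : N → ℂ) n * (μ n : ℂ) = _
      rw [ih, pow_succ]; ring
  have hfp : f ^ p ^ 1 = 1 := by
    funext ψ
    refine Subtype.ext (funext fun n => ?_)
    rw [pow_one, hf, ← Units.val_pow_eq_pow_val, show μ n ^ p = 1 from DFunLike.congr_fun hμ n,
      Units.val_one, mul_one]
    rfl
  have h := Equiv.Perm.card_fixedPoints_modEq hfp
  have h0 : Fintype.card (Function.fixedPoints f) = 0 := by
    rw [Fintype.card_eq_zero_iff]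
    refine ⟨fun ψ => ?_⟩
    obtain ⟨g, hg⟩ := (mem_conjOrbit N).1 ψ.1.2
    refine hfree g fun n => ?_
    have h' := congrFun (congrArg Subtype.val ψ.2) n
    rw [hg]
    exact h'
  rw [h0, Fintype.card_coe] at h
  exact Nat.modEq_zero_iff_dvd.1 h

theorem det_of_char_eq_sum {ι : Type*} [Fintype ι] [DecidableEq ι] {d n : ℕ}
    (τ : ι → Representation ℂ N (Fin d → ℂ)) (ρ : Representation ℂ N (Fin n → ℂ))
    (h : ρ.character = ∑ i, (τ i).character) (x : N) :
    LinearMap.det (ρ x) = ∏ i, LinearMap.det (τ i x) := by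
  let R : Representation ℂ N (Fin d × ι → ℂ) :=
    { toFun := fun y => Matrix.toLin' (Matrix.blockDiagonal fun i => LinearMap.toMatrix' (τ i y))
      map_one' := by
        simp only [map_one, LinearMap.toMatrix'_one]
        rw [show (fun _ : ι => (1 : Matrix (Fin d) (Fin d) ℂ)) = 1 from rfl,
          Matrix.blockDiagonal_one, Matrix.toLin'_one]
        rfl
      map_mul' := fun a b => by
        simp only [map_mul, LinearMap.toMatrix'_mul]
        rw [Matrix.blockDiagonal_mul, Matrix.toLin'_mul]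
        rfl }
  have hc : ρ.character = R.character := by
    funext y
    rw [h, Finset.sum_apply]
    show _ = LinearMap.trace ℂ _ (Matrix.toLin' _)
    rw [Matrix.trace_toLin'_eq]
    simp only [Matrix.trace, Matrix.diag, Matrix.blockDiagonal_apply, if_true,
      Fintype.sum_prod_type]
    rw [Finset.sum_comm]
    refine Finset.sum_congr rfl fun i _ => ?_
    rw [Representation.character, LinearMap.trace_eq_matrix_trace ℂ (Pi.basisFun ℂ (Fin d)),
      LinearMap.toMatrix_eq_toMatrix']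
    rfl
  have h1 := (congrFun (LinearChar.detChar_eq ρ) x).symm.trans
    ((congrArg (fun F => Cfsg.detChar F x) hc).trans (congrFun (LinearChar.detChar_eq R) x))
  rw [h1, show R x = Matrix.toLin' (Matrix.blockDiagonal fun i => LinearMap.toMatrix' (τ i x)) from rfl,
    LinearMap.det_toLin', Matrix.det_blockDiagonal]
  exact Finset.prod_congr rfl fun i _ => by rw [LinearMap.det_toMatrix']

/-- The data of a character over `x`: its degree and the triviality of the determinant on `N`. -/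
theorem over_data (hNG : N ≤ commutator G) {χ : G → ℂ} (hχ : Cfsg.IsIrrCharacter G χ)
    {θ : N → ℂ} (hθ : Cfsg.IsIrrCharacter N θ)
    (hne : Cfsg.classInner (fun n : N => χ n) θ ≠ 0) (T : Subgroup G) [Fintype (G ⧸ T)]
    (hT : ∀ g : G, g ∈ T ↔ conjBy N θ g = θ) :
    ∃ e : ℕ, Cfsg.charDegree χ = e * (T.index * Cfsg.charDegree θ) ∧
      ∀ {d : ℕ} (τ : Representation ℂ N (Fin d → ℂ)), τ.character = θ → ∀ n : N,
        (∏ q : G ⧸ T, LinearMap.det (τ (MulAut.conjNormal (H := N) q.out⁻¹ n))) ^ e = 1 := by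
  classical
  obtain ⟨e, he⟩ := classInner_character_irr (isCharacter_restrict N (isCharacter_of_isIrr hχ)) hθ
  refine ⟨e, ?_, fun {d} τ hτ n => ?_⟩
  · apply Nat.cast_injective (R := ℂ)
    push_cast
    rw [Blocks.charDegree_cast (⟨χ, hχ⟩ : Cfsg.IrrCharacter G),
      Blocks.charDegree_cast (⟨θ, hθ⟩ : Cfsg.IrrCharacter N), ← he]
    exact clifford_degree N hχ hθ T hT hne
  obtain ⟨m, ρ, -, hρ⟩ := id hχ
  let ρN : Representation ℂ N (Fin m → ℂ) := ρ.comp N.subtype
  let τ' : (Fin e × (G ⧸ T)) → Representation ℂ N (Fin d → ℂ) := fun i =>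
    τ.comp (MulAut.conjNormal (H := N) i.2.out⁻¹).toMonoidHom
  have hτ' : ∀ i, (τ' i).character = conjBy N θ i.2.out⁻¹ := fun i => by
    rw [conjBy_eq_comp, ← hτ]; rfl
  have himg : conjOrbit N θ = Finset.univ.image fun q : G ⧸ T => conjBy N θ q.out⁻¹ := by
    ext ψ
    simp only [mem_conjOrbit, Finset.mem_image, Finset.mem_univ, true_and]
    refine ⟨fun ⟨g, hg⟩ => ⟨QuotientGroup.mk g⁻¹, ?_⟩, fun ⟨q, hq⟩ => ⟨_, hq⟩⟩
    rw [← hg]
    obtain ⟨t, ht⟩ := QuotientGroup.mk_out_eq_mul T g⁻¹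
    rw [ht, mul_inv_rev, inv_inv, ← conjBy_mul, (hT _).1 (inv_mem t.2)]
  have hinj : Function.Injective fun q : G ⧸ T => conjBy N θ q.out⁻¹ := by
    intro q r hqr
    simp only at hqr
    rw [← q.out_eq', ← r.out_eq', QuotientGroup.eq]
    have := congrArg (fun F => conjBy N F r.out) hqr
    simp only [conjBy_mul, inv_mul_cancel, conjBy_one] at this
    exact (hT _).2 this
  have hchar : ρN.character = ∑ i, (τ' i).character := by
    rw [Finset.sum_congr rfl fun i _ => hτ' i, Fintype.sum_prod_type]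
    simp only [Finset.sum_const, Finset.card_univ, Fintype.card_fin]
    rw [show ρN.character = fun x : N => χ x by rw [← hρ]; rfl,
      clifford_restrict N hχ hθ hne, he, himg, Finset.sum_image fun a _ b _ h => hinj h]
    funext x
    simp [nsmul_eq_mul]
  have h1 := det_of_char_eq_sum N τ' ρN hchar n
  have h2 : LinearMap.det (ρN n) = 1 := by
    have := MonoidHom.mem_ker.1
      (Abelianization.commutator_subset_ker (LinearChar.detHom ρ) (hNG n.2))
    show LinearMap.det (ρ (n : G)) = 1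
    rw [← LinearChar.detHom_apply, this, Units.val_one]
  rw [h2, Fintype.prod_prod_type] at h1
  change (1 : ℂ) = ∏ _x : Fin e, ∏ y : G ⧸ T,
    LinearMap.det (τ (MulAut.conjNormal (H := N) y.out⁻¹ n)) at h1
  rw [Finset.prod_const, Finset.card_univ, Fintype.card_fin] at h1
  exact h1.symm

theorem over_data_lin (hNG : N ≤ commutator G) {χ : G → ℂ} (hχ : Cfsg.IsIrrCharacter G χ)
    (f : N →* ℂˣ) [Fintype (G ⧸ inertia N (cf N f))]
    (hne : Cfsg.classInner (fun n : N => χ n) (cf N f) ≠ 0) :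
    ∃ e : ℕ, Cfsg.charDegree χ = e * (inertia N (cf N f)).index ∧
      ∀ n : N,
        (∏ q : G ⧸ inertia N (cf N f), (cj N f q.out⁻¹ n : ℂ)) ^ e = 1 := by
  obtain ⟨e, he, hdet⟩ := over_data N hNG hχ (isIrr_linChar f) hne (inertia N (cf N f))
    fun g => Iff.rfl
  refine ⟨e, ?_, fun n => ?_⟩
  · rwa [show Cfsg.charDegree (fun n : N => (f n : ℂ)) = 1 by simp [Cfsg.charDegree],
      mul_one] at he
  convert hdet (LinearChar.lineRep f) (LinearChar.lineRep_character f) n using 3
  simp [cj, LinearChar.lineRep]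

theorem exists_over_deg (x : N → ℂ) (hx : Cfsg.IsIrrCharacter N x) (hne : ∃ n, x n ≠ x 1) :
    ∃ η : G → ℂ, Cfsg.IsIrrCharacter G η ∧ Cfsg.classInner (fun n : N => η n) x ≠ 0 ∧
      Cfsg.charDegree η ∈ Cfsg.relCharDegrees N := by
  obtain ⟨η, hη, hin⟩ := CharactersDeep.Clifford.exists_over N hx
  refine ⟨η, hη, hin, ⟨η, hη⟩, ?_, rfl⟩
  by_contra hall
  push Not at hall
  obtain ⟨n, hn⟩ := hne
  exact hn (BlocksCharsC.constituent_eq_degree (isCharacter_restrict N (isCharacter_of_isIrr hη))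
    hx hin (hall n n.2))

theorem index_dvd_deg {η : G → ℂ} (hη : Cfsg.IsIrrCharacter G η) {x : N → ℂ}
    (hx : Cfsg.IsIrrCharacter N x) (hin : Cfsg.classInner (fun n : N => η n) x ≠ 0) :
    (inertia N x).index ∣ Cfsg.charDegree η ∧ Cfsg.charDegree x ∣ Cfsg.charDegree η := by
  obtain ⟨e, he⟩ := classInner_character_irr (isCharacter_restrict N (isCharacter_of_isIrr hη)) hx
  have h : Cfsg.charDegree η = e * ((inertia N x).index * Cfsg.charDegree x) := by
    apply Nat.cast_injective (R := ℂ)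
    push_cast
    rw [Blocks.charDegree_cast (⟨η, hη⟩ : Cfsg.IrrCharacter G),
      Blocks.charDegree_cast (⟨x, hx⟩ : Cfsg.IrrCharacter N), ← he]
    exact clifford_degree N hη hx _ (fun g => Iff.rfl) hin
  exact ⟨h ▸ (dvd_mul_right _ _).mul_left _, h ▸ (dvd_mul_left _ _).mul_left _⟩

omit [Fintype G] hNn [Fintype N] in
theorem reach_of_share {r : ℕ} (hr : r.Prime) (x y : ↥(Cfsg.relCharDegrees N))
    (hx : r ∣ (x : ℕ)) (hy : r ∣ (y : ℕ)) :
    (Cfsg.commonDivisorGraph.induce (Cfsg.relCharDegrees N)).Reachable x y := by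
  by_cases h : x = y
  · rw [h]
  refine SimpleGraph.Adj.reachable ⟨fun he => h (Subtype.ext he), ?_⟩
  suffices h0 : 0 < (x : ℕ) from
    hr.one_lt.trans_le (Nat.le_of_dvd (Nat.gcd_pos_of_pos_left _ h0) (Nat.dvd_gcd hx hy))
  obtain ⟨χ, -, hd⟩ := x.2
  rw [← hd]
  refine Nat.pos_of_ne_zero fun h0 => ?_
  obtain ⟨n, ρ, hirr, hρ⟩ := χ.2
  haveI := hirr
  haveI := nontrivial_of_isIrreducible ρ
  have h1 : Cfsg.charDegree (χ : G → ℂ) = n := by
    rw [Cfsg.charDegree, ← hρ, Representation.char_one]; simp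
  obtain ⟨v, hv⟩ := exists_ne (0 : Fin n → ℂ)
  exact hv (funext fun i => absurd i.isLt (by omega))

theorem reach_of_not_coprime {x y : ↥(Cfsg.relCharDegrees N)} {u v : ℕ} (h : ¬ Nat.Coprime u v)
    (hu : u ∣ (x : ℕ)) (hv : v ∣ (y : ℕ)) :
    (Cfsg.commonDivisorGraph.induce (Cfsg.relCharDegrees N)).Reachable x y := by
  obtain ⟨r, hr, h1, h2⟩ := Nat.Prime.not_coprime_iff_dvd.1 h
  exact reach_of_share N hr x y (h1.trans hu) (h2.trans hv)

/-- For two primes the hubs are connected. -/
theorem reach_hubs {r q : ℕ} [Fact r.Prime] [Fact q.Prime] (hrq : r ≠ q) (l : N →* ℂˣ)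
    (μ : N →* ℂˣ) (hl : l ^ r = 1) (hμ : μ ^ q = 1) (hμ1 : μ ≠ 1)
    (hs : (inertia N (cf N l)).index ≠ 1) (hs' : (inertia N (cf N μ)).index ≠ 1)
    (x y : ↥(Cfsg.relCharDegrees N)) (hx : (inertia N (cf N l)).index ∣ (x : ℕ))
    (hy : (inertia N (cf N μ)).index ∣ (y : ℕ)) :
    (Cfsg.commonDivisorGraph.induce (Cfsg.relCharDegrees N)).Reachable x y := by
  have hr : r.Prime := Fact.out
  have hq : q.Prime := Fact.out
  have hco : Nat.Coprime r q := (Nat.coprime_primes hr hq).2 hrq
  obtain ⟨i, hi⟩ := exists_pow_pow' hl hco.symm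
  obtain ⟨j, hj⟩ := exists_pow_pow' hμ hco
  have hl' : (l * μ) ^ (q * i) = l := by
    refine MonoidHom.ext fun n => ?_
    rw [MonoidHom.pow_apply, MonoidHom.mul_apply, mul_pow, pow_mul, pow_mul (μ n),
      show μ n ^ q = 1 from DFunLike.congr_fun hμ n, one_pow, mul_one]
    exact DFunLike.congr_fun hi n
  have hμ' : (l * μ) ^ (r * j) = μ := by
    refine MonoidHom.ext fun n => ?_
    rw [MonoidHom.pow_apply, MonoidHom.mul_apply, mul_pow, pow_mul,
      show l n ^ r = 1 from DFunLike.congr_fun hl n, one_pow, one_mul, pow_mul]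
    exact DFunLike.congr_fun hj n
  have hne : l * μ ≠ 1 := fun h => hμ1 (MonoidHom.ext fun n => by
    rw [← hμ', h, MonoidHom.pow_apply, MonoidHom.one_apply, one_pow])
  obtain ⟨η, hη, hin, hmem⟩ := exists_over_deg N (cf N (l * μ)) (isIrr_linChar _) (by
    by_contra hall
    push Not at hall
    refine hne (MonoidHom.ext fun n => Units.ext ?_)
    have := hall n
    simpa [cf] using this)
  have hd := (index_dvd_deg N hη (isIrr_linChar _) hin).1
  have hsub : ∀ k, inertia N (cf N (l * μ)) ≤ inertia N (cf N ((l * μ) ^ k)) := by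
    intro k g hg
    show conjBy N _ g = _
    funext n
    have h1 := congrFun (hg : conjBy N (cf N (l * μ)) g = _) n
    simp only [conjBy_apply, cf, MonoidHom.pow_apply, Units.val_pow_eq_pow_val] at h1 ⊢
    rw [h1]
  have h1 := Subgroup.index_dvd_of_le (hsub (q * i))
  have h2 := Subgroup.index_dvd_of_le (hsub (r * j))
  rw [hl'] at h1
  rw [hμ'] at h2
  refine (reach_of_not_coprime N (fun h => hs (Nat.coprime_self _ |>.1 h)) hx (h1.trans hd)
    (y := ⟨_, hmem⟩)).trans ?_
  exact reach_of_not_coprime N (fun h => hs' (Nat.coprime_self _ |>.1 h)) (h2.trans hd) hy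
where
  exists_pow_pow' {r d : ℕ} {f : N →* ℂˣ} (hf : f ^ r = 1) (hd : d.Coprime r) :
      ∃ i : ℕ, (f ^ d) ^ i = f :=
    exists_pow_eq_self_of_coprime (x := f) (hd.coprime_dvd_right (orderOf_dvd_of_pow_eq_one (x := f) hf))

/-- For a prime dividing `[N : N']` there is a hub degree, connected to all degrees prime to it. -/
theorem exists_hub {p : ℕ} [Fact p.Prime] (hNG : N ≤ commutator G)
    (hp : p ∣ (commutator N).index) :
    ∃ (lam : N →* ℂˣ) (_ : lam ^ p = 1) (_ : lam ≠ 1)
      (_ : ¬ p ∣ (inertia N (cf N lam)).index) (b : ℕ) (hb : b ∈ Cfsg.relCharDegrees N)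
      (_ : (inertia N (cf N lam)).index ∣ b)
      (_ : (inertia N (cf N lam)).index = 1 → p ∣ b),
      ∀ a : ↥(Cfsg.relCharDegrees N), ¬ p ∣ (a : ℕ) →
        (Cfsg.commonDivisorGraph.induce (Cfsg.relCharDegrees N)).Reachable a ⟨b, hb⟩ := by
  classical
  have hpp : p.Prime := Fact.out
  haveI : Finite (N →* ℂˣ) := Finite.of_equiv _ (linearCharEquiv (G := N)).symm
  have hcard : p ∣ Nat.card (N →* ℂˣ) := by
    rwa [Nat.card_congr (linearCharEquiv (G := N)), card_linear_char]
  obtain ⟨l0, hl0⟩ := exists_prime_orderOf_dvd_card' (G := N →* ℂˣ) p hcard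
  -- a fixed point of a Sylow subgroup on the characters of exponent `p`
  let D : Subgroup (N →* ℂˣ) := (powMonoidHom p).ker
  have hD : ∀ f : N →* ℂˣ, f ∈ D ↔ f ^ p = 1 := fun f => Iff.rfl
  obtain ⟨P⟩ : Nonempty (Sylow p G) := inferInstance
  letI : MulAction (P : Subgroup G) D :=
    { smul := fun u f => ⟨cj N f (u : G)⁻¹, (hD _).2 (MonoidHom.ext fun n =>
          Units.ext (by simpa using cj_pow_eq_one N ((hD _).1 f.2) (u : G)⁻¹ n))⟩
      one_smul := fun f => Subtype.ext (MonoidHom.ext fun n => by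
        show (f : N →* ℂˣ) _ = _
        congr 1
        exact Subtype.ext (by simp))
      mul_smul := fun u v f => Subtype.ext (MonoidHom.ext fun n => by
        show (f : N →* ℂˣ) _ = (f : N →* ℂˣ) _
        congr 1
        exact Subtype.ext (by simp [mul_assoc])) }
  have hDp : p ∣ Nat.card D := by
    have hmem : l0 ∈ D := (hD _).2 (hl0 ▸ pow_orderOf_eq_one l0)
    exact hl0 ▸ Subgroup.orderOf_dvd_natCard D hmem
  have hfix := P.2.card_modEq_card_fixedPoints D
  have hone : (1 : D) ∈ MulAction.fixedPoints (P : Subgroup G) D := fun u => Subtype.ext rfl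
  have hfd : p ∣ Nat.card (MulAction.fixedPoints (P : Subgroup G) D) :=
    Nat.modEq_zero_iff_dvd.1 (hfix.symm.trans (Nat.modEq_zero_iff_dvd.2 hDp))
  haveI : Nonempty (MulAction.fixedPoints (P : Subgroup G) D) := ⟨⟨1, hone⟩⟩
  haveI : Nontrivial (MulAction.fixedPoints (P : Subgroup G) D) :=
    Finite.one_lt_card_iff_nontrivial.1
      (lt_of_lt_of_le hpp.one_lt (Nat.le_of_dvd Nat.card_pos hfd))
  obtain ⟨⟨⟨lam, hlam⟩, hlamfix⟩, hlamne⟩ :=
    exists_ne (⟨1, hone⟩ : MulAction.fixedPoints (P : Subgroup G) D)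
  have hl1 : lam ≠ 1 := fun h => hlamne (Subtype.ext (Subtype.ext h))
  have hlp : lam ^ p = 1 := (hD _).1 hlam
  have hPle : (P : Subgroup G) ≤ inertia N (cf N lam) := by
    intro u hu
    have h := congrArg Subtype.val (hlamfix ⟨u⁻¹, inv_mem hu⟩)
    show conjBy N _ u = _
    rw [conjBy_cf]
    refine congrArg (cf N) (Eq.trans ?_ h)
    show cj N lam u = cj N lam (u⁻¹)⁻¹
    rw [inv_inv]
  have hs : ¬ p ∣ (inertia N (cf N lam)).index := fun h =>
    P.not_dvd_index (h.trans (Subgroup.index_dvd_of_le hPle))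
  set s := (inertia N (cf N lam)).index with hsdef
  have hne1 : ∀ f : N →* ℂˣ, f ≠ 1 → ∃ n, cf N f n ≠ cf N f 1 := by
    intro f hf
    by_contra hall
    push Not at hall
    exact hf (MonoidHom.ext fun n => Units.ext (by simpa [cf] using hall n))
  obtain ⟨χ₀, hχ₀, hin₀, hb⟩ := exists_over_deg N _ (isIrr_linChar lam) (hne1 lam hl1)
  have hinvb : s = 1 → p ∣ Cfsg.charDegree χ₀ := by
    intro h1
    haveI := Fintype.ofFinite (G ⧸ inertia N (cf N lam))
    obtain ⟨e, he, hdet⟩ := over_data_lin N hNG hχ₀ lam hin₀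
    have hpe : lam ^ e = 1 := by
      refine MonoidHom.ext fun n => Units.ext ?_
      have h := hdet n
      rw [Finset.prod_congr rfl fun q _ => by rw [cj_eq_of_index_one N h1],
        Finset.prod_const, Finset.card_univ, ← Nat.card_eq_fintype_card,
        ← Subgroup.index_eq_card, ← hsdef, h1, pow_one] at h
      simpa using h
    rw [he, ← hsdef, h1, mul_one, ← orderOf_eq_prime (x := lam) hlp hl1]
    exact orderOf_dvd_of_pow_eq_one (x := lam) hpe
  refine ⟨lam, hlp, hl1, hs, _, hb, (index_dvd_deg N hχ₀ (isIrr_linChar lam) hin₀).1, hinvb,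
    fun ⟨a, haS⟩ hpa => ?_⟩
  obtain ⟨χ, ⟨x0, hx0, hx0'⟩, rfl⟩ := id haS
  change ¬ p ∣ Cfsg.charDegree (χ : G → ℂ) at hpa
  -- a constituent, nontrivial on `N`
  obtain ⟨θ, hθ, hin⟩ := exists_constituent
    (isCharacter_restrict N (isCharacter_of_isIrr χ.2)) (fun h => by
      have := congrFun h 1
      simp only [Pi.zero_apply, OneMemClass.coe_one] at this
      exact irr_one_ne_zero χ.2 this)
  set T := inertia N θ with hTdef
  haveI := Fintype.ofFinite (G ⧸ T)
  obtain ⟨e, he, hdet⟩ := over_data N hNG χ.2 hθ hin T fun g => Iff.rfl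
  set d := Cfsg.charDegree θ with hd
  have hd1 : ¬ p ∣ d := fun h => hpa (he.symm ▸ (h.mul_left _).mul_left _)
  have hsθ : ¬ p ∣ T.index := fun h => hpa (he.symm ▸ (h.mul_right _).mul_left _)
  have he' : ¬ p ∣ e := fun h => hpa (he.symm ▸ h.mul_right _)
  have hta : T.index ∣ Cfsg.charDegree (χ : G → ℂ) := (index_dvd_deg N χ.2 hθ hin).1
  have hda : d ∣ Cfsg.charDegree (χ : G → ℂ) := (index_dvd_deg N χ.2 hθ hin).2
  by_cases hco : Nat.Coprime (Cfsg.charDegree (χ : G → ℂ)) (Cfsg.charDegree χ₀)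
  swap
  · exact reach_of_not_coprime N hco dvd_rfl dvd_rfl
  have hts : Nat.Coprime T.index s :=
    (hco.coprime_dvd_left hta).coprime_dvd_right (index_dvd_deg N hχ₀ (isIrr_linChar lam) hin₀).1
  have hlne : ∀ n, cf N lam n ≠ 0 := fun n => Units.ne_zero _
  set ξ : N → ℂ := θ * cf N lam with hξdef
  have hξ : Cfsg.IsIrrCharacter N ξ := Glauberman.isIrr_mul_hom hθ lam
  have hξd : Cfsg.charDegree ξ = d := by simp [hd, Cfsg.charDegree, hξdef, cf]
  -- `θ * lam` is not trivial
  have hξne : ∃ n, ξ n ≠ ξ 1 := by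
    by_contra hall
    push Not at hall
    have hd2 : d = 1 := by
      have h1 := classInner_isIrr_self hξ
      have hval : ∀ n, ξ n = (d : ℂ) := fun n => by
        rw [hall n, ← hξd]; exact (Blocks.charDegree_cast (⟨ξ, hξ⟩ : Cfsg.IrrCharacter N)).symm
      rw [Cfsg.classInner] at h1
      simp only [hval, map_natCast, Finset.sum_const, Finset.card_univ, nsmul_eq_mul] at h1
      rw [← Nat.card_eq_fintype_card, inv_mul_cancel_left₀ (Nat.cast_ne_zero.2 Nat.card_pos.ne')] at h1
      have : d * d = 1 := by exact_mod_cast h1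
      exact Nat.eq_one_of_mul_eq_one_left this
    obtain ⟨f, rfl⟩ := exists_hom_of_degree_one (isCharacter_of_isIrr hθ) ((Blocks.charDegree_cast (⟨θ, hθ⟩ : Cfsg.IrrCharacter N)).symm.trans (by
      show ((d : ℕ) : ℂ) = 1
      rw [hd2, Nat.cast_one]))
    have hf : f = lam⁻¹ := MonoidHom.ext fun n => eq_inv_of_mul_eq_one_left (Units.ext (by
      simpa [hξdef, cf] using hall n))
    have hTl : T = inertia N (cf N lam) := by
      ext g
      show conjBy N (fun n => (f n : ℂ)) g = (fun n => (f n : ℂ)) ↔ conjBy N (cf N lam) g = cf N lam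
      simp only [funext_iff, conjBy_apply, cf, hf, MonoidHom.inv_apply, Units.val_inv_eq_inv_val,
        inv_inj]
    have h1 : s = 1 := by rw [hTl] at hts; exact Nat.coprime_self _ |>.1 hts
    haveI := Fintype.ofFinite (G ⧸ inertia N (cf N f))
    obtain ⟨e₂, he₂, hdet₂⟩ := over_data_lin N hNG χ.2 f hin
    have hidx : (inertia N (cf N f)).index = 1 := by
      rw [← h1, hsdef, ← hTl]; rfl
    refine hpa ?_
    rw [he₂, hidx, mul_one, ← orderOf_eq_prime (x := lam) hlp hl1]
    refine orderOf_dvd_of_pow_eq_one ?_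
    have hfe : f ^ e₂ = 1 := by
      refine MonoidHom.ext fun n => Units.ext ?_
      have h := hdet₂ n
      rw [Finset.prod_congr rfl fun q _ => by rw [cj_eq_of_index_one N hidx],
        Finset.prod_const, Finset.card_univ, ← Nat.card_eq_fintype_card,
        ← Subgroup.index_eq_card, hidx, pow_one] at h
      simpa using h
    rw [hf] at hfe
    refine MonoidHom.ext fun n => ?_
    simpa using DFunLike.congr_fun hfe n
  obtain ⟨η, hη, hinη, hcS⟩ := exists_over_deg N ξ hξ hξne
  obtain ⟨hξc, hdc⟩ := index_dvd_deg N hη hξ hinη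
  rw [hξd] at hdc
  -- a linear constituent fixed by `G`
  have horder : ∀ f : N →* ℂˣ, θ = cf N f → T.index = 1 →
      ∃ o, o ≠ 1 ∧ o ∣ Cfsg.charDegree (χ : G → ℂ) ∧ o ∣ Cfsg.charDegree η := by
    rintro f rfl hT1
    haveI := Fintype.ofFinite (G ⧸ inertia N (cf N f))
    obtain ⟨e₁, he₁, hdet₁⟩ := over_data_lin N hNG χ.2 f hin
    have hfa : f ^ Cfsg.charDegree (χ : G → ℂ) = 1 := by
      refine MonoidHom.ext fun n => Units.ext ?_
      have h := hdet₁ n
      rw [Finset.prod_congr rfl fun q _ => by rw [cj_eq_of_index_one N hT1],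
        Finset.prod_const, Finset.card_univ, ← Nat.card_eq_fintype_card,
        ← Subgroup.index_eq_card, ← pow_mul, mul_comm, ← he₁] at h
      simpa using h
    have hf1 : f ≠ 1 := by
      intro h1
      refine hx0' ?_
      have hres := clifford_restrict_invariant N χ.2 hθ (fun g => by
        rw [conjBy_cf, cj_eq_of_index_one N hT1]) hin
      have e1 := congrFun hres ⟨x0, hx0⟩
      have e2 := congrFun hres 1
      simp only [h1, Pi.smul_apply, cf, MonoidHom.one_apply, OneMemClass.coe_one] at e1 e2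
      exact e1.trans e2.symm
    refine ⟨orderOf f, fun h => hf1 (orderOf_eq_one_iff.1 h), orderOf_dvd_of_pow_eq_one (x := f) hfa, ?_⟩
    have hcop : Nat.Coprime (orderOf f) p := (hpp.coprime_iff_not_dvd.2 fun h =>
      hpa (h.trans (orderOf_dvd_of_pow_eq_one (x := f) hfa))).symm
    refine hcop.dvd_of_dvd_mul_left (orderOf_dvd_of_pow_eq_one ?_)
    have hξeq : ξ = cf N (f * lam) := by funext n; simp [hξdef, cf]
    haveI := Fintype.ofFinite (G ⧸ inertia N (cf N (f * lam)))
    obtain ⟨e₂, he₂, hdet₂⟩ := over_data_lin N hNG hη (f * lam) (hξeq ▸ hinη)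
    refine MonoidHom.ext fun n => Units.ext ?_
    have h := congrArg (fun z : ℂ => z ^ p) (hdet₂ n)
    simp only [one_pow] at h
    rw [← pow_mul, mul_comm, pow_mul, ← Finset.prod_pow,
      Finset.prod_congr rfl (g := fun _ => (f n : ℂ) ^ p) fun q _ => by
        show (((f * lam).comp _ n : ℂˣ) : ℂ) ^ p = _
        rw [MonoidHom.comp_apply, MonoidHom.mul_apply, Units.val_mul, mul_pow]
        rw [show ((lam _ : ℂˣ) : ℂ) ^ p = 1 from cj_pow_eq_one N hlp _ n, mul_one]
        exact congrArg (fun u : ℂˣ => (u : ℂ) ^ p)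
          (DFunLike.congr_fun (cj_eq_of_index_one N hT1 q.out⁻¹) n),
      Finset.prod_const, Finset.card_univ, ← Nat.card_eq_fintype_card,
      ← Subgroup.index_eq_card, ← pow_mul, ← pow_mul] at h
    rw [MonoidHom.pow_apply, Units.val_pow_eq_pow_val, MonoidHom.one_apply, Units.val_one, he₂]
    convert h using 2
    ring
  have hac : (Cfsg.commonDivisorGraph.induce (Cfsg.relCharDegrees N)).Reachable
      ⟨_, haS⟩ ⟨_, hcS⟩ := by
    by_cases hd2 : d = 1
    swap
    · exact reach_of_not_coprime N (fun h => hd2 (Nat.coprime_self _ |>.1 h)) hda hdc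
    obtain ⟨f, hf⟩ := exists_hom_of_degree_one (isCharacter_of_isIrr hθ) ((Blocks.charDegree_cast (⟨θ, hθ⟩ : Cfsg.IrrCharacter N)).symm.trans (by
      show ((d : ℕ) : ℂ) = 1
      rw [hd2, Nat.cast_one]))
    by_cases hT1 : T.index = 1
    · obtain ⟨o, ho, h1, h2⟩ := horder f hf hT1
      exact reach_of_not_coprime N (fun h => ho (Nat.coprime_self _ |>.1 h)) h1 h2
    by_cases hxt : Nat.Coprime (inertia N ξ).index T.index
    swap
    · exact reach_of_not_coprime N (fun h => hxt h.symm) hta hξc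
    exfalso
    have hst := fun g a b => stable N (x := cf N lam) (y := θ)
      (by rw [show cf N lam * θ = ξ by rw [hξdef]; exact mul_comm _ _]; exact hxt) hts.symm g a b
    have hfn : ∃ a, cj N f a ≠ f := by
      by_contra hall
      push Not at hall
      refine hT1 (Subgroup.index_eq_one.2 (eq_top_iff.2 fun g _ => ?_))
      show conjBy N θ g = θ
      rw [show θ = cf N f from hf, conjBy_cf, hall g]
    obtain ⟨a, ha⟩ := hfn
    set μ : N →* ℂˣ := cj N f a / f with hμdef
    have hmove : ∀ g, ∃ k, ∀ n, conjBy N (cf N lam) g n * (μ n : ℂ) = conjBy N (cf N lam) k n := by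
      intro g
      obtain ⟨k, hk⟩ := hst g a 1
      refine ⟨k, fun n => ?_⟩
      have := hk n
      rw [show θ = cf N f from hf, conjBy_cf (f := f), conjBy_one] at this
      rw [hμdef, MonoidHom.div_apply, Units.val_div_eq_div_val, ← mul_div_assoc,
        div_eq_iff (Units.ne_zero _)]
      exact this
    have hμp : μ ^ p = 1 := by
      obtain ⟨k, hk⟩ := hmove 1
      refine MonoidHom.ext fun n => Units.ext ?_
      have h := congrArg (fun z : ℂ => z ^ p) (hk n)
      rw [conjBy_one, conjBy_cf] at h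
      simp only [cf, mul_pow, cj_pow_eq_one N hlp, ← Units.val_pow_eq_pow_val] at h
      rw [show lam n ^ p = (lam ^ p) n from rfl, hlp] at h
      simpa using h
    refine hs (translation_dvd N (cf N lam) μ hμp hmove fun g hg =>
      ha (MonoidHom.ext fun n => div_eq_one.1 (Units.ext ?_)))
    have h := hg n
    rw [conjBy_cf, mul_eq_left₀ (show cf N _ n ≠ 0 from Units.ne_zero _)] at h
    simpa [hμdef] using h
  refine hac.trans ?_
  by_cases hs1 : s = 1
  · -- `lam` is invariant: `p` divides both degrees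
    have hT' : ∀ g : G, g ∈ T ↔ conjBy N ξ g = ξ := by
      intro g
      show conjBy N θ g = θ ↔ _
      simp only [funext_iff, hξdef, conjBy_apply, Pi.mul_apply]
      refine forall_congr' fun n => ?_
      have h := congrArg (fun F : N →* ℂˣ => ((F n : ℂˣ) : ℂ)) (cj_eq_of_index_one N hs1 g)
      rw [show cf N lam ⟨g * n * g⁻¹, hNn.conj_mem n n.2 g⟩ = cf N lam n from
        (congrFun (conjBy_cf N lam g) n).trans h]
      exact ⟨fun h' => by rw [h'], fun h' => mul_right_cancel₀ (hlne n) h'⟩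
    obtain ⟨e', he2, hdet2⟩ := over_data N hNG hη hξ hinη T hT'
    obtain ⟨k, τ, -, hτ⟩ := id hθ
    obtain ⟨σ, hσc, hσd⟩ := LinearChar.detChar_smul lam τ
    have hkd : Module.finrank ℂ (Fin k → ℂ) = d := by
      apply Nat.cast_injective (R := ℂ)
      have h := Representation.char_one (ρ := τ)
      rw [hτ] at h
      exact h.symm.trans (Blocks.charDegree_cast (⟨θ, hθ⟩ : Cfsg.IrrCharacter N)).symm
    have hσξ : σ.character = ξ := by
      rw [hσc, hτ]; funext n; exact mul_comm _ _
    have hpow : lam ^ (d * T.index * e' * e) = 1 := by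
      refine MonoidHom.ext fun n => Units.ext ?_
      have h2 := congrArg (fun z : ℂ => z ^ e) (hdet2 σ hσξ n)
      simp only [one_pow, hσd, hkd] at h2
      rw [Finset.prod_mul_distrib, Finset.prod_congr rfl (g := fun _ => (lam n : ℂ) ^ d) (fun q _ => by
          have := DFunLike.congr_fun (cj_eq_of_index_one N hs1 q.out⁻¹) n
          exact congrArg (fun u : ℂˣ => (u : ℂ) ^ d) this),
        Finset.prod_const, Finset.card_univ, ← Nat.card_eq_fintype_card, ← Subgroup.index_eq_card,
        mul_pow, mul_pow, ← pow_mul (∏ q : G ⧸ T, LinearMap.det _), mul_comm e' e, pow_mul,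
        hdet τ hτ n, one_pow, mul_one, ← pow_mul, ← pow_mul, ← pow_mul] at h2
      rw [MonoidHom.pow_apply, Units.val_pow_eq_pow_val, MonoidHom.one_apply, Units.val_one]
      convert h2 using 2
      ring
    have hdvd := orderOf_dvd_of_pow_eq_one (x := lam) hpow
    rw [orderOf_eq_prime (x := lam) hlp hl1] at hdvd
    have hpe : p ∣ e' := by
      rcases hpp.dvd_mul.1 hdvd with h | h
      · rcases hpp.dvd_mul.1 h with h | h
        · exact absurd h (fun h => (hpp.dvd_mul.1 h).elim hd1 hsθ)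
        · exact h
      · exact absurd h he'
    exact reach_of_share N hpp _ _ (show p ∣ Cfsg.charDegree η from he2.symm ▸ hpe.mul_right _) (hinvb hs1)
  · by_cases hxs : Nat.Coprime (inertia N ξ).index s
    swap
    · exact reach_of_not_coprime N hxs hξc (index_dvd_deg N hχ₀ (isIrr_linChar lam) hin₀).1
    exfalso
    have hfn : ∃ a, cj N lam a ≠ lam := by
      by_contra hall
      push Not at hall
      refine hs1 (Subgroup.index_eq_one.2 (eq_top_iff.2 fun g _ => ?_))
      show conjBy N (cf N lam) g = cf N lam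
      rw [conjBy_cf, hall g]
    obtain ⟨a, ha⟩ := hfn
    set μ : N →* ℂˣ := cj N lam a / lam with hμdef
    have hμp : μ ^ p = 1 := by
      refine MonoidHom.ext fun n => Units.ext ?_
      have h1 : (lam n : ℂ) ^ p = 1 := by
        rw [← Units.val_pow_eq_pow_val]; exact congrArg Units.val (DFunLike.congr_fun hlp n)
      simp [hμdef, div_pow, cj_pow_eq_one N hlp, h1]
    refine hsθ (translation_dvd N θ μ hμp (fun g => ?_) fun g hg =>
      ha (MonoidHom.ext fun n => div_eq_one.1
        (show cj N lam a n / lam n = 1 from DFunLike.congr_fun (?_ : μ = 1) n)))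
    · obtain ⟨k, hk⟩ := stable N (x := θ) (y := cf N lam) hxs hts g a 1
      refine ⟨k, fun n => ?_⟩
      have := hk n
      rw [conjBy_cf, conjBy_one] at this
      rw [hμdef, MonoidHom.div_apply, Units.val_div_eq_div_val, ← mul_div_assoc,
        div_eq_iff (Units.ne_zero _)]
      exact this
    · refine translation_free N hμp (ψ := ⟨_, isIrr_conjBy N hθ g⟩) ?_ fun n =>
        (mul_comm _ _).trans (hg n)
      have : Cfsg.charDegree (conjBy N θ g) = d := by
        have e : conjBy N θ g 1 = θ 1 := congrArg θ (Subtype.ext (by simp))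
        simp only [hd, Cfsg.charDegree, e]
      exact this.symm ▸ hd1


/-- Let N be a normal subgroup of the finite group G that is not perfect and is contained in the derived subgroup of G. Consider the common-divisor graph on the relative degree set cd(G|N) (the degrees of the irreducible complex characters of G whose kernel does not contain N; two distinct degrees adjacent when they have a common divisor greater than one). Then this graph has at most two connected components; and if a, b ∈ cd(G|N) lie in different components, then one of a, b is coprime to the index m of the derived subgroup of N in N while the other is divisible by every prime divisor of m. -/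
theorem result {G : Type*} [Group G] [Finite G] (N : Subgroup G) [N.Normal] (hN : ⁅N, N⁆ < N) (hNG : N ≤ commutator G) : Nat.card (Cfsg.commonDivisorGraph.induce (Cfsg.relCharDegrees N)).ConnectedComponent ≤ 2 ∧ ∀ (a b : ℕ) (ha : a ∈ Cfsg.relCharDegrees N) (hb : b ∈ Cfsg.relCharDegrees N), ¬ (Cfsg.commonDivisorGraph.induce (Cfsg.relCharDegrees N)).Reachable ⟨a, ha⟩ ⟨b, hb⟩ → (Nat.Coprime a (⁅N, N⁆.relIndex N) ∧ ∀ r : ℕ, r.Prime → r ∣ ⁅N, N⁆.relIndex N → r ∣ b) ∨ (Nat.Coprime b (⁅N, N⁆.relIndex N) ∧ ∀ r : ℕ, r.Prime → r ∣ ⁅N, N⁆.relIndex N → r ∣ a) := by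
  classical
  haveI := Fintype.ofFinite G
  haveI := Fintype.ofFinite N
  set m := ⁅N, N⁆.relIndex N with hm
  have hmc : m = (commutator (↥N)).index := by
    rw [hm, Subgroup.relIndex, ← Subgroup.map_subtype_commutator N, Subgroup.subgroupOf,
      Subgroup.comap_map_eq_self_of_injective N.subtype_injective]
  have hm1 : m ≠ 1 := fun h => hN.not_ge (Subgroup.relIndex_eq_one.1 h)
  set S := Cfsg.relCharDegrees N
  set C := Cfsg.commonDivisorGraph.induce S
  obtain ⟨p, hp, hpm⟩ := Nat.exists_prime_and_dvd hm1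
  have key := fun (r : ℕ) (hr : r.Prime) (hd : r ∣ m) =>
    @exists_hub G _ _ N _ _ r ⟨hr⟩ hNG (hmc ▸ hd)
  choose lam hlamp hlam1 hlams b hbS hbd hinv hclaim using key
  have hboth : ∀ (r : ℕ) (hr : r.Prime) (hd : r ∣ m) (x y : ↥S), ¬ C.Reachable x y →
      ¬ ((r ∣ (x : ℕ)) ↔ (r ∣ (y : ℕ))) := by
    intro r hr hd x y hxy hiff
    by_cases hx : r ∣ (x : ℕ)
    · exact hxy (reach_of_share N hr x y hx (hiff.1 hx))
    · exact hxy ((hclaim r hr hd x hx).trans (hclaim r hr hd y (fun h => hx (hiff.2 h))).symm)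
  refine ⟨?_, fun x y hx hy hxy => ?_⟩
  · refine (Nat.card_le_card_of_injective
      (fun c : C.ConnectedComponent => decide (p ∣ ((Quot.out c : ↥S) : ℕ))) fun c d hcd => ?_).trans
      (by simp)
    have hiff : p ∣ ((Quot.out c : ↥S) : ℕ) ↔ p ∣ ((Quot.out d : ↥S) : ℕ) :=
      decide_eq_decide.1 hcd
    by_contra hne
    refine hboth p hp hpm _ _ (fun hr => hne ?_) hiff
    exact ((Quot.out_eq c).symm.trans (SimpleGraph.ConnectedComponent.sound hr)).trans
      (Quot.out_eq d)
  · -- a prime with a fixed linear character would connect the graph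
    have hs1 : ∀ (r : ℕ) (hr : r.Prime) (hd : r ∣ m), (inertia N (cf N (lam r hr hd))).index ≠ 1 := by
      intro r hr hd h1
      have hall : ∀ z : ↥S, C.Reachable z ⟨b r hr hd, hbS r hr hd⟩ := fun z => by
        by_cases hz : r ∣ (z : ℕ)
        · exact reach_of_share N hr z _ hz (hinv r hr hd h1)
        · exact hclaim r hr hd z hz
      exact hxy ((hall _).trans (hall _).symm)
    by_cases hax : ∀ r : ℕ, r.Prime → r ∣ m → r ∣ x
    · refine Or.inr ⟨Nat.coprime_of_dvd fun r hr hry hd => ?_, hax⟩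
      exact hboth r hr hd _ _ hxy ⟨fun _ => hry, fun _ => hax r hr hd⟩
    push Not at hax
    obtain ⟨q, hq, hqm, hqx⟩ := hax
    refine Or.inl ⟨Nat.coprime_of_dvd fun r hr hrx hd => ?_, fun r hr hd => ?_⟩
    · -- `r ∣ x`, `q ∤ x`
      have hry : ¬ r ∣ y := fun h => hboth r hr hd _ _ hxy ⟨fun _ => h, fun _ => hrx⟩
      have hrq : r ≠ q := fun h => hqx (h ▸ hrx)
      have h1 : C.Reachable ⟨x, hx⟩ ⟨b q hq hqm, hbS q hq hqm⟩ := hclaim q hq hqm ⟨x, hx⟩ hqx
      have h2 : C.Reachable ⟨y, hy⟩ ⟨b r hr hd, hbS r hr hd⟩ := hclaim r hr hd ⟨y, hy⟩ hry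
      have h3 := @reach_hubs G _ _ N _ _ r q ⟨hr⟩ ⟨hq⟩ hrq _ _ (hlamp r hr hd) (hlamp q hq hqm)
        (hlam1 q hq hqm) (hs1 r hr hd) (hs1 q hq hqm) ⟨_, hbS r hr hd⟩ ⟨_, hbS q hq hqm⟩
        (hbd r hr hd) (hbd q hq hqm)
      exact hxy ((h1.trans h3.symm).trans h2.symm)
    · by_contra hry
      -- `r ∤ y`, `q ∤ x`
      have hrx : r ∣ x := by
        by_contra h
        exact hboth r hr hd _ _ hxy ⟨fun h' => absurd h' h, fun h' => absurd h' hry⟩
      have hrq : r ≠ q := fun h => hqx (h ▸ hrx)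
      have h1 : C.Reachable ⟨x, hx⟩ ⟨b q hq hqm, hbS q hq hqm⟩ := hclaim q hq hqm ⟨x, hx⟩ hqx
      have h2 : C.Reachable ⟨y, hy⟩ ⟨b r hr hd, hbS r hr hd⟩ := hclaim r hr hd ⟨y, hy⟩ hry
      have h3 := @reach_hubs G _ _ N _ _ r q ⟨hr⟩ ⟨hq⟩ hrq _ _ (hlamp r hr hd) (hlamp q hq hqm)
        (hlam1 q hq hqm) (hs1 r hr hd) (hs1 q hq hqm) ⟨_, hbS r hr hd⟩ ⟨_, hbS q hq hqm⟩
        (hbd r hr hd) (hbd q hq hqm)
      exact hxy ((h1.trans h3.symm).trans h2.symm)

end Cfsg.Agent.S4776
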