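import Cfsg.Statements.S4779
import Cfsg.Agent.S4776
import Cfsg.Agent.DegreeGraph.Basic
import Cfsg.Agent.ThreeDegrees.Tools
import Cfsg.Agent.TwoComponents73.Setup
-- import your own Cfsg.Agent.* helpers here

set_option autoImplicit false
set_option linter.style.haveILetI false
set_option linter.unusedSectionVars false
open Cfsg

namespace Cfsg.Agent.S4779

open CfsgLib CfsgLib.Characters CfsgLib.OddOrderChar CfsgLib.CharactersDeep
open Cfsg.Agent.S4776 (inertia cf cj conjBy_cf cj_eq_of_index_one stable translation_free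
  translation_dvd over_data_lin exists_over_deg index_dvd_deg reach_of_not_coprime reach_of_share)

variable {G : Type*} [Group G] [Fintype G] (N : Subgroup G) [hNn : N.Normal]

/-- Two degrees coprime to the index of the derived subgroup are equal, share a prime or have a
common neighbour. -/
def Near (a b : ℕ) : Prop :=
  ¬ Nat.Coprime a b ∨ ∃ c ∈ Cfsg.relCharDegrees N, ¬ Nat.Coprime a c ∧ ¬ Nat.Coprime c b

/-- Types: in a disconnected graph a degree is coprime to `m` or divisible by all its primes, and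
degrees of different types are not joined. -/
theorem types (hN : ⁅N, N⁆ < N) (hNG : N ≤ commutator G) {x y : ↥(Cfsg.relCharDegrees N)}
    (hxy : ¬ (Cfsg.commonDivisorGraph.induce (Cfsg.relCharDegrees N)).Reachable x y) :
    (∀ z : ↥(Cfsg.relCharDegrees N), Nat.Coprime (z : ℕ) (⁅N, N⁆.relIndex N) ∨
      ∀ r : ℕ, r.Prime → r ∣ ⁅N, N⁆.relIndex N → r ∣ (z : ℕ)) ∧
    ∀ z z' : ↥(Cfsg.relCharDegrees N), Nat.Coprime (z : ℕ) (⁅N, N⁆.relIndex N) →
      ¬ Nat.Coprime (z' : ℕ) (⁅N, N⁆.relIndex N) →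
      ¬ (Cfsg.commonDivisorGraph.induce (Cfsg.relCharDegrees N)).Reachable z z' := by
  have hrow := (Cfsg.Agent.S4776.result N hN hNG).2
  have hfar : ∀ z, ∃ w, ¬ (Cfsg.commonDivisorGraph.induce (Cfsg.relCharDegrees N)).Reachable z w := by
    intro z
    by_contra hall
    push Not at hall
    exact hxy ((hall x).symm.trans (hall y))
  refine ⟨fun z => ?_, fun z z' hz hz' hr => ?_⟩
  · obtain ⟨w, hw⟩ := hfar z
    rcases hrow z w z.2 w.2 hw with ⟨h, -⟩ | ⟨-, h⟩
    · exact Or.inl h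
    · exact Or.inr h
  · obtain ⟨w, hw⟩ := hfar z
    have hw' : ¬ (Cfsg.commonDivisorGraph.induce (Cfsg.relCharDegrees N)).Reachable z' w :=
      fun h => hw (hr.trans h)
    obtain ⟨r, hrp, hrz', hrm⟩ := Nat.Prime.not_coprime_iff_dvd.1 hz'
    have hwc : Nat.Coprime (w : ℕ) (⁅N, N⁆.relIndex N) := by
      rcases hrow z' w z'.2 w.2 hw' with ⟨h, -⟩ | ⟨h, -⟩
      · exact absurd h hz'
      · exact h
    rcases hrow z w z.2 w.2 hw with ⟨-, h⟩ | ⟨-, h⟩
    · exact hrp.ne_one (Nat.eq_one_of_dvd_coprimes hwc (h r hrp hrm) hrm)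
    · exact hrp.ne_one (Nat.eq_one_of_dvd_coprimes hz (h r hrp hrm) hrm)

/-- A non-linear constituent on `N` makes a character non-trivial on `[N, N]`. -/
theorem nontrivial_on_commutator [Fintype N] {η : G → ℂ} (hη : Cfsg.IsIrrCharacter G η) {θ : N → ℂ}
    (hθ : Cfsg.IsIrrCharacter N θ) (hin : Cfsg.classInner (fun n : N => η n) θ ≠ 0)
    (hθ1 : θ 1 ≠ 1) : ∃ x ∈ ⁅N, N⁆, η x ≠ η 1 := by
  by_contra hall
  push Not at hall
  refine hθ1 (ThreeDegrees.eq_one_of_const_commutator hθ fun w hw => ?_)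
  refine BlocksCharsC.constituent_eq_degree (isCharacter_restrict N (isCharacter_of_isIrr hη))
    hθ hin (hall w ?_)
  rw [← Subgroup.map_subtype_commutator N]
  exact ⟨w, hw, rfl⟩

/-- Some character of `N` has degree sharing a prime with `[N : N']`, unless `N` is abelian. -/
theorem exists_degree_not_coprime [Fintype N] [Group.IsSolvable N]
    (hc : commutator (↥N) ≠ ⊥) :
    ∃ θ : N → ℂ, Cfsg.IsIrrCharacter N θ ∧ θ 1 ≠ 1 ∧
      ∀ d : ℕ, θ 1 = d → ¬ Nat.Coprime d (commutator (↥N)).index := by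
  classical
  set C := commutator (↥N) with hC
  haveI := Fintype.ofFinite C
  haveI : Nontrivial C := (Subgroup.nontrivial_iff_ne_bot C).2 hc
  have hlt : commutator C ≠ ⊤ := (Group.IsSolvable.commutator_lt_top_of_nontrivial C).ne
  obtain ⟨x, hx⟩ : ∃ x : C, x ∉ commutator C := by
    by_contra h
    push Not at h
    exact hlt (eq_top_iff.2 fun x _ => h x)
  obtain ⟨l, -, hl⟩ := TwoComponents73.exists_lin (commutator C) le_rfl hx
  obtain ⟨θ, hθ, hin⟩ := CharactersDeep.Clifford.exists_over C (isIrr_linChar l)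
  have hconst : θ 1 = 1 → False := fun h1 => by
    obtain ⟨f, hf⟩ := exists_hom_of_degree_one (isCharacter_of_isIrr hθ) h1
    have hker : ∀ c : C, (f (c : N)) = 1 := fun c =>
      MonoidHom.mem_ker.1 (Abelianization.commutator_subset_ker f c.2)
    have h2 := BlocksCharsC.constituent_eq_degree (isCharacter_restrict C (isCharacter_of_isIrr hθ))
      (isIrr_linChar l) hin (g := x) (by simp [hf, hker x])
    exact hl (Units.ext (by simpa using h2))
  refine ⟨θ, hθ, fun h => hconst h, fun d hd hcop => hconst ?_⟩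
  have hres := DegreeGraph.restrict_irr_of_coprime C hθ hd hcop
  by_contra h1
  refine hin (classInner_isIrr_ne hres (isIrr_linChar l) fun e => h1 ?_)
  have := congrFun e 1
  simpa using this

/-- The key case: one linear constituent. -/
theorem near_of_linear [Fintype N] (hNG : N ≤ commutator G) {χ χ' : Cfsg.IrrCharacter G}
    (hχ : ∃ x ∈ N, (χ : G → ℂ) x ≠ (χ : G → ℂ) 1)
    (hχ' : ∃ x ∈ N, (χ' : G → ℂ) x ≠ (χ' : G → ℂ) 1)
    (hm : Nat.Coprime (Cfsg.charDegree (χ : G → ℂ)) (commutator (↥N)).index)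
    (hm' : Nat.Coprime (Cfsg.charDegree (χ' : G → ℂ)) (commutator (↥N)).index)
    {f : N →* ℂˣ} (hin : Cfsg.classInner (fun n : N => (χ : G → ℂ) n) (cf N f) ≠ 0) :
    Near N (Cfsg.charDegree (χ : G → ℂ)) (Cfsg.charDegree (χ' : G → ℂ)) := by
  classical
  by_cases hco : Nat.Coprime (Cfsg.charDegree (χ : G → ℂ)) (Cfsg.charDegree (χ' : G → ℂ))
  swap
  · exact Or.inl hco
  haveI : Finite (N →* ℂˣ) := Finite.of_equiv _ (linearCharEquiv (G := N)).symm
  have hord : ∀ l : N →* ℂˣ, orderOf l ∣ (commutator (↥N)).index := fun l => by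
    rw [← card_linear_char, ← Nat.card_congr (linearCharEquiv (G := N))]
    exact orderOf_dvd_natCard l
  -- a linear constituent of a degree prime to `m` is moved
  have hmoved : ∀ (η : Cfsg.IrrCharacter G) (l : N →* ℂˣ),
      (∃ x ∈ N, (η : G → ℂ) x ≠ (η : G → ℂ) 1) →
      Nat.Coprime (Cfsg.charDegree (η : G → ℂ)) (commutator (↥N)).index →
      Cfsg.classInner (fun n : N => (η : G → ℂ) n) (cf N l) ≠ 0 → ∃ a, cj N l a ≠ l := by
    intro η l hne hcop hinl
    by_contra hall
    push Not at hall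
    have h1 : (inertia N (cf N l)).index = 1 := by
      refine Subgroup.index_eq_one.2 (eq_top_iff.2 fun g _ => ?_)
      show conjBy N _ g = _
      rw [conjBy_cf, hall g]
    haveI := Fintype.ofFinite (G ⧸ inertia N (cf N l))
    obtain ⟨e, he, hdet⟩ := over_data_lin N hNG η.2 l hinl
    rw [h1, mul_one] at he
    have hpe : l ^ e = 1 := by
      refine MonoidHom.ext fun n => Units.ext ?_
      have h := hdet n
      rw [Finset.prod_congr rfl fun q _ => by rw [hall q.out⁻¹],
        Finset.prod_const, Finset.card_univ, ← Nat.card_eq_fintype_card,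
        ← Subgroup.index_eq_card, h1, pow_one] at h
      simpa using h
    have hl : l = 1 := orderOf_eq_one_iff.1 (Nat.eq_one_of_dvd_coprimes hcop
      (he ▸ orderOf_dvd_of_pow_eq_one (x := l) hpe) (hord l))
    obtain ⟨x, hx, hx'⟩ := hne
    refine hx' ?_
    have hres := clifford_restrict_invariant N η.2 (isIrr_linChar l)
      (fun g => (conjBy_cf N l g).trans (by rw [hall g]; rfl)) hinl
    have e1 := congrFun hres ⟨x, hx⟩
    have e2 := congrFun hres 1
    simp only [hl, Pi.smul_apply, MonoidHom.one_apply, OneMemClass.coe_one] at e1 e2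
    exact e1.trans e2.symm
  obtain ⟨a₀, ha₀⟩ := hmoved χ f hχ hm hin
  -- a moved power whose prime power is invariant
  obtain ⟨h, hmem, hmin⟩ := (Set.toFinite
    {l : N →* ℂˣ | (∃ k : ℕ, l = f ^ k) ∧ ∃ a, cj N l a ≠ l}).toFinset.exists_min_image orderOf
    ⟨f, (Set.Finite.mem_toFinset _).2 ⟨⟨1, (pow_one f).symm⟩, a₀, ha₀⟩⟩
  obtain ⟨⟨k, hk⟩, hmov⟩ := (Set.Finite.mem_toFinset _).1 hmem
  have ho1 : orderOf h ≠ 1 := fun e => by
    obtain ⟨a, ha⟩ := hmov
    rw [orderOf_eq_one_iff.1 e] at ha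
    exact ha (MonoidHom.ext fun n => rfl)
  obtain ⟨q, hq, hqo⟩ := Nat.exists_prime_and_dvd ho1
  haveI := Fact.mk hq
  have hqm : q ∣ (commutator (↥N)).index := hqo.trans (hord h)
  have hfix : ∀ a, cj N (h ^ q) a = h ^ q := by
    by_contra hno
    push Not at hno
    have h1 := hmin (h ^ q) ((Set.Finite.mem_toFinset _).2
      ⟨⟨k * q, MonoidHom.ext fun n => by simp [hk, pow_mul]⟩, hno⟩)
    rw [orderOf_pow_of_dvd (x := h) hq.ne_zero hqo] at h1
    exact absurd h1 (not_le.2 (Nat.div_lt_self (orderOf_pos h) hq.one_lt))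
  have hpw : ∀ g n, (cj N h g n : ℂ) ^ q = (h n : ℂ) ^ q := fun g n => by
    have := congrArg Units.val (DFunLike.congr_fun (hfix g) n)
    simpa [cj, Units.val_pow_eq_pow_val] using this
  have hsub : inertia N (cf N f) ≤ inertia N (cf N h) := by
    intro g hg
    show conjBy N _ g = _
    funext n
    have h1 := congrFun (hg : conjBy N (cf N f) g = _) n
    simp only [conjBy_apply, cf, hk, MonoidHom.pow_apply, Units.val_pow_eq_pow_val] at h1 ⊢
    rw [h1]
  have hha : (inertia N (cf N h)).index ∣ Cfsg.charDegree (χ : G → ℂ) :=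
    (Subgroup.index_dvd_of_le hsub).trans (index_dvd_deg N χ.2 (isIrr_linChar f) hin).1
  have hqa : ¬ q ∣ (inertia N (cf N h)).index := fun e =>
    hq.ne_one (Nat.eq_one_of_dvd_coprimes hm (e.trans hha) hqm)
  -- the constituent of the other character
  obtain ⟨θ, hθ, hin'⟩ := DegreeGraph.exists_under N χ'.2
  obtain ⟨hta', hda'⟩ := index_dvd_deg N χ'.2 hθ hin'
  set d := Cfsg.charDegree θ with hd
  have hd' : θ 1 = (d : ℂ) := (Blocks.charDegree_cast (⟨θ, hθ⟩ : Cfsg.IrrCharacter N)).symm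
  have hqd : ¬ q ∣ d := fun e => hq.ne_one (Nat.eq_one_of_dvd_coprimes hm' (e.trans hda') hqm)
  have hqt : ¬ q ∣ (inertia N θ).index :=
    fun e => hq.ne_one (Nat.eq_one_of_dvd_coprimes hm' (e.trans hta') hqm)
  have hts : Nat.Coprime (inertia N θ).index (inertia N (cf N h)).index :=
    (hco.symm.coprime_dvd_left hta').coprime_dvd_right hha
  set ξ : N → ℂ := θ * cf N h with hξdef
  have hξ : Cfsg.IsIrrCharacter N ξ := Glauberman.isIrr_mul_hom hθ h
  have hclaim : ¬ Nat.Coprime (inertia N ξ).index (inertia N (cf N h)).index := by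
    intro hcp
    obtain ⟨a, ha⟩ := hmov
    set μ : N →* ℂˣ := cj N h a / h with hμdef
    have hμq : μ ^ q = 1 := by
      refine MonoidHom.ext fun n => Units.ext ?_
      simp [hμdef, div_pow, hpw]
    refine hqt (translation_dvd N θ μ hμq (fun g => ?_) fun g hg => ha (MonoidHom.ext fun n =>
      div_eq_one.1 (show cj N h a n / h n = 1 from DFunLike.congr_fun (?_ : μ = 1) n)))
    · obtain ⟨j, hj⟩ := stable N (x := θ) (y := cf N h) hcp hts g a 1
      refine ⟨j, fun n => ?_⟩
      have := hj n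
      rw [conjBy_cf, conjBy_one] at this
      rw [hμdef, MonoidHom.div_apply, Units.val_div_eq_div_val, ← mul_div_assoc,
        div_eq_iff (Units.ne_zero _)]
      exact this
    · refine translation_free N hμq (ψ := ⟨_, isIrr_conjBy N hθ g⟩) ?_ fun n =>
        (mul_comm _ _).trans (hg n)
      have : Cfsg.charDegree (conjBy N θ g) = d := by
        have e : conjBy N θ g 1 = θ 1 := congrArg θ (Subtype.ext (by simp))
        simp only [hd, Cfsg.charDegree, e]
      exact this.symm ▸ hqd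
  have hξne : ∃ n, ξ n ≠ ξ 1 := by
    by_contra hall
    push Not at hall
    refine hclaim ?_
    rw [show (inertia N ξ).index = 1 from Subgroup.index_eq_one.2 (eq_top_iff.2 fun g _ => by
      show conjBy N ξ g = ξ
      funext n
      rw [conjBy_apply, hall, hall n])]
    exact Nat.coprime_one_left _
  obtain ⟨η, hη, hinη, hcS⟩ := exists_over_deg N ξ hξ hξne
  obtain ⟨hξc, hdc⟩ := index_dvd_deg N hη hξ hinη
  have hξd : Cfsg.charDegree ξ = d := by simp [hd, Cfsg.charDegree, hξdef, cf]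
  rw [hξd] at hdc
  refine Or.inr ⟨_, hcS, fun e => hclaim
    ((e.symm.coprime_dvd_left hξc).coprime_dvd_right hha), fun e => ?_⟩
  by_cases hd1 : d = 1
  swap
  · exact hd1 (Nat.eq_one_of_dvd_coprimes e hdc hda')
  -- both linear
  obtain ⟨f', hf'⟩ := exists_hom_of_degree_one (isCharacter_of_isIrr hθ) (by rw [hd', hd1, Nat.cast_one])
  have hf : θ = cf N f' := hf'
  obtain ⟨a, ha⟩ := hmoved χ' f' hχ' hm' (hf ▸ hin')
  have hcp : Nat.Coprime (inertia N ξ).index (inertia N θ).index :=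
    (e.coprime_dvd_left hξc).coprime_dvd_right hta'
  set μ : N →* ℂˣ := cj N f' a / f' with hμdef
  have hmove : ∀ g, ∃ j, ∀ n,
      conjBy N (cf N h) g n * (μ n : ℂ) = conjBy N (cf N h) j n := by
    intro g
    obtain ⟨j, hj⟩ := stable N (x := cf N h) (y := θ)
      (by rw [show cf N h * θ = ξ by rw [hξdef]; exact mul_comm _ _]; exact hcp) hts.symm g a 1
    refine ⟨j, fun n => ?_⟩
    have := hj n
    rw [hf, conjBy_cf (f := f'), conjBy_one] at this
    rw [hμdef, MonoidHom.div_apply, Units.val_div_eq_div_val, ← mul_div_assoc,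
      div_eq_iff (Units.ne_zero _)]
    exact this
  have hμq : μ ^ q = 1 := by
    obtain ⟨j, hj⟩ := hmove 1
    refine MonoidHom.ext fun n => Units.ext ?_
    have h1 := congrArg (fun z : ℂ => z ^ q) (hj n)
    rw [conjBy_one, conjBy_cf] at h1
    simp only [cf, mul_pow, hpw] at h1
    rw [MonoidHom.pow_apply, Units.val_pow_eq_pow_val, MonoidHom.one_apply, Units.val_one]
    exact (mul_eq_left₀ (pow_ne_zero _ (Units.ne_zero _))).1 h1
  refine hqa (translation_dvd N (cf N h) μ hμq hmove fun g hg =>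
    ha (MonoidHom.ext fun n => div_eq_one.1 (Units.ext ?_)))
  have h2 := hg n
  rw [conjBy_cf, mul_eq_left₀ (show cf N _ n ≠ 0 from Units.ne_zero _)] at h2
  simpa [hμdef] using h2

theorem near_symm {a b : ℕ} (h : Near N a b) : Near N b a := by
  rcases h with h | ⟨c, hc, h1, h2⟩
  · exact Or.inl fun e => h e.symm
  · exact Or.inr ⟨c, hc, fun e => h2 e.symm, fun e => h1 e.symm⟩

omit hNn in
theorem commutator_lt [Group.IsSolvable N] (hne : N ≠ ⊥) : ⁅N, N⁆ < N := by
  haveI : Nontrivial N := (Subgroup.nontrivial_iff_ne_bot N).2 hne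
  rw [← Subgroup.map_subtype_commutator N]
  conv_rhs => rw [← N.range_subtype, MonoidHom.range_eq_map]
  exact (Subgroup.map_lt_map_iff_of_injective N.subtype_injective).2
    (Group.IsSolvable.commutator_lt_top_of_nontrivial N)

omit hNn in
theorem relIndex_commutator_eq : ⁅N, N⁆.relIndex N = (commutator (↥N)).index := by
  rw [Subgroup.relIndex, ← Subgroup.map_subtype_commutator N, Subgroup.subgroupOf,
    Subgroup.comap_map_eq_self_of_injective N.subtype_injective]

/-- The statement on the component prime to `m`. -/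
theorem near_all : ∀ (k : ℕ) (N : Subgroup G) [N.Normal] [Group.IsSolvable N],
    Nat.card N ≤ k → N ≤ commutator G → ⁅N, N⁆ < N →
    ∀ x y : ↥(Cfsg.relCharDegrees N),
      ¬ (Cfsg.commonDivisorGraph.induce (Cfsg.relCharDegrees N)).Reachable x y →
    ∀ a b : ↥(Cfsg.relCharDegrees N), Nat.Coprime (a : ℕ) (⁅N, N⁆.relIndex N) →
      Nat.Coprime (b : ℕ) (⁅N, N⁆.relIndex N) → Near N a b := by
  classical
  intro k
  induction k with
  | zero => intro N _ _ hk; exact absurd (Nat.card_pos (α := N)) (by omega)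
  | succ k ih =>
    intro N _ _ hk hNG hN x y hxy a b ha hb
    haveI := Fintype.ofFinite N
    have hm := relIndex_commutator_eq N
    obtain ⟨χ, hχn, hχd⟩ := id a.2
    obtain ⟨χ', hχ'n, hχ'd⟩ := id b.2
    obtain ⟨θ, hθ, hin⟩ := DegreeGraph.exists_under N χ.2
    obtain ⟨θ', hθ', hin'⟩ := DegreeGraph.exists_under N χ'.2
    have hca : Nat.Coprime (Cfsg.charDegree (χ : G → ℂ)) (commutator (↥N)).index := by
      rw [hχd, ← hm]; exact ha
    have hcb : Nat.Coprime (Cfsg.charDegree (χ' : G → ℂ)) (commutator (↥N)).index := by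
      rw [hχ'd, ← hm]; exact hb
    by_cases h1 : θ 1 = 1
    · obtain ⟨f, hf⟩ := exists_hom_of_degree_one (isCharacter_of_isIrr hθ) h1
      rw [← hχd, ← hχ'd]
      exact near_of_linear N hNG hχn hχ'n hca hcb (f := f) (by rw [hf] at hin; exact hin)
    by_cases h1' : θ' 1 = 1
    · obtain ⟨f, hf⟩ := exists_hom_of_degree_one (isCharacter_of_isIrr hθ') h1'
      rw [← hχd, ← hχ'd]
      exact near_symm N (near_of_linear N hNG hχ'n hχn hcb hca (f := f) (by rw [hf] at hin'; exact hin'))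
    -- both constituents are non-linear: pass to `[N, N]`
    set C : Subgroup G := ⁅N, N⁆ with hC
    haveI : C.Normal := Subgroup.commutator_normal N N
    haveI : Group.IsSolvable C := Group.isSolvable_of_isSolvable_injective (Subgroup.inclusion_injective hN.le)
    have haC : (a : ℕ) ∈ Cfsg.relCharDegrees C :=
      ⟨χ, nontrivial_on_commutator N χ.2 hθ hin h1, hχd⟩
    have hbC : (b : ℕ) ∈ Cfsg.relCharDegrees C :=
      ⟨χ', nontrivial_on_commutator N χ'.2 hθ' hin' h1', hχ'd⟩
    have hsubset : ∀ c, c ∈ Cfsg.relCharDegrees C → c ∈ Cfsg.relCharDegrees N :=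
      fun c ⟨η, ⟨z, hz, hz'⟩, hd⟩ => ⟨η, ⟨z, hN.le hz, hz'⟩, hd⟩
    have hCne : C ≠ ⊥ := fun e => by
      obtain ⟨η, ⟨z, hz, hz'⟩, -⟩ := haC
      rw [e, Subgroup.mem_bot] at hz
      exact hz' (by rw [hz])
    have hCN : commutator (↥N) ≠ ⊥ := fun e => hCne (by
      rw [hC, ← Subgroup.map_subtype_commutator N, e, Subgroup.map_bot])
    have hCC : ⁅C, C⁆ < C := commutator_lt C hCne
    obtain ⟨φ, hφ, hφ1, hφd⟩ := exists_degree_not_coprime N hCN
    obtain ⟨η, hη, hinη⟩ := CharactersDeep.Clifford.exists_over N hφ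
    have hyC : Cfsg.charDegree η ∈ Cfsg.relCharDegrees C :=
      ⟨⟨η, hη⟩, nontrivial_on_commutator N hη hφ hinη hφ1, rfl⟩
    have hny : ¬ Nat.Coprime (Cfsg.charDegree η) (⁅N, N⁆.relIndex N) := fun e =>
      hφd _ (Blocks.charDegree_cast (⟨φ, hφ⟩ : Cfsg.IrrCharacter N)).symm
        (hm ▸ e.coprime_dvd_left (index_dvd_deg N hη hφ hinη).2)
    have hfar : ∀ c : ↥(Cfsg.relCharDegrees C), Nat.Coprime (c : ℕ) (⁅N, N⁆.relIndex N) →
        ¬ (Cfsg.commonDivisorGraph.induce (Cfsg.relCharDegrees C)).Reachable c ⟨_, hyC⟩ := by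
      intro c hc hr
      refine (types N hN hNG hxy).2 ⟨c, hsubset _ c.2⟩ ⟨_, hsubset _ hyC⟩ hc hny ?_
      exact hr.map (SimpleGraph.induceHomOfLE Cfsg.commonDivisorGraph hsubset).toHom
    have hrow := (Cfsg.Agent.S4776.result C hCC (hN.le.trans hNG)).2
    have hnear : Near C (a : ℕ) (b : ℕ) := by
      rcases hrow _ _ haC hyC (hfar ⟨_, haC⟩ ha) with ⟨hca', hyall⟩ | ⟨hyc, haall⟩
      · rcases hrow _ _ hbC hyC (hfar ⟨_, hbC⟩ hb) with ⟨hcb', -⟩ | ⟨hyc, -⟩
        · refine ih C ?_ (hN.le.trans hNG) hCC ⟨_, haC⟩ ⟨_, hyC⟩ (hfar ⟨_, haC⟩ ha)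
            ⟨_, haC⟩ ⟨_, hbC⟩ hca' hcb'
          have : Nat.card C < Nat.card N := lt_of_le_of_ne
            (Nat.card_le_card_of_injective _ (Subgroup.inclusion_injective hN.le))
            fun e => hN.ne (Subgroup.eq_of_le_of_card_ge hN.le e.ge)
          omega
        · exfalso
          obtain ⟨r, hr, hrm⟩ := Nat.exists_prime_and_dvd
            (fun e => hCC.not_ge (Subgroup.relIndex_eq_one.1 e) : ⁅C, C⁆.relIndex C ≠ 1)
          exact hr.ne_one (Nat.eq_one_of_dvd_coprimes hyc (hyall r hr hrm) hrm)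
      · obtain ⟨r, hr, hrm⟩ := Nat.exists_prime_and_dvd
          (fun e => hCC.not_ge (Subgroup.relIndex_eq_one.1 e) : ⁅C, C⁆.relIndex C ≠ 1)
        refine Or.inl (Nat.Prime.not_coprime_iff_dvd.2 ⟨r, hr, haall r hr hrm, ?_⟩)
        rcases hrow _ _ hbC hyC (hfar ⟨_, hbC⟩ hb) with ⟨-, hyall⟩ | ⟨-, hball⟩
        · exact absurd (Nat.eq_one_of_dvd_coprimes hyc (hyall r hr hrm) hrm) hr.ne_one
        · exact hball r hr hrm
    rcases hnear with h | ⟨c, hc, h2, h3⟩
    · exact Or.inl h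
    · exact Or.inr ⟨c, hsubset c hc, h2, h3⟩

/-- Let N be a solvable normal subgroup of the finite group G contained in the derived subgroup of G, and consider the common-divisor graph on the relative degree set cd(G|N) (degrees of irreducible complex characters of G whose kernel does not contain N, two distinct degrees adjacent when not coprime). If this graph has two vertices that are not joined by any path, then there is a vertex a₀ such that any two distinct vertices in the component of a₀ are adjacent, and any two distinct vertices outside that component are adjacent or have a common neighbour (one component is complete, the other has diameter at most 2). -/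
theorem result {G : Type*} [Group G] [Finite G] (N : Subgroup G) [N.Normal] [Group.IsSolvable N] (hNG : N ≤ commutator G) (hdisc : ¬ (Cfsg.commonDivisorGraph.induce (Cfsg.relCharDegrees N)).Preconnected) : ∃ a₀ : ↥(Cfsg.relCharDegrees N), (∀ b c : ↥(Cfsg.relCharDegrees N), (Cfsg.commonDivisorGraph.induce (Cfsg.relCharDegrees N)).Reachable a₀ b → (Cfsg.commonDivisorGraph.induce (Cfsg.relCharDegrees N)).Reachable a₀ c → b ≠ c → (Cfsg.commonDivisorGraph.induce (Cfsg.relCharDegrees N)).Adj b c) ∧ (∀ b c : ↥(Cfsg.relCharDegrees N), ¬ (Cfsg.commonDivisorGraph.induce (Cfsg.relCharDegrees N)).Reachable a₀ b → ¬ (Cfsg.commonDivisorGraph.induce (Cfsg.relCharDegrees N)).Reachable a₀ c → b ≠ c → (Cfsg.commonDivisorGraph.induce (Cfsg.relCharDegrees N)).Adj b c ∨ ∃ d : ↥(Cfsg.relCharDegrees N), (Cfsg.commonDivisorGraph.induce (Cfsg.relCharDegrees N)).Adj b d ∧ (Cfsg.commonDivisorGraph.induce (Cfsg.relCharDegrees N)).Adj d c) := by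
  classical
  haveI := Fintype.ofFinite G
  set C := Cfsg.commonDivisorGraph.induce (Cfsg.relCharDegrees N)
  simp only [SimpleGraph.Preconnected, not_forall] at hdisc
  obtain ⟨x, y, hxy⟩ := hdisc
  have hne : N ≠ ⊥ := fun e => by
    obtain ⟨η, ⟨z, hz, hz'⟩, -⟩ := id x.2
    rw [e, Subgroup.mem_bot] at hz
    exact hz' (by rw [hz])
  have hN : ⁅N, N⁆ < N := commutator_lt N hne
  obtain ⟨htype, hsep⟩ := types N hN hNG hxy
  set m := ⁅N, N⁆.relIndex N
  obtain ⟨r, hr, hrm⟩ := Nat.exists_prime_and_dvd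
    (fun e => hN.not_ge (Subgroup.relIndex_eq_one.1 e) : m ≠ 1)
  obtain ⟨a₀, ha₀⟩ : ∃ a₀ : ↥(Cfsg.relCharDegrees N), ∀ s : ℕ, s.Prime → s ∣ m → s ∣ (a₀ : ℕ) := by
    rcases (Cfsg.Agent.S4776.result N hN hNG).2 x y x.2 y.2 hxy with ⟨-, h⟩ | ⟨-, h⟩
    · exact ⟨y, h⟩
    · exact ⟨x, h⟩
  have ha₀c : ¬ Nat.Coprime (a₀ : ℕ) m :=
    Nat.Prime.not_coprime_iff_dvd.2 ⟨r, hr, ha₀ r hr hrm, hrm⟩
  have hin : ∀ z, C.Reachable a₀ z → r ∣ (z : ℕ) := fun z hz => by
    rcases htype z with h | h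
    · exact absurd hz.symm (hsep z a₀ h ha₀c)
    · exact h r hr hrm
  have hpos : ∀ z : ↥(Cfsg.relCharDegrees N), 0 < (z : ℕ) := fun z => by
    obtain ⟨η, -, hd⟩ := id z.2
    exact hd ▸ Nat.pos_of_ne_zero (CfsgLib.Blocks.charDegree_ne_zero η)
  have hadj : ∀ u v : ↥(Cfsg.relCharDegrees N), u ≠ v → ¬ Nat.Coprime (u : ℕ) v → C.Adj u v := by
    intro u v huv h
    refine ⟨fun e => huv (Subtype.ext e), ?_⟩
    show 1 < Nat.gcd (u : ℕ) v
    have h1 : 0 < Nat.gcd (u : ℕ) v := Nat.gcd_pos_of_pos_left _ (hpos u)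
    have h2 : Nat.gcd (u : ℕ) v ≠ 1 := h
    omega
  refine ⟨a₀, fun b c hb hc hbc => hadj b c hbc
    (Nat.Prime.not_coprime_iff_dvd.2 ⟨r, hr, hin b hb, hin c hc⟩), fun b c hb hc hbc => ?_⟩
  have hcop : ∀ z, ¬ C.Reachable a₀ z → Nat.Coprime (z : ℕ) m := fun z hz => by
    rcases htype z with h | h
    · exact h
    · exact absurd (reach_of_share N hr a₀ z (ha₀ r hr hrm) (h r hr hrm)) hz
  rcases near_all (Nat.card N) N le_rfl hNG hN x y hxy b c (hcop b hb) (hcop c hc) with h | ⟨d, hd, h1, h2⟩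
  · exact Or.inl (hadj b c hbc h)
  by_cases h0 : ¬ Nat.Coprime (b : ℕ) c
  · exact Or.inl (hadj b c hbc h0)
  push Not at h0
  exact Or.inr ⟨⟨d, hd⟩, hadj _ _ (fun e => h2 (by rw [← show (b : ℕ) = d from congrArg Subtype.val e]; exact h0)) h1,
    hadj _ _ (fun e => h1 (by rw [show d = (c : ℕ) from congrArg Subtype.val e]; exact h0)) h2⟩

end Cfsg.Agent.S4779
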