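import Cfsg.Statements.S4780
import Cfsg.Agent.NoDivDegrees.PQuot
import Cfsg.Agent.NoDivDegrees.Start
import Cfsg.Agent.NoDivDegrees.LOne
import Cfsg.Agent.NoDivDegrees.PCase
import Cfsg.Agent.S4458

set_option autoImplicit false
set_option linter.style.haveILetI false
open Cfsg CfsgLib CfsgLib.NoDivDegrees
open scoped commutatorElement

namespace Cfsg.Agent.S4780

theorem card_le_four {s : Set ℕ} {a b c : ℕ}
    (h : ∀ d ∈ s, d = 1 ∨ d = a ∨ d = b ∨ d = c) : Nat.card s ≤ 4 := by
  classical
  have hsub : s ⊆ (({1, a, b, c} : Finset ℕ) : Set ℕ) := fun d hd => by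
    simpa using h d hd
  rw [Nat.card_coe_set_eq]
  refine (Set.ncard_le_ncard hsub (Finset.finite_toSet _)).trans ?_
  rw [Set.ncard_coe_finset]
  exact Finset.card_le_four

/-- Let G be a finite solvable group in which no irreducible complex character degree a with 1 < a divides a larger irreducible character degree. Then G has at most four distinct irreducible character degrees and the third derived subgroup of G is trivial. -/
theorem result {G : Type*} [Group G] [Finite G] [Group.IsSolvable G] (hnd : ∀ a ∈ Cfsg.charDegrees G, ∀ b ∈ Cfsg.charDegrees G, 1 < a → a < b → ¬ a ∣ b) : Nat.card ↥(Cfsg.charDegrees G) ≤ 4 ∧ derivedSeries G 3 = ⊥ := by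
  classical
  haveI := Fintype.ofFinite G
  rw [derivedSeries_succ, derivedSeries_succ]
  have hbot : derivedSeries G 1 = commutator G := by rw [derivedSeries_one]
  have habel : ∀ H : Subgroup G, (∀ x ∈ H, ∀ y ∈ H, x * y = y * x) → ⁅H, H⁆ = ⊥ := fun H h =>
    (Subgroup.commutator_eq_bot_iff_le_centralizer).2 fun x hx =>
      Subgroup.mem_centralizer_iff.2 fun y hy => h y hy x hx
  by_cases hab : ∀ a b : G, a * b = b * a
  · refine ⟨card_le_four (a := 1) (b := 1) (c := 1) fun d hd => ?_, ?_⟩
    · obtain ⟨χ, hχ, hχ1, -⟩ := DegreeGraph.exists_of_mem hd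
      have h1 : χ 1 = 1 := OddOrderChar.irr_degree_one_of_comm hab ⟨χ, hχ⟩
      rw [h1] at hχ1
      exact Or.inl (by exact_mod_cast hχ1.symm)
    · rw [habel (derivedSeries G 1) fun x _ y _ => hab x y, Subgroup.commutator_bot_left]
  push Not at hab
  by_cases hq : ∀ q : ℕ, q.Prime → ∀ M : Subgroup G, M.Normal → ∀ n, M.index = q ^ n →
      ∀ a b : G, ⁅a, b⁆ ∈ M
  swap
  · push Not at hq
    obtain ⟨q, hq, M, hM, n, hn, a, b, hne⟩ := hq
    haveI := hM
    have huniq := fun c c' hc hc' h1 h1' =>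
      unique_of_primePow_quotient hnd hq M hn ⟨a, b, hne⟩ (c := c) (c' := c') hc hc' h1 h1'
    by_cases hex : ∃ c ∈ charDegrees G, c ≠ 1
    swap
    · push Not at hex
      exfalso
      obtain ⟨x, y, hxy⟩ := hab
      exact hxy (CharactersDeep.PrimePowerDegrees.comm_of_linear (fun χ => by
        obtain ⟨d, -, hd⟩ := Characters.exists_degree_pos χ.2
        rw [hd, hex d (DegreeGraph.mem_charDegrees χ.2 hd), Nat.cast_one]) x y)
    obtain ⟨m, hm, hm1⟩ := hex
    have htwo : ∀ d ∈ charDegrees G, d = 1 ∨ d = m := fun d hd => by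
      by_cases h1 : d = 1
      · exact Or.inl h1
      · exact Or.inr (huniq d m hd hm h1 hm1)
    refine ⟨card_le_four (a := m) (b := m) (c := m) fun d hd => (htwo d hd).imp_right Or.inl, ?_⟩
    obtain ⟨χ, hχ⟩ := id hm
    have h2 := Cfsg.Agent.S4458.result (G := G) m (fun ψ => htwo _ ⟨ψ, rfl⟩) ⟨χ, hχ⟩ hm1
    rw [habel (derivedSeries G 1) (fun x hx y hy => h2 x (hbot ▸ hx) y (hbot ▸ hy)),
      Subgroup.commutator_bot_left]
  obtain ⟨K, hK, B⟩ := exists_base hnd hab hq
  haveI := hK
  have hle : derivedSeries G 1 ≤ K := by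
    rw [hbot, commutator_def, Subgroup.commutator_le]
    exact fun x _ y _ => B.comm_mem x y
  rcases B.dichotomy with h | ⟨p, hp, hpd, hpK, honly⟩
  · obtain ⟨hcomm, a, ha⟩ := B.case_one h
    refine ⟨card_le_four (a := K.index) (b := a) (c := a)
      fun d hd => (ha d hd).imp_right (Or.imp_right Or.inl), le_bot_iff.1 ?_⟩
    rw [← habel _ hcomm]
    exact Subgroup.commutator_mono (Subgroup.commutator_mono hle hle)
      (Subgroup.commutator_mono hle hle)
  · obtain ⟨hd3, a, b, hab'⟩ := B.case_two hp hpd hpK honly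
    rw [derivedSeries_succ, derivedSeries_succ] at hd3
    exact ⟨card_le_four hab', hd3⟩

end Cfsg.Agent.S4780
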