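import Cfsg.Statements.S4784
import Cfsg.Agent.Indicator.Basic
import Cfsg.Agent.Codegree.Sums
import Cfsg.Agent.Characters.Induction
import Cfsg.Agent.Characters.Linear
import Mathlib.GroupTheory.Perm.Cycle.Type

set_option autoImplicit false
open Cfsg

namespace Cfsg.Agent.S4784

/-- Let H be a subgroup of the finite group G and consider the permutation character of G on the cosets of H (the function induced from the principal character of H). Then exactly one irreducible constituent of it is real-valued with Frobenius–Schur indicator +1 (namely the principal character) if and only if the normal core of H has odd index in G. -/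
theorem result {G : Type*} [Group G] [Fintype G] (H : Subgroup G) : Nat.card {χ : Cfsg.IrrCharacter G // Cfsg.classInner (Cfsg.indFun H (fun _ : H => (1 : ℂ))) (χ : G → ℂ) ≠ 0 ∧ (∀ g : G, (starRingEnd ℂ) ((χ : G → ℂ) g) = (χ : G → ℂ) g) ∧ (Nat.card G : ℂ)⁻¹ * ∑ g : G, (χ : G → ℂ) (g * g) = 1} = 1 ↔ Odd H.normalCore.index := by
  classical
  letI := Fintype.ofFinite H
  set π : G → ℂ := Cfsg.indFun H (fun _ : H => (1 : ℂ)) with hπ
  have hπc : Cfsg.IsCharacter G π :=
    CfsgLib.Characters.isCharacter_indFun H CfsgLib.Characters.isCharacter_one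
  set K : Subgroup G := H.normalCore with hK
  letI := Fintype.ofFinite K
  obtain ⟨m, hm⟩ := CfsgLib.Characters.exists_nat_coeff hπc
  have hcoef : ∀ χ : Cfsg.IrrCharacter G, Cfsg.classInner π (χ : G → ℂ) = m χ := fun χ => by
    rw [hm, CfsgLib.Characters.classInner_irr_coeff]
  set e : Cfsg.IrrCharacter G := ⟨fun _ => 1, CfsgLib.Characters.isIrr_one⟩ with he
  have hN : (Nat.card G : ℂ) ≠ 0 := Nat.cast_ne_zero.2 Nat.card_pos.ne'
  have hnue : CfsgLib.FSIndicator.nu (e : G → ℂ) = 1 := by
    simp only [CfsgLib.FSIndicator.nu, he, Finset.sum_const, Finset.card_univ, nsmul_eq_mul,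
      mul_one, Nat.card_eq_fintype_card]
    exact inv_mul_cancel₀ (by exact_mod_cast Fintype.card_ne_zero)
  have hme : m e = 1 := by
    have h := hcoef e
    rw [hπ, CfsgLib.Characters.classInner_indFun H _
      (CfsgLib.Characters.isClassFunction_of_isIrr e.2),
      show (fun h : H => (e : G → ℂ) h) = fun _ : H => (1 : ℂ) from rfl,
      CfsgLib.Characters.classInner_isIrr_self CfsgLib.Characters.isIrr_one] at h
    exact_mod_cast h.symm
  -- constituents contain the core in their kernel
  have hker : ∀ χ : Cfsg.IrrCharacter G, m χ ≠ 0 → CfsgLib.Codegree.KerContains χ K := by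
    intro χ hχ
    by_contra hk
    have h := hcoef χ
    rw [hπ, CfsgLib.Characters.classInner_indFun H _
      (CfsgLib.Characters.isClassFunction_of_isIrr χ.2), Cfsg.classInner] at h
    have hz : ∑ a : H, (starRingEnd ℂ) ((χ : G → ℂ) a) = 0 := by
      rw [← map_sum]
      suffices hs : (Fintype.card K : ℂ) * ∑ a : H, (χ : G → ℂ) a = 0 by
        rw [(mul_eq_zero.1 hs).resolve_left (Nat.cast_ne_zero.2 Fintype.card_ne_zero), map_zero]
      have h2 : ∀ k : K, ∑ a : H, (χ : G → ℂ) ((a : G) * k) = ∑ a : H, (χ : G → ℂ) a := by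
        intro k
        exact Fintype.sum_equiv
          (Equiv.mulRight (⟨(k : G), H.normalCore_le k.2⟩ : H)) _ _ fun a => rfl
      have h3 : ∑ k : K, ∑ a : H, (χ : G → ℂ) ((a : G) * k) = 0 := by
        rw [Finset.sum_comm]
        exact Finset.sum_eq_zero fun a _ => CfsgLib.Codegree.sum_coset_eq_zero χ K hk a
      rw [Finset.sum_congr rfl fun k _ => h2 k, Finset.sum_const, Finset.card_univ,
        nsmul_eq_mul] at h3
      exact h3
    simp only [one_mul, hz, mul_zero] at h
    exact hχ (by exact_mod_cast h.symm)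
  constructor
  · intro hone
    by_contra hodd
    rw [Nat.not_odd_iff_even, even_iff_two_dvd, Subgroup.index_eq_card] at hodd
    -- the indicator of the permutation character exceeds one
    obtain ⟨z, hz⟩ := exists_prime_orderOf_dvd_card' 2 hodd
    obtain ⟨g₀, rfl⟩ := QuotientGroup.mk_surjective z
    have hg0 : g₀ * g₀ ∈ K := by
      have h := pow_orderOf_eq_one (QuotientGroup.mk g₀ : G ⧸ K)
      rw [hz, sq, ← QuotientGroup.mk_mul] at h
      exact (QuotientGroup.eq_one_iff _).1 h
    have hg1 : g₀ ∉ K := fun h => by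
      rw [(QuotientGroup.eq_one_iff g₀).2 h, orderOf_one] at hz
      exact absurd hz (by norm_num)
    obtain ⟨x₀, hx₀⟩ : ∃ x : G, x⁻¹ * g₀ * x ∉ H := by
      by_contra hno
      push Not at hno
      refine hg1 fun a => ?_
      simpa using hno a⁻¹
    set c : G → ℕ := fun g => (Finset.univ.filter (fun x : G => x⁻¹ * g * x ∈ H)).card with hc
    have hπval : ∀ g, π g = (Nat.card H : ℂ)⁻¹ * (c g : ℂ) := by
      intro g
      simp only [hπ, Cfsg.indFun, hc, ← Finset.sum_boole]
      congr 1
      refine Finset.sum_congr rfl fun x _ => ?_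
      split_ifs with hx
      · rw [CfsgLib.Characters.extendByZero_of_mem H _ hx]
      · rw [CfsgLib.Characters.extendByZero_of_not_mem H _ hx]
    have hlt : ∑ g : G, c g < ∑ g : G, c (g * g) := by
      refine Finset.sum_lt_sum (fun g _ => Finset.card_le_card fun x hx => ?_)
        ⟨g₀, Finset.mem_univ _, Finset.card_lt_card ⟨fun x hx => ?_, fun hsub => hx₀ ?_⟩⟩
      · simp only [Finset.mem_filter, Finset.mem_univ, true_and] at hx ⊢
        have := H.mul_mem hx hx
        simpa [mul_assoc] using this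
      · simp only [Finset.mem_filter, Finset.mem_univ, true_and] at hx ⊢
        have := H.mul_mem hx hx
        simpa [mul_assoc] using this
      · have h1 : x₀ ∈ Finset.univ.filter (fun x : G => x⁻¹ * (g₀ * g₀) * x ∈ H) :=
          Finset.mem_filter.2 ⟨Finset.mem_univ _, H.normalCore_le
            (by simpa using H.normalCore_normal.conj_mem _ hg0 x₀⁻¹)⟩
        exact (Finset.mem_filter.1 (hsub h1)).2
    have hpos : (0 : ℝ) < (Nat.card G : ℝ) * (Nat.card H : ℝ) := by
      exact_mod_cast Nat.mul_pos Nat.card_pos Nat.card_pos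
    -- compare with the multiplicity of the principal character
    have hsum1 : ((∑ g : G, c g : ℕ) : ℂ) = (Nat.card G : ℂ) * (Nat.card H : ℂ) := by
      have h := hcoef e
      rw [hme, Nat.cast_one, Cfsg.classInner] at h
      simp only [hπval, he, map_one, mul_one, ← Finset.mul_sum, ← Nat.cast_sum] at h
      have hH : (Nat.card H : ℂ) ≠ 0 := Nat.cast_ne_zero.2 Nat.card_pos.ne'
      field_simp at h
      linear_combination h
    have hnu : ((∑ g : G, c (g * g) : ℕ) : ℂ) =
        (Nat.card G : ℂ) * (Nat.card H : ℂ) * ∑ χ, (m χ : ℂ) * CfsgLib.FSIndicator.nu (χ : G → ℂ) := by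
      have h1 : ∑ χ, (m χ : ℂ) * CfsgLib.FSIndicator.nu (χ : G → ℂ) =
          (Nat.card G : ℂ)⁻¹ * ∑ g : G, π (g * g) := by
        rw [hm]
        simp only [CfsgLib.FSIndicator.nu, Finset.sum_apply, Pi.smul_apply, smul_eq_mul,
          Finset.mul_sum]
        rw [Finset.sum_comm]
        exact Finset.sum_congr rfl fun χ _ => Finset.sum_congr rfl fun g _ => by ring
      rw [h1]
      simp only [hπval, ← Finset.mul_sum, ← Nat.cast_sum]
      have hH : (Nat.card H : ℂ) ≠ 0 := Nat.cast_ne_zero.2 Nat.card_pos.ne'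
      field_simp
    -- real numbers
    have hint : ∀ χ : Cfsg.IrrCharacter G, ∃ r : ℤ, r ≤ 1 ∧
        CfsgLib.FSIndicator.nu (χ : G → ℂ) = r := by
      intro χ
      rcases CfsgLib.FSIndicator.nu_irr χ with ⟨-, h | h⟩ | ⟨-, h⟩
      exacts [⟨1, le_rfl, by simp [h]⟩, ⟨-1, by norm_num, by simp [h]⟩, ⟨0, by norm_num, by simp [h]⟩]
    choose r hr1 hr using hint
    have hre : r e = 1 := by
      have := hr e
      rw [hnue] at this
      exact_mod_cast this.symm
    have hgt : (1 : ℤ) < ∑ χ, (m χ : ℤ) * r χ := by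
      simp only [hr] at hnu
      have h1 : ((∑ g : G, c g : ℕ) : ℤ) = (Nat.card G : ℤ) * (Nat.card H : ℤ) := by
        exact_mod_cast hsum1
      have h2 : ((∑ g : G, c (g * g) : ℕ) : ℤ) =
          (Nat.card G : ℤ) * (Nat.card H : ℤ) * ∑ χ, (m χ : ℤ) * r χ := by
        exact_mod_cast hnu
      have h3 : ((∑ g : G, c g : ℕ) : ℤ) < ((∑ g : G, c (g * g) : ℕ) : ℤ) := by exact_mod_cast hlt
      rw [h1, h2] at h3
      by_contra hle
      push Not at hle
      have : (0 : ℤ) ≤ (Nat.card G : ℤ) * (Nat.card H : ℤ) := by positivity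
      have h4 := mul_le_mul_of_nonneg_left hle this
      linarith
    obtain ⟨χ, hχe, hχ⟩ : ∃ χ : Cfsg.IrrCharacter G, χ ≠ e ∧ 0 < (m χ : ℤ) * r χ := by
      by_contra hno
      push Not at hno
      rw [← Finset.add_sum_erase _ _ (Finset.mem_univ e), hme, hre] at hgt
      have := Finset.sum_nonpos (s := Finset.univ.erase e)
        fun χ hχ => hno χ (Finset.mem_erase.1 hχ).1
      simp only [Nat.cast_one, one_mul] at hgt
      linarith
    have hm0 : m χ ≠ 0 := fun h => by rw [h] at hχ; simp at hχ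
    have hrpos : 0 < r χ := Int.pos_of_mul_pos_right hχ (by positivity) |> id
    have hr' : r χ = 1 := le_antisymm (hr1 χ) hrpos
    have hreal : ∀ g : G, (starRingEnd ℂ) ((χ : G → ℂ) g) = (χ : G → ℂ) g := by
      rcases CfsgLib.FSIndicator.nu_irr χ with ⟨h, -⟩ | ⟨-, h⟩
      · exact h
      · rw [hr χ, hr'] at h; simp at h
    obtain ⟨hsub, -⟩ := Nat.card_eq_one_iff_unique.1 hone
    refine hχe (congrArg Subtype.val (hsub.elim
      ⟨χ, ?_, hreal, ?_⟩ ⟨e, ?_, fun g => map_one _, hnue⟩))
    · rw [hcoef]; exact_mod_cast hm0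
    · show CfsgLib.FSIndicator.nu (χ : G → ℂ) = 1
      rw [hr χ, hr']; simp
    · rw [hcoef, hme]; simp
  · intro hodd
    rw [Nat.card_eq_one_iff_unique]
    refine ⟨⟨fun a b => ?_⟩, ⟨⟨e, ?_, fun g => map_one _, hnue⟩⟩⟩
    swap
    · rw [hcoef, hme]; simp
    suffices key : ∀ χ : Cfsg.IrrCharacter G, m χ ≠ 0 →
        CfsgLib.FSIndicator.nu (χ : G → ℂ) = 1 → χ = e by
      obtain ⟨χ, h1, -, h3⟩ := a
      obtain ⟨ψ, h4, -, h6⟩ := b
      rw [hcoef, Nat.cast_ne_zero] at h1 h4
      exact Subtype.ext ((key χ h1 h3).trans (key ψ h4 h6).symm)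
    intro χ hχ hnu1
    by_contra hne
    obtain ⟨n, ρ, hρ, hρc⟩ := χ.2
    have hfac : ∀ a k : G, k ∈ K → (χ : G → ℂ) (a * k) = (χ : G → ℂ) a := by
      intro a k hk
      have h1 := hker χ hχ k hk
      rw [← hρc] at h1 ⊢
      rw [Representation.character, map_mul, (CfsgLib.Codegree.char_eq_one_iff ρ k).1 h1, mul_one]
      rfl
    set f : G ⧸ K → ℂ := fun q => (χ : G → ℂ) q.out with hf
    have hfg : ∀ a : G, (χ : G → ℂ) a = f (QuotientGroup.mk a) := by
      intro a
      obtain ⟨k, hk⟩ := QuotientGroup.mk_out_eq_mul K a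
      simp only [hf, hk, hfac a k k.2]
    letI : Fintype (G ⧸ K) := Fintype.ofFinite _
    have hsum : ∀ F : G ⧸ K → ℂ, ∑ a : G, F (QuotientGroup.mk a) =
        (Fintype.card K : ℂ) * ∑ q, F q := by
      intro F
      rw [← Equiv.sum_comp (Subgroup.groupEquivQuotientProdSubgroup (s := K)).symm,
        Fintype.sum_prod_type, Finset.mul_sum]
      refine Finset.sum_congr rfl fun q _ => ?_
      rw [Finset.sum_congr rfl (g := fun _ => F q) fun k _ => ?_, Finset.sum_const,
        Finset.card_univ, nsmul_eq_mul]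
      generalize hz : (Subgroup.groupEquivQuotientProdSubgroup (s := K)).symm (q, k) = z
      rw [show (QuotientGroup.mk z : G ⧸ K) = q from
        (congrArg Prod.fst ((Equiv.symm_apply_eq _).1 hz)).symm]
    have hcop : (Nat.card (G ⧸ K)).Coprime 2 := by
      rw [← Subgroup.index_eq_card, Nat.coprime_comm, Nat.prime_two.coprime_iff_not_dvd]
      exact fun h => Nat.not_even_iff_odd.2 hodd (even_iff_two_dvd.2 h)
    have h0 : CfsgLib.FSIndicator.nu (χ : G → ℂ) = 0 := by
      have horth := CfsgLib.Characters.classInner_isIrr_ne χ.2 e.2 fun h => hne (Subtype.ext h)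
      rw [Cfsg.classInner] at horth
      simp only [he, map_one, mul_one] at horth
      rw [CfsgLib.FSIndicator.nu, ← horth]
      congr 1
      simp only [hfg, QuotientGroup.mk_mul]
      rw [hsum (fun q => f (q * q)), hsum f]
      congr 1
      refine Fintype.sum_equiv (powCoprime hcop) _ _ fun q => ?_
      rw [powCoprime_apply, sq]
    rw [h0] at hnu1
    exact one_ne_zero hnu1.symm

end Cfsg.Agent.S4784
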