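import Cfsg.Statements.S4796
import Cfsg.Agent.Codegree.Kernel
import Cfsg.Agent.Codegree.PrimeCodegree
import Cfsg.Agent.Codegree.Frobenius

set_option autoImplicit false
open Cfsg

namespace Cfsg.Agent.S4796

/-- Let G be a finite group with a faithful irreducible complex character χ whose codegree #G / χ(1) is a prime p (for a faithful character the kernel is trivial, so the codegree is #G / χ(1)). Then either G is cyclic of order p, or G is a Frobenius group whose Frobenius kernel has order p: some proper non-trivial subgroup H satisfies H ∩ gHg⁻¹ = 1 for every element g outside H, and the set of elements lying in no conjugate of H, together with the identity, has exactly p elements. -/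
theorem result {G : Type*} [Group G] [Finite G] (χ : Cfsg.IrrCharacter G) (hfaith : ∀ g : G, (χ : G → ℂ) g = (χ : G → ℂ) 1 → g = 1) (p : ℕ) (hp : p.Prime) (hcod : Nat.card G = p * Cfsg.charDegree (χ : G → ℂ)) : (IsCyclic G ∧ Nat.card G = p) ∨ ∃ H : Subgroup G, Cfsg.IsFrobeniusComplement H ∧ Nat.card ↥(Cfsg.frobeniusKernel H) = p := by
  classical
  obtain ⟨n, ρ, hρ, hρc⟩ := χ.2
  rw [← hρc] at hfaith hcod
  rw [CfsgLib.Codegree.charDegree_character] at hcod
  have hinj : Function.Injective ρ := by
    intro a b hab
    have h1 : ρ (a⁻¹ * b) = 1 := by rw [map_mul, ← hab, ← map_mul, inv_mul_cancel, map_one]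
    have := hfaith _ ((CfsgLib.Codegree.char_eq_one_iff ρ _).2 h1)
    exact inv_mul_eq_one.1 this
  obtain ⟨P, B, hPn, hPc, hPB, hBc, hfree⟩ :=
    CfsgLib.Codegree.exists_frobenius_data ρ hinj hp hcod
  by_cases hd : Module.finrank ℂ (Fin n → ℂ) = 1
  · left
    haveI := Fact.mk hp
    rw [hd, mul_one] at hcod
    exact ⟨isCyclic_of_prime_card hcod, hcod⟩
  right
  obtain ⟨hfrob, hker⟩ := CfsgLib.Codegree.frobenius_of_free hPn hPB
    (by rw [hBc]; exact hd) (by rw [hPc]; exact hp.ne_one) hfree
  exact ⟨B, hfrob, by rw [hker]; exact hPc⟩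

end Cfsg.Agent.S4796
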