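import Cfsg.Statements.S4797
import Cfsg.Agent.Codegree.Kernel
import Cfsg.Agent.Codegree.PrimeCodegree
import Cfsg.Agent.Characters.Integrality

set_option autoImplicit false
open Cfsg

namespace Cfsg.Agent.S4797

/-- The codegree of an irreducible complex character χ of a finite group G is [G : ker χ] / χ(1), where ker χ is the set of elements at which χ takes the value χ(1). A non-trivial finite group is perfect if and only if no irreducible complex character of it has prime codegree. -/
theorem result {G : Type*} [Group G] [Finite G] [Nontrivial G] : commutator G = ⊤ ↔ ∀ χ : Cfsg.IrrCharacter G, ¬ ((Nat.card G / (Nat.card {g : G // (χ : G → ℂ) g = (χ : G → ℂ) 1} * Cfsg.charDegree (χ : G → ℂ)))).Prime := by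
  classical
  letI := Fintype.ofFinite G
  constructor
  · intro hperf χ hprime
    obtain ⟨n, ρ, hρ, hρc⟩ := χ.2
    rw [← hρc, CfsgLib.Codegree.codeg_eq] at hprime
    haveI := CfsgLib.Codegree.kerRep_irreducible ρ
    set Q := G ⧸ MonoidHom.ker ρ with hQ
    letI : Fintype Q := Fintype.ofFinite _
    have hperfQ : commutator Q = ⊤ := by
      have h := map_commutator_eq G (QuotientGroup.mk' (MonoidHom.ker ρ))
      rw [hperf, ← MonoidHom.range_eq_map] at h
      rw [MonoidHom.range_eq_top.2 (QuotientGroup.mk'_surjective _)] at h
      rw [commutator_def]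
      exact h.symm
    obtain ⟨p, hp, hcard⟩ : ∃ p : ℕ, p.Prime ∧
        Nat.card Q = p * Module.finrank ℂ (Fin n → ℂ) :=
      ⟨_, hprime, (Nat.div_mul_cancel
        (CfsgLib.Characters.finrank_dvd_card (CfsgLib.Codegree.kerRep ρ))).symm⟩
    obtain ⟨P, B, hPn, hPc, hPB, hBc, hfree⟩ := CfsgLib.Codegree.exists_frobenius_data
      (CfsgLib.Codegree.kerRep ρ) (CfsgLib.Codegree.kerRep_injective ρ) hp hcard
    haveI := hPn
    haveI := Fact.mk hp
    haveI : IsCyclic P := isCyclic_of_prime_card hPc
    -- the automorphism group of `P` is commutative, so the perfect group centralises `P`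
    have hcomm : ∀ a b : MulAut P, a * b = b * a := by
      obtain ⟨z, hz⟩ := IsCyclic.exists_generator (α := P)
      intro a b
      obtain ⟨i, hi⟩ := hz (a z)
      obtain ⟨j, hj⟩ := hz (b z)
      have hi' : z ^ i = a z := hi
      have hj' : z ^ j = b z := hj
      refine MulEquiv.ext fun x => ?_
      obtain ⟨k, rfl⟩ := hz x
      simp only [MulAut.mul_apply, map_zpow, ← hi', ← hj', ← zpow_mul]
      ring_nf
    have hker : commutator Q ≤ (MulAut.conjNormal : Q →* MulAut P).ker := by
      rw [commutator_def, Subgroup.commutator_le]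
      intro a _ b _
      rw [MonoidHom.mem_ker, map_commutatorElement, commutatorElement_eq_one_iff_mul_comm]
      exact hcomm _ _
    have hB : B = ⊥ := by
      rw [eq_bot_iff]
      intro b hb
      haveI : Nontrivial P := Finite.one_lt_card_iff_nontrivial.1 (by rw [hPc]; exact hp.one_lt)
      obtain ⟨x, hx⟩ := exists_ne (1 : P)
      have h1 : MulAut.conjNormal b x = x := by
        rw [MonoidHom.mem_ker.1 (hker (hperfQ ▸ Subgroup.mem_top b))]
        rfl
      have h2 : b * (x : Q) * b⁻¹ = x := by
        have := congrArg (fun y : P => (y : Q)) h1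
        simpa using this
      have hcomm' : Commute b (x : Q) := mul_inv_eq_iff_eq_mul.1 h2
      exact Subgroup.mem_bot.2
        ((hfree b hb x x.2 hcomm').resolve_right fun h => hx (Subtype.ext h))
    have hQc : Nat.card Q = p := by
      have := hPB.card_mul
      rw [hPc, hB, Subgroup.card_bot, mul_one] at this
      exact this.symm
    haveI : IsCyclic Q := isCyclic_of_prime_card hQc
    have hbot : commutator Q = ⊥ := by
      rw [commutator_def, eq_bot_iff, Subgroup.commutator_le]
      intro a _ b _
      rw [Subgroup.mem_bot, commutatorElement_eq_one_iff_mul_comm]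
      exact (IsCyclic.isMulCommutative.is_comm).comm a b
    have : Subsingleton Q := by
      have := hperfQ.symm.trans hbot
      exact subsingleton_of_forall_eq 1 fun y => by
        have hy : y ∈ (⊤ : Subgroup Q) := Subgroup.mem_top y
        rw [this] at hy
        simpa using hy
    have h1 : Nat.card Q = 1 := Nat.card_unique
    rw [hQc] at h1
    exact hp.ne_one h1
  · intro h
    by_contra hne
    obtain ⟨φ, q, hq, hidx⟩ := CfsgLib.Codegree.exists_hom_prime_order hne
    refine h (CfsgLib.Codegree.linearIrr φ) ?_
    rw [CfsgLib.Codegree.charDegree_linearIrr, mul_one]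
    have hk : Nat.card {g : G // (CfsgLib.Codegree.linearIrr φ : G → ℂ) g =
        (CfsgLib.Codegree.linearIrr φ : G → ℂ) 1} = Nat.card (MonoidHom.ker φ) :=
      Nat.card_congr (Equiv.subtypeEquivRight fun g => by
        simp [CfsgLib.Codegree.linearIrr, MonoidHom.mem_ker, Units.val_eq_one])
    rw [hk, ← Subgroup.card_mul_index (MonoidHom.ker φ), Nat.mul_div_cancel_left _ Nat.card_pos,
      hidx]
    exact hq

end Cfsg.Agent.S4797
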