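import Cfsg.Statements.S4801
import Cfsg.Agent.Codegree.Sums

set_option autoImplicit false
open Cfsg

namespace Cfsg.Agent.S4801

/-- The codegree of an irreducible complex character χ of a finite group G is [G : ker χ] / χ(1), where ker χ is the set of elements at which χ takes the value χ(1). Let S be a finite simple group and G a finite group such that every codegree of an irreducible character of S is a codegree of an irreducible character of G. Then the order of S divides the order of G. -/
theorem result {S : Type*} [Group S] [Finite S] (hS : IsSimpleGroup S) {G : Type*} [Group G] [Finite G] (hsub : ∀ χ : Cfsg.IrrCharacter S, ∃ ψ : Cfsg.IrrCharacter G, (Nat.card S / (Nat.card {g : S // (χ : S → ℂ) g = (χ : S → ℂ) 1} * Cfsg.charDegree (χ : S → ℂ))) = (Nat.card G / (Nat.card {g : G // (ψ : G → ℂ) g = (ψ : G → ℂ) 1} * Cfsg.charDegree (ψ : G → ℂ)))) : Nat.card S ∣ Nat.card G := by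
  classical
  letI := Fintype.ofFinite S
  letI := Fintype.ofFinite G
  rw [Nat.dvd_iff_prime_pow_dvd_dvd]
  intro p k hp hk
  rcases Nat.eq_zero_or_pos k with rfl | hk0
  · simp
  have hpS : p ∣ Nat.card S := (dvd_pow_self p hk0.ne').trans hk
  -- a nontrivial character of degree prime to `p`
  obtain ⟨χ, hχ1, hχp⟩ : ∃ χ : Cfsg.IrrCharacter S,
      ¬ CfsgLib.Codegree.KerContains χ ⊤ ∧ ¬ p ∣ Cfsg.charDegree (χ : S → ℂ) := by
    by_contra hno
    push Not at hno
    have htot := CfsgLib.Codegree.sum_charDegree_sq (G := S)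
    rw [← Finset.sum_filter_add_sum_filter_not Finset.univ
      (fun χ : Cfsg.IrrCharacter S => CfsgLib.Codegree.KerContains χ ⊤),
      CfsgLib.Codegree.sum_charDegree_sq_kerContains (⊤ : Subgroup S), Subgroup.index_top] at htot
    have h1 : p ∣ 1 := by
      refine (Nat.dvd_add_left ?_).1 (htot ▸ hpS)
      refine Finset.dvd_sum fun χ hχ => ?_
      exact dvd_pow (hno χ (Finset.mem_filter.1 hχ).2) two_ne_zero
    exact hp.ne_one (Nat.dvd_one.1 h1)
  obtain ⟨K, hKn, hKmem, hKdvd, hKcod⟩ := CfsgLib.Codegree.exists_kernel χ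
  rcases hS.eq_bot_or_eq_top_of_normal K hKn with hK | hK
  · obtain ⟨ψ, hψ⟩ := hsub χ
    obtain ⟨L, -, -, hLdvd, hLcod⟩ := CfsgLib.Codegree.exists_kernel ψ
    rw [hKcod, hLcod, hK, Subgroup.index_bot] at hψ
    rw [hK, Subgroup.index_bot] at hKdvd
    rw [← Nat.mul_div_cancel' hKdvd] at hk
    have hk' : p ^ k ∣ Nat.card S / Cfsg.charDegree (χ : S → ℂ) :=
      (Nat.Coprime.pow_left k (hp.coprime_iff_not_dvd.2 hχp)).dvd_of_dvd_mul_left hk
    rw [hψ] at hk'
    exact hk'.trans ((Nat.div_dvd_of_dvd hLdvd).trans L.index_dvd_card)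
  · exact absurd (fun x _ => (hKmem x).1 (hK ▸ Subgroup.mem_top x)) hχ1

end Cfsg.Agent.S4801
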