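import Cfsg.Statements.S4802
import Cfsg.Agent.Codegree.Sums
import Cfsg.Agent.Characters.Linear

set_option autoImplicit false
open Cfsg

namespace Cfsg.Agent.S4802

/-- Let N < M be normal subgroups of the finite group G and g ∈ M ∖ N. Then the conjugacy class of g is exactly M ∖ N if and only if every irreducible complex character of G whose kernel contains N takes the same value at all elements of M ∖ N, and every irreducible complex character of G whose kernel does not contain N vanishes at g. -/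
theorem result {G : Type*} [Group G] [Finite G] (N M : Subgroup G) [N.Normal] [M.Normal] (hNM : N < M) (g : G) (hgM : g ∈ M) (hgN : g ∉ N) : {h : G | IsConj g h} = (M : Set G) \ (N : Set G) ↔ ((∀ χ : Cfsg.IrrCharacter G, (∀ x ∈ N, (χ : G → ℂ) x = (χ : G → ℂ) 1) → ∀ x ∈ M, x ∉ N → ∀ y ∈ M, y ∉ N → (χ : G → ℂ) x = (χ : G → ℂ) y) ∧ (∀ χ : Cfsg.IrrCharacter G, (∃ x ∈ N, (χ : G → ℂ) x ≠ (χ : G → ℂ) 1) → (χ : G → ℂ) g = 0)) := by
  classical
  letI := Fintype.ofFinite G
  letI := Fintype.ofFinite N
  have hcl : ∀ (χ : Cfsg.IrrCharacter G) {x y : G}, IsConj x y → (χ : G → ℂ) x = (χ : G → ℂ) y :=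
    fun χ _ _ h => CfsgLib.Characters.classFunction_isConj
      (CfsgLib.Characters.isClassFunction_of_isIrr χ.2) h
  constructor
  · intro h
    refine ⟨fun χ _ x hx hx' y hy hy' => ?_, ?_⟩
    · have h1 : x ∈ {a : G | IsConj g a} := by rw [h]; exact ⟨hx, hx'⟩
      have h2 : y ∈ {a : G | IsConj g a} := by rw [h]; exact ⟨hy, hy'⟩
      exact (hcl χ h1).symm.trans (hcl χ h2)
    · rintro χ ⟨x, hx, hne⟩
      have h0 := CfsgLib.Codegree.sum_coset_eq_zero χ N (fun hk => hne (hk x hx)) g
      have hconst : ∀ k : N, (χ : G → ℂ) (g * k) = (χ : G → ℂ) g := by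
        intro k
        have h1 : g * (k : G) ∈ {a : G | IsConj g a} := by
          rw [h]
          exact ⟨M.mul_mem hgM (hNM.le k.2), fun h' => hgN (by simpa using N.mul_mem h' (N.inv_mem k.2))⟩
        exact (hcl χ h1).symm
      simp only [hconst, Finset.sum_const, Finset.card_univ, nsmul_eq_mul] at h0
      exact (mul_eq_zero.1 h0).resolve_left (Nat.cast_ne_zero.2 Fintype.card_ne_zero)
  · rintro ⟨h1, h2⟩
    ext y
    constructor
    · intro hy
      obtain ⟨c, hc⟩ := isConj_iff.1 (show IsConj g y from hy)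
      rw [← hc]
      refine ⟨‹M.Normal›.conj_mem g hgM c, fun hN => hgN ?_⟩
      simpa [mul_assoc] using ‹N.Normal›.conj_mem _ hN c⁻¹
    · rintro ⟨hyM, hyN⟩
      by_contra hnc
      have hs := CfsgLib.Characters.sum_irr_mul_conj_of_not_isConj (g := g) (h := y) hnc
      have hterm : ∀ χ : Cfsg.IrrCharacter G, ((χ : G → ℂ) g * (starRingEnd ℂ) ((χ : G → ℂ) y)) =
          ((if CfsgLib.Codegree.KerContains χ N then ‖(χ : G → ℂ) g‖ ^ 2 else 0 : ℝ) : ℂ) := by
        intro χ
        split_ifs with hk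
        · rw [← h1 χ hk g hgM hgN y hyM hyN, Complex.mul_conj, Complex.normSq_eq_norm_sq]
        · simp only [CfsgLib.Codegree.KerContains, not_forall] at hk
          obtain ⟨x, hx, hne⟩ := hk
          rw [h2 χ ⟨x, hx, hne⟩]
          simp
      rw [Finset.sum_congr rfl fun χ _ => hterm χ, ← Complex.ofReal_sum, Complex.ofReal_eq_zero] at hs
      have hone := (Finset.sum_eq_zero_iff_of_nonneg
        (fun χ _ => by split_ifs <;> positivity)).1 hs
        ⟨fun _ => 1, CfsgLib.Characters.isIrr_one⟩ (Finset.mem_univ _)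
      rw [if_pos (show CfsgLib.Codegree.KerContains ⟨fun _ => 1, CfsgLib.Characters.isIrr_one⟩ N from fun x _ => rfl)] at hone
      simp at hone

end Cfsg.Agent.S4802
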