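import Cfsg.Statements.S4807
import Cfsg.Agent.RelMcKay.Main

set_option autoImplicit false
open Cfsg

namespace Cfsg.Agent.S4807

/-- Let p be a prime and G a finite p-solvable group, L a normal subgroup of G, S a Sylow p-subgroup of G and P the subgroup generated by L and S (so P/L is a Sylow p-subgroup of G/L), and let ν be an irreducible complex character of L that is invariant under conjugation by every element of P. Let N be the normalizer of P in G (it contains L). Then the number of irreducible characters of G of degree prime to p lying over ν (restriction to L not orthogonal to ν) equals the number of irreducible characters of N of degree prime to p lying over ν. -/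
theorem result {G : Type*} [Group G] [Finite G] (p : ℕ) [Fact p.Prime] (hG : Cfsg.IsPSolvable p G) (L : Subgroup G) [L.Normal] (S : Sylow p G) (P : Subgroup G) (hP : P = L ⊔ (S : Subgroup G)) (hLN : L ≤ (Subgroup.normalizer ((P : Subgroup G) : Set G))) (ν : Cfsg.IrrCharacter ↥L) (hν : ∀ x ∈ P, Cfsg.IsConjCharOf L x (ν : ↥L → ℂ) (ν : ↥L → ℂ)) : Nat.card {χ : Cfsg.IrrCharacter G // ¬ p ∣ Cfsg.charDegree (χ : G → ℂ) ∧ (∑ᶠ l : ↥L, (χ : G → ℂ) (l : G) * (starRingEnd ℂ) ((ν : ↥L → ℂ) l)) ≠ 0} = Nat.card {ψ : Cfsg.IrrCharacter ↥(Subgroup.normalizer ((P : Subgroup G) : Set G)) // ¬ p ∣ Cfsg.charDegree (ψ : ↥(Subgroup.normalizer ((P : Subgroup G) : Set G)) → ℂ) ∧ (∑ᶠ l : ↥L, (ψ : ↥(Subgroup.normalizer ((P : Subgroup G) : Set G)) → ℂ) (Subgroup.inclusion hLN l) * (starRingEnd ℂ) ((ν : ↥L → ℂ) l)) ≠ 0} := by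
  obtain ⟨hS, hi⟩ : IsPGroup p (S : Subgroup G) ∧ ¬ p ∣ (S : Subgroup G).index :=
    ⟨S.isPGroup', S.not_dvd_index⟩
  subst hP
  have hPfix : (S : Subgroup G) ≤ CfsgLib.RelMcKay.fixer ν := fun x hx =>
    ⟨by simp [Subgroup.normalizer_eq_top], hν x (Subgroup.mem_sup_right hx)⟩
  have main := CfsgLib.RelMcKay.relative_count hG (L.relIndex ⊤) L ⊤ (S : Subgroup G) rfl le_top
    (by simp [Subgroup.normalizer_eq_top]) hS le_top (by rwa [Subgroup.relIndex_top_right]) ν hPfix
    (le_inf le_top hLN)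
  rw [CfsgLib.RelMcKay.count_congr_sub (top_inf_eq _) _ hLN] at main
  have key : ∀ {H : Subgroup G} (hLH : L ≤ H) (χ : IrrCharacter H),
      (∑ᶠ l : ↥L, (χ : H → ℂ) (Subgroup.inclusion hLH l) * (starRingEnd ℂ) ((ν : ↥L → ℂ) l)) ≠ 0 ↔
        CfsgLib.RelGlauberman.multNat hLH χ ν ≠ 0 := by
    intro H hLH χ
    have h := CfsgLib.RelGlauberman.multNat_spec hLH χ ν
    unfold CfsgLib.RelGlauberman.multRes at h
    rw [← Nat.cast_ne_zero (R := ℂ) (n := CfsgLib.RelGlauberman.multNat hLH χ ν), ← h, mul_ne_zero_iff,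
      and_iff_right (inv_ne_zero (Nat.cast_ne_zero.2 Nat.card_pos.ne'))]
  let e := CfsgLib.RelGlauberman.irrCongr (Subgroup.topEquiv : (⊤ : Subgroup G) ≃* G)
  refine (Nat.card_congr (Equiv.subtypeEquiv e fun χ => ?_)).trans
    (main.trans (Nat.card_congr (Equiv.subtypeEquivRight fun ψ => and_congr Iff.rfl (key hLN ψ).symm)))
  exact and_congr (by simp [e, CfsgLib.RelMcKay.deg, Cfsg.charDegree, CfsgLib.RelGlauberman.irrCongr_apply]) (key le_top (e χ))

end Cfsg.Agent.S4807
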