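import Cfsg.Statements.S4813
import Cfsg.Agent.FT.PrimeDegrees
import Cfsg.Agent.S4811

set_option autoImplicit false
open Cfsg

namespace Cfsg.Agent.S4813

/-- If every irreducible complex character of the finite group G of degree greater than one has prime degree, then G has at most three distinct irreducible character degrees. -/
theorem result {G : Type*} [Group G] [Finite G] (hprime : ∀ d ∈ Cfsg.charDegrees G, d = 1 ∨ d.Prime) : Nat.card ↥(Cfsg.charDegrees G) ≤ 3 := by
  haveI : Group.IsSolvable G := CfsgLib.PrimeDegrees.isSolvable_of_allPrimeDeg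
    fun χ hχ => (hprime _ ⟨χ, rfl⟩).resolve_left hχ
  have h2 := Cfsg.Agent.S4811.result (G := G)
  set H := (Cfsg.degreeGraph G).induce (Cfsg.degreePrimes G) with hH
  have hadj : ∀ a b, ¬ H.Adj a b := by
    rintro ⟨a, ha⟩ ⟨b, hb⟩ hab
    obtain ⟨hne, hap, hbp, d, hd, hdvd⟩ := hab
    rcases hprime d hd with rfl | hdp
    · exact hap.ne_one (Nat.dvd_one.1 ((dvd_mul_right a b).trans hdvd))
    · have h1 := (Nat.prime_dvd_prime_iff_eq hap hdp).1 ((dvd_mul_right a b).trans hdvd)
      have h3 := (Nat.prime_dvd_prime_iff_eq hbp hdp).1 ((dvd_mul_left b a).trans hdvd)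
      exact hne (h1.trans h3.symm)
  have hinj : Function.Injective H.connectedComponentMk := by
    intro a b hab
    obtain ⟨w⟩ := SimpleGraph.ConnectedComponent.eq.1 hab
    cases w with
    | nil => rfl
    | cons h _ => exact absurd h (hadj _ _)
  haveI : Finite (Cfsg.degreePrimes G) := by
    have : (Cfsg.degreePrimes G) ⊆ {p | p ≤ Nat.card G} := by
      rintro p ⟨hp, d, ⟨χ, rfl⟩, hpd⟩
      haveI := Fintype.ofFinite G
      exact Nat.le_of_dvd Nat.card_pos (hpd.trans (CfsgLib.Blocks.charDegree_dvd_card χ))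
    exact ((Set.finite_le_nat _).subset this).to_subtype
  haveI : Finite H.ConnectedComponent :=
    Finite.of_surjective H.connectedComponentMk Quot.exists_rep
  have hcard : Nat.card (Cfsg.degreePrimes G) ≤ 2 :=
    le_trans (Nat.card_le_card_of_injective _ hinj) h2
  have hsub : Cfsg.charDegrees G ⊆ insert 1 (Cfsg.degreePrimes G) := fun d hd => by
    rcases hprime d hd with h | h
    · exact Or.inl h
    · exact Or.inr ⟨h, d, hd, dvd_rfl⟩
  have hfin : (Cfsg.degreePrimes G).Finite := Set.toFinite _
  rw [Nat.card_coe_set_eq] at hcard ⊢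
  calc (Cfsg.charDegrees G).ncard ≤ (insert 1 (Cfsg.degreePrimes G)).ncard :=
        Set.ncard_le_ncard hsub (hfin.insert 1)
    _ ≤ (Cfsg.degreePrimes G).ncard + 1 := Set.ncard_insert_le _ _
    _ ≤ 3 := by omega

end Cfsg.Agent.S4813
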