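import Cfsg.Statements.S4825
import Cfsg.Agent.Codegree.BlockOver

set_option autoImplicit false
open Cfsg

namespace Cfsg.Agent.S4825

theorem zmod_two_sq : ∀ z : ZMod 2, z ≠ 0 → z ^ 2 = 1 := by decide

theorem zmod_three_sq : ∀ z : ZMod 3, z ≠ 0 → z ^ 2 = 1 := by decide

/-- Let p be a prime, G a finite group with Sylow p-subgroup P, M a maximal ideal of the algebraic integers containing p, and B a p-block of G with defect group P. Let N be a normal subgroup of G not containing P and θ an irreducible character of N. Then the number of irreducible characters in B of degree prime to p lying over θ (having θ as a constituent on restriction to N) is either 0 or at least 2, and when p ≤ 3 it is divisible by p. -/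
theorem result {G : Type*} [Group G] [Fintype G] (p : ℕ) [Fact p.Prime] (P : Sylow p G) (M : Ideal Cfsg.AlgInt) (hM : Cfsg.IsPModular p M) (B : Set (Cfsg.IrrCharacter G)) (hB : Cfsg.IsPBlock M B) (hBP : Cfsg.IsDefectGroup p M B P) (N : Subgroup G) [N.Normal] [Fintype N] (hPN : ¬ (P : Subgroup G) ≤ N) (θ : Cfsg.IrrCharacter N) :
    (Nat.card {χ : Cfsg.IrrCharacter G // χ ∈ B ∧ ¬ p ∣ Cfsg.charDegree (χ : G → ℂ) ∧ Cfsg.classInner (fun n : N => (χ : G → ℂ) n) (θ : N → ℂ) ≠ 0} = 0 ∨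
      2 ≤ Nat.card {χ : Cfsg.IrrCharacter G // χ ∈ B ∧ ¬ p ∣ Cfsg.charDegree (χ : G → ℂ) ∧ Cfsg.classInner (fun n : N => (χ : G → ℂ) n) (θ : N → ℂ) ≠ 0}) ∧
    (p ≤ 3 → p ∣ Nat.card {χ : Cfsg.IrrCharacter G // χ ∈ B ∧ ¬ p ∣ Cfsg.charDegree (χ : G → ℂ) ∧ Cfsg.classInner (fun n : N => (χ : G → ℂ) n) (θ : N → ℂ) ≠ 0}) := by
  classical
  have hp : p.Prime := Fact.out
  haveI := CfsgLib.Blocks.IsPModular.isPrime hM
  obtain ⟨x, hxP, hxN⟩ := SetLike.not_le_iff_exists.1 hPN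
  obtain ⟨j, hj⟩ := IsPGroup.iff_orderOf.1 P.2 ⟨x, hxP⟩
  rw [Subgroup.orderOf_mk] at hj
  have hmain := CfsgLib.BlockOver.memLocalIdeal_sum_inner_mul hM
    (CfsgLib.Blocks.isBlockUnion_of_isPBlock hB) N
    (CfsgLib.Characters.isCharacter_of_isIrr θ.2) hj hxN
  choose e he using fun χ : Cfsg.IrrCharacter G => CfsgLib.Characters.classInner_characters
    (CfsgLib.Characters.isCharacter_restrict N (CfsgLib.Characters.isCharacter_of_isIrr χ.2))
    (CfsgLib.Characters.isCharacter_of_isIrr θ.2)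
  have he' : ∀ χ : Cfsg.IrrCharacter G,
      Cfsg.classInner (θ : N → ℂ) (fun n : N => (χ : G → ℂ) n) = e χ := fun χ => by
    rw [CfsgLib.Characters.classInner_conj_symm, he, Complex.conj_natCast]
  obtain ⟨d0, -, hd0⟩ := CfsgLib.Characters.exists_degree_pos θ.2
  set T := (CfsgLib.CharactersDeep.Clifford.orbit N (θ : N → ℂ)).card * d0 with hT
  have hdeg : ∀ χ : Cfsg.IrrCharacter G, e χ ≠ 0 → Cfsg.charDegree (χ : G → ℂ) = e χ * T := by
    intro χ hχ
    refine CfsgLib.BlocksCharsC.charDegree_eq ?_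
    have h := congrFun (CfsgLib.CharactersDeep.Clifford.restrict_eq_orbit_sum N χ.2 θ.2
      (by rw [he]; exact_mod_cast hχ)) (1 : N)
    simp only [OneMemClass.coe_one, Pi.smul_apply, Finset.sum_apply, smul_eq_mul, he] at h
    rw [h, Finset.sum_congr rfl (g := fun _ => (d0 : ℂ)), Finset.sum_const, nsmul_eq_mul, hT]
    · push_cast; ring
    · intro φ hφ
      obtain ⟨g, rfl⟩ := (CfsgLib.CharactersDeep.Clifford.mem_orbit N).1 hφ
      obtain ⟨d1, -, hd1⟩ := CfsgLib.Characters.exists_degree_pos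
        (CfsgLib.CharactersDeep.Clifford.isIrr_conjBy N θ.2 g)
      rw [← hd0]
      show (θ : N → ℂ) _ = _
      refine congrArg (θ : N → ℂ) (Subtype.ext ?_)
      change g * (1 : G) * g⁻¹ = 1
      group
  have hdvd : p ∣ ∑ χ ∈ Finset.univ.filter (fun χ : Cfsg.IrrCharacter G => χ ∈ B),
      e χ * (e χ * T) := by
    rw [← CfsgLib.Blocks.memLocalIdeal_natCast_iff hM]
    rw [← Finset.sum_filter] at hmain
    push_cast
    convert hmain using 1
    refine Finset.sum_congr rfl fun χ _ => ?_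
    rw [he', ← mul_assoc]
    by_cases hχ : e χ = 0
    · simp [hχ]
    · obtain ⟨n, -, hn⟩ := CfsgLib.Characters.exists_degree_pos χ.2
      have := hdeg χ hχ
      rw [CfsgLib.BlocksCharsC.charDegree_eq hn] at this
      rw [hn, this]
      push_cast
      ring
  set S : Finset (Cfsg.IrrCharacter G) := Finset.univ.filter (fun χ : Cfsg.IrrCharacter G =>
    χ ∈ B ∧ ¬ p ∣ Cfsg.charDegree (χ : G → ℂ) ∧
      Cfsg.classInner (fun n : N => (χ : G → ℂ) n) (θ : N → ℂ) ≠ 0) with hS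
  have hcard : Nat.card {χ : Cfsg.IrrCharacter G // χ ∈ B ∧ ¬ p ∣ Cfsg.charDegree (χ : G → ℂ) ∧
      Cfsg.classInner (fun n : N => (χ : G → ℂ) n) (θ : N → ℂ) ≠ 0} = S.card := by
    rw [Nat.card_eq_fintype_card, Fintype.card_subtype, hS]
  rw [hcard]
  rcases S.eq_empty_or_nonempty with hS0 | ⟨χ₀, hχ₀⟩
  · rw [hS0, Finset.card_empty]
    exact ⟨Or.inl rfl, fun _ => dvd_zero p⟩
  have hne : ∀ χ ∈ S, e χ ≠ 0 ∧ ¬ p ∣ e χ ∧ ¬ p ∣ T := by
    intro χ hχ
    obtain ⟨-, hp', hi⟩ := (Finset.mem_filter.1 hχ).2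
    rw [he] at hi
    have h0 : e χ ≠ 0 := fun h => hi (by simp [h])
    rw [hdeg χ h0] at hp'
    exact ⟨h0, fun h => hp' (h.mul_right T), fun h => hp' (h.mul_left _)⟩
  have hTp : ¬ p ∣ T := (hne χ₀ hχ₀).2.2
  have hsq : p ∣ ∑ χ ∈ S, e χ ^ 2 := by
    rw [show ∑ χ ∈ Finset.univ.filter (fun χ : Cfsg.IrrCharacter G => χ ∈ B), e χ * (e χ * T) =
      T * ∑ χ ∈ Finset.univ.filter (fun χ : Cfsg.IrrCharacter G => χ ∈ B), e χ ^ 2 by
        rw [Finset.mul_sum]; exact Finset.sum_congr rfl fun χ _ => by ring] at hdvd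
    have h2 := (hp.dvd_mul.1 hdvd).resolve_left hTp
    have hsub : S ⊆ Finset.univ.filter (fun χ : Cfsg.IrrCharacter G => χ ∈ B) := fun χ hχ =>
      Finset.mem_filter.2 ⟨Finset.mem_univ _, (Finset.mem_filter.1 hχ).2.1⟩
    rw [← Finset.sum_sdiff hsub] at h2
    refine (Nat.dvd_add_right (Finset.dvd_sum fun χ hχ => ?_)).1 h2
    obtain ⟨h1, h3⟩ := Finset.mem_sdiff.1 hχ
    by_cases h0 : e χ = 0
    · simp [h0]
    refine dvd_pow ?_ two_ne_zero
    by_contra hpe
    refine h3 (Finset.mem_filter.2 ⟨Finset.mem_univ _, (Finset.mem_filter.1 h1).2, ?_, ?_⟩)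
    · rw [hdeg χ h0]
      exact hp.not_dvd_mul hpe hTp
    · rw [he]; exact_mod_cast h0
  refine ⟨Or.inr ?_, fun hp3 => ?_⟩
  · by_contra hlt
    push Not at hlt
    have hpos : 0 < S.card := Finset.card_pos.2 ⟨χ₀, hχ₀⟩
    obtain ⟨χ, hχS⟩ := Finset.card_eq_one.1 (show S.card = 1 by omega)
    rw [hχS, Finset.sum_singleton] at hsq
    exact (hne χ (by rw [hχS]; simp)).2.1 (hp.dvd_of_dvd_pow hsq)
  · have hmod : ∀ χ ∈ S, ((e χ : ZMod p)) ^ 2 = 1 := by
      intro χ hχ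
      have h0 : (e χ : ZMod p) ≠ 0 := fun h =>
        (hne χ hχ).2.1 ((ZMod.natCast_eq_zero_iff _ _).1 h)
      have h2 := hp.two_le
      interval_cases p
      · exact zmod_two_sq _ h0
      · exact zmod_three_sq _ h0
    rw [← ZMod.natCast_eq_zero_iff]
    rw [← ZMod.natCast_eq_zero_iff, Nat.cast_sum] at hsq
    simp only [Nat.cast_pow] at hsq
    rw [Finset.sum_congr rfl hmod, Finset.sum_const, nsmul_eq_mul, mul_one] at hsq
    exact hsq

end Cfsg.Agent.S4825
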