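import Cfsg.Statements.S4828
import Cfsg.Agent.CentralDefect.Basic
import Cfsg.Agent.CentralDefect.MaxPair
import Cfsg.Agent.BlockPairs.PairBridge
import Cfsg.Agent.BlockPairs.Lift

set_option autoImplicit false
set_option linter.style.haveILetI false
open Cfsg CfsgLib.BlockPairs

namespace Cfsg.Agent.S4828

/-- Let p be a prime, M a maximal ideal of the algebraic integers containing p, and (Q, e) a Brauer pair of the finite group G (Q a p-subgroup, e a block of C_G(Q)). Then (Q, e) is a maximal Brauer pair of some block of G if and only if e contains an irreducible character θ such that θ takes the value θ(1) at every element of Z(Q) = Q ∩ C_G(Q), the p-part of θ(1) times the p-part of the order of Z(Q) equals the p-part of the order of C_G(Q) (θ has defect zero as a character of C_G(Q)/Z(Q)), and every element of N_G(Q) of p-power order that stabilizes e lies in Q·C_G(Q) (the stabilizer of e in N_G(Q) has index prime to p over Q·C_G(Q)). -/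
theorem result {G : Type*} [Group G] [Finite G] (p : ℕ) [Fact p.Prime] (M : Ideal Cfsg.AlgInt) (hM : Cfsg.IsPModular p M) (Q : Subgroup G) (e : Set (Cfsg.IrrCharacter (Subgroup.centralizer (Q : Set G)))) (he : Cfsg.IsBrauerPair p M Q e) :
    (∃ B : Set (Cfsg.IrrCharacter G), Cfsg.IsMaximalBrauerPair p M B Q e) ↔
      ∃ θ ∈ e, (∀ z : Subgroup.centralizer (Q : Set G), (z : G) ∈ Q → (θ : Subgroup.centralizer (Q : Set G) → ℂ) z = (θ : Subgroup.centralizer (Q : Set G) → ℂ) 1) ∧
        (Cfsg.charDegree (θ : Subgroup.centralizer (Q : Set G) → ℂ)).factorization p + (Nat.card ↥(Q ⊓ Subgroup.centralizer (Q : Set G))).factorization p = (Nat.card (Subgroup.centralizer (Q : Set G))).factorization p ∧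
        (∀ g : G, g ∈ Subgroup.normalizer (Q : Set G) → Cfsg.StabilizesBlock (Subgroup.centralizer (Q : Set G)) e g → (∃ k : ℕ, orderOf g = p ^ k) → g ∈ Q ⊔ Subgroup.centralizer (Q : Set G)) := by
  haveI := CfsgLib.Blocks.IsPModular.isPrime hM
  haveI := CfsgLib.Blocks.charP_res hM
  haveI := CfsgLib.BlockPairs.isAlgClosed_res hM
  haveI := Fintype.ofFinite (Subgroup.centralizer (Q : Set G))
  obtain ⟨hQp, hblk⟩ := he
  have hpair : IsPair p (⊤ : Subgroup G) Q (sblk M (Subgroup.centralizer (Q : Set G)) e) :=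
    ⟨le_top, hQp, by rw [cent_top]; exact isBlock_sblk hblk⟩
  set Z : Subgroup (Subgroup.centralizer (Q : Set G)) := (Q ⊓ (Subgroup.centralizer (Q : Set G))).subgroupOf (Subgroup.centralizer (Q : Set G)) with hZdef
  have hmemZ : ∀ z : (Subgroup.centralizer (Q : Set G)), z ∈ Z ↔ (z : G) ∈ Q := fun z => by
    simp [hZdef, Subgroup.mem_subgroupOf]
  have hZc : Z ≤ Subgroup.center (Subgroup.centralizer (Q : Set G)) := fun z hz => Subgroup.mem_center_iff.2 fun c =>
    Subtype.ext (Subgroup.mem_centralizer_iff.1 c.2 _ ((hmemZ z).1 hz)).symm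
  haveI : Z.Normal := ⟨fun z hz g => by
    rwa [Subgroup.mem_center_iff.1 (hZc hz) g, mul_inv_cancel_right]⟩
  have hZp : IsPGroup p Z := (hQp.to_le inf_le_left).of_equiv
    (Subgroup.subgroupOfEquivOfLe inf_le_right).symm
  have hcard : Nat.card Z = Nat.card ↥(Q ⊓ (Subgroup.centralizer (Q : Set G))) :=
    Nat.card_congr (Subgroup.subgroupOfEquivOfLe inf_le_right).toEquiv
  have hmul := congrArg (fun n => n.factorization p) Z.card_mul_index
  simp only [Nat.factorization_mul Nat.card_pos.ne' Subgroup.index_ne_zero_of_finite,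
    Finsupp.coe_add, Pi.add_apply, hcard] at hmul
  have hdef : IsDefectGrp p (cent (⊤ : Subgroup G) Q) (sblk M (Subgroup.centralizer (Q : Set G)) e) (Q ⊓ cent ⊤ Q) ↔
      ∃ θ ∈ e, (∀ z : (Subgroup.centralizer (Q : Set G)), (z : G) ∈ Q → (θ : (Subgroup.centralizer (Q : Set G)) → ℂ) z = (θ : (Subgroup.centralizer (Q : Set G)) → ℂ) 1) ∧
        (Cfsg.charDegree (θ : (Subgroup.centralizer (Q : Set G)) → ℂ)).factorization p + (Nat.card ↥(Q ⊓ (Subgroup.centralizer (Q : Set G)))).factorization p =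
          (Nat.card (Subgroup.centralizer (Q : Set G))).factorization p := by
    rw [cent_top, ← isDefectGroup_subgroupOf_iff hblk inf_le_right, ← hZdef]
    constructor
    · intro hd
      obtain ⟨θ, hθ, hker⟩ := CfsgLib.CentralDefect.exists_kerContains hM hblk Z hZp
      refine ⟨θ, hθ, fun z hz => hker z ((hmemZ z).2 hz), ?_⟩
      rw [CfsgLib.CentralDefect.factorization_charDegree hM hblk Z hZc hd hθ]
      omega
    · rintro ⟨θ, hθ, -, hdeg⟩
      exact CfsgLib.CentralDefect.isDefectGroup_of_degree hM hblk Z hZc hZp hθ (by omega)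
  have hstab : ∀ g : G, g ∈ stab ⊤ Q (sblk M (Subgroup.centralizer (Q : Set G)) e) ↔
      g ∈ Subgroup.normalizer (Q : Set G) ∧ Cfsg.StabilizesBlock (Subgroup.centralizer (Q : Set G)) e g := fun g => by
    rw [mem_stab]
    simp only [Subgroup.mem_top, true_and]
    refine and_congr_right fun hg => ?_
    rw [stabilizesBlock_iff hblk, and_iff_right (normalizer_le_normalizer_centralizer Q hg)]
  have key := CfsgLib.CentralDefect.exists_isMaxPair_iff hpair
  rw [hdef, cent_top] at key
  constructor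
  · rintro ⟨B, hB⟩
    obtain ⟨⟨θ, h1, h2, h3⟩, h4⟩ := key.1
      ⟨_, isBlock_gblk hB.1.2.1, (isMaximalBrauerPair_iff hB.1.2.1 hblk).1 hB⟩
    exact ⟨θ, h1, h2, h3, fun g hg hs hk => h4 g ((hstab g).2 ⟨hg, hs⟩) hk⟩
  · rintro ⟨θ, h1, h2, h3, h4⟩
    obtain ⟨b, hb, hmax⟩ := key.2 ⟨⟨θ, h1, h2, h3⟩,
      fun u hu hk => h4 u ((hstab u).1 hu).1 ((hstab u).1 hu).2 hk⟩
    obtain ⟨B, hB, rfl⟩ := exists_eq_gblk (M := M) hb
    exact ⟨B, (isMaximalBrauerPair_iff hB hblk).2 hmax⟩

end Cfsg.Agent.S4828
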