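import Cfsg.Statements.S4835
import Cfsg.Agent.Codegree.Sums
import Cfsg.Agent.Characters.Linear

set_option autoImplicit false
open Cfsg

namespace Cfsg.Agent.S4835

/-- Let G be a finite group of order greater than 2 with an irreducible character χ that is nonzero on exactly two conjugacy classes. Then G has a unique minimal normal subgroup N; N is an elementary abelian p-group for some prime p; χ is nonzero exactly at the elements of N; and any two nonidentity elements of N are conjugate in G. -/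
theorem result {G : Type*} [Group G] [Finite G] (hG : 2 < Nat.card G) (χ : Cfsg.IrrCharacter G) (hχ : Nat.card {C : ConjClasses G // ∃ g ∈ C.carrier, (χ : G → ℂ) g ≠ 0} = 2) :
    ∃ N : Subgroup G, N.Normal ∧ N ≠ ⊥ ∧ (∀ K : Subgroup G, K.Normal → K ≠ ⊥ → N ≤ K) ∧
      (∃ p : ℕ, p.Prime ∧ Cfsg.IsElementaryAbelian p N) ∧
      (∀ g : G, (χ : G → ℂ) g ≠ 0 ↔ g ∈ N) ∧
      (∀ x ∈ N, ∀ y ∈ N, x ≠ 1 → y ≠ 1 → ∃ g : G, g * x * g⁻¹ = y) := by
  classical
  letI := Fintype.ofFinite G
  have hcl : ∀ (ψ : Cfsg.IrrCharacter G) {x y : G}, IsConj x y → (ψ : G → ℂ) x = (ψ : G → ℂ) y :=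
    fun ψ _ _ h => CfsgLib.Characters.classFunction_isConj
      (CfsgLib.Characters.isClassFunction_of_isIrr ψ.2) h
  obtain ⟨hd0, hd⟩ := CfsgLib.Codegree.exists_degree χ
  set d := Cfsg.charDegree (χ : G → ℂ) with hddef
  have hone : ∀ C : ConjClasses G, (∃ g ∈ C.carrier, (χ : G → ℂ) g ≠ 0) ↔
      ∀ g, ConjClasses.mk g = C → (χ : G → ℂ) g ≠ 0 := by
    intro C
    constructor
    · rintro ⟨x, hx, hne⟩ y hy
      rw [ConjClasses.mem_carrier_iff_mk_eq] at hx
      rwa [hcl χ (ConjClasses.mk_eq_mk_iff_isConj.1 (hy.trans hx.symm))]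
    · intro h
      obtain ⟨x, rfl⟩ := C.exists_rep
      exact ⟨x, ConjClasses.mem_carrier_mk, h x rfl⟩
  -- the second support class
  obtain ⟨g, hg1, hgne, hsupp⟩ : ∃ g : G, g ≠ 1 ∧ (χ : G → ℂ) g ≠ 0 ∧
      ∀ x : G, (χ : G → ℂ) x ≠ 0 → x = 1 ∨ IsConj g x := by
    set T : Finset (ConjClasses G) :=
      Finset.univ.filter (fun C => ∃ g ∈ C.carrier, (χ : G → ℂ) g ≠ 0) with hT
    have hTc : T.card = 2 := by
      rw [← hχ, Nat.card_eq_fintype_card, Fintype.card_subtype]
    have h1 : ConjClasses.mk (1 : G) ∈ T := Finset.mem_filter.2 ⟨Finset.mem_univ _,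
      1, ConjClasses.mem_carrier_mk, by rw [hd]; exact_mod_cast hd0.ne'⟩
    obtain ⟨C, hC⟩ := Finset.card_eq_one.1
      (show (T.erase (ConjClasses.mk 1)).card = 1 by rw [Finset.card_erase_of_mem h1, hTc])
    obtain ⟨g, rfl⟩ := C.exists_rep
    have hgT : ConjClasses.mk g ∈ T.erase (ConjClasses.mk 1) := by rw [hC]; simp
    refine ⟨g, fun h => (Finset.mem_erase.1 hgT).1 (by rw [h]), ?_, fun x hx => ?_⟩
    · exact (hone _).1 (Finset.mem_filter.1 (Finset.mem_erase.1 hgT).2).2 g rfl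
    · by_contra hcon
      push Not at hcon
      have : ConjClasses.mk x ∈ T.erase (ConjClasses.mk 1) := Finset.mem_erase.2
        ⟨fun h => hcon.1 (isConj_one_left.1 (ConjClasses.mk_eq_mk_iff_isConj.1 h)),
          Finset.mem_filter.2 ⟨Finset.mem_univ _, x, ConjClasses.mem_carrier_mk, hx⟩⟩
      rw [hC, Finset.mem_singleton, ConjClasses.mk_eq_mk_iff_isConj] at this
      exact hcon.2 this.symm
  set a := (χ : G → ℂ) g with ha
  set K := Finset.univ.filter (fun x : G => IsConj g x) with hK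
  -- inner products against `χ`
  have horth : ∀ ψ : Cfsg.IrrCharacter G, ψ ≠ χ →
      (d : ℂ) * (starRingEnd ℂ) ((ψ : G → ℂ) 1) +
        (K.card : ℂ) * a * (starRingEnd ℂ) ((ψ : G → ℂ) g) = 0 := by
    intro ψ hψ
    have h := CfsgLib.Characters.classInner_isIrr_ne χ.2 ψ.2 fun h => hψ (Subtype.ext h).symm
    rw [Cfsg.classInner, mul_eq_zero] at h
    have h2 := h.resolve_left (inv_ne_zero (Nat.cast_ne_zero.2 Nat.card_pos.ne'))
    rw [← Finset.add_sum_erase _ _ (Finset.mem_univ (1 : G)),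
      ← Finset.sum_subset (s₁ := K) ?_ ?_, Finset.sum_congr rfl
        (g := fun _ => a * (starRingEnd ℂ) ((ψ : G → ℂ) g)) ?_, Finset.sum_const, nsmul_eq_mul,
      hd] at h2
    · rw [← h2]; ring
    · intro x hx
      have hx' : IsConj g x := (Finset.mem_filter.1 hx).2
      rw [← hcl χ hx', ← hcl ψ hx']
    · intro x hx
      have hx' : IsConj g x := (Finset.mem_filter.1 hx).2
      exact Finset.mem_erase.2 ⟨fun h => hg1 (isConj_one_left.1 (h ▸ hx')), Finset.mem_univ _⟩
    · intro x hx hxK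
      rcases Classical.em ((χ : G → ℂ) x = 0) with h0 | h0
      · rw [h0, zero_mul]
      · rcases hsupp x h0 with h1 | h1
        · exact absurd h1 (Finset.mem_erase.1 hx).1
        · exact absurd (Finset.mem_filter.2 ⟨Finset.mem_univ _, h1⟩) hxK
  set e : Cfsg.IrrCharacter G := ⟨fun _ => 1, CfsgLib.Characters.isIrr_one⟩ with he
  -- `χ` is not the principal character
  have hne : e ≠ χ := by
    intro h
    have hall : ∀ x : G, x ≠ 1 → IsConj g x := fun x hx => (hsupp x (by
      rw [← h]; exact one_ne_zero)).resolve_left hx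
    have hcardK : K.card = Nat.card G - 1 := by
      have : K = Finset.univ.erase 1 := by
        ext x
        simp only [hK, Finset.mem_filter, Finset.mem_univ, true_and, Finset.mem_erase, and_true]
        exact ⟨fun hx h => hg1 (isConj_one_left.1 (h ▸ hx)), hall x⟩
      rw [this, Finset.card_erase_of_mem (Finset.mem_univ _), Finset.card_univ,
        Nat.card_eq_fintype_card]
    have hdvd : K.card ∣ Nat.card G := by
      have : K.card = Nat.card {x : G // IsConj x g} := by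
        rw [Nat.card_eq_fintype_card, Fintype.card_subtype, hK]
        congr 1
        ext x
        simp only [Finset.mem_filter, Finset.mem_univ, true_and]
        exact isConj_comm
      rw [this, CfsgLib.Characters.card_conjugates_eq_index]
      exact Subgroup.index_dvd_card _
    rw [hcardK] at hdvd
    have h2 : Nat.card G - 1 ∣ 1 := by
      have := Nat.dvd_sub hdvd (dvd_refl (Nat.card G - 1))
      rwa [show Nat.card G - (Nat.card G - 1) = 1 by omega] at this
    have := Nat.dvd_one.1 h2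
    omega
  have hca : (K.card : ℂ) * a = -(d : ℂ) := by
    have := horth e hne
    simp only [he, map_one, mul_one] at this
    linear_combination this
  have hker : ∀ ψ : Cfsg.IrrCharacter G, ψ ≠ χ → (ψ : G → ℂ) g = (ψ : G → ℂ) 1 := by
    intro ψ hψ
    have h := horth ψ hψ
    rw [hca] at h
    have hd' : (d : ℂ) ≠ 0 := by exact_mod_cast hd0.ne'
    have : (starRingEnd ℂ) ((ψ : G → ℂ) g) = (starRingEnd ℂ) ((ψ : G → ℂ) 1) := by
      apply mul_left_cancel₀ hd'
      linear_combination -h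
    exact (starRingEnd ℂ).injective this
  choose Kf hKfn hKfmem _ _ using fun ψ : Cfsg.IrrCharacter G =>
    CfsgLib.Codegree.exists_kernel ψ
  set N : Subgroup G := ⨅ ψ ∈ Finset.univ.erase χ, Kf ψ with hN
  have hNmem : ∀ x, x ∈ N ↔ ∀ ψ : Cfsg.IrrCharacter G, ψ ≠ χ →
      (ψ : G → ℂ) x = (ψ : G → ℂ) 1 := by
    intro x
    simp only [hN, Subgroup.mem_iInf, Finset.mem_erase, Finset.mem_univ, and_true, hKfmem]
  have hgN : g ∈ N := (hNmem g).2 hker
  have hNn : N.Normal := ⟨fun x hx c => by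
    simp only [hN, Subgroup.mem_iInf] at hx ⊢
    exact fun ψ hψ => (hKfn ψ).conj_mem x (hx ψ hψ) c⟩
  have hconjN : ∀ x, IsConj g x → x ∈ N := by
    intro x hx
    obtain ⟨c, rfl⟩ := isConj_iff.1 hx
    exact hNn.conj_mem g hgN c
  have hNsupp : ∀ x, (χ : G → ℂ) x ≠ 0 ↔ x ∈ N := by
    intro x
    refine ⟨fun hx => (hsupp x hx).elim (fun h => h ▸ N.one_mem) (hconjN x), fun hx => ?_⟩
    by_cases hx1 : x = 1
    · rw [hx1, hd]; exact_mod_cast hd0.ne'
    intro h0
    have hs := CfsgLib.Characters.sum_degree_mul (G := G) x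
    rw [if_neg hx1, ← Finset.sum_erase_add _ _ (Finset.mem_univ χ), h0, mul_zero, add_zero,
      Finset.sum_congr rfl (g := fun ψ : Cfsg.IrrCharacter G =>
        ((Cfsg.charDegree (ψ : G → ℂ) ^ 2 : ℕ) : ℂ)) (fun ψ hψ => by
          rw [(hNmem x).1 hx ψ (Finset.mem_erase.1 hψ).1, (CfsgLib.Codegree.exists_degree ψ).2]
          push_cast; ring), ← Nat.cast_sum, Nat.cast_eq_zero, Finset.sum_eq_zero_iff] at hs
    have := hs e (Finset.mem_erase.2 ⟨hne, Finset.mem_univ _⟩)
    exact (pow_ne_zero 2 (CfsgLib.Codegree.exists_degree e).1.ne') this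
  have hconj : ∀ x ∈ N, x ≠ 1 → IsConj g x := fun x hx hx1 =>
    (hsupp x ((hNsupp x).2 hx)).resolve_left hx1
  have hgord : (orderOf g).Prime := by
    obtain ⟨p, hp, hpd⟩ := Nat.exists_prime_and_dvd
      (fun h => hg1 (orderOf_eq_one_iff.1 h) : orderOf g ≠ 1)
    have ho : orderOf (g ^ (orderOf g / p)) = p := by
      rw [orderOf_pow_of_dvd (Nat.div_ne_zero_iff_of_dvd hpd |>.2 ⟨(orderOf_pos g).ne', hp.ne_zero⟩)
        (Nat.div_dvd_of_dvd hpd), Nat.div_div_self hpd (orderOf_pos g).ne']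
    obtain ⟨c, hc⟩ := isConj_iff.1 (hconj _ (N.pow_mem hgN _) fun h => by
      rw [h, orderOf_one] at ho; exact hp.ne_one ho.symm)
    rw [← hc, ← MulAut.conj_apply, MulEquiv.orderOf_eq] at ho
    rwa [ho]
  set p := orderOf g with hp
  have hpow : ∀ x ∈ N, x ^ p = 1 := by
    intro x hx
    by_cases hx1 : x = 1
    · rw [hx1, one_pow]
    obtain ⟨c, hc⟩ := isConj_iff.1 (hconj x hx hx1)
    rw [← hc, conj_pow, hp, pow_orderOf_eq_one, mul_one, mul_inv_cancel]
  refine ⟨N, hNn, fun h => hg1 (Subgroup.mem_bot.1 (h ▸ hgN)), ?_, ⟨p, hgord, ?_, hpow⟩,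
    hNsupp, ?_⟩
  · intro L hL hL1
    by_cases hgL : g ∈ L
    · intro x hx
      by_cases hx1 : x = 1
      · rw [hx1]; exact L.one_mem
      obtain ⟨c, hc⟩ := isConj_iff.1 (hconj x hx hx1)
      exact hc ▸ hL.conj_mem g hgL c
    exfalso
    have hdisj : ∀ x ∈ L, x ∈ N → x = 1 := by
      intro x hx hxN
      by_contra hx1
      obtain ⟨c, hc⟩ := isConj_iff.1 (hconj x hxN hx1).symm
      exact hgL (hc ▸ hL.conj_mem x hx c)
    haveI := hL
    letI := Fintype.ofFinite L
    by_cases hk : CfsgLib.Codegree.KerContains χ L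
    · obtain ⟨⟨x, hx⟩, hx1⟩ :=
        Subgroup.nontrivial_iff_ne_bot L |>.2 hL1 |> fun h => @exists_ne L h 1
      have hxN : x ∈ N := (hNsupp x).1 (by rw [hk x hx, hd]; exact_mod_cast hd0.ne')
      exact hx1 (Subtype.ext (hdisj x hx hxN))
    · have h := CfsgLib.Codegree.sum_coset_eq_zero χ L hk 1
      rw [Finset.sum_eq_single (1 : L)] at h
      · simp only [OneMemClass.coe_one, mul_one, hd, Nat.cast_eq_zero] at h
        omega
      · intro k _ hk1
        by_contra h0
        rw [one_mul] at h0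
        exact hk1 (Subtype.ext (hdisj k k.2 ((hNsupp k).1 h0)))
      · simp
  · haveI := Fact.mk hgord
    have hpg : IsPGroup p N := fun x => ⟨1, Subtype.ext (by simpa using hpow x x.2)⟩
    haveI : Nontrivial N := ⟨⟨⟨g, hgN⟩, 1, fun h => hg1 (congrArg Subtype.val h)⟩⟩
    haveI := hpg.center_nontrivial
    obtain ⟨⟨⟨z, hzN⟩, hz⟩, hz1⟩ := exists_ne (1 : Subgroup.center N)
    have hz1' : z ≠ 1 := fun h => hz1 (Subtype.ext (Subtype.ext h))
    refine ⟨⟨fun x y => Subtype.ext ?_⟩⟩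
    by_cases hx1 : (x : G) = 1
    · simp [hx1]
    obtain ⟨c, hc⟩ := isConj_iff.1 ((hconj z hzN hz1').symm.trans (hconj x x.2 hx1))
    have hcomm := congrArg (fun w : N => (w : G)) (Subgroup.mem_center_iff.1 hz
      ⟨c⁻¹ * y * c, by simpa using hNn.conj_mem _ y.2 c⁻¹⟩)
    simp only [Subgroup.coe_mul] at hcomm ⊢
    rw [← hc]
    calc c * z * c⁻¹ * y = c * (z * (c⁻¹ * y * c)) * c⁻¹ := by group
      _ = c * ((c⁻¹ * y * c) * z) * c⁻¹ := by rw [hcomm]
      _ = y * (c * z * c⁻¹) := by group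
  · intro x hx y hy hx1 hy1
    exact isConj_iff.1 ((hconj x hx hx1).symm.trans (hconj y hy hy1))

end Cfsg.Agent.S4835
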