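import Cfsg.Statements.S4838
-- import your own Cfsg.Agent.* helpers here

import Cfsg.Agent.TwoClasses.Structure
set_option autoImplicit false
set_option linter.style.haveILetI false
open Cfsg
open scoped commutatorElement

namespace Cfsg.Agent.S4838

/-- Let G be a finite group of order greater than 2 with an irreducible character χ nonzero on exactly two conjugacy classes, N the normal p-subgroup of elements where χ is nonzero, and P a Sylow p-subgroup of G. Then (a) for every x outside N the centralizer of x in G has the same order as the centralizer of xN in G/N; (b) the centre of P lies in N, and equals N exactly when P is normal in G; (c) N, viewed inside P, is a term of the upper central series of P. -/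
theorem result {G : Type*} [Group G] [Finite G] (hG : 2 < Nat.card G) (χ : Cfsg.IrrCharacter G) (hχ : Nat.card {C : ConjClasses G // ∃ g ∈ C.carrier, (χ : G → ℂ) g ≠ 0} = 2) (p : ℕ) [Fact p.Prime] (N : Subgroup G) [N.Normal] (hN : ∀ g : G, g ∈ N ↔ (χ : G → ℂ) g ≠ 0) (hNp : IsPGroup p N) (hN1 : N ≠ ⊥) (P : Sylow p G) :
    (∀ x : G, x ∉ N → Nat.card (Subgroup.centralizer ({x} : Set G)) = Nat.card (Subgroup.centralizer ({(x : G ⧸ N)} : Set (G ⧸ N)))) ∧
      ((Subgroup.center ↥(P : Subgroup G)).map (P : Subgroup G).subtype ≤ N ∧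
        ((Subgroup.center ↥(P : Subgroup G)).map (P : Subgroup G).subtype = N ↔ (P : Subgroup G).Normal)) ∧
      (∃ i : ℕ, Subgroup.upperCentralSeries ↥(P : Subgroup G) i = N.subgroupOf (P : Subgroup G)) := by
  
  obtain ⟨x, h⟩ := CfsgLib.TwoClasses.exists_isTwoClass hG χ hχ
  obtain ⟨a, b, ha, hq, hcardG, hC⟩ := h.exists_params_pow hN hNp
  have hp : p.Prime := Fact.out
  have hNP : N ≤ (P : Subgroup G) := hNp.le_sylow_of_normal P
  have hq2 : 2 ≤ Nat.card N := by rw [hq]; exact Nat.one_lt_pow ha.ne' hp.one_lt
  have hPcard : Nat.card (P : Subgroup G) = p ^ (2 * b + a) := by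
    obtain ⟨Q, hQ⟩ := h.centralizer_sylow hN hNp (h.self_mem hN) h.ne_one
    rw [P.card_eq_multiplicity, ← Q.card_eq_multiplicity, ← hQ, hC x (h.self_mem hN) h.ne_one]
  -- centralisers in `P` of elements outside `N` are small
  have hsmall : ∀ g : G, g ∉ N → ∀ K : Subgroup G, K ≤ P →
      K ≤ Subgroup.centralizer ({g} : Set G) → Nat.card K ≤ p ^ (2 * b) := by
    intro g hg K hKP hK
    have hd : Nat.card K ∣ Nat.card (G ⧸ N) := by
      have h1 := Subgroup.card_dvd_of_le hK
      rw [h.centralizer_card_quotient hN hg] at h1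
      exact h1.trans (Subgroup.card_subgroup_dvd_card _)
    obtain ⟨k, hk, hKk⟩ := (Nat.dvd_prime_pow hp).1 (hPcard ▸ Subgroup.card_dvd_of_le hKP)
    have h2 := Subgroup.card_eq_card_quotient_mul_card_subgroup N
    rw [hcardG, hq, pow_add, Nat.mul_right_comm] at h2
    rw [← Nat.eq_of_mul_eq_mul_right (pow_pos hp.pos a) h2, hKk] at hd
    rw [hKk]
    refine Nat.le_of_dvd (pow_pos hp.pos _) ((Nat.Coprime.pow_left _ ?_).dvd_of_dvd_mul_right hd)
    refine (Nat.Prime.coprime_iff_not_dvd hp).2 fun hd' => ?_
    have h3 := Nat.dvd_sub (dvd_pow_self p ha.ne') hd'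
    rw [Nat.sub_sub_self (Nat.one_le_pow _ _ hp.pos)] at h3
    exact hp.one_lt.ne' (Nat.dvd_one.1 h3)
  have hZle : (Subgroup.center ↥(P : Subgroup G)).map (P : Subgroup G).subtype ≤ N := by
    rintro _ ⟨z, hz, rfl⟩
    by_contra hzN
    have hle : (P : Subgroup G) ≤ Subgroup.centralizer ({(z : G)} : Set G) := fun y hy =>
      Subgroup.mem_centralizer_singleton_iff.2
        (congrArg Subtype.val (Subgroup.mem_center_iff.1 hz ⟨y, hy⟩))
    have := hsmall _ hzN P le_rfl hle
    rw [hPcard] at this
    have := (Nat.pow_le_pow_iff_right hp.one_lt).1 this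
    omega
  refine ⟨fun g hg => h.centralizer_card_quotient hN hg, ⟨hZle, ⟨fun hZ => ?_, fun hPn => ?_⟩⟩, ?_⟩
  · have hcent : ∀ y ∈ N, y ≠ 1 → (P : Subgroup G) = Subgroup.centralizer ({y} : Set G) := by
      intro y hy hy1
      refine Subgroup.eq_of_le_of_card_ge (fun w hw => ?_) (by rw [hC y hy hy1, hPcard])
      rw [← hZ] at hy
      obtain ⟨z, hz, rfl⟩ := hy
      exact Subgroup.mem_centralizer_singleton_iff.2
        (congrArg Subtype.val (Subgroup.mem_center_iff.1 hz ⟨w, hw⟩))
    have hPx := hcent x (h.self_mem hN) h.ne_one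
    refine ⟨fun w hw g => ?_⟩
    have hy : g * x * g⁻¹ ∈ N := (inferInstance : N.Normal).conj_mem _ (h.self_mem hN) g
    have hy1 : g * x * g⁻¹ ≠ 1 := fun he => h.ne_one (conj_eq_one_iff.1 he)
    rw [hcent _ hy hy1, Subgroup.mem_centralizer_singleton_iff]
    rw [hPx, Subgroup.mem_centralizer_singleton_iff] at hw
    calc g * w * g⁻¹ * (g * x * g⁻¹) = g * (w * x) * g⁻¹ := by group
      _ = g * (x * w) * g⁻¹ := by rw [hw]
      _ = g * x * g⁻¹ * (g * w * g⁻¹) := by group
  · refine le_antisymm hZle fun y hy => ⟨⟨y, hNP hy⟩, ?_, rfl⟩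
    refine Subgroup.mem_center_iff.2 fun w => Subtype.ext ?_
    by_cases hy1 : y = 1
    · simp [hy1]
    obtain ⟨Q, hQ⟩ := h.centralizer_sylow hN hNp hy hy1
    letI := Sylow.unique_of_normal P hPn
    have hPQ : (P : Subgroup G) = Q := by rw [Subsingleton.elim P Q]
    have hw : (w : G) ∈ (Q : Subgroup G) := hPQ.le w.2
    rw [← hQ, Subgroup.mem_centralizer_singleton_iff] at hw
    exact hw
  · classical
    set N' := N.subgroupOf (P : Subgroup G) with hN'
    haveI : Group.IsNilpotent ↥(P : Subgroup G) := P.isPGroup'.isNilpotent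
    obtain ⟨n, hn⟩ := Group.IsNilpotent.nilpotent ↥(P : Subgroup G)
    by_contra hne
    have hne' := not_exists.1 hne
    have hall : ∀ i, Subgroup.upperCentralSeries ↥(P : Subgroup G) i ≤ N' := by
      intro i
      induction i with
      | zero => simp
      | succ i ih =>
        intro z hz
        by_contra hzN
        have hzN' : (z : G) ∉ N := fun hm => hzN (Subgroup.mem_subgroupOf.2 hm)
        have hK := hsmall (z : G) hzN'
          ((Subgroup.centralizer ({z} : Set ↥(P : Subgroup G))).map (P : Subgroup G).subtype)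
          (Subgroup.map_subtype_le _) (by
            rintro _ ⟨w, hw, rfl⟩
            exact Subgroup.mem_centralizer_singleton_iff.2
              (congrArg Subtype.val (Subgroup.mem_centralizer_singleton_iff.1 hw)))
        rw [Subgroup.card_map_of_injective (P : Subgroup G).subtype_injective] at hK
        have hcls := CfsgLib.TwoClasses.centralizer_card_mul z
        have hle : {y | IsConj z y}.ncard ≤
            Nat.card (Subgroup.upperCentralSeries ↥(P : Subgroup G) i) := by
          refine le_of_le_of_eq ?_ (Nat.card_coe_set_eq _).symm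
          refine Set.ncard_le_ncard_of_injOn (fun y => z * y⁻¹) ?_ ?_ (Set.toFinite _)
          · intro y hy
            obtain ⟨c, hc⟩ := isConj_iff.1 hy
            have hm := (Subgroup.mem_upperCentralSeries_succ_iff).1 hz c
            have e : z * y⁻¹ = ⁅z, c⁆ := by rw [← hc, commutatorElement_def]; group
            simp only [SetLike.mem_coe]
            rw [e]
            exact hm
          · intro y _ y' _ he
            simpa using he
        have hlt : Nat.card (Subgroup.upperCentralSeries ↥(P : Subgroup G) i) < Nat.card N := by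
          rw [← Nat.card_congr (Subgroup.subgroupOfEquivOfLe hNP).toEquiv]
          refine lt_of_le_of_ne (Subgroup.card_le_of_le ih) fun he => hne' i ?_
          exact Subgroup.eq_of_le_of_card_ge ih he.ge
        rw [hPcard, pow_add, ← hq] at hcls
        have h1 : p ^ (2 * b) * Nat.card N ≤ p ^ (2 * b) * {y | IsConj z y}.ncard :=
          hcls ▸ Nat.mul_le_mul_right _ hK
        have h2 := Nat.le_of_mul_le_mul_left h1 (pow_pos hp.pos _)
        omega
    have htop : (⊤ : Subgroup ↥(P : Subgroup G)) ≤ N' := hn ▸ hall n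
    exact hne' n (hn.trans (top_le_iff.1 htop).symm)

end Cfsg.Agent.S4838
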