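import Cfsg.Statements.S4839
-- import your own Cfsg.Agent.* helpers here

import Cfsg.Agent.TwoClasses.Frobenius
set_option autoImplicit false
open Cfsg

namespace Cfsg.Agent.S4839

/-- Let G be a finite group of order greater than 2 with an irreducible character χ nonzero on exactly two conjugacy classes, and let N be the normal p-subgroup of elements where χ is nonzero. Then N is the whole p-core O_p(G) if and only if G is a doubly transitive Frobenius group with kernel N: G has a Frobenius complement H whose Frobenius kernel is N and whose order is one less than that of N. -/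
theorem result {G : Type*} [Group G] [Finite G] (hG : 2 < Nat.card G) (χ : Cfsg.IrrCharacter G) (hχ : Nat.card {C : ConjClasses G // ∃ g ∈ C.carrier, (χ : G → ℂ) g ≠ 0} = 2) (p : ℕ) [Fact p.Prime] (N : Subgroup G) [N.Normal] (hN : ∀ g : G, g ∈ N ↔ (χ : G → ℂ) g ≠ 0) (hNp : IsPGroup p N) (hN1 : N ≠ ⊥) :
    N = Cfsg.pCore p G ↔ ∃ H : Subgroup G, Cfsg.IsFrobeniusComplement H ∧ Cfsg.frobeniusKernel H = (N : Set G) ∧ Nat.card H + 1 = Nat.card N := by
  
  obtain ⟨x, h⟩ := CfsgLib.TwoClasses.exists_isTwoClass hG χ hχ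
  refine ⟨fun hO => h.exists_frobenius hN hNp hO, ?_⟩
  rintro ⟨H, -, hker, hcard⟩
  obtain ⟨a, b, ha, hq, hcardG, -⟩ := h.exists_params_pow hN hNp
  have hp : p.Prime := Fact.out
  have hH : Nat.card H = p ^ a - 1 := by omega
  have hidx : H.index = p ^ (2 * b + a) := by
    have h2 := Subgroup.card_mul_index H
    rw [hH, hcardG, Nat.mul_comm (p ^ (2 * b + a))] at h2
    refine Nat.eq_of_mul_eq_mul_left ?_ h2
    have := Nat.one_lt_pow ha.ne' hp.one_lt
    omega
  have hle := CfsgLib.FrobComp.index_le_ncard_kernel H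
  rw [hker, hidx, ← Nat.card_coe_set_eq] at hle
  have hle' : p ^ (2 * b + a) ≤ p ^ a := hq ▸ hle
  have hb : b = 0 := by
    have := (Nat.pow_le_pow_iff_right hp.one_lt).1 hle'
    omega
  subst hb
  refine le_antisymm (CfsgLib.PLocal.le_pCore hNp) ?_
  obtain ⟨k, hk⟩ := IsPGroup.iff_card.1 (CfsgLib.PLocal.isPGroup_pCore p G)
  have hd : p ^ k ∣ p ^ a := by
    have h1 := Subgroup.card_subgroup_dvd_card (Cfsg.pCore p G)
    rw [hk, hcardG, Nat.mul_zero, Nat.zero_add] at h1
    refine ((Nat.Coprime.pow_left k ?_).dvd_of_dvd_mul_right h1)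
    refine (Nat.Prime.coprime_iff_not_dvd hp).2 fun hd' => ?_
    have h3 := Nat.dvd_sub (dvd_pow_self p ha.ne') hd'
    rw [Nat.sub_sub_self (Nat.one_le_pow _ _ hp.pos)] at h3
    exact hp.one_lt.ne' (Nat.dvd_one.1 h3)
  refine (Subgroup.eq_of_le_of_card_ge (CfsgLib.PLocal.le_pCore hNp) ?_).ge
  rw [hk, hq]
  exact Nat.le_of_dvd (pow_pos hp.pos _) hd

end Cfsg.Agent.S4839
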