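import Cfsg.Statements.S4840
-- import your own Cfsg.Agent.* helpers here

import Cfsg.Agent.TwoClasses.Frobenius
import Cfsg.Agent.TwoClasses.Transitive
import Cfsg.Agent.Characters.Linear
import Cfsg.Agent.BlocksCharsC.PGroupCenter

set_option autoImplicit false
set_option linter.style.haveILetI false
open Cfsg

namespace Cfsg.Agent.S4840

/-- Let G be a finite solvable group of order greater than 2 with an irreducible character nonzero on exactly two conjugacy classes. Then there is exactly one prime p with O_p(G) ≠ 1, and the quotient G/O_p(G) has a normal p-complement and commutative Sylow p-subgroups. -/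
theorem result {G : Type*} [Group G] [Finite G] [hs : Group.IsSolvable G] (hG : 2 < Nat.card G) (χ : Cfsg.IrrCharacter G) (hχ : Nat.card {C : ConjClasses G // ∃ g ∈ C.carrier, (χ : G → ℂ) g ≠ 0} = 2) :
    ∃ p : ℕ, p.Prime ∧ (∀ q : ℕ, q.Prime → (Cfsg.pCore q G ≠ ⊥ ↔ q = p)) ∧
      Cfsg.HasNormalPComplement p (G ⧸ Cfsg.pCore p G) ∧ ∀ Q : Sylow p (G ⧸ Cfsg.pCore p G), IsMulCommutative (Q : Subgroup (G ⧸ Cfsg.pCore p G)) := by
  classical
  haveI := Fintype.ofFinite G
  obtain ⟨x, h⟩ := CfsgLib.TwoClasses.exists_isTwoClass hG χ hχ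
  -- the support is a subgroup
  have hval : ∀ g : G, g ≠ 1 → (∀ ψ : Cfsg.IrrCharacter G, ψ ≠ χ → (ψ : G → ℂ) g = (ψ : G → ℂ) 1) →
      (χ : G → ℂ) g ≠ 0 := by
    intro g hg1 hg h0
    have hx := CfsgLib.Characters.sum_degree_mul (G := G) x
    have hy := CfsgLib.Characters.sum_degree_mul (G := G) g
    rw [if_neg h.ne_one] at hx
    rw [if_neg hg1] at hy
    have he : ∀ ψ : Cfsg.IrrCharacter G, (ψ : G → ℂ) 1 * (ψ : G → ℂ) g =
        if ψ = χ then 0 else (ψ : G → ℂ) 1 * (ψ : G → ℂ) x := by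
      intro ψ
      split_ifs with hψ
      · rw [hψ, h0, mul_zero]
      · rw [hg ψ hψ, h.other_eq_degree hψ]
    rw [Finset.sum_congr rfl fun ψ _ => he ψ] at hy
    rw [← Finset.add_sum_erase _ _ (Finset.mem_univ χ)] at hx hy
    rw [if_pos rfl, zero_add, Finset.sum_congr rfl fun ψ hψ =>
      if_neg (Finset.ne_of_mem_erase hψ)] at hy
    rw [hy, add_zero, mul_eq_zero] at hx
    rcases hx with h1 | h1
    · exact CfsgLib.Characters.irr_one_ne_zero χ.2 h1
    · exact (h.supp x).2 (Or.inr (IsConj.refl x)) h1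
  let N : Subgroup G :=
    { carrier := {g | ∀ ψ : Cfsg.IrrCharacter G, ψ ≠ χ → (ψ : G → ℂ) g = (ψ : G → ℂ) 1}
      one_mem' := fun _ _ => rfl
      mul_mem' := fun {a b} ha hb ψ hψ => by
        rw [CfsgLib.TwoClasses.irr_mul_of_eq_degree
          (CfsgLib.Characters.isCharacter_of_isIrr ψ.2) (hb ψ hψ)]
        exact ha ψ hψ
      inv_mem' := fun {a} ha ψ hψ => by
        show (ψ : G → ℂ) a⁻¹ = _
        obtain ⟨n, hn⟩ := CfsgLib.Characters.exists_degree
          (CfsgLib.Characters.isCharacter_of_isIrr ψ.2)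
        rw [CfsgLib.Characters.character_inv (CfsgLib.Characters.isCharacter_of_isIrr ψ.2),
          ha ψ hψ, hn, Complex.conj_natCast] }
  have hN : ∀ g : G, g ∈ N ↔ (χ : G → ℂ) g ≠ 0 := fun g => by
    refine ⟨fun hg => ?_, fun hg ψ hψ => ?_⟩
    · by_cases hg1 : g = 1
      · rw [hg1]; exact CfsgLib.Characters.irr_one_ne_zero χ.2
      · exact hval g hg1 hg
    · rcases (h.supp g).1 hg with e | e
      · rw [e]
      · rw [← CfsgLib.Characters.classFunction_isConj
          (CfsgLib.Characters.isClassFunction_of_isIrr ψ.2) e, h.other_eq_degree hψ]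
  haveI hNn : N.Normal := ⟨fun n hn g ψ hψ => by
    rw [CfsgLib.Characters.isClassFunction_of_isIrr ψ.2 n g]; exact hn ψ hψ⟩
  have hxN : x ∈ N := h.self_mem hN
  have hN1 : N ≠ ⊥ := fun hb => h.ne_one (by rw [hb, Subgroup.mem_bot] at hxN; exact hxN)
  -- every nontrivial normal subgroup contains it
  have hmin : ∀ M : Subgroup G, M.Normal → M ≠ ⊥ → N ≤ M := by
    intro M hM hM1
    haveI := hM
    have hxM : x ∈ M := by
      haveI := Fintype.ofFinite (G ⧸ M)
      rw [← QuotientGroup.eq_one_iff]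
      refine isConj_one_left.1 (CfsgLib.Characters.isConj_of_irr_eq fun η => ?_)
      let ψ : Cfsg.IrrCharacter G := ⟨fun g => (η : G ⧸ M → ℂ) (QuotientGroup.mk' M g),
        CfsgLib.Characters.isIrr_comp _ (QuotientGroup.mk'_surjective M) η.2⟩
      have hne : ψ ≠ χ := by
        intro he
        refine hM1 ((Subgroup.eq_bot_iff_forall M).2 fun m hm => h.faithful (g := m) ?_)
        rw [← he]
        show (η : G ⧸ M → ℂ) (QuotientGroup.mk' M m) = (η : G ⧸ M → ℂ) (QuotientGroup.mk' M 1)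
        rw [map_one, (QuotientGroup.eq_one_iff m).2 hm |> (fun e => (show QuotientGroup.mk' M m = 1 from e))]
      exact h.other_eq_degree hne
    intro n hn
    by_cases hn1 : n = 1
    · rw [hn1]; exact M.one_mem
    obtain ⟨c, hc⟩ := isConj_iff.1 (h.isConj_of_mem hN hn hn1)
    rw [← hc]; exact hM.conj_mem x hxM c
  have hmin' : ∀ M : Subgroup G, M.Normal → M ≤ N → M = ⊥ ∨ M = N := fun M hM hle =>
    or_iff_not_imp_left.2 fun hne => le_antisymm hle (hmin M hM hne)
  obtain ⟨p, hp, hNp⟩ := CfsgLib.Solvable.exists_isPGroup_of_minimal_normal hN1 hmin'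
  haveI := Fact.mk hp
  have hO : N ≤ Cfsg.pCore p G := CfsgLib.PLocal.le_pCore hNp
  refine ⟨p, hp, fun q hq => ?_, ?_⟩
  · haveI := Fact.mk hq
    refine ⟨fun hne => ?_, fun e hb => hN1 (le_bot_iff.1 (hb ▸ e ▸ hO))⟩
    by_contra hqp
    refine hN1 ?_
    have h1 := (CfsgLib.Solvable.isPGroup_pCore q).to_le
      (hmin _ (CfsgLib.Solvable.pCore_normal q) hne)
    have h2 := IsPGroup.disjoint_of_ne q p hqp N N h1 hNp
    exact disjoint_self.1 h2
  set O := Cfsg.pCore p G with hOdef
  haveI hOn : O.Normal := CfsgLib.Solvable.pCore_normal p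
  -- the core is the centraliser
  have hC : Subgroup.centralizer (N : Set G) = O := by
    refine le_antisymm ?_ ?_
    · exact CfsgLib.PLocal.le_pCore ((h.centralizer_isPGroup hN hNp hxN h.ne_one).to_le
        (Subgroup.centralizer_le (Set.singleton_subset_iff.2 hxN)))
    · rw [← Subgroup.le_centralizer_iff]
      have hOp : IsPGroup p O := CfsgLib.PLocal.isPGroup_pCore p G
      haveI : Nontrivial (N.subgroupOf O) := by
        rw [← Finite.one_lt_card_iff_nontrivial,
          Nat.card_congr (Subgroup.subgroupOfEquivOfLe hO).toEquiv,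
          Finite.one_lt_card_iff_nontrivial]
        exact (Subgroup.nontrivial_iff_ne_bot N).2 hN1
      have hne := CfsgLib.BlocksCharsC.inf_center_ne_bot hOp (N.subgroupOf O)
      have hne' : N ⊓ Subgroup.centralizer (O : Set G) ≠ ⊥ := by
        intro hb
        apply hne
        rw [Subgroup.eq_bot_iff_forall]
        rintro a ⟨ha1, ha2⟩
        have hmem : (a : G) ∈ N ⊓ Subgroup.centralizer (O : Set G) :=
          ⟨Subgroup.mem_subgroupOf.1 ha1, Subgroup.mem_centralizer_iff.2 fun b hb' =>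
            congrArg Subtype.val (Subgroup.mem_center_iff.1 ha2 ⟨b, hb'⟩)⟩
        rw [hb, Subgroup.mem_bot] at hmem
        exact Subtype.ext hmem
      exact le_trans (hmin _ inferInstance hne') inf_le_right
  -- the action of the quotient
  have hcomm := h.comm hN hNp
  letI : CommGroup N := { (inferInstance : Group N) with mul_comm := hcomm }
  haveI : Nontrivial N := (Subgroup.nontrivial_iff_ne_bot N).2 hN1
  have hker : O = (MulAut.conjNormal (H := N) : G →* MulAut N).ker := by
    rw [← hC]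
    ext g
    rw [MonoidHom.mem_ker, Subgroup.mem_centralizer_iff]
    refine ⟨fun hg => MulEquiv.ext fun a => Subtype.ext ?_, fun hg a ha => ?_⟩
    · rw [MulAut.conjNormal_apply, ← hg a a.2]; simp
    · have h1 := congrArg Subtype.val (DFunLike.congr_fun hg ⟨a, ha⟩)
      rw [MulAut.conjNormal_apply] at h1
      exact (mul_inv_eq_iff_eq_mul.1 h1).symm
  let ρ : G ⧸ O →* MulAut N := QuotientGroup.lift O (MulAut.conjNormal (H := N)) hker.le
  have hρ : Function.Injective ρ := by
    rw [← MonoidHom.ker_eq_bot_iff, eq_bot_iff]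
    intro q hq
    obtain ⟨g, rfl⟩ := QuotientGroup.mk'_surjective O q
    rw [MonoidHom.mem_ker] at hq
    exact (QuotientGroup.eq_one_iff g).2 (hker.ge (MonoidHom.mem_ker.2 hq))
  have hndvd : ¬ p ∣ Nat.card (commutator (G ⧸ O)) := by
    refine CfsgLib.TwoClasses.not_dvd_card_commutator ρ hρ
      (fun v => Subtype.ext (by simpa using h.exponent hN hNp v.2)) ?_ ?_
      (CfsgLib.PLocal.pCore_quotient_pCore_eq_bot p G)
    · intro v w hv hw
      obtain ⟨c, hc⟩ := isConj_iff.1 ((h.isConj_of_mem hN v.2 (fun e => hv (Subtype.ext e))).symm.trans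
        (h.isConj_of_mem hN w.2 (fun e => hw (Subtype.ext e))))
      exact ⟨QuotientGroup.mk' O c, Subtype.ext ((MulAut.conjNormal_apply c v).trans hc)⟩
    · intro q v hv hfix
      obtain ⟨g, rfl⟩ := QuotientGroup.mk'_surjective O q
      have h1 : g * v * g⁻¹ = v :=
        (MulAut.conjNormal_apply g v).symm.trans (congrArg Subtype.val hfix)
      obtain ⟨k, hk⟩ := IsPGroup.iff_orderOf.1
        (h.centralizer_isPGroup hN hNp v.2 fun e => hv (Subtype.ext e))
        ⟨g, Subgroup.mem_centralizer_singleton_iff.2 (mul_inv_eq_iff_eq_mul.1 h1)⟩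
      rw [Subgroup.orderOf_mk] at hk
      obtain ⟨i, -, hi⟩ := (Nat.dvd_prime_pow hp).1 (hk ▸ orderOf_map_dvd (QuotientGroup.mk' O) g)
      exact ⟨i, hi⟩
  refine ⟨CfsgLib.Transfer.hasNormalPComplement_of_quotient (commutator (G ⧸ O)) hndvd ?_, ?_⟩
  · have hc : ∀ a b : (G ⧸ O) ⧸ commutator (G ⧸ O), a * b = b * a := fun a b =>
      (inferInstance : Std.Commutative (α := Abelianization (G ⧸ O)) (· * ·)).comm a b
    letI : CommGroup ((G ⧸ O) ⧸ commutator (G ⧸ O)) :=
      { (inferInstance : Group ((G ⧸ O) ⧸ commutator (G ⧸ O))) with mul_comm := hc }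
    exact CfsgLib.Transfer.hasNormalPComplement_of_isNilpotent
  · intro Q
    refine ⟨⟨fun a b => ?_⟩⟩
    have hmem : ((a * b * a⁻¹ * b⁻¹ : (Q : Subgroup (G ⧸ O))) : G ⧸ O) ∈
        (Q : Subgroup (G ⧸ O)) ⊓ commutator (G ⧸ O) :=
      ⟨Subtype.mem _, Subgroup.commutator_mem_commutator (Subgroup.mem_top _) (Subgroup.mem_top _)⟩
    rw [CfsgLib.PLocal.disjoint_of_isPGroup_of_coprime Q.isPGroup'
      (CfsgLib.PLocal.not_dvd_iff_coprime.2 hndvd), Subgroup.mem_bot] at hmem
    have h1 : a * b * a⁻¹ * b⁻¹ = 1 := Subtype.ext hmem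
    rwa [mul_inv_eq_one, mul_inv_eq_iff_eq_mul] at h1

end Cfsg.Agent.S4840
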