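import Cfsg.Statements.S4843
-- import your own Cfsg.Agent.* helpers here

import Cfsg.Agent.GaloisConj.Basic
import Cfsg.Agent.GaloisProduct.Basic
import Cfsg.Agent.Solvable.Fitting
set_option autoImplicit false
open Cfsg

namespace Cfsg.Agent.S4843

/-- Let G be a finite group with a faithful irreducible character χ (taking the value χ(1) only at the identity) and let k be prime to the order of G, so that g ↦ χ(g^k) is a Galois conjugate of χ. If the pointwise product g ↦ χ(g)·χ(g^k) is again an irreducible character, then the Fitting subgroup of G equals its centre. -/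
theorem result {G : Type*} [Group G] [Finite G] (χ : Cfsg.IrrCharacter G) (hfaith : ∀ g : G, (χ : G → ℂ) g = (χ : G → ℂ) 1 → g = 1) (k : ℕ) (hk : Nat.Coprime k (Nat.card G)) (hirr : Cfsg.IsIrrCharacter G (fun g => (χ : G → ℂ) g * (χ : G → ℂ) (g ^ k))) : Cfsg.fittingSubgroup G = Subgroup.center G := by
  
  classical
  haveI := Fintype.ofFinite G
  obtain ⟨n, ρ, hρ, hχ⟩ := χ.2
  obtain ⟨n', ρ', hρ', hχ'⟩ := CfsgLib.GaloisConj.isIrrCharacter_pow χ.2 hk
  obtain ⟨j, hj⟩ := CfsgLib.GaloisProduct.exists_pow_mul_eq_inv hk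
  have hj' : ∀ g : G, ρ'.character (g ^ j) = (starRingEnd ℂ) (ρ.character g) := fun g => by
    rw [hχ']
    show (χ : G → ℂ) ((g ^ j) ^ k) = _
    rw [← pow_mul, hj, ← hχ, CfsgLib.Characters.char_inv]
  have hprod : Cfsg.IsIrrCharacter G (Representation.tprod ρ ρ').character := by
    rw [Representation.char_tensor, hχ', hχ]
    exact hirr
  have hinj : ∀ g : G, ρ g = LinearMap.id → g = 1 := fun g hg => hfaith g (by
    rw [← hχ, Representation.char_one]
    exact (CfsgLib.Characters.char_eq_finrank_iff ρ g).2 hg)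
  have hsc : ∀ (z : G) (ω : ℂ), ρ z = ω • LinearMap.id → z ∈ Subgroup.center G := by
    intro z ω hz
    refine Subgroup.mem_center_iff.2 fun g => ?_
    have h1 : ρ (g * z * g⁻¹ * z⁻¹) = LinearMap.id := by
      have hzi : ρ z * ρ z⁻¹ = 1 := by rw [← map_mul, mul_inv_cancel, map_one]
      calc ρ (g * z * g⁻¹ * z⁻¹) = ρ g * ρ z * ρ g⁻¹ * ρ z⁻¹ := by simp only [map_mul]
        _ = ρ z * (ρ g * ρ g⁻¹) * ρ z⁻¹ := by
          rw [hz, show (LinearMap.id : Module.End ℂ (Fin n → ℂ)) = 1 from rfl]
          simp only [mul_smul_comm, smul_mul_assoc, mul_one, one_mul]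
        _ = LinearMap.id := by rw [← map_mul, mul_inv_cancel, map_one, mul_one, hzi]; rfl
    have h2 := hinj _ h1
    calc g * z = (g * z * g⁻¹ * z⁻¹) * (z * g) := by group
      _ = z * g := by rw [h2, one_mul]
  have hab : ∀ A : Subgroup G, A.Normal → (∀ a ∈ A, ∀ b ∈ A, a * b = b * a) →
      A ≤ Subgroup.center G := by
    intro A hA hAc y hy
    haveI := hA
    obtain ⟨ω, hω⟩ := (CfsgLib.Characters.norm_char_eq_iff_scalar ρ y).1
      (CfsgLib.GaloisProduct.norm_char_eq_of_comm ρ ρ' hprod A hAc j hj' hy)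
    exact hsc y ω hω
  have hkey : ∀ E : Subgroup G, E.Normal →
      (∀ a ∈ E, ∀ b ∈ E, a * b * a⁻¹ * b⁻¹ ∈ Subgroup.center G) → E ≤ Subgroup.center G := by
    intro E hE hcl y hy
    haveI := hE
    refine CfsgLib.GaloisProduct.norm_char_eq_of_zero_or_scalar ρ ρ' hprod E j hj'
      (Subgroup.center G) (fun z hz g => Subgroup.mem_center_iff.1 hz g) ?_ hy
    intro x hx hxZ
    have hZE : E ⊓ Subgroup.centralizer (E : Set G) ≤ Subgroup.center G :=
      hab _ inferInstance (fun a ha b hb =>
        (Subgroup.mem_centralizer_iff.1 ha.2 b hb.1).symm)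
    obtain ⟨z, hz, hzx⟩ : ∃ z ∈ E, z * x ≠ x * z := by
      by_contra hne
      refine hxZ (hZE ⟨hx, Subgroup.mem_centralizer_iff.2 fun z hz => ?_⟩)
      by_contra hzx
      exact hne ⟨z, hz, hzx⟩
    set c := z * x * z⁻¹ * x⁻¹ with hc
    have hc1 : c ≠ 1 := fun h1 => hzx (by
      calc z * x = c * (x * z) := by rw [hc]; group
        _ = x * z := by rw [h1, one_mul])
    obtain ⟨ω, hω⟩ := CfsgLib.Characters.central_scalar ρ (hcl z hz x hx)
    have hω1 : ω ≠ 1 := fun h1 => hc1 (hinj c (by rw [hω, h1, one_smul]))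
    have h2 : ρ.character x = ω * ρ.character x := by
      conv_lhs => rw [← Representation.char_conj ρ x z,
        show z * x * z⁻¹ = c * x by rw [hc]; group]
      rw [Representation.character, Representation.character, map_mul, hω,
        show (LinearMap.id : Module.End ℂ (Fin n → ℂ)) = 1 from rfl, smul_mul_assoc, one_mul,
        map_smul, smul_eq_mul]
    exact (mul_eq_zero.1 (by linear_combination h2 :
      (1 - ω) * ρ.character x = 0)).resolve_left (sub_ne_zero.2 hω1.symm)
  refine le_antisymm ?_ ?_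
  · haveI : (Cfsg.fittingSubgroup G).Normal := CfsgLib.Solvable.fittingSubgroup_normal
    haveI : Group.IsNilpotent (Cfsg.fittingSubgroup G) :=
      CfsgLib.Solvable.fittingSubgroup_isNilpotent
    obtain ⟨m, hm⟩ := Group.IsNilpotent.nilpotent (Cfsg.fittingSubgroup G)
    have hall : ∀ i, (Subgroup.upperCentralSeries (Cfsg.fittingSubgroup G) i).map
        (Cfsg.fittingSubgroup G).subtype ≤ Subgroup.center G := by
      intro i
      induction i with
      | zero => simp
      | succ i ih =>
        refine hkey _ inferInstance ?_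
        rintro _ ⟨a, ha, rfl⟩ _ ⟨b, -, rfl⟩
        exact ih ⟨_, Subgroup.mem_upperCentralSeries_succ_iff.1 ha b, by
          simp [commutatorElement_def]⟩
    intro g hg
    have := hall m
    rw [hm] at this
    exact this ⟨⟨g, hg⟩, Subgroup.mem_top _, rfl⟩
  · letI : CommGroup (Subgroup.center G) :=
      { (inferInstance : Group (Subgroup.center G)) with
        mul_comm := fun a b => Subtype.ext (Subgroup.mem_center_iff.1 b.2 a) }
    exact CfsgLib.Solvable.le_fittingSubgroup (CommGroup.isNilpotent (G := Subgroup.center G))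

end Cfsg.Agent.S4843
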