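import Cfsg.Statements.S4845
-- import your own Cfsg.Agent.* helpers here

import Cfsg.Agent.SameDegree.Basic
import Cfsg.Agent.BlocksCharsC.Congruence

set_option autoImplicit false
set_option linter.style.haveILetI false
open Cfsg

namespace Cfsg.Agent.S4845

open CfsgLib CfsgLib.SameDegree
open scoped commutatorElement

/-- Derived group of order `p ^ 2` is impossible. -/
theorem no_card_sq {G : Type*} [Group G] [Finite G] {p : ℕ} [Fact p.Prime] (hP : IsPGroup p G)
    (hS : SameKer G) : Nat.card (commutator G) ≠ p ^ 2 := by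
  classical
  have hp := (Fact.out : p.Prime)
  intro hD
  have hDne : commutator G ≠ ⊥ := fun h => by
    rw [h, Subgroup.card_bot] at hD
    exact (Nat.one_lt_pow two_ne_zero hp.one_lt).ne hD
  obtain ⟨N, hNn, hND, hNc⟩ := exists_normal_card_mul hP (commutator G) hDne
  haveI := hNn
  have hN : Nat.card N = p := Nat.eq_of_mul_eq_mul_left hp.pos (by rw [hNc, hD, sq])
  have hNZ : N ≤ Subgroup.center G := IsPGroup.central_of_card_eq hP N hN
  have huniq : ∀ W : Subgroup G, W ≤ Subgroup.center G → W ≤ commutator G → Nat.card W = p →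
      W = N := by
    intro W hWZ hWD hW
    haveI : W.Normal := ⟨fun w hw g => by
      rw [Subgroup.mem_center_iff.1 (hWZ hw) g, mul_inv_cancel_right]; exact hw⟩
    exact eq_of_sameKer hP hS W N hWD (by rw [hW, hD, sq]) hND hNc
  have hNpow : ∀ n ∈ N, n ^ p = 1 := fun n hn => by
    have := congrArg Subtype.val (pow_card_eq_one' (x := (⟨n, hn⟩ : N)))
    rwa [hN] at this
  have hQ := card_commutator_quotient N hND hNc
  have hQP := hP.to_quotient N
  have hQcyc : IsCyclic (Subgroup.center (G ⧸ N)) := isCyclic_center hQP hQ (hS.quotient N)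
  let f := QuotientGroup.mk' N
  have hf : ∀ g, f g = 1 ↔ g ∈ N := fun g => QuotientGroup.eq_one_iff g
  have hcommD : ∀ x y : G, ⁅x, y⁆ ∈ commutator G := fun x y =>
    Subgroup.commutator_mem_commutator (Subgroup.mem_top x) (Subgroup.mem_top y)
  have hcg : Nat.card (commutator G) = p ^ 2 := hD
  have hDcomm : ∀ a ∈ commutator G, ∀ b ∈ commutator G, a * b = b * a := fun a ha b hb =>
    congrArg Subtype.val
      ((IsPGroup.isMulCommutative_of_card_eq_prime_sq hcg).is_comm.comm ⟨a, ha⟩ ⟨b, hb⟩)
  by_cases hcen : commutator G ≤ Subgroup.center G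
  · -- central derived group
    obtain ⟨x, y, hxy⟩ : ∃ x y : G, ⁅x, y⁆ ^ p ≠ 1 := by
      by_contra hne
      push Not at hne
      have hle : commutator G ≤ N := by
        rw [commutator_def, Subgroup.commutator_le]
        intro x _ y _
        by_cases h1 : ⁅x, y⁆ = 1
        · rw [h1]; exact N.one_mem
        have hW : Nat.card (Subgroup.zpowers ⁅x, y⁆) = p := by
          rw [Nat.card_zpowers]
          exact orderOf_eq_prime (hne x y) h1
        have := huniq _ (Subgroup.zpowers_le.2 (hcen (hcommD x y)))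
          (Subgroup.zpowers_le.2 (hcommD x y)) hW
        exact this ▸ Subgroup.mem_zpowers _
      have := Subgroup.card_le_of_le hle
      rw [hD, hN, sq] at this
      exact absurd this (not_le.2 (lt_mul_of_one_lt_left hp.pos hp.one_lt))
    have hcomm_pow : ∀ a b : G, ∀ n : ℕ, ⁅a, b ^ n⁆ = ⁅a, b⁆ ^ n := by
      intro a b n
      induction n with
      | zero => simp
      | succ n ih =>
        rw [pow_succ' b, pow_succ' ⁅a, b⁆, ← ih]
        have hc := Subgroup.mem_center_iff.1 (hcen (hcommD a (b ^ n))) b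
        rw [show ⁅a, b * b ^ n⁆ = ⁅a, b⁆ * (b * ⁅a, b ^ n⁆ * b⁻¹) by
          simp only [commutatorElement_def]; group, hc, mul_inv_cancel_right]
    have hcomm_symm : ∀ a b : G, ⁅b, a⁆ = ⁅a, b⁆⁻¹ := fun a b => (commutatorElement_inv a b).symm
    have hcentral : ∀ g : G, f (g ^ p) ∈ Subgroup.center (G ⧸ N) := fun g => by
      rw [map_pow]; exact pow_mem_center hQP hQ _
    -- the two powers are comparable
    suffices key : ∀ x y : G, f (y ^ p) ∈ Subgroup.zpowers (f (x ^ p)) → ⁅x, y⁆ ^ p = 1 by
      haveI := hQcyc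
      obtain ⟨z0, hz0⟩ := hQcyc.exists_generator
      set a : Subgroup.center (G ⧸ N) := ⟨_, hcentral x⟩
      set b : Subgroup.center (G ⧸ N) := ⟨_, hcentral y⟩
      have hcmp : ∀ a b : Subgroup.center (G ⧸ N), orderOf b ∣ orderOf a →
          b ∈ Subgroup.zpowers a := by
        intro a b hab
        haveI := Fintype.ofFinite (Subgroup.center (G ⧸ N))
        let s : Finset (Subgroup.center (G ⧸ N)) := Finset.univ.filter fun c => c ^ orderOf a = 1
        have hsub : (Subgroup.zpowers a : Set (Subgroup.center (G ⧸ N))) = (s : Set _) := by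
          refine Set.eq_of_subset_of_ncard_le (fun c hc => ?_) ?_ (Set.toFinite _)
          · simp only [s, Finset.coe_filter, Finset.mem_univ, true_and, Set.mem_setOf_eq]
            exact orderOf_dvd_iff_pow_eq_one.1 (orderOf_dvd_of_mem_zpowers hc)
          · rw [Set.ncard_coe_finset, ← Nat.card_coe_set_eq]
            exact (IsCyclic.card_pow_eq_one_le (orderOf_pos a)).trans_eq (Nat.card_zpowers a).symm
        have : b ∈ (s : Set _) := by
          simp only [s, Finset.coe_filter, Finset.mem_univ, true_and, Set.mem_setOf_eq]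
          exact orderOf_dvd_iff_pow_eq_one.1 hab
        rwa [← hsub] at this
      obtain ⟨k, hk⟩ := IsPGroup.iff_orderOf.1 (hQP.to_subgroup _) a
      obtain ⟨m, hm⟩ := IsPGroup.iff_orderOf.1 (hQP.to_subgroup _) b
      rcases le_total m k with hle | hle
      · obtain ⟨i, hi⟩ := hcmp a b (by rw [hk, hm]; exact pow_dvd_pow p hle)
        exact hxy (key x y ⟨i, by simpa [a, b] using congrArg Subtype.val hi⟩)
      · obtain ⟨i, hi⟩ := hcmp b a (by rw [hk, hm]; exact pow_dvd_pow p hle)
        have := key y x ⟨i, by simpa [a, b] using congrArg Subtype.val hi⟩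
        rw [hcomm_symm, inv_pow, inv_eq_one] at this
        exact hxy this
    intro x y hy
    obtain ⟨i, hi⟩ := hy
    have hn : ((x ^ p) ^ i)⁻¹ * y ^ p ∈ N := by
      rw [← hf, map_mul, map_inv, map_zpow]
      exact inv_mul_eq_one.2 hi
    rw [← hcomm_pow, commutatorElement_eq_one_iff_mul_comm,
      show y ^ p = (x ^ p) ^ i * (((x ^ p) ^ i)⁻¹ * y ^ p) by group]
    exact ((((Commute.refl x).pow_right p).zpow_right i).mul_right
      (Subgroup.mem_center_iff.1 (hNZ hn) x)).eq
  · -- non-central derived group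
    have hDN : ∀ c ∈ commutator G, c ∈ Subgroup.center G → c ∈ N := by
      intro c hc hcZ
      by_contra hcN
      apply hcen
      have hle : N ⊔ Subgroup.zpowers c ≤ commutator G := sup_le hND (Subgroup.zpowers_le.2 hc)
      have hlt : N < N ⊔ Subgroup.zpowers c :=
        left_lt_sup.2 fun h => hcN (h (Subgroup.mem_zpowers c))
      have hd := Subgroup.card_dvd_of_le hle
      rw [hD] at hd
      obtain ⟨j, hj, hjc⟩ := (Nat.dvd_prime_pow hp).1 hd
      have hgt : p < Nat.card ↥(N ⊔ Subgroup.zpowers c) := by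
        rw [← hN]
        refine lt_of_le_of_ne (Subgroup.card_le_of_le hlt.le) fun h => hlt.ne ?_
        exact Subgroup.eq_of_le_of_card_ge hlt.le h.ge
      rw [hjc] at hgt
      have hj2 : j = 2 := by
        have : 1 < j := (Nat.pow_lt_pow_iff_right hp.one_lt).1 (by rwa [pow_one])
        omega
      rw [← Subgroup.eq_of_le_of_card_ge hle (by rw [hjc, hD, hj2])]
      exact sup_le hNZ (Subgroup.zpowers_le.2 hcZ)
    let C := Subgroup.centralizer (commutator G : Set G)
    have hDC : commutator G ≤ C := fun a ha =>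
      Subgroup.mem_centralizer_iff.2 fun b hb => hDcomm b hb a ha
    have hDQ : ∀ a ∈ commutator G, f a ∈ Subgroup.center (G ⧸ N) := fun a ha => by
      refine commutator_le_center hQP hQ ?_
      have : (commutator G).map f = commutator (G ⧸ N) := by
        rw [commutator_def, commutator_def, Subgroup.map_commutator,
          Subgroup.map_top_of_surjective _ (QuotientGroup.mk'_surjective N)]
      exact this ▸ Subgroup.mem_map_of_mem f ha
    let R := (Subgroup.center (G ⧸ N)).comap f
    have hR : ∀ r ∈ R, ∀ g : G, g * r * g⁻¹ * r⁻¹ ∈ N := by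
      intro r hr g
      rw [← hf, map_mul, map_mul, map_mul, map_inv, map_inv,
        Subgroup.mem_center_iff.1 (Subgroup.mem_comap.1 hr) (f g), mul_inv_cancel_right,
        mul_inv_cancel]
    have hRp : ∀ r ∈ R, r ^ p ∈ Subgroup.center G := by
      intro r hr
      rw [Subgroup.mem_center_iff]
      intro g
      set n := g * r * g⁻¹ * r⁻¹ with hn
      have hnN : n ∈ N := hR r hr g
      refine mul_inv_eq_iff_eq_mul.1 ?_
      rw [← conj_pow, show g * r * g⁻¹ = n * r by rw [hn]; group,
        (show Commute n r from (Subgroup.mem_center_iff.1 (hNZ hnN) r).symm).mul_pow,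
        hNpow n hnN, one_mul]
    have hRD : R ≤ commutator G := by
      intro r hr
      haveI := hQcyc
      obtain ⟨z0, hz0⟩ := hQcyc.exists_generator
      obtain ⟨r0, hr0⟩ := QuotientGroup.mk'_surjective N (z0 : G ⧸ N)
      have hr0R : r0 ∈ R := by
        refine Subgroup.mem_comap.2 ?_
        rw [show f r0 = (z0 : G ⧸ N) from hr0]; exact z0.2
      have hex : ∀ s ∈ R, ∃ (i : ℤ) (n : G), n ∈ N ∧ s = r0 ^ i * n := by
        intro s hs
        obtain ⟨i, hi⟩ := hz0 ⟨f s, hs⟩
        have hi' : (z0 : G ⧸ N) ^ i = f s := by simpa using congrArg Subtype.val hi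
        refine ⟨i, (r0 ^ i)⁻¹ * s, ?_, by group⟩
        rw [← hf, map_mul, map_inv, map_zpow, show f r0 = (z0 : G ⧸ N) from hr0, hi',
          inv_mul_cancel]
      obtain ⟨c, hc, hcZ⟩ := SetLike.not_le_iff_exists.1 hcen
      obtain ⟨i, n, hn, hcin⟩ := hex c (hDQ c hc)
      have hi : ¬ (p : ℤ) ∣ i := by
        rintro ⟨j, rfl⟩
        refine hcZ ?_
        rw [hcin, zpow_mul, zpow_natCast]
        exact mul_mem (zpow_mem (hRp r0 hr0R) j) (hNZ hn)
      have hcp : r0 ^ i ∈ commutator G := by
        rw [show r0 ^ i = c * n⁻¹ by rw [hcin]; group]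
        exact mul_mem hc (inv_mem (hND hn))
      obtain ⟨k, hk⟩ := IsPGroup.iff_orderOf.1 hP r0
      have hcop : IsCoprime i ((p : ℤ) ^ k) := by
        refine IsCoprime.pow_right ?_
        rw [isCoprime_comm]
        exact (Nat.prime_iff_prime_int.1 hp).coprime_iff_not_dvd.2 hi
      obtain ⟨u, v, huv⟩ := hcop
      have hr0D : r0 ∈ commutator G := by
        have h1 : r0 ^ ((p : ℤ) ^ k) = 1 := by
          rw [← Nat.cast_pow, zpow_natCast, ← hk, pow_orderOf_eq_one]
        rw [← zpow_one r0, ← huv, zpow_add, mul_comm u i, zpow_mul, mul_comm v, zpow_mul, h1,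
          one_zpow, mul_one]
        exact zpow_mem hcp u
      obtain ⟨j, m, hm, rfl⟩ := hex r hr
      exact mul_mem (zpow_mem hr0D j) (hND hm)
    have hDR : commutator G ≤ R := fun a ha => hDQ a ha
    -- commutators inside `C` are in `N`
    have hCN : ∀ u ∈ C, ∀ v ∈ C, ⁅u, v⁆ ∈ N := by
      intro u hu v hv
      refine hDN _ (hcommD u v) (Subgroup.mem_center_iff.2 fun g => mul_inv_eq_iff_eq_mul.1 ?_)
      have ha : ∀ w, ∃ a ∈ commutator G, g * w * g⁻¹ = w * a := fun w => by
        refine ⟨⁅w⁻¹, g⁆, hcommD _ _, ?_⟩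
        rw [commutatorElement_def]; group
      obtain ⟨a, had, hau⟩ := ha u
      obtain ⟨b, hbd, hbv⟩ := ha v
      have hcd : ∀ w ∈ C, ∀ a ∈ commutator G, Commute a w := fun w hw a ha =>
        Subgroup.mem_centralizer_iff.1 hw a ha
      rw [show g * ⁅u, v⁆ * g⁻¹ = ⁅g * u * g⁻¹, g * v * g⁻¹⁆ by
        simp only [commutatorElement_def]; group, hau, hbv, commutatorElement_def]
      have hab : Commute a b := hDcomm a had b hbd
      calc u * a * (v * b) * (u * a)⁻¹ * (v * b)⁻¹
          = u * (a * v) * b * a⁻¹ * u⁻¹ * b⁻¹ * v⁻¹ := by group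
        _ = u * v * (a * b * a⁻¹) * (u⁻¹ * b⁻¹) * v⁻¹ := by rw [(hcd v hv a had).eq]; group
        _ = u * v * b * (b⁻¹ * u⁻¹) * v⁻¹ := by
            rw [hab.eq, mul_inv_cancel_right, (((hcd u hu b hbd).inv_left).inv_right).eq]
        _ = u * v * u⁻¹ * v⁻¹ := by group
    haveI hCn : C.Normal := inferInstance
    -- `C` has index `p`
    have hNpt : ∀ g : G, ∀ a ∈ commutator G, g * a * g⁻¹ * a⁻¹ ∈ N := fun g a ha => hR a (hDR ha) g
    obtain ⟨d, hd, hdN⟩ : ∃ d ∈ commutator G, d ∉ N := by
      by_contra hne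
      push Not at hne
      exact hcen (le_trans (fun a ha => hne a ha) hNZ)
    have hgend : N ⊔ Subgroup.zpowers d = commutator G := by
      have hle : N ⊔ Subgroup.zpowers d ≤ commutator G := sup_le hND (Subgroup.zpowers_le.2 hd)
      refine Subgroup.eq_of_le_of_card_ge hle ?_
      obtain ⟨j, hj, hjc⟩ := (Nat.dvd_prime_pow hp).1 (hD ▸ Subgroup.card_dvd_of_le hle)
      have hlt : N < N ⊔ Subgroup.zpowers d :=
        left_lt_sup.2 fun h => hdN (h (Subgroup.mem_zpowers d))
      have h1 : p ^ 1 < p ^ j := by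
        rw [pow_one, ← hjc, ← hN]
        exact lt_of_le_of_ne (Subgroup.card_le_of_le hlt.le) fun h => hlt.ne
          (Subgroup.eq_of_le_of_card_ge hlt.le h.ge)
      have := (Nat.pow_lt_pow_iff_right hp.one_lt).1 h1
      rw [hD, hjc, show j = 2 by omega]
    let φ : G →* N := MonoidHom.mk' (fun g => ⟨g * d * g⁻¹ * d⁻¹, hNpt g d hd⟩) fun g h => by
      apply Subtype.ext
      show g * h * d * (g * h)⁻¹ * d⁻¹ = g * d * g⁻¹ * d⁻¹ * (h * d * h⁻¹ * d⁻¹)
      have hh := Subgroup.mem_center_iff.1 (hNZ (hNpt h d hd)) g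
      calc g * h * d * (g * h)⁻¹ * d⁻¹
          = (g * (h * d * h⁻¹ * d⁻¹)) * (d * g⁻¹ * d⁻¹) := by group
        _ = (h * d * h⁻¹ * d⁻¹ * g) * (d * g⁻¹ * d⁻¹) := by rw [hh]
        _ = (h * d * h⁻¹ * d⁻¹) * (g * d * g⁻¹ * d⁻¹) := by group
        _ = (g * d * g⁻¹ * d⁻¹) * (h * d * h⁻¹ * d⁻¹) :=
          (Subgroup.mem_center_iff.1 (hNZ (hNpt h d hd)) _).symm
    have hφker : φ.ker ≤ C := by
      intro g hg
      have hgd : Commute d g := by
        have := congrArg Subtype.val (MonoidHom.mem_ker.1 hg)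
        exact (mul_inv_eq_iff_eq_mul.1 (mul_inv_eq_one.1 this)).symm
      refine Subgroup.mem_centralizer_iff.2 fun a ha => ?_
      have hle : commutator G ≤ Subgroup.centralizer {g} := by
        rw [← hgend]
        exact sup_le (fun n hn => Subgroup.mem_centralizer_singleton_iff.2
          (Subgroup.mem_center_iff.1 (hNZ hn) g).symm)
          (Subgroup.zpowers_le.2 (Subgroup.mem_centralizer_singleton_iff.2 hgd.eq))
      exact Subgroup.mem_centralizer_singleton_iff.1 (hle ha)
    have hCtop : C ≠ ⊤ := fun h => hcen fun a ha => Subgroup.mem_center_iff.2 fun g =>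
      ((Subgroup.mem_centralizer_iff.1 (h ▸ Subgroup.mem_top g : g ∈ C)) a ha).symm
    have hCi : C.index = p := by
      refine ((Nat.dvd_prime hp).1 ((Subgroup.index_dvd_of_le hφker).trans ?_)).resolve_left
        (fun h => hCtop (Subgroup.index_eq_one.1 h))
      rw [Subgroup.index_ker, ← hN]
      exact Subgroup.card_subgroup_dvd_card φ.range
    obtain ⟨y, hy⟩ : ∃ y, y ∉ C := by
      by_contra hne
      push Not at hne
      exact hCtop (eq_top_iff.2 fun g _ => hne g)
    let ψ : C →* commutator (G ⧸ N) := MonoidHom.mk'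
      (fun u => ⟨⁅f u, f y⁆, Subgroup.commutator_mem_commutator (Subgroup.mem_top _)
        (Subgroup.mem_top _)⟩) fun u v => by
      apply Subtype.ext
      show ⁅f ((u : G) * v), f y⁆ = ⁅f u, f y⁆ * ⁅f v, f y⁆
      have hc : ⁅f v, f y⁆ ∈ Subgroup.center (G ⧸ N) := commutator_le_center hQP hQ
        (Subgroup.commutator_mem_commutator (Subgroup.mem_top _) (Subgroup.mem_top _))
      rw [map_mul, show ⁅f u * f v, f y⁆ = f u * ⁅f v, f y⁆ * (f u)⁻¹ * ⁅f u, f y⁆ by
        simp only [commutatorElement_def]; group, Subgroup.mem_center_iff.1 hc (f u),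
        mul_inv_cancel_right, Subgroup.mem_center_iff.1 hc]
    have hψker : ∀ u : C, u ∈ ψ.ker → (u : G) ∈ commutator G := by
      intro u hu
      apply hRD
      show f u ∈ Subgroup.center (G ⧸ N)
      rw [Subgroup.mem_center_iff]
      intro q
      obtain ⟨g, rfl⟩ := QuotientGroup.mk'_surjective N q
      have h1 : ⁅f u, f y⁆ = 1 := congrArg Subtype.val (MonoidHom.mem_ker.1 hu)
      have hle : C ⊔ Subgroup.zpowers y ≤ (Subgroup.centralizer {f (u : G)}).comap f := by
        refine sup_le (fun v hv => ?_) (Subgroup.zpowers_le.2 ?_)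
        · refine Subgroup.mem_centralizer_singleton_iff.2
            (commutatorElement_eq_one_iff_mul_comm.1 ?_)
          rw [← map_commutatorElement, hf]
          exact hCN v hv u u.2
        · exact Subgroup.mem_centralizer_singleton_iff.2
            (commutatorElement_eq_one_iff_mul_comm.1 h1).symm
      have htop : C ⊔ Subgroup.zpowers y = ⊤ := by
        rw [← Subgroup.index_eq_one]
        refine ((Nat.dvd_prime hp).1 (hCi ▸ Subgroup.index_dvd_of_le le_sup_left)).resolve_right
          fun h => ?_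
        have h2 := Subgroup.relIndex_mul_index (le_sup_left : C ≤ C ⊔ Subgroup.zpowers y)
        rw [h, hCi] at h2
        have h3 : C.relIndex (C ⊔ Subgroup.zpowers y) = 1 :=
          Nat.eq_of_mul_eq_mul_right hp.pos (h2.trans (one_mul p).symm)
        exact hy (Subgroup.relIndex_eq_one.1 h3 (Subgroup.mem_sup_right (Subgroup.mem_zpowers y)))
      exact Subgroup.mem_centralizer_singleton_iff.1
        (hle (htop ▸ Subgroup.mem_top g))
    -- size and commutativity of `C`
    let D' := (commutator G).subgroupOf C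
    have hDi : D'.index ∣ p := by
      have hle : ψ.ker ≤ D' := fun u hu => Subgroup.mem_subgroupOf.2 (hψker u hu)
      refine (Subgroup.index_dvd_of_le hle).trans ?_
      rw [Subgroup.index_ker, ← hQ]
      exact Subgroup.card_subgroup_dvd_card ψ.range
    have hCab : ∀ a ∈ C, ∀ b ∈ C, a * b = b * a := by
      by_cases htop : D' = ⊤
      · intro a ha b hb
        exact hDcomm a (Subgroup.mem_subgroupOf.1 (htop ▸ Subgroup.mem_top (⟨a, ha⟩ : C)))
          b (Subgroup.mem_subgroupOf.1 (htop ▸ Subgroup.mem_top (⟨b, hb⟩ : C)))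
      obtain ⟨u, hu⟩ : ∃ u : C, u ∉ D' := by
        by_contra hne
        push Not at hne
        exact htop (eq_top_iff.2 fun g _ => hne g)
      have hgen : commutator G ⊔ Subgroup.zpowers (u : G) = C := by
        refine le_antisymm (sup_le hDC (Subgroup.zpowers_le.2 u.2)) ?_
        have hlt : D' < D' ⊔ Subgroup.zpowers u :=
          left_lt_sup.2 fun h => hu (h (Subgroup.mem_zpowers u))
        have htop' : D' ⊔ Subgroup.zpowers u = ⊤ := by
          rw [← Subgroup.index_eq_one]
          have h0 := Subgroup.relIndex_mul_index hlt.le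
          rcases (Nat.dvd_prime hp).1 hDi with h1 | h1
          · exact absurd (Subgroup.index_eq_one.1 h1) htop
          rcases (Nat.dvd_prime hp).1 (h1 ▸ Subgroup.index_dvd_of_le hlt.le) with h2 | h2
          · exact h2
          rw [h2, h1] at h0
          exact absurd (Subgroup.relIndex_eq_one.1
            (Nat.eq_of_mul_eq_mul_right hp.pos (h0.trans (one_mul p).symm))) hlt.not_ge
        intro a ha
        have hmem : (⟨a, ha⟩ : C) ∈ D' ⊔ Subgroup.zpowers u := htop' ▸ Subgroup.mem_top _
        have := Subgroup.mem_map_of_mem C.subtype hmem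
        rw [Subgroup.map_sup, MonoidHom.map_zpowers] at this
        have hle : D'.map C.subtype ≤ commutator G := fun w hw => by
          obtain ⟨w', hw', rfl⟩ := hw
          exact Subgroup.mem_subgroupOf.1 hw'
        exact sup_le_sup_right hle (Subgroup.zpowers (u : G)) this
      have hstep : ∀ a ∈ C, Commute (u : G) a := by
        intro a ha
        have hle : commutator G ⊔ Subgroup.zpowers (u : G) ≤ Subgroup.centralizer {(u : G)} :=
          sup_le (fun w hw => Subgroup.mem_centralizer_singleton_iff.2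
            (Subgroup.mem_centralizer_iff.1 u.2 w hw))
            (Subgroup.zpowers_le.2 (Subgroup.mem_centralizer_singleton_iff.2 rfl))
        exact (Subgroup.mem_centralizer_singleton_iff.1 (hle (hgen.symm ▸ ha))).symm
      intro a ha b hb
      have hle : commutator G ⊔ Subgroup.zpowers (u : G) ≤ Subgroup.centralizer {a} :=
        sup_le (fun w hw => Subgroup.mem_centralizer_singleton_iff.2
          (Subgroup.mem_centralizer_iff.1 ha w hw))
          (Subgroup.zpowers_le.2 (Subgroup.mem_centralizer_singleton_iff.2 (hstep a ha).eq))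
      exact (Subgroup.mem_centralizer_singleton_iff.1 (hle (hgen.symm ▸ hb))).symm
    -- the two characters of degree `p`
    haveI := Fintype.ofFinite G
    have hdeg : ∀ χ : Cfsg.IrrCharacter G, (χ : G → ℂ) 1 ≠ 1 → (χ : G → ℂ) 1 = (p : ℂ) := by
      intro χ h1
      obtain ⟨d, hd, hle⟩ := degree_le_index C hCab χ.2
      rw [hCi] at hle
      obtain ⟨n, ρ, hρ, hρχ⟩ := χ.2
      haveI := hρ
      have hdn : d = Module.finrank ℂ (Fin n → ℂ) := by
        apply Nat.cast_injective (R := ℂ)
        rw [← hd, ← hρχ, Representation.char_one]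
      have hdvd : d ∣ Nat.card G := hdn ▸ Characters.finrank_dvd_card ρ
      obtain ⟨N', hN'⟩ := IsPGroup.iff_card.1 hP
      obtain ⟨e, -, rfl⟩ := (Nat.dvd_prime_pow hp).1 (hN' ▸ hdvd)
      have he : e ≠ 0 := fun h => h1 (by rw [hd, h, pow_zero, Nat.cast_one])
      have : p ^ e = p := le_antisymm hle (Nat.le_self_pow he p)
      rw [hd, this]
    obtain ⟨χ, e, hχ1, -, hχker, -⟩ := exists_char_of_quotient hP hS N hND hNc
    obtain ⟨n, hn, hn1⟩ := BlocksCharsC.exists_mem_ne_one (H := N) (fun h => by
      rw [h, Subgroup.card_bot] at hN; exact hp.one_lt.ne hN)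
    obtain ⟨η, hη⟩ := exists_irr_ne hn1
    have hη1 : (η : G → ℂ) 1 ≠ 1 := fun h => hη (linear_commutator η.2 h (hND hn))
    exact hη (hS χ η hχ1 ((hdeg χ hχ1).trans (hdeg η hη1).symm) n ((hχker n).1 hn))

/-- Equal kernels force a derived group of order `p`. -/
theorem card_commutator {G : Type*} [Group G] [Finite G] {p : ℕ} [Fact p.Prime]
    (hP : IsPGroup p G) (hS : SameKer G) (hne : commutator G ≠ ⊥) :
    Nat.card (commutator G) = p := by
  obtain ⟨N, hNn, hND, hNc⟩ := exists_normal_card_mul hP (commutator G) hne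
  haveI := hNn
  by_cases hN : N = ⊥
  · rw [← hNc, hN, Subgroup.card_bot, mul_one]
  exfalso
  obtain ⟨M, hMn, hMN, hMc⟩ := exists_normal_card_mul hP N hN
  haveI := hMn
  refine no_card_sq (hP.to_quotient M) (hS.quotient M) ?_
  have hmap : commutator (G ⧸ M) = (commutator G).map (QuotientGroup.mk' M) := by
    rw [commutator_def, commutator_def, Subgroup.map_commutator,
      Subgroup.map_top_of_surjective _ (QuotientGroup.mk'_surjective M)]
  have h2 := ((commutator G).map (QuotientGroup.mk' M)).card_mul_index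
  rw [(commutator G).index_map_eq (QuotientGroup.mk'_surjective M)
    (by rw [QuotientGroup.ker_mk']; exact hMN.trans hND), ← hmap] at h2
  have h1 := (commutator G).card_mul_index
  rw [← hNc, ← hMc] at h1
  have h3 : Nat.card G = Nat.card (G ⧸ M) * Nat.card M :=
    Subgroup.card_eq_card_quotient_mul_card_subgroup M
  rw [← h1, ← h2] at h3
  refine Nat.eq_of_mul_eq_mul_right (m := (commutator G).index * Nat.card M)
    (Nat.mul_pos (Nat.pos_of_ne_zero Subgroup.index_ne_zero_of_finite) Nat.card_pos) ?_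
  rw [sq]
  linarith

/-- Let p be a prime and P a finite non-commutative p-group. Then every two irreducible characters of P of the same degree greater than 1 are Galois conjugate (one is obtained from the other by composing with g ↦ g^k for some k prime to the order of P) if and only if the centre of P is cyclic and the derived subgroup of P has order p. -/
theorem result {P : Type*} [Group P] [Finite P] (p : ℕ) [Fact p.Prime] (hP : IsPGroup p P) (hna : ¬ IsMulCommutative P) :
    (∀ χ ψ : Cfsg.IrrCharacter P, Cfsg.charDegree (χ : P → ℂ) ≠ 1 → Cfsg.charDegree (χ : P → ℂ) = Cfsg.charDegree (ψ : P → ℂ) → ∃ k : ℕ, Nat.Coprime k (Nat.card P) ∧ ∀ g : P, (ψ : P → ℂ) g = (χ : P → ℂ) (g ^ k)) ↔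
      (IsCyclic (Subgroup.center P) ∧ Nat.card (commutator P) = p) := by

  have hp := (Fact.out : p.Prime)
  have hne : commutator P ≠ ⊥ := fun h => hna ⟨⟨fun a b => by
    have := Subgroup.commutator_mem_commutator (Subgroup.mem_top a) (Subgroup.mem_top b)
    rw [← commutator_def, h, Subgroup.mem_bot] at this
    exact commutatorElement_eq_one_iff_mul_comm.1 this⟩⟩
  have hdeg : ∀ χ : Cfsg.IrrCharacter P, ∃ n : ℕ, (χ : P → ℂ) 1 = n ∧
      Cfsg.charDegree (χ : P → ℂ) = n := fun χ => by
    obtain ⟨n, -, hn⟩ := Characters.exists_degree_pos χ.2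
    exact ⟨n, hn, BlocksCharsC.charDegree_eq hn⟩
  constructor
  · intro h
    have hS : SameKer P := by
      intro χ ψ h1 h2 g hg
      obtain ⟨a, ha, ha'⟩ := hdeg χ
      obtain ⟨b, hb, hb'⟩ := hdeg ψ
      have hab : a = b := Nat.cast_injective (R := ℂ) (ha.symm.trans (h2.trans hb))
      obtain ⟨k, hk, hψ⟩ := h χ ψ (by rw [ha']; exact fun e => h1 (by rw [ha, e, Nat.cast_one]))
        (by rw [ha', hb', hab])
      obtain ⟨n, ρ, hρ⟩ := Characters.isCharacter_of_isIrr χ.2
      have hd : ρ.character g = (Module.finrank ℂ (Fin n → ℂ) : ℂ) := by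
        rw [hρ, hg, ← hρ, Representation.char_one]
      have hg1 := (Characters.char_eq_finrank_iff ρ g).1 hd
      have hgk : ρ (g ^ k) = LinearMap.id := by rw [map_pow, hg1]; exact one_pow k
      have := (Characters.char_eq_finrank_iff ρ (g ^ k)).2 hgk
      rw [hψ g, hψ 1, one_pow, ← hρ, this, Representation.char_one]
    have hc := card_commutator hP hS hne
    exact ⟨isCyclic_center hP hc hS, hc⟩
  · rintro ⟨hZ, hc⟩ χ ψ h1 h2
    obtain ⟨a, ha, ha'⟩ := hdeg χ
    obtain ⟨b, hb, hb'⟩ := hdeg ψ
    have ha1 : (χ : P → ℂ) 1 ≠ 1 := by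
      rw [ha, Nat.cast_ne_one, ← ha']; exact h1
    have hb1 : (ψ : P → ℂ) 1 ≠ 1 := by
      rw [hb, Nat.cast_ne_one, ← hb', ← h2]; exact h1
    exact exists_pow_eq hP hc hZ χ.2 ψ.2 ha1 hb1

end Cfsg.Agent.S4845
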