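import Cfsg.Statements.S4848
import Cfsg.Agent.S0191
import Cfsg.Agent.S4456
import Cfsg.Agent.GaloisAverage.CoprimeModule
import Cfsg.Agent.CharactersDeep.Clifford
import Cfsg.Agent.OddOrderChar.Clifford
import Cfsg.Agent.Characters.Linear
import Cfsg.Agent.Characters.Classes
import Cfsg.Agent.Characters.Integrality
import Cfsg.Agent.RealChars.Basic
import Cfsg.Agent.GroupBasics.Conjugates
import Mathlib.GroupTheory.Nilpotent
import Mathlib.GroupTheory.Complement

/-!
# Groups in which characters vanish only at `p`-elements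

A character of degree prime to `p` does not vanish at `p`-elements, so every nonlinear degree is
divisible by `p` and there is a normal `p`-complement `K`.  A `p`-element `x` with a fixed point
on `K` is then non-vanishing, hence central in `P`, and fixes every character of `K`.
-/

set_option autoImplicit false
set_option linter.style.haveILetI false
set_option maxHeartbeats 400000

open Cfsg
open scoped Pointwise commutatorElement

namespace Cfsg.Agent.S4848

open CfsgLib.Characters CfsgLib.OddOrderChar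

universe u

/-- A non-central element of a nilpotent group is a zero of an irreducible character. -/
theorem exists_zero_of_not_mem_center (H : Type u) [Group H] [Group.IsNilpotent H] :
    Finite H → ∀ x : H, x ∉ Subgroup.center H →
      ∃ ψ : H → ℂ, Cfsg.IsIrrCharacter H ψ ∧ ψ x = 0 := by
  refine Group.nilpotent_center_quotient_ind
    (P := fun A _ _ => Finite A → ∀ x : A, x ∉ Subgroup.center A →
      ∃ ψ : A → ℂ, Cfsg.IsIrrCharacter A ψ ∧ ψ x = 0) H ?_ ?_
  · intro A _ _ _ x hx
    exact absurd (Subsingleton.elim (1 : A) x ▸ one_mem _) hx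
  · intro A _ _ ih _ x hx
    haveI := Fintype.ofFinite A
    set Z := Subgroup.center A
    by_cases hxq : (x : A ⧸ Z) ∈ Subgroup.center (A ⧸ Z)
    · obtain ⟨g, hg⟩ : ∃ g : A, g * x * g⁻¹ * x⁻¹ ≠ 1 := by
        by_contra hcon
        push Not at hcon
        exact hx (Subgroup.mem_center_iff.2 fun g =>
          mul_inv_eq_iff_eq_mul.1 (mul_inv_eq_one.1 (hcon g)))
      set z := g * x * g⁻¹ * x⁻¹ with hz
      have hzZ : z ∈ Z := by
        rw [← QuotientGroup.eq_one_iff (N := Z)]
        simp only [hz, QuotientGroup.mk_mul, QuotientGroup.mk_inv]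
        rw [Subgroup.mem_center_iff.1 hxq (g : A ⧸ Z)]
        group
      have hne : ∃ χ : Cfsg.IrrCharacter A, (χ : A → ℂ) z ≠ (χ : A → ℂ) 1 := by
        by_contra hcon
        push Not at hcon
        exact hg (isConj_one_left.1 (isConj_of_irr_eq fun χ => hcon χ))
      obtain ⟨⟨χ, n, ρ, hρ, rfl⟩, hχ⟩ := hne
      refine ⟨ρ.character, isIrrCharacter_character ρ, ?_⟩
      obtain ⟨c, hc⟩ := central_scalar ρ hzZ
      have hmul : ∀ y, ρ.character (z * y) = c * ρ.character y := fun y => by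
        simp [Representation.character, map_mul, hc, Module.End.mul_eq_comp]
      have h1 : c * ρ.character x = ρ.character x := by
        rw [← hmul, show z * x = g * x * g⁻¹ by rw [hz]; group]
        exact isClassFunction_of_isIrr (isIrrCharacter_character ρ) x g
      have hc1 : c ≠ 1 := fun e => hχ (by
        have := hmul 1
        rw [mul_one, e, one_mul] at this
        exact this)
      by_contra h0
      exact hc1 (mul_right_cancel₀ h0 (h1.trans (one_mul _).symm))
    · obtain ⟨ψ, hψ, h0⟩ := ih inferInstance (x : A ⧸ Z) hxq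
      exact ⟨fun a => ψ (QuotientGroup.mk' Z a),
        isIrr_comp (QuotientGroup.mk' Z) (QuotientGroup.mk'_surjective Z) hψ, h0⟩

theorem charDegree_eq {A : Type u} [Group A] {χ : A → ℂ} {n : ℕ} (h : χ 1 = n) :
    Cfsg.charDegree χ = n := by
  rw [Cfsg.charDegree, h]
  simp

variable {G : Type u} [Group G] [Finite G] {p : ℕ} [Fact p.Prime]

/-- All elements at which an irreducible character vanishes are nontrivial `p`-elements. -/
def ZerosOnP (p : ℕ) (G : Type u) [Group G] : Prop :=
  ∀ g : G, (∃ χ : Cfsg.IrrCharacter G, (χ : G → ℂ) g = 0) → ∃ m : ℕ, 1 ≤ m ∧ orderOf g = p ^ m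

theorem dvd_degree (hvan : ZerosOnP p G) (χ : Cfsg.IrrCharacter G)
    (h1 : Cfsg.charDegree (χ : G → ℂ) ≠ 1) : p ∣ Cfsg.charDegree (χ : G → ℂ) := by
  obtain ⟨χ, n, ρ, hρ, rfl⟩ := χ
  have hd : ρ.character 1 = (Module.finrank ℂ (Fin n → ℂ) : ℂ) := Representation.char_one ρ
  have hdeg := charDegree_eq hd
  simp only [hdeg] at h1 ⊢
  have hpos := finrank_pos_of_isIrreducible ρ
  obtain ⟨g, hg⟩ := Cfsg.Agent.S0191.result ρ (by omega)
  obtain ⟨m, -, hm⟩ := hvan g ⟨⟨_, n, ρ, hρ, rfl⟩, hg⟩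
  by_contra hnd
  exact CfsgLib.GaloisAverage.char_ne_zero_of_pow ⟨n, ρ, rfl⟩
    (show g ^ p ^ m = 1 by rw [← hm, pow_orderOf_eq_one]) hd hnd hg

section Setting

variable (hvan : ZerosOnP p G) {K : Subgroup G} [hKn : K.Normal]
variable (P : Sylow p G)

omit [Finite G] in
theorem proj_eq (hinf : K ⊓ (P : Subgroup G) = ⊥) {a b : G} (ha : a ∈ (P : Subgroup G))
    (hb : b ∈ (P : Subgroup G)) (h : a * b⁻¹ ∈ K) : a = b := by
  have : a * b⁻¹ ∈ K ⊓ (P : Subgroup G) := ⟨h, (P : Subgroup G).mul_mem ha ((P : Subgroup G).inv_mem hb)⟩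
  rw [hinf, Subgroup.mem_bot, mul_inv_eq_one] at this
  exact this

include hvan in
/-- Over an element commuting with a nontrivial element of `K` no irreducible character has a
zero. -/
theorem ne_zero_of_fixed (hinf : K ⊓ (P : Subgroup G) = ⊥) {x : G} (hx : x ∈ (P : Subgroup G))
    {c : G} (hcK : c ∈ K) (hc1 : c ≠ 1) (hcx : Commute x c) {χ : G → ℂ}
    (hχ : Cfsg.IsIrrCharacter G χ) : χ (c * x) ≠ 0 := by
  intro h0
  obtain ⟨m, -, hm⟩ := hvan _ ⟨⟨χ, hχ⟩, h0⟩
  have h1 : c ^ p ^ m * x ^ p ^ m = 1 := by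
    rw [← hcx.symm.mul_pow, ← hm, pow_orderOf_eq_one]
  have h2 : c ^ p ^ m = 1 := by
    have : c ^ p ^ m ∈ K ⊓ (P : Subgroup G) :=
      ⟨pow_mem hcK _, eq_inv_of_mul_eq_one_left h1 ▸ (P : Subgroup G).inv_mem ((P : Subgroup G).pow_mem hx _)⟩
    rwa [hinf] at this
  obtain ⟨i, -, hi⟩ := (Nat.dvd_prime_pow (Fact.out : p.Prime)).1 (orderOf_dvd_of_pow_eq_one h2)
  have hcP : (Nat.card K).Coprime (orderOf c) → False := fun hco => by
    refine hc1 (orderOf_eq_one_iff.1 (Nat.eq_one_of_dvd_coprimes hco ?_ dvd_rfl))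
    rw [← Subgroup.orderOf_mk c hcK]
    exact orderOf_dvd_natCard _
  obtain ⟨j, hj⟩ := IsPGroup.iff_card.1 P.isPGroup'
  refine hcP ?_
  rw [hi]
  refine Nat.Coprime.pow_right _ (((Fact.out : p.Prime).coprime_iff_not_dvd.2 ?_).symm)
  intro hd
  obtain ⟨k, hk⟩ := exists_prime_orderOf_dvd_card' (G := K) p hd
  obtain ⟨S, hS⟩ : ∃ S : Sylow p G, Subgroup.zpowers (k : G) ≤ S := by
    refine IsPGroup.exists_le_sylow (IsPGroup.of_card (n := 1) ?_)
    rw [Nat.card_zpowers, Subgroup.orderOf_coe, hk, pow_one]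
  obtain ⟨g, hg⟩ := MulAction.exists_smul_eq G S P
  have hk' : MulAut.conj g (k : G) ∈ K ⊓ (P : Subgroup G) := by
    refine ⟨hKn.conj_mem _ k.2 g, ?_⟩
    rw [← hg, Sylow.coe_subgroup_smul]
    exact Subgroup.smul_mem_pointwise_smul _ (MulAut.conj g) _ (hS (Subgroup.mem_zpowers _))
  rw [hinf, Subgroup.mem_bot, MulEquiv.map_eq_one_iff] at hk'
  have hk1 : k = 1 := Subtype.ext hk'
  rw [hk1, orderOf_one] at hk
  exact (Fact.out : p.Prime).one_lt.ne hk

variable (htop : ∀ g : G, ∃ k ∈ K, ∃ y ∈ (P : Subgroup G), g = k * y)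
variable (hinf : K ⊓ (P : Subgroup G) = ⊥)

include hvan htop hinf in
/-- An element of `P` with a fixed point on `K` is central in `P`. -/
theorem commute_of_fixed {x : G} (hx : x ∈ (P : Subgroup G))
    {c : G} (hcK : c ∈ K) (hc1 : c ≠ 1) (hcx : Commute x c) :
    ∀ y ∈ (P : Subgroup G), Commute y x := by
  classical
  set π := QuotientGroup.mk' K
  have hQ : IsPGroup p (G ⧸ K) := by
    refine P.isPGroup'.of_surjective (π.comp (P : Subgroup G).subtype) fun q => ?_
    obtain ⟨g, rfl⟩ := QuotientGroup.mk'_surjective K q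
    obtain ⟨k, hk, y, hy, rfl⟩ := htop g
    refine ⟨⟨y, hy⟩, ?_⟩
    show π y = π (k * y)
    rw [map_mul, show π k = 1 from (QuotientGroup.eq_one_iff k).2 hk, one_mul]
  haveI := hQ.isNilpotent
  have hxq : π x ∈ Subgroup.center (G ⧸ K) := by
    by_contra hcon
    obtain ⟨ψ, hψ, h0⟩ := exists_zero_of_not_mem_center (G ⧸ K) inferInstance _ hcon
    refine ne_zero_of_fixed hvan P hinf hx hcK hc1 hcx
      (isIrr_comp π (QuotientGroup.mk'_surjective K) hψ) ?_
    show ψ (π (c * x)) = 0
    rw [map_mul, show π c = 1 from (QuotientGroup.eq_one_iff c).2 hcK, one_mul, h0]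
  intro y hy
  have h := Subgroup.mem_center_iff.1 hxq (π y)
  rw [← map_mul, ← map_mul] at h
  refine proj_eq P hinf (mul_mem hy hx) (mul_mem hx hy) ?_
  rw [← QuotientGroup.eq_one_iff (N := K), QuotientGroup.mk_mul, QuotientGroup.mk_inv,
    mul_inv_eq_one]
  exact h

include hvan htop hinf in
/-- An element of `P` with a fixed point on `K` fixes every character of `K`. -/
theorem fixes_char {x : G} (hx : x ∈ (P : Subgroup G))
    {c : G} (hcK : c ∈ K) (hc1 : c ≠ 1) (hcx : Commute x c) {θ : K → ℂ}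
    (hθ : Cfsg.IsIrrCharacter K θ) : conjBy K θ x = θ := by
  classical
  haveI := Fintype.ofFinite G
  haveI := Fintype.ofFinite K
  let T : Subgroup G :=
    { carrier := {g | conjBy K θ g = θ}
      one_mem' := conjBy_one K θ
      mul_mem' := fun {a b} ha hb => by
        show conjBy K θ (a * b) = θ
        rw [← conjBy_mul, ha, hb]
      inv_mem' := fun {a} ha => by
        show conjBy K θ a⁻¹ = θ
        conv_lhs => rw [← ha]
        rw [conjBy_mul, mul_inv_cancel, conjBy_one] }
  haveI := Fintype.ofFinite T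
  haveI := Fintype.ofFinite (K.subgroupOf T)
  have hT : ∀ g : G, g ∈ T ↔ conjBy K θ g = θ := fun g => Iff.rfl
  by_contra hxT
  have hKT : K ≤ T := inertia_le K (isClassFunction_of_isIrr hθ) T hT
  obtain ⟨η, hη, hne⟩ := CfsgLib.CharactersDeep.Clifford.exists_over (K.subgroupOf T)
    (isIrr_onSubgroupOf K T hKT hθ)
  obtain ⟨hχ, -, -⟩ := clifford_correspondence K T hθ hT hη hne
  refine ne_zero_of_fixed hvan P hinf hx hcK hc1 hcx hχ
    (indFun_eq_zero_of_forall T η _ fun y hy => hxT ?_)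
  have hk : y⁻¹ * (c * x) * y * x⁻¹ ∈ K := by
    obtain ⟨k, hk, w, hw, rfl⟩ := htop y
    have hwx : w⁻¹ * x * w = x := by
      rw [mul_assoc, ← (commute_of_fixed hvan P htop hinf hx hcK hc1 hcx w hw).eq, ← mul_assoc,
        inv_mul_cancel, one_mul]
    have : (k * w)⁻¹ * (c * x) * (k * w) * x⁻¹ =
        w⁻¹ * (k⁻¹ * c * (x * k * x⁻¹)) * w * (w⁻¹ * x * w * x⁻¹) := by group
    rw [this, hwx, mul_inv_cancel, mul_one]
    have := hKn.conj_mem _ (mul_mem (mul_mem (inv_mem hk) hcK) (hKn.conj_mem _ hk x)) w⁻¹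
    rwa [inv_inv] at this
  have := mul_mem (inv_mem (hKT hk)) hy
  rwa [mul_inv_rev, inv_inv, mul_assoc, inv_mul_cancel, mul_one] at this

include htop hinf in
/-- An element of `P` fixing every character of `K` centralises `K`. -/
theorem centralizes (hKcop : (Nat.card K).Coprime p) {x : G} (hx : x ∈ (P : Subgroup G))
    (hfix : ∀ θ : K → ℂ, Cfsg.IsIrrCharacter K θ → conjBy K θ x = θ) :
    ∀ k ∈ K, Commute x k := by
  classical
  haveI := Fintype.ofFinite G
  haveI := Fintype.ofFinite K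
  set α : K ≃* K := MulAut.conjNormal (H := K) x
  have hα : ∀ θ : K → ℂ, conjBy K θ x = θ ∘ α := fun θ => funext fun k =>
    congrArg θ (Subtype.ext (MulAut.conjNormal_apply x k).symm)
  have hcard := CfsgLib.RealChars.card_fixed_eq (α : K → K)
    (fun {y z} h => α.toMonoidHom.map_isConj h)
    (fun θ hθ => by rw [← hα θ, hfix θ hθ]; exact hθ)
  have hall : Nat.card {θ : Cfsg.IrrCharacter K // (θ : K → ℂ) ∘ α = θ} =
      Nat.card (ConjClasses K) := by
    rw [Nat.card_congr (Equiv.subtypeUnivEquiv fun θ : Cfsg.IrrCharacter K => by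
      rw [← hα]; exact hfix _ θ.2)]
    exact card_irrCharacter
  have hconj : ∀ y : K, IsConj (α y) y := by
    intro y
    by_contra hy
    have hlt : Nat.card {C : ConjClasses K // ∀ z, ConjClasses.mk z = C → IsConj (α z) z} <
        Nat.card (ConjClasses K) :=
      Finite.card_subtype_lt (x := ConjClasses.mk y) fun h => hy (h y rfl)
    omega
  have hC : (Subgroup.centralizer ({x} : Set G)).subgroupOf K = ⊤ := by
    refine CfsgLib.GroupBasics.eq_top_of_forall_conj_mem fun y => ?_
    obtain ⟨k₀, hk₀⟩ := isConj_iff.1 (hconj y)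
    have hk : (k₀ : G) * x * y * x⁻¹ * (k₀ : G)⁻¹ = y := by
      have := congrArg Subtype.val hk₀
      simp only [α, Subgroup.coe_mul, InvMemClass.coe_inv, MulAut.conjNormal_apply] at this
      simpa [mul_assoc] using this
    -- the `p`-part of `k₀ x`
    obtain ⟨j, hj⟩ := IsPGroup.iff_card.1 P.isPGroup'
    have hcop : (p ^ j).Coprime (Nat.card K) := Nat.Coprime.pow_left _ hKcop.symm
    obtain ⟨n, hn1, hn0⟩ := Nat.chineseRemainder hcop 1 0
    set w := ((k₀ : G) * x) ^ n with hw
    have hwy : Commute w y := by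
      refine Commute.pow_left ?_ _
      show (k₀ : G) * x * y = y * ((k₀ : G) * x)
      calc (k₀ : G) * x * y = (k₀ : G) * x * y * x⁻¹ * (k₀ : G)⁻¹ * ((k₀ : G) * x) := by group
        _ = y * ((k₀ : G) * x) := by rw [hk]
    have hwx : w * x⁻¹ ∈ K := by
      have hxo : x ^ n = x := by
        have : x ^ p ^ j = 1 := by
          rw [← hj]
          exact congrArg Subtype.val (pow_card_eq_one' (G := (P : Subgroup G)) (x := ⟨x, hx⟩))
        conv_rhs => rw [← pow_one x]
        exact pow_eq_pow_iff_modEq.2 (hn1.of_dvd (orderOf_dvd_of_pow_eq_one this))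
      rw [← QuotientGroup.eq_one_iff (N := K), hw, QuotientGroup.mk_mul, QuotientGroup.mk_pow,
        QuotientGroup.mk_mul, (QuotientGroup.eq_one_iff (k₀ : G)).2 k₀.2, one_mul,
        ← QuotientGroup.mk_pow, hxo, QuotientGroup.mk_inv, mul_inv_cancel]
    have hwp : IsPGroup p (Subgroup.zpowers w) := by
      have h1 : w ^ p ^ j = 1 := by
        obtain ⟨q, hq⟩ := Nat.modEq_zero_iff_dvd.1 hn0
        have hG : Nat.card G = Nat.card K * p ^ j := by
          rw [← hj, ← (Subgroup.isComplement'_of_disjoint_and_mul_eq_univ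
            (disjoint_iff.2 hinf) (Set.eq_univ_of_forall fun g => by
              obtain ⟨k, hk, z, hz, rfl⟩ := htop g
              exact Set.mul_mem_mul hk hz)).card_mul_card]
        rw [hw, ← pow_mul, show n * p ^ j = Nat.card G * q by rw [hG, hq]; ring, pow_mul,
          pow_card_eq_one', one_pow]
      obtain ⟨i, -, hi⟩ := (Nat.dvd_prime_pow (Fact.out : p.Prime)).1 (orderOf_dvd_of_pow_eq_one h1)
      exact IsPGroup.of_card (n := i) (by rw [Nat.card_zpowers, hi])
    obtain ⟨S, hS⟩ := hwp.exists_le_sylow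
    obtain ⟨g, hg⟩ := MulAction.exists_smul_eq G P S
    have hwS : w ∈ MulAut.conj g • (P : Subgroup G) := by
      rw [← Sylow.pointwise_smul_def]
      show w ∈ ((g • P : Sylow p G) : Subgroup G)
      rw [hg]
      exact hS (Subgroup.mem_zpowers w)
    obtain ⟨x₁, hx₁, hx₁w⟩ := Subgroup.mem_smul_pointwise_iff_exists _ _ _ |>.1 hwS
    obtain ⟨k, hkK, z, hz, rfl⟩ := htop g
    have hx₁w' : k * (z * x₁ * z⁻¹) * k⁻¹ = w := by
      rw [← hx₁w, MulAut.smul_def, MulAut.conj_apply]; group
    have hx₂ : z * x₁ * z⁻¹ ∈ (P : Subgroup G) := mul_mem (mul_mem hz hx₁) (inv_mem hz)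
    have he : z * x₁ * z⁻¹ = x := proj_eq P hinf hx₂ hx (by
      have h2 : (k⁻¹ * (w * x⁻¹)) * (x * k * x⁻¹) ∈ K :=
        mul_mem (mul_mem (inv_mem hkK) hwx) (hKn.conj_mem _ hkK x)
      convert h2 using 1
      rw [← hx₁w']; group)
    rw [he] at hx₁w'
    refine ⟨(⟨k, hkK⟩ : K)⁻¹, ?_⟩
    rw [Subgroup.mem_subgroupOf, Subgroup.mem_centralizer_singleton_iff]
    have h3 := hwy.eq
    rw [← hx₁w'] at h3
    simp only [Subgroup.coe_mul, InvMemClass.coe_inv, inv_inv]
    calc k⁻¹ * (y : G) * k * x = k⁻¹ * ((y : G) * (k * x * k⁻¹)) * k := by group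
      _ = k⁻¹ * ((k * x * k⁻¹) * y) * k := by rw [h3]
      _ = x * (k⁻¹ * y * k) := by group
  intro k hk
  have : (⟨k, hk⟩ : K) ∈ (Subgroup.centralizer ({x} : Set G)).subgroupOf K := hC ▸ Subgroup.mem_top _
  rw [Subgroup.mem_subgroupOf, Subgroup.mem_centralizer_singleton_iff] at this
  exact this.symm

end Setting

/-- Let G be a finite nonabelian group and p a prime such that every zero of every irreducible character of G is a nontrivial p-element. Then G is a p-group, or the centre of G is its p-core and the quotient by the centre has a Frobenius complement that is a p-group. -/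
theorem result {G : Type*} [Group G] [Finite G] (hna : ¬ IsMulCommutative G) (p : ℕ) [Fact p.Prime] (hvan : ∀ g : G, (∃ χ : Cfsg.IrrCharacter G, (χ : G → ℂ) g = 0) → ∃ m : ℕ, 1 ≤ m ∧ orderOf g = p ^ m) :
    IsPGroup p G ∨ (Subgroup.center G = Cfsg.pCore p G ∧ ∃ H : Subgroup (G ⧸ Subgroup.center G), Cfsg.IsFrobeniusComplement H ∧ IsPGroup p H) := by
  classical
  haveI := Fintype.ofFinite G
  have hdeg : ∀ χ : Cfsg.IrrCharacter G, Cfsg.charDegree (χ : G → ℂ) ≠ 1 →
      p ∣ Cfsg.charDegree (χ : G → ℂ) := fun χ h => dvd_degree hvan χ h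
  obtain ⟨K, hKn, hKcop, e, hKe⟩ := Cfsg.Agent.S4456.result p Fact.out hdeg
  by_cases hK1 : K = ⊥
  · left
    refine IsPGroup.of_card (n := e) ?_
    rw [← hKe, hK1, Subgroup.index_bot]
  right
  let P : Sylow p G := default
  obtain ⟨j, hj⟩ := IsPGroup.iff_card.1 P.isPGroup'
  have hinf : K ⊓ (P : Subgroup G) = ⊥ := disjoint_iff.1 <|
    Subgroup.disjoint_of_coprime_natCard (hj ▸ Nat.Coprime.pow_right _ hKcop)
  have hsup : Nat.card K * Nat.card (P : Subgroup G) = Nat.card G := by
    rw [← K.card_mul_index, hKe, P.card_eq_multiplicity]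
    congr 2
    rw [← K.card_mul_index, hKe, Nat.factorization_mul Nat.card_pos.ne'
      (pow_pos (Fact.out : p.Prime).pos e).ne', Finsupp.add_apply,
      Nat.factorization_eq_zero_of_not_dvd
        ((Fact.out : p.Prime).coprime_iff_not_dvd.1 hKcop.symm), zero_add,
      Nat.Prime.factorization_pow (Fact.out : p.Prime), Finsupp.single_eq_same]
  have hcompl : Subgroup.IsComplement' K (P : Subgroup G) :=
    Subgroup.isComplement'_of_card_mul_and_disjoint hsup (disjoint_iff.2 hinf)
  have htop : ∀ g : G, ∃ k ∈ K, ∃ y ∈ (P : Subgroup G), g = k * y := fun g => by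
    obtain ⟨⟨⟨k, hk⟩, ⟨y, hy⟩⟩, rfl⟩ := hcompl.2 g
    exact ⟨k, hk, y, hy, rfl⟩
  set C : Subgroup G := (P : Subgroup G) ⊓ Subgroup.centralizer (K : Set G) with hCdef
  have hfix : ∀ x ∈ (P : Subgroup G), ∀ c ∈ K, c ≠ 1 → Commute x c → x ∈ C := by
    intro x hx c hcK hc1 hcx
    refine ⟨hx, Subgroup.mem_centralizer_iff.2 fun k hk => ?_⟩
    exact (centralizes P htop hinf hKcop hx
      (fun θ hθ => fixes_char hvan P htop hinf hx hcK hc1 hcx hθ) k hk).symm.eq
  obtain ⟨c₀, hc₀K, hc₀1⟩ := K.bot_or_exists_ne_one.resolve_left hK1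
  have hCc : C ≤ Subgroup.center G := by
    intro x hx
    refine Subgroup.mem_center_iff.2 fun g => ?_
    have hxK : ∀ k ∈ K, Commute x k := fun k hk =>
      (Subgroup.mem_centralizer_iff.1 hx.2 k hk).symm
    obtain ⟨k, hk, y, hy, rfl⟩ := htop g
    have h1 := commute_of_fixed hvan P htop hinf hx.1 hc₀K hc₀1 (hxK c₀ hc₀K) y hy
    exact (((hxK k hk).symm).mul_left h1).eq
  have hPC : ¬ (P : Subgroup G) ≤ C := by
    intro hPC
    have hlin : ∀ χ : Cfsg.IrrCharacter G, Cfsg.charDegree (χ : G → ℂ) = 1 := by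
      intro χ
      by_contra h1
      have hp := hdeg χ h1
      obtain ⟨χ, n, ρ, hρ, rfl⟩ := χ
      rw [charDegree_eq (Representation.char_one ρ)] at hp
      have := hp.trans (finrank_dvd_index ρ (P : Subgroup G) fun z hz =>
        central_scalar ρ (hCc (hPC hz)))
      exact P.not_dvd_index this
    refine hna ⟨⟨fun a b => ?_⟩⟩
    rw [← commutatorElement_eq_one_iff_mul_comm]
    refine isConj_one_left.1 (isConj_of_irr_eq fun χ => ?_)
    obtain ⟨f, hf⟩ := exists_hom_of_degree_one (isCharacter_of_isIrr χ.2) (by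
      obtain ⟨n, -, hn⟩ := exists_degree_pos χ.2
      rw [hn, ← charDegree_eq hn, hlin χ, Nat.cast_one])
    simp only [hf, map_one]
    rw [map_commutatorElement, commutatorElement_eq_one_iff_mul_comm.2 (mul_comm _ _)]
  have hZ : Subgroup.center G = C := by
    refine le_antisymm (fun z hz => ?_) hCc
    obtain ⟨k, hk, x, hx, rfl⟩ := htop z
    by_cases hk1 : k = 1
    · subst hk1
      rw [one_mul] at hz ⊢
      exact ⟨hx, Subgroup.mem_centralizer_iff.2 fun g _ => Subgroup.mem_center_iff.1 hz g⟩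
    · exfalso
      have hxk : Commute x k := by
        have h := Subgroup.mem_center_iff.1 hz x
        show x * k = k * x
        exact mul_right_cancel (b := x) (by rw [mul_assoc, h, mul_assoc])
      have hxc := hCc (hfix x hx k hk hk1 hxk)
      have hkz : k ∈ Subgroup.center G := by
        simpa using mul_mem hz (inv_mem hxc)
      exact hPC fun y hy => hfix y hy k hk hk1 (Subgroup.mem_center_iff.1 hkz y)
  have hcore : Subgroup.center G = Cfsg.pCore p G := by
    rw [hZ]
    refine le_antisymm (le_sSup ⟨hZ ▸ inferInstance, P.isPGroup'.to_le inf_le_left⟩) ?_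
    refine sSup_le ?_
    rintro N ⟨hNn, hNp⟩ x hx
    obtain ⟨S, hS⟩ := hNp.exists_le_sylow
    obtain ⟨g, hg⟩ := MulAction.exists_smul_eq G S P
    have hxP : x ∈ (P : Subgroup G) := by
      rw [← hg, Sylow.coe_subgroup_smul]
      have h := hNn.conj_mem _ hx g⁻¹
      rw [inv_inv] at h
      have := Subgroup.smul_mem_pointwise_smul _ (MulAut.conj g) _ (hS h)
      simpa [mul_assoc] using this
    have hNK : Disjoint N K := by
      rw [disjoint_iff]
      obtain ⟨i, hi⟩ := IsPGroup.iff_card.1 hNp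
      exact disjoint_iff.1 (Subgroup.disjoint_of_coprime_natCard
        (hi ▸ Nat.Coprime.pow_left _ hKcop.symm))
    exact ⟨hxP, Subgroup.mem_centralizer_iff.2 fun k hk =>
      (Subgroup.commute_of_normal_of_disjoint _ _ hNn hKn hNK x k hx hk).symm.eq⟩
  refine ⟨hcore, (P : Subgroup G).map (QuotientGroup.mk' (Subgroup.center G)),
    ⟨?_, ?_, ?_⟩, P.isPGroup'.map _⟩
  · rw [Ne, Subgroup.map_eq_bot_iff, QuotientGroup.ker_mk', hZ]
    exact hPC
  · intro h
    have h' := congrArg (Subgroup.comap (QuotientGroup.mk' (Subgroup.center G))) h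
    rw [QuotientGroup.comap_map_mk', Subgroup.comap_top, hZ,
      sup_eq_right.2 (inf_le_left : C ≤ (P : Subgroup G))] at h'
    refine hK1 (by rw [← inf_top_eq K, ← h', hinf])
  · intro q hq
    obtain ⟨g, rfl⟩ := QuotientGroup.mk'_surjective _ q
    obtain ⟨k, hk, y, hy, rfl⟩ := htop g
    have hk1 : k ≠ 1 := by
      rintro rfl
      exact hq ⟨y, hy, by rw [one_mul]⟩
    rw [Subgroup.eq_bot_iff_forall]
    rintro a ⟨⟨a, ha, rfl⟩, hq2⟩
    obtain ⟨_, ⟨b, hb, rfl⟩, hba⟩ := Subgroup.mem_smul_pointwise_iff_exists _ _ _ |>.1 hq2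
    rw [MulAut.smul_def, MulAut.conj_apply, ← map_inv, ← map_mul, ← map_mul] at hba
    have hd : ((k * y) * b * (k * y)⁻¹)⁻¹ * a ∈ C := hZ ▸ QuotientGroup.eq.1 hba
    have he : k * y * b * (k * y)⁻¹ ∈ (P : Subgroup G) := by
      have := mul_mem ha (inv_mem hd.1)
      simpa using this
    have hb' : y * b * y⁻¹ ∈ (P : Subgroup G) := mul_mem (mul_mem hy hb) (inv_mem hy)
    have heq : k * y * b * (k * y)⁻¹ = y * b * y⁻¹ := proj_eq P hinf he hb' (by
      have h2 := mul_mem hk (hKn.conj_mem _ (inv_mem hk) (y * b * y⁻¹))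
      convert h2 using 1
      group)
    have hbC : y * b * y⁻¹ ∈ C := hfix _ hb' k hk hk1 (by
      show y * b * y⁻¹ * k = k * (y * b * y⁻¹)
      conv_lhs => rw [← heq]
      group)
    rw [QuotientGroup.mk'_apply, QuotientGroup.eq_one_iff, hZ]
    have := mul_mem hbC hd
    rw [heq] at this
    convert this using 1
    group

end Cfsg.Agent.S4848
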