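import Cfsg.Statements.S4850
import Cfsg.Agent.VanishOrder69.Main
import Cfsg.Agent.FGS.Subnormalizer

set_option autoImplicit false
open Cfsg

namespace Cfsg.Agent.S4850

/-- Let p be a prime and G a finite solvable group whose vanishing elements (elements at which some irreducible character is zero) of order divisible by p all have the same order, with at least one such element. Let P be a Sylow p-subgroup of G. Then the derived subgroup of P is subnormal in G and the image of P in G/O_p(G) is cyclic. -/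
theorem result {G : Type*} [Group G] [Finite G] [hs : Group.IsSolvable G] (p : ℕ) [Fact p.Prime] (b : ℕ) (hvo : {n : ℕ | p ∣ n ∧ ∃ (g : G) (χ : Cfsg.IrrCharacter G), orderOf g = n ∧ (χ : G → ℂ) g = 0} = {b}) (P : Sylow p G) :
    ((commutator ↥(P : Subgroup G)).map (P : Subgroup G).subtype).IsSubnormal ∧ IsCyclic ↥((P : Subgroup G).map (QuotientGroup.mk' (Cfsg.pCore p G))) := by
  classical
  haveI := Fintype.ofFinite G
  haveI := hs
  set O := Cfsg.pCore p G with hO
  haveI hOn : O.Normal := CfsgLib.Solvable.pCore_normal p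
  have hOp : IsPGroup p O := CfsgLib.Solvable.isPGroup_pCore p
  set π := QuotientGroup.mk' O with hπ
  have hπs := QuotientGroup.mk'_surjective O
  haveI : Group.IsSolvable (G ⧸ O) := Group.isSolvable_of_surjective hπs
  have hcore : Cfsg.pCore p (G ⧸ O) = ⊥ := by
    rw [CfsgLib.LocalStructure.pCore_quotient hOp, Subgroup.map_eq_bot_iff,
      QuotientGroup.ker_mk']
  have hyp : CfsgLib.VanishOrder69.Hyp p b π := by
    intro g hg hv
    obtain ⟨χ, hχ, h0⟩ := hv.lift π hπs
    exact Set.eq_of_mem_singleton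
      (hvo ▸ (⟨CfsgLib.VanishClass.sing_lift π hg, g, ⟨χ, hχ⟩, rfl, h0⟩ :
        orderOf g ∈ {n : ℕ | p ∣ n ∧ ∃ (g : G) (χ : Cfsg.IrrCharacter G),
          orderOf g = n ∧ (χ : G → ℂ) g = 0}))
  have h2 := CfsgLib.VanishOrder69.aux (p := p) _ (G ⧸ O) π rfl hπs hyp inferInstance hcore
  set R := (P : Subgroup G).map π with hR
  obtain ⟨j, hj⟩ := IsPGroup.iff_card.1 (P.isPGroup'.map π : IsPGroup p R)
  have hj1 : j ≤ 1 := by
    by_contra hlt
    exact h2 ((pow_dvd_pow p (by omega)).trans (hj ▸ Subgroup.card_subgroup_dvd_card R))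
  have hcyc : IsCyclic R := isCyclic_of_card_dvd_prime (p := p) (by
    rw [hj]
    exact (pow_dvd_pow p hj1).trans (by rw [pow_one]))
  refine ⟨?_, hcyc⟩
  have hle : (commutator ↥(P : Subgroup G)).map (P : Subgroup G).subtype ≤ O := by
    rw [Subgroup.map_subtype_commutator, Subgroup.commutator_le]
    intro a ha c hc
    rw [← QuotientGroup.eq_one_iff]
    show π _ = 1
    rw [map_commutatorElement, commutatorElement_eq_one_iff_mul_comm]
    obtain ⟨t, ht⟩ := hcyc.exists_generator
    obtain ⟨i, hi⟩ := ht ⟨π a, Subgroup.mem_map_of_mem π ha⟩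
    obtain ⟨k, hk⟩ := ht ⟨π c, Subgroup.mem_map_of_mem π hc⟩
    have hi' : ((t : G ⧸ O) ^ i) = π a := congrArg Subtype.val hi
    have hk' : ((t : G ⧸ O) ^ k) = π c := congrArg Subtype.val hk
    rw [← hi', ← hk']
    exact (Commute.zpow_zpow_self (t : G ⧸ O) i k).eq
  haveI := hOp.isNilpotent
  set K := (commutator ↥(P : Subgroup G)).map (P : Subgroup G).subtype with hK
  have hsub : (K.subgroupOf O).IsSubnormal := CfsgLib.FGS.Subnormalizer.isSubnormal_of_isNilpotent _
  exact Subgroup.IsSubnormal.trans hle hsub hOn.isSubnormal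

end Cfsg.Agent.S4850
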