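import Cfsg.Statements.S4856
-- import your own Cfsg.Agent.* helpers here

import Cfsg.Agent.Characters.Orthogonality
set_option autoImplicit false
open Cfsg

namespace Cfsg.Agent.S4856

/-- For an element z of a finite group G, the number of pairs (x, y) of elements with x y x⁻¹ y⁻¹ = z equals the order of G times the sum over the irreducible characters χ of χ(z)/χ(1). -/
theorem result {G : Type*} [Group G] [Finite G] (z : G) : (Nat.card {xy : G × G // xy.1 * xy.2 * xy.1⁻¹ * xy.2⁻¹ = z} : ℂ) = (Nat.card G : ℂ) * ∑ᶠ χ : Cfsg.IrrCharacter G, (χ : G → ℂ) z / (χ : G → ℂ) 1 := by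
  
  classical
  haveI := Fintype.ofFinite G
  -- generalised orthogonality
  have hkey : ∀ χ : Cfsg.IrrCharacter G, ∑ x : G, (χ : G → ℂ) (x⁻¹ * z) * (χ : G → ℂ) x =
      (Nat.card G : ℂ) * ((χ : G → ℂ) z / (χ : G → ℂ) 1) := by
    intro χ
    obtain ⟨n, ρ, hρ, hχ⟩ := χ.2
    have hn : (Module.finrank ℂ (Fin n → ℂ) : ℂ) ≠ 0 :=
      Nat.cast_ne_zero.2 (CfsgLib.Characters.finrank_pos_of_isIrreducible ρ).ne'
    obtain ⟨c, hc⟩ := CfsgLib.Characters.schur_scalar ρ _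
      (CfsgLib.Characters.avgOp_comm (CfsgLib.Characters.isClassFunction_of_isIrr χ.2) ρ)
    have ht := CfsgLib.Characters.trace_avgOp (χ : G → ℂ) ρ
    rw [hc, map_smul, show (LinearMap.id : Module.End ℂ (Fin n → ℂ)) = 1 from rfl,
      LinearMap.trace_one, hχ, CfsgLib.Characters.classInner_isIrr_self χ.2, mul_one,
      smul_eq_mul] at ht
    have ht2 := congrArg (fun T => LinearMap.trace ℂ (Fin n → ℂ) (ρ z * T)) hc
    simp only [CfsgLib.Characters.avgOp, Finset.mul_sum, map_sum, mul_smul_comm, map_smul,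
      ← map_mul, smul_eq_mul] at ht2
    rw [show (LinearMap.id : Module.End ℂ (Fin n → ℂ)) = 1 from rfl, mul_one] at ht2
    have hz : ∀ g : G, LinearMap.trace ℂ (Fin n → ℂ) (ρ g) = (χ : G → ℂ) g := fun g => congrFun hχ g
    simp only [hz] at ht2
    have h1 : (χ : G → ℂ) 1 = (Module.finrank ℂ (Fin n → ℂ) : ℂ) := by
      rw [← hχ, Representation.char_one]
    have hsum : ∑ x : G, (χ : G → ℂ) (x⁻¹ * z) * (χ : G → ℂ) x = c * (χ : G → ℂ) z := by
      rw [← ht2]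
      refine Finset.sum_congr rfl fun x _ => ?_
      rw [mul_comm, CfsgLib.Characters.classFunction_mul_comm
        (CfsgLib.Characters.isClassFunction_of_isIrr χ.2) x⁻¹ z]
    rw [hsum, h1, ← ht]
    field_simp
  -- count, fixing the first entry
  have hpair : (Nat.card {xy : G × G // xy.1 * xy.2 * xy.1⁻¹ * xy.2⁻¹ = z} : ℂ) =
      ∑ x : G, (Nat.card {y : G // y * (x⁻¹ * z) * y⁻¹ = x⁻¹} : ℂ) := by
    rw [← Nat.cast_sum, Nat.cast_inj, ← Nat.card_sigma]
    refine Nat.card_congr ⟨fun p => ⟨p.1.1, p.1.2⁻¹, ?_⟩, fun q => ⟨(q.1, q.2.1⁻¹), ?_⟩,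
      fun p => by simp, fun q => by simp⟩
    · conv_rhs => rw [show p.1.1⁻¹ = p.1.2⁻¹ * (p.1.1⁻¹ * (p.1.1 * p.1.2 * p.1.1⁻¹ * p.1.2⁻¹)) *
        p.1.2⁻¹⁻¹ by group, p.2]
    · have h := q.2.2
      calc q.1 * q.2.1⁻¹ * q.1⁻¹ * q.2.1⁻¹⁻¹ = q.1 * q.2.1⁻¹ * (q.1⁻¹) * q.2.1 := by group
        _ = q.1 * q.2.1⁻¹ * (q.2.1 * (q.1⁻¹ * z) * q.2.1⁻¹) * q.2.1 := by rw [h]
        _ = z := by group
  rw [hpair, finsum_eq_sum_of_fintype, Finset.mul_sum,
    Finset.sum_congr rfl fun x _ => (CfsgLib.Characters.sum_irr_mul_conj (x⁻¹ * z) x⁻¹).symm,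
    Finset.sum_comm]
  refine Finset.sum_congr rfl fun χ _ => ?_
  rw [← hkey χ]
  refine Finset.sum_congr rfl fun x _ => ?_
  rw [← CfsgLib.Characters.character_inv (CfsgLib.Characters.isCharacter_of_isIrr χ.2), inv_inv]

end Cfsg.Agent.S4856
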