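import Cfsg.Statements.S4859
-- import your own Cfsg.Agent.* helpers here

import Cfsg.Agent.SquareRoots.Basic
import Cfsg.Agent.Characters.Linear
set_option autoImplicit false
open Cfsg

namespace Cfsg.Agent.S4859

/-- Let p be an odd prime, G a finite group and x an element of G whose order is a power of p (possibly 1) and whose centralizer has even order. Let y be a 2-element of the centralizer of x whose order is largest among the 2-elements of that centralizer. Then x * y is not a square in G, and some non-principal real-valued irreducible character of G does not vanish at x * y. -/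
theorem result {G : Type*} [Group G] [Finite G] (p : ℕ) [Fact p.Prime] (hp : p ≠ 2) (x : G) (hx : ∃ k : ℕ, orderOf x = p ^ k) (heven : Even (Nat.card (Subgroup.centralizer ({x} : Set G)))) (y : G) (hy : y ∈ Subgroup.centralizer ({x} : Set G)) (hy2 : ∃ k : ℕ, orderOf y = 2 ^ k) (hmax : ∀ z ∈ Subgroup.centralizer ({x} : Set G), (∃ k : ℕ, orderOf z = 2 ^ k) → orderOf z ≤ orderOf y) : (¬ ∃ u : G, u * u = x * y) ∧ ∃ χ : Cfsg.IrrCharacter G, ¬ ((χ : G → ℂ) = fun _ => (1 : ℂ)) ∧ (∀ g : G, ((χ : G → ℂ) g).im = 0) ∧ (χ : G → ℂ) (x * y) ≠ 0 := by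
  
  classical
  haveI := Fintype.ofFinite G
  obtain ⟨a, ha⟩ := hx
  obtain ⟨k, hk⟩ := hy2
  have hxy : Commute x y := (Subgroup.mem_centralizer_singleton_iff.1 hy).symm
  have hk1 : k ≠ 0 := by
    rintro rfl
    haveI : Fact (Nat.Prime 2) := ⟨Nat.prime_two⟩
    obtain ⟨z, hz⟩ := exists_prime_orderOf_dvd_card' 2 heven.two_dvd
    have := hmax z z.2 ⟨1, by rw [Subgroup.orderOf_coe, hz, pow_one]⟩
    rw [Subgroup.orderOf_coe, hz, hk] at this
    norm_num at this
  have hcop : Nat.Coprime (orderOf x) (orderOf y) := by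
    rw [ha, hk]
    exact Nat.Coprime.pow _ _ ((Nat.coprime_primes Fact.out Nat.prime_two).2 hp)
  have hns : ¬ ∃ u : G, u * u = x * y := by
    rintro ⟨u, hu⟩
    set o := orderOf x with ho
    have hw2 : u ^ o * u ^ o = y ^ o := by
      rw [← (Commute.refl u).mul_pow, hu, hxy.mul_pow, pow_orderOf_eq_one, one_mul]
    have hyo : orderOf (y ^ o) = 2 ^ k := by
      rw [Nat.Coprime.orderOf_pow hcop.symm, hk]
    have hwc : u ^ o ∈ Subgroup.centralizer ({x} : Set G) := by
      rw [Subgroup.mem_centralizer_singleton_iff]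
      -- `x` is a power of `x * y`
      obtain ⟨m, hm1, hm2⟩ := Nat.chineseRemainder hcop 1 0
      have hxm : (x * y) ^ m = x := by
        rw [hxy.mul_pow, orderOf_dvd_iff_pow_eq_one.1 ((Nat.modEq_zero_iff_dvd).1 hm2), mul_one,
          pow_eq_pow_iff_modEq.2 hm1, pow_one]
      have hc : Commute u x := by
        rw [← hxm, ← hu]
        exact ((Commute.refl u).mul_right (Commute.refl u)).pow_right m
      exact (hc.pow_left o).eq
    have hwo : orderOf (u ^ o) ∣ 2 ^ (k + 1) := by
      refine orderOf_dvd_of_pow_eq_one ?_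
      rw [pow_succ', pow_mul, sq, hw2, ← hyo, pow_orderOf_eq_one]
    obtain ⟨l, hl, hl'⟩ := (Nat.dvd_prime_pow Nat.prime_two).1 hwo
    have hle := hmax _ hwc ⟨l, hl'⟩
    rw [hl', hk, Nat.pow_le_pow_iff_right (by norm_num : 1 < 2)] at hle
    have hsmall : (u ^ o * u ^ o) ^ (2 ^ (k - 1)) = 1 := by
      rw [← sq, ← pow_mul, ← pow_succ', show k - 1 + 1 = k from by omega,
        orderOf_dvd_iff_pow_eq_one.1 (hl'.symm ▸ pow_dvd_pow 2 hle)]
    rw [hw2, ← orderOf_dvd_iff_pow_eq_one, hyo, Nat.pow_dvd_pow_iff_le_right (by norm_num)] at hsmall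
    omega
  refine ⟨hns, ?_⟩
  by_contra hne
  have hsum := CfsgLib.SquareRoots.card_sqrt_eq (x * y)
  haveI : IsEmpty {u : G // u * u = x * y} := ⟨fun u => hns ⟨u.1, u.2⟩⟩
  rw [Nat.card_of_isEmpty, Nat.cast_zero, Finset.sum_eq_single
    (⟨fun _ => 1, CfsgLib.Characters.isIrr_one⟩ : Cfsg.IrrCharacter G)] at hsum
  · simp [CfsgLib.SquareRoots.indicator, finsum_eq_sum_of_fintype] at hsum
  · intro χ _ hχ
    by_cases hr : ∀ g : G, ((χ : G → ℂ) g).im = 0
    · have : (χ : G → ℂ) (x * y) = 0 := by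
        by_contra h0
        exact hne ⟨χ, fun he => hχ (Subtype.ext he), hr, h0⟩
      rw [this, mul_zero]
    · rw [CfsgLib.SquareRoots.indicator_eq_zero_of_not_real χ.2 hr, zero_mul]
  · exact fun h => absurd (Finset.mem_univ _) h

end Cfsg.Agent.S4859
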