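import Cfsg.Statements.S4860
import Cfsg.Agent.BlockPairing.RegularInner
import Cfsg.Agent.BlocksLocal.Support
import Cfsg.Agent.SquareRoots.Basic
import Cfsg.Agent.RegularCount.Basic
import Cfsg.Agent.PrincipalBlock.Basic
import Cfsg.Agent.GaloisConj.Basic
-- import your own Cfsg.Agent.* helpers here

set_option autoImplicit false
open Cfsg

namespace Cfsg.Agent.S4860

open scoped ComplexConjugate
open CfsgLib

open CfsgLib CfsgLib.PrincipalBlock in
/-- The sum of the values on the p-regular elements. -/
noncomputable def regTot {G : Type*} [Group G] [Fintype G] (p : ℕ) (φ : G → ℂ) : ℂ :=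
  ∑ g : G, if p ∣ orderOf g then 0 else φ g


/-- Let G be a finite group, p an odd prime and M a maximal ideal of the algebraic integers containing p. If the principal p-block of G contains a non-principal real-valued irreducible character α, then it contains a non-principal real-valued irreducible character β different from α, and β may be chosen so that no field automorphism of ℂ carries α to β. -/
theorem result {G : Type*} [Group G] [Finite G] (p : ℕ) [Fact p.Prime] (hp : p ≠ 2) (M : Ideal Cfsg.AlgInt) (hM : Cfsg.IsPModular p M) (α : Cfsg.IrrCharacter G) (hα : α ∈ Cfsg.principalBlock M G) (hα1 : ¬ ((α : G → ℂ) = fun _ => (1 : ℂ))) (hαr : (∀ g : G, ((α : G → ℂ) g).im = 0)) : ∃ β : Cfsg.IrrCharacter G, β ∈ Cfsg.principalBlock M G ∧ ¬ ((β : G → ℂ) = fun _ => (1 : ℂ)) ∧ (∀ g : G, ((β : G → ℂ) g).im = 0) ∧ β ≠ α ∧ ∀ σ : ℂ ≃+* ℂ, (β : G → ℂ) ≠ (σ : ℂ → ℂ) ∘ (α : G → ℂ) := by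
  classical
  haveI : M.IsPrime := hM.2.1.isPrime
  letI : Fintype G := Fintype.ofFinite G
  have hpp : p.Prime := Fact.out
  by_contra hneg
  push Not at hneg
  set T : IrrCharacter G := PrincipalBlock.trivChar G with hT
  have hTa : ∀ g : G, (T : G → ℂ) g = 1 := fun g => PrincipalBlock.trivChar_apply g
  have hαT : α ≠ T := fun h => hα1 (by rw [h]; funext g; exact hTa g)
  -- the value on the p-regular elements is the regular inner product with the principal character
  have hF : ∀ χ : IrrCharacter G, BlockPairing.regInner p (χ : G → ℂ) (T : G → ℂ) =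
      (Nat.card G : ℂ)⁻¹ * regTot p (χ : G → ℂ) := by
    intro χ
    simp [BlockPairing.regInner, regTot, hTa]
  have hN : (Nat.card G : ℂ) ≠ 0 := Nat.cast_ne_zero.2 Nat.card_pos.ne'
  have hP : ((p ^ (Nat.card G).factorization p : ℕ) : ℂ) ≠ 0 :=
    Nat.cast_ne_zero.2 (pow_ne_zero _ hpp.ne_zero)
  have hfix : ∀ σ : ℂ ≃+* ℂ, σ (regTot p (α : G → ℂ)) = regTot p (α : G → ℂ) := by
    intro σ
    obtain ⟨z, hz⟩ := BlockPairing.exists_int_regInner p α T
    rw [hF] at hz
    have he : regTot p (α : G → ℂ) =
        (z : ℂ) * (Nat.card G : ℂ) / ((p ^ (Nat.card G).factorization p : ℕ) : ℂ) := by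
      rw [← hz]; field_simp
    rw [he, map_div₀, map_mul, map_intCast, map_natCast, map_natCast]
  -- outside the principal block the total vanishes
  have hout : ∀ χ : IrrCharacter G, χ ∉ Cfsg.principalBlock M G →
      regTot p (χ : G → ℂ) = 0 := by
    intro χ hχ
    have hns : ¬ Cfsg.SameBlock M (χ : G → ℂ) (T : G → ℂ) := by
      intro h
      refine hχ ?_
      have h' := (Blocks.sameBlock_iff χ T).1 h
      exact PrincipalBlock.mem_principalBlock_iff.2 h'
    have h0 := BlocksLocal.sum_regular_mul_conj_eq_zero hM hns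
    rw [finsum_mem_def, finsum_eq_sum_of_fintype] at h0
    rw [← h0, regTot]
    refine Finset.sum_congr rfl fun g _ => ?_
    rw [Set.indicator_apply, hTa, map_one, mul_one]
    by_cases hg : p ∣ orderOf g
    · rw [if_pos hg, if_neg (by simpa using hg)]
    · rw [if_neg hg, if_pos (by simpa using hg)]
  -- the number of regular elements
  set R : ℕ := Nat.card {g : G // ¬ p ∣ orderOf g} with hR
  have hRT : regTot p (T : G → ℂ) = (R : ℂ) := by
    rw [hR, Nat.card_eq_fintype_card, Fintype.card_subtype, regTot, Finset.card_filter,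
      Nat.cast_sum]
    refine Finset.sum_congr rfl fun g _ => ?_
    split_ifs <;> simp [hTa]
  -- square roots of regular elements
  have hroot : ∀ x : G, (p ∣ orderOf (x * x) ↔ p ∣ orderOf x) := by
    intro x
    constructor
    · intro h
      exact h.trans (orderOf_dvd_of_pow_eq_one (by
        rw [← pow_two, pow_right_comm, pow_orderOf_eq_one, one_pow]))
    · intro h
      have hx : x ^ (2 * orderOf (x * x)) = 1 := by
        rw [pow_mul, pow_two, pow_orderOf_eq_one]
      rcases hpp.dvd_mul.1 (h.trans (orderOf_dvd_of_pow_eq_one hx)) with h2 | h2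
      · exact absurd ((Nat.prime_dvd_prime_iff_eq hpp Nat.prime_two).1 h2) hp
      · exact h2
  have hcount : ∑ χ : IrrCharacter G, SquareRoots.indicator (χ : G → ℂ) *
      regTot p (χ : G → ℂ) = (R : ℂ) := by
    rw [← hRT]
    calc ∑ χ : IrrCharacter G, SquareRoots.indicator (χ : G → ℂ) * regTot p (χ : G → ℂ)
        = ∑ g : G, if p ∣ orderOf g then 0 else (Nat.card {x : G // x * x = g} : ℂ) := by
          simp only [regTot, Finset.mul_sum]
          rw [Finset.sum_comm]
          refine Finset.sum_congr rfl fun g _ => ?_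
          split_ifs with hg
          · simp
          · rw [SquareRoots.card_sqrt_eq]
      _ = ∑ g : G, ∑ x : G, if x * x = g then (if p ∣ orderOf g then 0 else (1 : ℂ)) else 0 := by
          refine Finset.sum_congr rfl fun g _ => ?_
          rw [← Finset.sum_filter, Finset.sum_const, Nat.card_eq_fintype_card,
            Fintype.card_subtype, nsmul_eq_mul]
          split_ifs <;> simp
      _ = ∑ x : G, if p ∣ orderOf (x * x) then 0 else (1 : ℂ) := by
          rw [Finset.sum_comm]
          exact Finset.sum_congr rfl fun x _ => by simp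
      _ = regTot p (T : G → ℂ) := by
          rw [regTot]
          exact Finset.sum_congr rfl fun x _ => by simp [hroot x, hTa]
  have hTind : SquareRoots.indicator (T : G → ℂ) = 1 := by
    rw [SquareRoots.indicator, finsum_eq_sum_of_fintype]
    simp [hTa, Nat.card_eq_fintype_card]
  set e : ℂ := SquareRoots.indicator (α : G → ℂ) with he
  have he0 : e ≠ 0 := by
    rcases SquareRoots.indicator_of_real α.2 hαr with h | h <;> simp [e, h]
  -- every real member of the block other than the principal one is a conjugate of alpha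
  set B : Finset (IrrCharacter G) := Finset.univ.filter fun χ =>
    χ ∈ Cfsg.principalBlock M G ∧ χ ≠ T ∧ ∀ g : G, ((χ : G → ℂ) g).im = 0 with hB
  have hterm : ∀ χ ∈ B, SquareRoots.indicator (χ : G → ℂ) * regTot p (χ : G → ℂ) =
      e * regTot p (α : G → ℂ) := by
    intro χ hχ
    obtain ⟨hχB, hχT, hχr⟩ := (Finset.mem_filter.1 hχ).2
    by_cases hχα : χ = α
    · rw [hχα]
    obtain ⟨σ, hσ⟩ := hneg χ hχB
      (fun h => hχT (Subtype.ext (h.trans (funext fun g => (hTa g).symm)))) hχr hχα
    have h1 : regTot p (χ : G → ℂ) = regTot p (α : G → ℂ) := by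
      rw [← hfix σ, regTot, regTot, map_sum]
      refine Finset.sum_congr rfl fun g _ => ?_
      split_ifs <;> simp [hσ]
    have h2 : SquareRoots.indicator (χ : G → ℂ) = σ e := by
      rw [he, SquareRoots.indicator, SquareRoots.indicator, finsum_eq_sum_of_fintype,
        finsum_eq_sum_of_fintype, map_mul, map_inv₀, map_natCast, map_sum, hσ]
      rfl
    have h3 : σ e = e := by
      rcases SquareRoots.indicator_of_real α.2 hαr with h | h <;> simp [e, h]
    rw [h1, h2, h3]
  have hαB : α ∈ B := Finset.mem_filter.2 ⟨Finset.mem_univ _, hα, hαT, hαr⟩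
  have hsplit : ∑ χ : IrrCharacter G, SquareRoots.indicator (χ : G → ℂ) *
      regTot p (χ : G → ℂ) = (R : ℂ) + (B.card : ℂ) * (e * regTot p (α : G → ℂ)) := by
    rw [← Finset.add_sum_erase _ _ (Finset.mem_univ T), hTind, one_mul, hRT]
    congr 1
    rw [← nsmul_eq_mul, ← Finset.sum_const, ← Finset.sum_congr rfl hterm]
    refine (Finset.sum_subset (fun χ hχ => Finset.mem_erase.2
      ⟨((Finset.mem_filter.1 hχ).2).2.1, Finset.mem_univ _⟩) fun χ hχ hχB => ?_).symm
    by_cases h1 : χ ∈ Cfsg.principalBlock M G
    · have h2 : ¬ ∀ g : G, ((χ : G → ℂ) g).im = 0 := fun h2 =>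
        hχB (Finset.mem_filter.2 ⟨Finset.mem_univ _, h1, (Finset.mem_erase.1 hχ).1, h2⟩)
      rw [SquareRoots.indicator_eq_zero_of_not_real χ.2 h2, zero_mul]
    · rw [hout χ h1, mul_zero]
  have hzero : regTot p (α : G → ℂ) = 0 := by
    have h := hsplit.symm.trans hcount
    rw [add_eq_left, mul_eq_zero, mul_eq_zero] at h
    exact (h.resolve_left (Nat.cast_ne_zero.2 (Finset.card_ne_zero_of_mem hαB))).resolve_left he0
  -- congruence of the central characters
  have hsame : Cfsg.SameBlock M (T : G → ℂ) (α : G → ℂ) := by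
    have hTf : (T : G → ℂ) = fun _ => 1 := funext hTa
    rw [hTf]
    exact hα
  have hI := BlockPairing.memLocalIdeal_regSum_sub (M := M) p hsame T
  have e1 : ∀ χ : IrrCharacter G, BlockPairing.regSum p (χ : G → ℂ) (T : G → ℂ) =
      regTot p (χ : G → ℂ) / (χ : G → ℂ) 1 := by
    intro χ
    rw [BlockPairing.regSum, regTot, Finset.sum_div]
    refine Finset.sum_congr rfl fun g _ => ?_
    split_ifs <;> simp [hTa]
  rw [e1, e1, hzero, zero_div, sub_zero, hRT, hTa, div_one] at hI
  exact RegularCount.not_dvd_card_regular (p := p) G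
    ((Blocks.memLocalIdeal_natCast_iff hM R).1 hI)

end Cfsg.Agent.S4860
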