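import Cfsg.Statements.S4864
-- import your own Cfsg.Agent.* helpers here

import Cfsg.Agent.RealPDegree.Correspondence

set_option autoImplicit false
open Cfsg

namespace Cfsg.Agent.S4864

theorem odd_index_pGen (G : Type*) [Group G] [Finite G] :
    Odd (CfsgLib.RealPDegree.pGen 2 G).index := by
  haveI : Fact (Nat.Prime 2) := ⟨Nat.prime_two⟩
  rw [← Nat.not_even_iff_odd, even_iff_two_dvd]
  exact CfsgLib.RealPDegree.not_dvd_index_pGen 2

theorem inf_pGen_normal {G : Type*} [Group G] [Finite G] (p : ℕ) [Fact p.Prime]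
    (hsolv : Group.IsSolvable (CfsgLib.RealPDegree.pGen p G))
    (hreal : CfsgLib.RealPDegree.RealPrime p G) (P : Sylow p G) :
    ((P : Subgroup G) ⊓ CfsgLib.RealPDegree.pGen 2 G).Normal :=
  CfsgLib.RealPDegree.normal_aux p (Nat.card G) G le_rfl hsolv hreal _
    (CfsgLib.RealPDegree.pGen_normal 2) le_rfl ⟨0, by rw [pow_zero, Subgroup.relIndex_self]⟩ _
    inf_le_right (P.2.to_le inf_le_left) (CfsgLib.RealPDegree.relIndex_inf_sylow _ P)

/-- Let p be a prime and G a finite group such that the subgroup generated by the p-elements of G is solvable and every real-valued irreducible complex character of G has degree prime to p. Then the normalizer of a Sylow p-subgroup of G contains an element of every real conjugacy class of G: every element conjugate to its inverse is conjugate to an element of that normalizer. -/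
theorem result {G : Type*} [Group G] [Finite G] (p : ℕ) [Fact p.Prime] (hsolv : Group.IsSolvable ↥(Subgroup.closure {g : G | ∃ k : ℕ, orderOf g = p ^ k})) (hreal : ∀ χ : Cfsg.IrrCharacter G, (∀ g : G, ((χ : G → ℂ) g).im = 0) → ¬ p ∣ Cfsg.charDegree (χ : G → ℂ)) (P : Sylow p G) (x : G) (hx : IsConj x x⁻¹) : ∃ y ∈ Subgroup.normalizer ((P : Subgroup G) : Set G), IsConj x y := by
  classical
  have hL := inf_pGen_normal p hsolv hreal P
  have hodd := odd_index_pGen G
  -- `x` lies in `K` and is real there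
  obtain ⟨h₀, hh₀⟩ := isConj_iff.1 hx
  obtain ⟨a, m, hm, hord⟩ := Nat.exists_eq_two_pow_mul_odd (orderOf_pos h₀).ne'
  have hev : ∀ j : ℕ, h₀ ^ (2 * j) * x * (h₀ ^ (2 * j))⁻¹ = x := by
    intro j
    induction j with
    | zero => simp
    | succ j ih =>
      calc h₀ ^ (2 * (j + 1)) * x * (h₀ ^ (2 * (j + 1)))⁻¹
          = h₀ * (h₀ * (h₀ ^ (2 * j) * x * (h₀ ^ (2 * j))⁻¹) * h₀⁻¹) * h₀⁻¹ := by
            rw [show 2 * (j + 1) = 2 * j + 1 + 1 by ring, pow_succ', pow_succ']; group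
        _ = x := by rw [ih, hh₀, ← conj_inv, hh₀, inv_inv]
  have hh : h₀ ^ m * x * (h₀ ^ m)⁻¹ = x⁻¹ := by
    obtain ⟨j, rfl⟩ := hm
    calc h₀ ^ (2 * j + 1) * x * (h₀ ^ (2 * j + 1))⁻¹
        = h₀ * (h₀ ^ (2 * j) * x * (h₀ ^ (2 * j))⁻¹) * h₀⁻¹ := by rw [pow_succ']; group
      _ = x⁻¹ := by rw [hev, hh₀]
  have hhK : h₀ ^ m ∈ CfsgLib.RealPDegree.pGen 2 G := Subgroup.subset_closure ⟨a, by
    rw [orderOf_pow_of_dvd hm.pos.ne' (hord ▸ dvd_mul_left m _), hord,
      Nat.mul_div_cancel _ hm.pos]⟩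
  have hx2 : x * x ∈ CfsgLib.RealPDegree.pGen 2 G := by
    have h1 := (CfsgLib.RealPDegree.pGen 2 G).mul_mem
      ((CfsgLib.RealPDegree.pGen_normal 2).conj_mem _ hhK x)
      ((CfsgLib.RealPDegree.pGen 2 G).inv_mem hhK)
    have h2 : x * h₀ ^ m * x⁻¹ * (h₀ ^ m)⁻¹ = x * x := by
      calc x * h₀ ^ m * x⁻¹ * (h₀ ^ m)⁻¹ = x * (h₀ ^ m * x * (h₀ ^ m)⁻¹)⁻¹ := by group
        _ = x * x := by rw [hh, inv_inv]
    rwa [h2] at h1
  have hxK : x ∈ CfsgLib.RealPDegree.pGen 2 G := by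
    rw [← QuotientGroup.eq_one_iff, ← orderOf_eq_one_iff]
    refine Nat.eq_one_of_dvd_coprimes (Nat.coprime_two_left.2 hodd) ?_ ?_
    · exact orderOf_dvd_of_pow_eq_one (by
        rw [← QuotientGroup.mk_pow, QuotientGroup.eq_one_iff, pow_two]; exact hx2)
    · rw [Subgroup.index]; exact orderOf_dvd_natCard _
  -- the quotient by the normal `p`-subgroup
  haveI := hL
  let π := QuotientGroup.mk' ((P : Subgroup G) ⊓ CfsgLib.RealPDegree.pGen 2 G)
  have hπ : Function.Surjective π := QuotientGroup.mk'_surjective _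
  haveI : ((CfsgLib.RealPDegree.pGen 2 G).map π).Normal :=
    (CfsgLib.RealPDegree.pGen_normal 2).map π hπ
  have hKp : ¬ p ∣ Nat.card ((CfsgLib.RealPDegree.pGen 2 G).map π) := by
    rw [← Subgroup.relIndex_bot_left,
      ← (Subgroup.map_eq_bot_iff _).2 (le_of_eq (QuotientGroup.ker_mk' _).symm),
      Subgroup.relIndex_map_map, QuotientGroup.ker_mk', sup_idem, sup_eq_left.2 inf_le_right]
    exact CfsgLib.RealPDegree.relIndex_inf_sylow _ P
  obtain ⟨g', hg'⟩ := CfsgLib.RealPDegree.exists_conj_normalizer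
    ((CfsgLib.RealPDegree.pGen 2 G).map π) (P.mapSurjective hπ)
    (CfsgLib.RealPDegree.RealPrime.map hπ hreal)
    (hodd.of_dvd_nat (Subgroup.index_map_dvd _ hπ)) hKp
    (x := ⟨π x, Subgroup.mem_map_of_mem π hxK⟩)
    (isConj_iff.2 ⟨⟨π (h₀ ^ m), Subgroup.mem_map_of_mem π hhK⟩, Subtype.ext (by
      show π (h₀ ^ m) * π x * (π (h₀ ^ m))⁻¹ = (π x)⁻¹
      rw [← map_inv, ← map_mul, ← map_mul, hh, map_inv])⟩)
  obtain ⟨g, rfl⟩ := hπ g'
  obtain ⟨k, hk, hkN⟩ := CfsgLib.BlocksCharsC.exists_normalizer_lift P π (x := g * x * g⁻¹) (by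
    rw [map_mul, map_mul, map_inv]
    exact hg')
  rw [QuotientGroup.ker_mk'] at hk
  refine ⟨g * x * g⁻¹, ?_, isConj_iff.2 ⟨g, rfl⟩⟩
  have := Subgroup.mul_mem _ (Subgroup.inv_mem _ (Subgroup.le_normalizer hk.1)) hkN
  rwa [inv_mul_cancel_left] at this

end Cfsg.Agent.S4864
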