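import Cfsg.Statements.S4865
-- import your own Cfsg.Agent.* helpers here

import Cfsg.Agent.RealPDegree.Correspondence

set_option autoImplicit false
open Cfsg

namespace Cfsg.Agent.S4865

theorem odd_index_pGen (G : Type*) [Group G] [Finite G] :
    Odd (CfsgLib.RealPDegree.pGen 2 G).index := by
  haveI : Fact (Nat.Prime 2) := ⟨Nat.prime_two⟩
  rw [← Nat.not_even_iff_odd, even_iff_two_dvd]
  exact CfsgLib.RealPDegree.not_dvd_index_pGen 2

theorem inf_pGen_normal {G : Type*} [Group G] [Finite G] (p : ℕ) [Fact p.Prime]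
    (hsolv : Group.IsSolvable (CfsgLib.RealPDegree.pGen p G))
    (hreal : CfsgLib.RealPDegree.RealPrime p G) (P : Sylow p G) :
    ((P : Subgroup G) ⊓ CfsgLib.RealPDegree.pGen 2 G).Normal :=
  CfsgLib.RealPDegree.normal_aux p (Nat.card G) G le_rfl hsolv hreal _
    (CfsgLib.RealPDegree.pGen_normal 2) le_rfl ⟨0, by rw [pow_zero, Subgroup.relIndex_self]⟩ _
    inf_le_right (P.2.to_le inf_le_left) (CfsgLib.RealPDegree.relIndex_inf_sylow _ P)

/-- Let p be a prime and G a finite group such that the subgroup generated by the p-elements of G is solvable and every real-valued irreducible complex character of G has degree prime to p. Let N be the normalizer of a Sylow p-subgroup of G. Then there is a bijection from the real-valued irreducible characters of G onto the real-valued irreducible characters of N of degree prime to p under which corresponding degrees are congruent modulo p up to sign. -/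
theorem result {G : Type*} [Group G] [Finite G] (p : ℕ) [Fact p.Prime] (hsolv : Group.IsSolvable ↥(Subgroup.closure {g : G | ∃ k : ℕ, orderOf g = p ^ k})) (hreal : ∀ χ : Cfsg.IrrCharacter G, (∀ g : G, ((χ : G → ℂ) g).im = 0) → ¬ p ∣ Cfsg.charDegree (χ : G → ℂ)) (P : Sylow p G) : ∃ f : {χ : Cfsg.IrrCharacter G // ∀ g : G, ((χ : G → ℂ) g).im = 0} → {ξ : Cfsg.IrrCharacter ↥(Subgroup.normalizer ((P : Subgroup G) : Set G)) // (∀ n, ((ξ : ↥(Subgroup.normalizer ((P : Subgroup G) : Set G)) → ℂ) n).im = 0) ∧ ¬ p ∣ Cfsg.charDegree (ξ : ↥(Subgroup.normalizer ((P : Subgroup G) : Set G)) → ℂ)}, Function.Bijective f ∧ ∀ χ, ((Cfsg.charDegree ((f χ).1 : ↥(Subgroup.normalizer ((P : Subgroup G) : Set G)) → ℂ) : ZMod p) = (Cfsg.charDegree (χ.1 : G → ℂ) : ZMod p) ∨ (Cfsg.charDegree ((f χ).1 : ↥(Subgroup.normalizer ((P : Subgroup G) : Set G)) → ℂ) : ZMod p) = -(Cfsg.charDegree (χ.1 : G → ℂ) : ZMod p)) := by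
  exact CfsgLib.RealPDegree.exists_correspondence (CfsgLib.RealPDegree.pGen 2 G) P hreal
    (odd_index_pGen G) (inf_pGen_normal p hsolv hreal P)

end Cfsg.Agent.S4865
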