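import Cfsg.Statements.S4870
-- import your own Cfsg.Agent.* helpers here

import Cfsg.Agent.OddOrderChar.Clifford
import Cfsg.Agent.Characters.Linear
import Cfsg.Agent.Characters.Classes
import Cfsg.Agent.Characters.Induction
set_option autoImplicit false
open Cfsg

namespace Cfsg.Agent.S4870

/-- Let G be a finite group with a non-abelian minimal normal subgroup N, and let φ be an irreducible complex character of N with stabilizer I in G (the elements g with φ(g n g⁻¹) = φ(n) for all n ∈ N) such that φ extends to an irreducible character of I. Put d = φ(1)·[G : I]. Then the number of linear characters of G is at most [G : I] times the number of irreducible characters of G of degree d. -/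
theorem result {G : Type*} [Group G] [Finite G] (N : Subgroup G) (hN : N.Normal) (hN1 : N ≠ ⊥) (hmin : ∀ M : Subgroup G, M.Normal → M ≤ N → M = ⊥ ∨ M = N) (hna : ¬ IsMulCommutative ↥N) (φ : Cfsg.IrrCharacter ↥N) (I : Subgroup G) (hI : ∀ g : G, g ∈ I ↔ ∀ n n' : ↥N, (n' : G) = g * (n : G) * g⁻¹ → (φ : ↥N → ℂ) n' = (φ : ↥N → ℂ) n) (hNI : N ≤ I) (hext : ∃ ψ : Cfsg.IrrCharacter ↥I, ∀ n : ↥N, (ψ : ↥I → ℂ) (Subgroup.inclusion hNI n) = (φ : ↥N → ℂ) n) : Nat.card {χ : Cfsg.IrrCharacter G // Cfsg.charDegree (χ : G → ℂ) = 1} ≤ I.index * Nat.card {χ : Cfsg.IrrCharacter G // Cfsg.charDegree (χ : G → ℂ) = Cfsg.charDegree (φ : ↥N → ℂ) * I.index} := by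
  
  classical
  haveI := hN
  haveI := Fintype.ofFinite G
  haveI := Fintype.ofFinite N
  haveI := Fintype.ofFinite I
  haveI := Fintype.ofFinite (N.subgroupOf I)
  obtain ⟨ψ, hψ⟩ := hext
  have hψ' : ∀ n : N, (ψ : I → ℂ) ⟨n, hNI n.2⟩ = (φ : N → ℂ) n := hψ
  have hT : ∀ g : G, g ∈ I ↔ CfsgLib.OddOrderChar.conjBy N (φ : N → ℂ) g = φ := fun g => by
    rw [hI, funext_iff]
    refine ⟨fun h n => h n _ rfl, fun h n n' hn => ?_⟩
    rw [show n' = ⟨g * n * g⁻¹, hN.conj_mem n n.2 g⟩ from Subtype.ext hn]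
    exact h n
  -- linear characters are trivial on `N`
  have hperf : N ≤ commutator G := by
    have hle : ⁅N, N⁆ ≤ N := Subgroup.commutator_le_left N N
    have hne : ⁅N, N⁆ ≠ ⊥ := by
      intro h
      refine hna ⟨⟨fun a b => Subtype.ext ?_⟩⟩
      exact (Subgroup.mem_centralizer_iff.1 (Subgroup.commutator_eq_bot_iff_le_centralizer.1 h a.2)
        b b.2).symm
    have := (hmin _ inferInstance hle).resolve_left hne
    rw [← this]
    exact Subgroup.commutator_mono le_top le_top
  have hlinN : ∀ f : G →* ℂˣ, ∀ n : N, f n = 1 := fun f n =>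
    MonoidHom.mem_ker.1 (Abelianization.commutator_subset_ker f (hperf n.2))
  -- twists of the extension
  have htwistN : ∀ (f : G →* ℂˣ) (n : N),
      (fun i : I => (ψ : I → ℂ) i * (f i : ℂ)) ⟨n, hNI n.2⟩ = (φ : N → ℂ) n := fun f n => by
    show (ψ : I → ℂ) ⟨n, hNI n.2⟩ * (f (n : G) : ℂ) = _
    rw [hlinN f n, Units.val_one, mul_one, hψ']
  have htwist : ∀ f : G →* ℂˣ, Cfsg.IsIrrCharacter I (fun i => (ψ : I → ℂ) i * (f i : ℂ)) := fun f => by
    refine CfsgLib.Characters.isIrr_of_classInner_self (CfsgLib.Characters.isCharacter_mul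
      (CfsgLib.Characters.isCharacter_of_isIrr ψ.2) (CfsgLib.Characters.isCharacter_of_isIrr
        (CfsgLib.Characters.isIrr_linChar (f.comp I.subtype)))) ?_
    rw [← CfsgLib.Characters.classInner_isIrr_self ψ.2, Cfsg.classInner, Cfsg.classInner]
    congr 1
    refine Finset.sum_congr rfl fun i _ => ?_
    have hf1 : ((f i : ℂˣ) : ℂ) * (starRingEnd ℂ) ((f i : ℂˣ) : ℂ) = 1 := by
      rw [Complex.mul_conj', Complex.norm_eq_one_of_pow_eq_one (n := Nat.card G) (by
        rw [← Units.val_pow_eq_pow_val, ← map_pow, pow_card_eq_one', map_one, Units.val_one])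
        Nat.card_pos.ne']
      norm_num
    rw [map_mul, mul_mul_mul_comm]
    show _ * (((f i : ℂˣ) : ℂ) * (starRingEnd ℂ) ((f i : ℂˣ) : ℂ)) = _
    rw [hf1, mul_one]
  have hne : ∀ f : G →* ℂˣ, Cfsg.classInner
      (fun x : N.subgroupOf I => (ψ : I → ℂ) (x : I) * (f (x : I) : ℂ))
      (CfsgLib.OddOrderChar.onSubgroupOf N I (φ : N → ℂ)) ≠ 0 := fun f => by
    have he : (fun x : N.subgroupOf I => (ψ : I → ℂ) (x : I) * (f (x : I) : ℂ)) =
        CfsgLib.OddOrderChar.onSubgroupOf N I (φ : N → ℂ) :=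
      funext fun x => htwistN f ⟨((x : I) : G), Subgroup.mem_subgroupOf.1 x.2⟩
    rw [he, CfsgLib.OddOrderChar.classInner_onSubgroupOf N I hNI,
      CfsgLib.Characters.classInner_isIrr_self φ.2]
    exact one_ne_zero
  let Φ : (G →* ℂˣ) → {χ : Cfsg.IrrCharacter G //
      Cfsg.charDegree (χ : G → ℂ) = Cfsg.charDegree (φ : N → ℂ) * I.index} := fun f =>
    ⟨⟨Cfsg.indFun I (fun i => (ψ : I → ℂ) i * (f i : ℂ)),
      (CfsgLib.OddOrderChar.clifford_correspondence N I φ.2 hT (htwist f) (hne f)).1⟩, by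
      obtain ⟨d, hd⟩ := CfsgLib.Characters.exists_degree
        (CfsgLib.Characters.isCharacter_of_isIrr φ.2)
      have h1 : (ψ : I → ℂ) 1 * (f ((1 : I) : G) : ℂ) = (φ : N → ℂ) 1 := htwistN f 1
      simp only [Cfsg.charDegree, CfsgLib.Characters.indFun_one, h1, hd]
      rw [← Nat.cast_mul, Complex.natCast_re, Complex.natCast_re, Nat.floor_natCast,
        Nat.floor_natCast, Nat.mul_comm]⟩
  -- twisting by distinct characters of `I` gives distinct characters
  have hΦ : ∀ f f' : G →* ℂˣ, Φ f = Φ f' → ∀ i : I, f i = f' i := by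
    intro f f' h
    have h' : Cfsg.indFun I (fun i => (ψ : I → ℂ) i * (f i : ℂ)) =
        Cfsg.indFun I (fun i => (ψ : I → ℂ) i * (f' i : ℂ)) :=
      congrArg (fun χ => (χ.1 : G → ℂ)) h
    have heq := (CfsgLib.OddOrderChar.clifford_correspondence N I φ.2 hT (htwist f') (hne f')).2.2
      _ (htwist f) (hne f) h'
    let ν : I →* ℂˣ := (f / f').comp I.subtype
    have hν : ∀ i : I, (ψ : I → ℂ) i * (ν i : ℂ) = (ψ : I → ℂ) i := fun i => by
      have h1 := congrFun heq i
      have h2 : (ν i : ℂ) = (f i : ℂ) / (f' i : ℂ) := by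
        simp [ν, div_eq_mul_inv]
      rw [h2, ← mul_div_assoc, h1, mul_div_assoc, div_self (Units.ne_zero _), mul_one]
    suffices ν = 1 by
      intro i
      have hi := DFunLike.congr_fun this i
      simpa [ν, div_eq_one] using hi
    -- `ψ` is irreducible on `ker ν` and vanishes outside it
    let K := ν.ker
    haveI := Fintype.ofFinite K
    have hKN : ∀ n : N, (⟨n, hNI n.2⟩ : I) ∈ K := fun n => MonoidHom.mem_ker.2 (by
      show (f / f') (n : G) = 1
      simp [hlinN f n, hlinN f' n])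
    obtain ⟨k, ρ, hρ, hρψ⟩ := ψ.2
    let ρN : Representation ℂ N (Fin k → ℂ) := ρ.comp (Subgroup.inclusion hNI)
    have hρN : ρN.IsIrreducible := by
      refine (CfsgLib.Characters.isIrreducible_iff_classInner ρN).2 ?_
      have : ρN.character = (φ : N → ℂ) := funext fun n => by
        rw [← hψ' n, ← hρψ]; rfl
      rw [this, CfsgLib.Characters.classInner_isIrr_self φ.2]
    let ρK : Representation ℂ K (Fin k → ℂ) := ρ.comp K.subtype
    haveI := CfsgLib.Characters.nontrivial_of_isIrreducible ρ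
    have hρK : ρK.IsIrreducible := by
      refine CfsgLib.Characters.isIrreducible_of_forall _ fun U hU => ?_
      exact (IsSimpleOrder.eq_bot_or_eq_top (α := Subrepresentation ρN)
        ⟨U, fun n x hx => hU ⟨_, hKN n⟩ x hx⟩).imp
        (congrArg Subrepresentation.toSubmodule) (congrArg Subrepresentation.toSubmodule)
    have hK := CfsgLib.Characters.classInner_isIrr_self
      (CfsgLib.Characters.isIrrCharacter_character ρK)
    have hI1 := CfsgLib.Characters.classInner_isIrr_self ψ.2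
    have hvan : ∀ i : I, i ∉ K → (ψ : I → ℂ) i = 0 := fun i hi => by
      by_contra h0
      refine hi (MonoidHom.mem_ker.2 (Units.ext ?_))
      exact mul_left_cancel₀ h0 ((hν i).trans (mul_one _).symm)
    have hsum : ∑ i : I, (ψ : I → ℂ) i * (starRingEnd ℂ) ((ψ : I → ℂ) i) =
        ∑ i : K, ρK.character i * (starRingEnd ℂ) (ρK.character i) := by
      have hval : ∀ i : K, ρK.character i = (ψ : I → ℂ) i := fun i => congrFun hρψ (i : I)
      simp only [hval]
      rw [← Finset.sum_subtype (Finset.univ.filter (· ∈ K)) (fun i => by simp)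
        (fun i => (ψ : I → ℂ) i * (starRingEnd ℂ) ((ψ : I → ℂ) i)), Finset.sum_filter]
      refine Finset.sum_congr rfl fun i _ => ?_
      split_ifs with hi
      · rfl
      · rw [hvan i hi, zero_mul]
    rw [Cfsg.classInner, inv_mul_eq_iff_eq_mul₀ CfsgLib.Characters.natCard_ne_zero, mul_one]
      at hK hI1
    rw [hsum, hK, Nat.cast_inj] at hI1
    refine MonoidHom.ext fun i => MonoidHom.mem_ker.1 ?_
    show i ∈ K
    rw [Subgroup.eq_top_of_card_eq K hI1]
    exact Subgroup.mem_top i
  -- homomorphisms trivial on `I`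
  let L := {f : G →* ℂˣ // ∀ i : I, f i = 1}
  have hlift : ∀ f : L, ∀ a b : G, a⁻¹ * b ∈ I → (f.1 a : ℂ) = f.1 b := fun f a b h => by
    have h1 := f.2 ⟨_, h⟩
    rw [map_mul, map_inv, inv_mul_eq_one] at h1
    rw [h1]
  let F : L → (G ⧸ I) → ℂ := fun f q =>
    Quotient.liftOn' q (fun g => (f.1 g : ℂ))
      (fun a b h => hlift f a b (QuotientGroup.leftRel_apply.1 h))
  haveI : Finite (G →* ℂˣ) := by
    haveI : Finite {χ : Cfsg.IrrCharacter G // (χ : G → ℂ) 1 = 1} := inferInstance
    exact Finite.of_equiv _ CfsgLib.Characters.linearCharEquiv.symm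
  haveI : Fintype L := Fintype.ofFinite L
  haveI : Fintype (G ⧸ I) := Fintype.ofFinite _
  have hLI : LinearIndependent ℂ F := by
    have hinj : Function.Injective (fun f : L => (Units.coeHom ℂ).comp f.1) := fun a b h =>
      Subtype.ext (MonoidHom.ext fun g => Units.ext (DFunLike.congr_fun h g))
    refine LinearIndependent.of_comp (LinearMap.funLeft ℂ ℂ (QuotientGroup.mk : G → G ⧸ I)) ?_
    exact (linearIndependent_monoidHom G ℂ).comp _ hinj
  have hL : Nat.card L ≤ I.index := by
    have h := hLI.fintype_card_le_finrank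
    rw [Module.finrank_fintype_fun_eq_card, ← Nat.card_eq_fintype_card,
      ← Nat.card_eq_fintype_card] at h
    exact h
  -- count
  have hn1 : Nat.card {χ : Cfsg.IrrCharacter G // Cfsg.charDegree (χ : G → ℂ) = 1} =
      Nat.card (G →* ℂˣ) := by
    rw [Nat.card_congr (CfsgLib.Characters.linearCharEquiv (G := G))]
    refine Nat.card_congr (Equiv.subtypeEquivRight fun χ => ?_)
    obtain ⟨d, hd⟩ := CfsgLib.Characters.exists_degree
      (CfsgLib.Characters.isCharacter_of_isIrr χ.2)
    rw [Cfsg.charDegree, hd, Complex.natCast_re, Nat.floor_natCast, Nat.cast_eq_one]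
  rw [hn1]
  haveI : Fintype (G →* ℂˣ) := Fintype.ofFinite _
  haveI : Fintype {χ : Cfsg.IrrCharacter G //
      Cfsg.charDegree (χ : G → ℂ) = Cfsg.charDegree (φ : N → ℂ) * I.index} := Fintype.ofFinite _
  rw [Nat.card_eq_fintype_card, ← Finset.card_univ, Nat.card_eq_fintype_card, ← Finset.card_univ]
  refine Finset.card_le_mul_card_image_of_maps_to (f := Φ) (fun f _ => Finset.mem_univ _) _
    fun χ _ => ?_
  rcases (Finset.univ.filter fun f => Φ f = χ).eq_empty_or_nonempty with he | ⟨f₀, hf₀⟩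
  · rw [he]; exact Nat.zero_le _
  refine le_trans ?_ hL
  rw [Nat.card_eq_fintype_card, ← Finset.card_univ]
  refine Finset.card_le_card_of_injOn (fun f => if h : ∀ i : I, (f / f₀) i = 1 then ⟨f / f₀, h⟩
    else ⟨1, fun _ => rfl⟩) (fun f _ => Finset.mem_univ _) ?_
  intro a ha b hb hab
  have hmem : ∀ c ∈ Finset.univ.filter (fun f => Φ f = χ), ∀ i : I, (c / f₀) i = 1 := fun c hc i => by
    have := hΦ c f₀ ((Finset.mem_filter.1 hc).2.trans (Finset.mem_filter.1 hf₀).2.symm) i
    rw [MonoidHom.div_apply, this, div_self']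
  simp only [dif_pos (hmem a ha), dif_pos (hmem b hb)] at hab
  exact div_left_injective (congrArg Subtype.val hab)

end Cfsg.Agent.S4870
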