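import Cfsg.Statements.S4871
-- import your own Cfsg.Agent.* helpers here

import Cfsg.Agent.OddOrderChar.Clifford
import Cfsg.Agent.Characters.Linear
import Cfsg.Agent.Characters.Induction
import Mathlib.GroupTheory.FiniteAbelian.Duality
set_option autoImplicit false
set_option linter.style.haveILetI false
open Cfsg

namespace Cfsg.Agent.S4871

/-- Let G be a finite group that is the semidirect product of a normal elementary abelian subgroup N of odd order by a non-trivial 2-subgroup P, with N the unique minimal normal subgroup of G. Consider the strongly real irreducible complex characters of G (Frobenius–Schur indicator +1) whose degree is 1 or even. Then their average degree is at least 4/3: four times their number is at most three times the sum of their degrees. -/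
theorem result {G : Type*} [Group G] [Finite G] (N P : Subgroup G) (hN : N.Normal) (q : ℕ) [Fact q.Prime] (hq : q ≠ 2) (hNel : Cfsg.IsElementaryAbelian q N) (hP : IsPGroup 2 ↥P) (hP1 : P ≠ ⊥) (hdisj : N ⊓ P = ⊥) (hprod : N ⊔ P = ⊤) (hmin : N ≠ ⊥ ∧ ∀ M : Subgroup G, M.Normal → M ≠ ⊥ → N ≤ M) : 4 * Nat.card {χ : Cfsg.IrrCharacter G // (Cfsg.charDegree (χ : G → ℂ) = 1 ∨ 2 ∣ Cfsg.charDegree (χ : G → ℂ)) ∧ (Nat.card G : ℂ)⁻¹ * ∑ᶠ g : G, (χ : G → ℂ) (g * g) = 1} ≤ 3 * (∑ᶠ χ : {χ : Cfsg.IrrCharacter G // (Cfsg.charDegree (χ : G → ℂ) = 1 ∨ 2 ∣ Cfsg.charDegree (χ : G → ℂ)) ∧ (Nat.card G : ℂ)⁻¹ * ∑ᶠ g : G, (χ : G → ℂ) (g * g) = 1}, Cfsg.charDegree (χ.1 : G → ℂ)) := by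
  
  classical
  haveI := hN
  haveI := Fintype.ofFinite G
  haveI := Fintype.ofFinite N
  haveI : Fact (Nat.Prime 2) := ⟨Nat.prime_two⟩
  obtain ⟨hNc, hNq⟩ := hNel
  have hcommN : ∀ a ∈ N, ∀ b ∈ N, a * b = b * a := fun a ha b hb =>
    congrArg Subtype.val (hNc.is_comm.comm ⟨a, ha⟩ ⟨b, hb⟩)
  have hqodd : Odd q := (Fact.out : q.Prime).odd_of_ne_two hq
  have hsq : ∀ a ∈ N, a * a = 1 → a = 1 := fun a ha h2 => by
    obtain ⟨k, hk⟩ := hqodd
    have h1 := hNq a ha
    rwa [hk, pow_succ, pow_mul, sq, h2, one_pow, one_mul] at h1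
  -- decomposition
  have hcompl : Subgroup.IsComplement' N P := by
    refine Subgroup.isComplement'_of_disjoint_and_mul_eq_univ (disjoint_iff.2 hdisj) ?_
    rw [← Subgroup.normal_mul N P, hprod, Subgroup.coe_top]
  let e : N × P ≃ G := Equiv.ofBijective _ hcompl
  have he : ∀ (n : N) (p : P), e (n, p) = (n : G) * p := fun n p => rfl
  let cN : G → N := fun g => (e.symm g).1
  let cP : G → P := fun g => (e.symm g).2
  have hdec : ∀ g, g = (cN g : G) * cP g := fun g => ((he _ _).symm.trans (e.apply_symm_apply g)).symm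
  have huniq : ∀ (g : G) (n : N) (p : P), g = (n : G) * p → cN g = n ∧ cP g = p := by
    intro g n p h
    have : e.symm g = (n, p) := e.symm_apply_eq.2 h
    exact ⟨congrArg Prod.fst this, congrArg Prod.snd this⟩
  -- a central involution of `P`
  haveI : Nontrivial P := (Subgroup.nontrivial_iff_ne_bot P).2 hP1
  haveI := hP.center_nontrivial
  obtain ⟨z₀, hz₀⟩ := exists_prime_orderOf_dvd_card' (G := Subgroup.center P) 2 (by
    obtain ⟨k, hk, hk'⟩ := (hP.to_subgroup (Subgroup.center P)).nontrivial_iff_card.1 inferInstance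
    rw [hk']
    exact dvd_pow_self 2 hk.ne')
  set z : P := (z₀ : P) with hz
  have hz2 : (z : G) * z = 1 := by
    have h1 := congrArg (fun w : Subgroup.center P => ((w : P) : G)) (pow_orderOf_eq_one z₀)
    simpa [hz₀, sq] using h1
  have hz1 : (z : G) ≠ 1 := fun h => by
    have : z₀ = 1 := Subtype.ext (Subtype.ext h)
    rw [this, orderOf_one] at hz₀
    exact absurd hz₀ (by norm_num)
  have hzc : ∀ p : P, (p : G) * z = z * p := fun p =>
    congrArg Subtype.val (Subgroup.mem_center_iff.1 z₀.2 p)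
  have hzN : (z : G) ∉ N := fun h => hz1 (by
    have : (z : G) ∈ N ⊓ P := ⟨h, z.2⟩
    rwa [hdisj, Subgroup.mem_bot] at this)
  -- `z` inverts `N`
  have hCbot : N ⊓ Subgroup.centralizer ({(z : G)} : Set G) = ⊥ := by
    set C := N ⊓ Subgroup.centralizer ({(z : G)} : Set G) with hC
    by_contra hne
    haveI : C.Normal := ⟨fun c hc g => by
      refine ⟨hN.conj_mem c hc.1 g, Subgroup.mem_centralizer_singleton_iff.2 ?_⟩
      have hcz := Subgroup.mem_centralizer_singleton_iff.1 hc.2
      rw [hdec g]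
      set p := cP g
      set n := cN g
      have hpc : (p : G) * c * (p : G)⁻¹ ∈ N := hN.conj_mem c hc.1 p
      have hnc : (n : G) * ((p : G) * c * (p : G)⁻¹) * (n : G)⁻¹ = (p : G) * c * (p : G)⁻¹ := by
        rw [hcommN n n.2 _ hpc, mul_inv_cancel_right]
      rw [show (n : G) * p * c * ((n : G) * p)⁻¹ = (n : G) * ((p : G) * c * (p : G)⁻¹) * (n : G)⁻¹
        by group, hnc]
      have hpz : (p : G)⁻¹ * z = z * (p : G)⁻¹ := hzc p⁻¹
      calc (p : G) * c * (p : G)⁻¹ * z = (p : G) * (c * z) * (p : G)⁻¹ := by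
            rw [mul_assoc, hpz]; group
        _ = (p : G) * (z * c) * (p : G)⁻¹ := by rw [hcz]
        _ = z * ((p : G) * c * (p : G)⁻¹) := by rw [← mul_assoc, hzc]; group⟩
    have hNC : N ≤ C := hmin.2 C inferInstance hne
    haveI : (Subgroup.zpowers (z : G)).Normal := ⟨fun w hw g => by
      obtain ⟨k, rfl⟩ := hw
      have hcomm : Commute g (z : G) := by
        rw [hdec g]
        exact Commute.mul_left
          (Subgroup.mem_centralizer_singleton_iff.1 (hNC (cN g).2).2) (hzc (cP g))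
      show g * (z : G) ^ k * g⁻¹ ∈ _
      rw [(hcomm.zpow_right k).eq, mul_inv_cancel_right]
      exact Subgroup.zpow_mem_zpowers _ _⟩
    have hle := hmin.2 (Subgroup.zpowers (z : G)) inferInstance
      (by rw [Ne, Subgroup.zpowers_eq_bot]; exact hz1)
    refine hmin.1 (le_bot_iff.1 (hdisj ▸ le_inf le_rfl (hle.trans ?_)))
    exact Subgroup.zpowers_le.2 z.2
  have hzinv : ∀ n ∈ N, (z : G) * n * z = n⁻¹ := by
    intro n hn
    have hn' : (z : G) * n * z ∈ N := by
      have := hN.conj_mem n hn (z : G)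
      rwa [inv_eq_of_mul_eq_one_left hz2] at this
    have hc : n * ((z : G) * n * z) = ((z : G) * n * z) * n := hcommN n hn _ hn'
    refine eq_inv_of_mul_eq_one_right ?_
    rw [← Subgroup.mem_bot, ← hCbot]
    refine ⟨N.mul_mem hn hn', Subgroup.mem_centralizer_singleton_iff.2 ?_⟩
    calc n * ((z : G) * n * z) * z = n * ((z : G) * n) * ((z : G) * z) := by group
      _ = ((z : G) * z) * n * ((z : G) * n) := by rw [hz2]; group
      _ = z * ((z : G) * n * z * n) := by group
      _ = z * (n * ((z : G) * n * z)) := by rw [hc]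
  -- `N` lies in the derived group
  have hNder : ∀ (f : G →* ℂˣ) (n : G), n ∈ N → f n = 1 := by
    intro f n hn
    have h1 : f (z * n * z) = f n⁻¹ := congrArg f (hzinv n hn)
    rw [map_inv, map_mul, map_mul, mul_comm (f z) (f n), mul_assoc, ← map_mul, hz2, map_one,
      mul_one, eq_inv_iff_mul_eq_one] at h1
    obtain ⟨k, hk⟩ := hqodd
    have h2 := congrArg f (hNq n hn)
    rw [map_pow, map_one, hk, pow_succ, pow_mul, sq, h1, one_pow, one_mul] at h2
    exact h2
  -- a nontrivial linear character of `N`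
  letI : CommGroup N := { (inferInstance : Group N) with mul_comm := hNc.is_comm.comm }
  haveI : Nontrivial N := (Subgroup.nontrivial_iff_ne_bot N).2 hmin.1
  obtain ⟨n₀, hn₀⟩ := exists_ne (1 : N)
  obtain ⟨lam, hlam⟩ := CommGroup.exists_apply_ne_one_of_hasEnoughRootsOfUnity N ℂ hn₀
  let θ : N → ℂ := fun n => (lam n : ℂ)
  have hθ : Cfsg.IsIrrCharacter N θ := CfsgLib.Characters.isIrr_linChar lam
  have hcj : ∀ (g : G) (n : N), CfsgLib.OddOrderChar.conjBy N θ g n =
      θ ⟨g * n * g⁻¹, hN.conj_mem n n.2 g⟩ := fun g n => rfl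
  let T : Subgroup G :=
    { carrier := {g | CfsgLib.OddOrderChar.conjBy N θ g = θ}
      mul_mem' := fun {a b} ha hb => by
        show CfsgLib.OddOrderChar.conjBy N θ (a * b) = θ
        rw [← CfsgLib.OddOrderChar.conjBy_mul, ha, hb]
      one_mem' := CfsgLib.OddOrderChar.conjBy_one N θ
      inv_mem' := fun {a} ha => by
        show CfsgLib.OddOrderChar.conjBy N θ a⁻¹ = θ
        conv_lhs => rw [← ha]
        rw [CfsgLib.OddOrderChar.conjBy_mul, mul_inv_cancel, CfsgLib.OddOrderChar.conjBy_one] }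
  haveI := Fintype.ofFinite T
  haveI := Fintype.ofFinite (N.subgroupOf T)
  have hTdef : ∀ g, g ∈ T ↔ CfsgLib.OddOrderChar.conjBy N θ g = θ := fun g => Iff.rfl
  have hNT : N ≤ T :=
    CfsgLib.OddOrderChar.inertia_le N (CfsgLib.Characters.isClassFunction_of_isIrr hθ) T hTdef
  have hlamT : ∀ (p : G) (n : N), p ∈ T →
      lam ⟨p * n * p⁻¹, hN.conj_mem n n.2 p⟩ = lam n := fun p n hp =>
    Units.ext (congrFun ((hTdef p).1 hp) n)
  have hzlam : ∀ n : N, lam ⟨(z : G) * n * (z : G)⁻¹, hN.conj_mem n n.2 z⟩ = (lam n)⁻¹ := fun n => by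
    rw [← map_inv]
    congr 1
    exact Subtype.ext (by
      show (z : G) * n * (z : G)⁻¹ = (n : G)⁻¹
      rw [inv_eq_of_mul_eq_one_left hz2, hzinv n n.2])
  have hzT : (z : G) ∉ T := by
    intro h
    refine hlam ?_
    have h1 := (hzlam n₀).symm.trans (hlamT z n₀ h)
    rw [inv_eq_iff_mul_eq_one] at h1
    obtain ⟨k, hk⟩ := hqodd
    have h2 := congrArg lam (show n₀ ^ q = 1 from Subtype.ext (by simpa using hNq n₀ n₀.2))
    rw [map_pow, map_one, hk, pow_succ, pow_mul, sq, h1, one_pow, one_mul] at h2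
    exact h2
  have hmemT : ∀ (n : N) (p : G), (n : G) * p ∈ T ↔ p ∈ T := fun n p =>
    ⟨fun h => by simpa using T.mul_mem (T.inv_mem (hNT n.2)) h, fun h => T.mul_mem (hNT n.2) h⟩
  have hcPT : ∀ t : T, (cP t : G) ∈ T := fun t => by
    rw [← hmemT (cN t), ← hdec]; exact t.2
  -- the sign characters of `T ∩ P`
  let TP : Subgroup P := T.subgroupOf P
  let S := {η : TP →* ℂˣ // ∀ t, η t * η t = 1}
  have hcmul : ∀ a b : G, cN (a * b) =
      cN a * ⟨(cP a : G) * cN b * (cP a : G)⁻¹, hN.conj_mem _ (cN b).2 _⟩ ∧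
      cP (a * b) = cP a * cP b := by
    intro a b
    refine huniq _ _ _ ?_
    conv_lhs => rw [hdec a, hdec b]
    show _ = (cN a : G) * ((cP a : G) * cN b * (cP a : G)⁻¹) * ((cP a : G) * cP b)
    group
  let ψ : S → (T →* ℂˣ) := fun η =>
    MonoidHom.mk' (fun t => lam (cN t) * η.1 ⟨cP t, hcPT t⟩) fun a b => by
      have h1 : (⟨cP ((a * b : T) : G), hcPT (a * b)⟩ : TP) = ⟨cP a, hcPT a⟩ * ⟨cP b, hcPT b⟩ :=
        Subtype.ext (hcmul (a : G) b).2
      rw [h1, map_mul, show cN ((a * b : T) : G) = _ from (hcmul (a : G) b).1, map_mul,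
        hlamT _ _ (hcPT a)]
      exact mul_mul_mul_comm _ _ _ _
  have hψN : ∀ (η : S) (n : N), ψ η ⟨n, hNT n.2⟩ = lam n := fun η n => by
    obtain ⟨h1, h2⟩ := huniq (n : G) n 1 (by simp)
    show lam (cN n) * η.1 ⟨cP n, _⟩ = lam n
    rw [show (⟨cP (n : G), hcPT ⟨n, hNT n.2⟩⟩ : TP) = 1 from Subtype.ext h2, map_one, mul_one, h1]
  let ψc : S → T → ℂ := fun η t => (ψ η t : ℂ)
  have hψirr : ∀ η, Cfsg.IsIrrCharacter T (ψc η) := fun η => CfsgLib.Characters.isIrr_linChar (ψ η)
  have hψne : ∀ η, Cfsg.classInner (fun x : N.subgroupOf T => ψc η x)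
      (CfsgLib.OddOrderChar.onSubgroupOf N T θ) ≠ 0 := fun η => by
    have he' : (fun x : N.subgroupOf T => ψc η x) = CfsgLib.OddOrderChar.onSubgroupOf N T θ :=
      funext fun x => congrArg Units.val (hψN η ⟨((x : T) : G), Subgroup.mem_subgroupOf.1 x.2⟩)
    rw [he', CfsgLib.OddOrderChar.classInner_onSubgroupOf N T hNT,
      CfsgLib.Characters.classInner_isIrr_self hθ]
    exact one_ne_zero
  let χ : S → Cfsg.IrrCharacter G := fun η => ⟨Cfsg.indFun T (ψc η),
    (CfsgLib.OddOrderChar.clifford_correspondence N T hθ hTdef (hψirr η) (hψne η)).1⟩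
  have hχinj : Function.Injective χ := by
    intro a b hab
    have h1 := (CfsgLib.OddOrderChar.clifford_correspondence N T hθ hTdef (hψirr b) (hψne b)).2.2
      _ (hψirr a) (hψne a) (congrArg Subtype.val hab)
    refine Subtype.ext (MonoidHom.ext fun t => Units.ext ?_)
    have htT : ((t : P) : G) ∈ T := t.2
    have h2 := congrFun h1 ⟨_, htT⟩
    obtain ⟨e1, e2⟩ := huniq ((t : P) : G) 1 (t : P) (by simp)
    have e3 : (⟨cP ((t : P) : G), hcPT ⟨_, htT⟩⟩ : TP) = t := Subtype.ext e2
    simpa [ψc, ψ, e1, e3] using h2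
  -- degree
  have hdeg : ∀ η, Cfsg.charDegree (χ η : G → ℂ) = T.index := fun η => by
    show ⌊(Cfsg.indFun T (ψc η) 1).re⌋₊ = _
    rw [CfsgLib.Characters.indFun_one, show ψc η 1 = 1 by simp [ψc]]
    simp
  have hidx : T.index ≠ 1 ∧ 2 ∣ T.index := by
    have h1 : T.index ≠ 1 := fun h => hzT (by rw [Subgroup.index_eq_one.1 h]; exact Subgroup.mem_top _)
    refine ⟨h1, ?_⟩
    have hd : T.index ∣ Nat.card P := by
      have := Subgroup.index_dvd_of_le hNT
      rwa [hcompl.symm.index_eq_card] at this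
    obtain ⟨k, hk⟩ := IsPGroup.iff_card.1 hP
    obtain ⟨j, -, hj⟩ := (Nat.dvd_prime_pow Nat.prime_two).1 (hk ▸ hd)
    rw [hj] at h1 ⊢
    exact dvd_pow_self 2 (fun h => h1 (by rw [h, pow_zero]))
  -- the indicator
  have hind : ∀ η, (Nat.card G : ℂ)⁻¹ * ∑ᶠ g : G, (χ η : G → ℂ) (g * g) = 1 := by
    intro η
    let F : G → ℂ := Cfsg.extendByZero T (ψc η)
    have hF : ∑ g : G, (χ η : G → ℂ) (g * g) =
        (Nat.card T : ℂ)⁻¹ * ((Nat.card G : ℂ) * ∑ g : G, F (g * g)) := by
      show ∑ g : G, Cfsg.indFun T (ψc η) (g * g) = _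
      simp only [Cfsg.indFun, ← Finset.mul_sum]
      rw [Finset.sum_comm]
      congr 1
      rw [Finset.sum_congr rfl (g := fun _ => ∑ g : G, F (g * g)), Finset.sum_const,
        Finset.card_univ, ← Nat.card_eq_fintype_card, nsmul_eq_mul]
      intro x _
      refine Fintype.sum_bijective (fun g => x⁻¹ * g * x)
        ((Equiv.mulLeft x⁻¹).trans (Equiv.mulRight x)).bijective _ _ fun g => ?_
      show Cfsg.extendByZero T (ψc η) _ = Cfsg.extendByZero T (ψc η) _
      congr 1
      group
    have hsum : ∑ g : G, F (g * g) = (Nat.card T : ℂ) := by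
      rw [← Equiv.sum_comp e, Fintype.sum_prod_type, Finset.sum_comm]
      have hp : ∀ p : P, ∑ n : N, F (e (n, p) * e (n, p)) =
          if (z : G) * p ∈ T then (Nat.card N : ℂ) else 0 := by
        intro p
        let μ : N →* ℂˣ := MonoidHom.mk'
          (fun n => lam n * lam ⟨(p : G) * n * (p : G)⁻¹, hN.conj_mem n n.2 p⟩) fun a b => by
            have h : (⟨(p : G) * ((a * b : N) : G) * (p : G)⁻¹, hN.conj_mem _ (a * b : N).2 p⟩ : N) =
                ⟨(p : G) * a * (p : G)⁻¹, hN.conj_mem a a.2 p⟩ *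
                  ⟨(p : G) * b * (p : G)⁻¹, hN.conj_mem b b.2 p⟩ :=
              Subtype.ext (by simp)
            rw [h, map_mul, map_mul, mul_mul_mul_comm]
        have hsqdec : ∀ n : N, e (n, p) * e (n, p) =
            ((n * ⟨(p : G) * n * (p : G)⁻¹, hN.conj_mem n n.2 p⟩ : N) : G) * ((p * p : P) : G) :=
          fun n => by
            rw [he]
            show _ = (n : G) * ((p : G) * n * (p : G)⁻¹) * ((p : G) * p)
            group
        have hzp : ((z : G) * p) * ((z : G) * p) = (p : G) * p := by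
          calc ((z : G) * p) * ((z : G) * p) = (z : G) * ((p : G) * z) * p := by group
            _ = ((z : G) * z) * ((p : G) * p) := by rw [hzc]; group
            _ = (p : G) * p := by rw [hz2, one_mul]
        have hμ : μ = 1 ↔ (z : G) * p ∈ T := by
          rw [hTdef, funext_iff, MonoidHom.ext_iff]
          refine forall_congr' fun n => ?_
          have hzpn : (⟨(z : G) * p * n * ((z : G) * p)⁻¹, hN.conj_mem n n.2 _⟩ : N) =
              ⟨(z : G) * ((⟨(p : G) * n * (p : G)⁻¹, hN.conj_mem n n.2 p⟩ : N) : G) * (z : G)⁻¹,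
                hN.conj_mem _ (Subtype.mem _) _⟩ := Subtype.ext (by simp [mul_assoc])
          rw [hcj, hzpn]
          show lam n * _ = 1 ↔ ((lam _ : ℂˣ) : ℂ) = ((lam n : ℂˣ) : ℂ)
          rw [hzlam, Units.val_inj, inv_eq_iff_eq_inv, mul_comm, mul_eq_one_iff_eq_inv]
        by_cases hpT : ((p * p : P) : G) ∈ T
        · have hterm : ∀ n : N, F (e (n, p) * e (n, p)) =
              (μ n : ℂ) * ((η.1 ⟨p * p, hpT⟩ : ℂˣ) : ℂ) := fun n => by
            have hm : e (n, p) * e (n, p) ∈ T := by rw [hsqdec]; exact (hmemT _ _).2 hpT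
            show Cfsg.extendByZero T (ψc η) _ = _
            rw [CfsgLib.Characters.extendByZero_of_mem T _ hm]
            obtain ⟨e1, e2⟩ := huniq _ _ _ (hsqdec n)
            show ((lam (cN _) * η.1 ⟨cP _, _⟩ : ℂˣ) : ℂ) = _
            rw [Units.val_mul, e1, map_mul]
            congr 2
            exact congrArg η.1 (Subtype.ext e2)
          rw [Finset.sum_congr rfl fun n _ => hterm n, ← Finset.sum_mul]
          split_ifs with hT'
          · have hη : η.1 ⟨p * p, hpT⟩ = 1 := by
              have hzpP : (⟨p * p, hpT⟩ : TP) = ⟨z * p, hT'⟩ * ⟨z * p, hT'⟩ :=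
                Subtype.ext (Subtype.ext hzp.symm)
              rw [hzpP, map_mul]
              exact η.2 _
            rw [hη, hμ.2 hT', Units.val_one, mul_one]
            simp [Nat.card_eq_fintype_card]
          · have h0 := sum_hom_units_eq_zero ((Units.coeHom ℂ).comp μ) (fun h => hT' (hμ.1
              (MonoidHom.ext fun n => Units.ext (DFunLike.congr_fun h n))))
            rw [show ∑ n : N, (μ n : ℂ) = 0 from h0, zero_mul]
        · rw [if_neg fun h => hpT (by
              show (p : G) * p ∈ T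
              rw [← hzp]; exact T.mul_mem h h)]
          refine Finset.sum_eq_zero fun n _ => ?_
          exact CfsgLib.Characters.extendByZero_of_not_mem T _
            (by rw [hsqdec]; exact fun h => hpT ((hmemT _ _).1 h))
      rw [Finset.sum_congr rfl fun p _ => hp p, ← Finset.sum_filter, Finset.sum_const,
        nsmul_eq_mul, ← Nat.cast_mul, Nat.cast_inj]
      have hcardT : Nat.card T = Nat.card N * Nat.card TP := by
        rw [← Nat.card_prod]
        refine Nat.card_congr ⟨fun t => (cN t, ⟨cP t, hcPT t⟩),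
          fun np => ⟨(np.1 : G) * ((np.2 : P) : G), (hmemT _ _).2 np.2.2⟩, fun t => ?_, fun np => ?_⟩
        · exact Subtype.ext (hdec (t : G)).symm
        · obtain ⟨e1, e2⟩ := huniq ((np.1 : G) * ((np.2 : P) : G)) np.1 np.2 rfl
          exact Prod.ext e1 (Subtype.ext e2)
      rw [hcardT, Nat.mul_comm (Nat.card N)]
      congr 1
      rw [← Fintype.card_subtype, ← Nat.card_eq_fintype_card]
      refine Nat.card_congr ⟨fun p => ⟨z * p.1, p.2⟩, fun t => ⟨z * t.1, ?_⟩, fun p => ?_,
        fun t => ?_⟩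
      · show (z : G) * ((z : G) * (t.1 : G)) ∈ T
        rw [← mul_assoc, hz2, one_mul]
        exact t.2
      · exact Subtype.ext (Subtype.ext (show (z : G) * ((z : G) * (p.1 : G)) = p.1 by
          rw [← mul_assoc, hz2, one_mul]))
      · exact Subtype.ext (Subtype.ext (show (z : G) * ((z : G) * (t.1 : G)) = t.1 by
          rw [← mul_assoc, hz2, one_mul]))
    rw [finsum_eq_sum_of_fintype, hF, hsum, mul_left_comm _ (Nat.card G : ℂ),
      inv_mul_cancel₀ CfsgLib.Characters.natCard_ne_zero, mul_one,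
      inv_mul_cancel₀ CfsgLib.Characters.natCard_ne_zero]
  -- the linear members
  let A := {χ : Cfsg.IrrCharacter G // (Cfsg.charDegree (χ : G → ℂ) = 1 ∨
    2 ∣ Cfsg.charDegree (χ : G → ℂ)) ∧ (Nat.card G : ℂ)⁻¹ * ∑ᶠ g : G, (χ : G → ℂ) (g * g) = 1}
  let R := {f : G →* ℂˣ // ∀ g, f g * f g = 1}
  haveI : Finite (G →* ℂˣ) :=
    Finite.of_equiv _ (CfsgLib.Characters.linearCharEquiv (G := G)).symm
  haveI : Finite (TP →* ℂˣ) :=
    Finite.of_equiv _ (CfsgLib.Characters.linearCharEquiv (G := TP)).symm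
  let Lin : Finset A := Finset.univ.filter fun a => Cfsg.charDegree (a.1 : G → ℂ) = 1
  have hLin : Lin.card ≤ Nat.card R := by
    have hex : ∀ a : Lin, ∃ f : R, ∀ g, (a.1.1 : G → ℂ) g = (f.1 g : ℂ) := by
      rintro ⟨a, ha⟩
      have hd := (Finset.mem_filter.1 ha).2
      obtain ⟨d, hd'⟩ := CfsgLib.Characters.exists_degree
        (CfsgLib.Characters.isCharacter_of_isIrr a.1.2)
      have h1 : (a.1 : G → ℂ) 1 = 1 := by
        rw [Cfsg.charDegree, hd', Complex.natCast_re, Nat.floor_natCast] at hd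
        rw [hd', hd, Nat.cast_one]
      obtain ⟨f, hf⟩ := CfsgLib.Characters.exists_hom_of_degree_one
        (CfsgLib.Characters.isCharacter_of_isIrr a.1.2) h1
      refine ⟨⟨f, fun g => ?_⟩, fun g => congrFun hf g⟩
      have hi := a.2.2
      rw [finsum_eq_sum_of_fintype, inv_mul_eq_iff_eq_mul₀ CfsgLib.Characters.natCard_ne_zero,
        mul_one] at hi
      simp only [hf] at hi
      let sqf : G →* ℂˣ := f * f
      by_contra hne
      have hne' : (Units.coeHom ℂ).comp sqf ≠ 1 := fun h =>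
        hne (Units.ext (by simpa [sqf] using DFunLike.congr_fun h g))
      have h0 := sum_hom_units_eq_zero ((Units.coeHom ℂ).comp sqf) hne'
      rw [show ∑ x : G, ((Units.coeHom ℂ).comp sqf) x = ∑ x : G, ((f (x * x) : ℂˣ) : ℂ) from
        Finset.sum_congr rfl fun x _ => by simp [sqf], hi] at h0
      exact Nat.cast_ne_zero.2 Nat.card_pos.ne' h0
    choose f hf using hex
    have := Nat.card_le_card_of_injective f (fun a b hab =>
      Subtype.ext (Subtype.ext (Subtype.ext (funext fun g => by rw [hf, hf, hab]))))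
    rwa [Nat.card_eq_fintype_card (α := Lin), Fintype.card_coe] at this
  -- restriction of sign characters
  have hR : Nat.card R ≤ Nat.card S * T.index := by
    let res : R → S := fun f =>
      ⟨f.1.comp (P.subtype.comp TP.subtype), fun t => f.2 ((t : P) : G)⟩
    let L := {f : G →* ℂˣ // ∀ t : T, f t = 1}
    have hlift : ∀ f : L, ∀ a b : G, a⁻¹ * b ∈ T → (f.1 a : ℂ) = f.1 b := fun f a b h => by
      have h1 := f.2 ⟨_, h⟩
      rw [map_mul, map_inv, inv_mul_eq_one] at h1
      rw [h1]
    let Fl : L → (G ⧸ T) → ℂ := fun f q =>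
      Quotient.liftOn' q (fun g => (f.1 g : ℂ))
        (fun a b h => hlift f a b (QuotientGroup.leftRel_apply.1 h))
    haveI : Fintype L := Fintype.ofFinite L
    haveI : Fintype (G ⧸ T) := Fintype.ofFinite _
    have hLI : LinearIndependent ℂ Fl := by
      have hinj : Function.Injective (fun f : L => (Units.coeHom ℂ).comp f.1) := fun a b h =>
        Subtype.ext (MonoidHom.ext fun g => Units.ext (DFunLike.congr_fun h g))
      refine LinearIndependent.of_comp (LinearMap.funLeft ℂ ℂ (QuotientGroup.mk : G → G ⧸ T)) ?_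
      exact (linearIndependent_monoidHom G ℂ).comp _ hinj
    have hL : Nat.card L ≤ T.index := by
      have h := hLI.fintype_card_le_finrank
      rw [Module.finrank_fintype_fun_eq_card, ← Nat.card_eq_fintype_card,
        ← Nat.card_eq_fintype_card] at h
      exact h
    haveI : Fintype R := Fintype.ofFinite _
    haveI : Fintype S := Fintype.ofFinite _
    rw [Nat.card_eq_fintype_card, ← Finset.card_univ, Nat.card_eq_fintype_card, ← Finset.card_univ,
      mul_comm]
    refine Finset.card_le_mul_card_image_of_maps_to (f := res) (fun f _ => Finset.mem_univ _) _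
      fun s _ => ?_
    rcases (Finset.univ.filter fun f => res f = s).eq_empty_or_nonempty with h0 | ⟨f₀, hf₀⟩
    · rw [h0]; exact Nat.zero_le _
    refine le_trans ?_ hL
    rw [Nat.card_eq_fintype_card, ← Finset.card_univ]
    have hmem : ∀ c ∈ Finset.univ.filter (fun f => res f = s), ∀ t : T, (c.1 / f₀.1) t = 1 := by
      intro c hc t
      have h1 := (Finset.mem_filter.1 hc).2.trans (Finset.mem_filter.1 hf₀).2.symm
      have h2 := DFunLike.congr_fun (congrArg Subtype.val h1) ⟨cP t, hcPT t⟩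
      rw [MonoidHom.div_apply, hdec (t : G), map_mul, map_mul, hNder _ _ (cN t).2,
        hNder _ _ (cN t).2, one_mul, one_mul]
      exact div_eq_one.2 h2
    refine Finset.card_le_card_of_injOn
      (fun f => if h : ∀ t : T, (f.1 / f₀.1) t = 1 then (⟨f.1 / f₀.1, h⟩ : L)
        else ⟨1, fun _ => rfl⟩) (fun f _ => Finset.mem_univ _) ?_
    intro a ha b hb hab
    simp only [dif_pos (hmem a ha), dif_pos (hmem b hb)] at hab
    exact Subtype.ext (div_left_injective (congrArg Subtype.val hab))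
  -- summation
  haveI : Fintype S := Fintype.ofFinite _
  let emb : S → A := fun η => ⟨χ η, Or.inr (by rw [hdeg]; exact hidx.2), hind η⟩
  let E : Finset A := Finset.univ.image emb
  have hEcard : E.card = Nat.card S := by
    rw [Finset.card_image_of_injective _ (fun a b h => hχinj (congrArg Subtype.val h)),
      Finset.card_univ, Nat.card_eq_fintype_card]
  have hEd : ∀ a ∈ E, Cfsg.charDegree (a.1 : G → ℂ) = T.index := by
    intro a ha
    obtain ⟨η, -, rfl⟩ := Finset.mem_image.1 ha
    exact hdeg η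
  have hdisjE : Disjoint Lin E := Finset.disjoint_left.2 fun a h1 h2 =>
    hidx.1 ((hEd a h2).symm.trans (Finset.mem_filter.1 h1).2)
  have hrest : ∀ a : A, a ∉ Lin → 4 ≤ 3 * Cfsg.charDegree (a.1 : G → ℂ) := by
    intro a ha
    obtain ⟨d, hd0, hd⟩ := CfsgLib.Characters.exists_degree_pos a.1.2
    have hcd : Cfsg.charDegree (a.1 : G → ℂ) = d := by
      rw [Cfsg.charDegree, hd, Complex.natCast_re, Nat.floor_natCast]
    have h1 : d ≠ 1 := fun h => ha (Finset.mem_filter.2 ⟨Finset.mem_univ _, hcd.trans h⟩)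
    omega
  have hRlin : Lin.card ≤ E.card * T.index := hEcard ▸ hLin.trans hR
  rw [finsum_eq_sum_of_fintype, Nat.card_eq_fintype_card, ← Finset.card_univ]
  show 4 * (Finset.univ : Finset A).card ≤ 3 * ∑ a : A, Cfsg.charDegree (a.1 : G → ℂ)
  have hsplit : (Finset.univ : Finset A).card =
      Lin.card + E.card + ((Finset.univ : Finset A) \ (Lin ∪ E)).card := by
    rw [← Finset.card_union_of_disjoint hdisjE, add_comm,
      Finset.card_sdiff_add_card_eq_card (Finset.subset_univ _)]
  have hd2 : 4 + T.index ≤ 3 * T.index := by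
    have := hidx.1
    have : 0 < T.index := Nat.pos_of_ne_zero Subgroup.index_ne_zero_of_finite
    omega
  rw [hsplit, ← Finset.sum_sdiff (Finset.subset_univ (Lin ∪ E)),
    Finset.sum_union hdisjE,
    Finset.sum_congr rfl (s₁ := Lin) (fun a ha => (Finset.mem_filter.1 ha).2),
    Finset.sum_congr rfl (s₁ := E) (fun a ha => hEd a ha), Finset.sum_const, Finset.sum_const,
    smul_eq_mul, smul_eq_mul]
  have hrest' : ((Finset.univ : Finset A) \ (Lin ∪ E)).card * 4 ≤
      3 * ∑ a ∈ (Finset.univ : Finset A) \ (Lin ∪ E), Cfsg.charDegree (a.1 : G → ℂ) := by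
    rw [Finset.mul_sum]
    refine le_trans (le_of_eq (by rw [Finset.sum_const, smul_eq_mul])) (Finset.sum_le_sum
      fun a ha => hrest a fun h => (Finset.mem_sdiff.1 ha).2 (Finset.mem_union_left _ h))
  nlinarith [Nat.mul_le_mul_left E.card hd2]

end Cfsg.Agent.S4871
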