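import Cfsg.Statements.S4872
-- import your own Cfsg.Agent.* helpers here

import Cfsg.Agent.Indicator.Symplectic
import Cfsg.Agent.CharactersDeep.Clifford
import Cfsg.Agent.CharactersDeep.ExtensionCriteria
import Cfsg.Agent.Characters.DefectZero
import Cfsg.Agent.Characters.Integrality
import Cfsg.Agent.Characters.FixedPoints

set_option autoImplicit false
open Cfsg

namespace Cfsg.Agent.S4872

/-- Let N be a normal subgroup of the finite group G with G/N a 2-group, and let φ be an irreducible complex character of N of 2-defect zero (the 2-part of #N divides φ(1)) whose complex conjugate is G-conjugate to φ. Then some irreducible character of G with Frobenius–Schur indicator +1 contains φ with multiplicity exactly one on restriction to N. -/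
theorem result {G : Type*} [Group G] [Finite G] (N : Subgroup G) [N.Normal] (h2 : IsPGroup 2 (G ⧸ N)) (φ : Cfsg.IrrCharacter ↥N) (hdef : 2 ^ (Nat.card ↥N).factorization 2 ∣ Cfsg.charDegree (φ : ↥N → ℂ)) (hconj : ∃ g : G, ∀ n n' : ↥N, (n' : G) = g * (n : G) * g⁻¹ → (φ : ↥N → ℂ) n' = (starRingEnd ℂ) ((φ : ↥N → ℂ) n)) : ∃ χ : Cfsg.IrrCharacter G, (Nat.card G : ℂ)⁻¹ * ∑ᶠ g : G, (χ : G → ℂ) (g * g) = 1 ∧ (Nat.card ↥N : ℂ)⁻¹ * ∑ᶠ n : ↥N, (χ : G → ℂ) n * (starRingEnd ℂ) ((φ : ↥N → ℂ) n) = 1 := by
  classical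
  letI : Fintype G := Fintype.ofFinite G
  haveI : Fact (Nat.Prime 2) := ⟨Nat.prime_two⟩
  obtain ⟨θ, hθ⟩ := φ
  obtain ⟨g₀, hg₀⟩ := hconj
  have hθbar : CfsgLib.OddOrderChar.conjBy N θ g₀ = fun n => (starRingEnd ℂ) (θ n) :=
    funext fun n => hg₀ n _ rfl
  -- θ vanishes off the elements of odd order
  set a := (Nat.card ↥N).factorization 2 with ha
  obtain ⟨l, ρ, hρ, hθρ⟩ := id hθ
  have hdeg : θ 1 = (Module.finrank ℂ (Fin l → ℂ) : ℂ) := by
    rw [← hθρ, Representation.char_one]
  set d := Module.finrank ℂ (Fin l → ℂ) with hd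
  have hd2 : 2 ^ a ∣ d := by
    have : Cfsg.charDegree θ = d := by simp [Cfsg.charDegree, hdeg]
    rwa [← this]
  have hN0 : Nat.card ↥N ≠ 0 := Nat.card_pos.ne'
  have ha' : ¬ 2 ^ (a + 1) ∣ Nat.card ↥N :=
    Nat.pow_succ_factorization_not_dvd hN0 Nat.prime_two
  have hdN : d ∣ Nat.card ↥N := CfsgLib.Characters.finrank_dvd_card ρ
  have hvan : ∀ n : N, 2 ∣ orderOf n → θ n = 0 := fun n hn => by
    rw [← hθρ]
    exact CfsgLib.Characters.char_eq_zero_of_defect_zero ρ Nat.prime_two
      (Nat.ordProj_dvd _ 2) ha' hd2 n hn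
  -- multiplicities
  obtain ⟨P⟩ : Nonempty (Sylow 2 G) := Sylow.nonempty
  let Ps : Subgroup G := (P : Subgroup G)
  have hm : ∀ χ : Cfsg.IrrCharacter G, ∃ k : ℕ,
      Cfsg.classInner (fun h : Ps => (χ : G → ℂ) h) (fun _ => (1 : ℂ)) = k := fun χ =>
    CfsgLib.Characters.classInner_character_irr
      (CfsgLib.Characters.isCharacter_restrict Ps (CfsgLib.Characters.isCharacter_of_isIrr χ.2))
      CfsgLib.Characters.isIrr_one
  choose m hm using hm
  have he : ∀ χ : Cfsg.IrrCharacter G, ∃ k : ℕ,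
      Cfsg.classInner (fun n : N => (χ : G → ℂ) n) θ = k := fun χ =>
    CfsgLib.Characters.classInner_character_irr
      (CfsgLib.Characters.isCharacter_restrict N (CfsgLib.Characters.isCharacter_of_isIrr χ.2)) hθ
  choose e he using he
  have hP0 : (Nat.card Ps : ℂ) ≠ 0 := Nat.cast_ne_zero.2 Nat.card_pos.ne'
  have hNC : (Nat.card ↥N : ℂ) ≠ 0 := Nat.cast_ne_zero.2 hN0
  have hm' : ∀ χ : Cfsg.IrrCharacter G,
      (Nat.card Ps : ℂ) * m χ = ∑ y : Ps, (starRingEnd ℂ) ((χ : G → ℂ) y) := fun χ => by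
    rw [← Complex.conj_natCast (m χ), ← hm, ← CfsgLib.Characters.classInner_conj_symm,
      Cfsg.classInner, ← mul_assoc, mul_inv_cancel₀ hP0, one_mul]
    exact Finset.sum_congr rfl fun y _ => one_mul _
  have he' : ∀ χ : Cfsg.IrrCharacter G,
      (Nat.card ↥N : ℂ) * e χ = ∑ n : N, (χ : G → ℂ) n * (starRingEnd ℂ) (θ n) := fun χ => by
    rw [← he, Cfsg.classInner, ← mul_assoc, mul_inv_cancel₀ hNC, one_mul]
  have hcnt : (∑ χ, m χ * e χ) * Nat.card ↥N = Ps.index * d := by
    apply Nat.eq_of_mul_eq_mul_left (Nat.card_pos : 0 < Nat.card Ps)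
    rw [← mul_assoc (Nat.card Ps) Ps.index, Subgroup.card_mul_index]
    apply Nat.cast_injective (R := ℂ)
    push_cast
    rw [Finset.sum_mul, Finset.mul_sum]
    calc ∑ χ : Cfsg.IrrCharacter G, (Nat.card Ps : ℂ) * ((m χ : ℂ) * e χ * Nat.card ↥N)
        = ∑ χ : Cfsg.IrrCharacter G, ∑ n : N, ∑ y : Ps, (starRingEnd ℂ) (θ n) *
            ((χ : G → ℂ) n * (starRingEnd ℂ) ((χ : G → ℂ) y)) := by
          refine Finset.sum_congr rfl fun χ _ => ?_
          rw [mul_assoc, ← mul_assoc (Nat.card Ps : ℂ), hm', mul_comm (e χ : ℂ), he',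
            Finset.sum_mul, Finset.sum_comm]
          refine Finset.sum_congr rfl fun y _ => ?_
          rw [Finset.mul_sum]
          exact Finset.sum_congr rfl fun n _ => by ring
      _ = ∑ n : N, ∑ y : Ps, (starRingEnd ℂ) (θ n) *
            ∑ χ : Cfsg.IrrCharacter G, (χ : G → ℂ) n * (starRingEnd ℂ) ((χ : G → ℂ) y) := by
          simp only [Finset.mul_sum]
          rw [Finset.sum_comm]
          exact Finset.sum_congr rfl fun n _ => Finset.sum_comm
      _ = _ := by
          rw [Finset.sum_eq_single_of_mem (1 : N) (Finset.mem_univ _) fun n _ hn => ?_,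
            Finset.sum_eq_single_of_mem (1 : Ps) (Finset.mem_univ _) fun y _ hy => ?_]
          · rw [CfsgLib.Characters.sum_irr_mul_conj_of_isConj (by rfl), hdeg, Complex.conj_natCast,
              mul_comm, OneMemClass.coe_one]
            congr 2
            exact Nat.card_congr (Equiv.subtypeUnivEquiv fun x => by
              simp [Subgroup.mem_centralizer_iff])
          · rw [CfsgLib.Characters.sum_irr_mul_conj_of_not_isConj, mul_zero]
            intro h
            rw [OneMemClass.coe_one, isConj_one_right] at h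
            exact hy (Subtype.ext h)
          · refine Finset.sum_eq_zero fun y _ => ?_
            by_cases h2n : 2 ∣ orderOf n
            · rw [hvan n h2n, map_zero, zero_mul]
            · rw [CfsgLib.Characters.sum_irr_mul_conj_of_not_isConj, mul_zero]
              intro h
              obtain ⟨k, hk⟩ := IsPGroup.iff_orderOf.1 P.2 y
              obtain ⟨c, hc⟩ := isConj_iff.1 h
              have hord : orderOf n = orderOf y := by
                rw [← Subgroup.orderOf_coe n, ← Subgroup.orderOf_coe y, ← hc]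
                exact ((MulAut.conj c).orderOf_eq (n : G)).symm
              rw [hord, hk] at h2n
              cases k with
              | zero => exact hn (orderOf_eq_one_iff.1 (by rw [hord, hk, pow_zero]))
              | succ k => exact h2n (dvd_pow_self 2 k.succ_ne_zero)
  have hodd : Odd (∑ χ, m χ * e χ) := by
    by_contra hS
    rw [Nat.not_odd_iff_even, even_iff_two_dvd] at hS
    have h1 : 2 ^ (a + 1) ∣ Ps.index * d := by
      rw [← hcnt, pow_succ']
      exact mul_dvd_mul hS (Nat.ordProj_dvd _ 2)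
    have hco : Nat.Coprime (2 ^ (a + 1)) Ps.index :=
      Nat.Coprime.pow_left _ ((Nat.Prime.coprime_iff_not_dvd Nat.prime_two).2 P.not_dvd_index)
    exact ha' ((hco.dvd_of_dvd_mul_left h1).trans hdN)
  -- conjugation preserves the multiplicities
  let bar : Cfsg.IrrCharacter G → Cfsg.IrrCharacter G := fun χ =>
    ⟨fun g => (starRingEnd ℂ) ((χ : G → ℂ) g), CfsgLib.Characters.isIrr_conj χ.2⟩
  have hbm : ∀ χ, m (bar χ) = m χ := fun χ => by
    apply Nat.cast_injective (R := ℂ)
    rw [← hm (bar χ), ← Complex.conj_natCast (m χ), ← hm χ,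
      ← CfsgLib.Characters.classInner_conj_conj]
    congr 1
    funext _
    rw [map_one]
  have hbe : ∀ χ, e (bar χ) = e χ := fun χ => by
    apply Nat.cast_injective (R := ℂ)
    rw [← Complex.conj_natCast (e (bar χ)), ← he (bar χ),
      ← CfsgLib.Characters.classInner_conj_conj, ← hθbar]
    show Cfsg.classInner (fun n : N => (starRingEnd ℂ) ((starRingEnd ℂ) ((χ : G → ℂ) n))) _ = _
    simp only [Complex.conj_conj]
    rw [CfsgLib.CharactersDeep.Clifford.classInner_restrict_conjBy N
      (CfsgLib.Characters.isClassFunction_of_isIrr χ.2), he]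
  obtain ⟨χ, hfix, hodd'⟩ : ∃ χ, bar χ = χ ∧ Odd (m χ * e χ) := by
    by_contra hno
    push Not at hno
    have h0 : ((∑ χ, m χ * e χ : ℕ) : ZMod 2) = 0 := by
      push_cast
      refine Finset.sum_involution (fun χ _ => bar χ) (fun χ _ => ?_) (fun χ _ hχ hb => ?_)
        (fun χ _ => Finset.mem_univ _) (fun χ _ => Subtype.ext (funext fun g => Complex.conj_conj _))
      · rw [hbm, hbe]
        exact CharTwo.add_self_eq_zero _
      · apply hχ
        rw [← Nat.cast_mul, ZMod.natCast_eq_zero_iff_even]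
        exact Nat.not_odd_iff_even.1 (hno χ hb)
    rw [ZMod.natCast_eq_zero_iff_even] at h0
    exact (Nat.not_odd_iff_even.2 h0) hodd
  rw [Nat.odd_mul] at hodd'
  have hreal : ∀ g, ((χ : G → ℂ) g).im = 0 := fun g =>
    Complex.conj_eq_iff_im.1 (congrFun (congrArg Subtype.val hfix) g)
  -- indicator one
  have hν : CfsgLib.SquareRoots.indicator (χ : G → ℂ) = 1 := by
    rcases CfsgLib.SquareRoots.indicator_of_real χ.2 hreal with h | h
    · exact h
    · rw [CfsgLib.SquareRoots.indicator, finsum_eq_sum_of_fintype] at h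
      obtain ⟨k, hk⟩ := CfsgLib.Indicator.even_classInner_one χ.2 h Ps
      rw [hm] at hk
      rw [Nat.cast_injective hk] at hodd'
      exact absurd hodd'.1 (by simp)
  refine ⟨χ, hν, ?_⟩
  -- multiplicity one
  let T : Subgroup G :=
    { carrier := {g | CfsgLib.OddOrderChar.conjBy N θ g = θ}
      one_mem' := CfsgLib.OddOrderChar.conjBy_one N θ
      mul_mem' := fun {x y} (hx : _ = θ) (hy : _ = θ) => by
        show _ = θ
        rw [← CfsgLib.OddOrderChar.conjBy_mul, hx, hy]
      inv_mem' := fun {x} (hx : _ = θ) => by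
        show _ = θ
        conv_lhs => rw [← hx]
        rw [CfsgLib.OddOrderChar.conjBy_mul, mul_inv_cancel, CfsgLib.OddOrderChar.conjBy_one] }
  have hNT : N ≤ T := fun x hx => funext fun n => by
    have := CfsgLib.Characters.isClassFunction_of_isIrr hθ n ⟨x, hx⟩
    exact this
  have hne : Cfsg.classInner (fun n : N => (χ : G → ℂ) n) θ ≠ 0 := by
    rw [he]
    exact_mod_cast hodd'.2.pos.ne'
  obtain ⟨ψ, k, hk0, hψ, -, hψN, hk⟩ :=
    CfsgLib.CharactersDeep.Clifford.exists_induced_from_inertia N hθ T (fun g => Iff.rfl) hNT χ.2 hne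
  have hek : e χ = k := Nat.cast_injective (R := ℂ) ((he χ).symm.trans hk)
  haveI : (N.subgroupOf T).Normal := Subgroup.normal_subgroupOf
  let E : N.subgroupOf T ≃* N := Subgroup.subgroupOfEquivOfLe hNT
  have hdvd : k ∣ (N.subgroupOf T).index :=
    CfsgLib.CharactersDeep.ExtensionCriteria.ramification_dvd_index (N.subgroupOf T) (θ := fun x => θ (E x))
      (CfsgLib.Characters.isIrr_comp E.toMonoidHom E.surjective hθ)
      (fun t x => congrFun t.2 (E x)) hψ hk0 (funext fun x => congrFun hψN (E x))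
  have hdvd2 : k ∣ N.index := hdvd.trans (Subgroup.relIndex_dvd_index_of_normal N T)
  obtain ⟨j, hj⟩ := IsPGroup.iff_card.1 h2
  rw [Subgroup.index_eq_card, hj] at hdvd2
  obtain ⟨i, -, rfl⟩ := (Nat.dvd_prime_pow Nat.prime_two).1 hdvd2
  have hi : i = 0 := by
    by_contra hi
    rw [hek] at hodd'
    exact (Nat.not_odd_iff_even.2 ((Nat.even_pow' hi).2 even_two)) hodd'.2
  rw [hi, pow_zero] at hk
  rw [finsum_eq_sum_of_fintype]
  simpa [Cfsg.classInner] using hk

end Cfsg.Agent.S4872
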