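import Cfsg.Statements.S4873
-- import your own Cfsg.Agent.* helpers here

import Cfsg.Agent.RealChars.Basic
import Cfsg.Agent.SquareRoots.Basic
import Cfsg.Agent.RealElements.Basic
import Cfsg.Agent.CharactersDeep.Clifford
set_option autoImplicit false
open Cfsg

namespace Cfsg.Agent.S4873

/-- Let N be a normal subgroup of odd index in the finite group G. Then every irreducible complex character of N with Frobenius–Schur indicator +1 lies under exactly one irreducible character of G with Frobenius–Schur indicator +1. -/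
theorem result {G : Type*} [Group G] [Finite G] (N : Subgroup G) [N.Normal] (hodd : Odd N.index) (φ : Cfsg.IrrCharacter ↥N) (hφ : (Nat.card ↥N : ℂ)⁻¹ * ∑ᶠ g : ↥N, (φ : ↥N → ℂ) (g * g) = 1) : ∃! χ : Cfsg.IrrCharacter G, (Nat.card G : ℂ)⁻¹ * ∑ᶠ g : G, (χ : G → ℂ) (g * g) = 1 ∧ (∑ᶠ n : ↥N, (χ : G → ℂ) n * (starRingEnd ℂ) ((φ : ↥N → ℂ) n)) ≠ 0 := by
  
  classical
  haveI := Fintype.ofFinite G
  haveI := Fintype.ofFinite N
  set φ' : CfsgLib.RealChars.RealIrr N := ⟨φ, fun k => by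
    by_contra hk
    have h0 := CfsgLib.SquareRoots.indicator_eq_zero_of_not_real φ.2 (fun hall => hk (hall k))
    rw [CfsgLib.SquareRoots.indicator] at h0
    rw [h0] at hφ
    exact zero_ne_one hφ⟩
  -- `G` has as many real classes as orbits of real characters of `N`
  have hcount : Nat.card {χ : Cfsg.IrrCharacter G // ∀ y, ((χ : G → ℂ) y).im = 0} ≤
      Nat.card (Quot (CfsgLib.RealChars.irrRel N)) := by
    rw [CfsgLib.RealChars.card_real_irr, CfsgLib.RealChars.card_quot_real N hodd]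
    have hsurj : ∀ C : {C : ConjClasses G // ∀ y, ConjClasses.mk y = C → IsConj y y⁻¹},
        ∃ x : {x : N // IsConj x x⁻¹}, ConjClasses.mk (x.1 : G) = C.1 := by
      rintro ⟨C, hC⟩
      obtain ⟨z, rfl⟩ := ConjClasses.mk_surjective C
      obtain ⟨t, ⟨j, hj⟩, ht⟩ := CfsgLib.RealElements.exists_two_element_inverting (hC z rfl)
      have hNodd : Odd (Nat.card (G ⧸ N)) := hodd
      have htN : t ∈ N := by
        rw [← QuotientGroup.eq_one_iff]
        refine CfsgLib.RealElements.eq_one_of_two_pow_of_odd (j := j) ?_ hNodd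
        rw [← QuotientGroup.mk_pow, ← hj, pow_orderOf_eq_one, QuotientGroup.mk_one]
      have hzN : z ∈ N := by
        have h2 : (z : G ⧸ N) ^ (2 ^ 1) = 1 := by
          have h3 : ((t * z * t⁻¹ : G) : G ⧸ N) = (z : G ⧸ N)⁻¹ := by rw [ht]; rfl
          rw [QuotientGroup.mk_mul, QuotientGroup.mk_mul, QuotientGroup.mk_inv,
            (QuotientGroup.eq_one_iff t).2 htN, one_mul, inv_one, mul_one] at h3
          rw [pow_one, sq]
          exact mul_eq_one_iff_eq_inv.2 h3
        exact (QuotientGroup.eq_one_iff z).1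
          (CfsgLib.RealElements.eq_one_of_two_pow_of_odd h2 hNodd)
      exact ⟨⟨⟨z, hzN⟩, isConj_iff.2 ⟨⟨t, htN⟩, Subtype.ext ht⟩⟩, rfl⟩
    choose f hf using hsurj
    refine Nat.card_le_card_of_injective (fun C => Quot.mk (CfsgLib.RealChars.eltRel N) (f C))
      fun C D hCD => Subtype.ext ?_
    rw [← hf C, ← hf D]
    exact congrArg (Quot.lift (fun x : {x : N // IsConj x x⁻¹} => ConjClasses.mk (x.1 : G))
      (fun x y ⟨g, hg⟩ => ConjClasses.mk_eq_mk_iff_isConj.2 (isConj_iff.2 ⟨g, hg.symm⟩))) hCD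
  -- multiplicities weighted by the indicators
  have hid : ∀ θ : Cfsg.IrrCharacter N, ∑ χ : Cfsg.IrrCharacter G,
      CfsgLib.SquareRoots.indicator (χ : G → ℂ) *
        Cfsg.classInner (fun n : N => (χ : G → ℂ) n) (θ : N → ℂ) =
      CfsgLib.SquareRoots.indicator (θ : N → ℂ) := by
    intro θ
    have hroot : ∀ n : N, (Nat.card {x : G // x * x = n} : ℂ) = Nat.card {y : N // y * y = n} := by
      intro n
      rw [Nat.cast_inj]
      refine Nat.card_congr ⟨fun x => ⟨⟨x.1, ?_⟩, Subtype.ext x.2⟩, fun y => ⟨y.1,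
        congrArg Subtype.val y.2⟩, fun x => rfl, fun y => rfl⟩
      have h2 : ((x.1 : G) : G ⧸ N) ^ (2 ^ 1) = 1 := by
        rw [pow_one, sq, ← QuotientGroup.mk_mul, x.2, QuotientGroup.eq_one_iff]
        exact n.2
      exact (QuotientGroup.eq_one_iff x.1).1
        (CfsgLib.RealElements.eq_one_of_two_pow_of_odd h2 hodd)
    have he : (∑ χ : Cfsg.IrrCharacter G, CfsgLib.SquareRoots.indicator (χ : G → ℂ) •
        fun n : N => (χ : G → ℂ) n) =
        ∑ η : Cfsg.IrrCharacter N, CfsgLib.SquareRoots.indicator (η : N → ℂ) • (η : N → ℂ) := by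
      funext n
      simp only [Finset.sum_apply, Pi.smul_apply, smul_eq_mul]
      rw [← CfsgLib.SquareRoots.card_sqrt_eq, ← CfsgLib.SquareRoots.card_sqrt_eq, hroot]
    have := congrArg (fun F => Cfsg.classInner F (θ : N → ℂ)) he
    simpa only [CfsgLib.Characters.classInner_sum_left, CfsgLib.Characters.classInner_smul_left,
      CfsgLib.Characters.classInner_irr, mul_ite, mul_one, mul_zero,
      Finset.sum_ite_eq', Finset.mem_univ, if_true] using this
  -- real characters lying over real characters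
  have hover : ∀ θ : CfsgLib.RealChars.RealIrr N, ∃ χ : Cfsg.IrrCharacter G,
      (∀ y, ((χ : G → ℂ) y).im = 0) ∧
        Cfsg.classInner (fun n : N => (χ : G → ℂ) n) (θ.1 : N → ℂ) ≠ 0 := by
    intro θ
    by_contra hne
    have h := hid θ.1
    rw [Finset.sum_eq_zero] at h
    · rcases CfsgLib.SquareRoots.indicator_of_real θ.1.2 θ.2 with e | e <;> rw [e] at h <;>
        norm_num at h
    · intro χ _
      by_cases hr : ∀ y, ((χ : G → ℂ) y).im = 0
      · have : Cfsg.classInner (fun n : N => (χ : G → ℂ) n) (θ.1 : N → ℂ) = 0 := by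
          by_contra h0
          exact hne ⟨χ, hr, h0⟩
        rw [this, mul_zero]
      · rw [CfsgLib.SquareRoots.indicator_eq_zero_of_not_real χ.2 hr, zero_mul]
  have hsame : ∀ (χ : Cfsg.IrrCharacter G) (θ η : CfsgLib.RealChars.RealIrr N),
      Cfsg.classInner (fun n : N => (χ : G → ℂ) n) (θ.1 : N → ℂ) ≠ 0 →
      Cfsg.classInner (fun n : N => (χ : G → ℂ) n) (η.1 : N → ℂ) ≠ 0 →
      Quot.mk (CfsgLib.RealChars.irrRel N) η = Quot.mk (CfsgLib.RealChars.irrRel N) θ := by
    intro χ θ η h1 h2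
    obtain ⟨g, hg⟩ :=
      CfsgLib.CharactersDeep.Clifford.exists_conjBy_of_constituents N χ.2 θ.1.2 η.1.2 h1 h2
    refine Quot.sound ⟨g, fun k k' hk => ?_⟩
    rw [hg]
    simp only [CfsgLib.OddOrderChar.conjBy]
    exact congrArg _ (Subtype.ext hk)
  let RG := {χ : Cfsg.IrrCharacter G // ∀ y, ((χ : G → ℂ) y).im = 0}
  let Ψ : RG → Quot (CfsgLib.RealChars.irrRel N) := fun χ =>
    if h : ∃ θ : CfsgLib.RealChars.RealIrr N,
        Cfsg.classInner (fun n : N => (χ.1 : G → ℂ) n) (θ.1 : N → ℂ) ≠ 0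
    then Quot.mk _ h.choose else Quot.mk _ φ'
  have hΨ : ∀ (χ : RG) (θ : CfsgLib.RealChars.RealIrr N),
      Cfsg.classInner (fun n : N => (χ.1 : G → ℂ) n) (θ.1 : N → ℂ) ≠ 0 →
      Ψ χ = Quot.mk _ θ := by
    intro χ θ h
    have hex : ∃ θ : CfsgLib.RealChars.RealIrr N,
        Cfsg.classInner (fun n : N => (χ.1 : G → ℂ) n) (θ.1 : N → ℂ) ≠ 0 := ⟨θ, h⟩
    simp only [Ψ, dif_pos hex]
    exact hsame χ.1 θ _ h hex.choose_spec
  have hsurjΨ : Function.Surjective Ψ := by
    rintro ⟨θ⟩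
    obtain ⟨χ, hr, hne⟩ := hover θ
    exact ⟨⟨χ, hr⟩, hΨ ⟨χ, hr⟩ θ hne⟩
  have hinjΨ : Function.Injective Ψ := by
    haveI := Fintype.ofFinite (Quot (CfsgLib.RealChars.irrRel N))
    exact (Function.Bijective.injective ((Fintype.bijective_iff_surjective_and_card Ψ).2
      ⟨hsurjΨ, le_antisymm (by simpa [← Nat.card_eq_fintype_card] using hcount)
        (Fintype.card_le_of_surjective Ψ hsurjΨ)⟩))
  obtain ⟨χ₀, hr₀, hne₀⟩ := hover φ'
  have huniq : ∀ χ : Cfsg.IrrCharacter G, (∀ y, ((χ : G → ℂ) y).im = 0) →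
      Cfsg.classInner (fun n : N => (χ : G → ℂ) n) (φ : N → ℂ) ≠ 0 → χ = χ₀ := fun χ hr hne =>
    congrArg Subtype.val (hinjΨ ((hΨ ⟨χ, hr⟩ φ' hne).trans (hΨ ⟨χ₀, hr₀⟩ φ' hne₀).symm))
  have hsum := hid φ
  rw [Finset.sum_eq_single χ₀ (fun χ _ hχ => ?_) (fun h => absurd (Finset.mem_univ _) h)] at hsum
  swap
  · by_cases hr : ∀ y, ((χ : G → ℂ) y).im = 0
    · have : Cfsg.classInner (fun n : N => (χ : G → ℂ) n) (φ : N → ℂ) = 0 := by
        by_contra h0
        exact hχ (huniq χ hr h0)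
      rw [this, mul_zero]
    · rw [CfsgLib.SquareRoots.indicator_eq_zero_of_not_real χ.2 hr, zero_mul]
  rw [show CfsgLib.SquareRoots.indicator (φ : N → ℂ) = 1 from hφ] at hsum
  obtain ⟨e, he⟩ := CfsgLib.Characters.classInner_character_irr
    (CfsgLib.Characters.isCharacter_restrict N (CfsgLib.Characters.isCharacter_of_isIrr χ₀.2)) φ.2
  rw [he] at hsum
  have hν : CfsgLib.SquareRoots.indicator (χ₀ : G → ℂ) = 1 := by
    rcases CfsgLib.SquareRoots.indicator_of_real χ₀.2 hr₀ with h | h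
    · exact h
    · rw [h, neg_one_mul] at hsum
      have := congrArg Complex.re hsum
      simp only [Complex.neg_re, Complex.natCast_re, Complex.one_re] at this
      have : (0 : ℝ) ≤ e := Nat.cast_nonneg _
      linarith
  have hconv : ∀ χ : Cfsg.IrrCharacter G,
      (∑ᶠ n : N, (χ : G → ℂ) n * (starRingEnd ℂ) ((φ : N → ℂ) n)) =
        (Nat.card N : ℂ) * Cfsg.classInner (fun n : N => (χ : G → ℂ) n) (φ : N → ℂ) := fun χ => by
    rw [finsum_eq_sum_of_fintype, Cfsg.classInner, ← mul_assoc,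
      mul_inv_cancel₀ CfsgLib.Characters.natCard_ne_zero, one_mul]
  refine ⟨χ₀, ⟨hν, ?_⟩, ?_⟩
  · rw [hconv]
    exact mul_ne_zero CfsgLib.Characters.natCard_ne_zero hne₀
  · rintro χ ⟨hi, hne⟩
    rw [hconv] at hne
    refine huniq χ (fun y => ?_) (right_ne_zero_of_mul hne)
    by_contra hy
    have h0 := CfsgLib.SquareRoots.indicator_eq_zero_of_not_real χ.2 (fun hall => hy (hall y))
    rw [CfsgLib.SquareRoots.indicator] at h0
    rw [h0] at hi
    exact zero_ne_one hi

end Cfsg.Agent.S4873
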