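import Cfsg.Statements.S4878
import Cfsg.Agent.CoprimeTransitive.Reduce
import Cfsg.Agent.CoprimeTransitive.Exception
import Cfsg.Agent.CoprimeTransitive.Bound

set_option autoImplicit false
open Cfsg

namespace Cfsg.Agent.S4878

open Matrix CfsgLib.CoprimeTrans

/-- A one-dimensional affine datum with trivial kernel and full multiplicative group. -/
theorem iso_affine {G : Type*} [Group G] [Finite G] {H : Type*} [Group H] [Finite H] {p : ℕ}
    [Fact p.Prime] (D : AffData G H p 1) (hK : D.kern = ⊥) :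
    Nonempty (G ≃* ↥(Cfsg.affineGroup (ZMod p))) := by
  classical
  let a : G → (ZMod p)ˣ := fun g => Matrix.GeneralLinearGroup.det (D.ρ (D.f g))
  have ha : ∀ g (v : Fin 1 → ZMod p),
      ((D.ρ (D.f g) : Matrix (Fin 1) (Fin 1) (ZMod p)) *ᵥ v) 0 = (a g : ZMod p) * v 0 := fun g v => by
    show _ = (D.ρ (D.f g) : Matrix (Fin 1) (Fin 1) (ZMod p)).det * v 0
    rw [Matrix.det_fin_one, Matrix.mulVec, dotProduct, Fin.sum_univ_one]
  let perm : G → Equiv.Perm (ZMod p) := fun g =>
    (Units.mulLeft (a g)).trans (Equiv.addRight (D.b g 0))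
  have hperm : ∀ g x, perm g x = (a g : ZMod p) * x + D.b g 0 := fun g x => rfl
  let Φ : G →* ↥(Cfsg.affineGroup (ZMod p)) :=
    { toFun := fun g => ⟨perm g, a g, D.b g 0, hperm g⟩
      map_one' := Subtype.ext (Equiv.ext fun x => by
        show perm 1 x = x
        rw [hperm, D.b_one, show a 1 = 1 by simp [a], Units.val_one, one_mul, Pi.zero_apply, add_zero])
      map_mul' := fun g g' => Subtype.ext (Equiv.ext fun x => by
        show perm (g * g') x = perm g (perm g' x)
        rw [hperm, hperm, hperm, D.cocycle, Pi.add_apply, ha, show a (g * g') = a g * a g' by simp [a],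
          Units.val_mul]
        ring) }
  refine ⟨MulEquiv.ofBijective Φ ⟨(injective_iff_map_eq_one Φ).2 fun g hg => ?_, ?_⟩⟩
  · have h0 : ∀ x, perm g x = x := fun x => DFunLike.congr_fun (congrArg Subtype.val hg) x
    have hb : D.b g 0 = 0 := by simpa [hperm] using h0 0
    have ha1 : (a g : ZMod p) = 1 := by simpa [hperm, hb] using h0 1
    have hf : D.f g = 1 := by
      refine D.inj ?_
      rw [map_one]
      refine Units.ext (Matrix.ext fun i j => ?_)
      fin_cases i; fin_cases j
      have := ha1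
      simp only [a, Matrix.GeneralLinearGroup.val_det_apply, Matrix.det_fin_one] at this
      simpa using this
    have : g ∈ D.kern := ⟨hf, funext fun i => by fin_cases i; exact hb⟩
    rwa [hK, Subgroup.mem_bot] at this
  · rintro ⟨σ, u, c, hσ⟩
    obtain ⟨h, hh⟩ := D.trans (fun _ => 1) (fun _ => (u : ZMod p))
      (fun h => one_ne_zero (congrFun h 0)) (fun h => u.ne_zero (congrFun h 0))
    obtain ⟨g, hg1, hg2⟩ := D.full h fun _ => c
    refine ⟨g, Subtype.ext (Equiv.ext fun x => ?_)⟩
    show perm g x = σ x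
    have hau : (a g : ZMod p) = u := by
      have h1 := ha g fun _ => 1
      rw [hg1, hh] at h1
      simpa using h1.symm
    rw [hperm, hσ, hau, hg2]

/-- A free affine datum with trivial kernel is a Frobenius group. -/
theorem exists_complement {G : Type*} [Group G] [Finite G] {H : Type*} [Group H] [Finite H]
    {p n : ℕ} [Fact p.Prime] (D : AffData G H p n) (hn : 1 ≤ n) (hK : D.kern = ⊥)
    (hfree : D.IsFreeNZ) (hH : 1 < Nat.card H) :
    ∃ C : Subgroup G, Cfsg.IsFrobeniusComplement C ∧ Nonempty (↥C ≃* H) := by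
  classical
  let C : Subgroup G :=
    { carrier := {g | D.b g = 0}
      one_mem' := D.b_one
      mul_mem' := fun {x y} (hx : D.b x = 0) (hy : D.b y = 0) => show D.b (x * y) = 0 by
        rw [D.cocycle, hx, hy, mulVec_zero, add_zero]
      inv_mem' := fun {x} (hx : D.b x = 0) => show D.b x⁻¹ = 0 by
        have h := D.b_inv x
        rw [hx, neg_zero] at h
        exact Matrix.mulVec_injective_of_isUnit (D.ρ _).isUnit (by rw [h, mulVec_zero]) }
  have hbij : Function.Bijective (D.f.comp C.subtype) := by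
    refine ⟨(injective_iff_map_eq_one _).2 fun x hx => Subtype.ext ?_, fun h => ?_⟩
    · have : (x : G) ∈ D.kern := ⟨hx, x.2⟩
      rwa [hK, Subgroup.mem_bot] at this
    · obtain ⟨g, hg1, hg2⟩ := D.full h 0
      exact ⟨⟨g, hg2⟩, hg1⟩
  let e : ↥C ≃* H := MulEquiv.ofBijective _ hbij
  refine ⟨C, ⟨fun h => ?_, fun h => ?_, fun g hg => ?_⟩, ⟨e⟩⟩
  · rw [← Nat.card_congr e.toEquiv, h, Subgroup.card_bot] at hH
    omega
  · obtain ⟨g, -, hg2⟩ := D.full 1 (Pi.single ⟨0, hn⟩ 1)
    have hgC : g ∈ C := h ▸ Subgroup.mem_top g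
    have h0 := congrFun (hg2.symm.trans hgC) ⟨0, hn⟩
    rw [Pi.single_eq_same, Pi.zero_apply] at h0
    exact one_ne_zero h0
  · rw [eq_bot_iff]
    rintro x ⟨hx, hx'⟩
    obtain ⟨c, hc, rfl⟩ := hx'
    change g * c * g⁻¹ ∈ C at hx
    change g * c * g⁻¹ = 1
    have hc' : D.b c = 0 := hc
    have h1 : D.b (g * c * g⁻¹) = 0 := hx
    rw [D.cocycle, D.cocycle g c, hc', mulVec_zero, add_zero] at h1
    have h2 : (D.ρ (D.f (g * c * g⁻¹)) : Matrix (Fin n) (Fin n) (ZMod p)) *ᵥ D.b g = D.b g := by
      have h3 : D.b (g * c * g⁻¹ * g) = D.b g := by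
        rw [inv_mul_cancel_right, D.cocycle, hc', mulVec_zero, add_zero]
      rwa [D.cocycle (g * c * g⁻¹) g, show D.b (g * c * g⁻¹) = 0 from hx, zero_add] at h3
    have hf : D.f (g * c * g⁻¹) = 1 := hfree _ _ hg h2
    have : g * c * g⁻¹ ∈ D.kern := ⟨hf, hx⟩
    rwa [hK, Subgroup.mem_bot] at this

/-- Let p be a prime and G a finite p-solvable group of order divisible by p in which all non-identity p-elements are conjugate. Then G has at least p conjugacy classes of p-regular elements; or G has exactly p − 1 of them and is isomorphic to the one-dimensional affine group over the field with p elements; or p = 11, G has exactly 9 of them, G has order 121·120 and G is a Frobenius group whose complement is isomorphic to SL(2,5). -/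
theorem result {G : Type*} [Group G] [Finite G] (p : ℕ) [Fact p.Prime] (hsolv : Cfsg.IsPSolvable p G) (hdiv : p ∣ Nat.card G) (hconj : ∀ x y : G, x ≠ 1 → y ≠ 1 → (∃ k : ℕ, orderOf x = p ^ k) → (∃ k : ℕ, orderOf y = p ^ k) → IsConj x y) : p ≤ Nat.card {c : ConjClasses G // ∃ g : G, ConjClasses.mk g = c ∧ ¬ p ∣ orderOf g} ∨ (Nat.card {c : ConjClasses G // ∃ g : G, ConjClasses.mk g = c ∧ ¬ p ∣ orderOf g} = p - 1 ∧ Nonempty (G ≃* ↥(Cfsg.affineGroup (ZMod p)))) ∨ (p = 11 ∧ Nat.card {c : ConjClasses G // ∃ g : G, ConjClasses.mk g = c ∧ ¬ p ∣ orderOf g} = 9 ∧ (Nat.card G = 121 * 120 ∧ ∃ H : Subgroup G, Cfsg.IsFrobeniusComplement H ∧ Nonempty (↥H ≃* Matrix.SpecialLinearGroup (Fin 2) (ZMod 5)))) := by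
  obtain ⟨n, hn, H, _, _, ⟨D⟩⟩ := exists_affData hsolv hdiv hconj
  have hle := D.classes_le
  have hp : p.Prime := Fact.out
  rcases classes_bound D.ρ D.inj D.coprime D.trans hn with hb | ⟨rfl, hk, hcard⟩ | ⟨rfl, rfl, hcard, hk, hsc⟩
  · exact Or.inl (hb.trans hle)
  · by_cases hK : D.kern = ⊥
    · have hfree : D.IsFreeNZ := fun h v hv hfix =>
        free_of_card D.ρ D.trans (by rw [pow_one, hcard]) hv hfix
      refine Or.inr (Or.inl ⟨?_, iso_affine D hK⟩)
      rw [← hk]
      exact D.classes_eq hfree hK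
    · left
      have := D.classes_succ_le hK
      have := hp.one_le
      change p ≤ Nat.card (PReg G p)
      omega
  · by_cases hK : D.kern = ⊥
    · have hfree : D.IsFreeNZ := fun h v hv hfix =>
        free_of_card D.ρ D.trans (by rw [hcard]; norm_num) hv hfix
      refine Or.inr (Or.inr ⟨rfl, ?_, ?_, ?_⟩)
      · rw [← hk]
        exact D.classes_eq hfree hK
      · rw [D.card_eq, hK, Subgroup.card_bot, hcard]
        norm_num
      · obtain ⟨C, hC, ⟨e⟩⟩ := exists_complement D one_le_two hK hfree (by rw [hcard]; norm_num)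
        obtain ⟨e'⟩ := exceptional_iso D.ρ D.inj D.trans rfl hcard hk hsc
        exact ⟨C, hC, ⟨e.trans e'⟩⟩
    · exact Or.inl (D.exception_classes hcard hk hsc hK)

end Cfsg.Agent.S4878
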