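import Cfsg.Statements.S4886
-- import your own Cfsg.Agent.* helpers here

import Cfsg.Agent.S4885
import Cfsg.Agent.PQBlocks.Main

set_option autoImplicit false
open Cfsg

namespace Cfsg.Agent.S4886

/-- Let p ≠ q be primes and G a finite group that is p-solvable and q-solvable. Fix maximal ideals of the algebraic integers containing p and q, defining the principal p-block and the principal q-block. Then every irreducible character of degree prime to p in the principal p-block has degree prime to q and every irreducible character of degree prime to q in the principal q-block has degree prime to p, if and only if some Sylow p-subgroup of G commutes elementwise with some Sylow q-subgroup. -/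
theorem result {G : Type*} [Group G] [Finite G] (p q : ℕ) [Fact p.Prime] [Fact q.Prime] (hpq : p ≠ q) (Mp Mq : Ideal Cfsg.AlgInt) (hMp : Cfsg.IsPModular p Mp) (hMq : Cfsg.IsPModular q Mq) (hps : Cfsg.IsPSolvable p G) (hqs : Cfsg.IsPSolvable q G) : ((∀ χ : Cfsg.IrrCharacter G, χ ∈ Cfsg.principalBlock Mp G → ¬ p ∣ Cfsg.charDegree (χ : G → ℂ) → ¬ q ∣ Cfsg.charDegree (χ : G → ℂ)) ∧ (∀ χ : Cfsg.IrrCharacter G, χ ∈ Cfsg.principalBlock Mq G → ¬ q ∣ Cfsg.charDegree (χ : G → ℂ) → ¬ p ∣ Cfsg.charDegree (χ : G → ℂ))) ↔ ∃ (P : Sylow p G) (Q : Sylow q G), ∀ x ∈ (P : Subgroup G), ∀ y ∈ (Q : Subgroup G), x * y = y * x := by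
  classical
  letI : Fintype G := Fintype.ofFinite G
  haveI : Mp.IsPrime := hMp.2.1.isPrime
  haveI : Mq.IsPrime := hMq.2.1.isPrime
  have hmem : ∀ (r : ℕ) [Fact r.Prime] (M : Ideal Cfsg.AlgInt) [M.IsPrime],
      Cfsg.IsPModular r M → Cfsg.IsPSolvable r G → ∀ χ : Cfsg.IrrCharacter G,
      χ ∈ Cfsg.principalBlock M G ↔
        ∀ g ∈ Cfsg.pPrimeCore r G, (χ : G → ℂ) g = (χ : G → ℂ) 1 := by
    intro r _ M _ hM hs χ
    exact ⟨fun h g hg => CfsgLib.PrincipalBlock.mem_charKer.1
        (CfsgLib.PrincipalBlock.le_charKer_of_mem hM (Cfsg.pPrimeCore r G)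
          (CfsgLib.PLocal.not_dvd_iff_coprime.1 (CfsgLib.PLocal.coprime_card_pPrimeCore r G)) h hg),
      fun h => Cfsg.Agent.S4885.mem_block hM hs
        fun g hg => CfsgLib.PrincipalBlock.mem_charKer.2 (h g hg)⟩
  constructor
  · rintro ⟨h1, h2⟩
    obtain ⟨hA, hB⟩ := CfsgLib.PQBlocks.index_conditions p q hpq (Nat.card G) G le_rfl hps hqs
      (fun χ hχ => h1 χ ((hmem p Mp hMp hps χ).2 hχ))
      (fun χ hχ => h2 χ ((hmem q Mq hMq hqs χ).2 hχ))
    exact CfsgLib.PQBlocks.exists_commuting hpq hA hB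
  · rintro ⟨P, Q, h⟩
    exact ⟨fun χ hχ => CfsgLib.PQBlocks.not_dvd_charDegree_of_core
        (CfsgLib.PQBlocks.not_dvd_index_core hpq hps P Q h) χ ((hmem p Mp hMp hps χ).1 hχ),
      fun χ hχ => CfsgLib.PQBlocks.not_dvd_charDegree_of_core
        (CfsgLib.PQBlocks.not_dvd_index_core hpq.symm hqs Q P fun y hy x hx => (h x hx y hy).symm) χ
        ((hmem q Mq hMq hqs χ).1 hχ)⟩

end Cfsg.Agent.S4886
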