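import Cfsg.Statements.S4888
-- import your own Cfsg.Agent.* helpers here

import Cfsg.Agent.BlockPairing.Heights
import Cfsg.Agent.BlocksCharsC.RegularSupport
import Cfsg.Agent.PrincipalBlock.Basic
import Cfsg.Agent.Transfer.Tate
import Cfsg.Agent.Characters.Linear
import Mathlib.GroupTheory.FiniteAbelian.Duality

set_option autoImplicit false
set_option linter.style.haveILetI false
open Cfsg

namespace Cfsg.Agent.S4888

/-- Let G be a finite group, p a prime and M a maximal ideal of the algebraic integers containing p. Then all height-zero irreducible characters of the principal p-block of G (equivalently, all its characters of degree prime to p) have the same degree if and only if G has a normal p-complement. -/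
theorem result {G : Type*} [Group G] [Finite G] (p : ℕ) [Fact p.Prime] (M : Ideal Cfsg.AlgInt) (hM : Cfsg.IsPModular p M) : (∃ d : ℕ, ∀ χ : Cfsg.IrrCharacter G, χ ∈ (Cfsg.principalBlock M G) → Cfsg.blockHeight p (Cfsg.principalBlock M G) (χ : G → ℂ) = 0 → Cfsg.charDegree (χ : G → ℂ) = d) ↔ Cfsg.HasNormalPComplement p G := by
  classical
  haveI := Fintype.ofFinite G
  haveI : M.IsPrime := hM.2.1.isPrime
  have hp : p.Prime := Fact.out
  set B := Cfsg.principalBlock M G with hB
  have hBb : Cfsg.IsPBlock M B := CfsgLib.BlocksCharsC.isPBlock_principalBlock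
  have hsInf : sInf ((fun χ : Cfsg.IrrCharacter G =>
      (Cfsg.charDegree (χ : G → ℂ)).factorization p) '' B) = 0 := by
    refine Nat.sInf_eq_zero.2 (Or.inl ⟨CfsgLib.PrincipalBlock.trivChar G,
      CfsgLib.PrincipalBlock.trivChar_mem, ?_⟩)
    show (Cfsg.charDegree (fun _ : G => (1 : ℂ))).factorization p = 0
    simp [Cfsg.charDegree]
  have hht : ∀ χ : Cfsg.IrrCharacter G, Cfsg.blockHeight p B (χ : G → ℂ) = 0 ↔
      ¬ p ∣ Cfsg.charDegree (χ : G → ℂ) := by
    intro χ
    rw [Cfsg.blockHeight, hsInf, Nat.sub_zero, Nat.factorization_eq_zero_iff]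
    have := CfsgLib.Blocks.charDegree_ne_zero χ
    tauto
  constructor
  · rintro ⟨d, hd⟩
    -- all these degrees are one
    have hd1 : d = 1 := by
      rw [← hd (CfsgLib.PrincipalBlock.trivChar G) CfsgLib.PrincipalBlock.trivChar_mem
        ((hht _).2 ?_)]
      · show Cfsg.charDegree (fun _ : G => (1 : ℂ)) = 1
        simp [Cfsg.charDegree]
      · show ¬ p ∣ Cfsg.charDegree (fun _ : G => (1 : ℂ))
        simp [Cfsg.charDegree, hp.one_lt.ne']
    subst hd1
    let P : Sylow p G := default
    haveI := Fintype.ofFinite (P : Subgroup G)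
    set S := ∑ χ : Cfsg.IrrCharacter G, if χ ∈ B then Cfsg.charDegree (χ : G → ℂ) ^ 2 else 0 with hS
    have hSf : S.factorization p = (Nat.card G).factorization p := by
      rw [hS, CfsgLib.BlockPairing.sum_degree_sq_factorization hM hBb, Cfsg.blockDefect, hsInf]
      omega
    -- every linear character of `P` extends
    have hext : ∀ l : (P : Subgroup G) →* ℂˣ, ∃ f : G →* ℂˣ, ∀ y : (P : Subgroup G),
        f y = l y := by
      intro l
      have hirr := CfsgLib.Characters.isIrr_linChar l
      have hcoef : ∀ χ : Cfsg.IrrCharacter G, ∃ m : ℕ, Cfsg.classInner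
          (fun y : (P : Subgroup G) => (χ : G → ℂ) y) (fun y => (l y : ℂ)) = m := fun χ =>
        CfsgLib.Characters.classInner_character_irr (CfsgLib.Characters.isCharacter_restrict _
          (CfsgLib.Characters.isCharacter_of_isIrr χ.2)) hirr
      choose m hm using hcoef
      have hkey : ((Nat.card (P : Subgroup G) : ℕ) : ℂ) *
          (∑ χ : Cfsg.IrrCharacter G,
            if χ ∈ B then ((Cfsg.charDegree (χ : G → ℂ) * m χ : ℕ) : ℂ) else 0) = (S : ℂ) := by
        have he : ∀ χ : Cfsg.IrrCharacter G,
            ((Nat.card (P : Subgroup G) : ℕ) : ℂ) *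
              (if χ ∈ B then ((Cfsg.charDegree (χ : G → ℂ) * m χ : ℕ) : ℂ) else 0) =
            ∑ y : (P : Subgroup G), (if χ ∈ B then (χ : G → ℂ) 1 * (χ : G → ℂ) y else 0) *
              starRingEnd ℂ (l y : ℂ) := by
          intro χ
          split_ifs
          · rw [Nat.cast_mul, ← hm, Cfsg.classInner, CfsgLib.Blocks.charDegree_cast]
            simp only [mul_assoc, ← Finset.mul_sum]
            rw [mul_left_comm _ ((χ : G → ℂ) 1), ← mul_assoc _ _ (Finset.sum _ _),
              mul_inv_cancel₀ (Nat.cast_ne_zero.2 Nat.card_pos.ne'), one_mul]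
          · simp
        rw [Finset.mul_sum, Finset.sum_congr rfl fun χ _ => he χ, Finset.sum_comm,
          Finset.sum_eq_single (1 : (P : Subgroup G))]
        · rw [hS, Nat.cast_sum, ← Finset.sum_mul, map_one, Units.val_one, map_one, mul_one]
          refine Finset.sum_congr rfl fun χ _ => ?_
          split_ifs
          · rw [Subgroup.coe_one, Nat.cast_pow, CfsgLib.Blocks.charDegree_cast, sq]
          · rw [Nat.cast_zero]
        · intro y _ hy
          rw [← Finset.sum_mul, CfsgLib.BlocksCharsC.sum_degree_mul_eq_zero hM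
            (CfsgLib.Blocks.isBlockUnion_of_isPBlock hBb) ?_, zero_mul]
          obtain ⟨k, hk⟩ := IsPGroup.iff_orderOf.1 P.isPGroup' y
          rw [Subgroup.orderOf_coe, hk]
          refine dvd_pow_self p fun h0 => hy ?_
          rw [h0, pow_zero] at hk
          exact orderOf_eq_one_iff.1 hk
        · exact fun h => absurd (Finset.mem_univ _) h
      set n := ∑ χ : Cfsg.IrrCharacter G, if χ ∈ B then Cfsg.charDegree (χ : G → ℂ) * m χ else 0
        with hn
      have hnS : Nat.card (P : Subgroup G) * n = S := by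
        have : ((Nat.card (P : Subgroup G) * n : ℕ) : ℂ) = (S : ℂ) := by
          rw [Nat.cast_mul, hn, Nat.cast_sum, ← hkey]
          congr 1
          refine Finset.sum_congr rfl fun χ _ => ?_
          split_ifs <;> simp
        exact_mod_cast this
      have hS0 : S ≠ 0 := by
        intro h0
        have := (Finset.sum_eq_zero_iff.1 (hS ▸ h0)) (CfsgLib.PrincipalBlock.trivChar G)
          (Finset.mem_univ _)
        rw [if_pos CfsgLib.PrincipalBlock.trivChar_mem] at this
        exact CfsgLib.Blocks.charDegree_ne_zero _ (pow_eq_zero_iff two_ne_zero |>.1 this)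
      have hpn : ¬ p ∣ n := by
        intro hdvd
        have hn0 : n ≠ 0 := fun h0 => hS0 (by rw [← hnS, h0, mul_zero])
        have h1 : (Nat.card (P : Subgroup G) * n).factorization p = S.factorization p := by rw [hnS]
        rw [Nat.factorization_mul Nat.card_pos.ne' hn0, Finsupp.add_apply, hSf,
          P.card_eq_multiplicity, hp.factorization_pow, Finsupp.single_eq_same] at h1
        have := hp.factorization_pos_of_dvd hn0 hdvd
        omega
      obtain ⟨χ, -, hχ⟩ : ∃ χ ∈ Finset.univ, ¬ p ∣
          (if χ ∈ B then Cfsg.charDegree (χ : G → ℂ) * m χ else 0) := by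
        by_contra hall
        push Not at hall
        exact hpn (hn ▸ Finset.dvd_sum hall)
      split_ifs at hχ with hχB
      swap
      · exact absurd (dvd_zero p) hχ
      have h1 := hd χ hχB ((hht χ).2 fun h => hχ (h.mul_right _))
      have hχ1 : (χ : G → ℂ) 1 = 1 := by
        rw [← CfsgLib.Blocks.charDegree_cast, h1, Nat.cast_one]
      obtain ⟨f, hf⟩ := CfsgLib.Characters.exists_hom_of_degree_one
        (CfsgLib.Characters.isCharacter_of_isIrr χ.2) hχ1
      refine ⟨f, fun y => ?_⟩
      by_contra hne
      have h0 := CfsgLib.Characters.classInner_isIrr_ne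
        (CfsgLib.Characters.isIrr_linChar (f.comp (P : Subgroup G).subtype)) hirr
        (fun he => hne (Units.ext (congrFun he y)))
      refine hχ ?_
      rw [show m χ = 0 from Nat.cast_eq_zero.1 ((hm χ).symm.trans (by rw [hf]; exact h0)), mul_zero]
      exact dvd_zero p
    refine CfsgLib.Transfer.hasNormalPComplement_of_commutator_inf_le P ?_
    rintro x ⟨hxG, hxP⟩
    rw [← Subgroup.map_subtype_commutator]
    refine ⟨⟨x, hxP⟩, ?_, rfl⟩
    by_contra hx
    let A := Abelianization (P : Subgroup G)
    haveI : Finite A := Quotient.finite _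
    have hne : (Abelianization.of ⟨x, hxP⟩ : A) ≠ 1 := fun he =>
      hx ((QuotientGroup.eq_one_iff _).1 he)
    obtain ⟨φ, hφ⟩ := CommGroup.exists_apply_ne_one_of_hasEnoughRootsOfUnity A ℂ hne
    obtain ⟨f, hf⟩ := hext (φ.comp Abelianization.of)
    exact hφ ((hf ⟨x, hxP⟩).symm.trans
      (MonoidHom.mem_ker.1 (Abelianization.commutator_subset_ker f hxG)))
  · intro hN
    refine ⟨1, fun χ hχ h0 => ?_⟩
    obtain ⟨P, N, hNn, hcompl⟩ := hN
    haveI := hNn
    have hle := CfsgLib.PrincipalBlock.le_charKer_of_mem hM N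
      (CfsgLib.Transfer.not_dvd_card_of_isComplement' hcompl) hχ
    obtain ⟨d, hd, hdvd⟩ := CfsgLib.PrincipalBlock.degree_dvd_index N χ hle
    have hdeg : Cfsg.charDegree (χ : G → ℂ) = d := by
      simp [Cfsg.charDegree, hd]
    rw [hcompl.symm.index_eq_card, P.card_eq_multiplicity] at hdvd
    obtain ⟨k, -, hk⟩ := (Nat.dvd_prime_pow hp).1 hdvd
    rw [hdeg, hk]
    rw [hht, hdeg, hk] at h0
    rcases Nat.eq_zero_or_pos k with hk0 | hk0
    · rw [hk0, pow_zero]
    · exact absurd (dvd_pow_self p hk0.ne') h0

end Cfsg.Agent.S4888
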