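import Cfsg.Statements.S4889
import Cfsg.Agent.EqualDegrees.Main
import Cfsg.Agent.Star.Nilpotent
import Cfsg.Agent.DefectOne.CyclicOver

set_option autoImplicit false
set_option linter.style.haveILetI false
open Cfsg

namespace Cfsg.Agent.S4889

/-- Let G be a finite group, p a prime, M a maximal ideal of the algebraic integers containing p, and B a p-block of G that has an abelian defect group and in which every irreducible character has height zero. Then all irreducible characters of B have the same degree if and only if B is a nilpotent block. -/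
theorem result {G : Type*} [Group G] [Finite G] (p : ℕ) [Fact p.Prime] (M : Ideal Cfsg.AlgInt) (hM : Cfsg.IsPModular p M) (B : Set (Cfsg.IrrCharacter G)) (hB : Cfsg.IsPBlock M B) (D : Subgroup G) (hD : Cfsg.IsDefectGroup p M B D) (hDab : IsMulCommutative ↥D) (h0 : ∀ χ : Cfsg.IrrCharacter G, χ ∈ B → Cfsg.blockHeight p B (χ : G → ℂ) = 0) : (∃ d : ℕ, ∀ χ : Cfsg.IrrCharacter G, χ ∈ B → Cfsg.charDegree (χ : G → ℂ) = d) ↔ Cfsg.IsNilpotentBlock p M B := by
  classical
  haveI := Fintype.ofFinite G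
  haveI := CfsgLib.Blocks.IsPModular.isPrime hM
  haveI := CfsgLib.Blocks.charP_res hM
  haveI := CfsgLib.BlockPairs.isAlgClosed_res hM
  have hab : ∀ x ∈ D, ∀ y ∈ D, x * y = y * x := fun x hx y hy =>
    congrArg Subtype.val (hDab.is_comm.comm (⟨x, hx⟩ : D) ⟨y, hy⟩)
  constructor
  · rintro ⟨d, hd⟩
    exact CfsgLib.EqualDegrees.isNilpotentBlock hM hB hD hab h0 hd
  · intro hnil
    have hgb := CfsgLib.BlockPairs.isBlock_gblk (M := M) hB
    obtain ⟨P, e, hmax⟩ := CfsgLib.BlockPairs.exists_maxPair (p := p) hgb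
    obtain ⟨χ₀, hχ₀⟩ := CfsgLib.Blocks.isPBlock_nonempty hB
    obtain ⟨Ψ, -, hB', hreg⟩ := CfsgLib.Star.exists_param hM hB hmax
      ((CfsgLib.BlockPairs.isNilpotentBlock_gblk_iff hB).1 hnil) hχ₀ (h0 χ₀ hχ₀)
    refine ⟨Cfsg.charDegree (χ₀ : G → ℂ), fun χ hχ => ?_⟩
    obtain ⟨θ, rfl⟩ := (hB' χ).1 hχ
    obtain ⟨x, -, hx⟩ := (CfsgLib.BlockPairs.IsMaxPair.isDefectGrp hgb hmax).1.conj_of
      ((CfsgLib.BlockPairs.isDefectGroup_gblk_iff hB D).1 hD)
    have hP : ∀ a b : P, a * b = b * a := by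
      intro a b
      have ha : (a : G) ∈ CfsgLib.BlockPairs.cj x D := hx.symm ▸ a.2
      have hb : (b : G) ∈ CfsgLib.BlockPairs.cj x D := hx.symm ▸ b.2
      obtain ⟨a', ha', hae⟩ := ha
      obtain ⟨b', hb', hbe⟩ := hb
      refine Subtype.ext ?_
      rw [Subgroup.coe_mul, Subgroup.coe_mul, ← hae, ← hbe, ← map_mul, hab a' ha' b' hb', map_mul]
    have h := hreg θ 1 (by rw [orderOf_one]; exact (Fact.out : p.Prime).not_dvd_one)
    rw [CfsgLib.DefectOne.irr_one_of_comm hP θ, one_mul] at h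
    simp only [Cfsg.charDegree, h]

end Cfsg.Agent.S4889
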