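import Cfsg.Statements.S4890
import Cfsg.Agent.EqualDegree.NormalNilpotent
import Cfsg.Agent.Star.Nilpotent

set_option autoImplicit false
set_option linter.style.haveILetI false
open Cfsg

namespace Cfsg.Agent.S4890

/-- Let G be a finite group, p a prime, M a maximal ideal of the algebraic integers containing p, and B a p-block of G with a defect group that is normal in G. Then all height-zero irreducible characters of B have the same degree if and only if B is a nilpotent block. -/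
theorem result {G : Type*} [Group G] [Finite G] (p : ℕ) [Fact p.Prime] (M : Ideal Cfsg.AlgInt) (hM : Cfsg.IsPModular p M) (B : Set (Cfsg.IrrCharacter G)) (hB : Cfsg.IsPBlock M B) (D : Subgroup G) (hD : Cfsg.IsDefectGroup p M B D) (hDn : D.Normal) : (∃ d : ℕ, ∀ χ : Cfsg.IrrCharacter G, χ ∈ B → Cfsg.blockHeight p B (χ : G → ℂ) = 0 → Cfsg.charDegree (χ : G → ℂ) = d) ↔ Cfsg.IsNilpotentBlock p M B := by
  classical
  haveI := Fintype.ofFinite G
  haveI := CfsgLib.Blocks.IsPModular.isPrime hM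
  haveI := CfsgLib.Blocks.charP_res hM
  haveI := CfsgLib.BlockPairs.isAlgClosed_res hM
  haveI := hDn
  constructor
  · rintro ⟨d, hd⟩
    exact CfsgLib.EqualDegree.isNilpotentBlock_of_equal_degrees hM hB hD hd
  · intro hnil
    have hgb := CfsgLib.BlockPairs.isBlock_gblk (M := M) hB
    obtain ⟨P, e, hmax⟩ := CfsgLib.BlockPairs.exists_maxPair (p := p) hgb
    have hP : Cfsg.IsDefectGroup p M B P :=
      (CfsgLib.BlockPairs.isDefectGroup_gblk_iff hB P).2
        (CfsgLib.BlockPairs.IsMaxPair.isDefectGrp hgb hmax).1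
    obtain ⟨χ₀, hχ₀, he⟩ := CfsgLib.Blocks.exists_degree_eq hM hB hP
    have h0 : Cfsg.blockHeight p B (χ₀ : G → ℂ) = 0 := by
      have := CfsgLib.Blocks.blockHeight_eq hM hB hP hχ₀
      omega
    obtain ⟨Ψ, -, hB', hreg⟩ := CfsgLib.Star.exists_param hM hB hmax
      ((CfsgLib.BlockPairs.isNilpotentBlock_gblk_iff hB).1 hnil) hχ₀ h0
    refine ⟨Cfsg.charDegree (χ₀ : G → ℂ), fun χ hχ hχ0 => ?_⟩
    obtain ⟨θ, rfl⟩ := (hB' χ).1 hχ
    have hdeg : Cfsg.charDegree (Ψ θ : G → ℂ) =
        Cfsg.charDegree (θ : P → ℂ) * Cfsg.charDegree (χ₀ : G → ℂ) := by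
      apply Nat.cast_injective (R := ℂ)
      rw [Nat.cast_mul, CfsgLib.Blocks.charDegree_cast, CfsgLib.Blocks.charDegree_cast,
        CfsgLib.Blocks.charDegree_cast]
      exact hreg θ 1 (by rw [orderOf_one]; exact (Fact.out : p.Prime).not_dvd_one)
    have hz := CfsgLib.Blocks.blockHeight_eq hM hB hP hχ
    rw [hχ0, hdeg, Nat.factorization_mul (CfsgLib.Blocks.charDegree_ne_zero θ)
      (CfsgLib.Blocks.charDegree_ne_zero χ₀), Finsupp.add_apply] at hz
    obtain ⟨n, hn⟩ := IsPGroup.iff_card.1 (CfsgLib.Blocks.IsDefectGroup.isPGroup hP)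
    obtain ⟨j, -, hj⟩ := (Nat.dvd_prime_pow (Fact.out : p.Prime)).1
      (hn ▸ CfsgLib.Blocks.charDegree_dvd_card θ)
    rw [hj, (Fact.out : p.Prime).factorization_pow, Finsupp.single_eq_same] at hz
    rw [hdeg, hj, show j = 0 by omega, pow_zero, one_mul]

end Cfsg.Agent.S4890
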