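import Cfsg.Statements.S4903
import Cfsg.Agent.DegreeSixteen.Final

set_option autoImplicit false
open Cfsg

namespace Cfsg.Agent.S4903

/-- Let G be a finite group with a faithful irreducible complex character of degree 16, p a prime with p ≥ 19, and P a Sylow p-subgroup of G. Then P is normal in G, or p = 31 and the quotient of G by its centre is isomorphic to PSL(2,31). -/
theorem result {G : Type*} [Group G] [Finite G] (χ : Cfsg.IrrCharacter G) (hdeg : Cfsg.charDegree (χ : G → ℂ) = 16) (hfaith : ∀ g : G, (χ : G → ℂ) g = (χ : G → ℂ) 1 → g = 1) (p : ℕ) [Fact p.Prime] (hp : 19 ≤ p) (P : Sylow p G) : (P : Subgroup G).Normal ∨ (p = 31 ∧ Nonempty (G ⧸ Subgroup.center G ≃* Matrix.ProjectiveSpecialLinearGroup (Fin 2) (ZMod 31))) := by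
  classical
  haveI := Fintype.ofFinite G
  obtain ⟨n, σ, hσ, hσχ⟩ := id χ.2
  haveI := hσ
  have hn : n = 16 := by
    rw [← hdeg, ← hσχ]; simp [Cfsg.charDegree, Representation.char_one]
  subst hn
  have hinj : Function.Injective σ := by
    rw [← MonoidHom.ker_eq_bot_iff, Subgroup.eq_bot_iff_forall]
    intro g hg
    refine hfaith g ?_
    rw [← hσχ, Representation.char_one]
    exact (CfsgLib.Characters.char_eq_finrank_iff σ g).2 hg
  let e : G ≃* CfsgLib.DegreeSixteen.Im σ := MulEquiv.ofBijective (CfsgLib.DegreeSixteen.toIm σ)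
    ⟨fun a b h => hinj (congrArg (CfsgLib.DegreeSixteen.imRep σ) h),
      CfsgLib.DegreeSixteen.toIm_surjective σ⟩
  haveI : Finite (CfsgLib.DegreeSixteen.Im σ) := Finite.of_equiv G e.toEquiv
  haveI : (CfsgLib.DegreeSixteen.imRep σ).IsIrreducible :=
    haveI := CfsgLib.Characters.nontrivial_of_isIrreducible σ
    CfsgLib.Characters.isIrreducible_of_forall (CfsgLib.DegreeSixteen.imRep σ) fun U hU => by
        rcases eq_bot_or_eq_top (⟨U, fun g v hv => hU (CfsgLib.DegreeSixteen.toIm σ g) v hv⟩ :
          Subrepresentation σ) with h | h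
        · exact Or.inl (congrArg Subrepresentation.toSubmodule h)
        · exact Or.inr (congrArg Subrepresentation.toSubmodule h)
  rcases CfsgLib.DegreeSixteen.normal_or_psl (CfsgLib.DegreeSixteen.imRep σ)
    (CfsgLib.DegreeSixteen.imRep_injective σ) hp with h | ⟨h31, ⟨f⟩⟩
  · left
    obtain ⟨Q, hQ⟩ := (P.isPGroup'.map e.toMonoidHom).exists_le_sylow
    have hPQ : (P : Subgroup G) = (Q : Subgroup _).comap e.toMonoidHom :=
      (P.is_maximal' (Q.isPGroup'.comap_of_injective e.toMonoidHom e.injective)
        (Subgroup.map_le_iff_le_comap.1 hQ)).symm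
    rw [hPQ]
    exact (h Q).comap _
  · right
    have hc : (Subgroup.center G).map e.toMonoidHom =
        Subgroup.center (CfsgLib.DegreeSixteen.Im σ) := by
      ext x
      constructor
      · rintro ⟨z, hz, rfl⟩
        refine Subgroup.mem_center_iff.2 fun y => ?_
        obtain ⟨w, rfl⟩ := e.surjective y
        exact (map_mul e w z).symm.trans ((congrArg e (Subgroup.mem_center_iff.1 hz w)).trans (map_mul e z w))
      · intro hx
        obtain ⟨z, rfl⟩ := e.surjective x
        exact ⟨z, Subgroup.mem_center_iff.2 fun w => e.injective (by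
          rw [map_mul, map_mul]; exact Subgroup.mem_center_iff.1 hx (e w)), rfl⟩
    exact ⟨h31, ⟨(QuotientGroup.congr _ _ e hc).trans f⟩⟩

end Cfsg.Agent.S4903
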