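import Cfsg.Statements.S4911
import Cfsg.Agent.RelGlauberman.RealInvariant
import Cfsg.Agent.Characters.Integrality
-- import your own Cfsg.Agent.* helpers here

set_option autoImplicit false
open Cfsg

namespace Cfsg.Agent.S4911

open CfsgLib.RelGlauberman CfsgLib.Characters

/-- Let P and K be subgroups of a finite group with P a p-group normalizing K and K of order prime to p. Then the number of P-invariant real-valued irreducible complex characters of K equals the number of conjugacy classes of K that are real (closed under inversion) and P-invariant. Moreover, if every real-valued irreducible character of K is P-invariant, then every real element of K (one conjugate in K to its inverse) is conjugate in K to an element centralized by P. -/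
theorem result {G : Type*} [Group G] [Finite G] (p : ℕ) [Fact p.Prime] (P K : Subgroup G) (hP : IsPGroup p ↥P) (hK : ¬ p ∣ Nat.card ↥K) (hPK : P ≤ Subgroup.normalizer (K : Set G)) : Nat.card {θ : Cfsg.IrrCharacter ↥K // (∀ k : ↥K, ((θ : ↥K → ℂ) k).im = 0) ∧ (∀ x ∈ P, ∀ k k' : ↥K, (k' : G) = x * (k : G) * x⁻¹ → (θ : ↥K → ℂ) k' = (θ : ↥K → ℂ) k)} = Nat.card {c : ConjClasses ↥K // (∀ k : ↥K, ConjClasses.mk k = c → IsConj k k⁻¹) ∧ ∀ k : ↥K, ConjClasses.mk k = c → ∀ x ∈ P, ∀ k' : ↥K, (k' : G) = x * (k : G) * x⁻¹ → ConjClasses.mk k' = c} ∧ ((∀ θ : Cfsg.IrrCharacter ↥K, (∀ k : ↥K, ((θ : ↥K → ℂ) k).im = 0) → (∀ x ∈ P, ∀ k k' : ↥K, (k' : G) = x * (k : G) * x⁻¹ → (θ : ↥K → ℂ) k' = (θ : ↥K → ℂ) k)) → ∀ k : ↥K, IsConj k k⁻¹ → ∃ k' : ↥K, IsConj k k' ∧ ∀ x ∈ P, x * (k' : G) * x⁻¹ = (k' : G)) := by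
  classical
  have hn : Normalises P K := normalises_of_le_normalizer hPK
  have hreal : ∀ c : ConjClasses K, (∀ k : K, ConjClasses.mk k = c → IsConj k k⁻¹) ↔ classInv c = c := by
    intro c
    induction c using Quotient.inductionOn with
    | h a =>
      constructor
      · intro h
        exact ((classInv_mk a).trans (ConjClasses.mk_eq_mk_iff_isConj.2 (h a rfl).symm))
      · intro h k hk
        apply ConjClasses.mk_eq_mk_iff_isConj.1
        rw [← classInv_mk k, hk]
        exact h.symm
  have hinv : ∀ c : ConjClasses K, (∀ k : K, ConjClasses.mk k = c → ∀ x ∈ P, ∀ k' : K,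
      (k' : G) = x * (k : G) * x⁻¹ → ConjClasses.mk k' = c) ↔
        ∀ y : P, (classAction hn).smul y c = c := by
    intro c
    induction c using Quotient.inductionOn with
    | h a =>
      constructor
      · intro h y
        exact h a rfl y y.2 ((conjAutInv hn y).symm a) (by simp [conjAutInv])
      · intro h k hk x hx k' hk'
        have hk'' : k' = (conjAutInv hn ⟨x, hx⟩).symm k := Subtype.ext (by simp [conjAutInv, hk'])
        rw [hk'', ← classAction_mk hn ⟨x, hx⟩ k, hk]
        exact h ⟨x, hx⟩
  have main := card_real_inv (p := p) hP hn hK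
  refine ⟨?_, fun hall k hk => ?_⟩
  · refine Eq.trans (Eq.trans ?_ main) (Nat.card_congr (Equiv.subtypeEquivRight fun c =>
      and_congr (hreal c).symm (hinv c).symm))
    exact Nat.card_congr (Equiv.subtypeEquivRight fun θ => Iff.rfl)
  -- every real class is fixed
  have hnb : Normalises (⊥ : Subgroup G) K := fun x hx k hk => by
    rw [Subgroup.mem_bot.1 hx]; simpa using hk
  have hall' := card_real_inv (p := p) (P := (⊥ : Subgroup G)) IsPGroup.of_bot hnb hK
  have hbotfix : ∀ (y : (⊥ : Subgroup G)) (c : ConjClasses K), (classAction hnb).smul y c = c := by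
    intro y c
    rw [Subsingleton.elim y 1]
    exact (classAction hnb).one_smul c
  have hbotinv : ∀ θ : Cfsg.IrrCharacter K, PInv (⊥ : Subgroup G) K (θ : K → ℂ) := by
    intro θ x hx k k' hk'
    rw [show k' = k from Subtype.ext (by simpa [Subgroup.mem_bot.1 hx] using hk')]
  have hfix : ∀ y : P, (classAction hn).smul y (ConjClasses.mk k) = ConjClasses.mk k := by
    have hsub : ∀ c : ConjClasses K, classInv c = c ∧ (∀ y : P, (classAction hn).smul y c = c) →
        classInv c = c ∧ (∀ y : (⊥ : Subgroup G), (classAction hnb).smul y c = c) :=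
      fun c h => ⟨h.1, fun y => hbotfix y c⟩
    have hbij : Function.Bijective (fun c : {c : ConjClasses K //
        classInv c = c ∧ ∀ y : P, (classAction hn).smul y c = c} =>
        (⟨c.1, hsub c.1 c.2⟩ : {c : ConjClasses K //
          classInv c = c ∧ ∀ y : (⊥ : Subgroup G), (classAction hnb).smul y c = c})) := by
      refine (Nat.bijective_iff_injective_and_card _).2
        ⟨fun a b h => Subtype.ext (congrArg Subtype.val h :), ?_⟩
      rw [← main, ← hall']
      exact Nat.card_congr (Equiv.subtypeEquivRight fun θ =>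
        ⟨fun h => ⟨h.1, hbotinv θ⟩, fun h => ⟨h.1, hall θ h.1⟩⟩)
    obtain ⟨⟨c, hc⟩, hce⟩ := hbij.2 ⟨ConjClasses.mk k,
      (classInv_mk k).trans (ConjClasses.mk_eq_mk_iff_isConj.2 hk.symm), fun y => hbotfix y _⟩
    have : c = ConjClasses.mk k := congrArg Subtype.val hce
    exact this ▸ hc.2
  -- a fixed point in the class
  let T := {x : K // IsConj x k}
  have hmove : ∀ (y : P) (x : T), IsConj ((conjAutInv hn y).symm x.1) k := by
    intro y x
    have h1 := hfix y
    rw [classAction_mk, ConjClasses.mk_eq_mk_iff_isConj] at h1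
    refine IsConj.trans ?_ h1
    exact (MonoidHom.map_isConj (conjAutInv hn y).symm.toMonoidHom x.2)
  letI : MulAction P T :=
    { smul := fun y x => ⟨(conjAutInv hn y).symm x.1, hmove y x⟩
      one_smul := fun x => Subtype.ext (Subtype.ext (show (1 : G) * _ * (1 : G)⁻¹ = _ by simp))
      mul_smul := fun y z x => Subtype.ext (Subtype.ext (show ((y : G) * z) * _ * ((y : G) * z)⁻¹ =
        (y : G) * ((z : G) * _ * (z : G)⁻¹) * (y : G)⁻¹ by group)) }
  haveI := Fintype.ofFinite K
  have hcard : ¬ p ∣ Nat.card T := by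
    rw [card_conjugates_eq_index]
    exact fun h => hK (h.trans (Subgroup.index_dvd_card _))
  obtain ⟨⟨x, hx⟩, hxfix⟩ := hP.nonempty_fixed_point_of_prime_not_dvd_card T hcard
  exact ⟨x, hx.symm, fun y hy => congrArg (fun t : T => ((t.1 : K) : G)) (hxfix ⟨y, hy⟩)⟩

end Cfsg.Agent.S4911
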