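import Cfsg.Statements.S4912
import Cfsg.Agent.CharactersDeep.Clifford
import Cfsg.Agent.SquareRoots.Basic
-- import your own Cfsg.Agent.* helpers here

set_option autoImplicit false
open Cfsg

namespace Cfsg.Agent.S4912

open CfsgLib.Characters CfsgLib.CharactersDeep CfsgLib.OddOrderChar CfsgLib.SquareRoots
open scoped ComplexConjugate Classical commutatorElement
open Matrix

section Schur

variable {N : Type*} [Group N] [Finite N] {d : ℕ}

/-- `E ↦ A n E (B n)ᵀ`. -/
noncomputable def pairRep (A B : N →* Matrix (Fin d) (Fin d) ℂ) :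
    Representation ℂ N (Matrix (Fin d) (Fin d) ℂ) where
  toFun g :=
    { toFun := fun E => A g * E * (B g)ᵀ
      map_add' := fun E F => by rw [Matrix.mul_add, Matrix.add_mul]
      map_smul' := fun c E => by rw [RingHom.id_apply, Matrix.mul_smul, Matrix.smul_mul] }
  map_one' := by ext E : 1; show A 1 * E * (B 1)ᵀ = E; simp
  map_mul' g h := by
    ext E : 1
    show A (g * h) * E * (B (g * h))ᵀ = A g * (A h * E * (B h)ᵀ) * (B g)ᵀ
    rw [map_mul, map_mul, Matrix.transpose_mul]
    simp only [Matrix.mul_assoc]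

theorem pairRep_single (A B : N →* Matrix (Fin d) (Fin d) ℂ) (g : N) (i j a b : Fin d) :
    pairRep A B g (Matrix.single i j 1) a b = A g a i * B g b j := by
  show (A g * Matrix.single i j (1 : ℂ) * (B g)ᵀ) a b = _
  simp [Matrix.mul_apply, Matrix.single_apply, Finset.sum_ite_eq, ite_and]

/-- Two matrix representations without common invariant: mixed traces sum to zero. -/
theorem sum_trace_mul_eq_zero [Fintype N] (A B : N →* Matrix (Fin d) (Fin d) ℂ)
    (h : ∑ n : N, (A n).trace * (B n).trace = 0) (X : Matrix (Fin d) (Fin d) ℂ) :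
    ∑ n : N, (X * A n * B n).trace = 0 := by
  letI := invertibleOfNonzero (natCard_ne_zero (G := N))
  haveI : Invertible (Fintype.card N : ℂ) := by
    rw [Fintype.card_eq_nat_card]; infer_instance
  have hchar : ∀ n, (pairRep A B).character n = (A n).trace * (B n).trace := by
    intro n
    rw [Representation.character, trace_matrix_end, Matrix.trace, Matrix.trace, Finset.sum_mul_sum]
    simp only [pairRep_single, Matrix.diag_apply]
  have h0 : Module.finrank ℂ (pairRep A B).invariants = 0 := by
    have := Representation.card_inv_mul_sum_char_eq_finrank (pairRep A B)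
    simp only [hchar, h, mul_zero] at this
    exact_mod_cast this.symm
  rw [Submodule.finrank_eq_zero] at h0
  have hzero : ∀ E, ∑ n : N, pairRep A B n E = 0 := by
    intro E
    have hmem : ∑ n : N, pairRep A B n E ∈ (pairRep A B).invariants := fun g => by
      rw [map_sum]
      exact Fintype.sum_equiv (Equiv.mulLeft g) _ _ fun n => by
        rw [Equiv.coe_mulLeft, map_mul]; rfl
    rwa [h0, Submodule.mem_bot] at hmem
  have hent : ∀ a i b j, ∑ n : N, A n a i * B n b j = 0 := by
    intro a i b j
    have := congrFun (congrFun (hzero (Matrix.single i j 1)) a) b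
    simpa [Matrix.sum_apply, pairRep_single] using this
  simp only [Matrix.trace, Matrix.diag_apply, Matrix.mul_apply, Finset.sum_mul]
  rw [Finset.sum_comm]
  refine Finset.sum_eq_zero fun a _ => ?_
  rw [Finset.sum_comm]
  refine Finset.sum_eq_zero fun c _ => ?_
  rw [Finset.sum_comm]
  refine Finset.sum_eq_zero fun b _ => ?_
  simp only [mul_assoc, ← Finset.mul_sum, hent, mul_zero]

end Schur

theorem mul_of_real_linear {A : Type*} [Group A] [Finite A] {lam : A → ℂ} (f : A →* ℂˣ)
    (hf : lam = fun a => (f a : ℂ)) (h : indicator lam = 1) (a : A) : lam (a * a) = 1 := by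
  letI := Fintype.ofFinite A
  have h1 : ∀ x : A, ((lam (x * x)).re) ≤ 1 := fun x => by
    refine (Complex.re_le_norm _).trans (le_of_eq ?_)
    rw [hf]
    exact Complex.norm_eq_one_of_pow_eq_one (n := orderOf (x * x)) (by
      rw [← Units.val_pow_eq_pow_val, ← map_pow, pow_orderOf_eq_one, map_one, Units.val_one])
      (orderOf_pos _).ne'
  have h2 : ∑ x : A, (lam (x * x)).re = ∑ _x : A, (1 : ℝ) := by
    rw [indicator, finsum_eq_sum_of_fintype, inv_mul_eq_one₀ natCard_ne_zero] at h
    have := congrArg Complex.re h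
    rw [Complex.re_sum] at this
    rw [← this]
    simp [Nat.card_eq_fintype_card]
  have h3 := (Finset.sum_eq_sum_iff_of_le fun x _ => h1 x).1 h2 a (Finset.mem_univ _)
  have hn : ‖lam (a * a)‖ = 1 := by
    rw [hf]
    exact Complex.norm_eq_one_of_pow_eq_one (n := orderOf (a * a)) (by
      rw [← Units.val_pow_eq_pow_val, ← map_pow, pow_orderOf_eq_one, map_one, Units.val_one])
      (orderOf_pos _).ne'
  have h4 := Complex.normSq_eq_norm_sq (lam (a * a))
  rw [hn, Complex.normSq_apply, h3] at h4
  exact Complex.ext (by simp [h3]) (by simp; nlinarith)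

/-- Let G be a finite group with a non-abelian minimal normal subgroup N, and let φ be an irreducible complex character of N with stabilizer I in G such that φ extends to an irreducible character of I with Frobenius–Schur indicator +1. Put d = φ(1)·[G : I]. Then the number of linear characters of G with Frobenius–Schur indicator +1 is at most [G : I] times the number of irreducible characters of G of degree d with Frobenius–Schur indicator +1. -/
theorem result {G : Type*} [Group G] [Finite G] (N : Subgroup G) (hN : N.Normal) (hN1 : N ≠ ⊥) (hmin : ∀ M : Subgroup G, M.Normal → M ≤ N → M = ⊥ ∨ M = N) (hna : ¬ IsMulCommutative ↥N) (φ : Cfsg.IrrCharacter ↥N) (I : Subgroup G) (hI : ∀ g : G, g ∈ I ↔ ∀ n n' : ↥N, (n' : G) = g * (n : G) * g⁻¹ → (φ : ↥N → ℂ) n' = (φ : ↥N → ℂ) n) (hNI : N ≤ I) (hext : ∃ ψ : Cfsg.IrrCharacter ↥I, (Nat.card ↥I : ℂ)⁻¹ * ∑ᶠ g : ↥I, (ψ : ↥I → ℂ) (g * g) = 1 ∧ ∀ n : ↥N, (ψ : ↥I → ℂ) (Subgroup.inclusion hNI n) = (φ : ↥N → ℂ) n) : Nat.card {χ : Cfsg.IrrCharacter G // Cfsg.charDegree (χ : G → ℂ)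 = 1 ∧ (Nat.card G : ℂ)⁻¹ * ∑ᶠ g : G, (χ : G → ℂ) (g * g) = 1} ≤ I.index * Nat.card {χ : Cfsg.IrrCharacter G // Cfsg.charDegree (χ : G → ℂ) = Cfsg.charDegree (φ : ↥N → ℂ) * I.index ∧ (Nat.card G : ℂ)⁻¹ * ∑ᶠ g : G, (χ : G → ℂ) (g * g) = 1} := by
  classical
  letI : Fintype G := Fintype.ofFinite G
  haveI := hN
  letI : Fintype N := Fintype.ofFinite N
  letI : Fintype I := Fintype.ofFinite I
  obtain ⟨ψ, hψν, hψN⟩ := hext
  obtain ⟨d, ρ, hρ, hρψ⟩ := ψ.2
  -- the stabiliser
  have hT : ∀ g, g ∈ I ↔ conjBy N (φ : N → ℂ) g = (φ : N → ℂ) := by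
    intro g
    rw [hI g]
    constructor
    · intro h
      funext n
      exact h n _ rfl
    · intro h n n' hn'
      rw [show n' = ⟨g * n * g⁻¹, hN.conj_mem n n.2 g⟩ from Subtype.ext hn']
      exact congrFun h n
  have hψreal : ∀ t : I, ((ψ : I → ℂ) t).im = 0 := by
    by_contra hc
    have h1 : indicator (ψ : I → ℂ) = 1 := hψν
    rw [indicator_eq_zero_of_not_real ψ.2 hc] at h1
    exact zero_ne_one h1
  have hφreal : ∀ n : N, conj ((φ : N → ℂ) n) = (φ : N → ℂ) n := fun n => by
    rw [← hψN]; exact Complex.conj_eq_iff_im.2 (hψreal _)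
  -- the cross terms of the indicator vanish
  let R : I →* Matrix (Fin d) (Fin d) ℂ :=
    (LinearMap.toMatrixAlgEquiv' (R := ℂ) (n := Fin d)).toMonoidHom.comp ρ
  have hR : ∀ t, (R t).trace = (ψ : I → ℂ) t := fun t => by
    rw [← hρψ, CfsgLib.SquareRoots.char_eq_trace]
    rfl
  have hNNI : ∀ (g : G) (n : N), g⁻¹ * (n : G) * g ∈ N := fun g n => by
    simpa using hN.conj_mem n n.2 g⁻¹
  have cross : ∀ g : G, g ∉ I →
      ∑ n : N, Cfsg.extendByZero I (ψ : I → ℂ) ((g * n) * (g * n)) = 0 := by
    intro g hg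
    have hsplit : ∀ n : N, (g * (n : G)) * (g * n) = (g * g) * ((g⁻¹ * n * g) * n) := fun n => by group
    by_cases hg2 : g * g ∈ I
    swap
    · refine Finset.sum_eq_zero fun n _ => CfsgLib.Characters.extendByZero_of_not_mem _ _ fun hmem => hg2 ?_
      rw [hsplit] at hmem
      exact (Subgroup.mul_mem_cancel_right I (I.mul_mem (hNI (hNNI g n)) (hNI n.2))).1 hmem
    let c : N →* N :=
      { toFun := fun n => ⟨g⁻¹ * n * g, hNNI g n⟩
        map_one' := Subtype.ext (by simp)
        map_mul' := fun a b => Subtype.ext (by simp [mul_assoc]) }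
    have hφ0 : ∑ n : N, ((R.comp ((Subgroup.inclusion hNI).comp c)) n).trace *
        ((R.comp (Subgroup.inclusion hNI)) n).trace = 0 := by
      have hne : conjBy N (φ : N → ℂ) g⁻¹ ≠ (φ : N → ℂ) := fun h =>
        hg (I.inv_mem_iff.1 ((hT g⁻¹).2 h))
      have h0 := classInner_isIrr_ne (Clifford.isIrr_conjBy N φ.2 g⁻¹) φ.2 hne
      rw [Cfsg.classInner, mul_eq_zero, or_iff_right (inv_ne_zero natCard_ne_zero)] at h0
      refine Eq.trans (Finset.sum_congr rfl fun n _ => ?_) h0
      simp only [MonoidHom.comp_apply, hR, hψN, hφreal, conjBy_apply]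
      refine congrArg (fun z => (φ : N → ℂ) z * (φ : N → ℂ) n) (Subtype.ext ?_)
      show g⁻¹ * (n : G) * g = g⁻¹ * n * g⁻¹⁻¹
      rw [inv_inv]
    refine Eq.trans (Finset.sum_congr rfl fun n _ => ?_)
      (sum_trace_mul_eq_zero _ _ hφ0 (R ⟨g * g, hg2⟩))
    simp only [MonoidHom.comp_apply]
    rw [← map_mul, ← map_mul, hR, hsplit, ← mul_assoc]
    exact CfsgLib.Characters.extendByZero_coe I (ψ : I → ℂ)
      (⟨g * g, hg2⟩ * Subgroup.inclusion hNI (c n) * Subgroup.inclusion hNI n)
  -- twisted extensions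
  let lamOK := fun χ : Cfsg.IrrCharacter G => Cfsg.charDegree (χ : G → ℂ) = 1 ∧
    (Nat.card G : ℂ)⁻¹ * ∑ᶠ g : G, (χ : G → ℂ) (g * g) = 1
  have hlin : ∀ lam : {χ // lamOK χ}, ∃ f : G →* ℂˣ, (lam.1 : G → ℂ) = fun g => (f g : ℂ) := by
    intro lam
    obtain ⟨k, hk⟩ := exists_degree (isCharacter_of_isIrr lam.1.2)
    have h1 := lam.2.1
    rw [Cfsg.charDegree, hk] at h1
    simp only [Complex.natCast_re, Nat.floor_natCast] at h1
    exact exists_hom_of_degree_one (isCharacter_of_isIrr lam.1.2) (by rw [hk, h1, Nat.cast_one])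
  choose F hF using hlin
  have hsq : ∀ lam g, ((F lam (g * g) : ℂˣ) : ℂ) = 1 := fun lam g => by
    have h1 : indicator (lam.1 : G → ℂ) = 1 := lam.2.2
    have := mul_of_real_linear (F lam) (hF lam) h1 g
    rwa [hF lam] at this
  have hperf : ∀ lam (n : N), F lam n = 1 := by
    intro lam n
    have hle : N ≤ ((F lam).ker) := by
      rcases hmin ⁅N, N⁆ inferInstance (Subgroup.commutator_le_right N N) with h | h
      · exfalso
        refine hna ⟨⟨fun a b => ?_⟩⟩
        have hmem : ⁅(a : G), (b : G)⁆ ∈ (⊥ : Subgroup G) :=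
          h ▸ Subgroup.commutator_mem_commutator a.2 b.2
        exact Subtype.ext (commutatorElement_eq_one_iff_mul_comm.1 (Subgroup.mem_bot.1 hmem))
      · rw [← h, Subgroup.commutator_le]
        intro a _ b _
        rw [MonoidHom.mem_ker, map_commutatorElement, commutatorElement_eq_one_iff_mul_comm]
        exact mul_comm _ _
    exact hle n.2
  let tw : {χ // lamOK χ} → I → ℂ := fun lam t => (ψ : I → ℂ) t * ((F lam (t : G) : ℂˣ) : ℂ)
  have htwI : ∀ lam, Cfsg.IsIrrCharacter I (tw lam) := by
    intro lam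
    refine isIrr_of_classInner_self (isCharacter_mul (isCharacter_of_isIrr ψ.2)
      (isCharacter_of_isIrr (isIrr_linChar ((F lam).comp I.subtype)))) ?_
    rw [← classInner_isIrr_self ψ.2, Cfsg.classInner, Cfsg.classInner]
    congr 1
    refine Finset.sum_congr rfl fun t _ => ?_
    have : ((F lam (t : G) : ℂˣ) : ℂ) * conj ((F lam (t : G) : ℂˣ) : ℂ) = 1 := by
      have hn : ‖((F lam (t : G) : ℂˣ) : ℂ)‖ = 1 :=
        Complex.norm_eq_one_of_pow_eq_one (n := orderOf (t : G)) (by
          rw [← Units.val_pow_eq_pow_val, ← map_pow, pow_orderOf_eq_one, map_one, Units.val_one])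
          (orderOf_pos _).ne'
      rw [Complex.mul_conj, Complex.normSq_eq_norm_sq, hn]; simp
    rw [map_mul, mul_mul_mul_comm, this, mul_one]
  have htwN : ∀ lam (n : N), tw lam (Subgroup.inclusion hNI n) = (φ : N → ℂ) n := by
    intro lam n
    simp only [tw, hψN, Subgroup.coe_inclusion, hperf, Units.val_one, mul_one]
  -- induced characters are irreducible of the right degree and type
  have hmain : ∀ lam : {χ // lamOK χ},
      Cfsg.IsIrrCharacter G (Cfsg.indFun I (tw lam)) ∧
      Cfsg.charDegree (Cfsg.indFun I (tw lam)) = Cfsg.charDegree (φ : N → ℂ) * I.index ∧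
      (Nat.card G : ℂ)⁻¹ * ∑ᶠ g : G, Cfsg.indFun I (tw lam) (g * g) = 1 ∧
      Cfsg.classInner (fun n : N => Cfsg.indFun I (tw lam) n) (φ : N → ℂ) = 1 := by
    intro lam
    have hFc := isCharacter_indFun I (isCharacter_of_isIrr (htwI lam))
    obtain ⟨m, hm⟩ := exists_nat_coeff hFc
    obtain ⟨χ, hχne⟩ : ∃ χ : Cfsg.IrrCharacter G,
        Cfsg.classInner (Cfsg.indFun I (tw lam)) (χ : G → ℂ) ≠ 0 := by
      by_contra hno
      push Not at hno
      have h0 : Cfsg.indFun I (tw lam) = 0 :=
        classFunction_eq_zero (isClassFunction_indFun I _) fun χ => hno χ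
      have h1 := indFun_one I (tw lam)
      rw [h0, Pi.zero_apply, eq_comm, mul_eq_zero] at h1
      exact h1.elim (Nat.cast_ne_zero.2 Subgroup.index_ne_zero_of_finite)
        (irr_one_ne_zero (htwI lam))
    have hres : Cfsg.classInner (fun t : I => (χ : G → ℂ) t) (tw lam) ≠ 0 := by
      rw [← classInner_indFun_right I (tw lam) (isClassFunction_of_isIrr χ.2),
        classInner_conj_symm]
      simpa using hχne
    -- hence `χ` lies over `φ`
    have hover : Cfsg.classInner (fun n : N => (χ : G → ℂ) n) (φ : N → ℂ) ≠ 0 := by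
      obtain ⟨k, hk⟩ := exists_nat_coeff (isCharacter_restrict I (isCharacter_of_isIrr χ.2))
      have hn : ∀ η : Cfsg.IrrCharacter I, ∃ l : ℕ, Cfsg.classInner
          (fun n : N => (η : I → ℂ) (Subgroup.inclusion hNI n)) (φ : N → ℂ) = l := fun η =>
        classInner_character_irr
          (isCharacter_comp (Subgroup.inclusion hNI) (isCharacter_of_isIrr η.2)) φ.2
      choose l hl using hn
      have h1 : (fun n : N => (χ : G → ℂ) n) =
          ∑ η : Cfsg.IrrCharacter I, (k η : ℂ) • fun n : N => (η : I → ℂ) (Subgroup.inclusion hNI n) := by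
        funext n
        have := congrFun hk (Subgroup.inclusion hNI n)
        simpa [Finset.sum_apply] using this
      rw [h1, classInner_sum_left]
      simp only [classInner_smul_left, hl]
      intro h0
      have h0' : ∑ η, k η * l η = 0 := by exact_mod_cast h0
      have h2 := Finset.sum_eq_zero_iff.1 h0' ⟨tw lam, htwI lam⟩ (Finset.mem_univ _)
      have hl1 : l ⟨tw lam, htwI lam⟩ = 1 := by
        have := hl ⟨tw lam, htwI lam⟩
        rw [show (fun n : N => tw lam (Subgroup.inclusion hNI n)) = (φ : N → ℂ) from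
          funext (htwN lam), classInner_isIrr_self φ.2] at this
        exact_mod_cast this.symm
      rw [hl1, mul_one] at h2
      apply hres
      rw [hk]
      exact (classInner_irr_coeff (fun η => (k η : ℂ)) ⟨tw lam, htwI lam⟩).trans (by simp [h2])
    obtain ⟨ψ', e, he, hψ', hind, hres', hmult⟩ :=
      Clifford.exists_induced_from_inertia N φ.2 I hT hNI χ.2 hover
    obtain ⟨df, -, hdf⟩ := exists_degree_pos φ.2
    have hχ1 : (χ : G → ℂ) 1 = ((I.index * (e * df) : ℕ) : ℂ) := by
      have h1 := congrFun hres' 1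
      simp only [Pi.smul_apply, smul_eq_mul, hdf, OneMemClass.coe_one] at h1
      rw [← hind, indFun_one]
      rw [show (⟨1, hNI N.one_mem⟩ : I) = 1 from rfl] at h1
      rw [h1]; push_cast; ring
    have hF1 : Cfsg.indFun I (tw lam) 1 = ((I.index * df : ℕ) : ℂ) := by
      have h1 : tw lam 1 = (df : ℂ) := by rw [← hdf, ← htwN lam 1, map_one]
      rw [indFun_one, h1]
      push_cast
      rfl
    have heq : Cfsg.indFun I (tw lam) = (χ : G → ℂ) :=
      Clifford.eq_of_constituent_of_degree_le hFc χ.2 hχne hF1 hχ1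
        (Nat.mul_le_mul_left _ (Nat.le_mul_of_pos_left _ he))
    have he1 : e = 1 := by
      have h2 : I.index * df = I.index * (e * df) := by
        have h3 : ((I.index * df : ℕ) : ℂ) = ((I.index * (e * df) : ℕ) : ℂ) := by
          rw [← hF1, ← hχ1, heq]
        exact_mod_cast h3
      have hdf0 : df ≠ 0 := fun h => irr_one_ne_zero φ.2 (by rw [hdf, h, Nat.cast_zero])
      have := Nat.eq_of_mul_eq_mul_left (Nat.pos_of_ne_zero Subgroup.index_ne_zero_of_finite) h2
      exact Nat.eq_of_mul_eq_mul_right (Nat.pos_of_ne_zero hdf0) (by rw [one_mul]; exact this.symm)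
    refine ⟨heq ▸ χ.2, ?_, ?_, ?_⟩
    · simp only [Cfsg.charDegree, hF1, hdf, Complex.natCast_re, Nat.floor_natCast]
      exact Nat.mul_comm _ _
    · rw [finsum_eq_sum_of_fintype]
      have hexp : ∀ g : G, ∑ x : G, Cfsg.extendByZero I (tw lam) (x⁻¹ * (g * g) * x) =
          ∑ x : G, Cfsg.extendByZero I (tw lam) ((x⁻¹ * g * x) * (x⁻¹ * g * x)) := fun g =>
        Finset.sum_congr rfl fun x _ => congrArg _ (by group)
      have hsum : ∑ g : G, Cfsg.indFun I (tw lam) (g * g) = (Nat.card I : ℂ)⁻¹ *
          ((Nat.card G : ℂ) * ∑ g : G, Cfsg.extendByZero I (tw lam) (g * g)) := by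
        simp only [Cfsg.indFun, ← Finset.mul_sum, hexp]
        congr 1
        rw [Finset.sum_comm, Finset.sum_congr rfl fun x _ => (?_ :
          ∑ g : G, Cfsg.extendByZero I (tw lam) ((x⁻¹ * g * x) * (x⁻¹ * g * x)) =
            ∑ g : G, Cfsg.extendByZero I (tw lam) (g * g)), Finset.sum_const, nsmul_eq_mul,
          Finset.card_univ, ← Nat.card_eq_fintype_card]
        exact Fintype.sum_equiv ((Equiv.mulLeft x⁻¹).trans (Equiv.mulRight x)) _ _ fun g => rfl
      -- the part outside `I` vanishes
      have htwsq : ∀ g : G, Cfsg.extendByZero I (tw lam) (g * g) =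
          Cfsg.extendByZero I (ψ : I → ℂ) (g * g) := by
        intro g
        by_cases h : g * g ∈ I
        · rw [CfsgLib.Characters.extendByZero_of_mem I _ h, CfsgLib.Characters.extendByZero_of_mem I _ h]
          show (ψ : I → ℂ) ⟨g * g, h⟩ * _ = _
          rw [hsq lam g, mul_one]
        · rw [CfsgLib.Characters.extendByZero_of_not_mem I _ h, CfsgLib.Characters.extendByZero_of_not_mem I _ h]
      have hin : ∑ g : G, Cfsg.extendByZero I (ψ : I → ℂ) (g * g) =
          ∑ t : I, (ψ : I → ℂ) (t * t) := by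
        rw [← Finset.sum_filter_add_sum_filter_not Finset.univ (fun g => g ∈ I),
          Finset.sum_subtype (p := fun g => g ∈ I) _ (by simp)]
        have hout : ∑ g ∈ Finset.univ.filter (fun g => g ∉ I),
            Cfsg.extendByZero I (ψ : I → ℂ) (g * g) = 0 := by
          have key : (Fintype.card N : ℂ) * ∑ g ∈ Finset.univ.filter (fun g => g ∉ I),
              Cfsg.extendByZero I (ψ : I → ℂ) (g * g) = 0 := by
            calc _ = ∑ n : N, ∑ g ∈ Finset.univ.filter (fun g => g ∉ I),
                Cfsg.extendByZero I (ψ : I → ℂ) ((g * n) * (g * n)) := by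
                  rw [← nsmul_eq_mul, ← Finset.card_univ, ← Finset.sum_const]
                  refine Finset.sum_congr rfl fun n _ => ?_
                  refine (Finset.sum_equiv (Equiv.mulRight (n : G)) (fun g => ?_) fun g _ => rfl).symm
                  simp [Subgroup.mul_mem_cancel_right I (hNI n.2)]
              _ = 0 := by
                  rw [Finset.sum_comm]
                  exact Finset.sum_eq_zero fun g hg => cross g (Finset.mem_filter.1 hg).2
          exact (mul_eq_zero.1 key).resolve_left (Nat.cast_ne_zero.2 Fintype.card_ne_zero)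
        rw [hout, add_zero]
        exact Finset.sum_congr rfl fun t _ => CfsgLib.Characters.extendByZero_coe I (ψ : I → ℂ) (t * t)
      rw [finsum_eq_sum_of_fintype] at hψν
      rw [hsum, Finset.sum_congr rfl fun g _ => htwsq g, hin, ← mul_assoc, ← mul_assoc,
        mul_comm (Nat.card G : ℂ)⁻¹, mul_assoc (Nat.card I : ℂ)⁻¹,
        inv_mul_cancel₀ natCard_ne_zero, mul_one]
      exact hψν
    · rw [heq, hmult, he1, Nat.cast_one]
  let T := {χ : Cfsg.IrrCharacter G //
    Cfsg.charDegree (χ : G → ℂ) = Cfsg.charDegree (φ : N → ℂ) * I.index ∧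
      (Nat.card G : ℂ)⁻¹ * ∑ᶠ g : G, (χ : G → ℂ) (g * g) = 1}
  let Φ : {χ // lamOK χ} → T := fun lam =>
    ⟨⟨_, (hmain lam).1⟩, (hmain lam).2.1, (hmain lam).2.2.1⟩
  letI : Fintype T := Fintype.ofFinite T
  letI : Fintype {χ // lamOK χ} := Fintype.ofFinite _
  show Nat.card {χ // lamOK χ} ≤ I.index * Nat.card T
  rw [Nat.card_eq_fintype_card, Nat.card_eq_fintype_card, ← Finset.card_univ, ← Finset.card_univ]
  refine Finset.card_le_mul_card_image_of_maps_to (f := Φ) (fun _ _ => Finset.mem_univ _) _
    fun c _ => ?_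
  -- a fibre has at most `[G : I]` elements
  let S := Finset.univ.filter fun lam => Φ lam = c
  show S.card ≤ I.index
  rcases S.eq_empty_or_nonempty with hS | ⟨l₀, hl₀⟩
  · rw [hS]; simp
  have hagree : ∀ lam ∈ S, ∀ t : I, (F lam (t : G)) = F l₀ (t : G) := by
    intro lam hlam
    have heqind : Cfsg.indFun I (tw lam) = Cfsg.indFun I (tw l₀) := by
      have := ((Finset.mem_filter.1 hlam).2).trans ((Finset.mem_filter.1 hl₀).2).symm
      exact congrArg (fun x : T => (x.1 : G → ℂ)) this
    -- both twists are the constituent over `φ`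
    have htweq : tw lam = tw l₀ := by
      by_contra hne
      obtain ⟨k, hk⟩ := exists_nat_coeff
        (isCharacter_restrict I (isCharacter_indFun I (isCharacter_of_isIrr (htwI l₀))))
      have hkone : ∀ l, (Cfsg.indFun I (tw l) = Cfsg.indFun I (tw l₀)) →
          1 ≤ k ⟨tw l, htwI l⟩ := by
        intro l hl
        have h1 : Cfsg.classInner (Cfsg.indFun I (tw l)) (Cfsg.indFun I (tw l₀)) = 1 := by
          rw [hl]; exact classInner_isIrr_self (hmain l₀).1
        rw [classInner_indFun I _ (isClassFunction_indFun I _), classInner_conj_symm, hk] at h1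
        erw [classInner_irr_coeff (fun η => (k η : ℂ)) ⟨tw l, htwI l⟩, Complex.conj_natCast] at h1
        exact le_of_eq (by exact_mod_cast h1.symm)
      have hle := hkone lam heqind
      have hle₀ := hkone l₀ rfl
      have htot := (hmain l₀).2.2.2
      have h1 : (fun n : N => Cfsg.indFun I (tw l₀) n) = ∑ η : Cfsg.IrrCharacter I,
          (k η : ℂ) • fun n : N => (η : I → ℂ) (Subgroup.inclusion hNI n) := by
        funext n
        have := congrFun hk (Subgroup.inclusion hNI n)
        simpa [Finset.sum_apply] using this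
      have hn : ∀ η : Cfsg.IrrCharacter I, ∃ l : ℕ, Cfsg.classInner
          (fun n : N => (η : I → ℂ) (Subgroup.inclusion hNI n)) (φ : N → ℂ) = l := fun η =>
        classInner_character_irr
          (isCharacter_comp (Subgroup.inclusion hNI) (isCharacter_of_isIrr η.2)) φ.2
      choose l hl using hn
      have hl1 : ∀ la, l ⟨tw la, htwI la⟩ = 1 := fun la => by
        have := hl ⟨tw la, htwI la⟩
        rw [show (fun n : N => tw la (Subgroup.inclusion hNI n)) = (φ : N → ℂ) from
          funext (htwN la), classInner_isIrr_self φ.2] at this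
        exact_mod_cast this.symm
      rw [h1, classInner_sum_left] at htot
      simp only [classInner_smul_left, hl] at htot
      have htot' : ∑ η, k η * l η = 1 := by exact_mod_cast htot
      have hpair := Finset.sum_le_sum_of_subset (f := fun η => k η * l η)
        (Finset.subset_univ ({⟨tw lam, htwI lam⟩, ⟨tw l₀, htwI l₀⟩} : Finset (Cfsg.IrrCharacter I)))
      rw [Finset.sum_pair (fun h => hne (congrArg Subtype.val h)), htot', hl1, hl1] at hpair
      omega
    -- the quotient of the linear characters is trivial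
    intro t
    let μ : I →* ℂˣ := ((F lam).comp I.subtype) / ((F l₀).comp I.subtype)
    have hμψ : ∀ s : I, μ s = 1 ∨ (ψ : I → ℂ) s = 0 := by
      intro s
      have h := congrFun htweq s
      by_cases h0 : (ψ : I → ℂ) s = 0
      · exact Or.inr h0
      · left
        have : F lam (s : G) = F l₀ (s : G) := Units.ext (mul_left_cancel₀ h0 h)
        simp [μ, this]
    let K : Subgroup I := μ.ker
    letI : Fintype K := Fintype.ofFinite K
    have hNK : ∀ n : N, Subgroup.inclusion hNI n ∈ K := fun n => by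
      simp [K, μ, hperf]
    let iK : N →* K := (Subgroup.inclusion hNI).codRestrict K hNK
    have hirrN : Representation.IsIrreducible
        (ρ.comp (Subgroup.inclusion hNI) : Representation ℂ N (Fin d → ℂ)) := by
      refine (isIrreducible_iff_classInner _).2 ?_
      rw [show Representation.character (ρ.comp (Subgroup.inclusion hNI)) = (φ : N → ℂ) from ?_]
      · exact classInner_isIrr_self φ.2
      funext n
      rw [← hψN, ← hρψ]
      rfl
    haveI := hirrN
    haveI : Nontrivial (Fin d → ℂ) :=
      nontrivial_of_isIrreducible (ρ.comp (Subgroup.inclusion hNI) : Representation ℂ N _)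
    haveI : Representation.IsIrreducible (ρ.comp K.subtype : Representation ℂ K (Fin d → ℂ)) :=
      isIrreducible_of_forall _ fun U hU =>
        (hirrN.eq_bot_or_eq_top ⟨U, fun n x hx => hU (iK n) x hx⟩).imp
          (fun h => congrArg Subrepresentation.toSubmodule h)
          (fun h => congrArg Subrepresentation.toSubmodule h)
    have hK1 := classInner_isIrr_self (isIrrCharacter_character
      (ρ.comp K.subtype : Representation ℂ K (Fin d → ℂ)))
    rw [show Representation.character (ρ.comp K.subtype : Representation ℂ K (Fin d → ℂ)) =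
      fun s : K => (ψ : I → ℂ) s by rw [← hρψ]; rfl] at hK1
    have hI1 := classInner_isIrr_self ψ.2
    rw [Cfsg.classInner, inv_mul_eq_one₀ natCard_ne_zero] at hK1 hI1
    have hsums : ∑ s : I, (ψ : I → ℂ) s * conj ((ψ : I → ℂ) s) =
        ∑ s : K, (ψ : I → ℂ) s * conj ((ψ : I → ℂ) s) := by
      rw [← Finset.sum_subtype (p := fun s => s ∈ K) (Finset.univ.filter fun s => s ∈ K) (by simp)
        (fun s => (ψ : I → ℂ) s * conj ((ψ : I → ℂ) s))]
      refine (Finset.sum_filter_of_ne fun s _ hs => ?_).symm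
      exact ((hμψ s).resolve_right fun h0 => hs (by rw [h0, zero_mul]) : μ s = 1)
    rw [← hI1, ← hK1, Nat.cast_inj] at hsums
    have htop : K = ⊤ := Subgroup.eq_top_of_card_eq K hsums.symm
    have : μ t = 1 := (htop ▸ Subgroup.mem_top t : t ∈ K)
    simpa [μ, div_eq_one] using this
  -- independence on cosets
  have hli : LinearIndependent ℂ
      (fun lam : S => fun q : G ⧸ I => ((lam.1.1 : G → ℂ) q.out)) := by
    rw [Fintype.linearIndependent_iff]
    intro co hco lam
    have hall : ∑ x : S, co x • (x.1.1 : G → ℂ) = 0 := by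
      funext g
      simp only [Finset.sum_apply, Pi.smul_apply, smul_eq_mul, Pi.zero_apply]
      have hq := congrFun hco (QuotientGroup.mk g)
      simp only [Finset.sum_apply, Pi.smul_apply, smul_eq_mul, Pi.zero_apply] at hq
      let t : I := ⟨(QuotientGroup.mk g : G ⧸ I).out⁻¹ * g,
        QuotientGroup.eq.1 (Quotient.out_eq (QuotientGroup.mk g : G ⧸ I))⟩
      have hval : ∀ x : S, (x.1.1 : G → ℂ) g =
          (x.1.1 : G → ℂ) (QuotientGroup.mk g : G ⧸ I).out * ((F l₀ (t : G) : ℂˣ) : ℂ) := by
        intro x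
        rw [hF x.1]
        show ((F x.1 g : ℂˣ) : ℂ) = _
        rw [← hagree x.1 x.2 t, ← Units.val_mul, ← map_mul]
        simp [t]
      simp only [hval, ← mul_assoc, ← Finset.sum_mul, hq, zero_mul]
    have hinj : Function.Injective (fun x : S => x.1.1) :=
      Subtype.val_injective.comp Subtype.val_injective
    exact Fintype.linearIndependent_iff.1 (irr_linearIndependent.comp _ hinj) co hall lam
  have hle := hli.fintype_card_le_finrank
  rw [Module.finrank_fintype_fun_eq_card, Fintype.card_coe, ← Nat.card_eq_fintype_card] at hle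
  exact hle

end Cfsg.Agent.S4912
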