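import Cfsg.Statements.S4914
import Cfsg.Agent.RelGlauberman.Correspondence
-- import your own Cfsg.Agent.* helpers here

set_option autoImplicit false
open Cfsg

namespace Cfsg.Agent.S4914

open CfsgLib.RelGlauberman CfsgLib.Characters

/-- Let P and K be subgroups of a finite group G with P a p-group normalizing K, and suppose K has a normal Sylow p-subgroup Q. Let C be the subgroup of those k ∈ K whose commutator with every element of P lies in Q (so that C/Q is the fixed-point subgroup of P on K/Q). Then there is a bijection f from the P-invariant irreducible complex characters of K onto the P-invariant irreducible complex characters of C such that, for every P-invariant irreducible character χ of K, the multiplicity of f(χ) in the restriction of χ to C is a natural number congruent to 1 or to −1 modulo p, every other P-invariant irreducible character of C occurs in that restriction with multiplicity divisible by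 p, and the degrees of χ and f(χ) are congruent modulo p up to sign. -/
theorem result {G : Type*} [Group G] [Finite G] (p : ℕ) [Fact p.Prime] (P K Q C : Subgroup G) (hP : IsPGroup p ↥P) (hPK : P ≤ Subgroup.normalizer (K : Set G)) (hQK : Q ≤ K) (hQn : ∀ k ∈ K, ∀ q ∈ Q, k * q * k⁻¹ ∈ Q) (hQp : ∃ a : ℕ, Nat.card ↥Q = p ^ a) (hQsyl : ¬ p ∣ Q.relIndex K) (hCK : C ≤ K) (hC : ∀ k : G, k ∈ C ↔ (k ∈ K ∧ ∀ x ∈ P, x * k * x⁻¹ * k⁻¹ ∈ Q)) : ∃ f : {χ : Cfsg.IrrCharacter ↥K // (∀ x ∈ P, ∀ k k' : ↥K, (k' : G) = x * (k : G) * x⁻¹ → (χ : ↥K → ℂ) k' = (χ : ↥K → ℂ) k)} → {ξ : Cfsg.IrrCharacter ↥C // (∀ x ∈ P, ∀ k k' : ↥C, (k' : G) = x * (k : G) * x⁻¹ → (ξ : ↥C → ℂ) k' = (ξ : ↥C → ℂ) k)}, Function.Bijective f ∧ ∀ χ, (∀ ξ : {ξ : Cfsg.IrrCharacter ↥C // (∀ x ∈ P, ∀ k k' : ↥C, (k' : G) = x * (k : G) * x⁻¹ → (ξ : ↥C → ℂ) k' = (ξ : ↥C → ℂ) k)}, ∃ m : ℕ, (Nat.card ↥C : ℂ)⁻¹ * ∑ᶠ c : ↥C, (χ.1 : ↥K → ℂ) (Subgroup.inclusion hCK c) * (starRingEnd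 ℂ) ((ξ.1 : ↥C → ℂ) c) = (m : ℂ) ∧ (ξ = f χ → ((m : ZMod p) = 1 ∨ (m : ZMod p) = -1)) ∧ (ξ ≠ f χ → p ∣ m)) ∧ ((Cfsg.charDegree ((f χ).1 : ↥C → ℂ) : ZMod p) = (Cfsg.charDegree (χ.1 : ↥K → ℂ) : ZMod p) ∨ (Cfsg.charDegree ((f χ).1 : ↥C → ℂ) : ZMod p) = -(Cfsg.charDegree (χ.1 : ↥K → ℂ) : ZMod p)) := by
  classical
  have hnK : Normalises P K := normalises_of_le_normalizer hPK
  obtain ⟨a, ha⟩ := hQp
  have hnQ : Normalises P Q := by
    intro x hx q hq
    have hmem : x * q * x⁻¹ ∈ K := hnK x hx q (hQK hq)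
    haveI : (Q.subgroupOf K).Normal := ⟨fun r hr k => hQn k k.2 r hr⟩
    let y : K := ⟨x * q * x⁻¹, hmem⟩
    have h1 : y ^ Q.relIndex K ∈ Q.subgroupOf K := Subgroup.pow_index_mem (Q.subgroupOf K) y
    have hq1 : q ^ p ^ a = 1 := by
      have := pow_card_eq_one' (G := Q) (x := ⟨q, hq⟩)
      rw [ha] at this
      exact congrArg Subtype.val this
    have h2 : y ^ p ^ a = 1 := Subtype.ext (by simp [y, conj_pow, hq1])
    have hco : Nat.gcd (Q.relIndex K) (p ^ a) = 1 :=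
      Nat.Coprime.pow_right a ((Fact.out : p.Prime).coprime_iff_not_dvd.2 hQsyl).symm
    have h3 : y ∈ Q.subgroupOf K := by
      have h4 : y ^ ((Q.relIndex K : ℤ) * Nat.gcdA (Q.relIndex K) (p ^ a) +
          ((p ^ a : ℕ) : ℤ) * Nat.gcdB (Q.relIndex K) (p ^ a)) = y := by
        rw [← Nat.gcd_eq_gcd_ab, hco]; simp
      rw [← h4, zpow_add, zpow_mul, zpow_mul, zpow_natCast, zpow_natCast, h2, one_zpow, mul_one]
      exact zpow_mem h1 _
    exact h3
  have hfix : IsFixedMod P K Q C := hC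
  have hnC : Normalises P C := hfix.normalises hnK hnQ fun x hx y hy =>
    mul_mem (mul_mem hx hy) (inv_mem hx)
  obtain ⟨f, hf⟩ := relative_glauberman P K Q C hP hnK hnQ hQK hQn hQsyl hfix
  refine ⟨f, f.bijective, fun χ => ⟨fun ξ => ?_, ?_⟩⟩
  · obtain ⟨m, hm, hm1, hm0⟩ := hf χ ξ
    exact ⟨m, hm, hm1, fun hne => (ZMod.natCast_eq_zero_iff m p).1 (hm0 hne)⟩
  have hdeg : ∀ {H : Subgroup G} (θ : Cfsg.IrrCharacter H),
      (θ : H → ℂ) 1 = Cfsg.charDegree (θ : H → ℂ) := by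
    intro H θ
    obtain ⟨n, hn⟩ := exists_degree (isCharacter_of_isIrr θ.2)
    rw [Cfsg.charDegree, hn]
    simp
  obtain ⟨m, hm, hm1, -⟩ := hf χ (f χ)
  have hmul := multNat_unique hCK hm
  have h := degree_congr hP hnK hnC hCK χ (f χ)
    (fun η hη => by
      obtain ⟨m', hm', -, hm0⟩ := hf χ η
      rw [multNat_unique hCK hm']
      exact hm0 hη)
    _ (fun η => Cfsg.charDegree (η : C → ℂ)) (hdeg χ.1) (fun η => hdeg η)
  rw [hmul] at h
  rcases hm1 rfl with h1 | h1 <;> rw [h1] at h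
  · left; rw [h, one_mul]
  · right; rw [h]; ring

end Cfsg.Agent.S4914
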