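import Cfsg.Statements.S4916
import Cfsg.Agent.Blocks.Idempotent
import Cfsg.Agent.Characters.Linear
-- import your own Cfsg.Agent.* helpers here

set_option autoImplicit false
open Cfsg

namespace Cfsg.Agent.S4916

open CfsgLib.Blocks CfsgLib.Characters
open scoped ComplexConjugate Classical

/-- Let G be a finite group, p a prime and M a maximal ideal of the algebraic integers containing p. Then the principal character is the only irreducible character of degree prime to p in the principal p-block of G if and only if p does not divide the order of G. -/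
theorem result {G : Type*} [Group G] [Finite G] (p : ℕ) [Fact p.Prime] (M : Ideal Cfsg.AlgInt) (hM : Cfsg.IsPModular p M) : (∀ χ : Cfsg.IrrCharacter G, χ ∈ Cfsg.principalBlock M G → ¬ p ∣ Cfsg.charDegree (χ : G → ℂ) → (χ : G → ℂ) = fun _ => (1 : ℂ)) ↔ ¬ p ∣ Nat.card G := by
  haveI := IsPModular.isPrime hM
  letI := Fintype.ofFinite G
  letI : Fintype (Cfsg.IrrCharacter G) := Fintype.ofFinite _
  let one : Cfsg.IrrCharacter G := ⟨fun _ => 1, isIrr_one⟩
  let B := Cfsg.principalBlock M G
  have hone : one ∈ B := mem_blockOf_self (M := M) one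
  have hdeg : ∀ χ : Cfsg.IrrCharacter G, (χ : G → ℂ) 1 = Cfsg.charDegree (χ : G → ℂ) := by
    intro χ
    obtain ⟨n, hn⟩ := exists_degree (isCharacter_of_isIrr χ.2)
    rw [Cfsg.charDegree, hn]
    simp
  constructor
  · intro h hdvd
    have hB : IsBlockUnion M B := isBlockUnion_of_isPBlock (isPBlock_blockOf one)
    have hc := memLocalRing_blockCoeff hB (1 : G)
    let S : ℕ := ∑ χ : Cfsg.IrrCharacter G, if χ ∈ B then Cfsg.charDegree (χ : G → ℂ) ^ 2 else 0
    have hS : (Nat.card G : ℂ) * Cfsg.blockCoeff B 1 = (S : ℂ) := by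
      rw [blockCoeff_eq_sum, ← mul_assoc, mul_inv_cancel₀ natCard_ne_zero, one_mul, Nat.cast_sum]
      refine Finset.sum_congr rfl fun χ _ => ?_
      split_ifs
      · rw [hdeg, Complex.conj_natCast]; push_cast; ring
      · simp
    have hpS : p ∣ S := by
      rw [← memLocalIdeal_natCast_iff hM, ← hS]
      exact memLocalIdeal_mul_right ((memLocalIdeal_natCast_iff hM _).2 hdvd) hc
    have hmod : (S : ZMod p) = 1 := by
      simp only [S, Nat.cast_sum]
      rw [Finset.sum_eq_single one]
      · rw [if_pos hone]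
        have : Cfsg.charDegree (one : G → ℂ) = 1 := by simp [one, Cfsg.charDegree]
        rw [this]; simp
      · intro χ _ hne
        split_ifs with hχ
        · have hd : p ∣ Cfsg.charDegree (χ : G → ℂ) := by
            by_contra hnd
            exact hne (Subtype.ext (h χ hχ hnd))
          rw [(ZMod.natCast_eq_zero_iff _ p).2 (dvd_pow hd two_ne_zero)]
        · simp
      · simp
    rw [(ZMod.natCast_eq_zero_iff _ p).2 hpS] at hmod
    exact zero_ne_one hmod
  · intro hdvd χ hχ _
    by_contra hne
    have horth : Cfsg.classInner (χ : G → ℂ) (one : G → ℂ) = 0 :=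
      classInner_isIrr_ne χ.2 one.2 hne
    have hsum : ∀ ψ : Cfsg.IrrCharacter G,
        ∑ c : ConjClasses G, Cfsg.centralChar (ψ : G → ℂ) c.out =
          (∑ g : G, (ψ : G → ℂ) g) / (ψ : G → ℂ) 1 := by
      intro ψ
      rw [Finset.sum_div, ← Finset.sum_fiberwise (s := Finset.univ) (g := ConjClasses.mk)
        (f := fun g => (ψ : G → ℂ) g / (ψ : G → ℂ) 1)]
      refine Finset.sum_congr rfl fun c _ => ?_
      obtain ⟨g, rfl⟩ := ConjClasses.mk_surjective c
      have hg : IsConj g (ConjClasses.mk g).out :=
        (ConjClasses.mk_eq_mk_iff_isConj.1 (Quotient.out_eq (ConjClasses.mk g))).symm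
      have hval : ∀ x ∈ Finset.univ.filter (fun x => ConjClasses.mk x = ConjClasses.mk g),
          (ψ : G → ℂ) x / (ψ : G → ℂ) 1 = (ψ : G → ℂ) (ConjClasses.mk g).out / (ψ : G → ℂ) 1 := by
        intro x hx
        rw [classFunction_isConj (isClassFunction_of_isIrr ψ.2)
          ((ConjClasses.mk_eq_mk_iff_isConj.1 (Finset.mem_filter.1 hx).2).trans hg)]
      rw [Finset.sum_congr rfl hval, Finset.sum_const, nsmul_eq_mul, Cfsg.centralChar, mul_div_assoc,
        ← natCard_class, Nat.card_eq_fintype_card, Fintype.card_subtype]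
      congr 2
      have : ConjClasses.mk (ConjClasses.mk g).out = ConjClasses.mk g :=
        ConjClasses.mk_eq_mk_iff_isConj.2 hg.symm
      rw [this]
    have hmem : Cfsg.MemLocalIdeal M (∑ c : ConjClasses G,
        (Cfsg.centralChar (one : G → ℂ) c.out - Cfsg.centralChar (χ : G → ℂ) c.out)) :=
      memLocalIdeal_sum _ fun c _ => hχ _
    rw [Finset.sum_sub_distrib, hsum, hsum] at hmem
    have h0 : ∑ g : G, (χ : G → ℂ) g = 0 := by
      rw [Cfsg.classInner] at horth
      simpa [one] using horth
    have h1 : ∑ g : G, (one : G → ℂ) g = (Nat.card G : ℂ) := by simp [one]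
    rw [h0, h1, zero_div, sub_zero, show (one : G → ℂ) 1 = 1 from rfl, div_one,
      memLocalIdeal_natCast_iff hM] at hmem
    exact hdvd hmem

end Cfsg.Agent.S4916
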