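import Cfsg.Statements.S4923
import Cfsg.Agent.Characters.Orthogonality
import Cfsg.Agent.GaloisConj.Basic
import Cfsg.Agent.PRational.Basic
import Cfsg.Agent.BlocksCharsC.PGroupCenter
import Mathlib.GroupTheory.Sylow
import Mathlib.GroupTheory.IndexNormal
import Mathlib.GroupTheory.Abelianization.Defs
import Mathlib.GroupTheory.SpecificGroups.Cyclic
import Mathlib.NumberTheory.Cyclotomic.Gal
import Mathlib.FieldTheory.Galois.Basic

set_option autoImplicit false
set_option linter.style.haveILetI false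
set_option linter.unusedSectionVars false
open Cfsg

namespace Cfsg.Agent.S4923

open IntermediateField

/-! ### 2-groups with commutator subgroup of index 4 -/

/-- Taussky: an element generating a subgroup of index 2. -/
theorem exists_orderOf_eq : ∀ (n : ℕ), 3 ≤ n → ∀ (P : Type*) [Group P] [Finite P],
    Nat.card P = 2 ^ n → (commutator P).index = 4 → ∃ a : P, orderOf a = 2 ^ (n - 1) := by
  intro n hn
  haveI : Fact (Nat.Prime 2) := ⟨Nat.prime_two⟩
  induction n, hn using Nat.le_induction with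
  | base =>
    intro P _ _ hP hidx
    by_contra hno
    push Not at hno
    have hsq : ∀ a : P, a * a = 1 := by
      intro a
      have hd : orderOf a ∣ 2 ^ 3 := hP ▸ orderOf_dvd_natCard a
      obtain ⟨k, hk, he⟩ := (Nat.dvd_prime_pow Nat.prime_two).1 hd
      have hcases : k = 0 ∨ k = 1 ∨ k = 2 ∨ k = 3 := by omega
      have hdvd : orderOf a ∣ 2 := by
        rcases hcases with rfl | rfl | rfl | rfl
        · rw [he]; norm_num
        · rw [he]; norm_num
        · exact absurd he (hno a)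
        · exact absurd (by rw [orderOf_pow' a two_ne_zero, he]; norm_num) (hno (a ^ 2))
      rw [← sq]
      exact orderOf_dvd_iff_pow_eq_one.1 hdvd
    have hcomm : ∀ a b : P, a * b = b * a := fun a b => by
      have ha : a⁻¹ = a := inv_eq_of_mul_eq_one_right (hsq a)
      have hb : b⁻¹ = b := inv_eq_of_mul_eq_one_right (hsq b)
      calc a * b = (a * b)⁻¹ := (inv_eq_of_mul_eq_one_right (hsq _)).symm
        _ = b * a := by rw [mul_inv_rev, ha, hb]
    have hbot : commutator P = ⊥ := by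
      rw [commutator_eq_closure, Subgroup.closure_eq_bot_iff]
      rintro x ⟨a, b, rfl⟩
      rw [Set.mem_singleton_iff, commutatorElement_def, hcomm a b]
      group
    rw [hbot, Subgroup.index_bot, hP] at hidx
    norm_num at hidx
  | succ n hn ih =>
    intro P _ _ hP hidx
    have hPp : IsPGroup 2 P := IsPGroup.of_card hP
    have hne : commutator P ≠ ⊥ := fun h => by
      rw [h, Subgroup.index_bot, hP] at hidx
      have : 2 ^ 4 ≤ 2 ^ (n + 1) := Nat.pow_le_pow_right two_pos (by omega)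
      omega
    haveI : Nontrivial (commutator P) := (Subgroup.nontrivial_iff_ne_bot _).2 hne
    obtain ⟨w, hw, hw1⟩ := CfsgLib.BlocksCharsC.exists_mem_ne_one
      (CfsgLib.BlocksCharsC.inf_center_ne_bot hPp (commutator P))
    obtain ⟨k, hk⟩ := IsPGroup.iff_orderOf.1 hPp w
    have hk0 : k ≠ 0 := fun h => hw1 (orderOf_eq_one_iff.1 (by rw [hk, h, pow_zero]))
    set z := w ^ 2 ^ (k - 1) with hz
    have hzo : orderOf z = 2 := by
      rw [hz, orderOf_pow' w (by positivity), hk, Nat.gcd_eq_right (Nat.pow_dvd_pow 2 (Nat.sub_le k 1)),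
        Nat.pow_div (Nat.sub_le k 1) two_pos, show k - (k - 1) = 1 by omega, pow_one]
    have hzK : z ∈ commutator P := pow_mem hw.1 _
    have hzC : z ∈ Subgroup.center P := pow_mem hw.2 _
    set Z := Subgroup.zpowers z with hZ
    haveI : Z.Normal := ⟨fun x hx g => by
      obtain ⟨i, rfl⟩ := hx
      rw [Subgroup.mem_center_iff.1 ((Subgroup.center P).zpow_mem hzC i) g, mul_inv_cancel_right]
      exact Subgroup.zpow_mem_zpowers _ _⟩
    have hcQ : Nat.card (P ⧸ Z) = 2 ^ n := by
      have h1 := Subgroup.card_eq_card_quotient_mul_card_subgroup Z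
      rw [hP, hZ, Nat.card_zpowers, hzo, pow_succ] at h1
      exact (Nat.eq_of_mul_eq_mul_right two_pos h1).symm
    have hidxQ : (commutator (P ⧸ Z)).index = 4 := by
      have hmap : (commutator P).map (QuotientGroup.mk' Z) = commutator (P ⧸ Z) := by
        rw [commutator_def, Subgroup.map_commutator, Subgroup.map_top_of_surjective _
          (QuotientGroup.mk'_surjective Z), commutator_def]
      rw [← hmap, Subgroup.index_map, QuotientGroup.ker_mk', sup_eq_left.2
        (Subgroup.zpowers_le.2 hzK), MonoidHom.range_eq_top.2 (QuotientGroup.mk'_surjective Z),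
        Subgroup.index_top, mul_one, hidx]
    obtain ⟨ab, hab⟩ := ih (P ⧸ Z) hcQ hidxQ
    obtain ⟨a, rfl⟩ := QuotientGroup.mk'_surjective Z ab
    have hdvd : 2 ^ (n - 1) ∣ orderOf a := hab ▸ orderOf_map_dvd _ a
    obtain ⟨m, hm⟩ := IsPGroup.iff_orderOf.1 hPp a
    rw [hm] at hdvd
    have hm1 : n - 1 ≤ m := (Nat.pow_dvd_pow_iff_le_right one_lt_two).1 hdvd
    by_cases hbig : n ≤ m
    · refine ⟨a ^ 2 ^ (m - n), ?_⟩
      rw [orderOf_pow' a (by positivity), hm, Nat.gcd_eq_right (Nat.pow_dvd_pow 2 (Nat.sub_le m n)),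
        Nat.pow_div (Nat.sub_le m n) two_pos, Nat.add_sub_cancel, show m - (m - n) = n by omega]
    exfalso
    have hmn : m = n - 1 := by omega
    subst hmn
    set A := (Subgroup.zpowers (QuotientGroup.mk' Z a)).comap (QuotientGroup.mk' Z) with hA
    have hAi : A.index = 2 := by
      rw [hA, Subgroup.index_comap_of_surjective _ (QuotientGroup.mk'_surjective Z)]
      have h1 := Subgroup.card_mul_index (Subgroup.zpowers (QuotientGroup.mk' Z a))
      rw [Nat.card_zpowers, hab, hcQ] at h1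
      have h2 : 2 ^ n = 2 ^ (n - 1) * 2 := by rw [← pow_succ]; congr 1; omega
      exact Nat.eq_of_mul_eq_mul_left (by positivity) (h1.trans h2)
    haveI : A.Normal := Subgroup.normal_of_index_eq_two hAi
    have hAdec : ∀ x ∈ A, ∃ i j : ℤ, x = a ^ i * z ^ j := fun x hx => by
      rw [hA, Subgroup.mem_comap, Subgroup.mem_zpowers_iff] at hx
      obtain ⟨i, hi⟩ := hx
      rw [← map_zpow, QuotientGroup.mk'_apply, QuotientGroup.mk'_apply, QuotientGroup.eq] at hi
      obtain ⟨j, hj⟩ := Subgroup.mem_zpowers_iff.1 hi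
      exact ⟨i, j, by rw [hj]; group⟩
    have hzcomm : ∀ (j : ℤ) (x : P), Commute x (z ^ j) := fun j x =>
      Subgroup.mem_center_iff.1 ((Subgroup.center P).zpow_mem hzC j) x
    have hAcomm : ∀ x ∈ A, ∀ x' ∈ A, x * x' = x' * x := by
      intro x hx x' hx'
      obtain ⟨i, j, rfl⟩ := hAdec x hx
      obtain ⟨i', j', rfl⟩ := hAdec x' hx'
      exact ((((Commute.refl a).zpow_zpow i i').mul_right (hzcomm j' _)).mul_left
        (((hzcomm j _).symm).mul_right ((hzcomm j' _)))).eq
    obtain ⟨y, hy⟩ : ∃ y, y ∉ A := by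
      by_contra hall
      push Not at hall
      rw [(Subgroup.eq_top_iff' A).2 hall, Subgroup.index_top] at hAi
      omega
    let D : A →* A :=
      { toFun := fun x => ⟨y * (x : P) * y⁻¹ * (x : P)⁻¹,
          mul_mem (‹A.Normal›.conj_mem _ x.2 y) (inv_mem x.2)⟩
        map_one' := Subtype.ext (by simp)
        map_mul' := fun x x' => Subtype.ext (by
          show y * ((x : P) * x') * y⁻¹ * ((x : P) * x')⁻¹ =
            y * (x : P) * y⁻¹ * (x : P)⁻¹ * (y * (x' : P) * y⁻¹ * (x' : P)⁻¹)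
          have h1 := hAcomm _ (inv_mem x.2) _
            (mul_mem (‹A.Normal›.conj_mem _ x'.2 y) (inv_mem x'.2))
          rw [mul_assoc (y * (x : P) * y⁻¹) (x : P)⁻¹, h1]
          group) }
    set W := D.range.map A.subtype with hW
    have hWmem : ∀ x : A, y * (x : P) * y⁻¹ * (x : P)⁻¹ ∈ W := fun x => ⟨D x, ⟨x, rfl⟩, rfl⟩
    have hcover : ∀ g : P, g ∈ A ∨ y⁻¹ * g ∈ A := fun g => by
      rcases Subgroup.index_eq_two_iff.1 hAi with ⟨_, -⟩
      by_cases hg : g ∈ A
      · exact Or.inl hg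
      · right
        rw [Subgroup.mul_mem_iff_of_index_two hAi]
        simp [hg, hy]
    have hy2 : y * y ∈ A := by
      rw [Subgroup.mul_mem_iff_of_index_two hAi]
    have hyW : ∀ w' ∈ W, y * w' * y⁻¹ ∈ W := by
      rintro w' ⟨v, ⟨x, rfl⟩, rfl⟩
      have h1 := hWmem ⟨y * (x : P) * y⁻¹, ‹A.Normal›.conj_mem _ x.2 y⟩
      convert h1 using 1
      show y * (y * (x : P) * y⁻¹ * (x : P)⁻¹) * y⁻¹ = _
      group
    have hWA : W ≤ A := Subgroup.map_subtype_le _
    haveI hWn : W.Normal := ⟨fun w' hw' g => by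
      have hconjA : ∀ x ∈ A, ∀ v ∈ W, x * v * x⁻¹ = v := fun x hx v hv => by
        rw [hAcomm x hx v (hWA hv), mul_inv_cancel_right]
      rcases hcover g with hg | hg
      · rw [hconjA g hg w' hw']; exact hw'
      · have h1 := hconjA _ hg w' hw'
        have h2 : g * w' * g⁻¹ = y * (y⁻¹ * g * w' * (y⁻¹ * g)⁻¹) * y⁻¹ := by group
        rw [h2, h1]
        exact hyW w' hw'⟩
    have hle : commutator P ≤ W := by
      rw [← QuotientGroup.ker_mk' W]
      have hab' : ∀ g g' : P, Commute (QuotientGroup.mk' W g) (QuotientGroup.mk' W g') := by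
        have hAy : ∀ x ∈ A, Commute (QuotientGroup.mk' W x) (QuotientGroup.mk' W y) := by
          intro x hx
          have h1 : QuotientGroup.mk' W (y * x * y⁻¹ * x⁻¹) = 1 :=
            (QuotientGroup.eq_one_iff _).2 (hWmem ⟨x, hx⟩)
          rw [map_mul, map_mul, map_mul, map_inv, map_inv, mul_inv_eq_one, mul_inv_eq_iff_eq_mul] at h1
          exact h1.symm
        have hAA : ∀ x ∈ A, ∀ x' ∈ A, Commute (QuotientGroup.mk' W x) (QuotientGroup.mk' W x') :=
          fun x hx x' hx' => Commute.map (hAcomm x hx x' hx') _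
        have hdec : ∀ g : P, ∃ x ∈ A, g = x ∨ g = y * x := fun g => by
          rcases hcover g with h | h
          · exact ⟨g, h, Or.inl rfl⟩
          · exact ⟨y⁻¹ * g, h, Or.inr (by group)⟩
        intro g g'
        obtain ⟨x, hx, rfl | rfl⟩ := hdec g <;> obtain ⟨x', hx', rfl | rfl⟩ := hdec g'
        · exact hAA _ hx _ hx'
        · rw [map_mul]; exact (hAy _ hx).mul_right (hAA _ hx _ hx')
        · rw [map_mul]; exact ((hAy _ hx').symm).mul_left (hAA _ hx _ hx')
        · rw [map_mul, map_mul]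
          exact ((Commute.refl _).mul_right (hAy _ hx').symm).mul_left
            ((hAy _ hx).mul_right (hAA _ hx _ hx'))
      rw [commutator_eq_closure, Subgroup.closure_le]
      rintro _ ⟨u, v, rfl⟩
      rw [SetLike.mem_coe, MonoidHom.mem_ker, map_commutatorElement, commutatorElement_eq_one_iff_mul_comm]
      exact (hab' u v).eq
    -- the kernel of `D` is too big
    have hAc : Nat.card A = 2 ^ n := by
      have h1 := Subgroup.card_mul_index A
      rw [hAi, hP, pow_succ] at h1
      exact Nat.eq_of_mul_eq_mul_right two_pos h1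
    have hcc : Nat.card (commutator P) * 4 = 2 ^ (n + 1) := by
      rw [← hidx, Subgroup.card_mul_index, hP]
    have hrange : Nat.card (commutator P) ≤ Nat.card D.range := by
      rw [← Subgroup.card_map_of_injective (K := D.range) A.subtype_injective]
      exact Subgroup.card_le_of_le hle
    have hker : Nat.card D.ker ≤ 2 := by
      have h1 := Subgroup.card_mul_index D.ker
      rw [Subgroup.index_ker, hAc] at h1
      have h2 : Nat.card D.ker * Nat.card (commutator P) ≤ 2 ^ n :=
        h1 ▸ Nat.mul_le_mul_left _ hrange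
      by_contra h3
      have h4 : 3 * Nat.card (commutator P) ≤ 2 ^ n :=
        le_trans (Nat.mul_le_mul_right _ (by omega)) h2
      rw [pow_succ] at hcc
      have := Nat.one_le_two_pow (n := n)
      omega
    set t := a ^ 2 ^ (n - 1 - 1) with ht
    have hto : orderOf t = 2 := by
      rw [ht, orderOf_pow' a (by positivity), hm, Nat.gcd_eq_right (Nat.pow_dvd_pow 2 (by omega)),
        Nat.pow_div (by omega) two_pos, show n - 1 - (n - 1 - 1) = 1 by omega, pow_one]
    have htA : t ∈ A := by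
      rw [hA, Subgroup.mem_comap, ht, map_pow]; exact Subgroup.npow_mem_zpowers _ _
    have hzA : z ∈ A := by
      have h1 : QuotientGroup.mk' Z z = 1 :=
        (QuotientGroup.eq_one_iff z).2 (Subgroup.mem_zpowers z)
      rw [hA, Subgroup.mem_comap, h1]
      exact one_mem _
    have hzt : z ≠ t := fun h => by
      have h1 : QuotientGroup.mk' Z t = 1 :=
        (QuotientGroup.eq_one_iff t).2 (h ▸ Subgroup.mem_zpowers z)
      rw [ht, map_pow] at h1
      have h2 := Nat.le_of_dvd (by positivity) (orderOf_dvd_of_pow_eq_one h1)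
      rw [hab, Nat.pow_le_pow_iff_right one_lt_two] at h2
      omega
    have hsq : ∀ x : A, (x : P) * x = 1 → y * (x : P) * y⁻¹ = x → x ∈ D.ker := fun x _ h => by
      refine MonoidHom.mem_ker.2 (Subtype.ext ?_)
      show y * (x : P) * y⁻¹ * (x : P)⁻¹ = 1
      rw [h, mul_inv_cancel]
    have hzker : (⟨z, hzA⟩ : A) ∈ D.ker := hsq _
      (by rw [← sq]; exact hzo ▸ pow_orderOf_eq_one z)
      (by show y * z * y⁻¹ = z; rw [Subgroup.mem_center_iff.1 hzC y, mul_inv_cancel_right])
    -- `t` generates the only subgroup of squares of order two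
    have htker : (⟨t, htA⟩ : A) ∈ D.ker := by
      refine hsq _ (by rw [← sq]; exact hto ▸ pow_orderOf_eq_one t) ?_
      show y * t * y⁻¹ = t
      have hyA : y * a * y⁻¹ ∈ A := ‹A.Normal›.conj_mem _ (by
        rw [hA, Subgroup.mem_comap]; exact Subgroup.mem_zpowers _) y
      obtain ⟨i, j, hij⟩ := hAdec _ hyA
      have hpow : y * t * y⁻¹ = t ^ i := by
        rw [ht, ← conj_pow, hij, (hzcomm j (a ^ i)).mul_pow, ← zpow_natCast (z ^ j),
          ← zpow_mul, ← zpow_natCast (a ^ i), ← zpow_mul]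
        have h2 : z ^ (j * ((2 ^ (n - 1 - 1) : ℕ) : ℤ)) = 1 := by
          rw [← orderOf_dvd_iff_zpow_eq_one, hzo]
          exact Dvd.dvd.mul_left (Int.natCast_dvd_natCast.2 (dvd_pow_self 2 (by omega))) j
        rw [h2, mul_one, mul_comm i, zpow_mul, zpow_natCast]
      rcases Int.even_or_odd' i with ⟨q, rfl | rfl⟩
      · exfalso
        have h1 : y * t * y⁻¹ = 1 := by
          rw [hpow, zpow_mul, zpow_two, ← sq, ← hto, pow_orderOf_eq_one, one_zpow]
        rw [conj_eq_one_iff] at h1
        rw [h1, orderOf_one] at hto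
        omega
      · rw [hpow, zpow_add_one, zpow_mul, zpow_two, ← sq, ← hto, pow_orderOf_eq_one, one_zpow,
          one_mul]
    have hlt := Subgroup.card_le_of_le (show Subgroup.zpowers (⟨z, hzA⟩ : A) ⊔
      Subgroup.zpowers ⟨t, htA⟩ ≤ D.ker from sup_le (Subgroup.zpowers_le.2 hzker)
        (Subgroup.zpowers_le.2 htker))
    have hzne : (⟨t, htA⟩ : A) ∉ Subgroup.zpowers (⟨z, hzA⟩ : A) := by
      intro h
      obtain ⟨i, hi⟩ := Subgroup.mem_zpowers_iff.1 h
      have hi' : z ^ i = t := congrArg Subtype.val hi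
      rcases Int.even_or_odd' i with ⟨q, rfl | rfl⟩
      · rw [zpow_mul, zpow_two, ← sq, ← hzo, pow_orderOf_eq_one, one_zpow] at hi'
        rw [← hi', orderOf_one] at hto
        omega
      · rw [zpow_add_one, zpow_mul, zpow_two, ← sq, ← hzo, pow_orderOf_eq_one, one_zpow,
          one_mul] at hi'
        exact hzt hi'
    have hlt2 : Nat.card (Subgroup.zpowers (⟨z, hzA⟩ : A)) <
        Nat.card (Subgroup.zpowers (⟨z, hzA⟩ : A) ⊔ Subgroup.zpowers ⟨t, htA⟩ : Subgroup A) := by
      refine lt_of_le_of_ne (Subgroup.card_le_of_le le_sup_left) fun he => hzne ?_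
      have := Subgroup.eq_of_le_of_card_ge
        (le_sup_left : Subgroup.zpowers (⟨z, hzA⟩ : A) ≤ _ ⊔ Subgroup.zpowers ⟨t, htA⟩) he.ge
      rw [this]
      exact Subgroup.mem_sup_right (Subgroup.mem_zpowers _)
    rw [Nat.card_zpowers, Subgroup.orderOf_mk, hzo] at hlt2
    omega

/-- A cyclic subgroup of index two is normal and covers the group with one coset. -/
theorem conj_mem_zpowers {R : Type*} [Group R] [Finite R] {n : ℕ} (hn : 1 ≤ n)
    (hR : Nat.card R = 2 ^ n) {a : R} (ha : orderOf a = 2 ^ (n - 1)) :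
    (Subgroup.zpowers a).index = 2 := by
  have h1 := Subgroup.card_mul_index (Subgroup.zpowers a)
  rw [Nat.card_zpowers, ha, hR] at h1
  have h2 : 2 ^ n = 2 ^ (n - 1) * 2 := by rw [← pow_succ]; congr 1; omega
  exact Nat.eq_of_mul_eq_mul_left (by positivity) (h1.trans h2)

/-- `h a h⁻¹ = a^(2c+1)` with `c` odd forces index 4. -/
theorem index_eq_four {R : Type*} [Group R] [Finite R] {n c : ℕ} (hn : 3 ≤ n)
    (hR : Nat.card R = 2 ^ n) {a h : R} (ha : orderOf a = 2 ^ (n - 1)) (hc : Odd c)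
    (hconj : h * a * h⁻¹ = a ^ (2 * c + 1)) : (commutator R).index = 4 := by
  haveI : Fact (Nat.Prime 2) := ⟨Nat.prime_two⟩
  haveI : (Subgroup.zpowers a).Normal :=
    Subgroup.normal_of_index_eq_two (conj_mem_zpowers (by omega) hR ha)
  set W := Subgroup.zpowers (a ^ 2) with hW
  haveI : W.Normal := ⟨fun x hx g => by
    obtain ⟨i, rfl⟩ := hx
    obtain ⟨j, hj⟩ := Subgroup.mem_zpowers_iff.1
      (‹(Subgroup.zpowers a).Normal›.conj_mem a (Subgroup.mem_zpowers a) g)
    refine Subgroup.mem_zpowers_iff.2 ⟨j * i, ?_⟩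
    show _ = g * (a ^ 2) ^ i * g⁻¹
    rw [← conj_zpow, ← conj_pow, ← hj]
    simp only [← zpow_natCast, ← zpow_mul]
    congr 1; ring⟩
  have hWc : Nat.card W = 2 ^ (n - 2) := by
    rw [hW, Nat.card_zpowers, orderOf_pow' a two_ne_zero, ha,
      Nat.gcd_eq_right (dvd_pow_self 2 (by omega)),
      show 2 ^ (n - 1) = 2 ^ (n - 2) * 2 by rw [← pow_succ]; congr 1; omega,
      Nat.mul_div_cancel _ two_pos]
  have hWi : W.index = 4 := by
    have h1 := Subgroup.card_mul_index W
    rw [hWc, hR] at h1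
    have h2 : 2 ^ n = 2 ^ (n - 2) * 4 := by
      rw [show (4 : ℕ) = 2 ^ 2 by norm_num, ← pow_add]; congr 1; omega
    exact Nat.eq_of_mul_eq_mul_left (by positivity) (h1.trans h2)
  have hle : commutator R ≤ W := by
    have hcomm := IsPGroup.commutative_of_card_eq_prime_sq (p := 2) (G := R ⧸ W)
      (by rw [← Subgroup.index_eq_card, hWi]; norm_num)
    rw [← QuotientGroup.ker_mk' W, commutator_eq_closure, Subgroup.closure_le]
    rintro _ ⟨u, v, rfl⟩
    rw [SetLike.mem_coe, MonoidHom.mem_ker, map_commutatorElement, commutatorElement_eq_one_iff_mul_comm]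
    exact hcomm _ _
  have hge : W ≤ commutator R := by
    rw [hW, Subgroup.zpowers_le]
    have h1 : h * a * h⁻¹ * a⁻¹ ∈ commutator R := by
      rw [commutator_eq_closure]
      exact Subgroup.subset_closure ⟨h, a, rfl⟩
    rw [hconj, pow_succ, mul_inv_cancel_right, pow_mul] at h1
    have hcop : c.Coprime (orderOf (a ^ 2)) := by
      rw [← Nat.card_zpowers, ← hW, hWc]
      exact Nat.Coprime.pow_right _ (Nat.coprime_two_right.2 hc)
    obtain ⟨m, hm⟩ := exists_pow_eq_self_of_coprime hcop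
    rw [← hm]
    exact pow_mem h1 m
  rw [le_antisymm hle hge, hWi]

/-- The possible action on the cyclic subgroup of index 2. -/
theorem exists_action {R : Type*} [Group R] [Finite R] {n : ℕ} (hn : 3 ≤ n)
    (hR : Nat.card R = 2 ^ n) (hidx : (commutator R).index = 4) {a : R}
    (ha : orderOf a = 2 ^ (n - 1)) :
    ∃ y : R, ∃ i : ℕ, (i = 2 ^ (n - 1) - 1 ∨ i = 2 ^ (n - 2) - 1) ∧ y * a * y⁻¹ = a ^ i ∧
      y ∉ Subgroup.zpowers a := by
  have hA2 := conj_mem_zpowers (by omega) hR ha
  set A := Subgroup.zpowers a with hA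
  haveI : A.Normal := Subgroup.normal_of_index_eq_two hA2
  obtain ⟨y, hy⟩ : ∃ y, y ∉ A := by
    by_contra hall
    push Not at hall
    rw [(Subgroup.eq_top_iff' A).2 hall, Subgroup.index_top] at hA2
    omega
  obtain ⟨i, hi⟩ := mem_powers_iff_mem_zpowers.2
    (‹A.Normal›.conj_mem a (Subgroup.mem_zpowers a) y)
  simp only at hi
  set W := Subgroup.zpowers (y * a * y⁻¹ * a⁻¹) with hW
  have hwA : y * a * y⁻¹ * a⁻¹ ∈ A :=
    mul_mem (‹A.Normal›.conj_mem a (Subgroup.mem_zpowers a) y) (inv_mem (Subgroup.mem_zpowers a))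
  obtain ⟨e, he⟩ := mem_powers_iff_mem_zpowers.2 hwA
  simp only at he
  haveI : W.Normal := ⟨fun x hx g => by
    obtain ⟨k, rfl⟩ := hx
    obtain ⟨j, hj⟩ := Subgroup.mem_zpowers_iff.1
      (‹A.Normal›.conj_mem a (Subgroup.mem_zpowers a) g)
    refine Subgroup.mem_zpowers_iff.2 ⟨j * k, ?_⟩
    show _ = g * (y * a * y⁻¹ * a⁻¹) ^ k * g⁻¹
    rw [← he, ← conj_zpow, ← conj_pow, ← hj]
    simp only [← zpow_natCast, ← zpow_mul]
    congr 1; ring⟩
  have hle : commutator R ≤ W := by
    rw [← QuotientGroup.ker_mk' W, commutator_eq_closure, Subgroup.closure_le]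
    rintro _ ⟨u, v, rfl⟩
    rw [SetLike.mem_coe, MonoidHom.mem_ker, map_commutatorElement, commutatorElement_eq_one_iff_mul_comm]
    have hya : Commute (QuotientGroup.mk' W y) (QuotientGroup.mk' W a) := by
      have h1 : QuotientGroup.mk' W (y * a * y⁻¹ * a⁻¹) = 1 :=
        (QuotientGroup.eq_one_iff _).2 (Subgroup.mem_zpowers _)
      rw [map_mul, map_mul, map_mul, map_inv, map_inv, mul_inv_eq_one, mul_inv_eq_iff_eq_mul] at h1
      exact h1
    have hdec : ∀ g : R, ∃ k : ℤ, g = a ^ k ∨ g = y * a ^ k := fun g => by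
      by_cases hg : g ∈ A
      · obtain ⟨k, hk⟩ := Subgroup.mem_zpowers_iff.1 hg
        exact ⟨k, Or.inl hk.symm⟩
      · have h2 : y⁻¹ * g ∈ A := by
          rw [Subgroup.mul_mem_iff_of_index_two hA2]
          simp [hg, hy]
        obtain ⟨k, hk⟩ := Subgroup.mem_zpowers_iff.1 h2
        exact ⟨k, Or.inr (by rw [hk]; group)⟩
    have haa : ∀ k l : ℤ, Commute ((QuotientGroup.mk' W a) ^ k) ((QuotientGroup.mk' W a) ^ l) :=
      fun k l => (Commute.refl _).zpow_zpow k l
    obtain ⟨k, rfl | rfl⟩ := hdec u <;> obtain ⟨l, rfl | rfl⟩ := hdec v <;>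
      simp only [map_mul, map_zpow]
    · exact (haa k l).eq
    · exact (((hya.symm).zpow_left k).mul_right (haa k l)).eq
    · exact ((hya.zpow_right l).mul_left (haa k l)).eq
    · exact (((Commute.refl _).mul_right (hya.zpow_right l)).mul_left
        (((hya.symm).zpow_left k).mul_right (haa k l))).eq
  have hord : 2 ^ (n - 2) ∣ orderOf (y * a * y⁻¹ * a⁻¹) := by
    have h1 : Nat.card (commutator R) = 2 ^ (n - 2) := by
      have h2 := Subgroup.card_mul_index (commutator R)
      rw [hidx, hR, show 2 ^ n = 2 ^ (n - 2) * 4 by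
        rw [show (4 : ℕ) = 2 ^ 2 by norm_num, ← pow_add]; congr 1; omega] at h2
      exact Nat.eq_of_mul_eq_mul_right (by norm_num) h2
    rw [← h1, ← Nat.card_zpowers]
    exact Subgroup.card_dvd_of_le hle
  have hy2 : y * y ∈ A := by rw [Subgroup.mul_mem_iff_of_index_two hA2]
  -- `i² ≡ 1`
  have hsq : (y * y) * a * (y * y)⁻¹ = a ^ (i * i) := by
    calc (y * y) * a * (y * y)⁻¹ = y * (y * a * y⁻¹) * y⁻¹ := by group
      _ = a ^ (i * i) := by rw [← hi, ← conj_pow, ← hi, ← pow_mul]
  obtain ⟨k, hk⟩ := Subgroup.mem_zpowers_iff.1 hy2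
  rw [← hk, show a ^ k * a * (a ^ k)⁻¹ = a by group] at hsq
  have hii : i * i ≡ 1 [MOD 2 ^ (n - 1)] := by
    rw [← ha, ← pow_eq_pow_iff_modEq, pow_one]; exact hsq.symm
  have hdvd : ((2 ^ (n - 1) : ℕ) : ℤ) ∣ ((i : ℤ) - 1) * ((i : ℤ) + 1) := by
    have := (Nat.modEq_iff_dvd.1 hii.symm)
    push_cast at this ⊢
    rwa [show ((i : ℤ) - 1) * ((i : ℤ) + 1) = i * i - 1 by ring]
  have hord2 : ¬ (4 : ℤ) ∣ ((i : ℤ) - 1) := by
    intro h4
    obtain ⟨q, hq⟩ := h4
    have hone : (y * a * y⁻¹ * a⁻¹) ^ (2 ^ (n - 3)) = 1 := by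
      rw [← hi, ← zpow_natCast a i, ← zpow_sub_one, ← zpow_natCast, ← zpow_mul,
        ← orderOf_dvd_iff_zpow_eq_one, ha, hq]
      refine ⟨q, ?_⟩
      rw [show n - 1 = (n - 3) + 2 by omega, pow_add]
      push_cast; ring
    have h5 := Nat.le_of_dvd (by positivity) (hord.trans (orderOf_dvd_of_pow_eq_one hone))
    rw [Nat.pow_le_pow_iff_right one_lt_two] at h5
    omega
  have hodd : (2 : ℤ) ∣ ((i : ℤ) - 1) := by
    have h2 : (2 : ℤ) ∣ ((i : ℤ) - 1) * ((i : ℤ) + 1) :=
      (Dvd.intro _ (show (2 : ℤ) * 2 ^ (n - 2) = ((2 ^ (n - 1) : ℕ) : ℤ) by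
        push_cast; rw [← pow_succ']; congr 1; omega)).trans hdvd
    rcases Int.prime_two.dvd_mul.1 h2 with h | h
    · exact h
    · omega
  obtain ⟨c, hc⟩ := hodd
  have hcodd : Odd c := by
    rcases Int.even_or_odd c with ⟨q, hq⟩ | h
    · exact absurd ⟨q, by omega⟩ hord2
    · exact h
  have hhalf : ((2 ^ (n - 2) : ℕ) : ℤ) ∣ (i : ℤ) + 1 := by
    rw [hc, show (2 : ℤ) * c * ((i : ℤ) + 1) = 2 * (c * ((i : ℤ) + 1)) by ring,
      show (((2 ^ (n - 1) : ℕ)) : ℤ) = 2 * ((2 ^ (n - 2) : ℕ) : ℤ) by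
        push_cast; rw [← pow_succ']; congr 1; omega] at hdvd
    refine IsCoprime.dvd_of_dvd_mul_left ?_ ((mul_dvd_mul_iff_left two_ne_zero).1 hdvd)
    push_cast
    refine IsCoprime.pow_left ?_
    rw [Int.prime_two.coprime_iff_not_dvd]
    obtain ⟨q, hq⟩ := hcodd
    omega
  obtain ⟨q, hq⟩ := hhalf
  have hM : 2 ^ (n - 1) = 2 * 2 ^ (n - 2) := by rw [← pow_succ']; congr 1; omega
  have hpos : 1 ≤ 2 ^ (n - 2) := Nat.one_le_two_pow
  have hmod : a ^ i = a ^ ((i : ℤ)) := (zpow_natCast a i).symm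
  rcases Int.even_or_odd' q with ⟨r, rfl | rfl⟩
  · refine ⟨y, 2 ^ (n - 1) - 1, Or.inl rfl, ?_, hy⟩
    rw [← hi, hmod, ← zpow_natCast, zpow_eq_zpow_iff_modEq, ha, Int.modEq_iff_dvd]
    refine ⟨1 - r, ?_⟩
    have : (i : ℤ) = ((2 ^ (n - 2) : ℕ) : ℤ) * (2 * r) - 1 := by linarith
    rw [Nat.cast_sub Nat.one_le_two_pow, this, hM]; push_cast; ring
  · refine ⟨y, 2 ^ (n - 2) - 1, Or.inr rfl, ?_, hy⟩
    rw [← hi, hmod, ← zpow_natCast, zpow_eq_zpow_iff_modEq, ha, Int.modEq_iff_dvd]
    refine ⟨-r, ?_⟩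
    have : (i : ℤ) = ((2 ^ (n - 2) : ℕ) : ℤ) * (2 * r + 1) - 1 := by linarith
    rw [Nat.cast_sub hpos, this, hM]; push_cast; ring

/-! ### Galois theory -/

/-- An element of a cyclotomic field fixed by all automorphisms fixing `S` lies in `ℚ(S)`. -/
theorem mem_adjoin_of_fixed {N : ℕ} [NeZero N] {ω : ℂ} (hω : IsPrimitiveRoot ω N) {S : Set ℂ}
    (hS : ∀ x ∈ S, x ∈ adjoin ℚ ({ω} : Set ℂ)) {v : ℂ} (hv : v ∈ adjoin ℚ ({ω} : Set ℂ))
    (h : ∀ σ : ℂ ≃+* ℂ, (∀ x ∈ S, σ x = x) → σ v = v) : v ∈ adjoin ℚ S := by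
  haveI : IsCyclotomicExtension {N} ℚ (adjoin ℚ ({ω} : Set ℂ)) := by
    show IsCyclotomicExtension {N} ℚ (adjoin ℚ ({ω} : Set ℂ)).toSubalgebra
    rw [adjoin_simple_toSubalgebra_of_isAlgebraic
      ((hω.isIntegral (NeZero.pos N)).tower_top (A := ℚ)).isAlgebraic]
    exact hω.adjoin_isCyclotomicExtension ℚ
  haveI : FiniteDimensional ℚ (adjoin ℚ ({ω} : Set ℂ)) :=
    IsCyclotomicExtension.finiteDimensional {N} ℚ _
  haveI hgal : IsGalois ℚ (adjoin ℚ ({ω} : Set ℂ)) :=
    IsCyclotomicExtension.isGalois (S := {N}) (K := ℚ) (L := adjoin ℚ ({ω} : Set ℂ))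
  have hle : adjoin ℚ S ≤ adjoin ℚ ({ω} : Set ℂ) := adjoin_le_iff.2 hS
  set T := IntermediateField.restrict hle
  suffices hmem : (⟨v, hv⟩ : adjoin ℚ ({ω} : Set ℂ)) ∈ T by
    exact (IntermediateField.mem_restrict hle _).1 hmem
  haveI : @IsGalois ℚ _ (adjoin ℚ ({ω} : Set ℂ)) _ (IntermediateField.algebra' _) := by
    convert hgal using 1
    subsingleton
  rw [← IsGalois.fixedField_fixingSubgroup T, IntermediateField.mem_fixedField_iff]
  intro τ hτ
  set w : adjoin ℚ ({ω} : Set ℂ) := ⟨ω, mem_adjoin_simple_self ℚ ω⟩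
  have hw : IsPrimitiveRoot w N := IsPrimitiveRoot.of_map_of_injective
    (f := (adjoin ℚ ({ω} : Set ℂ)).val) hω (RingHom.injective _)
  have hτw : IsPrimitiveRoot (τ w) N := hw.map_of_injective τ.injective
  obtain ⟨k, -, hk, hkτ⟩ := hw.isPrimitiveRoot_iff.1 hτw
  obtain ⟨σ, hσ⟩ := CfsgLib.GaloisConj.exists_ringEquiv_pow N k hk
  have key : ∀ x : adjoin ℚ ({ω} : Set ℂ), σ (x : ℂ) = (τ x : ℂ) := by
    rintro ⟨x, hx⟩
    induction hx using IntermediateField.adjoin_induction with
    | mem x hx =>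
      rw [Set.mem_singleton_iff] at hx
      subst hx
      rw [hσ _ hω.pow_eq_one]
      exact congrArg Subtype.val hkτ
    | algebraMap q =>
      refine (map_ratCast σ q).trans ?_
      exact (congrArg Subtype.val (τ.commutes q)).symm
    | add x y hx hy ihx ihy =>
      rw [map_add, ihx, ihy]
      exact (congrArg Subtype.val (map_add τ ⟨x, hx⟩ ⟨y, hy⟩)).symm
    | inv x hx ihx =>
      rw [map_inv₀, ihx]
      exact (congrArg Subtype.val (map_inv₀ τ ⟨x, hx⟩)).symm
    | mul x y hx hy ihx ihy =>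
      rw [map_mul, ihx, ihy]
      exact (congrArg Subtype.val (map_mul τ ⟨x, hx⟩ ⟨y, hy⟩)).symm
  refine Subtype.ext ((key ⟨v, hv⟩).symm.trans (h σ fun x hx => ?_))
  rw [key ⟨x, hS x hx⟩]
  exact congrArg Subtype.val
    ((IntermediateField.mem_fixingSubgroup_iff _ _).1 hτ _
      ((IntermediateField.mem_restrict hle _).2 (subset_adjoin ℚ S hx)))

/-- A root of unity field element `ζ + ε / ζ` is fixed by `ζ ↦ ζ^k` iff `ζ^k ∈ {ζ, ε/ζ}`. -/
theorem fixed_iff {x y ε : ℂ} (hx : x ≠ 0) (hy : y ≠ 0) :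
    y + ε * y⁻¹ = x + ε * x⁻¹ ↔ y = x ∨ y = ε * x⁻¹ := by
  constructor
  · intro h
    have h1 : (y - x) * (x * y - ε) = 0 := by
      field_simp at h
      linear_combination h
    rcases mul_eq_zero.1 h1 with h2 | h2
    · exact Or.inl (sub_eq_zero.1 h2)
    · right
      field_simp
      linear_combination h2
  · rintro (rfl | rfl)
    · rfl
    · have hε : ε ≠ 0 := fun h => hy (by rw [h, zero_mul])
      field_simp
      ring

variable {G : Type*} [Group G] [Finite G]

/-- The field of values at `g` is `ℚ(ζ + ε/ζ)` exactly when `g` is conjugate to `g ^ j` (`j` odd)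
precisely for `j ≡ 1, i` modulo `2^(n-1)`, where `ζ^i = ε/ζ`. -/
theorem field_eq_iff (P : Sylow 2 G) {n : ℕ} (hn : 3 ≤ n) (hP : Nat.card P = 2 ^ n) {ζ : ℂ}
    (hζ : IsPrimitiveRoot ζ (2 ^ (n - 1))) {g : G} (hg : g ∈ (P : Subgroup G)) {ε : ℂ}
    (hε : ε = 1 ∨ ε = -1)
    {i : ℕ} (hi : ζ ^ i = ε * ζ⁻¹) :
    adjoin ℚ {z : ℂ | ∃ χ : Cfsg.IrrCharacter G, (χ : G → ℂ) g = z} =
        adjoin ℚ ({ζ + ε * ζ⁻¹} : Set ℂ) ↔
      ∀ j : ℕ, Odd j → (IsConj g (g ^ j) ↔
        (j ≡ 1 [MOD 2 ^ (n - 1)] ∨ j ≡ i [MOD 2 ^ (n - 1)])) := by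
  haveI : Fact (Nat.Prime 2) := ⟨Nat.prime_two⟩
  haveI := Fintype.ofFinite G
  set N := Nat.card G with hN
  haveI : NeZero N := ⟨Nat.card_pos.ne'⟩
  set ω := Complex.exp (2 * Real.pi * Complex.I / N) with hωdef
  have hω : IsPrimitiveRoot ω N := Complex.isPrimitiveRoot_exp N (NeZero.ne N)
  have hroot : ∀ w : ℂ, w ^ N = 1 → w ∈ adjoin ℚ ({ω} : Set ℂ) := fun w hw => by
    obtain ⟨j, -, rfl⟩ := hω.eq_pow_of_pow_eq_one hw
    exact pow_mem (mem_adjoin_simple_self ℚ ω) j
  have hcard : N = 2 ^ n * (P : Subgroup G).index := by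
    rw [← hP, hN, Subgroup.card_mul_index]
  have hζN : ζ ^ N = 1 := by
    rw [hcard, show 2 ^ n = 2 ^ (n - 1) * 2 by rw [← pow_succ]; congr 1; omega, mul_assoc,
      pow_mul, hζ.pow_eq_one, one_pow]
  have hζ0 : ζ ≠ 0 := hζ.ne_zero (by positivity)
  have hvE : ∀ x ∈ {z : ℂ | ∃ χ : Cfsg.IrrCharacter G, (χ : G → ℂ) g = z},
      x ∈ adjoin ℚ ({ω} : Set ℂ) := by
    rintro _ ⟨χ, rfl⟩
    obtain ⟨m, ρ, hρ, hχ⟩ := χ.2
    obtain ⟨μ, hμ, hj, -⟩ := CfsgLib.Characters.exists_eigenvalues ρ g
    have h1 := hj 1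
    rw [pow_one] at h1
    rw [← hχ, h1]
    refine sum_mem fun l _ => ?_
    rw [pow_one]
    obtain ⟨d, hd⟩ := orderOf_dvd_natCard g
    exact hroot _ (by rw [hN, hd, pow_mul, hμ l, one_pow])
  have hzE : ∀ x ∈ ({ζ + ε * ζ⁻¹} : Set ℂ), x ∈ adjoin ℚ ({ω} : Set ℂ) := by
    intro x hx
    rw [Set.mem_singleton_iff] at hx
    rw [hx, ← hi]
    exact add_mem (hroot ζ hζN) (pow_mem (hroot ζ hζN) i)
  -- a power map for every automorphism
  have hσ : ∀ σ : ℂ ≃+* ℂ, ∃ k : ℕ, Odd k ∧ (∀ w : ℂ, w ^ N = 1 → σ w = w ^ k) := by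
    intro σ
    obtain ⟨k, -, hk, hkω⟩ := hω.isPrimitiveRoot_iff.1
      (hω.map_of_injective σ.injective)
    refine ⟨k, ?_, fun w hw => ?_⟩
    · rw [← Nat.coprime_two_right]
      refine hk.coprime_dvd_right ?_
      rw [hcard]
      exact Dvd.dvd.mul_right (dvd_pow_self 2 (by omega)) _
    · obtain ⟨j, -, rfl⟩ := hω.eq_pow_of_pow_eq_one hw
      rw [map_pow, ← hkω, ← pow_mul, ← pow_mul, mul_comm]
  have hfixV : ∀ (σ : ℂ ≃+* ℂ) (k : ℕ), (∀ w : ℂ, w ^ N = 1 → σ w = w ^ k) →
      ((∀ x ∈ {z : ℂ | ∃ χ : Cfsg.IrrCharacter G, (χ : G → ℂ) g = z}, σ x = x) ↔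
        IsConj g (g ^ k)) := by
    intro σ k hk
    constructor
    · intro h
      refine CfsgLib.Characters.isConj_of_irr_eq fun χ => ?_
      rw [← CfsgLib.GaloisConj.map_character_eq_pow hk
        (CfsgLib.Characters.isCharacter_of_isIrr χ.2), h _ ⟨χ, rfl⟩]
    · rintro h _ ⟨χ, rfl⟩
      rw [CfsgLib.GaloisConj.map_character_eq_pow hk (CfsgLib.Characters.isCharacter_of_isIrr χ.2)]
      exact CfsgLib.Characters.classFunction_isConj (CfsgLib.Characters.isClassFunction_of_isIrr χ.2)
        h.symm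
  have hfixz : ∀ (σ : ℂ ≃+* ℂ) (k : ℕ), (∀ w : ℂ, w ^ N = 1 → σ w = w ^ k) →
      ((∀ x ∈ ({ζ + ε * ζ⁻¹} : Set ℂ), σ x = x) ↔
        (k ≡ 1 [MOD 2 ^ (n - 1)] ∨ k ≡ i [MOD 2 ^ (n - 1)])) := by
    intro σ k hk
    have hσi : σ (ζ + ε * ζ⁻¹) = ζ ^ k + ε * (ζ ^ k)⁻¹ := by
      rw [map_add, map_mul, map_inv₀, hk ζ hζN]
      rcases hε with rfl | rfl <;> simp
    have hpm : ∀ a b : ℕ, ζ ^ a = ζ ^ b ↔ a ≡ b [MOD 2 ^ (n - 1)] := fun a b => by
      rw [(hζ.isOfFinOrder (by positivity)).pow_eq_pow_iff_modEq, ← hζ.eq_orderOf]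
    rw [show (∀ x ∈ ({ζ + ε * ζ⁻¹} : Set ℂ), σ x = x) ↔ σ (ζ + ε * ζ⁻¹) = ζ + ε * ζ⁻¹ by simp,
      hσi, fixed_iff hζ0 (pow_ne_zero _ hζ0), ← hi, ← hpm, ← hpm, pow_one]
  constructor
  · intro heq j hj
    have hindex : Odd (P : Subgroup G).index :=
      Nat.not_even_iff_odd.1 fun he => P.not_dvd_index (even_iff_two_dvd.1 he)
    obtain ⟨k, hk1, hk2⟩ := Nat.chineseRemainder
      (((Nat.coprime_two_left.2 hindex).pow_left n)) j 1
    have hkN : k.Coprime N := by
      rw [hcard]
      refine Nat.Coprime.mul_right ?_ ?_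
      · refine Nat.Coprime.pow_right _ (Nat.coprime_two_right.2 ?_)
        rw [Nat.odd_iff, (hk1.of_dvd (dvd_pow_self 2 (by omega)))]
        exact Nat.odd_iff.1 hj
      · rw [Nat.Coprime, hk2.gcd_eq, Nat.gcd_one_left]
    obtain ⟨σ, hσk⟩ := CfsgLib.GaloisConj.exists_ringEquiv_pow N k hkN
    have hgk : g ^ k = g ^ j := by
      rw [pow_eq_pow_iff_modEq]
      refine hk1.of_dvd ?_
      rw [← hP]
      exact Subgroup.orderOf_dvd_natCard _ hg
    have hkj : k ≡ j [MOD 2 ^ (n - 1)] := hk1.of_dvd (Nat.pow_dvd_pow 2 (Nat.sub_le n 1))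
    rw [← hgk, ← hfixV σ k hσk]
    constructor
    · intro h
      have h1 : ∀ x ∈ ({ζ + ε * ζ⁻¹} : Set ℂ), σ x = x := fun x hx =>
        CfsgLib.PRational.fix_adjoin σ h (heq ▸ subset_adjoin ℚ _ hx)
      exact ((hfixz σ k hσk).1 h1).imp hkj.symm.trans hkj.symm.trans
    · intro h x hx
      exact CfsgLib.PRational.fix_adjoin σ
        ((hfixz σ k hσk).2 (h.imp hkj.trans hkj.trans)) (heq ▸ subset_adjoin ℚ _ hx)
  · intro hΦ
    refine le_antisymm (adjoin_le_iff.2 fun x hx => ?_) (adjoin_le_iff.2 fun x hx => ?_)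
    · refine mem_adjoin_of_fixed hω hzE (hvE x hx) fun σ h => ?_
      obtain ⟨k, hk, hσk⟩ := hσ σ
      exact (hfixV σ k hσk).2 ((hΦ k hk).2 ((hfixz σ k hσk).1 h)) x hx
    · refine mem_adjoin_of_fixed hω hvE (hzE x hx) fun σ h => ?_
      obtain ⟨k, hk, hσk⟩ := hσ σ
      exact (hfixz σ k hσk).2 ((hΦ k hk).1 ((hfixV σ k hσk).1 h)) x hx

/-- The commutator subgroup has the same index in isomorphic groups. -/
theorem index_commutator_congr {A B : Type*} [Group A] [Group B] (e : A ≃* B) :
    (commutator A).index = (commutator B).index := by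
  rw [← Subgroup.index_map_equiv (commutator A) e, commutator_def, Subgroup.map_commutator,
    Subgroup.map_top_of_surjective _ e.surjective, ← commutator_def]

/-- A group of order `2^n` with a central cyclic subgroup of index 2 is abelian. -/
theorem mul_comm_of_central {R : Type*} [Group R] [Finite R] {a : R}
    (hidx : (Subgroup.zpowers a).index = 2) (h : ∀ y : R, Commute y a) (u v : R) :
    u * v = v * u := by
  by_cases hu : u ∈ Subgroup.zpowers a
  · obtain ⟨k, rfl⟩ := Subgroup.mem_zpowers_iff.1 hu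
    exact ((h v).zpow_right k).eq.symm
  by_cases hv : v ∈ Subgroup.zpowers a
  · obtain ⟨k, rfl⟩ := Subgroup.mem_zpowers_iff.1 hv
    exact ((h u).zpow_right k).eq
  have huv : u⁻¹ * v ∈ Subgroup.zpowers a := by
    rw [Subgroup.mul_mem_iff_of_index_two hidx]
    simp [hu, hv]
  obtain ⟨k, hk⟩ := Subgroup.mem_zpowers_iff.1 huv
  have hv' : v = u * a ^ k := by rw [hk, mul_inv_cancel_left]
  rw [hv', mul_assoc u (a ^ k) u, ((h u).zpow_right k).eq]

/-- A non-abelian group of order 8 has commutator subgroup of index 4. -/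
theorem index_eq_four_of_eight {R : Type*} [Group R] [Finite R] (hR : Nat.card R = 2 ^ 3)
    (hna : ¬ ∀ u v : R, u * v = v * u) : (commutator R).index = 4 := by
  obtain ⟨a, ha⟩ : ∃ a : R, orderOf a = 2 ^ 2 := by
    by_contra hno
    push Not at hno
    have hsq : ∀ a : R, a * a = 1 := by
      intro a
      have hd : orderOf a ∣ 2 ^ 3 := hR ▸ orderOf_dvd_natCard a
      obtain ⟨k, hk, he⟩ := (Nat.dvd_prime_pow Nat.prime_two).1 hd
      have hcases : k = 0 ∨ k = 1 ∨ k = 2 ∨ k = 3 := by omega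
      have hdvd : orderOf a ∣ 2 := by
        rcases hcases with rfl | rfl | rfl | rfl
        · rw [he]; norm_num
        · rw [he]; norm_num
        · exact absurd he (hno a)
        · exact absurd (by rw [orderOf_pow' a two_ne_zero, he]; norm_num) (hno (a ^ 2))
      rw [← sq]
      exact orderOf_dvd_iff_pow_eq_one.1 hdvd
    refine hna fun a b => ?_
    have ha : a⁻¹ = a := inv_eq_of_mul_eq_one_right (hsq a)
    have hb : b⁻¹ = b := inv_eq_of_mul_eq_one_right (hsq b)
    calc a * b = (a * b)⁻¹ := (inv_eq_of_mul_eq_one_right (hsq _)).symm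
      _ = b * a := by rw [mul_inv_rev, ha, hb]
  have ha' : orderOf a = 2 ^ (3 - 1) := ha
  have hidx := conj_mem_zpowers (by norm_num) hR ha'
  haveI : (Subgroup.zpowers a).Normal := Subgroup.normal_of_index_eq_two hidx
  obtain ⟨h, hh⟩ : ∃ h : R, ¬ Commute h a := by
    by_contra hall
    push Not at hall
    exact hna (mul_comm_of_central hidx hall)
  obtain ⟨j, hj⟩ := mem_powers_iff_mem_zpowers.2
    (‹(Subgroup.zpowers a).Normal›.conj_mem a (Subgroup.mem_zpowers a) h)
  simp only at hj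
  have ho : orderOf (a ^ j) = orderOf a := by
    rw [hj, show h * a * h⁻¹ = MulAut.conj h a from rfl, MulEquiv.orderOf_eq]
  refine index_eq_four le_rfl hR ha' (c := 1) (h := h) odd_one ?_
  rw [← hj, ← pow_mod_orderOf a j, ← pow_mod_orderOf a (2 * 1 + 1), ha]
  rw [← pow_mod_orderOf a j, ha] at ho hj
  have hlt : j % 4 < 4 := Nat.mod_lt _ (by norm_num)
  norm_num at ho hj ⊢
  interval_cases hm : j % 4
  · rw [pow_zero, orderOf_one] at ho; omega
  · exfalso; apply hh; rw [pow_one] at hj; exact eq_mul_inv_iff_mul_eq.1 hj |>.symm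
  · rw [orderOf_pow' a two_ne_zero, ha] at ho; norm_num at ho
  · rfl

/-- Odd powers are injective on odd residues modulo a power of two. -/
theorem modEq_of_pow_modEq {g : G} {m x y r : ℕ} (hg : orderOf g = 2 ^ m) (hx : Odd x) (hy : Odd y)
    (hr : Odd r) (h : x ^ r ≡ y ^ r [MOD orderOf g]) : x ≡ y [MOD orderOf g] := by
  rw [hg] at h ⊢
  have hcx : x.Coprime (2 ^ m) := Nat.Coprime.pow_right _ (Nat.coprime_two_right.2 hx)
  have hcy : y.Coprime (2 ^ m) := Nat.Coprime.pow_right _ (Nat.coprime_two_right.2 hy)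
  have hcard : (Nat.card (ZMod (2 ^ m))ˣ).Coprime r := by
    rcases Nat.eq_zero_or_pos m with rfl | hm
    · simp
    · rw [Nat.card_eq_fintype_card, ZMod.card_units_eq_totient, Nat.totient_prime_pow Nat.prime_two hm]
      simpa using (Nat.coprime_two_left.2 hr).pow_left _
  have heq : ZMod.unitOfCoprime x hcx ^ r = ZMod.unitOfCoprime y hcy ^ r := by
    ext
    simp only [Units.val_pow_eq_pow_val, ZMod.coe_unitOfCoprime]
    exact_mod_cast (ZMod.natCast_eq_natCast_iff _ _ _).2 h
  have h1 := congrArg Units.val ((powCoprime hcard).injective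
    (a₁ := ZMod.unitOfCoprime x hcx) (a₂ := ZMod.unitOfCoprime y hcy) heq)
  rw [ZMod.coe_unitOfCoprime, ZMod.coe_unitOfCoprime] at h1
  exact (ZMod.natCast_eq_natCast_iff _ _ _).1 h1

/-- Let G be a finite group with Sylow 2-subgroup P of order 2^n ≥ 8, and let ζ be a primitive 2^(n−1)-th root of unity in ℂ. Then the commutator subgroup of P has index 4 in P if and only if there is an element g of P whose conjugacy class in G has even size and such that the field generated over ℚ by the values at g of all irreducible complex characters of G equals ℚ(ζ + ζ⁻¹) or ℚ(ζ − ζ⁻¹). -/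
theorem result {G : Type*} [Group G] [Finite G] (P : Sylow 2 G) (n : ℕ) (hn : 3 ≤ n) (hP : Nat.card P = 2 ^ n) (ζ : ℂ) (hζ : IsPrimitiveRoot ζ (2 ^ (n - 1))) :
    (commutator ↥P).index = 4 ↔
      ∃ g : G, g ∈ (P : Subgroup G) ∧ 2 ∣ (Subgroup.centralizer ({g} : Set G)).index ∧
        (IntermediateField.adjoin ℚ {z : ℂ | ∃ χ : Cfsg.IrrCharacter G, (χ : G → ℂ) g = z} = IntermediateField.adjoin ℚ ({ζ + ζ⁻¹} : Set ℂ) ∨
          IntermediateField.adjoin ℚ {z : ℂ | ∃ χ : Cfsg.IrrCharacter G, (χ : G → ℂ) g = z} = IntermediateField.adjoin ℚ ({ζ - ζ⁻¹} : Set ℂ)) := by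
  show (commutator (P : Subgroup G)).index = 4 ↔ _
  haveI : Fact (Nat.Prime 2) := ⟨Nat.prime_two⟩
  have hε : ∀ i : ℕ, (i = 2 ^ (n - 1) - 1 → ζ ^ i = 1 * ζ⁻¹) ∧
      (i = 2 ^ (n - 2) - 1 → ζ ^ i = -1 * ζ⁻¹) := by
    have hζ0 : ζ ≠ 0 := hζ.ne_zero (by positivity)
    intro i
    constructor
    · rintro rfl
      rw [pow_sub₀ _ hζ0 Nat.one_le_two_pow, hζ.pow_eq_one, pow_one]
    · rintro rfl
      have h2 : IsPrimitiveRoot (ζ ^ 2 ^ (n - 2)) 2 :=
        hζ.pow (by positivity) (by rw [← pow_succ]; congr 1; omega)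
      rw [pow_sub₀ _ hζ0 Nat.one_le_two_pow, h2.eq_neg_one_of_two_right, pow_one]
  constructor
  · intro hidx
    obtain ⟨a, ha⟩ := exists_orderOf_eq n hn (P : Subgroup G) hP hidx
    obtain ⟨y, i, hi, hy, hyn⟩ := exists_action hn hP hidx ha
    set g : G := (a : G) with hg
    have hgo : orderOf g = 2 ^ (n - 1) := by rw [hg, Subgroup.orderOf_coe, ha]
    have hA2 := conj_mem_zpowers (by omega) hP ha
    have hyG : (y : G) * g * (y : G)⁻¹ = g ^ i := by
      rw [hg]; exact_mod_cast congrArg Subtype.val hy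
    have hna : ¬ ∀ u v : (P : Subgroup G), u * v = v * u := by
      intro hall
      have hbot : commutator (P : Subgroup G) = ⊥ := by
        rw [commutator_eq_closure, Subgroup.closure_eq_bot_iff]
        rintro x ⟨u, v, rfl⟩
        rw [Set.mem_singleton_iff, commutatorElement_eq_one_iff_mul_comm]
        exact hall u v
      rw [hbot, Subgroup.index_bot, hP] at hidx
      have : 2 ^ 3 ≤ 2 ^ n := Nat.pow_le_pow_right two_pos hn
      omega
    refine ⟨g, a.2, ?_, ?_⟩
    · by_contra hodd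
      set C := Subgroup.centralizer ({g} : Set G) with hC
      obtain ⟨Q⟩ : Nonempty (Sylow 2 C) := inferInstance
      set R := (Q.isPGroup'.map C.subtype).toSylow (by
        rw [Subgroup.index_map_subtype]
        exact Nat.prime_two.not_dvd_mul Q.not_dvd_index hodd)
      have hRC : (R : Subgroup G) ≤ C := Subgroup.map_subtype_le _
      have hgR : g ∈ (R : Subgroup G) := by
        have hgp : IsPGroup 2 (Subgroup.zpowers g) :=
          IsPGroup.of_card (n := n - 1) (by rw [Nat.card_zpowers, hgo])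
        have hnorm : Subgroup.zpowers g ≤ Subgroup.normalizer ((R : Subgroup G) : Set G) := by
          rw [Subgroup.zpowers_le, Subgroup.mem_normalizer_iff]
          intro r
          constructor
          · intro hr
            rw [← Subgroup.mem_centralizer_singleton_iff.1 (hRC hr), mul_inv_cancel_right]
            exact hr
          · intro hr
            have h1 := Subgroup.mem_centralizer_singleton_iff.1 (hRC hr)
            have h2 : g * r * g⁻¹ = r := by
              calc g * r * g⁻¹ = g⁻¹ * (g * (g * r * g⁻¹)) := by group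
                _ = g⁻¹ * (g * r * g⁻¹ * g) := by rw [h1]
                _ = r := by group
            rwa [h2] at hr
        exact (R.is_maximal' (hgp.to_sup_of_normal_right' R.isPGroup' hnorm) le_sup_right).le
          (Subgroup.mem_sup_left (Subgroup.mem_zpowers g))
      have hcR : Nat.card R = 2 ^ n := by rw [R.card_eq_multiplicity, ← P.card_eq_multiplicity, hP]
      have hcomm := mul_comm_of_central (R := (R : Subgroup G)) (a := ⟨g, hgR⟩)
        (conj_mem_zpowers (by omega) hcR (by rw [Subgroup.orderOf_mk, hgo]))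
        (fun r => Subtype.ext (Subgroup.mem_centralizer_singleton_iff.1 (hRC r.2)))
      refine hna fun u v => (R.equiv P).symm.injective ?_
      rw [map_mul, map_mul, hcomm]
    · have key : ∀ j : ℕ, Odd j → (IsConj g (g ^ j) ↔
          (j ≡ 1 [MOD 2 ^ (n - 1)] ∨ j ≡ i [MOD 2 ^ (n - 1)])) := by
        intro j hj
        rw [← hgo]
        constructor
        · intro hcj
          obtain ⟨h, hh⟩ := isConj_iff.1 hcj
          have hgen : g ∈ Subgroup.zpowers (g ^ j) := by
            have hcop : j.Coprime (orderOf g) := by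
              rw [hgo]; exact Nat.Coprime.pow_right _ (Nat.coprime_two_right.2 hj)
            obtain ⟨m, hm⟩ := exists_pow_eq_self_of_coprime hcop
            exact Subgroup.mem_zpowers_iff.2 ⟨m, by rw [zpow_natCast, hm]⟩
          set N := Subgroup.normalizer ((Subgroup.zpowers g : Subgroup G) : Set G)
          have hhN : h ∈ N := by
            rw [Subgroup.mem_normalizer_iff]
            intro v
            constructor
            · intro hv
              obtain ⟨k, rfl⟩ := Subgroup.mem_zpowers_iff.1 hv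
              rw [← conj_zpow, hh]
              exact zpow_mem (Subgroup.npow_mem_zpowers g j) k
            · intro hv
              obtain ⟨k, hk⟩ := Subgroup.mem_zpowers_iff.1 ((Subgroup.zpowers_le.2 hgen) hv)
              have : v = g ^ k := by
                rw [← hh, conj_zpow, mul_left_inj, mul_right_inj] at hk
                exact hk.symm
              rw [this]
              exact Subgroup.zpow_mem_zpowers g k
          -- the odd power of `h` lands in a 2-group
          set r := orderOf h / 2 ^ (orderOf h).factorization 2 with hr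
          have hro : Odd r := Nat.not_even_iff_odd.1 fun he =>
            Nat.not_dvd_ordCompl Nat.prime_two (orderOf_pos h).ne' (even_iff_two_dvd.1 he)
          have hpow : ∀ m : ℕ, h ^ m * g * (h ^ m)⁻¹ = g ^ (j ^ m) := by
            intro m
            induction m with
            | zero => simp
            | succ m ih =>
              calc h ^ (m + 1) * g * (h ^ (m + 1))⁻¹ = h * (h ^ m * g * (h ^ m)⁻¹) * h⁻¹ := by
                    rw [pow_succ']; group
                _ = g ^ (j ^ (m + 1)) := by rw [ih, ← conj_pow, hh, ← pow_mul, ← pow_succ']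
          have hPN : (P : Subgroup G) ≤ N := by
            intro x hx
            have hn' : (Subgroup.zpowers a).Normal := Subgroup.normal_of_index_eq_two hA2
            rw [Subgroup.mem_normalizer_iff]
            have key : ∀ x : G, ∀ hx : x ∈ (P : Subgroup G), ∀ v ∈ Subgroup.zpowers g,
                x * v * x⁻¹ ∈ Subgroup.zpowers g := by
              intro x hx v hv
              obtain ⟨k, rfl⟩ := Subgroup.mem_zpowers_iff.1 hv
              obtain ⟨l, hl⟩ := Subgroup.mem_zpowers_iff.1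
                (hn'.conj_mem _ (Subgroup.zpow_mem_zpowers a k) ⟨x, hx⟩)
              exact Subgroup.mem_zpowers_iff.2 ⟨l, by
                rw [hg]
                simpa using congrArg Subtype.val hl⟩
            intro v
            refine ⟨key x hx v, fun hv => ?_⟩
            have := key x⁻¹ (inv_mem hx) _ hv
            simpa [mul_assoc] using this
          have hkp : IsPGroup 2 (Subgroup.zpowers (⟨h ^ r, pow_mem hhN r⟩ : N)) := by
            refine IsPGroup.of_card (n := (orderOf h).factorization 2) ?_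
            rw [Nat.card_zpowers, Subgroup.orderOf_mk, hr,
              orderOf_pow_of_dvd (Nat.pos_iff_ne_zero.1 hro.pos) (Nat.ordCompl_dvd _ 2),
              Nat.div_div_self (Nat.ordProj_dvd _ 2) (orderOf_pos h).ne']
          obtain ⟨Q, hQ⟩ := hkp.exists_le_sylow
          obtain ⟨c, hc⟩ := MulAction.exists_smul_eq N Q (P.subtype hPN)
          have hmem : (c : G) * h ^ r * (c : G)⁻¹ ∈ (P : Subgroup G) := by
            have h1 : c * ⟨h ^ r, pow_mem hhN r⟩ * c⁻¹ ∈ (P.subtype hPN : Subgroup N) := by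
              rw [← hc, Sylow.coe_subgroup_smul]
              exact Subgroup.smul_mem_pointwise_smul _ (MulAut.conj c) _ (hQ (Subgroup.mem_zpowers _))
            rw [Sylow.coe_subtype, Subgroup.mem_subgroupOf] at h1
            simpa using h1
          obtain ⟨e, he⟩ := mem_powers_iff_mem_zpowers.2
            ((Subgroup.mem_normalizer_iff.1 c.2 g).1 (Subgroup.mem_zpowers g))
          simp only at he
          -- the action of elements of `P`
          have hact : ∀ p : (P : Subgroup G), (p : G) * g * (p : G)⁻¹ = g ∨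
              (p : G) * g * (p : G)⁻¹ = g ^ i := by
            intro p
            by_cases hp : p ∈ Subgroup.zpowers a
            · left
              obtain ⟨k, rfl⟩ := Subgroup.mem_zpowers_iff.1 hp
              rw [hg]
              push_cast
              group
            · right
              have hyp : y⁻¹ * p ∈ Subgroup.zpowers a := by
                rw [Subgroup.mul_mem_iff_of_index_two hA2]
                simp [hp, hyn]
              obtain ⟨k, hk⟩ := Subgroup.mem_zpowers_iff.1 hyp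
              have hp' : p = y * a ^ k := by rw [hk, mul_inv_cancel_left]
              rw [← hyG, hp', hg]
              push_cast
              group
          have hfin : g ^ (j ^ r) = g ∨ g ^ (j ^ r) = g ^ i := by
            have h1 : g ^ (j ^ r * e) = ((c : G) * h ^ r * (c : G)⁻¹) * (g ^ e) *
                ((c : G) * h ^ r * (c : G)⁻¹)⁻¹ := by
              rw [mul_comm, pow_mul, he, conj_pow, ← hpow r]
              group
            have h2 : g ∈ Subgroup.zpowers (g ^ e) := by
              have : Subgroup.zpowers (g ^ e) = Subgroup.zpowers g := by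
                refine Subgroup.eq_of_le_of_card_ge (Subgroup.zpowers_le.2
                  (Subgroup.npow_mem_zpowers g e)) (le_of_eq ?_)
                rw [he, Nat.card_zpowers, Nat.card_zpowers, show (c : G) * g * (c : G)⁻¹ =
                  MulAut.conj (c : G) g from rfl, MulEquiv.orderOf_eq]
              rw [this]
              exact Subgroup.mem_zpowers g
            obtain ⟨l, hl⟩ := Subgroup.mem_zpowers_iff.1 h2
            have h3 : ∀ x : ℕ, g ^ (j ^ r * e) = (g ^ e) ^ x → g ^ (j ^ r) = g ^ x := by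
              intro x hx
              calc g ^ (j ^ r) = ((g ^ e) ^ l) ^ (j ^ r) := by rw [hl]
                _ = (g ^ (j ^ r * e)) ^ l := by
                    rw [← zpow_natCast, ← zpow_natCast g, ← zpow_natCast g, ← zpow_mul, ← zpow_mul,
                      ← zpow_mul]
                    congr 1; push_cast; ring
                _ = ((g ^ e) ^ l) ^ x := by
                    rw [hx, ← zpow_natCast, ← zpow_natCast _ x, ← zpow_mul, ← zpow_mul,
                      mul_comm]
                _ = g ^ x := by rw [hl]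
            rcases hact ⟨_, hmem⟩ with h4 | h4
            · left
              have h5 := h3 1 (by rw [h1, pow_one, ← conj_pow, h4])
              rwa [pow_one] at h5
            · right
              exact h3 i (by rw [h1, ← conj_pow, h4, ← pow_mul, ← pow_mul, mul_comm])
          rw [pow_eq_pow_iff_modEq] at hfin
          rw [show g ^ (j ^ r) = g ↔ j ^ r ≡ 1 [MOD orderOf g] by
            rw [← pow_eq_pow_iff_modEq, pow_one]] at hfin
          have hii : i * i ≡ 1 [MOD orderOf g] := by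
            rw [← pow_eq_pow_iff_modEq, pow_one]
            have hy2 : y * y ∈ Subgroup.zpowers a := by
              rw [Subgroup.mul_mem_iff_of_index_two hA2]
            obtain ⟨k, hk⟩ := Subgroup.mem_zpowers_iff.1 hy2
            have h5 : ((y : G) * y) * g * ((y : G) * y)⁻¹ = g ^ (i * i) := by
              calc ((y : G) * y) * g * ((y : G) * y)⁻¹
                  = (y : G) * ((y : G) * g * (y : G)⁻¹) * (y : G)⁻¹ := by group
                _ = g ^ (i * i) := by rw [hyG, ← conj_pow, hyG, ← pow_mul]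
            rw [← h5, ← Subgroup.coe_mul, ← hk, hg]
            push_cast
            group
          have hir : i ^ r ≡ i [MOD orderOf g] := by
            obtain ⟨q, hq⟩ := hro
            rw [hq, pow_succ, pow_mul, sq]
            simpa using (hii.pow q).mul_right i
          have hiodd : Odd i := by
            rcases hi with rfl | rfl <;>
              exact Nat.Even.sub_odd Nat.one_le_two_pow (Nat.even_pow.2 ⟨even_two, by omega⟩) odd_one
          rcases hfin with h5 | h5
          · left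
            exact modEq_of_pow_modEq hgo hj odd_one hro (by simpa using h5)
          · right
            exact modEq_of_pow_modEq hgo hj hiodd hro (h5.trans hir.symm)
        · rintro (h1 | h1)
          · rw [pow_eq_pow_iff_modEq.2 h1, pow_one]
          · rw [pow_eq_pow_iff_modEq.2 h1]
            exact isConj_iff.2 ⟨(y : G), hyG⟩
      rcases hi with hi' | hi'
      · left
        have := (field_eq_iff P hn hP hζ (g := g) a.2 (ε := 1) (Or.inl rfl) ((hε i).1 hi')).2 key
        simpa using this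
      · right
        have := (field_eq_iff P hn hP hζ (g := g) a.2 (ε := -1) (Or.inr rfl) ((hε i).2 hi')).2 key
        simpa [sub_eq_add_neg] using this
  · rintro ⟨g, hgP, heven, hf⟩
    have hna : ¬ ∀ u v : (P : Subgroup G), u * v = v * u := by
      intro hall
      refine P.not_dvd_index (heven.trans (Subgroup.index_dvd_of_le fun x hx => ?_))
      exact Subgroup.mem_centralizer_singleton_iff.2
        (congrArg Subtype.val (hall ⟨x, hx⟩ ⟨g, hgP⟩))
    by_cases hn3 : n = 3
    · exact index_eq_four_of_eight (hn3 ▸ hP) hna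
    have hn4 : 4 ≤ n := by omega
    obtain ⟨c, hc, key⟩ : ∃ c : ℕ, Odd c ∧ ∀ j : ℕ, Odd j → (IsConj g (g ^ j) ↔
        (j ≡ 1 [MOD 2 ^ (n - 1)] ∨ j ≡ 2 * c + 1 [MOD 2 ^ (n - 1)])) := by
      have e1 : 2 ^ (n - 1) = 2 * 2 ^ (n - 2) := by rw [← pow_succ']; congr 1; omega
      have e2 : 2 ^ (n - 2) = 2 * 2 ^ (n - 3) := by rw [← pow_succ']; congr 1; omega
      have p2 : 1 ≤ 2 ^ (n - 2) := Nat.one_le_two_pow
      have p3 : 1 ≤ 2 ^ (n - 3) := Nat.one_le_two_pow
      have o2 : Odd (2 ^ (n - 2) - 1) :=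
        Nat.Even.sub_odd p2 (Nat.even_pow.2 ⟨even_two, by omega⟩) odd_one
      have o3 : Odd (2 ^ (n - 3) - 1) :=
        Nat.Even.sub_odd p3 (Nat.even_pow.2 ⟨even_two, by omega⟩) odd_one
      rcases hf with hf | hf
      · exact ⟨2 ^ (n - 2) - 1, o2, (field_eq_iff P hn hP hζ hgP (ε := 1) (Or.inl rfl)
          ((hε _).1 (by omega))).1 (by simpa using hf)⟩
      · exact ⟨2 ^ (n - 3) - 1, o3, (field_eq_iff P hn hP hζ hgP (ε := -1) (Or.inr rfl)
          ((hε _).2 (by omega))).1 (by simpa [sub_eq_add_neg] using hf)⟩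
    obtain ⟨m, hm, hgo⟩ := (Nat.dvd_prime_pow Nat.prime_two).1
      (hP ▸ Subgroup.orderOf_dvd_natCard _ hgP)
    have hmn : m ≠ n := by
      intro h
      refine hna fun u v => ?_
      have htop : Subgroup.zpowers g = (P : Subgroup G) :=
        Subgroup.eq_of_le_of_card_ge (Subgroup.zpowers_le.2 hgP)
          (by rw [hP, Nat.card_zpowers, hgo, h])
      have hu : (u : G) ∈ Subgroup.zpowers g := by rw [htop]; exact u.2
      have hv : (v : G) ∈ Subgroup.zpowers g := by rw [htop]; exact v.2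
      obtain ⟨k, hk⟩ := Subgroup.mem_zpowers_iff.1 hu
      obtain ⟨l, hl⟩ := Subgroup.mem_zpowers_iff.1 hv
      exact Subtype.ext (by rw [Subgroup.coe_mul, Subgroup.coe_mul, ← hk, ← hl, ← zpow_add,
        ← zpow_add, add_comm])
    have hm' : m = n - 1 := by
      by_contra hne
      set m' := max m 2 with hm2
      have hj : Odd (1 + 2 ^ m') := odd_one.add_even (Nat.even_pow.2 ⟨even_two, by omega⟩)
      have h1 : IsConj g (g ^ (1 + 2 ^ m')) := by
        rw [pow_add, pow_one, orderOf_dvd_iff_pow_eq_one.1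
          (hgo ▸ Nat.pow_dvd_pow 2 (le_max_left m 2)), mul_one]
      have hlt : 2 ^ m' < 2 ^ (n - 1) := Nat.pow_lt_pow_right one_lt_two (by omega)
      have h2 : 2 ^ 2 ≤ 2 ^ m' := Nat.pow_le_pow_right two_pos (by omega)
      rcases (key _ hj).1 h1 with h | h
      · have h3 := (Nat.modEq_iff_dvd' (by omega)).1 h.symm
        rw [Nat.add_sub_cancel_left] at h3
        exact absurd (Nat.le_of_dvd (by positivity) h3) (by omega)
      · have h3 : 1 + 2 ^ m' ≡ 2 * c + 1 [MOD 4] :=
          h.of_dvd (by rw [show (4 : ℕ) = 2 ^ 2 by norm_num]; exact Nat.pow_dvd_pow 2 (by omega))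
        obtain ⟨q, hq⟩ := hc
        have h4 : 2 ^ m' % 4 = 0 := Nat.mod_eq_zero_of_dvd
          (by rw [show (4 : ℕ) = 2 ^ 2 by norm_num]; exact Nat.pow_dvd_pow 2 (by omega))
        rw [Nat.ModEq] at h3
        omega
    subst hm'
    obtain ⟨h, hh⟩ := isConj_iff.1
      ((key _ (odd_two_mul_add_one c)).2 (Or.inr (Nat.ModEq.refl _)))
    have hsq : g ^ ((2 * c + 1) * (2 * c + 1)) = g := by
      have hc1 : IsConj g (g ^ ((2 * c + 1) * (2 * c + 1))) := by
        refine isConj_iff.2 ⟨h * h, ?_⟩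
        calc h * h * g * (h * h)⁻¹ = h * (h * g * h⁻¹) * h⁻¹ := by group
          _ = _ := by rw [hh, ← conj_pow, hh, ← pow_mul]
      have hodd : Odd ((2 * c + 1) * (2 * c + 1)) :=
        (odd_two_mul_add_one c).mul (odd_two_mul_add_one c)
      rcases (key _ hodd).1 hc1 with h1 | h1
      · rw [← hgo] at h1
        rw [pow_eq_pow_iff_modEq.2 h1, pow_one]
      · exfalso
        obtain ⟨q, hq⟩ := hc
        have h3 : (2 * c + 1) * (2 * c + 1) ≡ 2 * c + 1 [MOD 4] :=
          h1.of_dvd (by rw [show (4 : ℕ) = 2 ^ 2 by norm_num]; exact Nat.pow_dvd_pow 2 (by omega))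
        rw [hq, Nat.ModEq, show (2 * (2 * q + 1) + 1) * (2 * (2 * q + 1) + 1) =
          1 + 4 * (4 * q * q + 6 * q + 2) by ring, Nat.add_mul_mod_self_left] at h3
        omega
    -- an odd power of `h` acts in the same way
    set r := orderOf h / 2 ^ (orderOf h).factorization 2 with hr
    have hro : Odd r := Nat.not_even_iff_odd.1 fun he =>
      Nat.not_dvd_ordCompl Nat.prime_two (orderOf_pos h).ne' (even_iff_two_dvd.1 he)
    obtain ⟨q, hq⟩ := hro
    have hhr : h ^ r * g * (h ^ r)⁻¹ = g ^ (2 * c + 1) := by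
      have hh2 : h * h * g * (h * h)⁻¹ = g := by
        calc h * h * g * (h * h)⁻¹ = h * (h * g * h⁻¹) * h⁻¹ := by group
          _ = g := by rw [hh, ← conj_pow, hh, ← pow_mul, hsq]
      have hcom : Commute ((h * h) ^ q) g :=
        Commute.pow_left (show Commute (h * h) g from mul_inv_eq_iff_eq_mul.1 hh2) q
      rw [hq, pow_succ', pow_mul, sq]
      calc h * (h * h) ^ q * g * (h * (h * h) ^ q)⁻¹
          = h * ((h * h) ^ q * g * ((h * h) ^ q)⁻¹) * h⁻¹ := by group
        _ = g ^ (2 * c + 1) := by rw [hcom.eq, mul_inv_cancel_right, hh]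
    set k := h ^ r with hk
    have hkp : IsPGroup 2 (Subgroup.zpowers k) := by
      refine IsPGroup.of_card (n := (orderOf h).factorization 2) ?_
      rw [Nat.card_zpowers, hk, hr, orderOf_pow_of_dvd ?_ (Nat.ordCompl_dvd _ 2),
        Nat.div_div_self (Nat.ordProj_dvd _ 2) (orderOf_pos h).ne']
      rw [← hr, hq]; omega
    have hgp : IsPGroup 2 (Subgroup.zpowers g) :=
      IsPGroup.of_card (n := n - 1) (by rw [Nat.card_zpowers, hgo])
    have hnorm : Subgroup.zpowers k ≤
        Subgroup.normalizer ((Subgroup.zpowers g : Subgroup G) : Set G) := by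
      rw [Subgroup.zpowers_le, Subgroup.mem_normalizer_iff]
      have hkk : k * (g ^ (2 * c + 1)) * k⁻¹ = g := by
        rw [← conj_pow, hhr, ← pow_mul, hsq]
      have hmap : ∀ v ∈ Subgroup.zpowers g, k * v * k⁻¹ ∈ Subgroup.zpowers g := by
        intro v hv
        obtain ⟨l, rfl⟩ := Subgroup.mem_zpowers_iff.1 hv
        rw [← conj_zpow, hhr]
        exact zpow_mem (Subgroup.npow_mem_zpowers g _) l
      intro v
      refine ⟨hmap v, fun hv => ?_⟩
      obtain ⟨l, hl⟩ := Subgroup.mem_zpowers_iff.1 hv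
      have hv' : v = (g ^ (2 * c + 1)) ^ l := by
        rw [← hkk, conj_zpow, mul_left_inj, mul_right_inj] at hl
        exact hl.symm
      rw [hv']
      exact zpow_mem (Subgroup.npow_mem_zpowers g _) l
    obtain ⟨R, hR⟩ := (hkp.to_sup_of_normal_right' hgp hnorm).exists_le_sylow
    have hcR : Nat.card R = 2 ^ n := by rw [R.card_eq_multiplicity, ← P.card_eq_multiplicity, hP]
    rw [← index_commutator_congr (R.equiv P)]
    exact index_eq_four hn hcR (a := ⟨g, hR (Subgroup.mem_sup_right (Subgroup.mem_zpowers g))⟩)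
      (h := ⟨k, hR (Subgroup.mem_sup_left (Subgroup.mem_zpowers k))⟩)
      (by rw [Subgroup.orderOf_mk, hgo]) hc (Subtype.ext (by simpa using hhr))

end Cfsg.Agent.S4923
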