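import Cfsg.Statements.S4931
import Cfsg.Agent.Transfer.Tate
import Cfsg.Agent.BlocksCharsC.Restriction
import Cfsg.Agent.CharactersDeep.Clifford
import Cfsg.Agent.Characters.Linear
-- import your own Cfsg.Agent.* helpers here

set_option autoImplicit false
open Cfsg

namespace Cfsg.Agent.S4931

open CfsgLib.Characters CfsgLib.BlocksCharsC CfsgLib.CharactersDeep
open scoped commutatorElement Classical

/-- A self-normalising Sylow subgroup `P` and a normal subgroup `K` with `P ⊓ K = P'` give a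
normal `p`-complement. -/
theorem hasNormalPComplement_of_selfNormalizing {L : Type*} [Group L] [Finite L] {p : ℕ}
    [Fact p.Prime] (P : Sylow p L)
    (hN : Subgroup.normalizer ((P : Subgroup L) : Set L) ≤ (P : Subgroup L))
    (K : Subgroup L) [K.Normal] (hK : (P : Subgroup L) ⊓ K ≤ ⁅(P : Subgroup L), (P : Subgroup L)⁆)
    (hK' : ⁅(P : Subgroup L), (P : Subgroup L)⁆ ≤ K) : Cfsg.HasNormalPComplement p L := by
  apply CfsgLib.Transfer.hasNormalPComplement_of_commutator_inf_le P
  let π := QuotientGroup.mk' K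
  have hπ : Function.Surjective π := QuotientGroup.mk'_surjective K
  let Q : Sylow p (L ⧸ K) := P.mapSurjective hπ
  have hcomm : ∀ a ∈ (Q : Subgroup (L ⧸ K)), ∀ b ∈ (Q : Subgroup (L ⧸ K)), a * b = b * a := by
    rintro _ ⟨a, ha, rfl⟩ _ ⟨b, hb, rfl⟩
    rw [← commutatorElement_eq_one_iff_mul_comm, ← map_commutatorElement]
    exact (QuotientGroup.eq_one_iff _).2 (hK' (Subgroup.commutator_mem_commutator ha hb))
  have hQ : Subgroup.normalizer ((Q : Subgroup (L ⧸ K)) : Set (L ⧸ K)) ≤
      Subgroup.centralizer ((Q : Subgroup (L ⧸ K)) : Set (L ⧸ K)) := by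
    intro q hq
    suffices q ∈ (Q : Subgroup (L ⧸ K)) from
      Subgroup.mem_centralizer_iff.2 fun a ha => hcomm a ha q this
    obtain ⟨l, rfl⟩ := hπ q
    let H : Subgroup L := (P : Subgroup L) ⊔ K
    have hPl : ((l • P : Sylow p L) : Subgroup L) ≤ H := by
      intro x hx
      rw [Sylow.coe_subgroup_smul] at hx
      obtain ⟨y, hy, rfl⟩ := hx
      have h1 : π (MulAut.conj l y) ∈ (Q : Subgroup (L ⧸ K)) := by
        have := (Subgroup.mem_normalizer_iff.1 hq (π y)).1 ⟨y, hy, rfl⟩
        simpa [MulAut.conj_apply] using this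
      obtain ⟨z, hz, hzy⟩ := h1
      have : z⁻¹ * MulAut.conj l y ∈ K := QuotientGroup.eq.1 hzy
      show MulAut.conj l y ∈ H
      rw [← mul_inv_cancel_left z (MulAut.conj l y)]
      exact mul_mem (Subgroup.mem_sup_left hz) (Subgroup.mem_sup_right this)
    obtain ⟨h, hh⟩ := MulAction.exists_smul_eq H (P.subtype (le_sup_left : _ ≤ H))
      ((l • P).subtype hPl)
    rw [Sylow.smul_subtype] at hh
    have hfix : ((h : L)⁻¹ * l) • P = P := by
      rw [mul_smul, ← Sylow.subtype_injective hh]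
      exact inv_smul_smul (h : L) P
    have hmem : (h : L)⁻¹ * l ∈ (P : Subgroup L) := hN (Sylow.smul_eq_iff_mem_normalizer.1 hfix)
    have hl : l ∈ H := by
      rw [← mul_inv_cancel_left (h : L) l]
      exact mul_mem h.2 (Subgroup.mem_sup_left hmem)
    have h2 : π l ∈ H.map π := Subgroup.mem_map_of_mem _ hl
    rw [Subgroup.map_sup, show K.map π = ⊥ from (Subgroup.map_eq_bot_iff K).2 (le_of_eq
      (QuotientGroup.ker_mk' K).symm), sup_bot_eq] at h2
    exact h2
  haveI : IsMulCommutative (Q : Subgroup (L ⧸ K)) :=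
    ⟨⟨fun a b => Subtype.ext (hcomm a a.2 b b.2)⟩⟩
  rintro x ⟨hxc, hxP⟩
  refine hK ⟨hxP, (QuotientGroup.eq_one_iff x).1 ?_⟩
  have h1 : π x ∈ (MonoidHom.transferSylow Q hQ).ker := by
    have hle : commutator L ≤ ((MonoidHom.transferSylow Q hQ).comp π).ker := by
      rw [commutator_def, Subgroup.commutator_le]
      intro a _ b _
      rw [MonoidHom.mem_ker, map_commutatorElement, commutatorElement_eq_one_iff_mul_comm]
      exact Subtype.ext (hcomm _ (((MonoidHom.transferSylow Q hQ).comp π) a).2 _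
        (((MonoidHom.transferSylow Q hQ).comp π) b).2)
    exact hle hxc
  exact (Subgroup.disjoint_def.1 (MonoidHom.ker_transferSylow_disjoint Q hQ _ Q.isPGroup')
    h1 ⟨x, hxP, rfl⟩)

theorem eq_one_of_forall_irr {A : Type*} [Group A] [Finite A] (a : A)
    (h : ∀ χ : Cfsg.IrrCharacter A, (χ : A → ℂ) a = (χ : A → ℂ) 1) : a = 1 :=
  letI := Fintype.ofFinite A
  isConj_one_left.1 (isConj_of_irr_eq fun χ => h χ)

theorem charDegree_cast {A : Type*} [Group A] {χ : A → ℂ} (h : Cfsg.IsCharacter A χ) :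
    χ 1 = Cfsg.charDegree χ := by
  obtain ⟨n, hn⟩ := exists_degree h
  rw [Cfsg.charDegree, hn]
  simp

/-- Let G be a finite group, p a prime and P a Sylow p-subgroup of G with normalizer N. Then every irreducible complex character of N of degree not divisible by p is the restriction of an irreducible character of G if and only if there is a normal subgroup K of G with KN = G and K ∩ N = 1. -/
theorem result {G : Type*} [Group G] [Finite G] (p : ℕ) [Fact p.Prime] (P : Sylow p G) :
    (∀ θ : Cfsg.IrrCharacter ↥(Subgroup.normalizer ((P : Subgroup G) : Set G)), ¬ p ∣ Cfsg.charDegree (θ : ↥(Subgroup.normalizer ((P : Subgroup G) : Set G)) → ℂ) →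
        ∃ χ : Cfsg.IrrCharacter G, ∀ x : ↥(Subgroup.normalizer ((P : Subgroup G) : Set G)), (χ : G → ℂ) x = (θ : ↥(Subgroup.normalizer ((P : Subgroup G) : Set G)) → ℂ) x) ↔
      ∃ K : Subgroup G, K.Normal ∧ K ⊔ Subgroup.normalizer ((P : Subgroup G) : Set G) = ⊤ ∧ K ⊓ Subgroup.normalizer ((P : Subgroup G) : Set G) = ⊥ := by
  letI : Fintype G := Fintype.ofFinite G
  let N : Subgroup G := Subgroup.normalizer ((P : Subgroup G) : Set G)
  have hPN : (P : Subgroup G) ≤ N := Subgroup.le_normalizer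
  constructor
  swap
  · rintro ⟨K, hKn, hsup, hinf⟩ θ _
    haveI := hKn
    have hbij : Function.Bijective ((QuotientGroup.mk' K).comp N.subtype) := by
      constructor
      · intro a b hab
        have h1 : (a : G)⁻¹ * b ∈ K ⊓ N := ⟨QuotientGroup.eq.1 hab, N.mul_mem (N.inv_mem a.2) b.2⟩
        rw [hinf, Subgroup.mem_bot, inv_mul_eq_one] at h1
        exact Subtype.ext h1
      · intro q
        obtain ⟨g, rfl⟩ := QuotientGroup.mk'_surjective K q
        have hg : g ∈ K ⊔ N := by rw [hsup]; trivial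
        obtain ⟨k, hk, n, hn, rfl⟩ := Subgroup.mem_sup_of_normal_left.1 hg
        refine ⟨⟨n, hn⟩, ?_⟩
        show QuotientGroup.mk' K n = QuotientGroup.mk' K (k * n)
        rw [map_mul, show QuotientGroup.mk' K k = 1 from (QuotientGroup.eq_one_iff k).2 hk, one_mul]
    let e := MulEquiv.ofBijective _ hbij
    let f : G →* N := e.symm.toMonoidHom.comp (QuotientGroup.mk' K)
    have hf : Function.Surjective f := e.symm.surjective.comp (QuotientGroup.mk'_surjective K)
    refine ⟨⟨fun g => (θ : N → ℂ) (f g), isIrr_comp f hf θ.2⟩, fun x => ?_⟩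
    exact congrArg (θ : N → ℂ) (e.symm_apply_apply x)
  intro hext
  let Pn : Subgroup N := (P : Subgroup G).subgroupOf N
  haveI hPnn : Pn.Normal := Subgroup.normal_in_normalizer
  have hPnidx : ¬ p ∣ Pn.index := fun h =>
    P.not_dvd_index (h.trans (Subgroup.relIndex_dvd_index_of_le hPN))
  letI : Fintype Pn := Fintype.ofFinite _
  -- characters of `N / P`
  have hψ : ∀ ψ : Cfsg.IrrCharacter (N ⧸ Pn), ∃ χ : Cfsg.IrrCharacter G,
      ∀ x : N, (χ : G → ℂ) x = (ψ : N ⧸ Pn → ℂ) (QuotientGroup.mk' Pn x) := by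
    intro ψ
    refine hext ⟨fun x => (ψ : N ⧸ Pn → ℂ) (QuotientGroup.mk' Pn x),
      isIrr_comp _ (QuotientGroup.mk'_surjective Pn) ψ.2⟩ fun hd => hPnidx ?_
    obtain ⟨n, ρ, hρ, hρψ⟩ := ψ.2
    letI := Fintype.ofFinite (N ⧸ Pn)
    have hdvd := finrank_dvd_card (ρ := ρ)
    have hdeg : (ψ : N ⧸ Pn → ℂ) 1 = (Module.finrank ℂ (Fin n → ℂ) : ℂ) := by
      rw [← hρψ, Representation.char_one]
    have : Cfsg.charDegree (fun x : N => (ψ : N ⧸ Pn → ℂ) (QuotientGroup.mk' Pn x)) =
        Module.finrank ℂ (Fin n → ℂ) := by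
      rw [Cfsg.charDegree, map_one, hdeg]
      simp
    rw [this] at hd
    exact hd.trans hdvd
  choose χq hχq using hψ
  let L : Subgroup G := ⨅ ψ, charKer (χq ψ : G → ℂ) (isCharacter_of_isIrr (χq ψ).2)
  haveI hLn : L.Normal := ⟨fun a ha g => by
    simp only [L, Subgroup.mem_iInf, mem_charKer] at ha ⊢
    intro ψ
    rw [isClassFunction_of_isIrr (χq ψ).2]
    exact ha ψ⟩
  have hPL : (P : Subgroup G) ≤ L := fun x hx => by
    simp only [L, Subgroup.mem_iInf, mem_charKer]
    intro ψ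
    have h1 := hχq ψ ⟨x, hPN hx⟩
    have h2 := hχq ψ 1
    simp only [OneMemClass.coe_one, map_one] at h2
    rw [h2, show (χq ψ : G → ℂ) x = (χq ψ : G → ℂ) ((⟨x, hPN hx⟩ : N) : G) from rfl, h1]
    exact congrArg _ ((QuotientGroup.eq_one_iff _).2 hx)
  have hLN : ∀ x : G, x ∈ L → x ∈ N → x ∈ (P : Subgroup G) := by
    intro x hxL hxN
    show (⟨x, hxN⟩ : N) ∈ Pn
    refine (QuotientGroup.eq_one_iff (⟨x, hxN⟩ : N)).1 (eq_one_of_forall_irr _ fun ψ => ?_)
    simp only [L, Subgroup.mem_iInf, mem_charKer] at hxL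
    have h1 := hχq ψ ⟨x, hxN⟩
    have h2 := hχq ψ 1
    simp only [OneMemClass.coe_one, map_one] at h2
    rw [← h2, ← hxL ψ]
    exact h1.symm
  -- characters over linear characters of `P`
  have hlam : ∀ lam : {l : Cfsg.IrrCharacter Pn // (l : Pn → ℂ) 1 = 1},
      ∃ χ : Cfsg.IrrCharacter G, (∀ a b : Pn, (χ : G → ℂ) ((⁅a, b⁆ : Pn) : N) = (χ : G → ℂ) 1) ∧
        ∀ a : Pn, (χ : G → ℂ) (a : N) = (χ : G → ℂ) 1 → (lam.1 : Pn → ℂ) a = 1 := by
    intro lam
    obtain ⟨θ, hθd, hθne⟩ : ∃ θ : Cfsg.IrrCharacter N, ¬ p ∣ Cfsg.charDegree (θ : N → ℂ) ∧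
        Cfsg.classInner (fun a : Pn => (θ : N → ℂ) a) (lam.1 : Pn → ℂ) ≠ 0 := by
      by_contra hno
      push Not at hno
      have hsum := sum_degree_mul_restrict Pn (lam.1 : Pn → ℂ)
      choose m hm using fun θ : Cfsg.IrrCharacter N => classInner_character_irr
        (isCharacter_restrict Pn (isCharacter_of_isIrr θ.2)) lam.1.2
      rw [lam.2, map_one, mul_one] at hsum
      simp only [hm, charDegree_cast (isCharacter_of_isIrr (Subtype.prop _))] at hsum
      have hnat : ∑ θ : Cfsg.IrrCharacter N, Cfsg.charDegree (θ : N → ℂ) * m θ = Pn.index := by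
        exact_mod_cast hsum
      apply hPnidx
      rw [← hnat]
      refine Finset.dvd_sum fun θ _ => ?_
      by_cases hd : p ∣ Cfsg.charDegree (θ : N → ℂ)
      · exact dvd_mul_of_dvd_left hd _
      · have := hno θ hd
        rw [hm, Nat.cast_eq_zero] at this
        rw [this, mul_zero]
        exact dvd_zero p
    obtain ⟨χ, hχ⟩ := hext θ hθd
    have horb := Clifford.restrict_eq_orbit_sum Pn θ.2 lam.1.2 hθne
    refine ⟨χ, fun a b => ?_, fun a ha => ?_⟩
    · have h1 := hχ 1
      simp only [OneMemClass.coe_one] at h1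
      rw [h1, hχ]
      have e1 := congrFun horb ⁅a, b⁆
      have e2 := congrFun horb 1
      simp only [OneMemClass.coe_one] at e1 e2
      rw [e1, e2]
      simp only [Pi.smul_apply, Finset.sum_apply]
      congr 1
      refine Finset.sum_congr rfl fun φ hφ => ?_
      obtain ⟨g, rfl⟩ := (Clifford.mem_orbit Pn).1 hφ
      obtain ⟨f, hf⟩ := exists_hom_of_degree_one
        (isCharacter_of_isIrr (Clifford.isIrr_conjBy Pn lam.1.2 g))
        ((congrArg (lam.1 : Pn → ℂ) (Subtype.ext (by simp))).trans lam.2)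
      rw [hf]
      show ((f ⁅a, b⁆ : ℂˣ) : ℂ) = f 1
      rw [map_commutatorElement, commutatorElement_eq_one_iff_mul_comm.2 (mul_comm _ _), map_one]
    · have h1 := hχ 1
      simp only [OneMemClass.coe_one] at h1
      rw [h1, hχ] at ha
      have := constituent_eq_degree (isCharacter_restrict Pn (isCharacter_of_isIrr θ.2)) lam.1.2
        hθne (g := a) (by simpa using ha)
      rw [this, lam.2]
  choose χl hcl hkl using hlam
  let K : Subgroup G := ⨅ l, charKer (χl l : G → ℂ) (isCharacter_of_isIrr (χl l).2)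
  haveI hKn : K.Normal := ⟨fun a ha g => by
    simp only [K, Subgroup.mem_iInf, mem_charKer] at ha ⊢
    intro ψ
    rw [isClassFunction_of_isIrr (χl ψ).2]
    exact ha ψ⟩
  let PL : Sylow p L := P.subtype hPL
  have hself : Subgroup.normalizer ((PL : Subgroup L) : Set L) ≤ (PL : Subgroup L) := by
    intro x hx
    refine hLN x x.2 (Subgroup.mem_normalizer_iff.2 fun y => ?_)
    have hxy := Subgroup.mem_normalizer_iff.1 hx
    constructor
    · intro hy
      exact (hxy ⟨y, hPL hy⟩).1 hy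
    · intro hy
      have hyL : y ∈ L := by
        have := hLn.conj_mem _ (hPL hy) (x : G)⁻¹
        simpa [mul_assoc] using this
      exact (hxy ⟨y, hyL⟩).2 hy
  have hKP : (PL : Subgroup L) ⊓ K.subgroupOf L ≤ ⁅(PL : Subgroup L), (PL : Subgroup L)⁆ := by
    rintro x ⟨hxP, hxK⟩
    let a : Pn := ⟨⟨(x : G), hPN hxP⟩, hxP⟩
    have ha : a ∈ commutator Pn := by
      refine (QuotientGroup.eq_one_iff (N := commutator Pn) a).1 (eq_one_of_forall_irr _ fun ψ => ?_)
      haveI : IsMulCommutative (Abelianization Pn) := ⟨⟨mul_comm⟩⟩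
      letI := Fintype.ofFinite (Pn ⧸ commutator Pn)
      have hone : (ψ : Pn ⧸ commutator Pn → ℂ) 1 = 1 := by
        obtain ⟨n, ρ, hρ, hρψ⟩ := ψ.2
        have hd := finrank_dvd_center_index (ρ := ρ)
        rw [show Subgroup.center (Pn ⧸ commutator Pn) = ⊤ from
          eq_top_iff.2 fun z _ => Subgroup.mem_center_iff.2 fun w =>
            (inferInstance : CommGroup (Abelianization Pn)).mul_comm w z,
          Subgroup.index_top, Nat.dvd_one] at hd
        rw [← hρψ, Representation.char_one, hd, Nat.cast_one]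
      rw [hone]
      have hk := hkl ⟨⟨fun b => (ψ : Pn ⧸ commutator Pn → ℂ) (QuotientGroup.mk' _ b),
        isIrr_comp _ (QuotientGroup.mk'_surjective _) ψ.2⟩, hone⟩ a
      have hxK' : (x : G) ∈ K := hxK
      simp only [K, Subgroup.mem_iInf, mem_charKer] at hxK'
      exact hk (hxK' _)
    let f : Pn →* L := (Subgroup.inclusion hPL).comp
      { toFun := fun b : Pn => (⟨((b : N) : G), b.2⟩ : (P : Subgroup G))
        map_one' := rfl
        map_mul' := fun _ _ => rfl }
    have h1 : f a ∈ (commutator Pn).map f := Subgroup.mem_map_of_mem _ ha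
    rw [commutator_def, Subgroup.map_commutator] at h1
    refine Subgroup.commutator_mono ?_ ?_ h1 <;>
    · rintro _ ⟨b, -, rfl⟩
      exact b.2
  have hKP' : ⁅(PL : Subgroup L), (PL : Subgroup L)⁆ ≤ K.subgroupOf L := by
    rw [Subgroup.commutator_le]
    intro a ha b hb
    simp only [K, Subgroup.mem_subgroupOf, Subgroup.mem_iInf, mem_charKer]
    intro l
    exact hcl l ⟨⟨(a : G), hPN ha⟩, ha⟩ ⟨⟨(b : G), hPN hb⟩, hb⟩
  obtain hcompl := hasNormalPComplement_of_selfNormalizing PL hself (K.subgroupOf L) hKP hKP'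
  let O := Cfsg.pResidual p L
  have hOP : (PL : Subgroup L) ⊓ O = ⊥ :=
    (CfsgLib.Transfer.hasNormalPComplement_iff_sylow_inf PL).1 hcompl
  refine ⟨O.map L.subtype, ?_, ?_, ?_⟩
  · infer_instance
  · have hfr := Sylow.normalizer_sup_eq_top' P hPL
    refine eq_top_iff.2 (hfr ▸ sup_le le_sup_right ?_)
    have hsup := CfsgLib.Transfer.sylow_sup_pResidual PL
    calc L = ((PL : Subgroup L) ⊔ O).map L.subtype := by
            rw [hsup, ← MonoidHom.range_eq_map, Subgroup.range_subtype]
      _ ≤ O.map L.subtype ⊔ N := by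
            rw [Subgroup.map_sup]
            refine sup_le (le_trans ?_ le_sup_right) le_sup_left
            rintro _ ⟨y, hy, rfl⟩
            exact hPN hy
  · rw [eq_bot_iff]
    rintro _ ⟨⟨y, hy, rfl⟩, hyN⟩
    have : y ∈ (PL : Subgroup L) ⊓ O := ⟨hLN y y.2 hyN, hy⟩
    rw [hOP, Subgroup.mem_bot] at this
    simp [this]

end Cfsg.Agent.S4931
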