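import Mathlib
import Cfsg.Agent.GaloisAverage.CoprimeModule
import Cfsg.Agent.Characters.Classes
import Cfsg.Statements.S4955
-- import your own Cfsg.Agent.* helpers here

set_option autoImplicit false
open Cfsg

namespace Cfsg.Agent.S4955


/-- Let X be a finite group with an abelian normal Sylow p-subgroup V (a normal p-subgroup of index prime to p in which any two elements commute), and let G be a complement to V in X. Then for every v in V, writing C for the centralizer of v in G, the number k(X) of conjugacy classes of X satisfies k(X) ≤ (order of C)·(order of V) − ((order of G) − k(G)); the statement is written with the subtracted term moved to the left. In particular, if some v in V is centralized by no nonidentity element of G, then k(X) is at most the order of V. -/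
theorem result {X : Type*} [Group X] [Finite X] (p : ℕ) [Fact p.Prime] (V : Subgroup X) [V.Normal] (hVp : IsPGroup p V) (hidx : ¬ p ∣ V.index) (hab : ∀ a ∈ V, ∀ b ∈ V, a * b = b * a) (G : Subgroup X) (hGV : Subgroup.IsComplement' V G) (v : X) (hv : v ∈ V) : Nat.card (ConjClasses X) + Nat.card G ≤ Nat.card ↥(G ⊓ Subgroup.centralizer ({v} : Set X)) * Nat.card V + Nat.card (ConjClasses G) := by
  classical
  have := Fintype.ofFinite X
  have := Fintype.ofFinite ↥G
  have hGp : ¬ p ∣ Nat.card G := by rwa [← hGV.symm.index_eq_card]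
  let n := Nat.card X
  let tot := CfsgLib.GaloisAverage.totatives n
  have hn : 0 < n := Nat.card_pos
  -- the projection to the complement
  let π : X →* ↥G := (hGV.symm.QuotientMulEquiv.toMonoidHom).comp (QuotientGroup.mk' V)
  have hπ : Function.Surjective π :=
    hGV.symm.QuotientMulEquiv.surjective.comp (QuotientGroup.mk'_surjective V)
  have hπV : ∀ w ∈ V, π w = 1 := fun w hw => by
    rw [MonoidHom.comp_apply, QuotientGroup.mk'_apply, (QuotientGroup.eq_one_iff w).2 hw, map_one]
  let infl : Cfsg.IrrCharacter ↥G → Cfsg.IrrCharacter X := fun φ =>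
    ⟨fun x => (φ : ↥G → ℂ) (π x), CfsgLib.Characters.isIrr_comp π hπ φ.2⟩
  have hinj : Function.Injective infl := fun a b h => Subtype.ext (funext fun g => by
    obtain ⟨x, rfl⟩ := hπ g
    exact congrFun (congrArg Subtype.val h) x)
  let A : Finset (Cfsg.IrrCharacter X) := Finset.univ.image infl
  have hA : (A.card : ℝ) = Nat.card (ConjClasses G) := by
    rw [Finset.card_image_of_injective _ hinj, Finset.card_univ, ← Nat.card_eq_fintype_card,
      CfsgLib.Characters.card_irrCharacter]
  have hAsum : ∀ k : ℕ, ∑ χ ∈ A, ‖(χ : X → ℂ) (v ^ k)‖ ^ 2 = (Nat.card G : ℝ) := by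
    intro k
    rw [Finset.sum_image fun a _ b _ h => hinj h]
    have h := CfsgLib.Characters.sum_irr_mul_conj_of_isConj (IsConj.refl (1 : ↥G))
    simp only [Complex.mul_conj'] at h
    rw [Nat.card_congr (Equiv.subtypeUnivEquiv fun x : ↥G => by
      rw [Subgroup.mem_centralizer_singleton_iff, mul_one, one_mul])] at h
    simp only [infl, map_pow, hπV v hv, one_pow]
    exact_mod_cast h
  -- the centraliser of `v`
  have hcen : ∀ k : ℕ, k.Coprime n → Subgroup.centralizer ({v ^ k} : Set X) =
      Subgroup.centralizer ({v} : Set X) := by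
    intro k hk
    ext x
    rw [Subgroup.mem_centralizer_singleton_iff, Subgroup.mem_centralizer_singleton_iff]
    refine ⟨fun h => ?_, fun h => Commute.pow_right h k⟩
    obtain ⟨j, hj⟩ := exists_pow_eq_self_of_coprime (hk.coprime_dvd_right (orderOf_dvd_natCard v))
    rw [← hj]; exact Commute.pow_right h j
  have hcard : Nat.card ↥(Subgroup.centralizer ({v} : Set X)) =
      Nat.card ↥(G ⊓ Subgroup.centralizer ({v} : Set X)) * Nat.card V := by
    rw [mul_comm, ← Nat.card_prod]
    refine (Nat.card_congr (Equiv.ofBijective (fun q : ↥V × ↥(G ⊓ Subgroup.centralizer ({v} : Set X)) =>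
      (⟨(q.1 : X) * q.2, ?_⟩ : ↥(Subgroup.centralizer ({v} : Set X)))) ⟨?_, ?_⟩)).symm
    · refine Subgroup.mul_mem _ ?_ q.2.2.2
      rw [Subgroup.mem_centralizer_singleton_iff]
      exact hab _ q.1.2 _ hv
    · rintro ⟨a, b⟩ ⟨a', b'⟩ h
      have h' := congrArg Subtype.val h
      have he : ((⟨a, a.2⟩ : ↥(V : Set X)), (⟨(b : X), b.2.1⟩ : ↥(G : Set X))) =
          (⟨a', a'.2⟩, ⟨b', b'.2.1⟩) := hGV.1 h'
      simp only [Prod.mk.injEq, Subtype.mk.injEq] at he
      exact Prod.ext (Subtype.ext he.1) (Subtype.ext he.2)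
    · rintro ⟨x, hx⟩
      obtain ⟨⟨⟨a, ha⟩, ⟨b, hb⟩⟩, rfl⟩ := hGV.2 x
      refine ⟨(⟨a, ha⟩, ⟨b, hb, ?_⟩), rfl⟩
      have hac : a ∈ Subgroup.centralizer ({v} : Set X) := by
        rw [Subgroup.mem_centralizer_singleton_iff]; exact hab _ ha _ hv
      simpa using Subgroup.mul_mem _ (Subgroup.inv_mem _ hac) hx
  -- Galois averaging
  have hcol : ∀ k ∈ tot, ∑ χ : Cfsg.IrrCharacter X, ‖(χ : X → ℂ) (v ^ k)‖ ^ 2 =
      (Nat.card ↥(G ⊓ Subgroup.centralizer ({v} : Set X)) : ℝ) * Nat.card V := by
    intro k hk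
    have h := CfsgLib.Characters.sum_irr_mul_conj_of_isConj (IsConj.refl (v ^ k))
    rw [hcen k (CfsgLib.GaloisAverage.mem_totatives.1 hk).2, hcard, Nat.cast_mul] at h
    simp only [Complex.mul_conj'] at h
    exact_mod_cast h
  have hmain : ∀ χ : Cfsg.IrrCharacter X,
      (n.totient : ℝ) ≤ ∑ k ∈ tot, ‖(χ : X → ℂ) (v ^ k)‖ ^ 2 := fun χ =>
    CfsgLib.GaloisAverage.totient_le_sum_char (CfsgLib.Characters.isCharacter_of_isIrr χ.2) hn
      pow_card_eq_one' (CfsgLib.GaloisAverage.char_ne_zero_of_mem V hVp hab G hGV hGp χ.2 hv) 2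
  set R : ℝ := (Nat.card ↥(G ⊓ Subgroup.centralizer ({v} : Set X)) : ℝ) * Nat.card V with hR
  have hphi : (0 : ℝ) < n.totient := Nat.cast_pos.2 (Nat.totient_pos.2 hn)
  have h1 : ((Finset.univ \ A).card : ℝ) * n.totient ≤ (R - Nat.card G) * n.totient := by
    calc ((Finset.univ \ A).card : ℝ) * n.totient
        = ∑ χ ∈ Finset.univ \ A, (n.totient : ℝ) := by simp
      _ ≤ ∑ χ ∈ Finset.univ \ A, ∑ k ∈ tot, ‖(χ : X → ℂ) (v ^ k)‖ ^ 2 :=
          Finset.sum_le_sum fun χ _ => hmain χ
      _ = ∑ k ∈ tot, (R - Nat.card G) := by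
          rw [Finset.sum_comm]
          refine Finset.sum_congr rfl fun k hk => ?_
          rw [Finset.sum_sdiff_eq_sub (Finset.subset_univ A), hcol k hk, hAsum k]
      _ = (R - Nat.card G) * n.totient := by
          rw [Finset.sum_const, CfsgLib.GaloisAverage.card_totatives, nsmul_eq_mul, mul_comm]
  have h2 := le_of_mul_le_mul_right h1 hphi
  rw [Finset.cast_card_sdiff (Finset.subset_univ A), hA, Finset.card_univ,
    ← Nat.card_eq_fintype_card, CfsgLib.Characters.card_irrCharacter] at h2
  have h3 : ((Nat.card (ConjClasses X) + Nat.card G : ℕ) : ℝ) ≤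
      ((Nat.card ↥(G ⊓ Subgroup.centralizer ({v} : Set X)) * Nat.card V +
        Nat.card (ConjClasses G) : ℕ) : ℝ) := by
    push_cast; rw [← hR]; linarith
  exact_mod_cast h3

end Cfsg.Agent.S4955
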