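import Mathlib
import Cfsg.Statements.S4956
-- import your own Cfsg.Agent.* helpers here

set_option autoImplicit false
open Cfsg

namespace Cfsg.Agent.S4956

theorem exists_fixed_translate {A : Type*} [CommGroup A] [Finite A] (φ : A →* A) (n : ℕ)
    (hn : ∀ a, φ^[n] a = a) (hcop : (Nat.card A).Coprime n) (v : A) :
    ∃ w : A, φ (v * w * (φ w)⁻¹) = v * w * (φ w)⁻¹ := by
  classical
  obtain ⟨d, -, hd⟩ : ∃ d : ℕ, True ∧ ∀ a : A, (a ^ n) ^ d = a := by
    refine ⟨((powCoprime hcop).symm v |> fun _ => (Nat.gcdB (Nat.card A) n % (Nat.card A : ℤ)).toNat), trivial, fun a => ?_⟩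
    have hpos : (0 : ℤ) < Nat.card A := by exact_mod_cast Nat.card_pos
    rw [← pow_mul, ← zpow_natCast, Nat.cast_mul, Int.toNat_of_nonneg (Int.emod_nonneg _ hpos.ne'),
      zpow_mul, ← Int.mul_ediv_add_emod (Nat.gcdB (Nat.card A) n) (Nat.card A : ℤ)] 
    have hz : ∀ b : A, ∀ k : ℤ, b ^ ((Nat.card A : ℤ) * k) = 1 := fun b k => by
      rw [zpow_mul, zpow_natCast, pow_card_eq_one', one_zpow]
    have h := Nat.gcd_eq_gcd_ab (Nat.card A) n
    rw [hcop.gcd_eq_one] at h
    conv_rhs => rw [← zpow_one a, show (1:ℤ) = ((1:ℕ):ℤ) from rfl, h, zpow_add, hz, one_mul,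
      ← Int.mul_ediv_add_emod (Nat.gcdB (Nat.card A) n) (Nat.card A : ℤ), mul_add, zpow_add,
      mul_left_comm (n : ℤ), hz, one_mul, zpow_mul, zpow_natCast]
    simp
  let P : ℕ → A := fun i => ∏ j ∈ Finset.range i, φ^[j] v
  have hP : ∀ i, P i * (φ (P i))⁻¹ = v * (φ^[i] v)⁻¹ := by
    intro i
    induction i with
    | zero => simp [P]
    | succ i ih =>
      simp only [P, Finset.prod_range_succ, map_mul, mul_inv_rev] at ih ⊢
      rw [Function.iterate_succ_apply']
      calc _ = (∏ j ∈ Finset.range i, φ^[j] v) * (φ (∏ j ∈ Finset.range i, φ^[j] v))⁻¹ *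
            (φ^[i] v) * (φ (φ^[i] v))⁻¹ := by ac_rfl
        _ = _ := by rw [ih, inv_mul_cancel_right]
  let W : A := ∏ i ∈ Finset.range n, P i
  have hW : W * (φ W)⁻¹ = v ^ n * (P n)⁻¹ := by
    simp only [W, map_prod, ← Finset.prod_inv_distrib, ← Finset.prod_mul_distrib, hP]
    simp [P, Finset.prod_mul_distrib]
  have hPn : φ (P n) = P n := by
    have := hP n
    rw [hn v, mul_inv_cancel, mul_inv_eq_one] at this
    exact this.symm
  refine ⟨(W ^ d)⁻¹, ?_⟩
  have key : v * (W ^ d)⁻¹ * (φ (W ^ d)⁻¹)⁻¹ = P n ^ d := by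
    rw [map_inv, map_pow, inv_inv, mul_assoc, ← inv_pow, ← mul_pow]
    have : W⁻¹ * φ W = (v ^ n)⁻¹ * P n := by
      have := congrArg (·⁻¹) hW
      simpa [mul_comm] using this
    rw [this, mul_pow, inv_pow, hd v, mul_inv_cancel_left]
  rw [key, map_pow, hPn]


/-- Let X be a finite group, V an abelian normal subgroup of X (any two elements of V commute) and G a complement to V in X whose order is coprime to that of V. Let S be a set of representatives of the orbits of G on V under conjugation: S lies in V and every element of V is conjugate under G to exactly one member of S. Then the number of conjugacy classes of X equals the sum, over s in S, of the number of conjugacy classes of the centralizer of s in G. -/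
theorem result {X : Type*} [Group X] [Finite X] (V : Subgroup X) [V.Normal] (hab : ∀ a ∈ V, ∀ b ∈ V, a * b = b * a) (G : Subgroup X) (hGV : Subgroup.IsComplement' V G) (hcop : (Nat.card V).Coprime (Nat.card G)) (S : Finset X) (hSV : ∀ s ∈ S, s ∈ V) (hrep : ∀ v ∈ V, ∃! s, s ∈ S ∧ ∃ g ∈ G, g * v * g⁻¹ = s) : Nat.card (ConjClasses X) = ∑ s ∈ S, Nat.card (ConjClasses ↥(G ⊓ Subgroup.centralizer ({s} : Set X))) := by
  classical
  let C : X → Subgroup X := fun s => G ⊓ Subgroup.centralizer ({s} : Set X)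
  have hC : ∀ {s h : X}, h ∈ C s ↔ h ∈ G ∧ Commute h s := by
    intro s h
    simp only [C, Subgroup.mem_inf, Subgroup.mem_centralizer_singleton_iff]
    exact and_congr_right fun _ => ⟨fun e => e, fun e => e⟩
  let Ψ : (Σ s : ↥S, ConjClasses ↥(C s)) → ConjClasses X := fun p =>
    Quotient.liftOn p.2 (fun h => ConjClasses.mk ((p.1 : X) * h)) (by
      intro a b hab'
      obtain ⟨c, hc⟩ := isConj_iff.1 hab'
      rw [ConjClasses.mk_eq_mk_iff_isConj, isConj_iff]
      refine ⟨c, ?_⟩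
      have hcs : Commute (c : X) p.1 := (hC.1 c.2).2
      rw [← hc]
      simp only [Subgroup.coe_mul, Subgroup.coe_inv]
      rw [← mul_assoc, hcs.eq]
      group)
  have hdec : ∀ x : X, ∃ w ∈ V, ∃ u ∈ G, x = w * u := by
    intro x
    obtain ⟨⟨⟨w, hw⟩, ⟨u, hu⟩⟩, rfl⟩ := hGV.2 x
    exact ⟨w, hw, u, hu, rfl⟩
  have hVG : ∀ {a : X}, a ∈ V → a ∈ G → a = 1 := fun ha hb =>
    Subgroup.mem_bot.1 (hGV.disjoint.eq_bot ▸ Subgroup.mem_inf.2 ⟨ha, hb⟩)
  obtain ⟨k, hkV, hkG⟩ := Nat.chineseRemainder hcop 0 1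
  have hpart : ∀ {s h : X}, s ∈ V → h ∈ G → Commute s h → (s * h) ^ k = h := by
    intro s h hs hh hsh
    rw [hsh.mul_pow]
    have h1 : s ^ k = 1 := by
      have : orderOf s ∣ Nat.card V := (Subgroup.orderOf_dvd_natCard V hs)
      exact orderOf_dvd_iff_pow_eq_one.1 (this.trans (Nat.modEq_zero_iff_dvd.1 hkV))
    have h2 : h ^ k = h ^ 1 := pow_eq_pow_iff_modEq.2 (hkG.of_dvd (Subgroup.orderOf_dvd_natCard G hh))
    rw [h1, h2, one_mul, pow_one]
  have hΨ : Function.Bijective Ψ := by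
    constructor
    · rintro ⟨⟨s, hs⟩, a⟩ ⟨⟨s', hs'⟩, b⟩ he
      obtain ⟨⟨h, hh⟩, rfl⟩ := ConjClasses.exists_rep a
      obtain ⟨⟨h', hh'⟩, rfl⟩ := ConjClasses.exists_rep b
      obtain ⟨hhG, hhs⟩ := hC.1 hh
      obtain ⟨hhG', hhs'⟩ := hC.1 hh'
      obtain ⟨x, hx⟩ : ∃ x, x * (s * h) * x⁻¹ = s' * h' :=
        isConj_iff.1 (ConjClasses.mk_eq_mk_iff_isConj.1 he)
      have hxh : x * h * x⁻¹ = h' := by
        have := congrArg (· ^ k) hx
        simpa [conj_pow, hpart (hSV s hs) hhG hhs.symm, hpart (hSV s' hs') hhG' hhs'.symm] using this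
      have hxs : x * s * x⁻¹ = s' := by
        apply mul_right_cancel (b := h')
        rw [← hx]
        nth_rw 1 [← hxh]
        group
      obtain ⟨w, hw, u, hu, rfl⟩ := hdec x
      have hus : u * s * u⁻¹ = s' := by
        rw [← hxs]
        have hu1 : u * s * u⁻¹ ∈ V := (inferInstance : V.Normal).conj_mem s (hSV s hs) u
        calc u * s * u⁻¹ = (u * s * u⁻¹) * w * w⁻¹ := by group
          _ = w * (u * s * u⁻¹) * w⁻¹ := by rw [hab _ hu1 _ hw]
          _ = _ := by group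
      have hss : s = s' := (hrep s (hSV s hs)).unique ⟨hs, 1, G.one_mem, by group⟩ ⟨hs', u, hu, hus⟩
      subst hss
      have huh : u * h * u⁻¹ = h' := by
        have hg : u * h * u⁻¹ ∈ G := G.mul_mem (G.mul_mem hu hhG) (G.inv_mem hu)
        have hin : h' * (u * h * u⁻¹)⁻¹ ∈ G := G.mul_mem hhG' (G.inv_mem hg)
        have hV' : h' * (u * h * u⁻¹)⁻¹ ∈ V := by
          have he : h' * (u * h * u⁻¹)⁻¹ = w * ((u * h * u⁻¹) * w⁻¹ * (u * h * u⁻¹)⁻¹) := by
            rw [← hxh]; group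
          rw [he]
          exact V.mul_mem hw ((inferInstance : V.Normal).conj_mem _ (V.inv_mem hw) _)
        exact (mul_inv_eq_one.1 (hVG hV' hin)).symm
      refine Sigma.ext rfl (heq_of_eq ?_)
      rw [ConjClasses.mk_eq_mk_iff_isConj, isConj_iff]
      refine ⟨⟨u, hC.2 ⟨hu, ?_⟩⟩, Subtype.ext ?_⟩
      · exact mul_inv_eq_iff_eq_mul.1 hus
      · simpa using huh
    · intro c
      obtain ⟨x, rfl⟩ := ConjClasses.exists_rep c
      obtain ⟨v, hv, g, hg, rfl⟩ := hdec x
      let _inst : CommGroup ↥V := { (inferInstance : Group ↥V) with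
        mul_comm := fun a b => Subtype.ext (hab a a.2 b b.2) }
      let φ : ↥V →* ↥V := ((MulAut.conjNormal g : MulAut ↥V)).toMonoidHom
      have hφ : ∀ a : ↥V, (φ a : X) = g * a * g⁻¹ := fun a => MulAut.conjNormal_apply g a
      have hit : ∀ (i : ℕ) (a : ↥V), ((φ^[i] a : ↥V) : X) = g ^ i * a * (g ^ i)⁻¹ := by
        intro i a
        induction i with
        | zero => simp
        | succ i ih => rw [Function.iterate_succ_apply', hφ, ih, pow_succ']; group
      obtain ⟨w, hw⟩ := exists_fixed_translate φ (orderOf g)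
        (fun a => Subtype.ext (by rw [hit, pow_orderOf_eq_one]; simp))
        (Nat.Coprime.coprime_dvd_right (Subgroup.orderOf_dvd_natCard G hg) hcop) ⟨v, hv⟩
      generalize hc0 : (⟨v, hv⟩ : ↥V) * w * (φ w)⁻¹ = c at hw
      have hcg : Commute g c := by
        have := congrArg Subtype.val hw
        rw [hφ] at this
        exact mul_inv_eq_iff_eq_mul.1 this
      obtain ⟨s, ⟨hs, u, hu, hus⟩, -⟩ := hrep c c.2
      have hh : u * g * u⁻¹ ∈ C s := hC.2 ⟨G.mul_mem (G.mul_mem hu hg) (G.inv_mem hu), by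
        rw [← hus]
        exact hcg.map (MulAut.conj u).toMonoidHom⟩
      refine ⟨⟨⟨s, hs⟩, ConjClasses.mk ⟨_, hh⟩⟩, ?_⟩
      show ConjClasses.mk (s * (u * g * u⁻¹)) = ConjClasses.mk (v * g)
      rw [ConjClasses.mk_eq_mk_iff_isConj]
      refine IsConj.symm (IsConj.trans (b := (c : X) * g) (isConj_iff.2 ⟨(w : X), ?_⟩)
        (isConj_iff.2 ⟨u, ?_⟩))
      · rw [← hc0]
        simp only [Subgroup.coe_mul, Subgroup.coe_inv, hφ]
        rw [hab (w : X) w.2 v hv |>.symm]
        group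
      · rw [← hus]; group
  rw [← Nat.card_eq_of_bijective Ψ hΨ, Nat.card_sigma]
  exact (Finset.sum_coe_sort S (fun s => Nat.card (ConjClasses ↥(C s))))

end Cfsg.Agent.S4956
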