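import Cfsg.Statements.S4957
import Cfsg.Agent.FGS74.TransKGV.Main
import Cfsg.Agent.S4956

set_option autoImplicit false
set_option linter.style.haveILetI false
open Cfsg

namespace Cfsg.Agent.S4957

/-- Let X be a finite group and V a normal subgroup of X in which every element has order dividing the prime p, whose index in X is prime to p and which is its own centralizer in X; so V is an elementary abelian normal Sylow p-subgroup, and any complement G to V in X is a group of order prime to p acting faithfully on the vector space V by conjugation (the coprime linear setting of the k(GV) problem). Suppose a complement G to V in X is transitive by conjugation on the nonidentity elements of V. Then X has at most (order of V) conjugacy classes, and if equality holds then G is cyclic (hence, being transitive, a Singer cycle), or V has order 8 and G has order 21 (the nonabelian group of order 21 inside the simple group of order 168), or V has order 9 and G has order 16 (a semidihedral Sylow 2-subgroup of the 2-dimensional general linear group over the field with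 3 elements). -/
theorem result {X : Type*} [Group X] [Finite X] (p : ℕ) [Fact p.Prime] (V : Subgroup X) [V.Normal] (hVexp : ∀ v ∈ V, v ^ p = 1) (hidx : ¬ p ∣ V.index) (hself : Subgroup.centralizer (V : Set X) = V) (G : Subgroup X) (hGV : Subgroup.IsComplement' V G) (htrans : ∀ v ∈ V, ∀ w ∈ V, v ≠ 1 → w ≠ 1 → ∃ g ∈ G, g * v * g⁻¹ = w) : Nat.card (ConjClasses X) ≤ Nat.card V ∧ (Nat.card (ConjClasses X) = Nat.card V → (IsCyclic G ∨ (Nat.card V = 8 ∧ Nat.card G = 21) ∨ (Nat.card V = 9 ∧ Nat.card G = 16))) := by
  classical
  have hp : p.Prime := Fact.out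
  have hab : ∀ a ∈ V, ∀ b ∈ V, a * b = b * a := fun a ha b hb =>
    (Subgroup.mem_centralizer_iff.1 (hself.ge hb) a ha)
  have hcop' : ¬ p ∣ Nat.card G := hGV.symm.index_eq_card ▸ hidx
  have hdis : ∀ g ∈ G, g ∈ V → g = 1 := fun g hg hgV =>
    (Subgroup.mem_bot.1 (hGV.disjoint.le_bot ⟨hgV, hg⟩))
  rcases eq_or_ne V ⊥ with hV | hV
  · have htop : ∀ x : X, x = 1 := fun x => by
      have h : x ∈ Subgroup.centralizer (V : Set X) := by
        rw [hV, Subgroup.mem_centralizer_iff]
        intro y hy
        rw [Subgroup.mem_bot.1 hy, one_mul, mul_one]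
      rw [hself, hV] at h
      exact Subgroup.mem_bot.1 h
    haveI : Subsingleton X := ⟨fun a b => (htop a).trans (htop b).symm⟩
    have : Subsingleton (ConjClasses X) := ConjClasses.mk_surjective.subsingleton
    exact ⟨(Finite.card_le_one_iff_subsingleton.2 this).trans Nat.card_pos,
      fun _ => Or.inl inferInstance⟩
  haveI : IsMulCommutative V := ⟨⟨fun a b => Subtype.ext (hab a a.2 b b.2)⟩⟩
  let W := Additive V
  letI : AddCommGroup W := { (inferInstance : AddGroup (Additive V)) with
    add_comm := fun a b => Subtype.ext (hab (Additive.toMul a : V) (SetLike.coe_mem _) _ (SetLike.coe_mem _)) }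
  haveI : Module (ZMod p) W := AddCommGroup.zmodModule (fun w =>
    Additive.toMul.injective (Subtype.ext (hVexp (Additive.toMul w : V) (SetLike.coe_mem _))))
  haveI : Finite W := Finite.of_equiv V Additive.ofMul
  haveI : Nontrivial V := (Subgroup.nontrivial_iff_ne_bot V).2 hV
  haveI : Nontrivial W := Additive.ofMul.nontrivial_congr.1 inferInstance
  let ρ : G →* (W ≃ₗ[ZMod p] W) :=
    { toFun := fun g =>
        { toFun := fun w => Additive.ofMul (MulAut.conjNormal (g : X) (Additive.toMul w))
          invFun := fun w => Additive.ofMul ((MulAut.conjNormal (g : X)).symm (Additive.toMul w))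
          left_inv := fun w => Additive.toMul.injective ((MulAut.conjNormal (g : X)).symm_apply_apply _)
          right_inv := fun w => Additive.toMul.injective ((MulAut.conjNormal (g : X)).apply_symm_apply _)
          map_add' := fun w w' => Additive.toMul.injective (map_mul (MulAut.conjNormal (g : X)) _ _)
          map_smul' := fun c w => ZMod.map_smul
            (MonoidHom.toAdditive (MulAut.conjNormal (g : X) : V ≃* V).toMonoidHom) c w }
      map_one' := LinearEquiv.ext fun w => by
        show Additive.ofMul (MulAut.conjNormal ((1 : G) : X) (Additive.toMul w)) = w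
        rw [OneMemClass.coe_one, map_one]; rfl
      map_mul' := fun g h => LinearEquiv.ext fun w => by
        show Additive.ofMul (MulAut.conjNormal ((g * h : G) : X) (Additive.toMul w)) = _
        rw [Subgroup.coe_mul, map_mul]; rfl }
  have hρapp : ∀ (g : G) (w : W), ((Additive.toMul (ρ g w) : V) : X) =
      g * ((Additive.toMul w : V) : X) * (g : X)⁻¹ := fun g w => MulAut.conjNormal_apply _ _
  have hρ : Function.Injective ρ := by
    refine (injective_iff_map_eq_one ρ).2 fun g hg => Subtype.ext (hdis g g.2 (hself.le ?_))
    rw [Subgroup.mem_centralizer_iff]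
    intro v hv
    have h := hρapp g (Additive.ofMul ⟨v, hv⟩)
    rw [hg] at h
    exact ((mul_inv_eq_iff_eq_mul).1 h.symm).symm
  have ht : ∀ v w : W, v ≠ 0 → w ≠ 0 → ∃ g : G, ρ g v = w := by
    intro v w hv hw
    have hne : ∀ u : W, u ≠ 0 → ((Additive.toMul u : V) : X) ≠ 1 := fun u hu h =>
      hu (Additive.toMul.injective (Subtype.ext h))
    obtain ⟨g, hg, hgv⟩ := htrans _ (SetLike.coe_mem (Additive.toMul v : V)) _
      (SetLike.coe_mem (Additive.toMul w : V)) (hne v hv) (hne w hw)
    exact ⟨⟨g, hg⟩, Additive.toMul.injective (Subtype.ext ((hρapp ⟨g, hg⟩ v).trans hgv))⟩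
  obtain ⟨u, hu⟩ := exists_ne (1 : V)
  have hu1 : (u : X) ≠ 1 := fun h => hu (Subtype.ext h)
  have hw : (Additive.ofMul u : W) ≠ 0 := hu
  have hsum := Cfsg.Agent.S4956.result V hab G hGV
    ((((Fact.out : p.Prime).coprime_iff_not_dvd.2 hcop')).pow_left
      (Module.finrank (ZMod p) W) |> fun h => by
        rwa [← CfsgLib.FGS74.TransKGV.natCard_space (p := p) (V := W), Nat.card_congr Additive.toMul] at h)
    {1, (u : X)} (fun s hs => by
      rcases Finset.mem_insert.1 hs with rfl | hs
      · exact one_mem V
      · rw [Finset.mem_singleton.1 hs]; exact u.2) (fun v hv => by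
      by_cases hv1 : v = 1
      · subst hv1
        refine ⟨1, ⟨Finset.mem_insert_self _ _, 1, one_mem G, by group⟩, ?_⟩
        rintro s ⟨-, g, -, rfl⟩
        group
      · obtain ⟨g, hg, hgv⟩ := htrans v hv u u.2 hv1 hu1
        refine ⟨u, ⟨Finset.mem_insert_of_mem (Finset.mem_singleton_self _), g, hg, hgv⟩, ?_⟩
        rintro s ⟨hs, g', -, rfl⟩
        rcases Finset.mem_insert.1 hs with h | h
        · exact absurd (conj_eq_one_iff.1 h) hv1
        · exact Finset.mem_singleton.1 h)
  rw [Finset.sum_pair (Ne.symm hu1)] at hsum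
  have h1 : G ⊓ Subgroup.centralizer ({(1 : X)} : Set X) = G :=
    inf_eq_left.2 fun g _ => Subgroup.mem_centralizer_singleton_iff.2 (by rw [mul_one, one_mul])
  have e2 : ↥(G ⊓ Subgroup.centralizer ({(u : X)} : Set X)) ≃*
      ↥(CfsgLib.FGS74.TransKGV.stab ρ (Additive.ofMul u)) :=
    { toFun := fun x => ⟨⟨x, x.2.1⟩, Additive.toMul.injective (Subtype.ext
          ((hρapp _ _).trans (mul_inv_eq_iff_eq_mul.2
            (Subgroup.mem_centralizer_singleton_iff.1 x.2.2))))⟩
      invFun := fun x => ⟨(x.1 : X), x.1.2, Subgroup.mem_centralizer_singleton_iff.2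
          (mul_inv_eq_iff_eq_mul.1 ((hρapp x.1 _).symm.trans
            (congrArg (fun w : W => ((Additive.toMul w : V) : X)) x.2)))⟩
      left_inv := fun x => rfl
      right_inv := fun x => rfl
      map_mul' := fun x y => rfl }
  rw [h1, CfsgLib.FGS74.TransKGV.classes_congr e2] at hsum
  have hgood := CfsgLib.FGS74.TransKGV.good ρ hρ ht hcop' (Additive.ofMul u) hw
  rw [Nat.card_congr (Additive.toMul : W ≃ V), ← hsum] at hgood
  exact hgood

end Cfsg.Agent.S4957
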