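import Mathlib
import Cfsg.Statements.S4965
-- import your own Cfsg.Agent.* helpers here

set_option autoImplicit false
open Cfsg

namespace Cfsg.Agent.S4965

/-- Let X be a finite group with an abelian normal subgroup V (any two elements of V commute), and let φ be the action of X ⧸ V on V induced by conjugation (well defined because V is abelian; the hypothesis hφ says that the class of x acts as conjugation by x). Then X has at most as many conjugacy classes as the semidirect product of V by X ⧸ V formed with this action: the split extension has the largest class number among extensions with the given action. -/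
theorem result {X : Type*} [Group X] [Finite X] (V : Subgroup X) [V.Normal] (hab : ∀ a ∈ V, ∀ b ∈ V, a * b = b * a) (φ : X ⧸ V →* MulAut ↥V) (hφ : ∀ (x : X) (v : ↥V), ((φ (QuotientGroup.mk x) v : ↥V) : X) = x * v * x⁻¹) : Nat.card (ConjClasses X) ≤ Nat.card (ConjClasses (SemidirectProduct ↥V (X ⧸ V) φ)) := by
  classical
  let _inst : CommGroup ↥V := { (inferInstance : Group ↥V) with
    mul_comm := fun a b => Subtype.ext (hab a a.2 b b.2) }
  have hcard : Nat.card (SemidirectProduct ↥V (X ⧸ V) φ) = Nat.card X := by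
    rw [SemidirectProduct.card, mul_comm, ← Subgroup.card_eq_card_quotient_mul_card_subgroup]
  have : Finite (SemidirectProduct ↥V (X ⧸ V) φ) :=
    Nat.finite_of_card_ne_zero (by rw [hcard]; exact Nat.card_pos.ne')
  refine Nat.le_of_mul_le_mul_right ?_ (Nat.card_pos (α := X))
  rw [← card_comm_eq_card_conjClasses_mul_card]
  conv_rhs => rw [← hcard, ← card_comm_eq_card_conjClasses_mul_card]
  let T := {p : X × X // Commute p.1 p.2}
  let r : (X ⧸ V) × (X ⧸ V) → X × X := fun q => Classical.epsilon fun r : X × X =>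
    Commute r.1 r.2 ∧ QuotientGroup.mk r.1 = q.1 ∧ QuotientGroup.mk r.2 = q.2
  let cls : T → (X ⧸ V) × (X ⧸ V) := fun p => (QuotientGroup.mk p.1.1, QuotientGroup.mk p.1.2)
  have hr : ∀ p : T, Commute (r (cls p)).1 (r (cls p)).2 ∧
      QuotientGroup.mk (r (cls p)).1 = (cls p).1 ∧ QuotientGroup.mk (r (cls p)).2 = (cls p).2 :=
    fun p => Classical.epsilon_spec (p := fun r : X × X => Commute r.1 r.2 ∧
      QuotientGroup.mk r.1 = (cls p).1 ∧ QuotientGroup.mk r.2 = (cls p).2) ⟨p.1, p.2, rfl, rfl⟩
  have hmem : ∀ {x y : X}, (QuotientGroup.mk x : X ⧸ V) = QuotientGroup.mk y → x * y⁻¹ ∈ V := by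
    intro x y h
    exact (inferInstance : V.Normal).mem_comm ((QuotientGroup.eq).1 h.symm)
  let f : T → {p : SemidirectProduct ↥V (X ⧸ V) φ × SemidirectProduct ↥V (X ⧸ V) φ //
      Commute p.1 p.2} := fun p => ⟨(⟨⟨p.1.1 * (r (cls p)).1⁻¹, hmem (hr p).2.1.symm⟩, (cls p).1⟩,
    ⟨⟨p.1.2 * (r (cls p)).2⁻¹, hmem (hr p).2.2.symm⟩, (cls p).2⟩), by
      obtain ⟨hc, h1, h2⟩ := hr p
      have hp : p.1.1 * p.1.2 = p.1.2 * p.1.1 := p.2
      refine SemidirectProduct.ext ?_ ?_
      · apply Subtype.ext
        simp only [SemidirectProduct.mul_left, Subgroup.coe_mul]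
        have hφ' : ∀ {q : X ⧸ V} {x : X}, QuotientGroup.mk x = q → ∀ v : ↥V,
            ((φ q v : ↥V) : X) = x * v * x⁻¹ := fun e v => e ▸ hφ _ v
        rw [hφ' h1, hφ' h2]
        dsimp only
        generalize (r (cls p)).1 = a at hc ⊢
        generalize (r (cls p)).2 = b at hc ⊢
        calc p.1.1 * a⁻¹ * (a * (p.1.2 * b⁻¹) * a⁻¹) = p.1.1 * p.1.2 * (a * b)⁻¹ := by group
          _ = p.1.2 * p.1.1 * (b * a)⁻¹ := by rw [hp, hc.eq]
          _ = _ := by group
      · simp only [SemidirectProduct.mul_right, cls, ← QuotientGroup.mk_mul, hp]⟩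
  refine Nat.card_le_card_of_injective f fun p p' h => ?_
  simp only [f, Subtype.mk.injEq, Prod.mk.injEq, SemidirectProduct.ext_iff] at h
  obtain ⟨⟨h1, hc1⟩, h2, hc2⟩ := h
  have hcls : cls p = cls p' := Prod.ext hc1 hc2
  rw [hcls] at h1 h2
  exact Subtype.ext (Prod.ext (mul_right_cancel h1) (mul_right_cancel h2))

end Cfsg.Agent.S4965
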