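import Mathlib
import Cfsg.Statements.S4967
-- import your own Cfsg.Agent.* helpers here

set_option autoImplicit false
set_option linter.unusedSectionVars false
set_option linter.style.haveILetI false
open Cfsg

namespace Cfsg.Agent.S4967

open scoped LinearMap

section

variable {F : Type*} [Field F] [Fintype F] {H : Type*} [CommGroup H] [Finite H]
  {V : Type*} [AddCommGroup V] [Module F V] [FiniteDimensional F V] (ρ : Representation F H V)

/-- The subalgebra spanned by the operators of the group. -/
abbrev envAlg : Subalgebra F (Module.End F V) := Algebra.adjoin F (Set.range ρ)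

/-- It is commutative. -/
@[implicit_reducible] noncomputable def envCommRing : CommRing (envAlg ρ) :=
  Algebra.adjoinCommRingOfComm F (by
    rintro _ ⟨a, rfl⟩ _ ⟨b, rfl⟩
    rw [← map_mul, ← map_mul, mul_comm])

variable {ρ}

theorem env_invariant {U : Submodule F V} (hU : ∀ h : H, ∀ u ∈ U, ρ h u ∈ U) :
    ∀ a ∈ envAlg ρ, ∀ u ∈ U, a u ∈ U := by
  intro a ha
  induction ha using Algebra.adjoin_induction with
  | mem x hx => obtain ⟨h, rfl⟩ := hx; exact hU h
  | algebraMap r => intro u hu; simpa [Module.algebraMap_end_apply] using U.smul_mem r hu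
  | add x y _ _ hx hy => intro u hu; exact U.add_mem (hx u hu) (hy u hu)
  | mul x y _ _ hx hy => intro u hu; exact hx _ (hy u hu)

theorem env_comm {a b : Module.End F V} (ha : a ∈ envAlg ρ) (hb : b ∈ envAlg ρ) : a * b = b * a := by
  letI := envCommRing ρ
  exact congrArg Subtype.val (mul_comm (⟨a, ha⟩ : envAlg ρ) ⟨b, hb⟩)

variable (hirr : ∀ U : Submodule F V, (∀ h : H, ∀ u ∈ U, ρ h u ∈ U) → U = ⊥ ∨ U = ⊤)
include hirr

theorem env_injective {a : Module.End F V} (ha : a ∈ envAlg ρ) (h0 : a ≠ 0) :
    Function.Injective a := by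
  rw [← LinearMap.ker_eq_bot]
  refine (hirr (LinearMap.ker a) fun h u hu => ?_).resolve_right fun ht => h0 (LinearMap.ker_eq_top.1 ht)
  rw [LinearMap.mem_ker] at hu ⊢
  rw [← Module.End.mul_apply, env_comm ha (Algebra.subset_adjoin ⟨h, rfl⟩), Module.End.mul_apply, hu,
    map_zero]

/-- The envelope is a finite field of degree `dim V`, and `V` is one-dimensional over it. -/
theorem env_structure [Nontrivial V] : ∃ v₀ : V,
    Function.Bijective (fun a : envAlg ρ => (a : Module.End F V) v₀) := by
  obtain ⟨v₀, hv₀⟩ := exists_ne (0 : V)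
  refine ⟨v₀, fun a b hab => ?_, ?_⟩
  · by_contra hne
    have h0 : (a : Module.End F V) - b ≠ 0 := sub_ne_zero.2 fun h => hne (Subtype.ext h)
    exact hv₀ (env_injective hirr ((envAlg ρ).sub_mem a.2 b.2) h0
      (by simp only [LinearMap.sub_apply, map_zero]; exact sub_eq_zero.2 hab))
  · let ev : envAlg ρ →ₗ[F] V := (LinearMap.applyₗ v₀).comp (envAlg ρ).val.toLinearMap
    have hr := hirr (LinearMap.range ev) (by
      rintro h _ ⟨a, rfl⟩
      exact ⟨⟨ρ h, Algebra.subset_adjoin ⟨h, rfl⟩⟩ * a, rfl⟩)
    rcases hr with h | h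
    · refine absurd ?_ hv₀
      have : v₀ ∈ LinearMap.range ev := ⟨1, rfl⟩
      rwa [h, Submodule.mem_bot] at this
    · exact LinearMap.range_eq_top.1 h

/-- Self-duality of a faithful irreducible module of dimension at least two. -/
theorem self_dual_iff (hfaith : Function.Injective ρ) (hn : 2 ≤ Module.finrank F V) :
    (∃ B : LinearMap.BilinForm F V, B.Nondegenerate ∧ ∀ h : H, ∀ x y : V, B (ρ h x) (ρ h y) = B x y)
      ↔ (Even (Module.finrank F V) ∧
          Nat.card H ∣ Fintype.card F ^ (Module.finrank F V / 2) + 1) := by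
  classical
  have : Nontrivial V := Module.nontrivial_of_finrank_pos (R := F) (by omega)
  obtain ⟨v₀, hbij⟩ := env_structure hirr
  letI := envCommRing ρ
  have : Finite V := Module.finite_of_finite F
  have : Finite (envAlg ρ) := Finite.of_injective _ hbij.1
  letI := Fintype.ofFinite (envAlg ρ)
  have : Nontrivial (envAlg ρ) := hbij.2.nontrivial
  have : IsDomain (envAlg ρ) := by
    have : NoZeroDivisors (envAlg ρ) := ⟨fun {a b} hab => by
      by_contra hc
      push Not at hc
      refine hc.2 (hbij.1 ?_)
      have h1 : (a : Module.End F V) ((b : Module.End F V) v₀) = 0 := by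
        rw [← Module.End.mul_apply, ← Subalgebra.coe_mul, hab]; simp
      exact (env_injective hirr a.2 (fun h => hc.1 (Subtype.ext h))) (h1.trans (map_zero _).symm)⟩
    exact NoZeroDivisors.to_isDomain _
  letI : Field (envAlg ρ) := Fintype.fieldOfDomain _
  let e : envAlg ρ ≃ₗ[F] V :=
    LinearEquiv.ofBijective ((LinearMap.applyₗ v₀).comp (envAlg ρ).val.toLinearMap) hbij
  have he : ∀ a b : envAlg ρ, e (a * b) = (a : Module.End F V) (e b) := fun a b => rfl
  have hdim : Module.finrank F (envAlg ρ) = Module.finrank F V := e.finrank_eq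
  have : FiniteDimensional F (envAlg ρ) := e.symm.finiteDimensional
  let ι : H →* envAlg ρ :=
    { toFun := fun h => ⟨ρ h, Algebra.subset_adjoin ⟨h, rfl⟩⟩
      map_one' := Subtype.ext (map_one ρ)
      map_mul' := fun a b => Subtype.ext (map_mul ρ a b) }
  have hι : Function.Injective ι := fun a b h => hfaith (congrArg Subtype.val h)
  have hcyc : IsCyclic H := isCyclic_of_subgroup_isDomain ι hι
  obtain ⟨g, hg⟩ := hcyc.exists_generator
  have horder : orderOf (ι g) = Nat.card H := by
    rw [orderOf_injective ι hι, orderOf_eq_card_of_forall_mem_zpowers hg]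
  have hq : 2 ≤ Fintype.card F := Fintype.one_lt_card
  constructor
  · rintro ⟨B, hB, hBi⟩
    have hinv : ∀ h x y, B (ρ h x) y = B x (ρ h⁻¹ y) := fun h x y => by
      conv_lhs => rw [← ρ.self_inv_apply h y]
      rw [hBi]
    have hex : ∀ a : envAlg ρ, ∃ b : envAlg ρ, ∀ x y,
        B ((a : Module.End F V) x) y = B x ((b : Module.End F V) y) := by
      rintro ⟨a, ha⟩
      induction ha using Algebra.adjoin_induction with
      | mem x hx => obtain ⟨h, rfl⟩ := hx; exact ⟨ι h⁻¹, hinv h⟩
      | algebraMap r => exact ⟨algebraMap F _ r, fun x y => by simp⟩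
      | add x y _ _ hx hy =>
        obtain ⟨b, hb⟩ := hx
        obtain ⟨c, hc⟩ := hy
        exact ⟨b + c, fun u v => by
          simp only at hb hc
          simp [hb, hc]⟩
      | mul x y _ _ hx hy =>
        obtain ⟨b, hb⟩ := hx
        obtain ⟨c, hc⟩ := hy
        exact ⟨c * b, fun u v => by
          simp only at hb hc
          simp [Module.End.mul_apply, hb, hc]⟩
    choose s hs using hex
    have huniq : ∀ a b : envAlg ρ, (∀ x y, B ((a : Module.End F V) x) y =
        B x ((b : Module.End F V) y)) → s a = b := fun a b hab => by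
      refine Subtype.ext (LinearMap.ext fun y => ?_)
      rw [← sub_eq_zero]
      refine hB.2 _ fun x => ?_
      rw [map_sub, ← hs, hab, sub_self]
    let σ : envAlg ρ →ₐ[F] envAlg ρ :=
      { toFun := s
        map_one' := huniq 1 1 (fun x y => by simp)
        map_mul' := fun a b => huniq _ _ fun x y => by
          rw [mul_comm (s a) (s b)]
          simp only [Subalgebra.coe_mul, Module.End.mul_apply, hs]
        map_zero' := huniq 0 0 (fun x y => by simp)
        map_add' := fun a b => huniq _ _ fun x y => by simp [hs]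
        commutes' := fun r => huniq _ _ fun x y => by simp }
    obtain ⟨⟨i, hi⟩, hiσ⟩ := (FiniteField.bijective_frobeniusAlgHom_pow F (envAlg ρ)).2 σ
    have hpow : ∀ a, σ a = a ^ Fintype.card F ^ i := fun a => by
      rw [← hiσ, AlgHom.coe_pow, FiniteField.coe_frobeniusAlgHom, pow_iterate]
    have hσι : ∀ h, σ (ι h) = ι h⁻¹ := fun h => huniq (ι h) (ι h⁻¹) (hinv h)
    have hσσ : σ.comp σ = AlgHom.id F _ := by
      apply AlgHom.ext
      rintro ⟨a, ha⟩
      induction ha using Algebra.adjoin_induction with
      | mem x hx =>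
        obtain ⟨h, rfl⟩ := hx
        show σ (σ (ι h)) = ι h
        rw [hσι, hσι, inv_inv]
      | algebraMap r => exact (σ.comp σ).commutes r
      | add x y hx' hy' hx hy =>
        rw [show (⟨x + y, _⟩ : envAlg ρ) = ⟨x, hx'⟩ + ⟨y, hy'⟩ from rfl, map_add, hx, hy, map_add]
      | mul x y hx' hy' hx hy =>
        rw [show (⟨x * y, _⟩ : envAlg ρ) = ⟨x, hx'⟩ * ⟨y, hy'⟩ from rfl, map_mul, hx, hy, map_mul]
    have h2i : Module.finrank F V ∣ 2 * i := by
      rw [← hdim, ← FiniteField.orderOf_frobeniusAlgHom F (envAlg ρ), orderOf_dvd_iff_pow_eq_one,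
        two_mul, pow_add, show FiniteField.frobeniusAlgHom F (envAlg ρ) ^ i = σ from hiσ]
      exact hσσ
    rw [hdim] at hi
    rcases Nat.eq_zero_or_pos i with rfl | hipos
    · -- the trivial automorphism forces dimension one
      exfalso
      have hsq : ∀ h, ρ h * ρ h = 1 := fun h => by
        have e1 := (hσι h).symm.trans (by rw [hpow, pow_zero, pow_one])
        rw [← map_mul, ← map_one ρ]
        exact congrArg ρ (by rw [← inv_mul_cancel h, hι e1])
      have hscal : ∀ a ∈ envAlg ρ, ∃ c : F, a = algebraMap F _ c := by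
        intro a ha
        induction ha using Algebra.adjoin_induction with
        | mem x hx =>
          obtain ⟨h, rfl⟩ := hx
          have h1 : ι h * ι h = 1 := Subtype.ext (hsq h)
          rcases mul_self_eq_one_iff.1 h1 with h2 | h2
          · exact ⟨1, by rw [map_one]; exact congrArg Subtype.val h2⟩
          · exact ⟨-1, by rw [map_neg, map_one]; exact congrArg Subtype.val h2⟩
        | algebraMap r => exact ⟨r, rfl⟩
        | add x y _ _ hx hy =>
          obtain ⟨b, rfl⟩ := hx; obtain ⟨c, rfl⟩ := hy
          exact ⟨b + c, (map_add _ _ _).symm⟩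
        | mul x y _ _ hx hy =>
          obtain ⟨b, rfl⟩ := hx; obtain ⟨c, rfl⟩ := hy
          exact ⟨b * c, (map_mul _ _ _).symm⟩
      have h1 : Module.finrank F V ≤ 1 := finrank_le_one v₀ fun w => by
        obtain ⟨a, rfl⟩ := hbij.2 w
        obtain ⟨c, hc⟩ := hscal a a.2
        exact ⟨c, by simp [hc]⟩
      omega
    · have heq : Module.finrank F V = 2 * i := by
        obtain ⟨k, hk⟩ := h2i
        rcases k with _ | _ | k
        · omega
        · omega
        · nlinarith
      refine ⟨⟨i, by omega⟩, ?_⟩
      rw [show Module.finrank F V / 2 = i by omega, ← horder, orderOf_dvd_iff_pow_eq_one, pow_succ,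
        ← hpow, hσι, ← map_mul, inv_mul_cancel, map_one]
  · rintro ⟨⟨i, hi⟩, hdvd⟩
    rw [show Module.finrank F V / 2 = i by omega] at hdvd
    let σ := FiniteField.frobeniusAlgHom F (envAlg ρ) ^ i
    have hpow : ∀ a, σ a = a ^ Fintype.card F ^ i := fun a => by
      rw [AlgHom.coe_pow, FiniteField.coe_frobeniusAlgHom, pow_iterate]
    have hσι : ∀ h, ι h * σ (ι h) = 1 := fun h => by
      rw [hpow, ← pow_succ', ← map_pow, ← map_one ι]
      refine congrArg ι (orderOf_dvd_iff_pow_eq_one.1 ((orderOf_dvd_natCard h).trans hdvd))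
    let B : LinearMap.BilinForm F V :=
      (Algebra.traceForm F (envAlg ρ)).compl₁₂ e.symm.toLinearMap
        (σ.toLinearMap ∘ₗ e.symm.toLinearMap)
    have hBa : ∀ x y, B x y = Algebra.trace F (envAlg ρ) (e.symm x * σ (e.symm y)) := fun x y => rfl
    have htr := traceForm_nondegenerate F (envAlg ρ)
    have hσbij : Function.Bijective σ :=
      Finite.injective_iff_bijective.1 σ.toRingHom.injective
    refine ⟨B, ⟨fun x hx => ?_, fun y hy => ?_⟩, fun h x y => ?_⟩
    · have := htr.1 (e.symm x) fun b => by
        obtain ⟨c, rfl⟩ := hσbij.2 b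
        have h1 := hx (e c)
        rw [hBa, e.symm_apply_apply] at h1
        exact h1
      exact (LinearEquiv.map_eq_zero_iff _).1 this
    · have := htr.2 (σ (e.symm y)) fun b => by
        have h1 := hy (e b)
        rw [hBa, e.symm_apply_apply] at h1
        exact h1
      rw [map_eq_zero_iff σ σ.toRingHom.injective] at this
      exact (LinearEquiv.map_eq_zero_iff _).1 this
    · have hmove : ∀ z, e.symm (ρ h z) = ι h * e.symm z := fun z => by
        apply e.injective
        rw [e.apply_symm_apply, he, e.apply_symm_apply]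
        rfl
      rw [hBa, hBa, hmove, hmove, map_mul σ, mul_mul_mul_comm, hσι, one_mul]

omit hirr in
theorem card_le_two (hfaith : Function.Injective ρ) (hn : Module.finrank F V = 1)
    (hB : ∃ B : LinearMap.BilinForm F V, B.Nondegenerate ∧ ∀ h : H, ∀ x y : V, B (ρ h x) (ρ h y) = B x y) :
    Nat.card H ≤ 2 := by
  obtain ⟨B, hB, hBi⟩ := hB
  have : Nontrivial V := Module.nontrivial_of_finrank_pos (R := F) (by omega)
  obtain ⟨v, hv⟩ := exists_ne (0 : V)
  have hsp := (finrank_eq_one_iff_of_nonzero' v hv).1 hn
  have hBv : B v v ≠ 0 := fun h0 => hv (hB.1 v fun w => by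
    obtain ⟨c, rfl⟩ := hsp w; simp [h0])
  have hex : ∀ h, ∃ c : F, (c = 1 ∨ c = -1) ∧ ∀ w, ρ h w = c • w := by
    intro h
    obtain ⟨c, hc⟩ := hsp (ρ h v)
    refine ⟨c, ?_, fun w => ?_⟩
    · have h1 := hBi h v v
      rw [← hc] at h1
      simp only [map_smul, LinearMap.smul_apply, smul_eq_mul, ← mul_assoc] at h1
      exact mul_self_eq_one_iff.1 ((mul_eq_right₀ hBv).1 h1)
    · obtain ⟨d, rfl⟩ := hsp w
      rw [map_smul, ← hc, smul_comm]
  choose f hf hfa using hex
  classical
  have hinj : Function.Injective fun h => decide (f h = 1) := by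
    intro a b hab
    simp only [decide_eq_decide] at hab
    refine hfaith (LinearMap.ext fun w => ?_)
    rw [hfa, hfa]
    congr 1
    rcases hf a with ha | ha <;> rcases hf b with hb | hb <;> simp_all
  exact (Nat.card_le_card_of_injective _ hinj).trans_eq (by simp)

end


/-- Let F be a finite field with r elements and of characteristic p, H a finite abelian group of order prime to p, and V a faithful irreducible representation of H over F of dimension n (faithful: distinct elements act differently; irreducible: the only H-invariant subspaces are 0 and V). Call V self-dual when it carries a nondegenerate H-invariant bilinear form. If n = 1 and V is self-dual then H has order at most 2. If n ≥ 2 then V is self-dual if and only if n is even and the order of H divides r^(n/2) + 1. -/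
theorem result {F : Type*} [Field F] [Fintype F] (p : ℕ) [Fact p.Prime] [CharP F p] {H : Type*} [CommGroup H] [Finite H] (hcop : ¬ p ∣ Nat.card H) {V : Type*} [AddCommGroup V] [Module F V] [FiniteDimensional F V] (ρ : Representation F H V) (hfaith : Function.Injective ρ) (hirr : ∀ U : Submodule F V, (∀ h : H, ∀ u ∈ U, ρ h u ∈ U) → U = ⊥ ∨ U = ⊤) : (Module.finrank F V = 1 → (∃ B : LinearMap.BilinForm F V, B.Nondegenerate ∧ ∀ h : H, ∀ x y : V, B (ρ h x) (ρ h y) = B x y) → Nat.card H ≤ 2) ∧ (2 ≤ Module.finrank F V → ((∃ B : LinearMap.BilinForm F V, B.Nondegenerate ∧ ∀ h : H, ∀ x y : V, B (ρ h x) (ρ h y) = B x y) ↔ (Even (Module.finrank F V) ∧ Nat.card H ∣ Fintype.card F ^ (Module.finrank F V / 2) + 1))) := ⟨fun hn hB => card_le_two hfaith hn hB, fun hn => self_dual_iff hirr hfaith hn⟩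

end Cfsg.Agent.S4967
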