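import Mathlib
import Cfsg.Agent.GaloisAverage.Basic
import Cfsg.Agent.Characters.Orthogonality
import Cfsg.Statements.S4989
-- import your own Cfsg.Agent.* helpers here

set_option autoImplicit false
open Cfsg

namespace Cfsg.Agent.S4989


/-- Let H be a subgroup of the finite group G and χ an irreducible complex character of G. Then the inner product of the restriction of χ to H with itself, (1/#H)·Σ_{h ∈ H} |χ(h)|², is at most 1 + #(Z ∖ H)/#H, where Z is the set of zeros of χ in G. -/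
theorem result {G : Type*} [Group G] [Finite G] (H : Subgroup G) (χ : Cfsg.IrrCharacter G) : (Nat.card ↥H : ℝ)⁻¹ * ∑ᶠ h : ↥H, ‖(χ : G → ℂ) h‖ ^ 2 ≤ 1 + (Set.ncard ({x : G | (χ : G → ℂ) x = 0} \ (H : Set G)) : ℝ) / (Nat.card ↥H : ℝ) := by
  classical
  have := Fintype.ofFinite G
  have hch := CfsgLib.Characters.isCharacter_of_isIrr χ.2
  rw [finsum_eq_sum_of_fintype]
  set f : G → ℝ := fun x => ‖(χ : G → ℂ) x‖ ^ 2 with hf
  have hrow : ∑ x : G, f x = Nat.card G :=
    CfsgLib.GaloisAverage.sum_normSq_irr (CfsgLib.Characters.classInner_isIrr_self χ.2)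
  let S : Finset G := Finset.univ.filter fun x => x ∉ H ∧ (χ : G → ℂ) x ≠ 0
  have hS := CfsgLib.GaloisAverage.card_le_sum_norm_pow_char hch 2 S (by
    intro g hg k hk
    simp only [S, Finset.mem_filter, Finset.mem_univ, true_and] at hg ⊢
    have hc := (CfsgLib.GaloisAverage.mem_totatives.1 hk).2
    refine ⟨fun hin => hg.1 ?_, CfsgLib.GaloisAverage.char_pow_ne_zero hch Nat.card_pos
      pow_card_eq_one' hc hg.2⟩
    obtain ⟨j, hj⟩ := exists_pow_eq_self_of_coprime (hc.coprime_dvd_right (orderOf_dvd_natCard g))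
    rw [← hj]; exact H.pow_mem hin j) (fun g hg => (Finset.mem_filter.1 hg).2.2)
  let Z : Finset G := Finset.univ.filter fun x => x ∉ H ∧ (χ : G → ℂ) x = 0
  have hZ : Set.ncard ({x : G | (χ : G → ℂ) x = 0} \ (H : Set G)) = Z.card := by
    rw [← Set.ncard_coe_finset]
    congr 1
    ext x
    simp [Z, and_comm]
  have hsplit : ∀ φ : G → ℝ, ∑ x, φ x =
      ∑ h : H, φ h + (∑ x ∈ S, φ x + ∑ x ∈ Z, φ x) := by
    intro φ
    rw [← Finset.sum_filter_add_sum_filter_not Finset.univ (fun x => x ∈ H) φ,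
      ← Finset.sum_filter_add_sum_filter_not (Finset.univ.filter fun x => ¬ x ∈ H)
        (fun x => (χ : G → ℂ) x ≠ 0) φ, Finset.filter_filter, Finset.filter_filter]
    simp only [not_not, S, Z]
    congr 1
    exact Finset.sum_subtype _ (by simp) _
  have hone := hsplit fun _ => (1 : ℝ)
  have htot := hsplit f
  simp only [Finset.sum_const, nsmul_eq_mul, mul_one, Finset.card_univ,
    ← Nat.card_eq_fintype_card] at hone
  rw [hrow] at htot
  have hz : ∑ x ∈ Z, f x = 0 := Finset.sum_eq_zero fun x hx => by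
    simp [f, (Finset.mem_filter.1 hx).2.2]
  have hpos : (0 : ℝ) < Nat.card H := Nat.cast_pos.2 Nat.card_pos
  rw [hZ, inv_mul_le_iff₀ hpos, mul_add, mul_one, mul_div_cancel₀ _ hpos.ne']
  have hS' : (S.card : ℝ) ≤ ∑ x ∈ S, f x := hS
  show ∑ h : H, f h ≤ _
  linarith

end Cfsg.Agent.S4989
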