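import Mathlib
import Cfsg.Agent.GaloisAverage.Basic
import Cfsg.Agent.Characters.Classes
import Cfsg.Agent.Characters.Linear
import Cfsg.Statements.S4996
-- import your own Cfsg.Agent.* helpers here

set_option autoImplicit false
open Cfsg

namespace Cfsg.Agent.S4996

open CfsgLib.Characters in
/-- The normalised coset sums of `|χ|²` form a character of the whole group. -/
theorem exists_coset_character {G : Type*} [Group G] [Fintype G] (N : Subgroup G) [N.Normal]
    [Fintype N] {n : ℕ} (ρ : Representation ℂ G (Fin n → ℂ)) :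
    ∃ (W : Submodule ℂ ((Fin n → ℂ) →ₗ[ℂ] (Fin n → ℂ))) (τ : Representation ℂ G W),
      LinearMap.id ∈ W ∧ (∀ g, ∀ w : W, ((τ g w : W) : (Fin n → ℂ) →ₗ[ℂ] (Fin n → ℂ)) =
        ρ g ∘ₗ (w : (Fin n → ℂ) →ₗ[ℂ] (Fin n → ℂ)) ∘ₗ ρ g⁻¹) ∧
      ∀ x, Representation.character (V := ↥W) τ x = (Nat.card N : ℂ)⁻¹ *
        ∑ m : N, ρ.character ((m : G) * x) * (starRingEnd ℂ) (ρ.character ((m : G) * x)) := by
  classical
  let σ : Representation ℂ G ((Fin n → ℂ) →ₗ[ℂ] (Fin n → ℂ)) := Representation.linHom ρ ρ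
  have hσ : ∀ g f, σ g f = ρ g ∘ₗ f ∘ₗ ρ g⁻¹ := fun g f => rfl
  let W : Submodule ℂ ((Fin n → ℂ) →ₗ[ℂ] (Fin n → ℂ)) :=
    ⨅ m : N, LinearMap.ker (σ m - LinearMap.id)
  have hW : ∀ f, f ∈ W ↔ ∀ m : N, σ m f = f := fun f => by simp [W, sub_eq_zero]
  have hinv : ∀ g, ∀ f ∈ W, σ g f ∈ W := by
    intro g f hf
    rw [hW] at hf ⊢
    intro m
    have hm : g⁻¹ * m * g ∈ N := by simpa using (inferInstance : N.Normal).conj_mem m m.2 g⁻¹
    have h := hf ⟨_, hm⟩
    conv_rhs => rw [← h, ← Module.End.mul_apply, ← map_mul]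
    rw [← Module.End.mul_apply, ← map_mul]
    congr 2
    group
  let τ : Representation ℂ G W :=
    { toFun := fun g => (σ g).restrict (hinv g)
      map_one' := by ext w : 2; simp [LinearMap.restrict_apply]
      map_mul' := fun g h => by ext w : 2; simp [LinearMap.restrict_apply, map_mul] }
  refine ⟨W, τ, (hW _).2 fun m => ?_, fun g w => hσ g _, fun x => ?_⟩
  · rw [hσ, LinearMap.id_comp, ← Module.End.mul_eq_comp, ← map_mul, mul_inv_cancel, map_one]
    rfl
  let P : Module.End ℂ ((Fin n → ℂ) →ₗ[ℂ] (Fin n → ℂ)) := (Nat.card N : ℂ)⁻¹ • ∑ m : N, σ m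
  have hN : (Nat.card N : ℂ) ≠ 0 := Nat.cast_ne_zero.2 Nat.card_pos.ne'
  have hPid : ∀ f ∈ W, P f = f := by
    intro f hf
    rw [hW] at hf
    simp [P, LinearMap.sum_apply, hf, ← Nat.cast_smul_eq_nsmul ℂ, Nat.card_eq_fintype_card]
  have hPmem : ∀ f, P f ∈ W := by
    intro f
    rw [hW]
    intro m
    simp only [P, LinearMap.smul_apply, LinearMap.sum_apply, map_smul, map_sum]
    congr 1
    refine Fintype.sum_equiv (Equiv.mulLeft m) _ _ fun a => ?_
    simp [← Module.End.mul_apply, ← map_mul]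
  have hmaps : ∀ f, (P * σ x) f ∈ W := fun f => hPmem _
  calc Representation.character (V := ↥W) τ x = LinearMap.trace ℂ W ((P * σ x).restrict (fun f _ => hmaps f)) := by
        refine congrArg (LinearMap.trace ℂ W) (LinearMap.ext fun w => Subtype.ext ?_)
        exact (hPid _ (hinv x w w.2)).symm
    _ = LinearMap.trace ℂ _ (P * σ x) := LinearMap.trace_restrict_eq_of_forall_mem W _ hmaps
    _ = _ := by
      simp only [P, smul_mul_assoc, Finset.sum_mul, map_smul, map_sum, smul_eq_mul, ← map_mul]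
      congr 1
      refine Finset.sum_congr rfl fun m _ => ?_
      rw [show LinearMap.trace ℂ _ (σ ((m : G) * x)) = σ.character ((m : G) * x) from rfl,
        Representation.char_linHom, char_inv, mul_comm]


/-- Let N be a normal subgroup of the finite group G and χ an irreducible complex character of G. Then the restriction of χ to N is not irreducible if and only if χ vanishes on some whole coset Nx of N in G. -/
theorem result {G : Type*} [Group G] [Finite G] (N : Subgroup G) [N.Normal] (χ : Cfsg.IrrCharacter G) : ¬ Cfsg.IsIrrCharacter ↥N (fun n : ↥N => (χ : G → ℂ) n) ↔ ∃ x : G, ∀ n : ↥N, (χ : G → ℂ) ((n : G) * x) = 0 := by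
  classical
  have := Fintype.ofFinite G
  have hch := CfsgLib.Characters.isCharacter_of_isIrr χ.2
  obtain ⟨n, ρ, hρ, hρχ⟩ := χ.2
  obtain ⟨W, τ, hid, hτ, hτc⟩ := exists_coset_character N ρ
  set r : (↥N → ℂ) := fun m : ↥N => (χ : G → ℂ) m with hr
  have hrch : Cfsg.IsCharacter ↥N r := CfsgLib.Characters.isCharacter_restrict N hch
  have hW1 : (Module.finrank ℂ W : ℂ) = Cfsg.classInner r r := by
    rw [← Representation.char_one (V := ↥W) τ, hτc]
    simp [Cfsg.classInner, hr, hρχ]
  have hirr : Cfsg.IsIrrCharacter ↥N r ↔ Module.finrank ℂ W = 1 := by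
    refine ⟨fun h => ?_, fun h => CfsgLib.Characters.isIrr_of_classInner_self hrch ?_⟩
    · have h1 := hW1
      rw [CfsgLib.Characters.classInner_isIrr_self h] at h1
      exact_mod_cast h1
    · rw [← hW1, h, Nat.cast_one]
  have hnorm : ∀ x, ((∑ m : N, ‖(χ : G → ℂ) ((m : G) * x)‖ ^ 2 : ℝ) : ℂ) =
      (Nat.card N : ℂ) * Representation.character (V := ↥W) τ x := by
    intro x
    rw [hτc, mul_inv_cancel_left₀ (Nat.cast_ne_zero.2 Nat.card_pos.ne'), hρχ]
    simp [Complex.mul_conj']
  rw [hirr]
  constructor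
  · intro hne
    by_contra hno
    have hnz : ∀ x, Representation.character (V := ↥W) τ x ≠ 0 := by
      intro x h0
      refine hno ⟨x, fun m => ?_⟩
      have h1 := hnorm x
      rw [h0, mul_zero, Complex.ofReal_eq_zero] at h1
      have := (Finset.sum_eq_zero_iff_of_nonneg fun a _ => by positivity).1 h1 m (Finset.mem_univ _)
      simpa using this
    have hS := CfsgLib.GaloisAverage.card_le_sum_norm_pow_char
      (CfsgLib.Characters.isCharacter_character (V := ↥W) τ) 1 (Finset.univ.erase 1) (by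
        intro g hg k hk
        simp only [Finset.mem_erase, Finset.mem_univ, and_true, ne_eq] at hg ⊢
        intro h1
        apply hg
        obtain ⟨j, hj⟩ := exists_pow_eq_self_of_coprime
          ((CfsgLib.GaloisAverage.mem_totatives.1 hk).2.coprime_dvd_right (orderOf_dvd_natCard g))
        rw [← hj, h1, one_pow]) (fun g _ => hnz g)
    have hval : ∀ x, ‖Representation.character (V := ↥W) τ x‖ = (∑ m : N, ‖(χ : G → ℂ) ((m : G) * x)‖ ^ 2) / Nat.card N := by
      intro x
      have h1 := congrArg (‖·‖) (hnorm x)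
      simp only [norm_mul, Complex.norm_real, Complex.norm_natCast, Real.norm_eq_abs] at h1
      rw [abs_of_nonneg (Finset.sum_nonneg fun a _ => by positivity)] at h1
      rw [h1, mul_div_cancel_left₀ _ (Nat.cast_ne_zero.2 Nat.card_pos.ne')]
    have htot : ∑ x : G, ‖Representation.character (V := ↥W) τ x‖ = Nat.card G := by
      simp only [hval]
      have hh : ∀ m : N, ∑ x : G, ‖(χ : G → ℂ) ((m : G) * x)‖ ^ 2 = (Nat.card G : ℝ) := fun m => by
        rw [← CfsgLib.GaloisAverage.sum_normSq_irr (CfsgLib.Characters.classInner_isIrr_self χ.2)]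
        exact Fintype.sum_equiv (Equiv.mulLeft (m : G)) _ _ fun x => rfl
      rw [← Finset.sum_div, Finset.sum_comm, Finset.sum_congr rfl fun m _ => hh m,
        Finset.sum_const, Finset.card_univ, ← Nat.card_eq_fintype_card, nsmul_eq_mul,
        mul_div_cancel_left₀ _ (Nat.cast_ne_zero.2 Nat.card_pos.ne')]
    simp only [pow_one] at hS
    rw [← Finset.sum_erase_add _ _ (Finset.mem_univ (1 : G)), Representation.char_one (V := ↥W) τ, Complex.norm_natCast]
      at htot
    have hc : ((Finset.univ.erase (1 : G)).card : ℝ) + 1 = Nat.card G := by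
      rw [Nat.card_eq_fintype_card, ← Finset.card_univ,
        ← Finset.card_erase_add_one (Finset.mem_univ (1 : G))]
      push_cast; ring
    have hle : (Module.finrank ℂ W : ℝ) ≤ 1 := by linarith
    have hnt : Nontrivial W := by
      have := CfsgLib.Characters.nontrivial_of_isIrreducible ρ
      refine nontrivial_of_ne ⟨LinearMap.id, hid⟩ 0 fun h => ?_
      obtain ⟨v, hv⟩ := exists_ne (0 : Fin n → ℂ)
      exact hv (LinearMap.congr_fun (congrArg Subtype.val h) v)
    have hpos : 0 < Module.finrank ℂ W := Nat.pos_of_ne_zero fun h0 =>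
      (Submodule.nontrivial_iff_ne_bot.1 hnt) (Submodule.finrank_eq_zero.1 h0)
    have hle' : Module.finrank ℂ W ≤ 1 := by exact_mod_cast hle
    exact hne (by omega)
  · rintro ⟨x, hx⟩ h1
    have h0 : Representation.character (V := ↥W) τ x = 0 := by
      have h2 := hnorm x
      simp only [hx] at h2
      simpa [Nat.card_pos.ne'] using h2.symm
    have hfix : τ x ⟨LinearMap.id, hid⟩ = ⟨LinearMap.id, hid⟩ := Subtype.ext (by
      rw [hτ, LinearMap.id_comp, ← Module.End.mul_eq_comp, ← map_mul, mul_inv_cancel, map_one]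
      rfl)
    have hh := CfsgLib.Characters.char_of_finrank_eq_one (V := ↥W) τ h1 x
    rw [h0, zero_smul] at hh
    rw [hh, LinearMap.zero_apply] at hfix
    have := CfsgLib.Characters.nontrivial_of_isIrreducible ρ
    obtain ⟨v, hv⟩ := exists_ne (0 : Fin n → ℂ)
    exact hv (LinearMap.congr_fun (congrArg Subtype.val hfix.symm) v)

end Cfsg.Agent.S4996
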