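import Cfsg.Statements.S4997
import Cfsg.Agent.VanishClass.Main

set_option autoImplicit false
open Cfsg

namespace Cfsg.Agent.S4997

/-- Let p be an odd prime and G a finite solvable group with exactly one conjugacy class consisting of vanishing elements (elements at which some irreducible complex character is zero) of order divisible by p. Let P be a Sylow p-subgroup of G. Then the order of P is at most p times the order of the largest normal p-subgroup of G. -/
theorem result {G : Type*} [Group G] [Finite G] (hsolv : Group.IsSolvable G) (p : ℕ) [Fact p.Prime] (hp : p ≠ 2) (h1 : Set.ncard {C : ConjClasses G | (∀ g ∈ C.carrier, ∃ χ : Cfsg.IrrCharacter G, (χ : G → ℂ) g = 0) ∧ ∃ g ∈ C.carrier, p ∣ orderOf g} = 1) (P : Sylow p G) : Nat.card ↥(P : Subgroup G) ≤ p * Nat.card ↥(Cfsg.pCore p G) := by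
  refine CfsgLib.VanishClass.card_sylow_le hsolv (fun g k hg hpg hk hpk => ?_) P
  have hmem : ∀ x : G, CfsgLib.VanishClass.Van x → p ∣ orderOf x →
      ConjClasses.mk x ∈ {C : ConjClasses G | (∀ g ∈ C.carrier, ∃ χ : Cfsg.IrrCharacter G,
        (χ : G → ℂ) g = 0) ∧ ∃ g ∈ C.carrier, p ∣ orderOf g} := by
    intro x hx hpx
    obtain ⟨χ, hχ, h0⟩ := hx
    refine ⟨fun y hy => ⟨⟨χ, hχ⟩, ?_⟩, x, ConjClasses.mem_carrier_mk, hpx⟩
    haveI := Fintype.ofFinite G
    rw [ConjClasses.mem_carrier_iff_mk_eq, ConjClasses.mk_eq_mk_iff_isConj, isConj_comm] at hy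
    obtain ⟨c, hc⟩ := isConj_iff.1 hy
    show χ y = 0
    rw [← hc, CfsgLib.Characters.isClassFunction_of_isIrr hχ x c, h0]
  obtain ⟨C, hC⟩ := Set.ncard_eq_one.1 h1
  have e1 := hC ▸ hmem g hg hpg
  have e2 := hC ▸ hmem k hk hpk
  rw [Set.mem_singleton_iff] at e1 e2
  exact ConjClasses.mk_eq_mk_iff_isConj.1 (e1.trans e2.symm)

end Cfsg.Agent.S4997
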