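import Mathlib
import Cfsg.Agent.Blocks.HeightZero
import Cfsg.Agent.Characters.Linear
import Cfsg.Statements.S5001
-- import your own Cfsg.Agent.* helpers here

set_option autoImplicit false
open Cfsg

namespace Cfsg.Agent.S5001

open CfsgLib.Characters in
/-- If the value at an element centralised by the `p`-group `D` is a unit modulo `p`, the central
character extends to a linear character of `D`. -/
theorem exists_extension {G : Type*} [Group G] [Finite G] {p : ℕ} [Fact p.Prime]
    {M : Ideal Cfsg.AlgInt} [M.IsPrime] (hM : Cfsg.IsPModular p M) (D Z : Subgroup G) (hZp : IsPGroup p ↥Z)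
    (hZD : Z ≤ D) (g : G) (hD : ∀ d ∈ D, d * g = g * d) (lam : ↥Z →* ℂˣ) {n : ℕ}
    (ρ : Representation ℂ G (Fin n → ℂ)) (hZ : ∀ z : ↥Z, ρ z = (lam z : ℂ) • LinearMap.id)
    (hg : ¬ Cfsg.MemLocalIdeal M (ρ.character g)) :
    ∃ μ : ↥D →* ℂˣ, ∀ z : ↥Z, μ ⟨(z : G), hZD z.2⟩ = lam z := by
  classical
  obtain ⟨b, c, hb⟩ := exists_eigenbasis ρ g
  -- an eigenvalue of multiplicity prime to `p`
  have htr : ρ.character g = ∑ i, c i := by
    rw [Representation.character, LinearMap.trace_eq_matrix_trace ℂ b, Matrix.trace]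
    refine Finset.sum_congr rfl fun i _ => ?_
    rw [Matrix.diag, LinearMap.toMatrix_apply, (hb i).1]
    simp
  obtain ⟨a, ha⟩ : ∃ a : ℂ, ¬ p ∣ (Finset.univ.filter fun i => c i = a).card := by
    by_contra hall
    push Not at hall
    apply hg
    rw [htr, ← Finset.sum_fiberwise_of_maps_to (g := c) (t := Finset.univ.image c)
      (fun i _ => Finset.mem_image_of_mem c (Finset.mem_univ i))]
    refine CfsgLib.Blocks.memLocalIdeal_sum _ fun a ha => ?_
    obtain ⟨i, -, rfl⟩ := Finset.mem_image.1 ha
    rw [Finset.sum_congr rfl fun j hj => (Finset.mem_filter.1 hj).2, Finset.sum_const, nsmul_eq_mul]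
    refine CfsgLib.Blocks.memLocalIdeal_mul_right ?_ (CfsgLib.Blocks.memLocalRing_of_isIntegral
      (IsIntegral.of_pow (orderOf_pos g) (by rw [(hb i).2]; exact isIntegral_one)))
    exact (CfsgLib.Blocks.memLocalIdeal_natCast_iff hM _).2 (hall (c i))
  -- the eigenspace and its dimension
  set E := Module.End.eigenspace (ρ g) a with hE
  have hEspan : E = Submodule.span ℂ (Set.range fun i : {i // c i = a} => b i) := by
    refine le_antisymm (fun x hx => ?_) (Submodule.span_le.2 ?_)
    · rw [hE, Module.End.mem_eigenspace_iff] at hx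
      rw [← b.sum_repr x]
      refine Submodule.sum_mem _ fun i _ => ?_
      by_cases hi : c i = a
      · exact Submodule.smul_mem _ _ (Submodule.subset_span ⟨⟨i, hi⟩, rfl⟩)
      · have h1 : ρ g x = ∑ j, (b.repr x j * c j) • b j := by
          calc ρ g x = ρ g (∑ j, b.repr x j • b j) := by rw [b.sum_repr]
            _ = _ := by
              rw [map_sum]
              exact Finset.sum_congr rfl fun j _ => by rw [map_smul, (hb j).1, smul_smul]
        have h2 : b.repr (ρ g x) i = b.repr x i * c i := by rw [h1, b.repr_sum_self]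
        rw [hx, map_smul, Finsupp.smul_apply, smul_eq_mul] at h2
        have h3 : b.repr x i = 0 := by
          have h4 : (a - c i) * b.repr x i = 0 := by rw [sub_mul, h2]; ring
          exact (mul_eq_zero.1 h4).resolve_left (sub_ne_zero.2 fun h => hi h.symm)
        simp [h3]
    · rintro _ ⟨⟨i, hi⟩, rfl⟩
      rw [SetLike.mem_coe, hE, Module.End.mem_eigenspace_iff, (hb i).1, hi]
  have hdim : Module.finrank ℂ E = (Finset.univ.filter fun i => c i = a).card := by
    rw [hEspan, finrank_span_eq_card (b := fun i : {i // c i = a} => b i)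
      (b.linearIndependent.comp _ Subtype.val_injective), Fintype.card_subtype]
  -- the determinant of `D` on the eigenspace
  have hinv : ∀ d : ↥D, ∀ x ∈ E, ρ (d : G) x ∈ E := by
    intro d x hx
    rw [hE, Module.End.mem_eigenspace_iff] at hx ⊢
    rw [← Module.End.mul_apply, ← map_mul, ← hD d d.2, map_mul, Module.End.mul_apply, hx, map_smul]
  let σ : ↥D →* Module.End ℂ E :=
    { toFun := fun d => (ρ (d : G)).restrict (hinv d)
      map_one' := by ext x : 2; simp [LinearMap.restrict_apply]
      map_mul' := fun d e => by ext x : 2; simp [LinearMap.restrict_apply, map_mul] }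
  let δ : ↥D →* ℂˣ := ((LinearMap.det (M := E) (A := ℂ)).comp σ).toHomUnits
  have hδ : ∀ z : ↥Z, δ ⟨(z : G), hZD z.2⟩ = lam z ^ Module.finrank ℂ E := by
    intro z
    apply Units.ext
    have hσ : σ ⟨(z : G), hZD z.2⟩ = (lam z : ℂ) • LinearMap.id := by
      ext x : 2
      simp [σ, LinearMap.restrict_apply, hZ z]
    show LinearMap.det (σ ⟨(z : G), hZD z.2⟩) = _
    rw [hσ, LinearMap.det_smul, LinearMap.det_id, mul_one, Units.val_pow_eq_pow_val]
  -- invert the multiplicity on `Z`
  rw [hdim] at hδ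
  set m := (Finset.univ.filter fun i => c i = a).card
  obtain ⟨e, he⟩ := hZp.exists_card_eq
  have hcop : m.Coprime (Nat.card Z) := by
    rw [he]
    exact Nat.Coprime.pow_right _ ((Fact.out : p.Prime).coprime_iff_not_dvd.2 ha).symm
  obtain ⟨j, hj1, hj2⟩ := Nat.chineseRemainder hcop 0 1
  obtain ⟨t, ht⟩ := Nat.modEq_zero_iff_dvd.1 hj1
  refine ⟨δ ^ t, fun z => ?_⟩
  rw [MonoidHom.pow_apply, hδ, ← pow_mul, ← ht]
  have h2 : z ^ j = z ^ 1 := pow_eq_pow_iff_modEq.2 (hj2.of_dvd (orderOf_dvd_natCard z))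
  rw [← map_pow, h2, pow_one]


/-- Let p be a prime, G a finite group and B a p-block of G (relative to a maximal ideal M of the algebraic integers containing p) with defect group D. Let Z be a central p-subgroup of G contained in D and λ a linear character of Z (a homomorphism to the nonzero complex numbers). Say an irreducible character χ of G lies over λ when χ(z) = χ(1)λ(z) for all z ∈ Z. If some irreducible character in B lying over λ has height zero, then λ extends to a linear character of D. -/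
theorem result {G : Type*} [Group G] [Finite G] (p : ℕ) [Fact p.Prime] (M : Ideal Cfsg.AlgInt) (hM : Cfsg.IsPModular p M) (B : Set (Cfsg.IrrCharacter G)) (hB : Cfsg.IsPBlock M B) (D : Subgroup G) (hD : Cfsg.IsDefectGroup p M B D) (Z : Subgroup G) (hZc : Z ≤ Subgroup.center G) (hZp : IsPGroup p ↥Z) (hZD : Z ≤ D) (lam : ↥Z →* ℂˣ) (χ : Cfsg.IrrCharacter G) (hχ : χ ∈ B) (hover : (∀ z : ↥Z, (χ : G → ℂ) z = (χ : G → ℂ) 1 * (lam z : ℂ))) (h0 : Cfsg.blockHeight p B (χ : G → ℂ) = 0) : (∃ μ : ↥D →* ℂˣ, ∀ z : ↥Z, μ ⟨(z : G), hZD z.2⟩ = lam z) := by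
  classical
  have := Fintype.ofFinite G
  have := CfsgLib.Blocks.IsPModular.isPrime hM
  obtain ⟨g, hg, hS⟩ := CfsgLib.Blocks.isDefectGroup_iff.1 hD
  have hu := CfsgLib.Blocks.not_memLocalIdeal_of_height_zero hM hB hg hχ h0
  obtain ⟨n, ρ, hρ, hρχ⟩ := χ.2
  rw [← hρχ] at hu
  refine exists_extension hM D Z hZp hZD g (fun d hd => ?_) lam ρ (fun z => ?_) hu
  · exact Subgroup.mem_centralizer_singleton_iff.1 (hS.1 hd)
  · have hz := hover z
    rw [← hρχ, Representation.char_one] at hz
    have hl : (lam z : ℂ) ^ Nat.card ↥Z = 1 := by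
      rw [← Units.val_pow_eq_pow_val, ← map_pow, pow_card_eq_one', map_one, Units.val_one]
    obtain ⟨w, hw, hw'⟩ := CfsgLib.Characters.exists_scalar_of_norm_char_eq ρ (z : G) (by
      rw [hz, norm_mul, Complex.norm_natCast,
        Complex.norm_eq_one_of_pow_eq_one hl Nat.card_pos.ne', mul_one])
    have := CfsgLib.Characters.nontrivial_of_isIrreducible ρ
    rw [hw]
    congr 1
    rw [hz, mul_comm] at hw'
    exact (mul_right_cancel₀ (Nat.cast_ne_zero.2 Module.finrank_pos.ne') hw').symm

end Cfsg.Agent.S5001
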