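import Cfsg.Statements.S5011
-- import your own Cfsg.Agent.* helpers here

set_option autoImplicit false
open Cfsg

namespace Cfsg.Agent.S5011

/-- Let G be a finite non-abelian simple group and ρ an irreducible complex representation of G on a space of dimension greater than one (irreducible in the sense that the only subspaces invariant under every ρ(x) are 0 and the whole space). Then for every non-identity element g of G, the centralizer of g does not act irreducibly: there is a non-zero proper subspace invariant under ρ(c) for every c commuting with g. -/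
theorem result {G : Type*} [Group G] [Finite G] [IsSimpleGroup G]
    (hG : ¬ IsMulCommutative G) {V : Type*} [AddCommGroup V] [Module ℂ V] [FiniteDimensional ℂ V]
    (ρ : Representation ℂ G V)
    (hirr : ∀ W : Submodule ℂ V, (∀ x : G, ∀ v ∈ W, ρ x v ∈ W) → W = ⊥ ∨ W = ⊤)
    (hdim : 1 < Module.finrank ℂ V) (g : G) (hg : g ≠ 1) :
    ∃ W : Submodule ℂ V, W ≠ ⊥ ∧ W ≠ ⊤ ∧ ∀ c ∈ Subgroup.centralizer ({g} : Set G), ∀ v ∈ W, ρ c v ∈ W := by
  classical
  by_contra hcon
  push_neg at hcon
  have : Nontrivial V := Module.nontrivial_of_finrank_pos (R := ℂ) (by omega)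
  obtain ⟨μ, hμ⟩ := Module.End.exists_eigenvalue (ρ g)
  have hEinv : ∀ c ∈ Subgroup.centralizer ({g} : Set G),
      ∀ v ∈ Module.End.eigenspace (ρ g) μ, ρ c v ∈ Module.End.eigenspace (ρ g) μ := by
    intro c hc v hv
    rw [Module.End.mem_eigenspace_iff] at hv ⊢
    have h : g * c = c * g := Subgroup.mem_centralizer_singleton_iff.1 hc |> (fun h => by simpa [eq_comm] using h)
    calc ρ g (ρ c v) = ρ (g * c) v := by simp [map_mul]
      _ = ρ c (ρ g v) := by simp [h, map_mul]
      _ = μ • ρ c v := by simp [hv]
  have hEtop : Module.End.eigenspace (ρ g) μ = ⊤ := by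
    by_contra hne
    obtain ⟨c, hc, v, hv, hv'⟩ := hcon _ hμ hne
    exact hv' (hEinv c hc v hv)
  have hscal : ∀ v, ρ g v = μ • v := fun v =>
    Module.End.mem_eigenspace_iff.1 (hEtop ▸ Submodule.mem_top)
  have hinj : Function.Injective ρ := by
    rw [← MonoidHom.ker_eq_bot_iff]
    refine (IsSimpleGroup.eq_bot_or_eq_top_of_normal _ inferInstance).resolve_right fun htop => ?_
    have htriv : ∀ x v, ρ x v = v := by
      intro x v
      have : x ∈ (MonoidHom.ker ρ) := htop ▸ Subgroup.mem_top x
      rw [MonoidHom.mem_ker] at this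
      simp [this]
    obtain ⟨v, hv⟩ := exists_ne (0 : V)
    rcases hirr (Submodule.span ℂ {v}) (fun x w hw => by rw [htriv]; exact hw) with h | h
    · exact hv (by simpa using h)
    · have h1 := finrank_span_singleton (K := ℂ) hv
      rw [h, finrank_top] at h1
      omega
  have hcent : g ∈ Subgroup.center G := by
    rw [Subgroup.mem_center_iff]
    intro x
    apply hinj
    ext v
    simp [map_mul, hscal]
  rcases IsSimpleGroup.eq_bot_or_eq_top_of_normal (Subgroup.center G) inferInstance with h | h
  · exact hg (Subgroup.mem_bot.1 (h ▸ hcent))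
  · exact hG ⟨⟨fun a b => (Subgroup.mem_center_iff.1 (h ▸ Subgroup.mem_top b)) a⟩⟩

end Cfsg.Agent.S5011
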