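import Cfsg.Statements.S5015
import Cfsg.Agent.RootSubgroups.Basic

set_option autoImplicit false
open Cfsg

namespace Cfsg.Agent.S5015

/-- Let a group Y act doubly transitively on a set Ω with at least three points, and suppose that the stabilizer of a point α contains a nilpotent subgroup A, normalized by that stabilizer, which acts regularly on the points other than α. Then for any y in Y moving α, the subgroups A and y A y⁻¹ are the unipotent subgroups of a rank one group, and the normal closure of A in Y (the subgroup generated by all conjugates of A) is generated by A and y A y⁻¹ alone. -/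
theorem result {Y Ω : Type*} [Group Y] [MulAction Y Ω]
    (h2 : MulAction.IsMultiplyPretransitive Y Ω 2) (hΩ : 3 ≤ ENat.card Ω) (α : Ω) (A : Subgroup Y)
    (hA : A ≤ MulAction.stabilizer Y α) (hAn : ∀ y ∈ MulAction.stabilizer Y α, Cfsg.conjBy A y = A)
    (hnil : Group.IsNilpotent A) (hreg : ∀ β γ : Ω, β ≠ α → γ ≠ α → ∃! a : Y, a ∈ A ∧ a • β = γ)
    (y : Y) (hy : y ∉ MulAction.stabilizer Y α) :
    Cfsg.IsRankOnePair A (Cfsg.conjBy A y) ∧ Subgroup.normalClosure (A : Set Y) = A ⊔ Cfsg.conjBy A y := by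
  open CfsgLib.RootSubgroups in
  have hAfix : ∀ a ∈ A, a • α = α := fun a ha => MulAction.mem_stabilizer_iff.mp (hA ha)
  open CfsgLib.RootSubgroups in
  have hconj : ∀ g g' : Y, g • α = g' • α → conjBy A g = conjBy A g' := by
    intro g g' he
    have h1 : g'⁻¹ * g ∈ MulAction.stabilizer Y α := by
      rw [MulAction.mem_stabilizer_iff, mul_smul, he, inv_smul_smul]
    calc conjBy A g = conjBy (conjBy A (g'⁻¹ * g)) g' := by
          rw [conjBy_conjBy, mul_inv_cancel_left]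
      _ = conjBy A g' := by rw [hAn _ h1]
  have hne : y • α ≠ α := fun h => hy (MulAction.mem_stabilizer_iff.mpr h)
  have hthird : ∃ γ : Ω, γ ≠ α ∧ γ ≠ y • α := by
    by_contra hc
    push Not at hc
    have : (Set.univ : Set Ω) ⊆ {α, y • α} := fun γ _ => by
      by_cases h : γ = α
      · exact Or.inl h
      · exact Or.inr (hc γ h)
    have h3 := Set.encard_le_encard this
    rw [Set.encard_univ, Set.encard_pair (Ne.symm hne)] at h3
    exact absurd (hΩ.trans h3) (by decide)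
  -- the regular subgroup at the point `y • α`
  have hBmem : ∀ b : Y, b ∈ Cfsg.conjBy A y → b • y • α = y • α := by
    intro b hb
    rw [CfsgLib.RootSubgroups.mem_conjBy] at hb
    have := congrArg (y • ·) (hAfix _ hb)
    simpa [mul_smul] using this
  have hBreg : ∀ β γ : Ω, β ≠ y • α → γ ≠ y • α → ∃ b ∈ Cfsg.conjBy A y, b • β = γ := by
    intro β γ hβ hγ
    obtain ⟨a, ⟨ha, hae⟩, -⟩ := hreg (y⁻¹ • β) (y⁻¹ • γ)
      (fun h => hβ (inv_smul_eq_iff.mp h)) (fun h => hγ (inv_smul_eq_iff.mp h))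
    exact ⟨y * a * y⁻¹, CfsgLib.RootSubgroups.conj_mem_conjBy ha y,
      by rw [mul_smul, mul_smul, hae, smul_inv_smul]⟩
  have hsemireg : ∀ a ∈ A, ∀ β : Ω, β ≠ α → a • β = β → a = 1 := fun a ha β hβ he =>
    (hreg β β hβ hβ).unique ⟨ha, he⟩ ⟨one_mem _, one_smul _ _⟩
  have hnemove : ∀ a ∈ A, a ≠ 1 → a⁻¹ • y • α ≠ y • α ∧ a⁻¹ • y • α ≠ α := fun a ha ha1 =>
    ⟨fun h => ha1 (inv_eq_one.mp (hsemireg _ (inv_mem ha) _ hne h)),
      fun h => hne (by rw [inv_smul_eq_iff.mp h, hAfix a ha])⟩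
  refine ⟨⟨?_, hnil, ?_, ?_, ?_⟩, ?_⟩
  · intro he
    obtain ⟨γ, hγ, hγ'⟩ := hthird
    obtain ⟨a, ⟨ha, hae⟩, -⟩ := hreg (y • α) γ hne hγ
    exact hγ' (hae.symm.trans (hBmem a (he ▸ ha)))
  · exact Group.nilpotent_of_mulEquiv (A.equivMapOfInjective _ (MulAut.conj y).injective)
  · intro a ha ha1
    obtain ⟨h1, h2⟩ := hnemove a ha ha1
    obtain ⟨b, hb, hbe⟩ := hBreg _ _ h1 hne.symm
    refine ⟨b, hb, fun hb1 => h2 (by simpa [hb1] using hbe), ?_⟩
    rw [CfsgLib.RootSubgroups.conjBy_conjBy]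
    refine hconj _ _ ?_
    rw [inv_smul_eq_iff, mul_smul, hbe]
  · intro b hb hb1
    have hb' := (CfsgLib.RootSubgroups.mem_conjBy).mp hb
    have hb'1 : y⁻¹ * b * y ≠ 1 := fun h => hb1 (by
      simpa [mul_assoc] using congrArg (fun z => y * z * y⁻¹) h)
    have h1 : b⁻¹ • α ≠ α := fun h => by
      have h2 : (y⁻¹ * b * y) • (y⁻¹ • α) = y⁻¹ • α := by
        rw [mul_smul, mul_smul, smul_inv_smul]
        exact congrArg (y⁻¹ • ·) (inv_smul_eq_iff.mp h).symm
      exact hb'1 (hsemireg _ hb' _ (fun he => hne (inv_smul_eq_iff.mp he).symm) h2)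
    have h2 : b⁻¹ • α ≠ y • α := fun h =>
      hne ((inv_smul_eq_iff.mp h).trans (hBmem b hb)).symm
    obtain ⟨a, ⟨ha, hae⟩, -⟩ := hreg (b⁻¹ • α) (y • α) h1 hne
    refine ⟨a, ha, fun ha1 => h2 (by simpa [ha1] using hae), ?_⟩
    rw [CfsgLib.RootSubgroups.conjBy_conjBy]
    refine hconj _ _ ?_
    rw [mul_smul, inv_smul_eq_iff, hae]
  · refine le_antisymm ?_ ?_
    · rw [Subgroup.normalClosure]
      refine (Subgroup.closure_le _).mpr fun z hz => ?_
      rw [Group.mem_conjugatesOfSet_iff] at hz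
      obtain ⟨a, ha, hconjz⟩ := hz
      obtain ⟨g, rfl⟩ := isConj_iff.mp hconjz
      have key : ∃ x ∈ A ⊔ Cfsg.conjBy A y, x • α = g • α := by
        by_cases hg : g • α = α
        · exact ⟨1, one_mem _, by rw [one_smul, hg]⟩
        · obtain ⟨a₁, ⟨ha₁, hae⟩, -⟩ := hreg (y • α) (g • α) hne hg
          obtain ⟨γ, hγ, hγ'⟩ := hthird
          obtain ⟨a₂, ⟨ha₂, hae₂⟩, -⟩ := hreg γ (y • α) hγ hne
          obtain ⟨b, hb, hbe⟩ := hBreg α γ hne.symm hγ'
          refine ⟨a₁ * a₂ * b, mul_mem (mul_mem ((le_sup_left : A ≤ A ⊔ Cfsg.conjBy A y) ha₁)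
            ((le_sup_left : A ≤ A ⊔ Cfsg.conjBy A y) ha₂))
            ((le_sup_right : Cfsg.conjBy A y ≤ A ⊔ Cfsg.conjBy A y) hb), ?_⟩
          rw [mul_smul, mul_smul, hbe, hae₂, hae]
      obtain ⟨x, hx, hxe⟩ := key
      have h3 : g * a * g⁻¹ ∈ Cfsg.conjBy A x := by
        rw [hconj x g hxe]; exact CfsgLib.RootSubgroups.conj_mem_conjBy ha g
      rw [CfsgLib.RootSubgroups.mem_conjBy] at h3
      have h4 := mul_mem (mul_mem hx ((le_sup_left : A ≤ A ⊔ Cfsg.conjBy A y) h3)) (inv_mem hx)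
      simpa [mul_assoc] using h4
    · refine sup_le Subgroup.subset_normalClosure fun z hz => ?_
      rw [CfsgLib.RootSubgroups.mem_conjBy] at hz
      have := Subgroup.normalClosure_normal.conj_mem _ (Subgroup.subset_normalClosure (s := (A : Set Y)) hz) y
      simpa [mul_assoc] using this

end Cfsg.Agent.S5015
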