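import Cfsg.Statements.S5023
import Cfsg.Agent.RootSubgroups.Quadratic

set_option autoImplicit false
open Cfsg

namespace Cfsg.Agent.S5023

/-- Let X be a rank one group with unipotent subgroups A and B that acts faithfully on an abelian group V (written additively) with A acting quadratically: a' • (a • v − v) = a • v − v for all a, a' in A and v in V. Then A is either torsion-free or an elementary abelian p-group for some prime p. -/
theorem result {X : Type*} [Group X] {A B : Subgroup X} (h : Cfsg.IsRankOneGroup X A B)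
    {V : Type*} [AddCommGroup V] [DistribMulAction X V] (hf : ∀ x : X, (∀ v : V, x • v = v) → x = 1)
    (hq : ∀ a ∈ A, ∀ a' ∈ A, ∀ v : V, a' • (a • v - v) = a • v - v) :
    (∀ a ∈ A, a ≠ 1 → ¬ IsOfFinOrder a) ∨ ∃ p : ℕ, p.Prime ∧ Cfsg.IsElementaryAbelian p A := by
  open CfsgLib.RootSubgroups in
  have hq' : IsQuadOn V A := hq
  have hcomm : ∀ a ∈ A, ∀ a' ∈ A, a * a' = a' * a := by
    intro a ha a' ha'
    have key : ∀ v : V, a • a' • v = a' • a • v := by
      intro v
      have e1 := hq a' ha' a ha v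
      have e2 := hq a ha a' ha' v
      rw [smul_sub] at e1 e2
      have h1 : a • a' • v = (a' • v - v) + a • v := by rw [← e1]; abel
      have h2 : a' • a • v = (a • v - v) + a' • v := by rw [← e2]; abel
      rw [h1, h2]; abel
    refine mul_inv_eq_one.mp (hf _ fun v => ?_)
    rw [mul_inv_rev, mul_smul, mul_smul a, key]
    simp [mul_smul]
  by_cases htor : ∀ a ∈ A, a ≠ 1 → ¬ IsOfFinOrder a
  · exact Or.inl htor
  right
  push Not at htor
  obtain ⟨a₀, ha₀, ha₀1, hfin⟩ := htor
  obtain ⟨p, hp, hpdvd⟩ := Nat.exists_prime_and_dvd (n := orderOf a₀) (by simpa using ha₀1)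
  haveI := Fact.mk hp
  obtain ⟨a, ha, hap, ha1⟩ : ∃ a ∈ A, a ^ p = 1 ∧ a ≠ 1 := by
    refine ⟨a₀ ^ (orderOf a₀ / p), pow_mem ha₀ _, ?_, ?_⟩
    · rw [← pow_mul, Nat.div_mul_cancel hpdvd, pow_orderOf_eq_one]
    · intro hc
      have h1 := Nat.le_of_dvd (Nat.div_pos (Nat.le_of_dvd hfin.orderOf_pos hpdvd) hp.pos)
        (orderOf_dvd_of_pow_eq_one hc)
      have h2 := Nat.div_lt_self hfin.orderOf_pos hp.one_lt
      omega
  open CfsgLib.RootSubgroups in
  have hnq : ∃ x y : X, ∃ v : V, y • (x • v - v) ≠ x • v - v := by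
    by_contra hc
    push Not at hc
    have hab : ∀ x y : X, x * y = y * x := by
      intro x y
      refine mul_inv_eq_one.mp (hf _ fun v => ?_)
      have key : ∀ w : V, x • y • w = y • x • w := by
        intro w
        have e1 := hc y x w
        have e2 := hc x y w
        rw [smul_sub] at e1 e2
        have h1 : x • y • w = (y • w - w) + x • w := by rw [← e1]; abel
        have h2 : y • x • w = (x • w - w) + y • w := by rw [← e2]; abel
        rw [h1, h2]; abel
      rw [mul_inv_rev, mul_smul, mul_smul x, key]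
      simp [mul_smul]
    exact center_ne_top h (eq_top_iff.mpr fun x _ => Subgroup.mem_center_iff.mpr fun y => hab y x)
  obtain ⟨b, hb, -, he⟩ := h.2.cond_left a ha ha1
  open CfsgLib.RootSubgroups in
  obtain ⟨r1, r2⟩ := partner_relations h hq' ha hb he
  have hzero : ∀ v : V, p • (a • v - v) = 0 := fun v => by
    rw [← CfsgLib.RootSubgroups.quad_pow hq' ha p v, hap, one_smul, sub_self]
  open CfsgLib.RootSubgroups in
  have hpW : ∀ w ∈ movedPart V A ⊔ movedPart V B, p • w ∈ fixedPart X V := by
    intro w hw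
    obtain ⟨m, hm, q, hq₁, rfl⟩ := AddSubgroup.mem_sup.mp hw
    rw [smul_add]
    refine add_mem ?_ ?_
    · have := AddSubgroup.nsmul_mem _ (r1 m hm) p
      rwa [smul_add, hzero, zero_add] at this
    · have := AddSubgroup.nsmul_mem _ (r2 q hq₁) p
      rwa [smul_add, smul_sub, ← smul_comm b⁻¹ p, hzero, smul_zero, sub_self, zero_add] at this
  refine ⟨p, hp, ⟨⟨fun x y => Subtype.ext (hcomm x x.2 y y.2)⟩⟩, fun c hc => ?_⟩
  open CfsgLib.RootSubgroups in
  have hcen : c ^ p ∈ Subgroup.center X := by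
    refine trivModFixed_le_center h hq' hnq fun w hw => ?_
    rw [quad_pow hq' hc p w]
    exact hpW _ (smul_sub_mem_moved h c w)
  exact CfsgLib.RootSubgroups.eq_one_of_fix h.2 (pow_mem hc p)
    (CfsgLib.RootSubgroups.conjBy_eq_of_commute fun x _ => (Subgroup.mem_center_iff.mp hcen x).symm)

end Cfsg.Agent.S5023
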