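import Cfsg.Statements.S5026
import Cfsg.Agent.RootSubgroups.RootSet

set_option autoImplicit false
open Cfsg

namespace Cfsg.Agent.S5026

/-- Let S be a degenerate set of abstract root subgroups of G (a set of abstract transvection groups) and let a, b be commuting non-identity elements of members of S with a b ≠ 1. Then the members of S centralizing a b are exactly those centralizing both a and b. -/
theorem result {G : Type*} [Group G] {S : Set (Subgroup G)} (hS : Cfsg.IsRootSubgroupSet S) (hdeg : Cfsg.IsDegenerateRootSet S)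
    {a b : G} (ha : a ∈ Cfsg.rootElements S) (hb : b ∈ Cfsg.rootElements S) (hab : a * b = b * a) (hab1 : a * b ≠ 1) :
    Cfsg.centralizingMembers S (Subgroup.zpowers (a * b)) =
      Cfsg.centralizingMembers S (Subgroup.zpowers a) ∩ Cfsg.centralizingMembers S (Subgroup.zpowers b) := by
  open CfsgLib.RootSubgroups in
  refine Set.ext fun E => ⟨fun hE => ?_, fun hE => ?_⟩
  · obtain ⟨ha1, A, hA, haA⟩ := ha
    obtain ⟨hb1, B, hB, hbB⟩ := hb
    obtain ⟨hES, hEc⟩ := hE
    have hcab : ∀ e ∈ E, a * b * e = e * (a * b) := fun e he =>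
      Subgroup.mem_centralizer_iff.mp (hEc he) _ (Subgroup.mem_zpowers _)
    -- from one of the two to both
    have conclude : (∀ e ∈ E, a * e = e * a) → (∀ e ∈ E, b * e = e * b) := fun h e he => by
      have h1 := hcab e he
      rw [mul_assoc, ← mul_assoc e a b, ← h e he, mul_assoc] at h1
      exact mul_left_cancel h1
    have conclude' : (∀ e ∈ E, b * e = e * b) → (∀ e ∈ E, a * e = e * a) := fun h e he => by
      have h1 := hcab e he
      rw [mul_assoc, h e he, ← mul_assoc, ← mul_assoc] at h1
      exact mul_right_cancel h1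
    suffices hh : (∀ e ∈ E, a * e = e * a) ∧ (∀ e ∈ E, b * e = e * b) by
      refine ⟨⟨hES, fun e he => ?_⟩, ⟨hES, fun e he => ?_⟩⟩ <;>
        refine Subgroup.mem_centralizer_iff.mpr fun y hy => ?_ <;>
        obtain ⟨n, rfl⟩ := Subgroup.mem_zpowers_iff.mp hy
      · exact ((show Commute a e from hh.1 e he).zpow_left n).eq
      · exact ((show Commute b e from hh.2 e he).zpow_left n).eq
    open CfsgLib.RootSubgroups in
    rcases trichotomy hS hA hES with h1 | h1 | h1
    · exact ⟨h1 a haA, conclude (h1 a haA)⟩
    · open CfsgLib.RootSubgroups in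
      rcases trichotomy hS hB hES with h2 | h2 | h2
      · exact ⟨conclude' (h2 b hbB), h2 b hbB⟩
      · exfalso
        obtain ⟨e₁, he₁, -, heq₁⟩ := h1.cond_left a haA ha1
        obtain ⟨e₂, he₂, -, heq₂⟩ := h2.cond_left b⁻¹ (inv_mem hbB) (inv_ne_one.mpr hb1)
        rw [inv_inv] at heq₂
        open CfsgLib.RootSubgroups in
        have hfix : conjBy E (a * b) = E := conjBy_eq_of_commute hcab
        open CfsgLib.RootSubgroups in
        have hEE : conjBy E b = conjBy E a⁻¹ := by
          have := congrArg (fun C => conjBy C a⁻¹) hfix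
          simpa [conjBy_conjBy] using this
        rw [← heq₁, ← heq₂] at hEE
        open CfsgLib.RootSubgroups in
        have hBu : B ∈ unipotentSubgroups A E := by
          rw [← conjBy_conjBy_inv B e₂, hEE]
          exact unip_conj_mem (unip_conj_mem (unip_left_mem A E)
            ((le_sup_right : E ≤ A ⊔ E) (inv_mem he₁))) ((le_sup_right : E ≤ A ⊔ E) he₂)
        by_cases hAB : A = B
        · subst hAB
          exact hab1 (CfsgLib.RootSubgroups.eq_one_of_fix h1 (mul_mem haA hbB) hfix)
        · exact ha1 (CfsgLib.RootSubgroups.eq_one_of_commute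
            (CfsgLib.RootSubgroups.pair_of_unip h1 (CfsgLib.RootSubgroups.unip_left_mem A E) hBu hAB).1
            haA hbB hb1 hab)
      · exact absurd h2 (hdeg B hB E hES)
    · exact absurd h1 (hdeg A hA E hES)
  · obtain ⟨⟨hES, h1⟩, ⟨-, h2⟩⟩ := hE
    refine ⟨hES, fun e he => Subgroup.mem_centralizer_iff.mpr fun y hy => ?_⟩
    obtain ⟨n, rfl⟩ := Subgroup.mem_zpowers_iff.mp hy
    have hae : Commute a e := Subgroup.mem_centralizer_iff.mp (h1 he) a (Subgroup.mem_zpowers a)
    have hbe : Commute b e := Subgroup.mem_centralizer_iff.mp (h2 he) b (Subgroup.mem_zpowers b)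
    exact ((hae.mul_left hbe).zpow_left n).eq

end Cfsg.Agent.S5026
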