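import Cfsg.Statements.S5027
import Cfsg.Agent.RootSubgroups.RootSet

set_option autoImplicit false
open Cfsg

namespace Cfsg.Agent.S5027

/-- Let S be a set of abstract root subgroups of G such that every member of S has a rank one partner in S (the graph of rank one pairs on S has no isolated vertex). Then the second centre of G equals its centre. -/
theorem result {G : Type*} [Group G] {S : Set (Subgroup G)} (hS : Cfsg.IsRootSubgroupSet S)
    (hF : ∀ A ∈ S, ¬ Cfsg.IsIsolatedIn (Cfsg.FAdj S) S A) : Subgroup.upperCentralSeries G 2 = Subgroup.center G := by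
  refine le_antisymm (fun x hx => ?_) ?_
  · have hgen : (⊤ : Subgroup G) ≤ Subgroup.centralizer ({x} : Set G) := by
      rw [← hS.generates]
      refine iSup₂_le fun A hA a ha => ?_
      rw [Subgroup.mem_centralizer_singleton_iff]
      by_cases ha1 : a = 1
      · simp [ha1]
      obtain ⟨B, hB, hr⟩ := CfsgLib.RootSubgroups.partner_of_not_isolated (hF A hA) hA
      have hz : x * a * x⁻¹ * a⁻¹ ∈ Subgroup.center G := by
        rw [← Subgroup.upperCentralSeries_one]
        exact Subgroup.mem_upperCentralSeries_succ_iff.mp hx a
      have hm : x * a * x⁻¹ * a⁻¹ * a ∈ Cfsg.conjBy A x := by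
        rw [inv_mul_cancel_right]; exact CfsgLib.RootSubgroups.conj_mem_conjBy ha x
      have := (CfsgLib.RootSubgroups.eq_of_mul_mem hS hA hB hr
        (fun y _ => (Subgroup.mem_center_iff.mp hz y).symm)
        (fun y _ => (Subgroup.mem_center_iff.mp hz y).symm) ha ha1 (hS.conj_mem A hA x) hm).2
      rw [mul_inv_eq_one, mul_inv_eq_iff_eq_mul] at this
      exact this.symm
    exact Subgroup.mem_center_iff.mpr fun g =>
      Subgroup.mem_centralizer_singleton_iff.mp (hgen (Subgroup.mem_top g))
  · rw [← Subgroup.upperCentralSeries_one]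
    exact Subgroup.upperCentralSeries_mono G (by norm_num)

end Cfsg.Agent.S5027
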