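import Cfsg.Statements.S5032
import Cfsg.Agent.RootSubgroups.RootGraph

set_option autoImplicit false
open Cfsg

namespace Cfsg.Agent.S5032

/-- Let S be a set of abstract root subgroups of G with more than one member. Then the graph of rank one pairs on S is connected if and only if S is a single conjugacy class of G and some member of S has a rank one partner in S. -/
theorem result {G : Type*} [Group G] {S : Set (Subgroup G)} (hS : Cfsg.IsRootSubgroupSet S) (h2 : ∃ A ∈ S, ∃ B ∈ S, A ≠ B) :
    Cfsg.IsConnectedFamily (Cfsg.FAdj S) S ↔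
      (Cfsg.IsConjClassOfSubgroups S ∧ ∃ A ∈ S, ¬ Cfsg.IsIsolatedIn (Cfsg.FAdj S) S A) := by
  constructor
  · intro hc
    obtain ⟨A, hA, B, hB, hne⟩ := h2
    refine ⟨CfsgLib.RootSubgroups.class_of_connected hS ⟨A, hA⟩ hc, A, hA, fun hiso => ?_⟩
    obtain ⟨D, hD, hr⟩ := CfsgLib.RootSubgroups.partner_of_reach_ne (hc A hA B hB) hne.symm
    exact (hiso.2 D).1 ⟨hA, hD, hr⟩
  · rintro ⟨hcl, A, hA, hiso⟩
    exact CfsgLib.RootSubgroups.connected_of_class hS hcl
      ⟨A, hA, CfsgLib.RootSubgroups.partner_of_not_isolated hiso hA⟩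

end Cfsg.Agent.S5032
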