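import Cfsg.Statements.S5035
import Cfsg.Agent.RootSubgroups.RootGraph

set_option autoImplicit false
open Cfsg

namespace Cfsg.Agent.S5035

/-- Let S be a set of abstract root subgroups of G whose graph of rank one pairs is connected, and f a homomorphism from G onto a group H. Then either the images of the members of S form a set of abstract root subgroups of H whose graph of rank one pairs is again connected, or H equals the image of a member of S. -/
theorem result {G H : Type*} [Group G] [Group H] {S : Set (Subgroup G)} (hS : Cfsg.IsRootSubgroupSet S)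
    (hc : Cfsg.IsConnectedFamily (Cfsg.FAdj S) S) (f : G →* H) (hf : Function.Surjective f) :
    (Cfsg.IsRootSubgroupSet ((fun A : Subgroup G => A.map f) '' S) ∧
      Cfsg.IsConnectedFamily (Cfsg.FAdj ((fun A : Subgroup G => A.map f) '' S)) ((fun A : Subgroup G => A.map f) '' S)) ∨
    ∃ A ∈ S, A.map f = ⊤ := by
  by_cases htriv : ∃ A ∈ S, A.map f = ⊥
  · right
    obtain ⟨A, hA, hAf⟩ := htriv
    refine ⟨A, hA, ?_⟩
    obtain ⟨-, hconj⟩ := CfsgLib.RootSubgroups.class_of_connected hS ⟨A, hA⟩ hc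
    have hall : ∀ B ∈ S, B.map f = ⊥ := fun B hB => by
      obtain ⟨g, rfl⟩ := hconj A hA B hB
      rw [Subgroup.eq_bot_iff_forall]
      rintro _ ⟨x, hx, rfl⟩
      rw [SetLike.mem_coe, CfsgLib.RootSubgroups.mem_conjBy] at hx
      have h1 : f (g⁻¹ * x * g) = 1 := by
        rw [← Subgroup.mem_bot, ← hAf]; exact Subgroup.mem_map_of_mem f hx
      simpa [mul_eq_one_iff_eq_inv, mul_assoc] using h1
    have htop : (⊤ : Subgroup H) = ⊥ := by
      rw [← Subgroup.map_top_of_surjective f hf, ← hS.generates, eq_bot_iff, Subgroup.map_iSup]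
      refine iSup_le fun B => ?_
      rw [Subgroup.map_iSup]
      exact iSup_le fun hB => (hall B hB).le
    rw [hAf, htop]
  left
  push Not at htriv
  have hmapconj : ∀ (A : Subgroup G) (g : G),
      Cfsg.conjBy (A.map f) (f g) = (Cfsg.conjBy A g).map f := by
    intro A g
    rw [Cfsg.conjBy, Cfsg.conjBy, Subgroup.map_map, Subgroup.map_map]
    congr 1
    ext x
    simp
  have hcomm : ∀ A ∈ S, IsMulCommutative ↥(A.map f) := fun A hA => ⟨⟨fun ⟨x, a, ha, hx⟩ ⟨y, b, hb, hy⟩ =>
    Subtype.ext (by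
      show x * y = y * x
      rw [← hx, ← hy, ← map_mul, ← map_mul, CfsgLib.RootSubgroups.commute_self hS hA ha hb])⟩⟩
  have hnil : ∀ A ∈ S, Group.IsNilpotent ↥(A.map f) := fun A hA => by
    haveI := hcomm A hA
    refine ⟨⟨1, ?_⟩⟩
    rw [Subgroup.upperCentralSeries_one, eq_top_iff]
    intro x _
    exact Subgroup.mem_center_iff.mpr fun y => (hcomm A hA).is_comm.comm y x
  have hcond : ∀ A ∈ S, ∀ B ∈ S, A.map f ≠ B.map f → Cfsg.RankOneCondition A B →
      Cfsg.RankOneCondition (A.map f) (B.map f) := by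
    intro A hA B _ hne hab a' ha' ha1
    obtain ⟨a, ha, rfl⟩ := ha'
    obtain ⟨b, hb, -, he⟩ := hab a ha fun h0 => ha1 (by rw [h0, map_one])
    have he' : Cfsg.conjBy (A.map f) (f b)⁻¹ = Cfsg.conjBy (B.map f) (f a)⁻¹ := by
      rw [← map_inv, ← map_inv, hmapconj, hmapconj, he]
    refine ⟨f b, Subgroup.mem_map_of_mem f hb, fun h0 => hne ?_, he'⟩
    rw [h0, inv_one, CfsgLib.RootSubgroups.conjBy_one] at he'
    calc A.map f = Cfsg.conjBy (A.map f) (f a) :=
          (CfsgLib.RootSubgroups.conjBy_of_mem (Subgroup.mem_map_of_mem f ha)).symm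
      _ = Cfsg.conjBy (Cfsg.conjBy (B.map f) (f a)⁻¹) (f a) := by rw [← he']
      _ = B.map f := CfsgLib.RootSubgroups.conjBy_conjBy_inv _ _
  have hpair : ∀ A ∈ S, ∀ B ∈ S, Cfsg.IsRankOnePair A B → A.map f ≠ B.map f →
      Cfsg.IsRankOnePair (A.map f) (B.map f) := fun A hA B hB hr hne =>
    ⟨hne, hnil A hA, hnil B hB, hcond A hA B hB hne hr.cond_left,
      hcond B hB A hA hne.symm hr.cond_right⟩
  refine ⟨⟨?_, ?_, ?_, ?_, ?_⟩, ?_⟩
  · rintro _ ⟨A, hA, rfl⟩; exact hcomm A hA
  · rintro _ ⟨A, hA, rfl⟩; exact htriv A hA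
  · rw [iSup_image, ← Subgroup.map_top_of_surjective f hf, ← hS.generates, Subgroup.map_iSup]
    simp only [Subgroup.map_iSup]
  · rintro _ ⟨A, hA, rfl⟩ h'
    obtain ⟨g, rfl⟩ := hf h'
    exact ⟨Cfsg.conjBy A g, hS.conj_mem A hA g, (hmapconj A g).symm⟩
  · rintro _ ⟨A, hA, rfl⟩ _ ⟨B, hB, rfl⟩
    dsimp only
    rcases hS.pair A hA B hB with h1 | h1 | h1
    · left; rw [← Subgroup.map_commutator, h1, Subgroup.map_bot]
    · by_cases hne : A.map f = B.map f
      · left
        rw [← hne, CfsgLib.RootSubgroups.commutator_eq_bot_iff_comm]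
        exact fun x hx y hy => CfsgLib.RootSubgroups.mul_comm_of_mem (hcomm A hA) hx hy
      · exact Or.inr (Or.inl (hpair A hA B hB h1 hne))
    · refine Or.inr (Or.inr ⟨?_, ?_, ?_, ?_⟩)
      · rw [← Subgroup.map_commutator]; exact ⟨_, h1.1, rfl⟩
      · rw [← Subgroup.map_commutator, ← Subgroup.map_sup]
        rintro _ ⟨c, hc', rfl⟩ _ ⟨x, hx, rfl⟩
        rw [← map_mul, ← map_mul, h1.2.1 c hc' x hx]
      · rintro _ ⟨a, ha, rfl⟩ ha1
        rw [← Subgroup.map_commutator, ← h1.2.2.1 a ha (fun h0 => ha1 (by rw [h0, map_one])),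
          MonoidHom.map_closure, Subgroup.coe_map, Set.image_image, Set.image_image]
        simp
      · rintro _ ⟨b, hb, rfl⟩ hb1
        rw [← Subgroup.map_commutator, ← h1.2.2.2 b hb (fun h0 => hb1 (by rw [h0, map_one])),
          MonoidHom.map_closure, Subgroup.coe_map, Set.image_image, Set.image_image]
        simp
  · rintro _ ⟨A, hA, rfl⟩ _ ⟨B, hB, rfl⟩
    dsimp only
    have h := hc A hA B hB
    clear hB
    induction h with
    | refl => exact .refl
    | tail _ hxy ih =>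
      rename_i P Q _
      by_cases hne : P.map f = Q.map f
      · exact hne ▸ ih
      · exact ih.tail ⟨⟨P, hxy.1, rfl⟩, ⟨Q, hxy.2.1, rfl⟩, hpair P hxy.1 Q hxy.2.1 hxy.2.2 hne⟩

end Cfsg.Agent.S5035
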