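import Cfsg.Statements.S5037
import Cfsg.Agent.RootSubgroups.LineClass

set_option autoImplicit false
open Cfsg CfsgLib.RootSubgroups

namespace Cfsg.Agent.S5037

/-- Let S be a class of abstract root subgroups of G that is either degenerate or non-degenerate (so either the commutator case never occurs, or all three cases occur), and A ≠ C members of S. If every member of S commuting with A commutes with C, then A and C have the same commuting members of S; and if every rank one partner of A is a rank one partner of C, then A and C commute and have the same rank one partners. -/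
theorem result {G : Type*} [Group G] {S : Set (Subgroup G)} (hS : Cfsg.IsRootSubgroupClass S)
    (hdn : Cfsg.IsDegenerateRootSet S ∨ Cfsg.IsNondegenerateRootSet S)
    {A C : Subgroup G} (hA : A ∈ S) (hC : C ∈ S) (hAC : A ≠ C) :
    (Cfsg.centralizingMembers S A ⊆ Cfsg.centralizingMembers S C →
      Cfsg.centralizingMembers S A = Cfsg.centralizingMembers S C) ∧
    (Cfsg.rankOnePartners S A ⊆ Cfsg.rankOnePartners S C →
      ⁅A, C⁆ = ⊥ ∧ Cfsg.rankOnePartners S A = Cfsg.rankOnePartners S C) := by
  have hirr : ∀ P : Subgroup G, ¬ IsRankOnePair P P := fun P h => h.ne rfl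
  have hnoΩ : ∀ P ∈ S, ∀ Q ∈ S, IsRankOnePair P Q → ¬ rankOnePartners S P ⊆ rankOnePartners S Q :=
    fun P _ Q hQ hr h => hirr Q (h ⟨hQ, hr⟩).2
  have hnoC : ∀ P ∈ S, ∀ Q ∈ S, IsRankOnePair P Q → ¬ centralizingMembers S P ⊆ centralizingMembers S Q := by
    intro P hP Q _ hr h
    have hPP : P ∈ centralizingMembers S P :=
      ⟨hP, fun x hx => Subgroup.mem_centralizer_iff.2 fun y hy => commute_self hS.1 hP hy hx⟩
    exact rankOnePair_not_commute hr (commutator_eq_bot_iff_comm.mpr fun x hx y hy =>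
      (Subgroup.mem_centralizer_iff.1 ((h hPP).2 hx) y hy).symm)
  have hmemconj : ∀ (X : Subgroup G) g, X ∈ S ↔ conjBy X g ∈ S := fun X g =>
    ⟨fun h => hS.1.conj_mem X h g, fun h => conjBy_inv_conjBy X g ▸ hS.1.conj_mem _ h g⁻¹⟩
  have hΩ : ∀ (P : Subgroup G) g, rankOnePartners S (conjBy P g) = (fun X => conjBy X g) '' rankOnePartners S P := by
    intro P g
    ext X
    constructor
    · rintro ⟨hX, hr⟩
      refine ⟨conjBy X g⁻¹, ⟨hS.1.conj_mem X hX _, ?_⟩, conjBy_conjBy_inv X g⟩
      have := rankOnePair_conj hr g⁻¹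
      rwa [conjBy_inv_conjBy] at this
    · rintro ⟨Y, ⟨hY, hr⟩, rfl⟩
      exact ⟨hS.1.conj_mem Y hY g, rankOnePair_conj hr g⟩
  have hcc : ∀ (P X : Subgroup G), X ≤ Subgroup.centralizer (P : Set G) ↔ ⁅X, P⁆ = ⊥ := fun P X =>
    Subgroup.commutator_eq_bot_iff_le_centralizer.symm
  have hCe : ∀ (P : Subgroup G) g, centralizingMembers S (conjBy P g) = (fun X => conjBy X g) '' centralizingMembers S P := by
    intro P g
    ext X
    constructor
    · rintro ⟨hX, hle⟩
      refine ⟨conjBy X g⁻¹, ⟨hS.1.conj_mem X hX _, (hcc _ _).2 ?_⟩, conjBy_conjBy_inv X g⟩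
      rw [← conjBy_inv_conjBy P g, ← conjBy_commutator, (hcc _ _).1 hle, conjBy_bot]
    · rintro ⟨Y, ⟨hY, hle⟩, rfl⟩
      refine ⟨hS.1.conj_mem Y hY g, (hcc _ _).2 ?_⟩
      rw [← conjBy_commutator, (hcc _ _).1 hle, conjBy_bot]
  have hnone : ∀ P ∈ S, (¬ ∃ Q ∈ S, IsRankOnePair P Q) → ∀ P' ∈ S, ∀ Q ∈ S, ¬ IsRankOnePair P' Q := by
    intro P hP h P' hP' Q hQ hr
    obtain ⟨g, rfl⟩ := hS.2.2 P' hP' P hP
    exact h ⟨conjBy Q g, hS.1.conj_mem Q hQ g, rankOnePair_conj hr g⟩
  refine ⟨fun hle => ?_, fun hle => ?_⟩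
  · have hcomm : ∀ a ∈ A, ∀ c ∈ C, a * c = c * a := fun a ha c hc =>
      (Subgroup.mem_centralizer_iff.1 ((hle ⟨hA, fun x hx => Subgroup.mem_centralizer_iff.2
        fun y hy => commute_self hS.1 hA hy hx⟩).2 ha) c hc).symm
    by_cases hp : ∃ B ∈ S, IsRankOnePair C B
    · obtain ⟨B, hB, hrC⟩ := hp
      refine invariant_eq hS hCe hnoC hA hC hle hB ?_ hrC hcomm
      rcases trichotomy hS.1 hA hB with h | h | h
      · exact absurd (commutator_eq_bot_iff_comm.mpr fun c hc b hb =>
          Subgroup.mem_centralizer_iff.1 ((hle ⟨hB, fun x hx => Subgroup.mem_centralizer_iff.2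
            fun a ha => h a ha x hx⟩).2 hb) c hc) (rankOnePair_not_commute hrC)
      · exact h
      · exfalso
        obtain ⟨b, hb, hb1⟩ := exists_ne_one hS.1 hB
        have hF : ∀ c ∈ C, ∀ f ∈ (⁅A, B⁆ : Subgroup G), c * f = f * c := fun c hc f hf =>
          Subgroup.mem_centralizer_iff.1 ((hle ⟨h.1, fun x hx => Subgroup.mem_centralizer_iff.2
            fun a ha => (comm_left h hx ha).symm⟩).2 hf) c hc
        have hCb : C ∈ centralizingMembers S (conjBy A b) := by
          refine ⟨hC, fun c hc => Subgroup.mem_centralizer_iff.2 fun y hy => ?_⟩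
          have hle' : A ⊔ ⁅A, B⁆ ≤ Subgroup.centralizer {c} := sup_le
            (fun x hx => Subgroup.mem_centralizer_iff.2 fun z hz => by
              rw [Set.mem_singleton_iff.1 hz]; exact (hcomm x hx c hc).symm)
            (fun x hx => Subgroup.mem_centralizer_iff.2 fun z hz => by
              rw [Set.mem_singleton_iff.1 hz]; exact hF c hc x hx)
          exact (Subgroup.mem_centralizer_iff.1 (hle' (conjBy_le_line hS.1 hA h hb hy)) c rfl).symm
        rw [hCe] at hCb
        have h2 := Set.image_mono hle hCb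
        rw [← hCe] at h2
        have hne : C ≠ conjBy C b := fun e => hb1 (eq_one_of_fix (RankOnePair_symm hrC) hb e.symm)
        exact rankOnePair_not_commute (pair_of_unip hrC (unip_left_mem C B)
          (unip_conj_mem (unip_left_mem C B) ((le_sup_right : B ≤ C ⊔ B) hb)) hne).1 ((hcc _ _).1 h2.2)
    · have hno := hnone C hC hp
      rcases hdn with hd | hn
      · have hall : ∀ P ∈ S, centralizingMembers S P = S := by
          intro P hP
          ext X
          refine ⟨fun h => h.1, fun hX => ⟨hX, fun x hx => Subgroup.mem_centralizer_iff.2 fun y hy => ?_⟩⟩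
          rcases trichotomy hS.1 hP hX with h | h | h
          · exact h y hy x hx
          · exact absurd h (hno P hP X hX)
          · exact absurd h (hd P hP X hX)
        rw [hall A hA, hall C hC]
      · obtain ⟨-, ⟨P, hP, Q, hQ, hr⟩, -⟩ := hn
        exact absurd hr (hno P hP Q hQ)
  · have hcomm : ∀ a ∈ A, ∀ c ∈ C, a * c = c * a := by
      rcases trichotomy hS.1 hA hC with h | h | h
      · exact h
      · exact absurd (hle ⟨hC, h⟩).2 (hirr C)
      · rcases hdn with hd | hn
        · exact absurd h (hd A hA C hC)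
        · exfalso
          obtain ⟨F, hF, hCF, -, hr, -⟩ := exists_swap hS hn hC hA (commCase_symm h)
          exact rankOnePair_not_commute (hle ⟨hF, hr⟩).2 (commutator_eq_bot_iff_comm.mpr hCF)
    refine ⟨commutator_eq_bot_iff_comm.mpr hcomm, ?_⟩
    by_cases hp : ∃ B ∈ S, IsRankOnePair A B
    · obtain ⟨B, hB, hrA⟩ := hp
      exact invariant_eq hS hΩ hnoΩ hA hC hle hB hrA (hle ⟨hB, hrA⟩).2 hcomm
    · refine Set.Subset.antisymm hle fun X hX => ?_
      exact absurd hX.2 (hnone A hA hp C hC X hX.1)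

end Cfsg.Agent.S5037
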