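import Cfsg.Statements.S5038
import Cfsg.Agent.RootSubgroups.LineStructure

set_option autoImplicit false
open Cfsg CfsgLib.RootSubgroups

namespace Cfsg.Agent.S5038

/-- Let S be a set of abstract root subgroups of G in which every member has a rank one partner, A ∈ S and B a line partner of A. Then the subgroup generated by the members of S normalizing AB permutes the members of S inside AB doubly transitively by conjugation. -/
theorem result {G : Type*} [Group G] {S : Set (Subgroup G)} (hS : Cfsg.IsRootSubgroupSet S)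
    (hF : ∀ A ∈ S, ¬ Cfsg.IsIsolatedIn (Cfsg.FAdj S) S A) {A B : Subgroup G} (hA : A ∈ S) (hB : B ∈ Cfsg.linePartners S A) :
    ∀ C₁ ∈ Cfsg.membersIn S (A ⊔ B), ∀ C₂ ∈ Cfsg.membersIn S (A ⊔ B), ∀ D₁ ∈ Cfsg.membersIn S (A ⊔ B),
      ∀ D₂ ∈ Cfsg.membersIn S (A ⊔ B), C₁ ≠ C₂ → D₁ ≠ D₂ →
        ∃ x ∈ ⨆ E ∈ Cfsg.normalizingMembers S (A ⊔ B), E, Cfsg.conjBy C₁ x = D₁ ∧ Cfsg.conjBy C₂ x = D₂ := by
  have hall : ∀ P ∈ S, ∃ Q, Q ∈ S ∧ IsRankOnePair P Q := fun P hP => partner_of_not_isolated (hF P hP) hP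
  obtain ⟨D, hD, hr⟩ := hall A hA
  set K : Subgroup G := ⨆ E ∈ Cfsg.normalizingMembers S (A ⊔ B), E with hK
  -- the step attached to a pair spanning the line
  have step : ∀ P ∈ S, ∀ P', P' ∈ linePartners S P → P ⊔ P' = A ⊔ B →
      ∃ C ∈ membersIn S (A ⊔ B), C ≠ P ∧ P ∈ linePartners S C ∧ C ⊔ P = A ⊔ B ∧
        (∃ Q ∈ membersIn S (A ⊔ B), Q ≠ C ∧ Q ≠ P) ∧
        ∀ Q ∈ membersIn S (A ⊔ B), Q ≠ C → ∃ k ∈ K, conjBy P k = Q ∧ conjBy C k = C := by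
    intro P hP P' hP' hspan
    obtain ⟨E, hE, hrE⟩ := hall P hP
    obtain ⟨C, hC, h1, h2, h3, h4⟩ := line_structure hS hP hP' hE hrE
    set F := ⁅C, E⁆
    have hFS : F ∈ S := h1.1
    have hmem : membersIn S (A ⊔ B) = (fun b : G => conjBy P b) '' (F : Set G) ∪ {C} := by
      rw [← hspan, ← h4]
      have h := membersIn_line hS hP h2 hFS hE hrE
      rwa [h3] at h
    have hfix : ∀ f ∈ F, conjBy C f = C := fun f hf =>
      conjBy_eq_of_commute fun c hc => comm_left h1 hf hc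
    have hnorm : F ∈ normalizingMembers S (A ⊔ B) := by
      refine ⟨hFS, fun f hf => conjBy_eq_self_iff.mp ?_⟩
      have hle : ∀ f ∈ F, conjBy (A ⊔ B) f ≤ A ⊔ B := by
        intro f hf
        rw [← hspan, ← h4, conjBy_sup, hfix f hf]
        refine sup_le ?_ le_sup_right
        have h := conjBy_le_line hS hP h2 hf
        rwa [h3] at h
      refine le_antisymm (hle f hf) ?_
      have := conjBy_mono (hle f⁻¹ (inv_mem hf)) f
      rwa [conjBy_conjBy_inv] at this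
    have hne : C ≠ P := fun e => left_ne_comm hS hP h2 (by rw [h3, e])
    have hlp : P ∈ linePartners S C := h3 ▸ line_partner hS hP h2 hFS hE hrE
    obtain ⟨f, hf, hf1⟩ := exists_ne_one hS hFS
    refine ⟨C, ?_, hne, hlp, by rw [sup_comm, h4, hspan], ⟨conjBy P f, ?_, ?_, ?_⟩, ?_⟩
    · rw [hmem]; exact Or.inr rfl
    · rw [hmem]; exact Or.inl ⟨f, hf, rfl⟩
    · intro e
      exact hne (conjBy_injective f (show conjBy C f = conjBy P f by rw [hfix f hf]; exact e.symm))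
    · intro e
      obtain ⟨p, hp, hp1⟩ := exists_ne_one hS hP
      have hpm : f⁻¹ * p * f ∈ P := by rw [← mem_conjBy, e]; exact hp
      have hc : p⁻¹ * (f⁻¹ * p * f) ∈ P := mul_mem (inv_mem hp) hpm
      have hcc : rcomm p f ∈ ⁅P, F⁆ := rcomm_mem hp hf
      have e2 : p⁻¹ * (f⁻¹ * p * f) = rcomm p f := by rw [conj_eq_mul_rcomm, inv_mul_cancel_left]
      exact hf1 (rcomm_injective hS hP hE hrE h2 hp hf hp1 (comm_inf_eq_one hS h2 (e2 ▸ hc) hcc))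
    · intro Q hQ hQC
      rw [hmem] at hQ
      rcases hQ with ⟨k, hk, rfl⟩ | rfl
      · exact ⟨k, (le_biSup (fun E : Subgroup G => E) hnorm : F ≤ K) hk, rfl, hfix k hk⟩
      · exact absurd rfl hQC
  obtain ⟨C, hC, hCA, hAC, hCsup, ⟨Q, hQ, hQC, hQA⟩, hCt⟩ := step A hA B hB rfl
  obtain ⟨C', hC', hC'C, -, -, -, hC't⟩ := step C hC.1 A hAC hCsup
  have htrans : ∀ P ∈ membersIn S (A ⊔ B), ∃ k ∈ K, conjBy A k = P := by
    have hC0 : ∃ k ∈ K, conjBy A k = C := by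
      by_cases h : C' = A
      · obtain ⟨k, hk, e1, -⟩ := hCt Q hQ hQC
        obtain ⟨k', hk', e2, -⟩ := hC't Q hQ (fun e => hQA (e.trans h))
        refine ⟨k'⁻¹ * k, mul_mem (inv_mem hk') hk, ?_⟩
        rw [← conjBy_conjBy, e1, ← e2, conjBy_inv_conjBy]
      · obtain ⟨k, hk, e, -⟩ := hC't A ⟨hA, le_sup_left⟩ (Ne.symm h)
        exact ⟨k⁻¹, inv_mem hk, by rw [← e, conjBy_inv_conjBy]⟩
    intro P hP
    by_cases h : P = C
    · exact h ▸ hC0
    · obtain ⟨k, hk, e, -⟩ := hCt P hP h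
      exact ⟨k, hk, e⟩
  obtain ⟨c0, hc0, ec0⟩ := htrans C hC
  have hto : ∀ P ∈ membersIn S (A ⊔ B), ∃ k ∈ K, conjBy P k = C := fun P hP => by
    obtain ⟨k, hk, e⟩ := htrans P hP
    exact ⟨c0 * k⁻¹, mul_mem hc0 (inv_mem hk), by rw [← conjBy_conjBy, ← e, conjBy_inv_conjBy, ec0]⟩
  have hKpres : ∀ k ∈ K, ∀ P ∈ membersIn S (A ⊔ B), conjBy P k ∈ membersIn S (A ⊔ B) := by
    intro k hk P hP
    have hle : K ≤ Subgroup.normalizer ((A ⊔ B : Subgroup G) : Set G) := iSup₂_le fun E hE => hE.2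
    refine ⟨hS.conj_mem P hP.1 k, ?_⟩
    rw [← conjBy_eq_self_iff.mpr (hle hk)]
    exact conjBy_mono hP.2 k
  intro C₁ h1 C₂ h2 D₁ h3 D₂ h4 hne hne'
  obtain ⟨x, hx, ex⟩ := hto C₁ h1
  obtain ⟨y, hy, ey⟩ := hto D₁ h3
  obtain ⟨u, hu, eu, eu'⟩ := hCt _ (hKpres x hx C₂ h2) (fun e => hne (conjBy_injective x (ex.trans e.symm)))
  obtain ⟨v, hv, ev, ev'⟩ := hCt _ (hKpres y hy D₂ h4) (fun e => hne' (conjBy_injective y (ey.trans e.symm)))
  refine ⟨y⁻¹ * (v * u⁻¹) * x, mul_mem (mul_mem (inv_mem hy) (mul_mem hv (inv_mem hu))) hx, ?_, ?_⟩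
  · rw [← conjBy_conjBy, ex, ← conjBy_conjBy, ← conjBy_conjBy]
    nth_rewrite 1 [← eu']
    rw [conjBy_inv_conjBy, ev', ← ey, conjBy_inv_conjBy]
  · rw [← conjBy_conjBy, ← eu, ← conjBy_conjBy, ← conjBy_conjBy, conjBy_inv_conjBy, ev, conjBy_inv_conjBy]

end Cfsg.Agent.S5038
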