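import Cfsg.Statements.S5039
import Cfsg.Agent.RootSubgroups.RootSpecial
import Cfsg.Agent.RootSubgroups.TwinClasses

set_option autoImplicit false
universe u
open Cfsg

namespace Cfsg.Agent.S5039

/-- Let S be a class of abstract root subgroups of G containing two different commuting members. Suppose that, in case S is degenerate and every element of every member of S has order at most 3, the following holds: for every A ∈ S and every rank one partner B of A there are subgroups A₀ ≤ A and B₀ ≤ B generating an image of SL₂(k) with central kernel, k a field with at least four elements, A₀ and B₀ being the images of the unitriangular subgroups. Then every rank one pair A, B in S is special. -/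
theorem result {G : Type u} [Group G] {S : Set (Subgroup G)} (hS : Cfsg.IsRootSubgroupClass S)
    (hcomm : ∃ A ∈ S, ∃ C ∈ S, A ≠ C ∧ ⁅A, C⁆ = ⊥)
    (hH : Cfsg.IsDegenerateRootSet S → (∀ A ∈ S, ∀ a ∈ A, 0 < orderOf a ∧ orderOf a ≤ 3) →
      ∀ A ∈ S, ∀ B ∈ Cfsg.rankOnePartners S A, ∃ A₀ B₀ : Subgroup G, A₀ ≤ A ∧ B₀ ≤ B ∧
        ∃ (k : Type u) (_ : Field k), 3 < ENat.card k ∧ Cfsg.IsPSL2PairOver k A₀ B₀)
    {A B : Subgroup G} (hA : A ∈ S) (hB : B ∈ Cfsg.rankOnePartners S A) : Cfsg.IsSpecialRankOnePair A B := by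
  open CfsgLib.RootSubgroups in
  by_cases hd : Cfsg.IsDegenerateRootSet S
  · obtain ⟨P, hP, R, hR, hne, hPR⟩ := hcomm
    refine Deg.special_of_degenerate hS hd ⟨P, hP, R, hR, hne, Deg.com_iff.mpr hPR⟩ ?_ hA hB.1 hB.2
    intro X hX
    by_cases hexp : ∀ Y ∈ S, ∀ y ∈ Y, 0 < orderOf y ∧ orderOf y ≤ 3
    · obtain ⟨g, rfl⟩ := hS.2.2 A hA X hX
      obtain ⟨A₀, B₀, hle, -, k, _, hk, hp⟩ := hH hd hexp (conjBy A g) (hS.1.conj_mem A hA g)
        (conjBy B g) ⟨hS.1.conj_mem B hB.1 g, rankOnePair_conj hB.2 g⟩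
      exact Deg.avoid_of_psl2 hle hk hp
    · push Not at hexp
      obtain ⟨Y, hY, y, hy, hord⟩ := hexp
      obtain ⟨g, rfl⟩ := hS.2.2 Y hY X hX
      refine Deg.avoid_of_order (conj_mem_conjBy hy g) ?_
      rw [show orderOf (g * y * g⁻¹) = orderOf y by
        simpa using orderOf_injective (MulAut.conj g).toMonoidHom (MulAut.conj g).injective y]
      rcases Nat.eq_zero_or_pos (orderOf y) with h | h
      · exact Or.inl h
      · exact Or.inr (hord h)
  · refine special_of_nondegenerate hS ⟨hcomm, ⟨A, hA, B, hB.1, hB.2⟩, ?_⟩ hA hB.1 hB.2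
    unfold Cfsg.IsDegenerateRootSet at hd
    push Not at hd
    exact hd

end Cfsg.Agent.S5039
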