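import Cfsg.Statements.S5040
import Cfsg.Agent.RootSubgroups.LineClass

set_option autoImplicit false
open Cfsg CfsgLib.RootSubgroups

namespace Cfsg.Agent.S5040

/-- Let S be a non-degenerate class of abstract root subgroups of G and Δ a weak TI-subset of S. Then the members of Δ commute with one another elementwise. -/
theorem result {G : Type*} [Group G] {S : Set (Subgroup G)} (hS : Cfsg.IsRootSubgroupClass S) (hnd : Cfsg.IsNondegenerateRootSet S)
    {Δ : Set (Subgroup G)} (hΔ : Cfsg.IsWeakTISubset S Δ) : Cfsg.IsAbelianFamily Δ := by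
  obtain ⟨hsub, -, hne, hTI⟩ := hΔ
  -- members commuting with a member of `Δ` stabilise `Δ`
  let St : Subgroup G :=
    { carrier := {g | (fun A => conjBy A g) '' Δ = Δ}
      one_mem' := by simp [conjBy_one]
      mul_mem' := fun {g h} hg hh => by
        show (fun A => conjBy A (g * h)) '' Δ = Δ
        conv_rhs => rw [← show (fun A => conjBy A g) '' Δ = Δ from hg, ← show (fun A => conjBy A h) '' Δ = Δ from hh]
        rw [Set.image_image]
        simp [conjBy_conjBy]
      inv_mem' := fun {g} hg => by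
        show (fun A => conjBy A g⁻¹) '' Δ = Δ
        conv_lhs => rw [← show (fun A => conjBy A g) '' Δ = Δ from hg]
        rw [Set.image_image]
        simp only [conjBy_inv_conjBy, Set.image_id'] }
  have hfix : ∀ A ∈ Δ, ∀ P ∈ S, ∀ g ∈ P, conjBy A g = A → g ∈ St := by
    intro A hA P hP g hg he
    by_cases hg1 : g = 1
    · rw [hg1]; exact one_mem St
    · exact (hTI g ⟨hg1, P, hP, hg⟩).resolve_right
        (Set.not_disjoint_iff.2 ⟨A, ⟨A, hA, he⟩, hA⟩)
  have hnoR : ∀ A ∈ Δ, ∀ B ∈ Δ, ¬ IsRankOnePair A B := by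
    intro A hA B hB hr
    have htop : (⊤ : Subgroup G) ≤ St := by
      rw [← generate_line_partner hS hnd (hsub hA) ⟨hsub hB, hr⟩]
      refine sup_le (iSup₂_le fun C hC c hc => hfix A hA C hC.1.1 c hc (conjBy_eq_of_commute fun a ha =>
        (commutator_eq_bot_iff_comm.mp hC.1.2.2 a ha c hc).symm)) fun b hb => hfix B hB B (hsub hB) b hb (conjBy_of_mem hb)
    refine hne (Set.Subset.antisymm hsub fun P hP => ?_)
    obtain ⟨g, rfl⟩ := hS.2.2 A (hsub hA) P hP
    have h : (fun A => conjBy A g) '' Δ = Δ := htop (Subgroup.mem_top g)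
    rw [← h]; exact ⟨A, hA, rfl⟩
  intro A hA B hB a ha b hb
  rcases trichotomy hS.1 (hsub hA) (hsub hB) with h | h | h
  · exact h a ha b hb
  · exact absurd h (hnoR A hA B hB)
  · exfalso
    obtain ⟨F, hF, hAF, -, hr, -⟩ := exists_swap hS hnd (hsub hA) (hsub hB) h
    obtain ⟨f, hf, hf1⟩ := exists_ne_one hS.1 hF
    have hf' : f ∈ St := hfix A hA F hF f hf (conjBy_eq_of_commute fun x hx => (hAF x hx f hf).symm)
    have hBf : conjBy B f ∈ Δ := by
      rw [← show (fun A => conjBy A f) '' Δ = Δ from hf']; exact ⟨B, hB, rfl⟩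
    have hne' : B ≠ conjBy B f := fun e => hf1 (eq_one_of_fix (RankOnePair_symm hr) hf e.symm)
    exact hnoR B hB _ hBf (pair_of_unip hr (unip_left_mem B F)
      (unip_conj_mem (unip_left_mem B F) ((le_sup_right : F ≤ B ⊔ F) hf)) hne').1

end Cfsg.Agent.S5040
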