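import Cfsg.Statements.S5043
import Cfsg.Agent.RootSubgroups.TransvectionExamples

set_option autoImplicit false
open Matrix
open Cfsg CfsgLib.RootSubgroups Matrix

namespace Cfsg.Agent.S5043

/-- Let k be a field and n a natural number. In SL_{n+3}(k) (so in every dimension at least 3) the conjugates of the root subgroup of elementary transvections 1 + c E₁₂ (c ∈ k) — that is, the groups of transvections attached to an incident point–hyperplane pair — form a non-degenerate class of abstract k-root subgroups of SL_{n+3}(k) whose graph of rank one pairs is connected. -/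
theorem result (k : Type*) [Field k] (n : ℕ) :
    Cfsg.IsRootSubgroupClass {A : Subgroup (Matrix.SpecialLinearGroup (Fin (n + 3)) k) |
        ∃ g : Matrix.SpecialLinearGroup (Fin (n + 3)) k,
          A = Cfsg.conjBy (Subgroup.closure {t : Matrix.SpecialLinearGroup (Fin (n + 3)) k |
            ∃ c : k, (t : Matrix (Fin (n + 3)) (Fin (n + 3)) k) = Matrix.transvection 0 1 c}) g} ∧
    Cfsg.IsNondegenerateRootSet {A : Subgroup (Matrix.SpecialLinearGroup (Fin (n + 3)) k) |
        ∃ g : Matrix.SpecialLinearGroup (Fin (n + 3)) k,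
          A = Cfsg.conjBy (Subgroup.closure {t : Matrix.SpecialLinearGroup (Fin (n + 3)) k |
            ∃ c : k, (t : Matrix (Fin (n + 3)) (Fin (n + 3)) k) = Matrix.transvection 0 1 c}) g} ∧
    Cfsg.IsKRootSubgroupSet k {A : Subgroup (Matrix.SpecialLinearGroup (Fin (n + 3)) k) |
        ∃ g : Matrix.SpecialLinearGroup (Fin (n + 3)) k,
          A = Cfsg.conjBy (Subgroup.closure {t : Matrix.SpecialLinearGroup (Fin (n + 3)) k |
            ∃ c : k, (t : Matrix (Fin (n + 3)) (Fin (n + 3)) k) = Matrix.transvection 0 1 c}) g} ∧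
    Cfsg.IsConnectedFamily (Cfsg.FAdj {A : Subgroup (Matrix.SpecialLinearGroup (Fin (n + 3)) k) |
        ∃ g : Matrix.SpecialLinearGroup (Fin (n + 3)) k,
          A = Cfsg.conjBy (Subgroup.closure {t : Matrix.SpecialLinearGroup (Fin (n + 3)) k |
            ∃ c : k, (t : Matrix (Fin (n + 3)) (Fin (n + 3)) k) = Matrix.transvection 0 1 c}) g})
      {A : Subgroup (Matrix.SpecialLinearGroup (Fin (n + 3)) k) |
        ∃ g : Matrix.SpecialLinearGroup (Fin (n + 3)) k,
          A = Cfsg.conjBy (Subgroup.closure {t : Matrix.SpecialLinearGroup (Fin (n + 3)) k |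
            ∃ c : k, (t : Matrix (Fin (n + 3)) (Fin (n + 3)) k) = Matrix.transvection 0 1 c}) g} := by
  obtain ⟨R, hR⟩ : ∃ R, R = Transv.slSystem (k := k) (Fin (n + 3)) := ⟨_, rfl⟩
  have h01 : (0 : Fin (n + 3)) ≠ 1 := by simp
  have h02 : (0 : Fin (n + 3)) ≠ 2 := by simp [Fin.ext_iff, Nat.mod_eq_of_lt (show 2 < n + 3 by omega)]
  have h12 : (1 : Fin (n + 3)) ≠ 2 := by simp [Fin.ext_iff, Nat.mod_eq_of_lt (show 2 < n + 3 by omega)]
  have e : ∀ i j : Fin (n + 3), i ≠ j → ((Pi.single i 1, Pi.single j 1) : (Fin (n + 3) → k) × (Fin (n + 3) → k)) ∈ R.P := by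
    intro i j hij
    rw [hR]
    exact ⟨fun h => one_ne_zero (α := k) (by simpa using congrFun h i),
      fun h => one_ne_zero (α := k) (by simpa using congrFun h j),
      by simp [Pi.single_apply, hij.symm]⟩
  have hT0 : Subgroup.closure {t : Matrix.SpecialLinearGroup (Fin (n + 3)) k |
      ∃ c : k, (t : Matrix (Fin (n + 3)) (Fin (n + 3)) k) = Matrix.transvection 0 1 c} =
      R.T (Pi.single 0 1, Pi.single 1 1) := by
    subst hR
    simp only [Transv.single_eq_vecMulVec]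
    rfl
  have hS : {A : Subgroup (Matrix.SpecialLinearGroup (Fin (n + 3)) k) |
      ∃ g : Matrix.SpecialLinearGroup (Fin (n + 3)) k,
        A = Cfsg.conjBy (Subgroup.closure {t : Matrix.SpecialLinearGroup (Fin (n + 3)) k |
          ∃ c : k, (t : Matrix (Fin (n + 3)) (Fin (n + 3)) k) = Matrix.transvection 0 1 c}) g} = R.S := by
    rw [hT0]
    ext A
    constructor
    · rintro ⟨g, rfl⟩; exact R.T_conj (e 0 1 h01) g
    · intro hA; exact R.rootClass.2.2 _ ⟨_, e 0 1 h01, rfl⟩ A hA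
  simp only [hS]
  refine ⟨R.rootClass, ⟨?_, ?_, ?_⟩, R.kRoot, R.connected⟩
  · refine ⟨_, ⟨_, e 0 1 h01, rfl⟩, _, ⟨_, e 0 2 h02, rfl⟩, ?_, R.comm_case (e 0 1 h01) (e 0 2 h02) ?_ ?_⟩
    · intro h
      obtain ⟨g, hg⟩ := R.lift _ (e 0 1 h01) 1
      obtain ⟨c, hc⟩ := (R.mem_T (e 0 2 h02)).1 (h ▸ (R.mem_T (e 0 1 h01)).2 ⟨1, hg⟩)
      rw [hg] at hc
      have := congrFun (congrFun hc 0) 1
      simp [Transv.tv, vecMulVec, Pi.single_apply, h12, h12.symm] at this
    · simp [Pi.single_apply, h01.symm]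
    · simp [Pi.single_apply, h02.symm]
  · exact ⟨_, ⟨_, e 0 1 h01, rfl⟩, _, ⟨_, e 1 0 h01.symm, rfl⟩,
      (R.psl2_case (e 0 1 h01) (e 1 0 h01.symm) (by simp) (by simp)).2⟩
  · exact ⟨_, ⟨_, e 0 1 h01, rfl⟩, _, ⟨_, e 1 2 h12, rfl⟩,
      R.mixed_case (e 0 1 h01) (e 1 2 h12) (by simp) (by simp [Pi.single_apply, h02.symm])⟩

end Cfsg.Agent.S5043
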