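import Cfsg.Statements.S5045
import Cfsg.Agent.RootSubgroups.RootInvolutions

set_option autoImplicit false
open Cfsg

namespace Cfsg.Agent.S5045

/-- Let G be a finite group generated by a set D of root involutions, and W the set of members of D whose product with every other member of D has even order or is trivial (the isolated vertices of the odd-order-product graph on D). Then W is conjugation-invariant and generates a normal 2-subgroup of G meeting D in exactly W; the commutator of two members of D lying in different connected components of that graph, each with more than one member, lies in the subgroup generated by W; and for a in such a component, every member of D commuting with a, different from a and with product with a in D, lies in that component or in W. -/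
theorem result {G : Type*} [Group G] [Finite G] {D : Set G} (hD : Cfsg.IsRootInvolutionSet D) :
    (∀ w ∈ {w | Cfsg.IsIsolatedElem (Cfsg.OddAdj D) D w}, ∀ g : G, g * w * g⁻¹ ∈ {w | Cfsg.IsIsolatedElem (Cfsg.OddAdj D) D w}) ∧
    (Subgroup.closure {w | Cfsg.IsIsolatedElem (Cfsg.OddAdj D) D w}).Normal ∧
    IsPGroup 2 ↥(Subgroup.closure {w | Cfsg.IsIsolatedElem (Cfsg.OddAdj D) D w}) ∧
    (Subgroup.closure {w | Cfsg.IsIsolatedElem (Cfsg.OddAdj D) D w} : Set G) ∩ D = {w | Cfsg.IsIsolatedElem (Cfsg.OddAdj D) D w} ∧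
    (∀ a ∈ D, ∀ b ∈ D, (∃ a' ∈ Cfsg.elemComponentOf (Cfsg.OddAdj D) D a, a' ≠ a) →
      (∃ b' ∈ Cfsg.elemComponentOf (Cfsg.OddAdj D) D b, b' ≠ b) →
      Cfsg.elemComponentOf (Cfsg.OddAdj D) D a ≠ Cfsg.elemComponentOf (Cfsg.OddAdj D) D b →
        a * b * a⁻¹ * b⁻¹ ∈ Subgroup.closure {w | Cfsg.IsIsolatedElem (Cfsg.OddAdj D) D w}) ∧
    (∀ a ∈ D, (∃ a' ∈ Cfsg.elemComponentOf (Cfsg.OddAdj D) D a, a' ≠ a) →
      Cfsg.productPartners D a ⊆ Cfsg.elemComponentOf (Cfsg.OddAdj D) D a ∪ {w | Cfsg.IsIsolatedElem (Cfsg.OddAdj D) D w}) := by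
  have hiso := fun a => CfsgLib.RootInvolution.isolated_iff hD (a := a)
  set W := {w | Cfsg.IsIsolatedElem (Cfsg.OddAdj D) D w} with hW
  have hconj : ∀ w ∈ W, ∀ g : G, g * w * g⁻¹ ∈ W := fun w hw g => by
    refine (hiso _).2 ⟨hD.conj_mem w hw.1 g, fun b hb => ?_⟩
    have := CfsgLib.RootInvolution.adj_conj hD hb g⁻¹
    exact ((hiso w).1 hw).2 (g⁻¹ * b * g) (by simpa [mul_assoc] using this)
  have hnormal : (Subgroup.closure W).Normal := by
    refine ⟨fun x hx g => ?_⟩
    induction hx using Subgroup.closure_induction with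
    | mem w hw => exact Subgroup.subset_closure (hconj w hw g)
    | one => simp
    | mul x y _ _ hx hy =>
      rw [show g * (x * y) * g⁻¹ = g * x * g⁻¹ * (g * y * g⁻¹) by group]
      exact mul_mem hx hy
    | inv x _ hx =>
      rw [show g * x⁻¹ * g⁻¹ = (g * x * g⁻¹)⁻¹ by group]
      exact inv_mem hx
  have hp : IsPGroup 2 ↥(Subgroup.closure W) :=
    CfsgLib.RootInvolution.isPGroup_closure_of_small W (fun w hw => hD.orderOf_eq w hw.1)
      (fun s _ t ht => hconj t ht s)
      (fun s hs t ht => CfsgLib.RootInvolution.pow_four_of_not_adj hD hs.1 ht.1 (((hiso s).1 hs).2 t))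
  have hinter : ∀ d, d ∈ Subgroup.closure W → d ∈ D → d ∈ W := by
    intro d hd hdD
    refine (hiso d).2 ⟨hdD, fun e he => ?_⟩
    obtain ⟨g, rfl⟩ := CfsgLib.RootInvolution.conj_of_reach hD (Relation.ReflTransGen.single he)
    have hmem := mul_mem hd (hnormal.conj_mem d hd g)
    obtain ⟨k, hk⟩ := hp ⟨_, hmem⟩
    have hk' : (d * (g * d * g⁻¹)) ^ 2 ^ k = 1 := by simpa using congrArg Subtype.val hk
    have h1 := (Nat.Coprime.pow_right k he.2.2.2.coprime_two_right).eq_one_of_dvd (orderOf_dvd_of_pow_eq_one hk')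
    rw [orderOf_eq_one_iff, mul_eq_one_iff_eq_inv, CfsgLib.RootInvolution.inv_eq hD he.2.1] at h1
    exact he.2.2.1 h1
  have symm' : ∀ {u v}, Relation.ReflTransGen (Cfsg.OddAdj D) u v → Relation.ReflTransGen (Cfsg.OddAdj D) v u :=
    fun {u v} h => by
      induction h with
      | refl => exact Relation.ReflTransGen.refl
      | tail _ h ih => exact Relation.ReflTransGen.head (CfsgLib.RootInvolution.adj_symm hD h) ih
  -- partners lie in the component or are isolated
  have hpart : ∀ a c, CfsgLib.RootInvolution.Partner D a c →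
      (∃ a' ∈ Cfsg.elemComponentOf (Cfsg.OddAdj D) D a, a' ≠ a) →
      c ∈ Cfsg.elemComponentOf (Cfsg.OddAdj D) D a ∨ c ∈ W := by
    rintro a c h ⟨a', ⟨-, ha'⟩, hne⟩
    by_contra hcon
    rw [not_or] at hcon
    obtain ⟨hC, hcW⟩ := hcon
    obtain ⟨y, hy⟩ : ∃ y, Cfsg.OddAdj D a y := by
      rcases Relation.ReflTransGen.cases_head ha' with rfl | ⟨y, hy, -⟩
      · exact absurd rfl hne
      · exact ⟨y, hy⟩
    obtain ⟨x, hx⟩ : ∃ x, Cfsg.OddAdj D c x := by
      by_contra hn
      exact hcW ((hiso c).2 ⟨h.right, fun b hb => hn ⟨b, hb⟩⟩)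
    have path : ∀ {u v w}, Cfsg.OddAdj D u v → Cfsg.OddAdj D w v → Relation.ReflTransGen (Cfsg.OddAdj D) u w :=
      fun h1 h2 => (Relation.ReflTransGen.single h1).tail (CfsgLib.RootInvolution.adj_symm hD h2)
    refine hC ⟨h.right, ?_⟩
    rcases CfsgLib.RootInvolution.triple hD h.swap hx with h1 | h1
    · exact path h1 hx
    rcases CfsgLib.RootInvolution.triple hD h hy with h2 | h2
    · exact path hy h2
    rw [← h.comm.eq] at h1
    exact (path hy h2).trans (path h1 hx)
  refine ⟨hconj, hnormal, hp, ?_, ?_, ?_⟩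
  · exact Set.Subset.antisymm (fun d hd => hinter d hd.1 hd.2) fun d hd => ⟨Subgroup.subset_closure hd, hd.1⟩
  · intro a ha b hb hA hB hne
    rcases hD.pair a ha b hb with h | h | h
    · have e : a * b * a⁻¹ * b⁻¹ = 1 := by rw [h]; group
      rw [e]; exact one_mem _
    · by_cases hab : a = b
      · exact absurd (hab ▸ rfl) hne
      · refine absurd ?_ hne
        have h1 : Cfsg.OddAdj D a b := ⟨ha, hb, hab, h⟩
        ext x
        exact ⟨fun hx => ⟨hx.1, Relation.ReflTransGen.head (CfsgLib.RootInvolution.adj_symm hD h1) hx.2⟩,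
          fun hx => ⟨hx.1, Relation.ReflTransGen.head h1 hx.2⟩⟩
    · have e : a * b * a⁻¹ * b⁻¹ = (a * b) ^ 2 := by
        rw [CfsgLib.RootInvolution.inv_eq hD ha, CfsgLib.RootInvolution.inv_eq hD hb, pow_two, mul_assoc (a * b)]
      rw [e]
      obtain ⟨p, q, -⟩ := CfsgLib.RootInvolution.four_spec hD ha hb h.1
      apply Subgroup.subset_closure
      rcases hpart a _ p hA with h1 | h1
      · rcases hpart b _ q hB with h2 | h2
        · exfalso
          apply hne
          have hba := h1.2.trans (symm' h2.2)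
          have hab := symm' hba
          ext x
          exact ⟨fun hx => ⟨hx.1, hab.trans hx.2⟩, fun hx => ⟨hx.1, hba.trans hx.2⟩⟩
        · exact h2
      · exact h1
  · intro a ha hA e he
    obtain ⟨⟨heD, hcm, -⟩, hmul⟩ := he
    exact (hpart a e ⟨ha, heD, hcm.symm, by rw [← hcm]; exact hmul⟩ hA)

end Cfsg.Agent.S5045
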