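import Cfsg.Statements.S5046
import Cfsg.Agent.RootSubgroups.RootInvolutionsConnected

set_option autoImplicit false
open Cfsg

namespace Cfsg.Agent.S5046

/-- Let G be a finite group generated by a set D of root involutions whose odd-order-product graph is connected, and d ∈ D. Then the members e of D with the same commuting members as d are exactly those for which the union of the commuting members of d and the members whose product with d has order 4 equals the corresponding union for e. -/
theorem result {G : Type*} [Group G] [Finite G] {D : Set G} (hD : Cfsg.IsRootInvolutionSet D)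
    (hc : Cfsg.IsConnectedSet (Cfsg.OddAdj D) D) {d : G} (hd : d ∈ D) :
    Cfsg.sameCommutingClass D d =
      {e | e ∈ D ∧ Cfsg.commutingMembers D d ∪ Cfsg.fourPartners D d = Cfsg.commutingMembers D e ∪ Cfsg.fourPartners D e} := by
  ext e
  constructor
  · rintro ⟨he, hC⟩
    refine ⟨he, ?_⟩
    have key : ∀ d e : G, d ∈ D → e ∈ D → Cfsg.commutingMembers D d = Cfsg.commutingMembers D e →
        ∀ x, x ∈ Cfsg.fourPartners D d → x ∈ Cfsg.commutingMembers D e ∪ Cfsg.fourPartners D e := by
      rintro d e hd he hC x ⟨hx, hx4⟩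
      have hnx : ¬ Commute d x := ((CfsgLib.RootInvolution.four_iff_not hD hd hx).1 hx4).1
      have hne : ¬ Commute x e := fun h => by
        have : x ∈ Cfsg.commutingMembers D d := hC ▸ ⟨hx, h⟩
        exact hnx this.2.symm
      refine Or.inr ⟨hx, (CfsgLib.RootInvolution.four_iff_not hD he hx).2 ⟨fun h => hne h.symm, fun hodd => ?_⟩⟩
      obtain ⟨p, -, -, e1, -⟩ := CfsgLib.RootInvolution.four_spec hD hd hx hx4
      have hxd : x * d * x ∈ Cfsg.commutingMembers D e := hC ▸
        ⟨e1 ▸ p.mul, (e1 ▸ ((Commute.refl d).mul_right p.comm).symm.eq : x * d * x * d = d * (x * d * x))⟩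
      -- conjugating by `x`
      have hxe : x * e * x ∈ Cfsg.commutingMembers D d := by
        refine ⟨CfsgLib.RootInvolution.conj_self hD hx he, ?_⟩
        have h' := congrArg (fun y => x * y * x) hxd.2
        simp only [← mul_assoc, CfsgLib.RootInvolution.sq_eq hD hx, one_mul] at h'
        simp only [mul_assoc, CfsgLib.RootInvolution.sq_eq hD hx, mul_one] at h'
        simp only [mul_assoc]
        exact h'.symm
      rw [hC] at hxe
      have h2 : (e * x) ^ 2 = (x * e) ^ 2 := by
        rw [pow_two, pow_two]
        have := hxe.2.symm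
        simp only [mul_assoc] at this ⊢
        exact this
      have h4 : (e * x) ^ 4 = 1 := by
        rw [show 4 = 2 + 2 from rfl, pow_add]
        nth_rewrite 2 [h2]
        rw [← CfsgLib.RootInvolution.inv_mul_eq hD he hx, inv_pow, mul_inv_cancel]
      have h1 : orderOf (e * x) = 1 :=
        (Nat.Coprime.pow_right 2 hodd.2.2.2.coprime_two_right).eq_one_of_dvd (orderOf_dvd_of_pow_eq_one h4)
      rw [orderOf_eq_one_iff, mul_eq_one_iff_eq_inv, CfsgLib.RootInvolution.inv_eq hD hx] at h1
      exact hodd.2.2.1 h1
    apply Set.Subset.antisymm <;> rintro x (hx | hx)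
    · exact Or.inl (hC ▸ hx)
    · exact key d e hd he hC x hx
    · exact Or.inl (hC ▸ hx)
    · exact key e d he hd hC.symm x hx
  · rintro ⟨he, hU⟩
    refine ⟨he, CfsgLib.RootInvolution.commutingMembers_eq_of_oddNbr_eq hD hc hd he ?_⟩
    have key : ∀ a ∈ D, ∀ x, CfsgLib.RootInvolution.oddNbr D a x ↔
        x ∈ D ∧ x ∉ Cfsg.commutingMembers D a ∪ Cfsg.fourPartners D a := by
      intro a ha x
      constructor
      · intro h
        refine ⟨h.2.1, ?_⟩
        rintro (⟨-, h'⟩ | ⟨hx, h'⟩)
        · exact CfsgLib.RootInvolution.adj_not_comm hD h h'.symm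
        · exact ((CfsgLib.RootInvolution.four_iff_not hD ha hx).1 h').2 h
      · rintro ⟨hx, hn⟩
        by_contra hodd
        refine hn (Or.inr ⟨hx, (CfsgLib.RootInvolution.four_iff_not hD ha hx).2 ⟨fun h => hn (Or.inl ⟨hx, h.symm⟩), hodd⟩⟩)
    ext x
    exact (key d hd x).trans (by rw [hU]; exact (key e he x).symm)

end Cfsg.Agent.S5046
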