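import Cfsg.Agent.PLocal.Cores
import Cfsg.Statements.S5049

set_option autoImplicit false
open Cfsg

namespace Cfsg.Agent.S5049

/-- Let G be a finite group generated by a set D of odd transpositions (root involutions with no product of order 4), Q = O₂(G), and for a ∈ D let Q_a be the commutator subgroup of Q with a. Then every member of D commuting with a centralizes Q_a; and for b ∈ D with ab of odd order greater than 1, the centralizer of ab in Q is the intersection of the centralizers of a and b in Q. -/
theorem result {G : Type*} [Group G] [Finite G] {D : Set G} (hD : Cfsg.IsOddTranspositionSet D) {a : G} (ha : a ∈ D) :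
    (∀ e ∈ Cfsg.commutingMembers D a, ∀ q ∈ ⁅Cfsg.pCore 2 G, Subgroup.zpowers a⁆, e * q = q * e) ∧
    (∀ b ∈ Cfsg.oddPartners D a,
      Cfsg.pCore 2 G ⊓ Subgroup.centralizer {a * b} = Cfsg.pCore 2 G ⊓ Subgroup.centralizer {a} ⊓ Subgroup.centralizer {b}) := by
  obtain ⟨hroot, hno4⟩ := hD
  have hinv : ∀ d ∈ D, d * d = 1 := fun d hd => by
    rw [← sq, ← hroot.orderOf_eq d hd]; exact pow_orderOf_eq_one d
  have hinv' : ∀ d ∈ D, d⁻¹ = d := fun d hd => inv_eq_of_mul_eq_one_right (hinv d hd)
  have hpair : ∀ x ∈ D, ∀ y ∈ D, x * y = y * x ∨ Odd (orderOf (x * y)) := fun x hx y hy => by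
    rcases hroot.pair x hx y hy with h | h | h
    · exact Or.inl h
    · exact Or.inr h
    · exact absurd h.1 (hno4 x hx y hy)
  have hQ : IsPGroup 2 (Cfsg.pCore 2 G) := CfsgLib.PLocal.isPGroup_pCore 2 G
  have hodd : ∀ z ∈ Cfsg.pCore 2 G, Odd (orderOf z) → z = 1 := by
    intro z hz ho
    obtain ⟨n, hn⟩ := hQ ⟨z, hz⟩
    have hn' : z ^ 2 ^ n = 1 := by simpa using congrArg Subtype.val hn
    obtain ⟨m, -, hm⟩ := (Nat.dvd_prime_pow Nat.prime_two).mp (orderOf_dvd_of_pow_eq_one hn')
    rcases Nat.eq_zero_or_pos m with rfl | hm0
    · exact orderOf_eq_one_iff.mp (by simpa using hm)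
    · rw [hm] at ho
      exact absurd ho (Nat.not_odd_iff_even.mpr (Nat.even_pow.mpr ⟨even_two, hm0.ne'⟩))
  have hnorm : (Cfsg.pCore 2 G).Normal := inferInstance
  have hcQ : ∀ q ∈ Cfsg.pCore 2 G, q * a * q⁻¹ * a ∈ Cfsg.pCore 2 G := fun q hq => by
    have := mul_mem hq (hnorm.conj_mem _ (inv_mem hq) a)
    simpa [hinv' a ha, mul_assoc] using this
  have haq : ∀ q ∈ Cfsg.pCore 2 G, (q * a * q⁻¹) * a = a * (q * a * q⁻¹) := by
    intro q hq
    rcases hpair _ (hroot.conj_mem a ha q) a ha with h | h
    · exact h
    · have h1 := hodd _ (hcQ q hq) h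
      rw [mul_eq_one_iff_eq_inv, hinv' a ha] at h1
      rw [h1]
  refine ⟨fun e he => ?_, fun b hb => ?_⟩
  · obtain ⟨heD, hea⟩ := he
    have key : ∀ q ∈ Cfsg.pCore 2 G, e * (q * a * q⁻¹) = (q * a * q⁻¹) * e := by
      intro q hq
      set c := q * a * q⁻¹ with hc
      have hcD : c ∈ D := hroot.conj_mem a ha q
      rcases hpair e heD c hcD with h | h
      · exact h
      · -- odd order modulo the core forces `e c` into the core
        have hmem : e * c ∈ Cfsg.pCore 2 G := by
          obtain ⟨m, hm⟩ := h
          let π := QuotientGroup.mk' (Cfsg.pCore 2 G)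
          have hπc : π c = π a := by
            have h0 : π (c * a) = 1 := (QuotientGroup.eq_one_iff _).mpr (hcQ q hq)
            rw [map_mul, mul_eq_one_iff_eq_inv, ← map_inv, hinv' a ha] at h0
            exact h0
          have hsq : π (e * c) * π (e * c) = 1 := by
            rw [map_mul, hπc, ← map_mul, ← map_mul, ← map_one π]
            congr 1
            rw [mul_assoc, ← mul_assoc a e a, ← hea, mul_assoc e a a, hinv a ha, mul_one,
              hinv e heD]
          have h1 : π ((e * c) ^ (2 * m + 1)) = 1 := by rw [← hm, pow_orderOf_eq_one, map_one]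
          rw [map_pow, pow_succ, pow_mul, sq, hsq, one_pow, one_mul] at h1
          exact (QuotientGroup.eq_one_iff _).mp h1
        have h1 := hodd _ hmem h
        rw [mul_eq_one_iff_eq_inv, hinv' c hcD] at h1
        rw [h1]
    intro z hz
    have hle : ⁅Cfsg.pCore 2 G, Subgroup.zpowers a⁆ ≤ Subgroup.centralizer ({e} : Set G) := by
      rw [Subgroup.commutator_le]
      intro q hq x hx
      rw [Subgroup.mem_centralizer_singleton_iff, commutatorElement_def]
      obtain ⟨n, rfl⟩ := Subgroup.mem_zpowers_iff.mp hx
      rcases Int.even_or_odd' n with ⟨j, rfl | rfl⟩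
      · simp [zpow_mul, show a ^ (2 : ℤ) = 1 by rw [zpow_two, hinv a ha]]
      · have hapow : a ^ (2 * j + 1) = a := by
          rw [zpow_add, zpow_mul, zpow_two, hinv a ha, one_zpow, one_mul, zpow_one]
        rw [hapow, hinv' a ha]
        have h2 : Commute e (q * a * q⁻¹) := key q hq
        exact (h2.mul_right hea).eq.symm
    exact (Subgroup.mem_centralizer_singleton_iff.mp (hle hz)).symm
  · obtain ⟨hbD, hne, hoddab⟩ := hb
    ext q
    simp only [Subgroup.mem_inf, Subgroup.mem_centralizer_singleton_iff]
    constructor
    · rintro ⟨hq, hc⟩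
      have hqa : q * a = a * q := by
        set c := q * a * q⁻¹ with hcdef
        have hcD : c ∈ D := hroot.conj_mem a ha q
        set t := c * a with ht
        have hct : Commute t (a * b) := by
          have e0 : a * (a * b) * a = b * a := by rw [← mul_assoc, hinv a ha, one_mul]
          have hc' : Commute q (b * a) := by
            have : b * a = (a * b)⁻¹ := by rw [mul_inv_rev, hinv' a ha, hinv' b hbD]
            rw [this]; exact Commute.inv_right hc
          have e1 : c * (b * a) * c = a * b := by
            calc c * (b * a) * c = q * a * (q⁻¹ * (b * a) * q) * a * q⁻¹ := by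
                  rw [hcdef]; group
              _ = q * a * (b * a) * a * q⁻¹ := by
                  rw [mul_assoc q⁻¹, ← hc'.eq, inv_mul_cancel_left]
              _ = q * (a * b) * q⁻¹ := by
                  rw [mul_assoc (q * a), mul_assoc b a a, hinv a ha, mul_one, mul_assoc q a b]
              _ = a * b := by rw [hc, mul_inv_cancel_right]
          have e2 : t * (a * b) * (a * c) = a * b := by
            calc t * (a * b) * (a * c) = c * (a * (a * b) * a) * c := by rw [ht]; group
              _ = a * b := by rw [e0, e1]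
          have e3 : a * c * t = 1 := by
            rw [ht, mul_assoc, ← mul_assoc c c, hinv c hcD, one_mul, hinv a ha]
          calc t * (a * b) = t * (a * b) * (a * c * t) := by rw [e3, mul_one]
            _ = t * (a * b) * (a * c) * t := by group
            _ = a * b * t := by rw [e2]
        have htt : t * t = 1 := by
          rw [ht, mul_assoc, ← mul_assoc a c a, ← haq q hq, mul_assoc c a a, hinv a ha, mul_one,
            hinv c hcD]
        have hcb : c * b = t * (a * b) := by
          calc c * b = c * ((a * a) * b) := by rw [hinv a ha, one_mul]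
            _ = t * (a * b) := by rw [ht]; group
        by_contra hne'
        have ht1 : t ≠ 1 := fun h0 => hne' (by
          rw [ht, mul_eq_one_iff_eq_inv, hinv' a ha] at h0
          rw [hcdef, mul_inv_eq_iff_eq_mul] at h0
          exact h0)
        have hord : orderOf (c * b) = 2 * orderOf (a * b) := by
          rw [hcb, hct.orderOf_mul_eq_mul_orderOf_of_coprime]
          · rw [orderOf_eq_prime (p := 2) (by rw [sq]; exact htt) ht1]
          · rw [orderOf_eq_prime (p := 2) (by rw [sq]; exact htt) ht1]
            exact Nat.coprime_two_left.mpr hoddab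
        rcases hpair c hcD b hbD with h | h
        · have h2 : (c * b) * (c * b) = 1 := by
            rw [mul_assoc, ← mul_assoc b c b, ← h, mul_assoc c b b, hinv b hbD, mul_one,
              hinv c hcD]
          have hd := orderOf_dvd_of_pow_eq_one (n := 2) (x := c * b) (by rw [sq]; exact h2)
          rw [hord] at hd
          have h3 : orderOf (a * b) = 1 := by
            have := Nat.le_of_dvd two_pos hd
            have := orderOf_pos (a * b)
            omega
          rw [orderOf_eq_one_iff, mul_eq_one_iff_eq_inv, hinv' b hbD] at h3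
          exact hne h3.symm
        · rw [hord] at h
          exact absurd h (Nat.not_odd_iff_even.mpr (even_two_mul _))
      refine ⟨⟨hq, hqa⟩, ?_⟩
      calc q * b = q * (a * (a * b)) := by rw [← mul_assoc a, hinv a ha, one_mul]
        _ = a * (q * (a * b)) := by rw [← mul_assoc, hqa, mul_assoc]
        _ = a * ((a * b) * q) := by rw [hc]
        _ = b * q := by rw [← mul_assoc, ← mul_assoc a, hinv a ha, one_mul]
    · rintro ⟨⟨hq, h1⟩, h2⟩
      exact ⟨hq, by rw [← mul_assoc, h1, mul_assoc, h2, mul_assoc]⟩

end Cfsg.Agent.S5049
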