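import Cfsg.Statements.S5057

set_option autoImplicit false
open Cfsg

namespace Cfsg.Agent.S5057

open Equiv in
/-- The computation with the fixed involution. -/
theorem product_cases : ∀ e : Perm (Fin 6), e * e = 1 → Perm.sign e = 1 → e ≠ 1 →
    (swap (0 : Fin 6) 1 * swap 2 3) * e = e * (swap (0 : Fin 6) 1 * swap 2 3) ∨
      ((swap (0 : Fin 6) 1 * swap 2 3) * e) ^ 3 = 1 ∨ ((swap (0 : Fin 6) 1 * swap 2 3) * e) ^ 5 = 1 ∨
      (((swap (0 : Fin 6) 1 * swap 2 3) * e) ^ 4 = 1 ∧
        ((swap (0 : Fin 6) 1 * swap 2 3) * e) ^ 2 ≠ 1) := by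
  decide +kernel

open Equiv in
theorem cycleType_of_involution (e : Perm (Fin 6)) (h1 : e * e = 1) (h2 : Perm.sign e = 1)
    (h3 : e ≠ 1) : e.cycleType = {2, 2} := by
  have ho : orderOf e = 2 := orderOf_eq_prime (by rw [sq]; exact h1) h3
  obtain ⟨n, hn⟩ := Equiv.Perm.cycleType_prime_order (ho ▸ Nat.prime_two : (orderOf e).Prime)
  rw [ho] at hn
  have h6 : e.cycleType.sum ≤ 6 := by
    simpa [Equiv.Perm.sum_cycleType] using Finset.card_le_univ e.support
  rw [Equiv.Perm.sign_of_cycleType, hn] at h2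
  rw [hn] at h6
  simp at h6
  have h7 : n ≤ 2 := by omega
  have : n = 1 := by
    interval_cases n <;> simp_all (config := {decide := true})
  subst this
  exact hn

open Equiv in
/-- Every involution of `A₆` is conjugate to the fixed one. -/
theorem exists_conj (g : alternatingGroup (Fin 6)) (hg : orderOf g = 2) :
    ∃ h : alternatingGroup (Fin 6), ((h * g * h⁻¹ : alternatingGroup (Fin 6)) : Perm (Fin 6)) =
      swap (0 : Fin 6) 1 * swap 2 3 := by
  set s : Perm (Fin 6) := swap 0 1 * swap 2 3 with hs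
  have hg' : orderOf (g : Perm (Fin 6)) = 2 := by rw [Subgroup.orderOf_coe]; exact hg
  have hsq : (g : Perm (Fin 6)) * g = 1 := by rw [← sq, ← hg', pow_orderOf_eq_one]
  have hne : (g : Perm (Fin 6)) ≠ 1 := fun h0 => by rw [h0, orderOf_one] at hg'; omega
  have hs3 : s * s = 1 ∧ Perm.sign s = 1 ∧ s ≠ 1 ∧ swap 0 1 * s * (swap (0 : Fin 6) 1)⁻¹ = s := by
    rw [hs]; decide +kernel
  have hct : (g : Perm (Fin 6)).cycleType = s.cycleType := by
    rw [cycleType_of_involution _ hsq g.2 hne, cycleType_of_involution _ hs3.1 hs3.2.1 hs3.2.2.1]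
  obtain ⟨h, hh⟩ := isConj_iff.mp (Equiv.Perm.isConj_iff_cycleType_eq.mpr hct)
  rcases Int.units_eq_one_or (Perm.sign h) with hp | hp
  · exact ⟨⟨h, hp⟩, hh⟩
  · refine ⟨⟨swap 0 1 * h, ?_⟩, ?_⟩
    · show Perm.sign (swap (0 : Fin 6) 1 * h) = 1
      rw [map_mul, hp, Perm.sign_swap (by decide)]; rfl
    · show swap 0 1 * h * (g : Perm (Fin 6)) * (swap 0 1 * h)⁻¹ = s
      rw [_root_.mul_inv_rev]
      calc swap 0 1 * h * (g : Perm (Fin 6)) * (h⁻¹ * (swap 0 1)⁻¹)
          = swap 0 1 * (h * (g : Perm (Fin 6)) * h⁻¹) * (swap 0 1)⁻¹ := by group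
        _ = s := by rw [hh]; exact hs3.2.2.2

/-- The possible products of two involutions. -/
theorem pair_cases (d e : alternatingGroup (Fin 6)) (hd : orderOf d = 2) (he : orderOf e = 2) :
    d * e = e * d ∨ (d * e) ^ 3 = 1 ∨ (d * e) ^ 5 = 1 ∨ ((d * e) ^ 4 = 1 ∧ (d * e) ^ 2 ≠ 1) := by
  obtain ⟨h, hh⟩ := exists_conj d hd
  set x := h * e * h⁻¹ with hx
  have hxo : orderOf x = 2 := by
    rw [hx, ← MulAut.conj_apply, MulEquiv.orderOf_eq]; exact he
  have hx' : orderOf (x : Equiv.Perm (Fin 6)) = 2 := by rw [Subgroup.orderOf_coe]; exact hxo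
  have hxs : (x : Equiv.Perm (Fin 6)) * x = 1 := by rw [← sq, ← hx', pow_orderOf_eq_one]
  have hne : (x : Equiv.Perm (Fin 6)) ≠ 1 := fun h0 => by rw [h0, orderOf_one] at hx'; omega
  have key := product_cases _ hxs x.2 hne
  rw [← hh, ← Subgroup.coe_mul, ← Subgroup.coe_mul] at key
  have inj : ∀ y z : alternatingGroup (Fin 6), (y : Equiv.Perm (Fin 6)) = z → y = z :=
    fun y z => Subtype.ext
  simp only [← Subgroup.coe_pow, OneMemClass.coe_eq_one, ne_eq] at key
  have e1 : h * d * h⁻¹ * x = h * (d * e) * h⁻¹ := by rw [hx]; group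
  have e2 : x * (h * d * h⁻¹) = h * (e * d) * h⁻¹ := by rw [hx]; group
  rw [e1, e2, Subtype.coe_inj, conj_pow, conj_pow, conj_pow, conj_pow] at key
  simpa only [mul_left_inj, mul_right_inj, conj_eq_one_iff] using key


/-- The involutions of the alternating group of degree 6 form a class of root involutions (a single conjugacy class of involutions generating the group, any two of which commute, have product of odd order, or have product of order 4 whose square is again an involution of the class), and the product of any two of them has order at most 5. -/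
theorem result :
    Cfsg.IsRootInvolutionClass {g : ↥(alternatingGroup (Fin 6)) | orderOf g = 2} ∧
    ∀ d ∈ {g : ↥(alternatingGroup (Fin 6)) | orderOf g = 2}, ∀ e ∈ {g : ↥(alternatingGroup (Fin 6)) | orderOf g = 2},
      orderOf (d * e) ≤ 5 := by
  haveI hsimple : IsSimpleGroup (alternatingGroup (Fin 6)) :=
    alternatingGroup.isSimpleGroup (by simp)
  set D := {g : ↥(alternatingGroup (Fin 6)) | orderOf g = 2} with hD
  have hconj : ∀ d ∈ D, ∀ g : alternatingGroup (Fin 6), g * d * g⁻¹ ∈ D := by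
    intro d hd g
    show orderOf (g * d * g⁻¹) = 2
    rw [← MulAut.conj_apply, MulEquiv.orderOf_eq]; exact hd
  obtain ⟨d₀, hd₀⟩ : D.Nonempty := by
    refine ⟨⟨Equiv.swap 0 1 * Equiv.swap 2 3, ?_⟩, ?_⟩
    · show Equiv.Perm.sign (Equiv.swap (0 : Fin 6) 1 * Equiv.swap 2 3) = 1
      decide +kernel
    · show orderOf _ = 2
      rw [← Subgroup.orderOf_coe]
      exact orderOf_eq_prime (by decide +kernel) (by decide +kernel)
  have hgen : Subgroup.closure D = ⊤ := by
    have hn : (Subgroup.closure D).Normal := by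
      refine Subgroup.Normal.mk fun n hn g => ?_
      induction hn using Subgroup.closure_induction with
      | mem x hx => exact Subgroup.subset_closure (hconj x hx g)
      | one => simp [one_mem]
      | mul x y _ _ hx hy =>
        rw [show g * (x * y) * g⁻¹ = (g * x * g⁻¹) * (g * y * g⁻¹) by group]
        exact mul_mem hx hy
      | inv x _ hx => rw [show g * x⁻¹ * g⁻¹ = (g * x * g⁻¹)⁻¹ by group]; exact inv_mem hx
    refine (Subgroup.Normal.eq_bot_or_eq_top hn).resolve_left fun h0 => ?_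
    have h1 : d₀ ∈ Subgroup.closure D := Subgroup.subset_closure hd₀
    rw [h0, Subgroup.mem_bot] at h1
    have h2 : orderOf d₀ = 2 := hd₀
    rw [h1, orderOf_one] at h2
    omega
  have hle : ∀ d ∈ D, ∀ e ∈ D, orderOf (d * e) ≤ 5 ∧
      (d * e = e * d ∨ Odd (orderOf (d * e)) ∨ (orderOf (d * e) = 4 ∧ (d * e) ^ 2 ∈ D)) := by
    intro d hd e he
    rcases pair_cases d e hd he with h | h | h | ⟨h, h'⟩
    · refine ⟨?_, Or.inl h⟩
      have : (d * e) ^ 2 = 1 := by
        rw [(show Commute d e from h).mul_pow, ← (show orderOf d = 2 from hd), pow_orderOf_eq_one,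
          one_mul, hd, ← (show orderOf e = 2 from he), pow_orderOf_eq_one]
      have := Nat.le_of_dvd two_pos (orderOf_dvd_of_pow_eq_one this)
      omega
    · have h1 := orderOf_dvd_of_pow_eq_one h
      exact ⟨(Nat.le_of_dvd (by norm_num) h1).trans (by norm_num),
        Or.inr (Or.inl (Odd.of_dvd_nat (by decide) h1))⟩
    · have h1 := orderOf_dvd_of_pow_eq_one h
      exact ⟨Nat.le_of_dvd (by norm_num) h1, Or.inr (Or.inl (Odd.of_dvd_nat (by decide) h1))⟩
    · have h4 : orderOf (d * e) = 4 :=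
        orderOf_eq_prime_pow (p := 2) (n := 1) (by simpa using h') (by simpa using h)
      refine ⟨by omega, Or.inr (Or.inr ⟨h4, ?_⟩)⟩
      show orderOf ((d * e) ^ 2) = 2
      exact orderOf_eq_prime (by rw [← pow_mul]; exact h) h'
  refine ⟨⟨⟨fun d hd => hd, hgen, hconj, fun a ha b hb => (hle a ha b hb).2⟩, ⟨d₀, hd₀⟩, ?_⟩,
    fun d hd e he => (hle d hd e he).1⟩
  intro a ha b hb
  obtain ⟨h, hh⟩ := exists_conj a ha
  obtain ⟨k, hk⟩ := exists_conj b hb
  refine ⟨k⁻¹ * h, ?_⟩
  have e : k * b * k⁻¹ = h * a * h⁻¹ := Subtype.ext (hk.trans hh.symm)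
  calc b = k⁻¹ * (k * b * k⁻¹) * k := by group
    _ = _ := by rw [e]; group

end Cfsg.Agent.S5057
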