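import Cfsg.Statements.S5058
import Cfsg.Agent.RootSubgroups.TransvectionExamples
import Cfsg.Agent.RootSubgroups.TransvectionInvolutions

set_option autoImplicit false
open Matrix
open Cfsg CfsgLib.RootSubgroups Matrix

namespace Cfsg.Agent.S5058

/-- Let F be a finite field of characteristic 2 and n a natural number. Then the transvections of SL_{n+3}(F) (so in every dimension at least 3) (the conjugates of the elementary matrices 1 + c E₁₂, c ≠ 0) form a class of root involutions of SL_{n+3}(F); when F has two elements they form a class of {3,4}⁺-transpositions (every product of odd order has order 1 or 3). -/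
theorem result (F : Type*) [Field F] [Fintype F] [CharP F 2] (n : ℕ) :
    Cfsg.IsRootInvolutionClass {t : Matrix.SpecialLinearGroup (Fin (n + 3)) F | ∃ c : F, c ≠ 0 ∧
        ∃ g : Matrix.SpecialLinearGroup (Fin (n + 3)) F, ((g⁻¹ * t * g : Matrix.SpecialLinearGroup (Fin (n + 3)) F) :
          Matrix (Fin (n + 3)) (Fin (n + 3)) F) = Matrix.transvection 0 1 c} ∧
    (Fintype.card F = 2 → Cfsg.IsThreeFourPlusTranspositionSet {t : Matrix.SpecialLinearGroup (Fin (n + 3)) F | ∃ c : F, c ≠ 0 ∧
        ∃ g : Matrix.SpecialLinearGroup (Fin (n + 3)) F, ((g⁻¹ * t * g : Matrix.SpecialLinearGroup (Fin (n + 3)) F) :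
          Matrix (Fin (n + 3)) (Fin (n + 3)) F) = Matrix.transvection 0 1 c}) := by
  obtain ⟨R, hR⟩ : ∃ R, R = Transv.slSystem (k := F) (Fin (n + 3)) := ⟨_, rfl⟩
  have h01 : (0 : Fin (n + 3)) ≠ 1 := by simp
  have e : ((Pi.single 0 1, Pi.single 1 1) : (Fin (n + 3) → F) × (Fin (n + 3) → F)) ∈ R.P := by
    rw [hR]
    exact ⟨fun h => one_ne_zero (α := F) (by simpa using congrFun h 0),
      fun h => one_ne_zero (α := F) (by simpa using congrFun h 1),
      by simp [Pi.single_apply, h01.symm]⟩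
  have hrep : ∀ t, R.rep t = (t : Matrix (Fin (n + 3)) (Fin (n + 3)) F) := by subst hR; exact fun _ => rfl
  have hD : {t : Matrix.SpecialLinearGroup (Fin (n + 3)) F | ∃ c : F, c ≠ 0 ∧
      ∃ g : Matrix.SpecialLinearGroup (Fin (n + 3)) F, ((g⁻¹ * t * g : Matrix.SpecialLinearGroup (Fin (n + 3)) F) :
        Matrix (Fin (n + 3)) (Fin (n + 3)) F) = Matrix.transvection 0 1 c} = R.D := by
    ext t
    constructor
    · rintro ⟨c, hc, g, hg⟩
      have hmem : g⁻¹ * t * g ∈ R.D := ⟨_, e, c, hc, by rw [hrep, hg, Transv.single_eq_vecMulVec]⟩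
      have := R.rootInvolutions.conj_mem _ hmem g
      simpa [_root_.mul_assoc] using this
    · intro ht
      obtain ⟨t₀, ht₀⟩ := R.lift _ e 1
      obtain ⟨g, hg⟩ := R.involutionClass.2.2 t₀ ⟨_, e, 1, one_ne_zero, ht₀⟩ t ht
      refine ⟨1, one_ne_zero, g, ?_⟩
      rw [hg, show g⁻¹ * (g * t₀ * g⁻¹) * g = t₀ by group, ← hrep, ht₀, Transv.single_eq_vecMulVec]
  simp only [hD]
  refine ⟨R.involutionClass, fun h2 => ⟨R.rootInvolutions, fun a ha b hb hodd => ?_⟩⟩
  have hone : ∀ c : F, c ≠ 0 → c = 1 := fun c hc => by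
    have h := FiniteField.pow_card_sub_one_eq_one c hc
    rwa [h2, show 2 - 1 = 1 from rfl, pow_one] at h
  rcases R.D_pair ha hb with h | h | h
  · left
    have h1 : (a * b) ^ 2 = 1 := by
      rw [Commute.mul_pow h, pow_two, pow_two, (R.D_mul_self ha).1, (R.D_mul_self hb).1, one_mul]
    exact (hodd.coprime_two_right).eq_one_of_dvd (orderOf_dvd_of_pow_eq_one h1)
  · exact (Nat.dvd_prime Nat.prime_three).1 (orderOf_dvd_of_pow_eq_one (h.2 hone))
  · rw [h.1] at hodd; exact absurd hodd (by decide)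

end Cfsg.Agent.S5058
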