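import Cfsg.Statements.S5059

set_option autoImplicit false
universe u
open Cfsg

namespace Cfsg.Agent.S5059

/-- Let k be a field of characteristic not 2 with k not of order 3, M a finite-dimensional k-vector space and G ≤ GL(M) such that (G, M) is a quadratic pair (M irreducible for G, and G generated by its quadratically acting elements σ whose scalar family 1 + c(σ − 1), c ∈ k, lies in G). Write 𝒬_d for the quadratic elements of G of minimal commutator rank, E(σ) for the subgroup generated by the members of 𝒬_d with the same fixed space and commutator space as σ, and Σ for the set of these subgroups. Then for σ ∈ 𝒬_d the subgroup E(σ) consists exactly of those members together with the identity, it is abelian, and if k has prime characteristic p every element of E(σ) has order dividing p. -/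
theorem result {k : Type u} [Field k] (hk2 : ringChar k ≠ 2) (hk3 : Nat.card k ≠ 3)
    {M : Type u} [AddCommGroup M] [Module k M] [FiniteDimensional k M]
    {G : Subgroup (LinearMap.GeneralLinearGroup k M)} (hG : Cfsg.IsQuadraticPair G)
    {σ : LinearMap.GeneralLinearGroup k M} (hσ : σ ∈ Cfsg.minimalQuadraticElements G) :
    (Cfsg.sameActionSubgroup G σ : Set (LinearMap.GeneralLinearGroup k M)) = Cfsg.sameActionClass G σ ∪ {1} ∧
    IsMulCommutative ↥(Cfsg.sameActionSubgroup G σ) ∧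
    (∀ p : ℕ, p.Prime → ringChar k = p → ∀ x ∈ Cfsg.sameActionSubgroup G σ, x ^ p = 1) := by
  obtain ⟨⟨hσG, ⟨hσsq, hσne⟩, hσsf⟩, hσmin⟩ := hσ
  -- the candidate subgroup
  let K := LinearMap.ker ((σ : M →ₗ[k] M) - 1)
  let R := LinearMap.range ((σ : M →ₗ[k] M) - 1)
  have hRK : R ≤ K := by
    rintro _ ⟨x, rfl⟩
    exact LinearMap.mem_ker.mpr (LinearMap.congr_fun hσsq x)
  have hprop : ∀ τ ∈ Cfsg.sameActionClass G σ, τ ∈ G ∧
      Cfsg.scalarFamily τ ⊆ (G : Set (LinearMap.GeneralLinearGroup k M)) ∧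
      LinearMap.ker ((τ : M →ₗ[k] M) - 1) = K ∧ LinearMap.range ((τ : M →ₗ[k] M) - 1) = R :=
    fun τ hτ => ⟨hτ.1.1.1, hτ.1.1.2.2, hτ.2.1, hτ.2.2⟩
  have hdata : ∀ τ ∈ Cfsg.sameActionClass G σ ∪ {1}, τ ∈ G ∧
      Cfsg.scalarFamily τ ⊆ (G : Set (LinearMap.GeneralLinearGroup k M)) ∧
      K ≤ LinearMap.ker ((τ : M →ₗ[k] M) - 1) ∧ LinearMap.range ((τ : M →ₗ[k] M) - 1) ≤ R := by
    rintro τ (hτ | rfl)
    · obtain ⟨h1, h2, h3, h4⟩ := hprop τ hτ
      exact ⟨h1, h2, h3.ge, h4.le⟩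
    · refine ⟨one_mem _, fun x hx => ?_, ?_, ?_⟩
      · obtain ⟨c, hc⟩ := hx
        have : x = 1 := Units.ext (by simpa using hc)
        rw [this]; exact one_mem _
      · intro m _; simp
      · simp
  have hnil : ∀ τ ∈ Cfsg.sameActionClass G σ ∪ {1}, ∀ υ ∈ Cfsg.sameActionClass G σ ∪ {1},
      ((τ : M →ₗ[k] M) - 1) * ((υ : M →ₗ[k] M) - 1) = 0 := by
    intro τ hτ υ hυ
    ext x
    exact LinearMap.mem_ker.mp
      ((hdata τ hτ).2.2.1 (hRK ((hdata υ hυ).2.2.2 ⟨x, rfl⟩)))
  -- characterisation of the class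
  have hclass : ∀ x : LinearMap.GeneralLinearGroup k M, x ≠ 1 → x ∈ G →
      Cfsg.scalarFamily x ⊆ (G : Set (LinearMap.GeneralLinearGroup k M)) →
      K ≤ LinearMap.ker ((x : M →ₗ[k] M) - 1) → LinearMap.range ((x : M →ₗ[k] M) - 1) ≤ R →
      x ∈ Cfsg.sameActionClass G σ := by
    intro x hx1 hxG hxsf hker hrange
    have hxq : x ∈ Cfsg.quadraticElements G := by
      refine ⟨hxG, ⟨?_, fun h0 => hx1 (Units.ext (sub_eq_zero.mp h0))⟩, hxsf⟩
      ext y
      exact LinearMap.mem_ker.mp (hker (hRK (hrange ⟨y, rfl⟩)))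
    have hR : LinearMap.range ((x : M →ₗ[k] M) - 1) = R :=
      Submodule.eq_of_le_of_finrank_le hrange (hσmin x hxq)
    refine ⟨⟨hxq, fun τ hτ => ?_⟩, ?_, hR⟩
    · show Module.finrank k _ ≤ _
      rw [hR]; exact hσmin τ hτ
    · symm
      refine Submodule.eq_of_le_of_finrank_le hker ?_
      have h1 := LinearMap.finrank_range_add_finrank_ker ((x : M →ₗ[k] M) - 1)
      have h2 := LinearMap.finrank_range_add_finrank_ker ((σ : M →ₗ[k] M) - 1)
      rw [hR] at h1
      simp only [R] at h1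
      omega
  have hsf : ∀ τ ∈ Cfsg.sameActionClass G σ ∪ {1}, ∀ c : k,
      ∃ u ∈ G, (u : M →ₗ[k] M) = 1 + c • ((τ : M →ₗ[k] M) - 1) := by
    intro τ hτ c
    have h := hnil τ hτ τ hτ
    refine ⟨⟨1 + c • ((τ : M →ₗ[k] M) - 1), 1 - c • ((τ : M →ₗ[k] M) - 1), ?_, ?_⟩,
      (hdata τ hτ).2.1 ⟨c, rfl⟩, rfl⟩
    · rw [add_mul, one_mul, mul_sub, mul_one, smul_mul_smul_comm, h, smul_zero]; abel
    · rw [sub_mul, one_mul, mul_add, mul_one, smul_mul_smul_comm, h, smul_zero]; abel
  have hmul : ∀ τ ∈ Cfsg.sameActionClass G σ ∪ {1}, ∀ υ ∈ Cfsg.sameActionClass G σ ∪ {1},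
      ((τ * υ : LinearMap.GeneralLinearGroup k M) : M →ₗ[k] M) - 1 =
        ((τ : M →ₗ[k] M) - 1) + ((υ : M →ₗ[k] M) - 1) := by
    intro τ hτ υ hυ
    have h := hnil τ hτ υ hυ
    rw [sub_mul, mul_sub, mul_one, one_mul] at h
    rw [Units.val_mul, ← sub_eq_zero, ← h]
    abel
  have hinv : ∀ τ ∈ Cfsg.sameActionClass G σ ∪ {1},
      ((τ⁻¹ : LinearMap.GeneralLinearGroup k M) : M →ₗ[k] M) - 1 = -((τ : M →ₗ[k] M) - 1) := by
    intro τ hτ
    have h := hnil τ hτ τ hτ
    have e : ((τ⁻¹ : LinearMap.GeneralLinearGroup k M) : M →ₗ[k] M) = 1 - ((τ : M →ₗ[k] M) - 1) := by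
      refine Units.inv_eq_of_mul_eq_one_right ?_
      rw [sub_mul, mul_sub, mul_one, one_mul] at h
      rw [mul_sub, mul_sub, mul_one, ← sub_eq_zero, ← neg_eq_zero, ← h]
      abel
    rw [e]; abel
  let H : Subgroup (LinearMap.GeneralLinearGroup k M) :=
    { carrier := Cfsg.sameActionClass G σ ∪ {1}
      one_mem' := Or.inr rfl
      mul_mem' := fun {τ υ} hτ hυ => by
        by_cases h1 : τ * υ = 1
        · exact Or.inr h1
        refine Or.inl (hclass _ h1 (mul_mem (hdata τ hτ).1 (hdata υ hυ).1) ?_ ?_ ?_)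
        · rintro x ⟨c, hc⟩
          obtain ⟨u, hu, hue⟩ := hsf τ hτ c
          obtain ⟨v, hv, hve⟩ := hsf υ hυ c
          have : x = u * v := Units.ext (by
            rw [hc, hmul τ hτ υ hυ, Units.val_mul, hue, hve, add_mul, one_mul, mul_add, mul_one,
              smul_mul_smul_comm, hnil τ hτ υ hυ, smul_zero, smul_add]
            abel)
          rw [this]; exact mul_mem hu hv
        · rw [hmul τ hτ υ hυ]
          intro m hm
          have a1 := LinearMap.mem_ker.mp ((hdata τ hτ).2.2.1 hm)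
          have a2 := LinearMap.mem_ker.mp ((hdata υ hυ).2.2.1 hm)
          rw [LinearMap.mem_ker, LinearMap.add_apply, a1, a2, add_zero]
        · rw [hmul τ hτ υ hυ]
          exact (LinearMap.range_add_le _ _).trans (sup_le (hdata τ hτ).2.2.2 (hdata υ hυ).2.2.2)
      inv_mem' := fun {τ} hτ => by
        by_cases h1 : τ⁻¹ = 1
        · exact Or.inr h1
        refine Or.inl (hclass _ h1 (inv_mem (hdata τ hτ).1) ?_ ?_ ?_)
        · rintro x ⟨c, hc⟩
          obtain ⟨u, hu, hue⟩ := hsf τ hτ (-c)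
          have : x = u := Units.ext (by rw [hc, hue, hinv τ hτ, smul_neg, neg_smul])
          rw [this]; exact hu
        · rw [hinv τ hτ, LinearMap.ker_neg]; exact (hdata τ hτ).2.2.1
        · rw [hinv τ hτ, LinearMap.range_neg]; exact (hdata τ hτ).2.2.2 }
  have hH : Cfsg.sameActionSubgroup G σ = H :=
    le_antisymm ((Subgroup.closure_le H).mpr Set.subset_union_left) (by
      rintro τ (hτ | rfl)
      · exact Subgroup.subset_closure hτ
      · exact one_mem _)
  refine ⟨by rw [hH]; rfl, ?_, ?_⟩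
  · rw [hH]
    refine ⟨⟨fun ⟨x, hx⟩ ⟨y, hy⟩ => Subtype.ext (Units.ext ?_)⟩⟩
    have := hmul x hx y hy
    have h2 := hmul y hy x hx
    rw [add_comm] at h2
    exact sub_left_injective (this.trans h2.symm)
  · intro p hp hchar x hx
    rw [hH] at hx
    have hpow : ∀ n : ℕ, x ^ n ∈ H ∧
        ((x ^ n : LinearMap.GeneralLinearGroup k M) : M →ₗ[k] M) - 1 = n • ((x : M →ₗ[k] M) - 1) := by
      intro n
      induction n with
      | zero => exact ⟨by simp [one_mem], by simp⟩
      | succ n ih =>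
        refine ⟨pow_mem hx _, ?_⟩
        rw [pow_succ, hmul _ ih.1 _ hx, ih.2, succ_nsmul]
    refine Units.ext (sub_eq_zero.mp ?_)
    rw [Units.val_one]
    rw [(hpow p).2, ← Nat.cast_smul_eq_nsmul k]
    haveI : CharP k p := hchar ▸ ringChar.charP k
    rw [CharP.cast_eq_zero, zero_smul]

end Cfsg.Agent.S5059
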