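import Cfsg.Statements.S5060
import Cfsg.Agent.RootSubgroups.SL2GenField

set_option autoImplicit false
open Cfsg

namespace Cfsg.Agent.S5060

open CfsgLib.RootSubgroups Matrix Polynomial

/-- Let k ⊆ K be fields with the characteristic of k not 2 and k not of order 3, and let α ∈ K be a non-zero element algebraic over k. Then the subgroup of SL₂(K) generated by the upper unitriangular matrices with entry c and the lower unitriangular matrices with entry cα, c ranging over k, is exactly the group of matrices of SL₂(K) with all entries in k(α). -/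
theorem result {k K : Type*} [Field k] [Field K] [Algebra k K] (hk2 : ringChar k ≠ 2) (hk3 : Nat.card k ≠ 3)
    (α : K) (hα : IsAlgebraic k α) (hα0 : α ≠ 0) :
    (Subgroup.closure ({g : Matrix.SpecialLinearGroup (Fin 2) K | ∃ c : k, (g : Matrix (Fin 2) (Fin 2) K) = !![1, algebraMap k K c; 0, 1]} ∪
        {g : Matrix.SpecialLinearGroup (Fin 2) K | ∃ c : k, (g : Matrix (Fin 2) (Fin 2) K) = !![1, 0; algebraMap k K c * α, 1]}) :
      Set (Matrix.SpecialLinearGroup (Fin 2) K)) =
    {g : Matrix.SpecialLinearGroup (Fin 2) K | ∀ i j : Fin 2, (g : Matrix (Fin 2) (Fin 2) K) i j ∈ IntermediateField.adjoin k ({α} : Set K)} := by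
  set E := IntermediateField.adjoin k ({α} : Set K) with hE
  let lam : E := ⟨α, IntermediateField.mem_adjoin_simple_self k α⟩
  have hlam : lam ≠ 0 := fun h => hα0 (congrArg Subtype.val h)
  have hval : ∀ f : k[X], ((Polynomial.aeval lam f : E) : K) = Polynomial.aeval α f := fun f =>
    (Polynomial.aeval_algHom_apply E.val lam f).symm
  have hgen : ∀ x : E, ∃ f : k[X], Polynomial.aeval lam f = x := by
    intro x
    have hx : (x : K) ∈ Algebra.adjoin k ({α} : Set K) := by
      rw [← IntermediateField.adjoin_simple_toSubalgebra_of_isAlgebraic hα]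
      exact x.2
    rw [Algebra.adjoin_singleton_eq_range_aeval] at hx
    obtain ⟨f, hf⟩ := hx
    exact ⟨f, Subtype.ext ((hval f).trans hf)⟩
  have hint : IsIntegral k lam :=
    (isIntegral_algHom_iff E.val Subtype.val_injective).mp hα.isIntegral
  have htop := Gen2.genGroup_eq_top hk2 hk3 hlam hint hgen
  let φ : Matrix.SpecialLinearGroup (Fin 2) E →* Matrix.SpecialLinearGroup (Fin 2) K :=
    Matrix.SpecialLinearGroup.map E.val.toRingHom
  have himg : Subgroup.closure ({g : Matrix.SpecialLinearGroup (Fin 2) K | ∃ c : k,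
        (g : Matrix (Fin 2) (Fin 2) K) = !![1, algebraMap k K c; 0, 1]} ∪
      {g : Matrix.SpecialLinearGroup (Fin 2) K | ∃ c : k,
        (g : Matrix (Fin 2) (Fin 2) K) = !![1, 0; algebraMap k K c * α, 1]}) = φ.range := by
    rw [MonoidHom.range_eq_map, ← htop]
    unfold Gen2.genGroup
    rw [MonoidHom.map_closure, Set.image_union]
    have hup : ∀ c : k, (φ (Gen2.up (algebraMap k E c)) : Matrix (Fin 2) (Fin 2) K) =
        !![1, algebraMap k K c; 0, 1] := fun c => by
      ext i j; fin_cases i <;> fin_cases j <;> simp [φ]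
    have hlo : ∀ c : k, (φ (Gen2.lo (algebraMap k E c * lam)) : Matrix (Fin 2) (Fin 2) K) =
        !![1, 0; algebraMap k K c * α, 1] := fun c => by
      ext i j; fin_cases i <;> fin_cases j <;> simp [φ, lam]
    congr 1
    ext g
    constructor
    · rintro (⟨c, hc⟩ | ⟨c, hc⟩)
      · exact Or.inl ⟨_, ⟨c, rfl⟩, Subtype.ext ((hup c).trans hc.symm)⟩
      · exact Or.inr ⟨_, ⟨c, rfl⟩, Subtype.ext ((hlo c).trans hc.symm)⟩
    · rintro (⟨_, ⟨c, rfl⟩, rfl⟩ | ⟨_, ⟨c, rfl⟩, rfl⟩)
      · exact Or.inl ⟨c, hup c⟩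
      · exact Or.inr ⟨c, hlo c⟩
  rw [himg]
  ext g
  constructor
  · rintro ⟨h, rfl⟩ i j
    exact ((h : Matrix (Fin 2) (Fin 2) E) i j).2
  · intro hg
    let A : Matrix (Fin 2) (Fin 2) E := Matrix.of fun i j => ⟨_, hg i j⟩
    have hA : A.det = 1 := by
      apply Subtype.ext
      have := g.2
      rw [Matrix.det_fin_two] at this ⊢
      simpa [A] using this
    exact ⟨⟨A, hA⟩, Subtype.ext (by ext i j; rfl)⟩

end Cfsg.Agent.S5060
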