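import Cfsg.Statements.S5066
import Cfsg.Agent.RootSubgroups.QuadCase
-- import your own Cfsg.Agent.* helpers here

set_option autoImplicit false
universe u
open Cfsg

namespace Cfsg.Agent.S5066

/-- Let k be a field of characteristic not 2 with k not of order 3, M a finite-dimensional k-vector space and G ≤ GL(M) such that (G, M) is a quadratic pair (M irreducible for G, and G generated by its quadratically acting elements σ whose scalar family 1 + c(σ − 1), c ∈ k, lies in G). Write 𝒬_d for the quadratic elements of G of minimal commutator rank, E(σ) for the subgroup generated by the members of 𝒬_d with the same fixed space and commutator space as σ, and Σ for the set of these subgroups. Let E, F ∈ Σ generate a subgroup that is nilpotent of class exactly two. Then D = ⁅E, F⁆ belongs to Σ, equals the subgroup generated by the commutators of e with F, and also of E with f, for every non-identity e ∈ E, f ∈ F, and ⟨E, F⟩ lies in U(D), the set of elements g of G normalizing D with (g − 1)M inside the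 fixed space of D, (g − 1) mapping that fixed space into the commutator space of D, and g acting trivially on the commutator space of D. -/
theorem result {k : Type u} [Field k] (hk2 : ringChar k ≠ 2) (hk3 : Nat.card k ≠ 3)
    {M : Type u} [AddCommGroup M] [Module k M] [FiniteDimensional k M]
    {G : Subgroup (LinearMap.GeneralLinearGroup k M)} (hG : Cfsg.IsQuadraticPair G)
    {E F : Subgroup (LinearMap.GeneralLinearGroup k M)} (hE : E ∈ Cfsg.quadraticRootSubgroups G) (hF : F ∈ Cfsg.quadraticRootSubgroups G)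
    (h2 : ⁅E ⊔ F, E ⊔ F⁆ ≠ ⊥ ∧ ⁅⁅E ⊔ F, E ⊔ F⁆, E ⊔ F⁆ = ⊥) :
    ⁅E, F⁆ ∈ Cfsg.quadraticRootSubgroups G ∧
    (∀ e ∈ E, e ≠ 1 → Subgroup.closure ((fun f : LinearMap.GeneralLinearGroup k M => e * f * e⁻¹ * f⁻¹) '' (F : Set (LinearMap.GeneralLinearGroup k M))) = ⁅E, F⁆) ∧
    (∀ f ∈ F, f ≠ 1 → Subgroup.closure ((fun e : LinearMap.GeneralLinearGroup k M => e * f * e⁻¹ * f⁻¹) '' (E : Set (LinearMap.GeneralLinearGroup k M))) = ⁅E, F⁆) ∧
    ((E ⊔ F : Subgroup (LinearMap.GeneralLinearGroup k M)) : Set (LinearMap.GeneralLinearGroup k M)) ⊆ Cfsg.quadraticUnipotentCore G ⁅E, F⁆ := by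
  obtain ⟨σ, hσ, rfl⟩ := hE
  obtain ⟨τ, hτ, rfl⟩ := hF
  have hT : CfsgLib.RootSubgroups.QuadPair.Triple G σ τ :=
    (CfsgLib.RootSubgroups.QuadPair.opp_or_triple hσ hτ hk2 hk3).resolve_left
      fun hop => CfsgLib.RootSubgroups.QuadPair.Opp.not_class_two hk2 hk3 hσ hτ hop h2.2
  have h0 : ⁅Cfsg.sameActionSubgroup G σ, Cfsg.sameActionSubgroup G τ⁆ ≠ ⊥ := fun h0 => h2.1 (by
    rw [CfsgLib.RootSubgroups.commutator_eq_bot_iff_comm] at h0 ⊢
    intro x hx y hy
    rw [← Subgroup.closure_eq (Cfsg.sameActionSubgroup G σ),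
      ← Subgroup.closure_eq (Cfsg.sameActionSubgroup G τ), ← Subgroup.closure_union] at hx hy
    have hc : ∀ s ∈ (Cfsg.sameActionSubgroup G σ : Set (LinearMap.GeneralLinearGroup k M)) ∪ (Cfsg.sameActionSubgroup G τ : Set (LinearMap.GeneralLinearGroup k M)),
        ∀ t ∈ (Cfsg.sameActionSubgroup G σ : Set (LinearMap.GeneralLinearGroup k M)) ∪ (Cfsg.sameActionSubgroup G τ : Set (LinearMap.GeneralLinearGroup k M)),
          s * t = t * s := by
      rintro s (hs | hs) t (ht | ht)
      · exact CfsgLib.RootSubgroups.QuadPair.E_comm hσ hs ht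
      · exact h0 s hs t ht
      · exact (h0 t ht s hs).symm
      · exact CfsgLib.RootSubgroups.QuadPair.E_comm hτ hs ht
    have hz : Subgroup.closure ((Cfsg.sameActionSubgroup G σ : Set (LinearMap.GeneralLinearGroup k M)) ∪ (Cfsg.sameActionSubgroup G τ : Set (LinearMap.GeneralLinearGroup k M))) ≤
        Subgroup.centralizer ((Subgroup.closure ((Cfsg.sameActionSubgroup G σ : Set
          (LinearMap.GeneralLinearGroup k M)) ∪ Cfsg.sameActionSubgroup G τ) :
            Subgroup (LinearMap.GeneralLinearGroup k M)) : Set _) := by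
      rw [Subgroup.closure_le, Subgroup.centralizer_closure]
      exact fun s hs => Subgroup.mem_centralizer_iff.2 fun t ht => hc t ht s hs
    exact (Subgroup.mem_centralizer_iff.1 (hz hx) y hy).symm)
  obtain ⟨ζ, hζ, heq, h3, h4, -, hU⟩ :=
    CfsgLib.RootSubgroups.QuadPair.commutator_case hk2 hk3 (CfsgLib.RootSubgroups.QuadPair.reduced_of_irreducible hG.1) hσ hτ hT h0
  exact ⟨⟨ζ, hζ, heq⟩, h3, h4, heq ▸ hU⟩

end Cfsg.Agent.S5066
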