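import Cfsg.Statements.S5067
import Cfsg.Agent.RootSubgroups.RootChain

set_option autoImplicit false
open Cfsg

namespace Cfsg.Agent.S5067

/-- Let P be a non-abelian nilpotent p-group (every element of p-power order; P possibly infinite) generated by two abelian subgroups E and F. Then the normal closure of E in P, and likewise that of F, has nilpotency class strictly smaller than that of P. -/
theorem result {P : Type*} [Group P] {p : ℕ} [Fact p.Prime] (hP : IsPGroup p P) [Group.IsNilpotent P]
    (hna : ¬ IsMulCommutative P) {E F : Subgroup P} (hE : IsMulCommutative ↥E) (hF : IsMulCommutative ↥F) (hgen : E ⊔ F = ⊤) :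
    Group.nilpotencyClass ↥(Subgroup.normalClosure (E : Set P)) < Group.nilpotencyClass P ∧
    Group.nilpotencyClass ↥(Subgroup.normalClosure (F : Set P)) < Group.nilpotencyClass P := by
  have main : ∀ E F : Subgroup P, IsMulCommutative ↥E → IsMulCommutative ↥F → E ⊔ F = ⊤ →
      Group.nilpotencyClass ↥(Subgroup.normalClosure (E : Set P)) < Group.nilpotencyClass P := by
    intro E F hE _ _
    set N := Subgroup.normalClosure (E : Set P) with hN
    let L : ℕ → Subgroup P := Subgroup.lowerCentralSeries (⊤ : Subgroup P)
    have hLn : ∀ j, (L j).Normal := fun j => by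
      have : (L j).Characteristic := Subgroup.lowerCentralSeries_characteristic _ _
      infer_instance
    have hL1 : L 1 = ⁅(⊤ : Subgroup P), ⊤⁆ := rfl
    have hNle : N ≤ E ⊔ L 1 := by
      have hn : (E ⊔ L 1).Normal := by
        refine Subgroup.Normal.mk fun n hn g => ?_
        have h1 : g * n * g⁻¹ * n⁻¹ ∈ L 1 :=
          Subgroup.commutator_mem_commutator (Subgroup.mem_top g) (Subgroup.mem_top n)
        have := mul_mem ((le_sup_right : L 1 ≤ E ⊔ L 1) h1) hn
        rwa [inv_mul_cancel_right] at this
      exact Subgroup.normalClosure_le_normal fun x hx => (le_sup_left : E ≤ E ⊔ L 1) hx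
    have hstep : ⁅N, N⁆ ≤ L 2 := by
      haveI := hLn 2
      refine (Subgroup.commutator_mono hNle hNle).trans ?_
      rw [← Subgroup.closure_eq E, ← Subgroup.closure_eq (L 1), ← Subgroup.closure_union]
      refine CfsgLib.RootSubgroups.commutator_closure_le _ _ _
        (le_top.trans (Subgroup.normalizer_eq_top (H := L 2)).ge)
        (le_top.trans (Subgroup.normalizer_eq_top (H := L 2)).ge) ?_
      have hL : ∀ x ∈ L 1, ∀ y : P, x * y * x⁻¹ * y⁻¹ ∈ L 2 := fun x hx y =>
        Subgroup.commutator_mem_commutator hx (Subgroup.mem_top y)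
      rintro x (hx | hx) y (hy | hy)
      · rw [CfsgLib.RootSubgroups.mul_comm_of_mem hE hx hy]; simp
      · have := inv_mem (hL y hy x)
        simpa [mul_assoc] using this
      · exact hL x hx y
      · exact hL x hx y
    have hseries : ∀ j, (Subgroup.lowerCentralSeries (⊤ : Subgroup N) (j + 1)).map N.subtype ≤
        L (j + 2) := by
      have hr : Subgroup.map N.subtype ⊤ = N := by
        rw [← MonoidHom.range_eq_map, Subgroup.range_subtype]
      intro j
      induction j with
      | zero =>
        rw [Subgroup.lowerCentralSeries_succ, Subgroup.map_commutator,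
          Subgroup.lowerCentralSeries_zero, hr]
        exact hstep
      | succ j ih =>
        rw [Subgroup.lowerCentralSeries_succ, Subgroup.map_commutator, hr]
        exact Subgroup.commutator_mono ih le_top
    have hc : 2 ≤ Group.nilpotencyClass P := by
      by_contra hlt
      apply hna
      have h1 : L 1 = ⊥ :=
        Subgroup.lowerCentralSeries_eq_bot_iff_nilpotencyClass_le.mpr (by omega)
      refine ⟨⟨fun x y => ?_⟩⟩
      have h2 : x * y * x⁻¹ * y⁻¹ ∈ L 1 :=
        Subgroup.commutator_mem_commutator (Subgroup.mem_top x) (Subgroup.mem_top y)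
      rw [h1, Subgroup.mem_bot, mul_inv_eq_one, mul_inv_eq_iff_eq_mul] at h2
      exact h2
    have hle : Group.nilpotencyClass N ≤ Group.nilpotencyClass P - 1 := by
      rw [← Subgroup.lowerCentralSeries_eq_bot_iff_nilpotencyClass_le]
      refine (Subgroup.map_eq_bot_iff_of_injective _ N.subtype_injective).mp (le_bot_iff.mp ?_)
      obtain ⟨m, hm⟩ : ∃ m, Group.nilpotencyClass P = m + 2 := ⟨_, (Nat.sub_add_cancel hc).symm⟩
      rw [hm, show m + 2 - 1 = m + 1 from rfl]
      refine (hseries m).trans ?_
      rw [← hm]
      exact (Subgroup.lowerCentralSeries_eq_bot_iff_nilpotencyClass_le.mpr le_rfl).le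
    omega
  exact ⟨main E F hE hF hgen, main F E hF hE (sup_comm E F ▸ hgen)⟩

end Cfsg.Agent.S5067
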