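import Cfsg.Statements.S5069
import Cfsg.Agent.RootSubgroups.QuadComponents
-- import your own Cfsg.Agent.* helpers here

set_option autoImplicit false
universe u
open Cfsg

namespace Cfsg.Agent.S5069

/-- Let k be a field of characteristic not 2 with k not of order 3, M a finite-dimensional k-vector space and G ≤ GL(M) such that (G, M) is a quadratic pair (M irreducible for G, and G generated by its quadratically acting elements σ whose scalar family 1 + c(σ − 1), c ∈ k, lies in G). Write 𝒬_d for the quadratic elements of G of minimal commutator rank, E(σ) for the subgroup generated by the members of 𝒬_d with the same fixed space and commutator space as σ, and Σ for the set of these subgroups. Then Σ is a disjoint union of finitely many parts Σ₁, …, Σ_r such that the subgroups G_i generated by the Σ_i commute pairwise, each G_i is quasisimple, and inside G_i the members of Σ_i form a class of abstract root subgroups in which every rank one pair A, B contains subgroups A₀ ≤ A, B₀ ≤ B generating an image of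 SL₂(k₁) with central kernel on unitriangular subgroups for some field k₁ with at least four elements. -/
theorem result {k : Type u} [Field k] (hk2 : ringChar k ≠ 2) (hk3 : Nat.card k ≠ 3)
    {M : Type u} [AddCommGroup M] [Module k M] [FiniteDimensional k M]
    {G : Subgroup (LinearMap.GeneralLinearGroup k M)} (hG : Cfsg.IsQuadraticPair G) :
    ∃ (r : ℕ) (part : Fin r → Set (Subgroup (LinearMap.GeneralLinearGroup k M))),
      (⋃ i, part i) = Cfsg.quadraticRootSubgroups G ∧ (∀ i j, i ≠ j → Disjoint (part i) (part j)) ∧ (∀ i, (part i).Nonempty) ∧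
      (∀ i j, i ≠ j → ⁅(⨆ A ∈ part i, A), (⨆ A ∈ part j, A)⁆ = ⊥) ∧
      (∀ i, Cfsg.IsQuasisimple ↥(⨆ A ∈ part i, A) ∧
        Cfsg.IsRootSubgroupClass ((fun A : Subgroup (LinearMap.GeneralLinearGroup k M) => A.subgroupOf (⨆ B ∈ part i, B)) '' (part i)) ∧
        ∀ A ∈ part i, ∀ B ∈ Cfsg.rankOnePartners (part i) A, ∃ A₀ B₀ : Subgroup (LinearMap.GeneralLinearGroup k M), A₀ ≤ A ∧ B₀ ≤ B ∧
          ∃ (k₁ : Type u) (_ : Field k₁), 3 < ENat.card k₁ ∧ Cfsg.IsPSL2PairOver k₁ A₀ B₀) := by
  classical
  have hfin := CfsgLib.RootSubgroups.QuadPair.comp_finite hk2 hk3 (CfsgLib.RootSubgroups.QuadPair.reduced_of_irreducible hG.1)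
  obtain ⟨r, ⟨e⟩⟩ := Finite.exists_equiv_fin
    {P // ∃ A ∈ Cfsg.quadraticRootSubgroups G, P = CfsgLib.RootSubgroups.QuadPair.comp G A}
  refine ⟨r, fun i => (e.symm i).1, ?_, ?_, ?_, ?_, ?_⟩
  · ext B
    rw [Set.mem_iUnion]
    constructor
    · rintro ⟨i, hi⟩
      obtain ⟨A, hA, h⟩ := (e.symm i).2
      rw [h] at hi
      exact hi.1
    · intro hB
      exact ⟨e ⟨_, B, hB, rfl⟩, by
        rw [Equiv.symm_apply_apply]; exact CfsgLib.RootSubgroups.QuadPair.comp_self hB⟩
  · intro i j hij
    obtain ⟨A, hA, h⟩ := (e.symm i).2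
    obtain ⟨A', hA', h'⟩ := (e.symm j).2
    beta_reduce
    rw [h, h', Set.disjoint_left]
    intro B hi hj
    refine hij (e.symm.injective (Subtype.ext ?_))
    rw [h, h']
    exact CfsgLib.RootSubgroups.componentOf_eq_of_reach
      (hi.2.trans (CfsgLib.RootSubgroups.fReach_symm hj.2))
  · intro i
    obtain ⟨A, hA, h⟩ := (e.symm i).2
    exact ⟨A, by beta_reduce; rw [h]; exact CfsgLib.RootSubgroups.QuadPair.comp_self hA⟩
  · intro i j hij
    obtain ⟨A, hA, h⟩ := (e.symm i).2
    obtain ⟨A', hA', h'⟩ := (e.symm j).2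
    have hne : CfsgLib.RootSubgroups.QuadPair.comp G A ≠ CfsgLib.RootSubgroups.QuadPair.comp G A' :=
      fun he => hij (e.symm.injective (Subtype.ext (by rw [h, h', he])))
    beta_reduce
    rw [h, h']
    exact CfsgLib.RootSubgroups.QuadPair.comp_groups_commute hk2 hk3 (CfsgLib.RootSubgroups.QuadPair.reduced_of_irreducible hG.1) hne
  · intro i
    obtain ⟨A, hA, h⟩ := (e.symm i).2
    beta_reduce
    rw [h]
    refine ⟨CfsgLib.RootSubgroups.QuadPair.comp_quasisimple hk2 hk3 (CfsgLib.RootSubgroups.QuadPair.reduced_of_irreducible hG.1) hA,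
      CfsgLib.RootSubgroups.QuadPair.comp_root_class hk2 hk3 (CfsgLib.RootSubgroups.QuadPair.reduced_of_irreducible hG.1) hA, fun B hB C hC => ?_⟩
    exact CfsgLib.RootSubgroups.QuadPair.root_psl2 hk2 hk3 (CfsgLib.RootSubgroups.QuadPair.reduced_of_irreducible hG.1) hB.1 hC.1.1 hC.2

end Cfsg.Agent.S5069
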