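import Cfsg.Statements.S5075
import Cfsg.Agent.McLaughlinTV.Decomp

set_option autoImplicit false
set_option linter.style.haveILetI false
open Cfsg

namespace Cfsg.Agent.S5075

open Module CfsgLib.McLaughlinTV

theorem exists_pair {p : ℕ} [Fact p.Prime] {V : Type*} [AddCommGroup V] [Module (ZMod p) V]
    [Finite V] {t : V ≃ₗ[ZMod p] V} (hord : orderOf t = p)
    (hker : finrank (ZMod p) ↥(LinearMap.ker ((t : V →ₗ[ZMod p] V) - LinearMap.id)) + 1 =
        finrank (ZMod p) V) :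
    ∃ (v : V) (φ : Dual (ZMod p) V), φ v = 0 ∧ ∀ x, t x = x + φ x • v := by
  haveI : Module.Finite (ZMod p) V := Module.Finite.of_finite
  set f := (t : V →ₗ[ZMod p] V) - LinearMap.id with hf
  have h1 : finrank (ZMod p) (LinearMap.range f) = 1 := by
    have := LinearMap.finrank_range_add_finrank_ker f
    omega
  obtain ⟨⟨v, hv⟩, hv0, hspan⟩ := finrank_eq_one_iff'.mp h1
  have hv0' : v ≠ 0 := fun e => hv0 (Subtype.ext e)
  obtain ⟨μ, hμ⟩ : ∃ μ : Dual (ZMod p) V, μ v = 1 := by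
    obtain ⟨μ, hμ⟩ : ∃ μ : Dual (ZMod p) V, μ v ≠ 0 := by
      by_contra hno
      push Not at hno
      exact hv0' ((forall_dual_apply_eq_zero_iff (ZMod p) v).mp hno)
    exact ⟨(μ v)⁻¹ • μ, by simp [hμ]⟩
  have hx : ∀ x, t x = x + (μ ∘ₗ f) x • v := by
    intro x
    obtain ⟨c, hc⟩ := hspan ⟨f x, ⟨x, rfl⟩⟩
    have hc' : c • v = f x := congrArg Subtype.val hc
    rw [LinearMap.comp_apply, ← hc', map_smul, hμ, smul_eq_mul, mul_one, hc']
    simp [hf]
  refine ⟨v, μ ∘ₗ f, ?_, hx⟩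
  set a := (μ ∘ₗ f) v
  have hpow : ∀ k : ℕ, (t ^ k) v = (1 + a) ^ k • v := by
    intro k
    induction k with
    | zero => simp
    | succ k ih =>
      rw [pow_succ', LinearEquiv.mul_apply, ih, map_smul, hx, pow_succ, mul_smul, add_smul,
        one_smul]
  have := hpow p
  have ht : t ^ p = 1 := (congrArg (t ^ ·) hord).symm.trans (pow_orderOf_eq_one t)
  rw [ht, LinearEquiv.coe_one, id_eq, ZMod.pow_card] at this
  have h2 : a • v = 0 := by rwa [add_smul, one_smul, left_eq_add] at this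
  exact (smul_eq_zero.mp h2).resolve_right hv0'


/-- Let p be an odd prime, V a finite-dimensional vector space over the field with p elements, and H a group of linear automorphisms of V generated by transvections (elements of order p fixing a hyperplane pointwise) and having no nontrivial normal p-subgroup. Then for some n ≥ 1 there are a decomposition V = V₀ ⊕ V₁ ⊕ ⋯ ⊕ Vₙ into H-invariant subspaces and a decomposition of H as the internal direct product of normal subgroups H₁, …, Hₙ such that Hⱼ acts trivially on every Vᵢ with i ≠ j, and Hⱼ induces on Vⱼ exactly the special linear group of Vⱼ or exactly the isometry group of a non-degenerate alternating form on Vⱼ. -/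
theorem result {p : ℕ} [Fact p.Prime] (hp : Odd p) {V : Type*} [AddCommGroup V] [Module (ZMod p) V] [Finite V]
    (H : Subgroup (V ≃ₗ[ZMod p] V)) (T : Set (V ≃ₗ[ZMod p] V)) (hHT : H = Subgroup.closure T)
    (hT : ∀ t ∈ T, orderOf t = p ∧
      Module.finrank (ZMod p) ↥(LinearMap.ker ((t : V →ₗ[ZMod p] V) - LinearMap.id)) + 1 =
        Module.finrank (ZMod p) V)
    (hOp : Cfsg.pCore p ↥H = ⊥) :
    ∃ (n : ℕ) (W : Fin (n + 1) → Submodule (ZMod p) V) (K : Fin n → Subgroup (V ≃ₗ[ZMod p] V)),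
      1 ≤ n ∧ DirectSum.IsInternal W ∧
      (∀ h ∈ H, ∀ i, (W i).map (h : V →ₗ[ZMod p] V) = W i) ∧
      (∀ j, K j ≤ H ∧ ((K j).subgroupOf H).Normal) ∧ ⨆ j, K j = H ∧
      (∀ j, K j ⊓ (⨆ j' ∈ {j' : Fin n | j' ≠ j}, K j') = ⊥) ∧
      (∀ j j', j ≠ j' → ∀ a ∈ K j, ∀ b ∈ K j', a * b = b * a) ∧
      (∀ j, ∀ h ∈ K j, ∀ i : Fin (n + 1), i ≠ j.succ → ∀ v ∈ W i, h v = v) ∧
      (∀ j, ∃ ρ : ↥(K j) →* (↥(W j.succ) ≃ₗ[ZMod p] ↥(W j.succ)),
        (∀ (h : ↥(K j)) (v : ↥(W j.succ)), ((ρ h v : ↥(W j.succ)) : V) = (h : V ≃ₗ[ZMod p] V) (v : V)) ∧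
        ((ρ.range : Set (↥(W j.succ) ≃ₗ[ZMod p] ↥(W j.succ))) =
            {f : ↥(W j.succ) ≃ₗ[ZMod p] ↥(W j.succ) | LinearMap.det (f : ↥(W j.succ) →ₗ[ZMod p] ↥(W j.succ)) = 1} ∨
          ∃ B : LinearMap.BilinForm (ZMod p) ↥(W j.succ), B.IsAlt ∧ B.Nondegenerate ∧
            (ρ.range : Set (↥(W j.succ) ≃ₗ[ZMod p] ↥(W j.succ))) = {f : ↥(W j.succ) ≃ₗ[ZMod p] ↥(W j.succ) | ∀ x y, B (f x) (f y) = B x y})) := by
  classical
  haveI : Module.Finite (ZMod p) V := Module.Finite.of_finite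
  haveI : Finite (V ≃ₗ[ZMod p] V) := Finite.of_injective _ DFunLike.coe_injective
  have hp2 : p ≠ 2 := fun e => absurd hp (by rw [e]; decide)
  have hgen : Gen H := by
    refine ⟨hp2, ?_, fun N hN hnorm hexp => ?_⟩
    · conv_lhs => rw [hHT]
      refine Subgroup.closure_mono fun t ht => ?_
      obtain ⟨v, φ, h0, hx⟩ := exists_pair (hT t ht).1 (hT t ht).2
      exact ⟨v, φ, ⟨h0, t, hHT ▸ Subgroup.subset_closure ht, hx⟩, hx⟩
    · have hle : N.subgroupOf H ≤ Cfsg.pCore p ↥H := by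
        refine le_sSup ⟨⟨fun n hn g => hnorm g g.2 n hn⟩, fun n => ⟨1, ?_⟩⟩
        refine Subtype.ext (Subtype.ext ?_)
        simpa using hexp n n.2
      rw [hOp, le_bot_iff, Subgroup.subgroupOf_eq_bot] at hle
      exact disjoint_self.mp (hle.mono_right hN)
  obtain ⟨n, W, K, hn, hKH, hHK, hcomm, hfix, hinv, htop, hdim, hcl⟩ :
      ∃ (n : ℕ) (W : Fin n → Submodule (ZMod p) V) (K : Fin n → Subgroup (V ≃ₗ[ZMod p] V)),
        1 ≤ n ∧ (∀ j, K j ≤ H) ∧ H ≤ ⨆ j, K j ∧
        (∀ i j, i ≠ j → ∀ a ∈ K i, ∀ b ∈ K j, Commute a b) ∧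
        (∀ i j, i ≠ j → ∀ a ∈ K j, ∀ x ∈ W i, a x = x) ∧
        (∀ j, ∀ a ∈ K j, ∀ x ∈ W j, a x ∈ W j) ∧
        fixed H ⊔ (⨆ j, W j) = ⊤ ∧
        finrank (ZMod p) (fixed H) + ∑ j, finrank (ZMod p) (W j) = finrank (ZMod p) V ∧
        ∀ j, IsClassical (K j) (W j) := by
    obtain ⟨n, W, K, hKH, hHK, hcomm, hfix, hinv, -, htop, hdim, hcl⟩ := decomp hgen
    rcases Nat.eq_zero_or_pos n with rfl | hpos
    · refine ⟨1, fun _ => ⊥, fun _ => ⊥, le_rfl, fun _ => bot_le, hHK.trans (iSup_le fun j => j.elim0),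
        fun i j h => absurd (Subsingleton.elim i j) h, fun i j h => absurd (Subsingleton.elim i j) h,
        fun j a _ x hx => by rw [(Submodule.mem_bot _).mp hx, map_zero]; exact zero_mem _, ?_, ?_,
        fun j => ?_⟩
      · rw [iSup_of_empty, sup_bot_eq] at htop
        rw [htop, top_sup_eq]
      · simpa using hdim
      · refine ⟨1, fun h v => ?_, Or.inl (Set.ext fun f => ⟨fun _ => ?_, fun _ => ?_⟩)⟩
        · rw [show v = 0 from Subsingleton.elim _ _, map_zero, Submodule.coe_zero, map_zero]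
        · show LinearMap.det (f : ↥(⊥ : Submodule (ZMod p) V) →ₗ[ZMod p] _) = 1
          rw [show (f : ↥(⊥ : Submodule (ZMod p) V) →ₗ[ZMod p] _) = LinearMap.id from
            LinearMap.ext fun v => Subsingleton.elim _ _, LinearMap.det_id]
        · exact ⟨1, LinearEquiv.ext fun v => Subsingleton.elim _ _⟩
    · exact ⟨n, W, K, hpos, hKH, hHK, hcomm, hfix, hinv, htop, hdim, hcl⟩
  have hstab : ∀ i, H ≤ stab' (W i) := fun i => hHK.trans (iSup_le fun j a ha => by
    have key : ∀ b ∈ K j, ∀ x ∈ W i, b x ∈ W i := fun b hb x hx => by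
      by_cases hij : i = j
      · subst hij; exact hinv i b hb x hx
      · rw [hfix i j hij b hb x hx]; exact hx
    exact ⟨key a ha, key a⁻¹ (inv_mem ha)⟩)
  refine ⟨n, Fin.cons (fixed H) W, K, hn, ?_, ?_, fun j => ⟨hKH j, ⟨fun k hk g => ?_⟩⟩,
    le_antisymm (iSup_le hKH) hHK, fun j => ?_, fun j j' h a ha b hb => (hcomm j j' h a ha b hb).eq,
    fun j a ha i hi v hv => ?_, fun j => hcl j⟩
  · have hsurj : Function.Surjective (DirectSum.coeLinearMap (Fin.cons (fixed H) W)) := by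
      rw [← LinearMap.range_eq_top, DirectSum.range_coeLinearMap, eq_top_iff, ← htop]
      exact sup_le (le_iSup_of_le 0 le_rfl) (iSup_le fun j => le_iSup_of_le j.succ le_rfl)
    have hd : finrank (ZMod p) (DirectSum (Fin (n + 1))
        fun i => ↥((Fin.cons (fixed H) W : Fin (n + 1) → Submodule (ZMod p) V) i)) =
        finrank (ZMod p) V := by
      rw [Module.finrank_directSum, Fin.sum_univ_succ]
      exact hdim
    exact ⟨(LinearMap.injective_iff_surjective_of_finrank_eq_finrank hd).mpr hsurj, hsurj⟩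
  · intro h hh i
    have key : H ≤ stab' ((Fin.cons (fixed H) W : Fin (n + 1) → Submodule (ZMod p) V) i) := by
      refine Fin.cases ?_ (fun j => ?_) i
      · exact fun g hg => ⟨fun x hx => by rw [hx g hg]; exact hx,
          fun x hx => by
            show g⁻¹ x ∈ _
            rw [hx g⁻¹ (inv_mem hg)]; exact hx⟩
      · exact hstab j
    apply le_antisymm
    · rintro _ ⟨x, hx, rfl⟩
      exact (key hh).1 x hx
    · exact fun x hx => ⟨h.symm x, (key hh).2 x hx, h.apply_symm_apply x⟩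
  · have : H ≤ Subgroup.normalizer (K j : Set (V ≃ₗ[ZMod p] V)) := by
      refine hHK.trans (iSup_le fun i => ?_)
      by_cases hij : i = j
      · subst hij; exact Subgroup.le_normalizer
      · refine le_trans (fun a ha => ?_) (Subgroup.centralizer_le_normalizer _)
        exact Subgroup.mem_centralizer_iff.mpr fun b hb => (hcomm j i (Ne.symm hij) b hb a ha).eq
    exact (Subgroup.mem_normalizer_iff.mp (this g.2) k).mp hk
  · rw [Subgroup.eq_bot_iff_forall]
    rintro x ⟨hxj, hxo⟩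
    have h1 : ⨆ j' ∈ {j' : Fin n | j' ≠ j}, K j' ≤ pointwise' (W j) :=
      iSup₂_le fun j' hj' a ha y hy => hfix j j' (Ne.symm hj') a ha y hy
    have h2 : fixed H ⊔ ⨆ i, W i ≤ LinearMap.ker ((x : V →ₗ[ZMod p] V) - LinearMap.id) := by
      refine sup_le (fun y hy => ?_) (iSup_le fun i y hy => ?_)
      · simpa [sub_eq_zero] using hy x (hKH j hxj)
      · by_cases hij : i = j
        · subst hij; simpa [sub_eq_zero] using h1 hxo y hy
        · simpa [sub_eq_zero] using hfix i j hij x hxj y hy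
    rw [htop] at h2
    exact LinearEquiv.ext fun y => by simpa [sub_eq_zero] using h2 (Submodule.mem_top (x := y))
  · rcases Fin.eq_zero_or_eq_succ i with rfl | ⟨i', rfl⟩
    · exact hv a (hKH j ha)
    · exact hfix i' j (fun e => hi (by rw [e])) a ha v hv

end Cfsg.Agent.S5075
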