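import Cfsg.Statements.S5083
import Cfsg.Agent.Fusion.Alperin
import Cfsg.Agent.Fusion.Systems

set_option autoImplicit false
open Cfsg

namespace Cfsg.Agent.S5083

/-- If F is a saturated fusion system over a finite p-group S in which Aut_F(P) is a p-group for every P ≤ S, then F is the inner fusion system of S (all its maps are conjugations by elements of S). -/
theorem result {Ω : Type*} [Group Ω] {S : Subgroup Ω} [Finite S] (p : ℕ) [Fact p.Prime] (hS : IsPGroup p S) (F : Cfsg.FusionSystem S) (hF : F.IsSaturated p) (h : ∀ P : Subgroup Ω, P ≤ S → IsPGroup p (F.autGroup P)) : F = Cfsg.innerFusionSystem S := by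
  have hle : F ≤ Cfsg.innerFusionSystem S := by
    refine CfsgLib.Fusion.le_of_essential hS hF fun P hP α hα => ?_
    rcases hP with hPS | hess
    · subst hPS
      have hA := (CfsgLib.Fusion.automized_receptive hS hF
        CfsgLib.Fusion.isFullyNormalized_self).1
      rw [CfsgLib.Fusion.eq_autInducedBy_of_le hA le_rfl (h P le_rfl)
        (CfsgLib.Fusion.autInducedBy_le_autGroup le_rfl)] at hα
      exact CfsgLib.Fusion.autInducedBy_le_autGroup le_rfl hα
    · exfalso
      obtain ⟨hc, -, hn, Y, hY⟩ := hess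
      haveI := CfsgLib.Fusion.finite_of_le hc.1
      have hp : IsPGroup p (F.autGroup P ⧸ (Cfsg.Inn P).subgroupOf (F.autGroup P)) :=
        (h P hc.1).to_quotient _
      have h1 := CfsgLib.Fusion.eq_bot_of_isStronglyPEmbedded hY (N := ⊤)
        (hp.of_equiv Subgroup.topEquiv.symm)
      have h2 := hY.1
      rw [← Subgroup.card_top, h1, Subgroup.card_bot] at h2
      exact (Fact.out : p.Prime).ne_one (Nat.dvd_one.1 h2)
  refine CfsgLib.Fusion.fusionSystem_ext fun P => Set.Subset.antisymm (hle P) ?_
  rintro φ ⟨hP, g, hg, hgφ⟩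
  exact CfsgLib.Fusion.conj_mem' hP hg hgφ

end Cfsg.Agent.S5083
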