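import Cfsg.Statements.S5087
import Cfsg.Agent.Fusion.NormalSubgroup

set_option autoImplicit false
open Cfsg

namespace Cfsg.Agent.S5087

/-- In a saturated fusion system over a finite p-group S, a subgroup Q is normal in the system if and only if every subgroup P that equals S or is essential contains Q and every element of Aut_F(P) maps Q onto itself. -/
theorem result {Ω : Type*} [Group Ω] {S : Subgroup Ω} [Finite S] (p : ℕ) [Fact p.Prime] (hS : IsPGroup p S) (F : Cfsg.FusionSystem S) (hF : F.IsSaturated p) (Q : Subgroup Ω) : F.IsNormal Q ↔ ∀ P : Subgroup Ω, (P = S ∨ F.IsEssential p P) → (Q ≤ P ∧ ∀ α ∈ F.autGroup P, (Q.subgroupOf P).map α.toMonoidHom = Q.subgroupOf P) := by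
  refine ⟨fun hQ P hP => ⟨?_, fun α hα => ?_⟩,
    fun h => CfsgLib.Fusion.isNormal_of_essential hS hF ((h S (Or.inl rfl)).1) fun P hP =>
      ⟨(h P hP).1, fun α hα x hx => ?_⟩⟩
  · rcases hP with rfl | hess
    · exact hQ.1
    · exact CfsgLib.Fusion.le_of_normal_of_radical hS hQ hess.1
        (CfsgLib.Fusion.isRadical_of_essential hS hess)
  · have hsc := CfsgLib.Fusion.stronglyClosed_of_normal hQ
    ext x
    obtain ⟨z, rfl⟩ := α.surjective x
    show α z ∈ (Q.subgroupOf P).map α.toMonoidHom ↔ α z ∈ Q.subgroupOf P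
    rw [Subgroup.mem_subgroupOf, CfsgLib.Fusion.stronglyClosed_aut_iff hsc hα]
    exact Subgroup.mem_map_iff_mem α.injective
  · have h1 : α x ∈ (Q.subgroupOf P).map α.toMonoidHom := ⟨x, hx, rfl⟩
    rw [(h P hP).2 α hα] at h1
    exact h1

end Cfsg.Agent.S5087
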