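import Cfsg.Statements.S5089
import Cfsg.Agent.Fusion.NormalSubgroup

set_option autoImplicit false
open Cfsg

namespace Cfsg.Agent.S5089

/-- A saturated fusion system over a finite p-group has a nontrivial subgroup that is normal in the system (O_p(F) ≠ 1) if and only if some nontrivial abelian subgroup is strongly closed in the system. -/
theorem result {Ω : Type*} [Group Ω] {S : Subgroup Ω} [Finite S] (p : ℕ) [Fact p.Prime] (hS : IsPGroup p S) (F : Cfsg.FusionSystem S) (hF : F.IsSaturated p) : F.core ≠ ⊥ ↔ ∃ Q : Subgroup Ω, Q ≠ ⊥ ∧ IsMulCommutative Q ∧ F.StronglyClosed Q := by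
  constructor
  · intro hcore
    obtain ⟨Q, hQ, hQne⟩ : ∃ Q, F.IsNormal Q ∧ Q ≠ ⊥ := by
      by_contra hno
      push Not at hno
      exact hcore (le_bot_iff.1 (sSup_le fun Q hQ => (hno Q hQ).le))
    haveI := CfsgLib.Fusion.finite_of_le hQ.1
    haveI : Nontrivial Q := (Subgroup.nontrivial_iff_ne_bot Q).2 hQne
    refine ⟨(Subgroup.center Q).map Q.subtype, ?_, ?_,
      CfsgLib.Fusion.stronglyClosed_of_normal (CfsgLib.Fusion.isNormal_of_characteristic hQ
        (Subgroup.map_subtype_le _) ?_)⟩
    · rw [ne_eq, Subgroup.map_eq_bot_iff_of_injective _ Q.subtype_injective]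
      exact (Subgroup.nontrivial_iff_ne_bot _).1 (hS.to_le hQ.1).center_nontrivial
    · exact inferInstance
    · rw [Subgroup.subgroupOf, Subgroup.comap_map_eq_self_of_injective Q.subtype_injective]
      infer_instance
  · rintro ⟨Q, hQne, hab, hQ⟩ hcore
    exact hQne (le_bot_iff.1
      (hcore ▸ le_sSup (CfsgLib.Fusion.isNormal_of_abelian hS hF hQ hab)))

end Cfsg.Agent.S5089
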