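import Cfsg.Statements.S5103
import Cfsg.Agent.Fusion.NormalSubgroup

set_option autoImplicit false
open Cfsg

namespace Cfsg.Agent.S5103

/-- A fusion system over a finite p-group that has a model (a finite group realizing it on a Sylow p-subgroup with self-centralizing largest normal p-subgroup) is constrained. -/
theorem result {Ω : Type*} [Group Ω] {S : Subgroup Ω} [Finite S] (p : ℕ) [Fact p.Prime] (hS : IsPGroup p S) (F : Cfsg.FusionSystem S) {G : Type*} [Group G] (ι : S →* G) (hG : F.IsModel p G ι) : F.IsConstrained p := by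
  obtain ⟨hfin, hF, ⟨T, hT⟩, hC⟩ := hG
  have hle : Cfsg.pCore p G ≤ ι.range := hT ▸ CfsgLib.PLocal.pCore_le_sylow T
  haveI hn : (Cfsg.pCore p G).Normal := Subgroup.sSup_normal _ fun N hN => hN.1
  obtain ⟨Q, hQS, hQ⟩ := CfsgLib.Fusion.exists_im_eq hle
  refine ⟨CfsgLib.Fusion.isSaturated_of_realized hF T hT, Q,
    CfsgLib.Fusion.isNormal_of_realized hF hQS (hQ.symm ▸ hn), hQS, fun R hR => ?_⟩
  obtain ⟨-, hRS, g, hg⟩ := (CfsgLib.Fusion.isConj_iff_conj hF).1 hR
  have e : (Cfsg.pCore p G).map (MulAut.conj g).toMonoidHom = Cfsg.pCore p G :=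
    Subgroup.mem_normalizer_iff_map_conj_eq.1 (by rw [Subgroup.normalizer_eq_top]; trivial)
  rw [hQ, e] at hg
  intro c hc
  have h1 : ι ⟨c, hc.1⟩ ∈ CfsgLib.Fusion.im ι (Cfsg.FusionSystem.centralizerIn S R) :=
    ⟨⟨c, hc.1⟩, hc, rfl⟩
  rw [CfsgLib.Fusion.im_centralizerIn hF.1 hRS, ← hg] at h1
  have h2 := hC (Subgroup.mem_inf.1 h1).2
  rw [hg] at h2
  exact (CfsgLib.Fusion.apply_mem_im_iff hF.1).1 h2

end Cfsg.Agent.S5103
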