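import Cfsg.Statements.S5106
import Cfsg.Agent.Fusion.NormalSubgroup

set_option autoImplicit false
open Cfsg

namespace Cfsg.Agent.S5106

/-- In a saturated fusion system over a finite p-group S, a subgroup R ≤ S is normal in the system if and only if every map of the system whose source is a subgroup of R is the restriction of an element of Aut_F(R). -/
theorem result {Ω : Type*} [Group Ω] {S : Subgroup Ω} [Finite S] (p : ℕ) [Fact p.Prime] (hS : IsPGroup p S) (F : Cfsg.FusionSystem S) (hF : F.IsSaturated p) (R : Subgroup Ω) (hRS : R ≤ S) : F.IsNormal R ↔ ∀ (P : Subgroup Ω) (hPR : P ≤ R) (φ : P →* Ω), φ ∈ F.Hom P → ∃ α ∈ F.autGroup R, ∀ x : P, ((α (Subgroup.inclusion hPR x) : R) : Ω) = φ x := by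
  constructor
  · intro hR P hPR φ hφ
    obtain ⟨ψ, hψ, h1, h2⟩ := CfsgLib.Fusion.exists_normal_extension hR hφ
    obtain ⟨α, hα, hαψ⟩ := CfsgLib.Fusion.exists_iso
      (CfsgLib.Fusion.restrict_mem hψ (le_sup_right : R ≤ P ⊔ R))
      ((CfsgLib.Fusion.range_restrictHom ψ _).trans h2)
    exact ⟨α, (CfsgLib.Fusion.mem_autGroup_iff hRS).2 hα,
      fun x => (hαψ _).trans (h1 x)⟩
  · intro h
    refine CfsgLib.Fusion.isNormal_of_lowerCentralSeries hS hF hRS fun U hU hchar =>
      ⟨hU.trans hRS, fun P hP φ hφ x => ?_⟩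
    obtain ⟨α, -, hαφ⟩ := h P (hP.trans hU) φ hφ
    rw [← hαφ x]
    have h1 : Subgroup.inclusion (hP.trans hU) x ∈ U.subgroupOf R := hP x.2
    rw [← hchar.fixed α] at h1
    exact h1

end Cfsg.Agent.S5106
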