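import Cfsg.Statements.S5107
import Cfsg.Agent.Fusion.NormalSubgroup

set_option autoImplicit false
open Cfsg

namespace Cfsg.Agent.S5107

/-- If a Sylow p-subgroup S of a finite group G has nilpotency class at most two and its centre is strongly closed in S with respect to G, then every map of the fusion system of G on S is conjugation by an element of N_G(S), and S is the largest subgroup normal in that fusion system. -/
theorem result {G : Type*} [Group G] [Finite G] (p : ℕ) [Fact p.Prime] (S : Sylow p G) (hcl : ⁅(S : Subgroup G), (S : Subgroup G)⁆ ≤ (S : Subgroup G) ⊓ Subgroup.centralizer ((S : Subgroup G) : Set G)) (hZ : Cfsg.IsStronglyClosed ((S : Subgroup G) ⊓ Subgroup.centralizer ((S : Subgroup G) : Set G)) (S : Subgroup G)) : (∀ (P : Subgroup G) (φ : P →* G), φ ∈ (Cfsg.groupFusionSystem (S : Subgroup G)).Hom P → ∃ g ∈ Subgroup.normalizer ((S : Subgroup G) : Set G), ∀ x : P, φ x = g * (x : G) * g⁻¹) ∧ (Cfsg.groupFusionSystem (S : Subgroup G)).core = S := by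
  have hF := CfsgLib.Fusion.isSaturated_groupFusion S
  have hscS : (Cfsg.groupFusionSystem (S : Subgroup G)).StronglyClosed (S : Subgroup G) :=
    ⟨le_rfl, fun _ _ φ hφ x => CfsgLib.Fusion.apply_mem hφ x⟩
  have hscZ : (Cfsg.groupFusionSystem (S : Subgroup G)).StronglyClosed
      ((S : Subgroup G) ⊓ Subgroup.centralizer ((S : Subgroup G) : Set G)) := by
    refine ⟨inf_le_left, fun R hR φ hφ x => ?_⟩
    obtain ⟨-, hφS, g, hg⟩ := hφ
    rw [hg x]
    exact hZ.2 _ (hR x.2) g (hg x ▸ hφS x)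
  have hn : (Cfsg.groupFusionSystem (S : Subgroup G)).IsNormal (S : Subgroup G) := by
    refine (CfsgLib.Fusion.isNormal_iff_series S.isPGroup' hF).2
      ⟨2, ![⊥, (S : Subgroup G) ⊓ Subgroup.centralizer ((S : Subgroup G) : Set G), S], rfl, rfl,
        ?_, fun i => ?_⟩
    · intro i j hij
      fin_cases i <;> fin_cases j <;> simp_all
    · fin_cases i
      · refine ⟨hscZ, ?_⟩
        show ⁅(S : Subgroup G), _⁆ ≤ (⊥ : Subgroup G)
        rw [le_bot_iff, Subgroup.commutator_comm, Subgroup.commutator_eq_bot_iff_le_centralizer]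
        exact inf_le_right
      · exact ⟨hscS, hcl⟩
  refine ⟨fun P φ hφ => ?_, le_antisymm (sSup_le fun Q hQ => hQ.1) (le_sSup hn)⟩
  obtain ⟨ψ, hψ, h1, h2⟩ := CfsgLib.Fusion.exists_normal_extension hn hφ
  obtain ⟨-, hψS, g, hg⟩ := hψ
  refine ⟨g, Subgroup.mem_normalizer_fintype fun s hs => ?_, fun x => (h1 x).symm.trans (hg _)⟩
  exact hg ⟨s, Subgroup.mem_sup_right hs⟩ ▸ hψS _

end Cfsg.Agent.S5107
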