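import Cfsg.Statements.S5109
import Cfsg.Agent.FusionQd.Consumers
import Cfsg.Agent.S0665
import Cfsg.Agent.S2759

open CfsgLib.FusionQd CfsgLib.Fusion in
universe u in
theorem Cfsg.Agent.S5109.isSectionFree_of_autGroup {Ω : Type u} [Group Ω] {S : Subgroup Ω}
    {F : Cfsg.FusionSystem S}
    (h3 : ∀ U : Subgroup Ω, U ≤ S → ¬ Cfsg.Involves (Equiv.Perm (Fin 3)) ↥(F.autGroup U)) :
    F.IsSectionFree 2 (Equiv.Perm (Fin 4)) := by
  intro Q _ _ N hN L _ ι ⟨hfin, hr, ⟨P₀, hP₀⟩, _⟩ h4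
  haveI := hfin
  haveI : Fact (Nat.Prime 2) := ⟨Nat.prime_two⟩
  obtain ⟨T, hT, hinv⟩ := Cfsg.Agent.S2759.result.1 h4
  obtain ⟨P, hP⟩ := hT.exists_le_sylow
  obtain ⟨g, hg⟩ := MulAction.exists_smul_eq L P P₀
  -- transport T into the image of the model
  have hrange : ∀ t ∈ T, g * t * g⁻¹ ∈ ι.range := fun t ht => by
    rw [← hP₀, ← hg, Sylow.coe_subgroup_smul]
    exact Subgroup.smul_mem_pointwise_smul t (MulAut.conj g) _ (hP ht)
  let c : ↥(Cfsg.FusionSystem.normalizerIn S Q) →* L :=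
    ((MulAut.conj g⁻¹).toMonoidHom).comp ι
  have hc : Function.Injective c := (MulAut.conj g⁻¹).injective.comp hr.1
  have hTc : ∀ t ∈ T, ∃ x, c x = t := fun t ht => by
    obtain ⟨x, hx⟩ := hrange t ht
    exact ⟨x, by show g⁻¹ * ι x * g⁻¹⁻¹ = t; rw [hx]; group⟩
  let U : Subgroup Ω := (T.comap c).map (Cfsg.FusionSystem.normalizerIn S Q).subtype
  have hUN : U ≤ Cfsg.FusionSystem.normalizerIn S Q := Subgroup.map_subtype_le _
  have hUc : ∀ x : U, c ⟨x, hUN x.2⟩ ∈ T := fun x => by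
    obtain ⟨y, hy, hyx⟩ := x.2
    rwa [show (⟨(x : Ω), hUN x.2⟩ : ↥(Cfsg.FusionSystem.normalizerIn S Q)) = y from Subtype.ext hyx.symm]
  let e₀ : U →* T := MonoidHom.mk' (fun x => ⟨c ⟨x, hUN x.2⟩, hUc x⟩) fun x y =>
    Subtype.ext (c.map_mul ⟨x, hUN x.2⟩ ⟨y, hUN y.2⟩)
  have he₀ : Function.Bijective e₀ := by
    refine ⟨fun x y h => Subtype.ext (congrArg Subtype.val (hc (congrArg Subtype.val h :)) :), fun t => ?_⟩
    obtain ⟨x, hx⟩ := hTc t t.2
    exact ⟨⟨x, x, show c x ∈ T from hx.symm ▸ t.2, rfl⟩, Subtype.ext hx⟩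
  let e : U ≃* T := MulEquiv.ofBijective e₀ he₀
  let θ : ↥(Subgroup.normalizer (T : Set L)) →* MulAut U :=
    (MulAut.congr e.symm).toMonoidHom.comp T.normalizerMonoidHom
  have hθ : θ.range ≤ F.autGroup U := by
    rintro _ ⟨n, rfl⟩
    refine Subgroup.subset_closure ?_
    have hval : ∀ x : U, (U.subtype.comp (θ n).toMonoidHom) x ∈ Cfsg.FusionSystem.normalizerIn S Q :=
      fun x => hUN (θ n x).2
    have hmem := (hr.2 U hUN (U.subtype.comp (θ n).toMonoidHom) hval).2 ⟨g * n * g⁻¹, fun x => ?_⟩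
    · rw [hN] at hmem
      exact hmem.1
    · have h1 : e (θ n x) = T.normalizerMonoidHom n (e x) := e.apply_symm_apply _
      have h2 : g⁻¹ * ι ⟨((θ n x : U) : Ω), hUN (θ n x).2⟩ * g⁻¹⁻¹ =
          (n : L) * (g⁻¹ * ι ⟨(x : Ω), hUN x.2⟩ * g⁻¹⁻¹) * (n : L)⁻¹ := congrArg Subtype.val h1
      calc ι ⟨_, hval x⟩ = ι ⟨((θ n x : U) : Ω), hUN (θ n x).2⟩ := rfl
        _ = g * (g⁻¹ * ι ⟨((θ n x : U) : Ω), hUN (θ n x).2⟩ * g⁻¹⁻¹) * g⁻¹ := by group
        _ = _ := by rw [h2]; group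
  have hker : θ.ker = (Subgroup.centralizer (T : Set L)).subgroupOf (Subgroup.normalizer (T : Set L)) := by
    rw [← T.normalizerMonoidHom_ker]
    exact MonoidHom.ker_comp_of_injective _ _ (MulAut.congr e.symm).injective
  refine h3 U (hUN.trans inf_le_left) ?_
  refine CfsgLib.ConjFunctor.involves_trans (CfsgLib.ConjFunctor.involves_trans (H := ↥(θ.range.subgroupOf (F.autGroup U))) ?_ ?_) hinv
  · exact CfsgLib.ConjFunctor.involves_subgroup (θ.range.subgroupOf (F.autGroup U))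
  · exact CfsgLib.ConjFunctor.involves_equiv
      ((Subgroup.subgroupOfEquivOfLe hθ).trans
        ((QuotientGroup.quotientKerEquivRange θ).symm.trans (QuotientGroup.quotientMulEquivOfEq hker)))

set_option autoImplicit false
open Cfsg CfsgLib.ConjFunctor

namespace Cfsg.Agent.S5109

/-- A saturated fusion system over a finite 2-group S in which no automorphism group Aut_F(U), U ≤ S, has a section isomorphic to the symmetric group of degree 3 is constrained. -/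
theorem result {Ω : Type*} [Group Ω] {S : Subgroup Ω} [Finite S] (hS : IsPGroup 2 S) (F : Cfsg.FusionSystem S) (hF : F.IsSaturated 2) (h3 : ∀ U : Subgroup Ω, U ≤ S → ¬ Cfsg.Involves (Equiv.Perm (Fin 3)) ↥(F.autGroup U)) : F.IsConstrained 2 := by
  haveI : Fact (Nat.Prime 2) := ⟨Nat.prime_two⟩
  have h : CfsgLib.FusionQd.TwoCharExists := fun _ _ _ _ hT => Cfsg.Agent.S0665.result hT
  exact CfsgLib.FusionQd.isConstrained_of_free (CfsgLib.FusionQd.isoInvariant_two h)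
    (CfsgLib.FusionQd.two_ne_bot h) (CfsgLib.FusionQd.normalInFreeGroups_two h) _ rfl hS F hF
    (Cfsg.Agent.S5109.isSectionFree_of_autGroup h3)

end Cfsg.Agent.S5109
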