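import Cfsg.Statements.S5112
import Cfsg.Agent.S3116
import Cfsg.Agent.FusionSub.PSLTwo

set_option autoImplicit false
open Cfsg

namespace Cfsg.Agent.S5112

/-- If S is a dihedral or generalized quaternion 2-group of order at least 16, then in every saturated fusion system over S (at the prime 2) the automorphism group Aut_F(S) consists of the inner automorphisms of S. -/
theorem result {Ω : Type*} [Group Ω] {S : Subgroup Ω} [Finite S] (n : ℕ) (hn : 4 ≤ n) (hshape : Nonempty (S ≃* DihedralGroup (2 ^ (n - 1))) ∨ Nonempty (S ≃* QuaternionGroup (2 ^ (n - 2)))) (F : Cfsg.FusionSystem S) (hF : F.IsSaturated 2) : F.autGroup S = Cfsg.Inn S := by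
  haveI : Fact (Nat.Prime 2) := ⟨Nat.prime_two⟩
  obtain ⟨m, rfl⟩ : ∃ m, n = m + 4 := ⟨n - 4, by omega⟩
  have key : ∀ {X : Type} [Group X] [Finite X] (e : S ≃* X), Nat.card X = 2 ^ (m + 4) →
      IsPGroup 2 (MulAut X) → IsPGroup 2 S ∧ IsPGroup 2 (MulAut S) := fun {X} _ _ e hc h =>
    ⟨IsPGroup.of_card (n := m + 4) ((Nat.card_congr e.toEquiv).trans hc),
      h.of_equiv (MulAut.congr e.symm)⟩
  have h2 : IsPGroup 2 S ∧ IsPGroup 2 (MulAut S) := by
    rcases hshape with ⟨⟨e⟩⟩ | ⟨⟨e⟩⟩
    · haveI : NeZero (2 ^ (m + 4 - 1)) := ⟨by positivity⟩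
      have hc : Nat.card (DihedralGroup (2 ^ (m + 4 - 1))) = 2 ^ (m + 4) := by
        rw [DihedralGroup.nat_card, show m + 4 - 1 = m + 3 by omega]; ring
      refine key e hc ?_
      refine Cfsg.Agent.S3116.aut_two_group (x := DihedralGroup.r 1) (y := DihedralGroup.sr 0)
        (n := m + 3) ?_ ?_ hc ?_
      · rw [DihedralGroup.orderOf_r_one]; rfl
      · rintro ⟨i, hi⟩
        simp only [DihedralGroup.r_one_zpow] at hi
        exact absurd hi (by simp)
      · intro g hg
        cases g with
        | r j =>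
          refine absurd ⟨(j.val : ℤ), ?_⟩ hg
          simp [DihedralGroup.r_one_pow, ZMod.natCast_zmod_val]
        | sr j =>
          have h : DihedralGroup.sr j ^ 2 = 1 := by rw [sq, DihedralGroup.sr_mul_self]
          rw [show 2 ^ (m + 3 - 1) = 2 * 2 ^ (m + 1) by rw [show m + 3 - 1 = m + 1 + 1 by omega]; ring,
            pow_mul, h, one_pow]
    · haveI : NeZero (2 ^ (m + 4 - 2)) := ⟨by positivity⟩
      have hc : Nat.card (QuaternionGroup (2 ^ (m + 4 - 2))) = 2 ^ (m + 4) := by
        rw [Nat.card_eq_fintype_card, QuaternionGroup.card, show m + 4 - 2 = m + 2 by omega]; ring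
      refine key e hc ?_
      refine Cfsg.Agent.S3116.aut_two_group (x := QuaternionGroup.a 1) (y := QuaternionGroup.xa 0)
        (n := m + 3) ?_ ?_ hc ?_
      · rw [QuaternionGroup.orderOf_a_one, show m + 4 - 2 = m + 2 by omega]; ring
      · intro hy
        have hc' : QuaternionGroup.a (n := 2 ^ (m + 4 - 2)) 1 * QuaternionGroup.xa 0 =
            QuaternionGroup.xa 0 * QuaternionGroup.a 1 := by
          obtain ⟨i, hi⟩ := hy
          rw [← hi]
          exact (Commute.zpow_right (Commute.refl _) i).eq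
        rw [QuaternionGroup.a_mul_xa, QuaternionGroup.xa_mul_a] at hc'
        have h1 : ((2 : ℕ) : ZMod (2 * 2 ^ (m + 4 - 2))) = 0 := by
          have h0 := QuaternionGroup.xa.inj hc'
          push_cast
          linear_combination (norm := ring_nf) -h0
        rw [ZMod.natCast_eq_zero_iff] at h1
        have h3 := Nat.le_of_dvd two_pos h1
        have h4 : 2 ^ (m + 4 - 2) ≥ 4 := Nat.le_trans (by norm_num : 4 ≤ 2 ^ 2)
          (Nat.pow_le_pow_right two_pos (by omega))
        omega
      · intro g hg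
        cases g with
        | a j =>
          refine absurd ⟨(j.val : ℤ), ?_⟩ hg
          show QuaternionGroup.a 1 ^ ((j.val : ℕ) : ℤ) = _
          rw [zpow_natCast, QuaternionGroup.a_one_pow, ZMod.natCast_zmod_val]
        | xa j =>
          have h : QuaternionGroup.xa j ^ 4 = 1 := QuaternionGroup.xa_pow_four j
          rw [show 2 ^ (m + 3 - 1) = 4 * 2 ^ m by rw [show m + 3 - 1 = m + 2 by omega]; ring,
            pow_mul, h, one_pow]
  exact CfsgLib.FusionSub.autGroup_eq_Inn_of_isPGroup h2.1 hF h2.2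

end Cfsg.Agent.S5112
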