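import Cfsg.Statements.S5125
import Cfsg.Agent.Fusion.NormalSubgroup

set_option autoImplicit false
open Cfsg

namespace Cfsg.Agent.S5125

/-- Let F be a saturated fusion system over a finite p-group S and Q a subgroup strongly closed in F. If Q has a subgroup Q₁ that is normal in F, with Q/Q₁ abelian and Aut_F(Q₁) a p-group, then Q is normal in F. -/
theorem result {Ω : Type*} [Group Ω] {S : Subgroup Ω} [Finite S] (p : ℕ) [Fact p.Prime] (hS : IsPGroup p S) (F : Cfsg.FusionSystem S) (hF : F.IsSaturated p) (Q Q₁ : Subgroup Ω) (hQ : F.StronglyClosed Q) (hQ₁Q : Q₁ ≤ Q) (hQ₁ : F.IsNormal Q₁) (hab : ⁅Q, Q⁆ ≤ Q₁) (hAut : IsPGroup p ↥(F.autGroup Q₁)) : F.IsNormal Q := by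
  have hfQ₁ := CfsgLib.Fusion.finite_of_le hQ₁.1
  have hQ₁n : S ≤ Subgroup.normalizer (Q₁ : Set Ω) := CfsgLib.Fusion.normal_le_normalizer hQ₁
  have hfn : F.IsFullyNormalized Q₁ := ⟨hQ₁.1, fun R hR => by
    haveI := CfsgLib.Fusion.finite_of_le (CfsgLib.Fusion.normalizerIn_le S Q₁)
    refine Subgroup.card_le_of_le ?_
    exact le_inf inf_le_left (inf_le_left.trans hQ₁n)⟩
  have hA := (CfsgLib.Fusion.automized_receptive hS hF hfn).1
  have hAut' : F.autGroup Q₁ = Cfsg.autInducedBy S Q₁ :=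
    CfsgLib.Fusion.eq_autInducedBy_of_le hA le_rfl hAut
      (CfsgLib.Fusion.autInducedBy_le_autGroup hQ₁.1)
  let D : ℕ → Subgroup Ω := Nat.rec (motive := fun _ => Subgroup Ω) Q₁ (fun _ X => ⁅X, S⁆)
  have hDn : ∀ i, S ≤ Subgroup.normalizer (SetLike.coe (D i)) := by
    intro i
    induction i with
    | zero => exact hQ₁n
    | succ i ih =>
      show S ≤ Subgroup.normalizer ((⁅D i, S⁆ : Subgroup Ω) : Set Ω)
      exact Subgroup.normalizer_commutator_ge_right _ _
  have hDanti : ∀ i, D (i + 1) ≤ D i := fun i =>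
    Subgroup.le_normalizer_iff_commutator_le_left.1 (hDn i)
  have hDQ : ∀ i, D i ≤ Q₁ := by
    intro i
    induction i with
    | zero => exact le_rfl
    | succ i ih => exact (hDanti i).trans ih
  have hDlcs : ∀ i, D i ≤ S.lowerCentralSeries i := by
    intro i
    induction i with
    | zero => exact hQ₁.1
    | succ i ih => exact Subgroup.commutator_mono ih le_rfl
  have hsc : ∀ i, F.StronglyClosed (D i) := fun i => ⟨(hDQ i).trans hQ₁.1, fun R hR φ hφ x => by
    obtain ⟨ψ, hψ, h1, h2⟩ := CfsgLib.Fusion.exists_normal_extension hQ₁ hφ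
    obtain ⟨α, hα, hαψ⟩ := CfsgLib.Fusion.exists_iso
      (CfsgLib.Fusion.restrict_mem hψ (le_sup_right : Q₁ ≤ R ⊔ Q₁))
      ((CfsgLib.Fusion.range_restrictHom ψ _).trans h2)
    have hα' := (CfsgLib.Fusion.mem_autGroup_iff hQ₁.1).2 hα
    rw [hAut'] at hα'
    obtain ⟨s, hs, -, hsα⟩ := CfsgLib.Fusion.mem_autInducedBy_iff.1 hα'
    have h3 := (hαψ ⟨x, (hR.trans (hDQ i)) x.2⟩).symm.trans (hsα _)
    rw [← h1 x]
    exact h3 ▸ (Subgroup.mem_normalizer_iff.1 (hDn i hs) x).1 (hR x.2)⟩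
  haveI : Group.IsNilpotent S := hS.isNilpotent
  obtain ⟨m, hm⟩ := (Subgroup.isNilpotent_iff_lowerCentralSeries S).1 inferInstance
  refine CfsgLib.Fusion.isNormal_of_series hS hF (m + 1)
    (fun i => if i ≤ m then D (m - i) else Q) ?_ (if_neg (by omega)) ?_ ?_ ?_
  · rw [if_pos (Nat.zero_le _), Nat.sub_zero]
    exact le_bot_iff.1 ((hDlcs m).trans hm.le)
  · intro i
    by_cases h : i + 1 ≤ m
    · rw [if_pos (show i ≤ m by omega), if_pos h, show m - i = m - (i + 1) + 1 by omega]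
      exact hDanti _
    · rw [if_neg h]
      split
      · exact (hDQ _).trans hQ₁Q
      · exact le_rfl
  · intro i
    split
    · exact hsc _
    · exact hQ
  · intro i hi
    rw [if_pos (show i ≤ m by omega)]
    by_cases h : i + 1 ≤ m
    · rw [if_pos h, show m - i = m - (i + 1) + 1 by omega]
      show ⁅Q, D (m - (i + 1))⁆ ≤ ⁅D (m - (i + 1)), S⁆
      rw [Subgroup.commutator_comm]
      exact Subgroup.commutator_mono le_rfl hQ.1
    · rw [if_neg h, show m - i = 0 by omega]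
      exact hab

end Cfsg.Agent.S5125
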