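import Cfsg.Statements.S5126
import Cfsg.Agent.Fusion.NormalizerSaturated
import Cfsg.Agent.Fusion.ModelBasic

set_option autoImplicit false
open Cfsg

namespace Cfsg.Agent.S5126

/-- In a saturated fusion system over a finite p-group S, the normalizer system of a fully normalized, centric, radical subgroup R is constrained, and in every model of that normalizer system the largest normal p-subgroup is the image of R. -/
theorem result {Ω : Type*} [Group Ω] {S : Subgroup Ω} [Finite S] (p : ℕ) [Fact p.Prime] (hS : IsPGroup p S) (F : Cfsg.FusionSystem S) (hF : F.IsSaturated p) (R : Subgroup Ω) (hRn : F.IsFullyNormalized R) (hRc : F.IsCentric R) (hRr : F.IsRadical p R) (E : Cfsg.FusionSystem (Cfsg.FusionSystem.normalizerIn S R)) (hE : F.IsNormalizerSystem R E) {G : Type*} [Group G] (ι : ↥(Cfsg.FusionSystem.normalizerIn S R) →* G) : E.IsConstrained p ∧ (E.IsModel p G ι → (Cfsg.pCore p G : Subgroup G) = (R.subgroupOf (Cfsg.FusionSystem.normalizerIn S R)).map ι) :=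 by
  have hRS := hRn.1
  have hfR := CfsgLib.Fusion.finite_of_le hRS
  have hRN : R ≤ Cfsg.FusionSystem.normalizerIn S R := CfsgLib.Fusion.le_normalizerIn hRS
  have hNS := CfsgLib.Fusion.normalizerIn_le S R
  have hfN := CfsgLib.Fusion.finite_of_le hNS
  have hNp : IsPGroup p (Cfsg.FusionSystem.normalizerIn S R) := hS.to_le hNS
  have hnormal : E.IsNormal R := by
    refine ⟨hRN, fun P φ hφ => ?_⟩
    rw [hE P] at hφ
    obtain ⟨-, hPN, hφN, ψ, hψ, h1, h2⟩ := hφ
    refine ⟨ψ, ?_, h1, h2⟩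
    rw [hE]
    refine ⟨hψ, sup_le hPN hRN, fun x => ?_, CfsgLib.Fusion.restrictHom ψ (sup_le le_rfl le_sup_right),
      CfsgLib.Fusion.restrict_mem hψ _, fun x => rfl, ?_⟩
    · have hx : ψ x ∈ φ.range ⊔ R :=
        CfsgLib.Fusion.range_extension h1 h2 ▸ ⟨x, rfl⟩
      refine sup_le ?_ hRN hx
      rintro _ ⟨y, rfl⟩
      exact hφN y
    · refine le_antisymm ?_ ?_
      · rintro _ ⟨x, hx, rfl⟩
        exact h2.le ⟨_, hx, rfl⟩
      · intro y hy
        obtain ⟨x, hx, rfl⟩ := h2.ge hy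
        exact ⟨⟨x, Subgroup.mem_sup_right hx⟩, hx, rfl⟩
  have hcentric : E.IsCentric R := by
    refine ⟨hRN, fun Q ⟨φ, hφ, hr⟩ => ?_⟩
    have h1 : Q = R := by
      subst hr
      refine Subgroup.eq_of_le_of_card_ge ?_ (CfsgLib.Fusion.card_eq_of_isConj ⟨φ, hφ, rfl⟩).le
      rintro _ ⟨x, rfl⟩
      exact (CfsgLib.Fusion.stronglyClosed_of_normal hnormal).2 R le_rfl φ hφ x
    rw [h1]
    exact (inf_le_inf_right _ hNS).trans (CfsgLib.Fusion.centralizerIn_le_of_centric hRc)
  refine ⟨⟨CfsgLib.Fusion.isSaturated_normalizerSystem hS hF hRn hE, R, hnormal, hcentric⟩,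
    fun hG => ?_⟩
  have hrad : E.IsRadical p R := by
    refine ⟨hRN, ?_⟩
    have e : E.autGroup R = F.autGroup R := by
      ext α
      rw [CfsgLib.Fusion.mem_autGroup_iff hRN, CfsgLib.Fusion.mem_autGroup_iff hRS]
      unfold CfsgLib.Fusion.IsIso
      rw [hE R]
      refine ⟨fun h => h.1, fun h => ⟨h, hRN, fun x => hRN (α x).2,
        CfsgLib.Fusion.restrictHom _ (sup_le le_rfl le_rfl),
        CfsgLib.Fusion.restrict_mem h _, fun x => rfl, ?_⟩⟩
      refine le_antisymm ?_ fun y hy => ?_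
      · rintro _ ⟨x, -, rfl⟩
        exact (α _).2
      · obtain ⟨x, hx⟩ := α.surjective ⟨y, hy⟩
        exact ⟨⟨x, Subgroup.mem_sup_left x.2⟩, x.2,
          (congrArg (fun z : R => (z : Ω)) hx :)⟩
    rw [e]
    exact hRr.2
  obtain ⟨Q, hQN, hQim, hQnormal⟩ := CfsgLib.Fusion.exists_pCore_preimage hG
  refine le_antisymm ?_ ?_
  · rw [← hQim]
    exact CfsgLib.Fusion.im_mono ι
      (CfsgLib.Fusion.le_of_normal_of_radical hNp hQnormal hcentric hrad)
  · haveI hn := CfsgLib.Fusion.im_normal_of_isNormal hG hnormal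
    exact CfsgLib.PLocal.le_pCore (N := CfsgLib.Fusion.im ι R) ((hNp.to_subgroup _).map ι)

end Cfsg.Agent.S5126
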