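import Cfsg.Statements.S5128
import Cfsg.Agent.FusionFactor.Lift
import Cfsg.Agent.Fusion.NormalSubgroup

set_option autoImplicit false
open Cfsg

namespace Cfsg.Agent.S5128

/-- In a saturated fusion system over a finite p-group S, the product of two strongly closed subgroups is strongly closed. -/
theorem result {Ω : Type*} [Group Ω] {S : Subgroup Ω} [Finite S] (p : ℕ) [Fact p.Prime] (hS : IsPGroup p S) (F : Cfsg.FusionSystem S) (hF : F.IsSaturated p) (T₁ T₂ : Subgroup Ω) (h₁ : F.StronglyClosed T₁) (h₂ : F.StronglyClosed T₂) : F.StronglyClosed (T₁ ⊔ T₂) := by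
  refine ⟨sup_le h₁.1 h₂.1, fun R hR φ hφ x => ?_⟩
  have hx := hR x.2
  rw [← SetLike.mem_coe, Subgroup.coe_mul_of_left_le_normalizer_right _ _
    (h₁.1.trans (CfsgLib.Fusion.stronglyClosed_le_normalizer h₂))] at hx
  obtain ⟨t₁, ht₁, t₂, ht₂, htx⟩ := Set.mem_mul.1 hx
  have hz : Subgroup.zpowers (x : Ω) ≤ R := Subgroup.zpowers_le.2 x.2
  obtain ⟨ψ, hψ, hψx⟩ := CfsgLib.FusionFactor.hasLift hS hF h₁
    (CfsgLib.Fusion.restrict_mem hφ hz)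
  have hm₁ : t₁ ∈ Subgroup.zpowers (x : Ω) ⊔ T₁ := Subgroup.mem_sup_right ht₁
  have hmx : (x : Ω) ∈ Subgroup.zpowers (x : Ω) ⊔ T₁ :=
    Subgroup.mem_sup_left (Subgroup.mem_zpowers _)
  have hm₂ : t₂ ∈ Subgroup.zpowers (x : Ω) ⊔ T₁ := by
    have := Subgroup.mul_mem _ (Subgroup.inv_mem _ hm₁) hmx
    simpa [← htx] using this
  have e : (⟨(x : Ω), hmx⟩ : ↥(Subgroup.zpowers (x : Ω) ⊔ T₁)) = ⟨t₁, hm₁⟩ * ⟨t₂, hm₂⟩ :=
    Subtype.ext htx.symm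
  have hd : (φ x)⁻¹ * ψ ⟨(x : Ω), hmx⟩ ∈ T₁ := hψx ⟨x, Subgroup.mem_zpowers _⟩
  have hmem : ψ ⟨(x : Ω), hmx⟩ ∈ T₁ ⊔ T₂ := by
    rw [e, map_mul]
    exact Subgroup.mul_mem_sup (CfsgLib.Fusion.stronglyClosed_apply h₁ hψ ht₁)
      (CfsgLib.Fusion.stronglyClosed_apply h₂ hψ ht₂)
  simpa using Subgroup.mul_mem _ hmem (Subgroup.inv_mem _ (Subgroup.mem_sup_left hd))

end Cfsg.Agent.S5128
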