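import Cfsg.Statements.S5130
import Cfsg.Agent.FusionFactor.Lift

set_option autoImplicit false
open Cfsg

namespace Cfsg.Agent.S5130

open Cfsg.FusionSystem CfsgLib.Fusion CfsgLib.FusionFactor

variable {Ω : Type*} [Group Ω] {S S₁ S₂ : Subgroup Ω}

/-- The elements of `S` are products. -/
theorem exists_mul (h : Cfsg.IsInternalDirectProduct S₁ S₂ S) {F : Cfsg.FusionSystem S}
    (h₂ : F.StronglyClosed S₂) {s : Ω} (hs : s ∈ S) : ∃ a ∈ S₁, ∃ b ∈ S₂, a * b = s :=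
  (mem_sup_stronglyClosed h.1 h₂).1 (h.2.2.2.2.symm ▸ hs)

/-- The second factor centralizes every subgroup of the first. -/
theorem le_centralizerIn (h : Cfsg.IsInternalDirectProduct S₁ S₂ S) {P : Subgroup Ω}
    (hP : P ≤ S₁) : S₂ ≤ centralizerIn S P := fun b hb =>
  mem_centralizerIn.2 ⟨h.2.1 hb, fun x hx => h.2.2.1 x (hP hx) b hb⟩

/-- The symmetric statement. -/
theorem le_centralizerIn' (h : Cfsg.IsInternalDirectProduct S₁ S₂ S) :
    S₁ ≤ centralizerIn S S₂ := fun a ha =>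
  mem_centralizerIn.2 ⟨h.1 ha, fun b hb => (h.2.2.1 a ha b hb).symm⟩

/-- `Aut_S(P) = Aut_{S₁}(P)`. -/
theorem autInducedBy_eq (h : Cfsg.IsInternalDirectProduct S₁ S₂ S) {F : Cfsg.FusionSystem S}
    (h₂ : F.StronglyClosed S₂) {P : Subgroup Ω} (hP : P ≤ S₁) :
    Cfsg.autInducedBy S P = Cfsg.autInducedBy S₁ P := by
  refine le_antisymm (fun α hα => ?_) (autInducedBy_mono h.1 P)
  obtain ⟨g, hg, -, hv⟩ := mem_autInducedBy_iff.1 hα
  obtain ⟨a, ha, b, hb, rfl⟩ := exists_mul h h₂ hg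
  refine Subgroup.subset_closure ⟨a, ha, fun x => ?_⟩
  rw [hv x]
  have hc := h.2.2.1 x (hP x.2) b hb
  have : b * (x : Ω) * b⁻¹ = x := by rw [← hc, mul_inv_cancel_right]
  calc a * b * (x : Ω) * (a * b)⁻¹ = a * (b * (x : Ω) * b⁻¹) * a⁻¹ := by simp [mul_assoc]
    _ = a * (x : Ω) * a⁻¹ := by rw [this]

/-- A strongly closed subgroup is fully normalized. -/
theorem fullyNormalized_of_stronglyClosed [Finite S] {F : Cfsg.FusionSystem S} {T : Subgroup Ω}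
    (hT : F.StronglyClosed T) : F.IsFullyNormalized T := by
  refine ⟨hT.1, fun Q hQ => ?_⟩
  obtain ⟨φ, hφ, hr⟩ := hQ
  have hTf := finite_of_le hT.1
  have : Q = T := by
    refine hr ▸ Subgroup.eq_of_le_of_card_ge ?_ ?_
    · rintro _ ⟨x, rfl⟩
      exact hT.2 T le_rfl φ hφ x
    · rw [← imgHom_self, card_imgHom (F.injective_of_mem hφ) le_rfl]
  rw [this]

variable [Finite S] {p : ℕ} [Fact p.Prime] {F : Cfsg.FusionSystem S}

/-- An automorphism of a strongly closed factor extends to `S`. -/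
theorem extend_aut (hS : IsPGroup p S) (hF : F.IsSaturated p) {T U : Subgroup Ω}
    (hT : F.StronglyClosed T) (hU : U ≤ centralizerIn S T) (hTU : T ⊔ U = S)
    {e : T ≃* T} (he : IsIso F e) :
    ∃ β : S ≃* S, IsIso F β ∧ ∀ x : T, (β ⟨x, hT.1 x.2⟩ : Ω) = e x := by
  obtain ⟨ψ, hψ, hψv⟩ := exists_extension (T := S)
    (automized_receptive hS hF (fullyNormalized_of_stronglyClosed hT)).2 he (by
      conv_lhs => rw [← hTU]
      exact sup_le (le_extender hT.1 fun x => hT.1 (e x).2) (hU.trans (centralizerIn_le_extender _)))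
  obtain ⟨β, hβ, hβv⟩ := exists_iso hψ (eq_S_of_isConj ⟨ψ, hψ, rfl⟩)
  exact ⟨β, hβ, fun x => (hβv _).trans (hψv x (hT.1 x.2))⟩

/-- Every map on a subgroup of `S₁` extends to the product with `S₂`. -/
theorem extend_sup (hS : IsPGroup p S) (hF : F.IsSaturated p)
    (h : Cfsg.IsInternalDirectProduct S₁ S₂ S) (h₁ : F.StronglyClosed S₁)
    (h₂ : F.StronglyClosed S₂) {P : Subgroup Ω} (hP : P ≤ S₁) {φ : P →* Ω} (hφ : φ ∈ F.Hom P) :
    ∃ ψ ∈ F.Hom (P ⊔ S₂), ∀ x : P, ψ ⟨x, Subgroup.mem_sup_left x.2⟩ = φ x := by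
  obtain ⟨P', hr⟩ : ∃ P', φ.range = P' := ⟨_, rfl⟩
  obtain ⟨f, hf, hfv⟩ := exists_iso hφ hr
  have hP' : P' ≤ S₁ := by
    rintro _ hy
    obtain ⟨x, rfl⟩ := hr.symm ▸ hy
    exact h₁.2 P hP φ hφ x
  obtain ⟨Q, hPQ, hQn⟩ := exists_fullyNormalized (F := F) (hP.trans h.1)
  obtain ⟨e, he⟩ := isConj_iff.1 hPQ
  have hQr := (automized_receptive hS hF hQn).2
  have he' : IsIso F (f.symm.trans e) := hf.symm.trans he
  have ext : ∀ {X : Subgroup Ω} (g : X ≃* Q), IsIso F g → X ≤ S₁ →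
      ∃ χ ∈ F.Hom (X ⊔ S₂), (∀ z, χ z ∈ Q ⊔ S₂) ∧
        ∀ (x : X), χ ⟨x, Subgroup.mem_sup_left x.2⟩ = (g x : Ω) := by
    intro X g hg hX
    obtain ⟨χ, hχ, hv⟩ := exists_extension (T := X ⊔ S₂) hQr hg
      (sup_le (le_extender hg.le_left fun x => hg.le_right (g x).2)
        ((le_centralizerIn h hX).trans (centralizerIn_le_extender _)))
    refine ⟨χ, hχ, fun z => ?_, fun x => hv x _⟩
    obtain ⟨x, hx, b, hb, hxb⟩ := (mem_sup_stronglyClosed hg.le_left h₂).1 z.2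
    have hz : z = ⟨x, Subgroup.mem_sup_left hx⟩ * ⟨b, Subgroup.mem_sup_right hb⟩ :=
      Subtype.ext hxb.symm
    rw [hz, map_mul, hv ⟨x, hx⟩]
    exact Subgroup.mul_mem _ (Subgroup.mem_sup_left (g _).2)
      (Subgroup.mem_sup_right (apply_mem_of_stronglyClosed h₂ hχ hb))
  obtain ⟨χ, hχ, hχQ, hχv⟩ := ext e he hP
  obtain ⟨χ', hχ', hχ'Q, hχ'v⟩ := ext (f.symm.trans e) he' hP'
  have hle : Q ⊔ S₂ ≤ χ'.range := by
    refine sup_le (fun y hy => ?_) fun y hy => ?_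
    · obtain ⟨x, hx⟩ := (f.symm.trans e).surjective ⟨y, hy⟩
      exact ⟨_, (hχ'v x).trans (congrArg Subtype.val hx)⟩
    · obtain ⟨x, -, hx⟩ := exists_eq_of_stronglyClosed F h₂ hχ' le_sup_right hy
      exact ⟨x, hx⟩
  obtain ⟨ρ, hρ, hρv⟩ := F.inv_mem hχ'
  refine ⟨_, F.comp_mem hχ hρ (fun z => hle (hχQ z)), fun x => ?_⟩
  show ρ ⟨χ ⟨x, _⟩, _⟩ = φ x
  have h1 : χ ⟨x, Subgroup.mem_sup_left x.2⟩ = χ' ⟨f x, Subgroup.mem_sup_left (f x).2⟩ := by
    rw [hχv, hχ'v, MulEquiv.trans_apply, MulEquiv.symm_apply_apply]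
  rw [← hfv x]
  exact (congrArg ρ (Subtype.ext h1)).trans (hρv ⟨f x, Subgroup.mem_sup_left (f x).2⟩)

/-- Splitting a map into an automorphism of `S` and a map centralizing `S₂`. -/
theorem split (hS : IsPGroup p S) (hF : F.IsSaturated p)
    (h : Cfsg.IsInternalDirectProduct S₁ S₂ S) (h₁ : F.StronglyClosed S₁)
    (h₂ : F.StronglyClosed S₂) {P : Subgroup Ω} (hP : P ≤ S₁) {φ : P →* Ω} (hφ : φ ∈ F.Hom P) :
    ∃ β : S ≃* S, IsIso F β ∧ ∃ φ₀ ∈ F.centralizerHom S₂ P,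
      ∀ (x : P) (hx : φ₀ x ∈ S), φ x = (β ⟨φ₀ x, hx⟩ : Ω) := by
  obtain ⟨ψ, hψ, hψv⟩ := extend_sup hS hF h h₁ h₂ hP hφ
  have hr : (restrictHom ψ (le_sup_right : S₂ ≤ P ⊔ S₂)).range = S₂ := by
    refine le_antisymm ?_ ?_
    · rintro _ ⟨x, rfl⟩
      exact apply_mem_of_stronglyClosed h₂ hψ x.2
    · intro y hy
      obtain ⟨x, hx, hxy⟩ := exists_eq_of_stronglyClosed F h₂ hψ le_sup_right hy
      exact ⟨⟨x, hx⟩, hxy⟩
  obtain ⟨e, he, hev⟩ := exists_iso (CfsgLib.Fusion.restrict_mem hψ le_sup_right) hr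
  obtain ⟨β, hβ, hβv⟩ := extend_aut hS hF h₂ (le_centralizerIn' h)
    (by rw [sup_comm]; exact h.2.2.2.2) he
  set ψ₀ := (S.subtype.comp β.symm.toMonoidHom).comp (ψ.codRestrict S (apply_mem hψ)) with hψ₀
  have hψ₀mem : ψ₀ ∈ F.Hom (P ⊔ S₂) := F.comp_mem hψ hβ.symm (apply_mem hψ)
  have hfix : ∀ x : S₂, ψ₀ (Subgroup.inclusion le_sup_right x) = x := by
    intro x
    show (β.symm ⟨ψ (Subgroup.inclusion le_sup_right x), _⟩ : Ω) = _
    rw [show (⟨ψ (Subgroup.inclusion le_sup_right x), apply_mem hψ _⟩ : S) = β ⟨x, h₂.1 x.2⟩ from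
      Subtype.ext ((hev x).symm.trans (hβv x).symm), MulEquiv.symm_apply_apply]
  have hφ₀ := CfsgLib.Fusion.restrict_mem hψ₀mem (le_sup_left : P ≤ P ⊔ S₂)
  refine ⟨β, hβ, restrictHom ψ₀ le_sup_left, ⟨hφ₀, hP.trans (le_centralizerIn' h), fun x => ?_,
    ψ₀, hψ₀mem, fun x => rfl, hfix⟩, fun x hx => ?_⟩
  · exact le_centralizerIn' h (h₁.2 P hP _ hφ₀ x)
  · rw [← hψv x]
    have : (⟨restrictHom ψ₀ le_sup_left x, hx⟩ : S) = β.symm ⟨ψ ⟨x, Subgroup.mem_sup_left x.2⟩,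
        apply_mem hψ _⟩ := Subtype.ext rfl
    rw [this, MulEquiv.apply_symm_apply]

/-- Image of a fully normalized subgroup under an automorphism of `S`. -/
theorem fullyNormalized_aut {β : S ≃* S} (hβ : IsIso F β) {Q : Subgroup Ω}
    (hQ : F.IsFullyNormalized Q) :
    F.IsFullyNormalized (imgHom (S.subtype.comp β.toMonoidHom) Q) := by
  have hφ : S.subtype.comp β.toMonoidHom ∈ F.Hom S := hβ
  refine ⟨imgHom_le hφ Q, fun R hR => ?_⟩
  refine (hQ.2 R (isConj_trans (isConj_restrict hφ hQ.1) hR)).trans ?_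
  haveI := finite_of_le (normalizerIn_le S (imgHom (S.subtype.comp β.toMonoidHom) Q))
  refine Nat.card_le_card_of_injective (fun g : normalizerIn S Q =>
    (⟨(β ⟨g, g.2.1⟩ : S), (β ⟨g, g.2.1⟩).2,
      map_mem_normalizer (ψ := S.subtype.comp β.toMonoidHom) hQ.1 (g := ⟨g, g.2.1⟩) g.2.2⟩ :
      normalizerIn S (imgHom (S.subtype.comp β.toMonoidHom) Q))) ?_
  intro a b hab
  have h1 : (β ⟨a, a.2.1⟩ : S) = β ⟨b, b.2.1⟩ :=
    Subtype.ext (congrArg (fun z : normalizerIn S (imgHom (S.subtype.comp β.toMonoidHom) Q) => (z : Ω)) hab)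
  exact Subtype.ext (congrArg Subtype.val (β.injective h1) :)

/-- Membership in the automorphism group from restriction of an automorphism of `S`. -/
theorem restrict_aut {β : S ≃* S} (hβ : IsIso F β) {T : Subgroup Ω} (hT : F.StronglyClosed T) :
    ∃ e : T ≃* T, IsIso F e ∧ ∀ x : T, (e x : Ω) = β ⟨x, hT.1 x.2⟩ := by
  have hφ : S.subtype.comp β.toMonoidHom ∈ F.Hom S := hβ
  have hr : (restrictHom (S.subtype.comp β.toMonoidHom) hT.1).range = T := by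
    refine le_antisymm ?_ ?_
    · rintro _ ⟨x, rfl⟩
      exact apply_mem_of_stronglyClosed hT hφ x.2
    · intro y hy
      obtain ⟨x, hx, hxy⟩ := exists_eq_of_stronglyClosed F hT hφ hT.1 hy
      exact ⟨⟨x, hx⟩, hxy⟩
  exact exists_iso (CfsgLib.Fusion.restrict_mem hφ hT.1) hr

/-- Conjugation of a map by an automorphism of `S₁`. -/
theorem transport {α : MulAut S₁} (hα : α ∈ F.autGroup S₁) (h₁ : F.StronglyClosed S₁)
    {P : Subgroup Ω} (hP : P ≤ S₁) {φ : P →* Ω} (hφ : φ ∈ F.Hom P) :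
    ∃ χ ∈ F.Hom ((P.subgroupOf S₁).map (S₁.subtype.comp α.toMonoidHom)),
      ∀ (x : P) (hφx : φ x ∈ S₁)
        (hαx : ((α ⟨x, hP x.2⟩ : S₁) : Ω) ∈ (P.subgroupOf S₁).map (S₁.subtype.comp α.toMonoidHom)),
        χ ⟨(α ⟨x, hP x.2⟩ : S₁), hαx⟩ = ((α ⟨φ x, hφx⟩ : S₁) : Ω) := by
  have hαI : IsIso F (α : S₁ ≃* S₁) := (mem_autGroup_iff h₁.1).1 hα
  have hle : (P.subgroupOf S₁).map (S₁.subtype.comp α.toMonoidHom) ≤ S₁ := by
    rintro _ ⟨x, -, rfl⟩
    exact (α x).2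
  obtain ⟨e, he, hev⟩ := exists_iso_restrict hαI hP
  have hφS : ∀ x : P, φ x ∈ S₁ := h₁.2 P hP φ hφ
  refine ⟨(S₁.subtype.comp α.toMonoidHom).comp ((φ.comp e.symm.toMonoidHom).codRestrict S₁
    fun z => hφS _), F.comp_mem (he.symm.comp_hom hφ) hαI _, fun x hφx hαx => ?_⟩
  show ((α ⟨φ (e.symm ⟨_, hαx⟩), _⟩ : S₁) : Ω) = _
  refine congrArg (fun z => ((α z : S₁) : Ω)) (Subtype.ext (congrArg φ ?_))
  rw [MulEquiv.symm_apply_eq]
  exact Subtype.ext (hev x).symm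

/-- Let F be a saturated fusion system over a finite p-group S that is the direct product of two subgroups S₁ and S₂, each strongly closed in F. Let R be the full subsystem of F over S₁ (all maps of F between subgroups of S₁) and R′ the subsystem over S₁ of those maps that extend to the subgroup generated with S₂ fixing S₂ elementwise. Then R and R′ are saturated, R′ is normal in F and in R, and R is weakly normal in F. -/
theorem result {Ω : Type*} [Group Ω] {S : Subgroup Ω} [Finite S] (p : ℕ) [Fact p.Prime] (hS : IsPGroup p S) (F : Cfsg.FusionSystem S) (hF : F.IsSaturated p) (S₁ S₂ : Subgroup Ω) (hprod : Cfsg.IsInternalDirectProduct S₁ S₂ S) (h₁ : F.StronglyClosed S₁) (h₂ : F.StronglyClosed S₂) (R R' : Cfsg.FusionSystem S₁) (hR : ∀ P : Subgroup Ω, P ≤ S₁ → R.Hom P = F.Hom P) (hR' : ∀ P : Subgroup Ω, P ≤ S₁ → R'.Hom P = F.centralizerHom S₂ P) : R.IsSaturated p ∧ R'.IsSaturated p ∧ R'.IsNormalIn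 F p ∧ R'.IsNormalIn R p ∧ R.IsWeaklyNormalIn F p := by
  have hS₁S : S₁ ≤ S := hprod.1
  haveI : Finite S₁ := finite_of_le hS₁S
  have hS₁p : IsPGroup p S₁ := hS.to_le hS₁S
  have hRsub : R.IsSubsystemOf F := fun P φ hφ => hR P (R.le_of_mem hφ).1 ▸ hφ
  have hR'F : ∀ P, P ≤ S₁ → ∀ φ : P →* Ω, φ ∈ R'.Hom P → φ ∈ F.Hom P := fun P hP φ hφ =>
    ((hR' P hP) ▸ hφ : φ ∈ F.centralizerHom S₂ P).1
  have hR'sub : R'.IsSubsystemOf F := fun P φ hφ => hR'F P (R'.le_of_mem hφ).1 φ hφ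
  have hR'R : R'.IsSubsystemOf R := fun P φ hφ =>
    (hR P (R'.le_of_mem hφ).1).symm ▸ hR'sub P hφ
  have hRaut : ∀ P, P ≤ S₁ → R.autGroup P = F.autGroup P := fun P hP => by
    unfold Cfsg.FusionSystem.autGroup
    rw [hR P hP]
  have hRsat : R.IsSaturated p := by
    intro P hP
    obtain ⟨Q, ⟨φ, hφ, hr⟩, hQn⟩ := exists_fullyNormalized (F := F) (hP.trans hS₁S)
    obtain ⟨hQa, hQr⟩ := automized_receptive hS hF hQn
    have hQ : Q ≤ S₁ := by
      rintro y hy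
      obtain ⟨x, rfl⟩ := hr.symm ▸ hy
      exact h₁.2 P hP φ hφ x
    refine ⟨Q, ⟨φ, (hR P hP).symm ▸ hφ, hr⟩, ⟨hQ, ?_⟩, hQ, fun U φ' hφ' hr' => ?_⟩
    · rw [hRaut Q hQ, ← autInducedBy_eq hprod h₂ hQ]
      exact hQa.2
    · have hU : U ≤ S₁ := (R.le_of_mem hφ').1
      obtain ⟨ψ, hψ, hv⟩ := hQr.2 U φ' (hRsub U hφ') hr'
      have hle : extender S₁ U φ' ≤ extender S U φ' := fun g hg => by
        obtain ⟨hg1, hg2, k, hk, hk'⟩ := mem_extender_iff.1 hg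
        exact mem_extender_iff.2 ⟨hS₁S hg1, hg2, k, hS₁S hk, hk'⟩
      refine ⟨restrictHom ψ hle, ?_, fun x hx hN => hv x hx (hle hN)⟩
      rw [hR _ ((extender_le_normalizerIn φ').trans (normalizerIn_le _ _))]
      exact CfsgLib.Fusion.restrict_mem hψ hle
  have hsplit : ∀ (P : Subgroup Ω), P ≤ S₁ → ∀ φ : P →* Ω, φ ∈ F.Hom P →
      ∃ α ∈ F.autGroup S₁, ∃ φ₀ ∈ R'.Hom P,
        ∀ (x : P) (hx : φ₀ x ∈ S₁), φ x = ((α ⟨φ₀ x, hx⟩ : S₁) : Ω) := by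
    intro P hP φ hφ
    obtain ⟨β, hβ, φ₀, hφ₀, hv⟩ := split hS hF hprod h₁ h₂ hP hφ
    obtain ⟨e, he, hev⟩ := restrict_aut hβ h₁
    exact ⟨e, IsIso.mem_autGroup he, φ₀, (hR' P hP).symm ▸ hφ₀, fun x hx =>
      (hv x (hS₁S hx)).trans (hev ⟨_, hx⟩).symm⟩
  have hR'sat : R'.IsSaturated p := by
    intro P hP
    obtain ⟨Q₀, ⟨φ, hφ, hr⟩, hQ₀⟩ := exists_fullyNormalized (F := F) (hP.trans hS₁S)
    obtain ⟨β, hβ, φ₀, hφ₀, hv⟩ := split hS hF hprod h₁ h₂ hP hφ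
    obtain ⟨Q, hrQ⟩ : ∃ Q, φ₀.range = Q := ⟨_, rfl⟩
    have hφ₀F : φ₀ ∈ F.Hom P := hφ₀.1
    have hQimg : Q = imgHom (S.subtype.comp β.symm.toMonoidHom) Q₀ := by
      ext y
      constructor
      · intro hy
        obtain ⟨x, rfl⟩ := hrQ.symm ▸ hy
        refine ⟨β ⟨φ₀ x, apply_mem hφ₀F x⟩, ?_, ?_⟩
        · rw [SetLike.mem_coe, Subgroup.mem_subgroupOf, ← hv x (apply_mem hφ₀F x), ← hr]
          exact ⟨x, rfl⟩
        · simp
      · rintro ⟨⟨z, hz⟩, hzQ, rfl⟩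
        obtain ⟨x, hx⟩ : z ∈ φ.range := hr.symm ▸ hzQ
        have : (⟨z, hz⟩ : S) = β ⟨φ₀ x, apply_mem hφ₀F x⟩ :=
          Subtype.ext (hx.symm.trans (hv x _))
        rw [← hrQ, this]
        exact ⟨x, by simp⟩
    have hQn : F.IsFullyNormalized Q := hQimg ▸ fullyNormalized_aut hβ.symm hQ₀
    obtain ⟨hQa, hQr⟩ := automized_receptive hS hF hQn
    have hQ : Q ≤ S₁ := by
      intro y hy
      obtain ⟨x, rfl⟩ := hrQ.symm ▸ hy
      exact h₁.2 P hP φ₀ hφ₀F x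
    refine ⟨Q, ⟨φ₀, (hR' P hP).symm ▸ hφ₀, hrQ⟩, ?_, hQ, fun U φ' hφ' hr' => ?_⟩
    · refine isFullyAutomized_of_maximal hQ (isPGroup_autInducedBy hS₁p Q) fun X hX hXp hle => ?_
      rw [← autInducedBy_eq hprod h₂ hQ] at hle ⊢
      exact eq_autInducedBy_of_le hQa
        (hX.trans (Subgroup.closure_mono fun _ ha => hR'sub Q ha)) hXp hle
    · have hU : U ≤ S₁ := (R'.le_of_mem hφ').1
      obtain ⟨hφ'F, -, -, ψ, hψ, hψv, hψfix⟩ :=
        ((hR' U hU) ▸ hφ' : φ' ∈ F.centralizerHom S₂ U)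
      have hψr : ψ.range = Q ⊔ S₂ := by
        refine le_antisymm ?_ (sup_le ?_ fun b hb => ⟨_, hψfix ⟨b, hb⟩⟩)
        · rintro _ ⟨⟨z, hz⟩, rfl⟩
          obtain ⟨x, hx, b, hb, rfl⟩ := (mem_sup_stronglyClosed (hU.trans hS₁S) h₂).1 hz
          have : (⟨x * b, hz⟩ : ↥(U ⊔ S₂)) = Subgroup.inclusion le_sup_left (⟨x, hx⟩ : U) *
              Subgroup.inclusion le_sup_right (⟨b, hb⟩ : S₂) := Subtype.ext rfl
          rw [this, map_mul, hψv, hψfix]
          exact Subgroup.mul_mem _ (Subgroup.mem_sup_left (hr' ▸ ⟨_, rfl⟩))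
            (Subgroup.mem_sup_right hb)
        · intro y hy
          obtain ⟨x, rfl⟩ := hr'.symm ▸ hy
          exact ⟨_, hψv x⟩
      obtain ⟨e, he, hev⟩ := exists_iso hψ hψr
      have hrec : F.IsReceptive (Q ⊔ S₂) := by
        refine receptive_of_fullyCentralized hS hF
          ⟨sup_le (hQ.trans hS₁S) h₂.1, fun M hM => ?_⟩
        obtain ⟨θ, hθ⟩ := isConj_iff.1 hM
        obtain ⟨g, hg, hgv⟩ := exists_iso_restrict hθ (le_sup_left : Q ≤ Q ⊔ S₂)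
        have hgQ : imgHom (M.subtype.comp θ.toMonoidHom) Q ≤ S₁ := by
          rintro _ ⟨x, hx, rfl⟩
          exact apply_mem_of_stronglyClosed h₁ hθ (hQ hx)
        have hQM : imgHom (M.subtype.comp θ.toMonoidHom) Q ≤ M := by
          rintro _ ⟨x, -, rfl⟩
          exact (θ x).2
        have hS₂M : S₂ ≤ M := by
          intro b hb
          obtain ⟨x, -, hx⟩ := exists_eq_of_stronglyClosed F h₂ hθ le_sup_right hb
          exact hx ▸ (θ x).2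
        obtain ⟨χ, hχ, hχv⟩ := exists_extension (T := imgHom (M.subtype.comp θ.toMonoidHom) Q ⊔
            centralizerIn S (imgHom (M.subtype.comp θ.toMonoidHom) Q)) hQr hg.symm
          (sup_le (le_extender hg.symm.le_left fun x => (hQ.trans hS₁S) (g.symm x).2)
            (centralizerIn_le_extender _))
        have himg := imgHom_eq_of_agree le_sup_left hχv
        haveI := finite_of_le (centralizerIn_le S (Q ⊔ S₂))
        refine Nat.card_le_card_of_injective (fun c : centralizerIn S M =>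
          (⟨χ ⟨c, Subgroup.mem_sup_right (centralizerIn_anti hQM c.2)⟩, ?_⟩ :
            centralizerIn S (Q ⊔ S₂))) ?_
        · refine Subgroup.mem_inf.2 ⟨apply_mem hχ _, ?_⟩
          rw [Subgroup.mem_centralizer_iff]
          intro y hy
          have hcy : ∀ z ∈ M, z * (c : Ω) = (c : Ω) * z := (mem_centralizerIn.1 c.2).2
          obtain ⟨q, hq, b, hb, rfl⟩ := (mem_sup_stronglyClosed (hQ.trans hS₁S) h₂).1 hy
          have hS₂dom : S₂ ≤ imgHom (M.subtype.comp θ.toMonoidHom) Q ⊔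
              centralizerIn S (imgHom (M.subtype.comp θ.toMonoidHom) Q) :=
            (le_centralizerIn hprod hgQ).trans le_sup_right
          obtain ⟨u, huS, rfl⟩ := exists_eq_of_stronglyClosed F h₂ hχ hS₂dom hb
          obtain ⟨v, hv, rfl⟩ : q ∈ imgHom χ (imgHom (M.subtype.comp θ.toMonoidHom) Q) :=
            himg.symm ▸ hq
          rw [← map_mul, ← map_mul, ← map_mul]
          exact congrArg χ (Subtype.ext (hcy _ (M.mul_mem (hQM hv) (hS₂M huS))))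
        · intro a b hab
          exact Subtype.ext (congrArg (fun z : ↥(imgHom (M.subtype.comp θ.toMonoidHom) Q ⊔
            centralizerIn S (imgHom (M.subtype.comp θ.toMonoidHom) Q)) => (z : Ω))
            (F.injective_of_mem hχ (congrArg (fun z : centralizerIn S (Q ⊔ S₂) => (z : Ω)) hab)))
      set N := extender S₁ U φ' with hN
      have hNS₁ : N ≤ S₁ := (extender_le_normalizerIn φ').trans (normalizerIn_le _ _)
      have hle : N ⊔ S₂ ≤ extender S (U ⊔ S₂) ((Q ⊔ S₂).subtype.comp e.toMonoidHom) := by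
        refine sup_le (fun g hg => ?_) ((le_sup_right : S₂ ≤ U ⊔ S₂).trans
          (le_extender he.le_left fun x => he.le_right (e x).2))
        obtain ⟨hg1, hg2, k, hk, hk'⟩ := mem_extender_iff.1 hg
        have hgb : ∀ b ∈ S₂, g * b * g⁻¹ = b := fun b hb => by
          rw [hprod.2.2.1 g hg1 b hb, mul_inv_cancel_right]
        have hkb : ∀ b ∈ S₂, k * b * k⁻¹ = b := fun b hb => by
          rw [hprod.2.2.1 k hk b hb, mul_inv_cancel_right]
        refine mem_extender_iff.2 ⟨hS₁S hg1, ?_, k, hS₁S hk, ?_⟩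
        · rw [Subgroup.mem_normalizer_iff]
          intro z
          constructor
          · intro hz
            obtain ⟨x, hx, b, hb, rfl⟩ := (mem_sup_stronglyClosed (hU.trans hS₁S) h₂).1 hz
            have e2 : g * (x * b) * g⁻¹ = g * x * g⁻¹ * (g * b * g⁻¹) := by simp [mul_assoc]
            rw [e2, hgb b hb]
            exact Subgroup.mul_mem _ (Subgroup.mem_sup_left
              ((Subgroup.mem_normalizer_iff.1 hg2 x).1 hx)) (Subgroup.mem_sup_right hb)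
          · intro hz
            obtain ⟨x, hx, b, hb, hxb⟩ := (mem_sup_stronglyClosed (hU.trans hS₁S) h₂).1 hz
            have hz' : z = g⁻¹ * x * g * b := by
              have e1 : g⁻¹ * (x * b) * g = z := by rw [hxb]; simp [mul_assoc]
              rw [← e1]
              have := hgb b hb
              calc g⁻¹ * (x * b) * g = g⁻¹ * x * (b * g) := by simp [mul_assoc]
                _ = g⁻¹ * x * (g * b) := by rw [hprod.2.2.1 g hg1 b hb]
                _ = g⁻¹ * x * g * b := by simp [mul_assoc]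
            rw [hz']
            exact Subgroup.mul_mem _ (Subgroup.mem_sup_left
              ((Subgroup.mem_normalizer_iff''.1 hg2 x).1 hx)) (Subgroup.mem_sup_right hb)
        · rintro ⟨z, hz⟩ hgz
          obtain ⟨x, hx, b, hb, rfl⟩ := (mem_sup_stronglyClosed (hU.trans hS₁S) h₂).1 hz
          have hgx : g * x * g⁻¹ ∈ U := (Subgroup.mem_normalizer_iff.1 hg2 x).1 hx
          have i1 : (⟨g * (x * b) * g⁻¹, hgz⟩ : ↥(U ⊔ S₂)) =
              Subgroup.inclusion le_sup_left (⟨_, hgx⟩ : U) *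
                Subgroup.inclusion le_sup_right (⟨b, hb⟩ : S₂) := by
            refine Subtype.ext ?_
            show g * (x * b) * g⁻¹ = g * x * g⁻¹ * b
            conv_rhs => rw [← hgb b hb]
            simp [mul_assoc]
          have i2 : (⟨x * b, hz⟩ : ↥(U ⊔ S₂)) = Subgroup.inclusion le_sup_left (⟨x, hx⟩ : U) *
                Subgroup.inclusion le_sup_right (⟨b, hb⟩ : S₂) := Subtype.ext rfl
          show (e ⟨g * (x * b) * g⁻¹, hgz⟩ : Ω) = k * (e ⟨x * b, hz⟩ : Ω) * k⁻¹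
          rw [hev, hev, i1, i2, map_mul, map_mul, hψv, hψv, hψfix, hk' ⟨x, hx⟩ hgx]
          show k * φ' ⟨x, hx⟩ * k⁻¹ * b = k * (φ' ⟨x, hx⟩ * b) * k⁻¹
          conv_lhs => rw [← hkb b hb]
          simp [mul_assoc]
      obtain ⟨χ, hχ, hχv⟩ := exists_extension hrec he hle
      refine ⟨restrictHom χ le_sup_left, ?_, fun x hx hxN => ?_⟩
      · rw [hR' N hNS₁]
        refine ⟨CfsgLib.Fusion.restrict_mem hχ le_sup_left, hNS₁.trans (le_centralizerIn' hprod),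
          fun x => le_centralizerIn' hprod
            (h₁.2 N hNS₁ _ (CfsgLib.Fusion.restrict_mem hχ le_sup_left) x),
          χ, hχ, fun x => rfl, fun x => ?_⟩
        refine (hχv ⟨x, Subgroup.mem_sup_right x.2⟩ _).trans ?_
        rw [hev]
        exact hψfix x
      · refine (hχv ⟨x, Subgroup.mem_sup_left hx⟩ _).trans ?_
        rw [hev]
        exact hψv ⟨x, hx⟩
  have hinv : ∀ (P : Subgroup Ω) (hP : P ≤ S₁) (φ : P →* Ω), φ ∈ R'.Hom P → ∀ α ∈ F.autGroup S₁,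
      ∃ χ ∈ R'.Hom ((P.subgroupOf S₁).map (S₁.subtype.comp α.toMonoidHom)),
        ∀ (x : P) (hφx : φ x ∈ S₁)
          (hαx : ((α ⟨x, hP x.2⟩ : S₁) : Ω) ∈ (P.subgroupOf S₁).map (S₁.subtype.comp α.toMonoidHom)),
          χ ⟨(α ⟨x, hP x.2⟩ : S₁), hαx⟩ = ((α ⟨φ x, hφx⟩ : S₁) : Ω) := by
    intro P hP φ hφ α hα
    obtain ⟨hφF, -, -, ψ, hψ, hψv, hψfix⟩ := ((hR' P hP) ▸ hφ : φ ∈ F.centralizerHom S₂ P)
    set M := (P.subgroupOf S₁).map (S₁.subtype.comp α.toMonoidHom) with hM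
    obtain ⟨χ, hχ, hχv⟩ := transport hα h₁ hP hφF
    have hMS : M ≤ S₁ := by
      rintro _ ⟨x, -, rfl⟩
      exact (α x).2
    refine ⟨χ, ?_, hχv⟩
    rw [hR' M hMS]
    refine ⟨hχ, hMS.trans (le_centralizerIn' hprod), fun x => le_centralizerIn' hprod
      (h₁.2 M hMS _ hχ x), ?_⟩
    obtain ⟨β, hβ, hβv⟩ := extend_aut hS hF h₁ (le_centralizerIn hprod le_rfl) hprod.2.2.2.2
      ((mem_autGroup_iff hS₁S).1 hα)
    have hdom : ∀ z : ↥(M ⊔ S₂), (β.symm ⟨z, (sup_le (hMS.trans hS₁S) h₂.1) z.2⟩ : Ω) ∈ P ⊔ S₂ := by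
      rintro ⟨z, hz⟩
      obtain ⟨m, hm, b, hb, rfl⟩ := (mem_sup_stronglyClosed (hMS.trans hS₁S) h₂).1 hz
      obtain ⟨x, hx, rfl⟩ := hm
      have e3 : (⟨(S₁.subtype.comp α.toMonoidHom) x * b, sup_le (hMS.trans hS₁S) h₂.1 hz⟩ : S) =
          β ⟨x, hS₁S x.2⟩ * ⟨b, h₂.1 hb⟩ := by
        refine Subtype.ext ?_
        rw [Subgroup.coe_mul, hβv]
        rfl
      show (β.symm ⟨_, _⟩ : Ω) ∈ P ⊔ S₂
      rw [e3, map_mul, MulEquiv.symm_apply_apply]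
      exact Subgroup.mul_mem _ (Subgroup.mem_sup_left hx)
        (Subgroup.mem_sup_right (apply_mem_of_stronglyClosed h₂ hβ.symm hb))
    have hm1 := CfsgLib.Fusion.restrict_mem hβ.symm (sup_le (hMS.trans hS₁S) h₂.1)
    have hm2 := F.comp_mem hm1 hψ hdom
    have hm3 := F.comp_mem hm2 hβ (apply_mem hm2)
    refine ⟨_, hm3, fun y => ?_, fun b => ?_⟩
    · obtain ⟨x, hx, hxy⟩ := y.2
      have hy : y = ⟨(α ⟨x, hP hx⟩ : S₁), ⟨⟨x, hP hx⟩, hx, rfl⟩⟩ := by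
        refine Subtype.ext ?_
        rw [← hxy]
        exact congrArg (fun w => ((α w : S₁) : Ω)) (Subtype.ext rfl)
      subst hy
      rw [hχv ⟨x, hx⟩ (h₁.2 P hP φ hφF _) ⟨⟨x, hP hx⟩, hx, rfl⟩]
      show (β ⟨ψ ⟨(β.symm ⟨(α ⟨x, hP hx⟩ : S₁), _⟩ : Ω), _⟩, _⟩ : Ω) = _
      have e4 : β.symm (⟨(α ⟨x, hP hx⟩ : S₁), hS₁S (α ⟨x, hP hx⟩).2⟩ : S) = ⟨x, hS₁S (hP hx)⟩ := by
        rw [MulEquiv.symm_apply_eq]
        exact Subtype.ext (hβv ⟨x, hP hx⟩).symm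
      refine Eq.trans ?_ (hβv ⟨φ ⟨x, hx⟩, h₁.2 P hP φ hφF _⟩)
      refine congrArg (fun w => ((β w : S) : Ω)) (Subtype.ext ?_)
      refine Eq.trans (congrArg ψ (Subtype.ext (congrArg (fun z : S => (z : Ω)) e4))) (hψv ⟨x, hx⟩)
    · show (β ⟨ψ ⟨(β.symm ⟨b, _⟩ : Ω), _⟩, _⟩ : Ω) = b
      have hb' : (β.symm ⟨b, h₂.1 b.2⟩ : Ω) ∈ S₂ := apply_mem_of_stronglyClosed h₂ hβ.symm b.2
      refine Eq.trans (congrArg (fun w => ((β w : S) : Ω))
        (Subtype.ext (hψfix ⟨_, hb'⟩) : _ = β.symm ⟨b, h₂.1 b.2⟩)) ?_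
      simp
  refine ⟨hRsat, hR'sat, ⟨⟨hR'sat, hF, hR'sub, h₁, hinv, hsplit⟩, ?_⟩,
    ⟨⟨hR'sat, hRsat, hR'R, ⟨le_rfl, fun U _ φ hφ x => (R.le_of_mem hφ).2 x⟩, ?_, ?_⟩, ?_⟩,
    hRsat, hF, hRsub, h₁, ?_, ?_⟩
  · intro α hα
    have hαI := (mem_autGroup_iff le_rfl).1 hα
    obtain ⟨-, -, -, ψ, hψ, hψv, hψfix⟩ := ((hR' S₁ le_rfl) ▸ hαI :
      S₁.subtype.comp α.toMonoidHom ∈ F.centralizerHom S₂ S₁)
    have hC : S₁ ⊔ centralizerIn S S₁ = S := le_antisymm (sup_le hS₁S (centralizerIn_le _ _))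
      (by conv_lhs => rw [← hprod.2.2.2.2]
          exact sup_le_sup_left (le_centralizerIn hprod le_rfl) _)
    have hC' : S₁ ⊔ centralizerIn S S₁ = S₁ ⊔ S₂ := hC.trans hprod.2.2.2.2.symm
    have hψ' := CfsgLib.Fusion.restrict_mem hψ hC'.le
    have hr : (restrictHom ψ hC'.le).range = S₁ ⊔ centralizerIn S S₁ := by
      haveI := finite_of_le (hC.le : S₁ ⊔ centralizerIn S S₁ ≤ S)
      refine Subgroup.eq_of_le_of_card_ge ((range_le hψ').trans hC.ge) ?_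
      rw [← imgHom_self, card_imgHom (F.injective_of_mem hψ') le_rfl]
    obtain ⟨e, he, hev⟩ := exists_iso hψ' hr
    refine ⟨e, IsIso.mem_autGroup he, fun x => (hev _).trans (hψv x), fun c hc => ?_⟩
    obtain ⟨a, ha, b, hb, hab⟩ := exists_mul hprod h₂ hc.1
    have hcd : restrictHom ψ hC'.le c = ((α ⟨a, ha⟩ : S₁) : Ω) * b := by
      have hcs : (⟨(c : Ω), hC'.le c.2⟩ : ↥(S₁ ⊔ S₂)) = Subgroup.inclusion le_sup_left (⟨a, ha⟩ : S₁) *
          Subgroup.inclusion le_sup_right (⟨b, hb⟩ : S₂) := Subtype.ext hab.symm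
      show ψ ⟨(c : Ω), _⟩ = _
      rw [hcs, map_mul, hψv, hψfix]
      rfl
    have hza : ∀ y ∈ S₁, y * a = a * y := fun y hy => by
      have h1 := (mem_centralizerIn.1 hc).2 y hy
      have h2 := hprod.2.2.1 y hy b hb
      rw [← hab] at h1
      refine mul_right_cancel (b := b) ?_
      calc y * a * b = a * b * y := by rw [mul_assoc]; exact h1
        _ = a * y * b := by rw [mul_assoc, ← h2, ← mul_assoc]
    have hzα : ∀ y ∈ S₁, y * ((α ⟨a, ha⟩ : S₁) : Ω) = ((α ⟨a, ha⟩ : S₁) : Ω) * y := fun y hy => by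
      obtain ⟨w, hw⟩ := α.surjective ⟨y, hy⟩
      have : y = ((α w : S₁) : Ω) := (congrArg Subtype.val hw).symm
      rw [this, ← Subgroup.coe_mul, ← Subgroup.coe_mul, ← map_mul, ← map_mul]
      exact congrArg (fun z => ((α z : S₁) : Ω)) (Subtype.ext (hza _ w.2))
    rw [hev, hcd, ← hab]
    have hfin : (a * b)⁻¹ * (((α ⟨a, ha⟩ : S₁) : Ω) * b) = a⁻¹ * ((α ⟨a, ha⟩ : S₁) : Ω) := by
      have h2 := hprod.2.2.1 (a⁻¹ * (α ⟨a, ha⟩ : S₁)) (S₁.mul_mem (S₁.inv_mem ha) (α _).2) b hb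
      calc (a * b)⁻¹ * (((α ⟨a, ha⟩ : S₁) : Ω) * b)
          = b⁻¹ * (a⁻¹ * ((α ⟨a, ha⟩ : S₁) : Ω) * b) := by simp [mul_assoc]
        _ = a⁻¹ * ((α ⟨a, ha⟩ : S₁) : Ω) := by rw [h2, inv_mul_cancel_left]
    rw [hfin]
    refine Subgroup.mem_inf.2 ⟨S₁.mul_mem (S₁.inv_mem ha) (α _).2, ?_⟩
    refine Subgroup.mul_mem _ (Subgroup.inv_mem _ ?_) ?_
    · exact Subgroup.mem_centralizer_iff.2 hza
    · exact Subgroup.mem_centralizer_iff.2 hzα
  · intro P hP φ hφ α hα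
    rw [hRaut S₁ le_rfl] at hα
    exact hinv P hP φ hφ α hα
  · intro P hP φ hφ
    obtain ⟨α, hα, h'⟩ := hsplit P hP φ (hRsub P hφ)
    exact ⟨α, (hRaut S₁ le_rfl).symm ▸ hα, h'⟩
  · intro α hα
    have hαR : IsIso R (α : S₁ ≃* S₁) := hR'R _ ((mem_autGroup_iff le_rfl).1 hα)
    have hC : S₁ ⊔ centralizerIn S₁ S₁ = S₁ := sup_eq_left.2 (centralizerIn_le _ _)
    set e : ↥(S₁ ⊔ centralizerIn S₁ S₁) ≃* ↥(S₁ ⊔ centralizerIn S₁ S₁) :=
      (MulEquiv.subgroupCongr hC).trans ((α : S₁ ≃* S₁).trans (MulEquiv.subgroupCongr hC.symm)) with he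
    have heI : IsIso R e := mem_of_eq hC hαR fun x hx => rfl
    refine ⟨e, IsIso.mem_autGroup heI, fun x => rfl, fun c hc => ?_⟩
    refine Subgroup.mem_inf.2 ⟨S₁.mul_mem (S₁.inv_mem (hC.le c.2)) (hC.le (e c).2), ?_⟩
    refine Subgroup.mul_mem _ (Subgroup.inv_mem _ hc.2) (Subgroup.mem_centralizer_iff.2 fun y hy => ?_)
    obtain ⟨w, hw⟩ := α.surjective ⟨y, hy⟩
    have : y = ((α w : S₁) : Ω) := (congrArg Subtype.val hw).symm
    rw [this]
    show ((α w : S₁) : Ω) * ((α ⟨(c : Ω), hC.le c.2⟩ : S₁) : Ω) =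
      ((α ⟨(c : Ω), hC.le c.2⟩ : S₁) : Ω) * ((α w : S₁) : Ω)
    rw [← Subgroup.coe_mul, ← Subgroup.coe_mul, ← map_mul, ← map_mul]
    exact congrArg (fun z => ((α z : S₁) : Ω)) (Subtype.ext ((mem_centralizerIn.1 hc).2 _ w.2))
  · intro P hP φ hφ α hα
    obtain ⟨χ, hχ, hv⟩ := transport hα h₁ hP (hRsub P hφ)
    refine ⟨χ, ?_, hv⟩
    rw [hR _ (by rintro _ ⟨x, -, rfl⟩; exact (α x).2)]
    exact hχ
  · intro P hP φ hφ
    exact ⟨1, Subgroup.one_mem _, φ, (hR P hP).symm ▸ hφ, fun x hx => rfl⟩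

end Cfsg.Agent.S5130
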