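import Cfsg.Statements.S5135
import Cfsg.Agent.FusionFactor.Construct

set_option autoImplicit false
open Cfsg

namespace Cfsg.Agent.S5135

open scoped Pointwise in
/-- A `p`-subgroup of `SH` is carried into `S` by an element of `H`. -/
theorem exists_mem_conj_le {G : Type*} [Group G] [Finite G] {p : ℕ} [Fact p.Prime] (S : Sylow p G)
    (H : Subgroup G) [H.Normal] {K : Subgroup G} (hK : IsPGroup p K) (hle : K ≤ (S : Subgroup G) ⊔ H) :
    ∃ k ∈ H, K.map (MulAut.conj k).toMonoidHom ≤ (S : Subgroup G) := by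
  set M := (S : Subgroup G) ⊔ H with hM
  obtain ⟨R, hR⟩ := (hK.comap_subtype (K := M)).exists_le_sylow
  obtain ⟨m, hm⟩ := MulAction.exists_smul_eq M R (S.subtype le_sup_left)
  have hmM : (m : G) ∈ (S : Subgroup G) ⊔ H := m.2
  obtain ⟨s, hs, k, hk, hsk⟩ := Subgroup.mem_sup_of_normal_right.mp hmM
  refine ⟨k, hk, ?_⟩
  rintro _ ⟨x, hx, rfl⟩
  have h1 : (⟨x, hle hx⟩ : M) ∈ (R : Subgroup M) := hR hx
  have h2 : MulAut.conj m • (⟨x, hle hx⟩ : M) ∈ ((S.subtype (le_sup_left : (S : Subgroup G) ≤ M) : Sylow p M) : Subgroup M) := by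
    rw [← hm, Sylow.coe_subgroup_smul]
    exact Subgroup.smul_mem_pointwise_smul _ _ _ h1
  have h3 : (m : G) * x * (m : G)⁻¹ ∈ (S : Subgroup G) := h2
  rw [← hsk] at h3
  have := Subgroup.mul_mem _ (Subgroup.mul_mem _ (Subgroup.inv_mem _ hs) h3) hs
  simpa [mul_assoc] using this

/-- Let G be a finite group, S a Sylow p-subgroup and H a normal subgroup of G. Then the fusion system of G/H on the image SH/H of S is the factor system of the fusion system of G on S modulo S ∩ H, read through the quotient map restricted to S: for each subgroup P' of SH/H, the conjugation maps by elements of G/H defined on P' with values in SH/H are exactly the homomorphisms induced by the conjugation maps by elements of G defined on the full preimage of P' in S with values in S. -/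
theorem result {G : Type*} [Group G] [Finite G] (p : ℕ) [Fact p.Prime] (S : Sylow p G) (H : Subgroup G) [H.Normal] : (Cfsg.groupFusionSystem (S : Subgroup G)).IsFactorSystem ((S : Subgroup G) ⊓ H) ((QuotientGroup.mk' H).comp (S : Subgroup G).subtype) (Cfsg.groupFusionSystem ((S : Subgroup G).map (QuotientGroup.mk' H))) := by
  refine ⟨inf_le_left, fun s => ?_, ?_, fun P' φ' => ⟨?_, ?_⟩⟩
  · rw [MonoidHom.comp_apply, QuotientGroup.mk'_apply, QuotientGroup.eq_one_iff]
    exact ⟨fun h => ⟨s.2, h⟩, fun h => h.2⟩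
  · rw [MonoidHom.range_comp, Subgroup.range_subtype]
  · rintro ⟨hP', hφS, q, hq⟩
    refine ⟨hP', ?_⟩
    obtain ⟨g, rfl⟩ := QuotientGroup.mk'_surjective H q
    set θ := (QuotientGroup.mk' H).comp (S : Subgroup G).subtype with hθ
    set P := FusionSystem.preimageAlong θ P' with hP
    have hPS : P ≤ (S : Subgroup G) := CfsgLib.FusionFactor.preimageAlong_le θ P'
    have hconj : P.map (MulAut.conj g).toMonoidHom ≤ (S : Subgroup G) ⊔ H := by
      rintro _ ⟨x, hx, rfl⟩
      obtain ⟨hxS, hxP⟩ := CfsgLib.FusionFactor.mem_preimageAlong.mp hx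
      obtain ⟨s, hs, hsx⟩ := hφS ⟨_, hxP⟩
      rw [hq] at hsx
      have : s⁻¹ * (g * x * g⁻¹) ∈ H := QuotientGroup.eq.mp (hsx.trans rfl)
      have := Subgroup.mul_mem _ (Subgroup.mem_sup_left hs) (Subgroup.mem_sup_right this)
      simpa using this
    have hK : IsPGroup p (P.map (MulAut.conj g).toMonoidHom) :=
      (S.2.to_le hPS).map _
    obtain ⟨k, hk, hkP⟩ := exists_mem_conj_le S H hK hconj
    have hmem : ∀ x : P, k * g * (x : G) * (k * g)⁻¹ ∈ (S : Subgroup G) := by
      intro x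
      have := hkP ⟨_, ⟨_, x.2, rfl⟩, rfl⟩
      simpa [mul_assoc] using this
    refine ⟨conjHom P (k * g), ⟨hPS, hmem, k * g, fun x => rfl⟩, hPS, hmem,
      fun x => (CfsgLib.FusionFactor.mem_preimageAlong.mp x.2).2, fun x => ?_⟩
    rw [hq]
    show QuotientGroup.mk' H g * QuotientGroup.mk' H (x : G) * (QuotientGroup.mk' H g)⁻¹ =
      QuotientGroup.mk' H (k * g * (x : G) * (k * g)⁻¹)
    have hk1 : QuotientGroup.mk' H k = 1 := (QuotientGroup.eq_one_iff k).mpr hk
    simp only [map_mul, map_inv, hk1, one_mul]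
  · rintro ⟨hP', φ, ⟨-, -, g, hg⟩, hPS, hφS, hPP, hind⟩
    have hex : ∀ y : P', ∃ x : FusionSystem.preimageAlong ((QuotientGroup.mk' H).comp (S : Subgroup G).subtype) P',
        (⟨_, hPP x⟩ : P') = y := by
      intro y
      obtain ⟨s, hs, hsy⟩ := hP' y.2
      exact ⟨⟨s, CfsgLib.FusionFactor.mem_preimageAlong.mpr ⟨hs, hsy.symm ▸ y.2⟩⟩, Subtype.ext hsy⟩
    refine ⟨hP', fun y => ?_, QuotientGroup.mk' H g, fun y => ?_⟩
    · obtain ⟨x, rfl⟩ := hex y
      rw [hind x]
      exact ⟨φ x, hφS x, rfl⟩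
    · obtain ⟨x, rfl⟩ := hex y
      rw [hind x]
      show QuotientGroup.mk' H (φ x) = _
      rw [hg x, map_mul, map_mul, map_inv]
      rfl

end Cfsg.Agent.S5135
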