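import Cfsg.Statements.S5138
import Cfsg.Agent.FusionLayer.Product.Normal
import Cfsg.Agent.FusionLayer.Product.Central
import Cfsg.Agent.FusionLayer.Residual.Normal
-- import your own Cfsg.Agent.* helpers here

set_option autoImplicit false
open Cfsg

namespace Cfsg.Agent.S5138

/-- Let F be a saturated fusion system over a finite p-group S and E₁, E₂ normal subsystems over T₁, T₂ with [T₁, T₂] = 1. Then there is a normal subsystem of F over T₁T₂ which, if moreover T₁ ∩ T₂ lies in the centre of E₁ and in the centre of E₂, is a central product of E₁ and E₂ (the factor system of a direct product of E₁ and E₂ modulo a subgroup of its centre meeting both factors trivially). -/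
theorem result {Ω : Type*} [Group Ω] {S : Subgroup Ω} [Finite S] (p : ℕ) [Fact p.Prime] (hS : IsPGroup p S) (F : Cfsg.FusionSystem S) (hF : F.IsSaturated p) {T₁ T₂ : Subgroup Ω} (E₁ : Cfsg.FusionSystem T₁) (E₂ : Cfsg.FusionSystem T₂) (hE₁ : E₁.IsNormalIn F p) (hE₂ : E₂.IsNormalIn F p) (hc : ⁅T₁, T₂⁆ = ⊥) : ∃ D : Cfsg.FusionSystem (T₁ ⊔ T₂), D.IsNormalIn F p ∧ (T₁ ⊓ T₂ ≤ E₁.center → T₁ ⊓ T₂ ≤ E₂.center → Cfsg.FusionSystem.IsCentralProductOf E₁ E₂ D) := by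
  have hc' : ∀ a ∈ T₁, ∀ b ∈ T₂, a * b = b * a := fun a ha b hb =>
    (Subgroup.mem_centralizer_iff.1
      (Subgroup.commutator_eq_bot_iff_le_centralizer.1 hc ha) b hb).symm
  have hT₁ := hE₁.1.2.2.2.1
  have hT₂ := hE₂.1.2.2.2.1
  have := CfsgLib.Fusion.finite_of_le hT₁.1
  have := CfsgLib.Fusion.finite_of_le hT₂.1
  have hp₁ := hS.to_le hT₁.1
  have hp₂ := hS.to_le hT₂.1
  by_cases hcase : T₁ ⊓ T₂ ≤ E₁.center ∧ T₁ ⊓ T₂ ≤ E₂.center
  · obtain ⟨D, hDs, hDc, hD⟩ := CfsgLib.FusionLayer.Product.exists_central_product hp₁ hp₂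
      hE₁.1.1 hE₂.1.1 hc' hcase.1 hcase.2
    exact ⟨D, CfsgLib.FusionLayer.Product.isNormalIn_product hS hE₁ hE₂ hc' hcase.1 hcase.2 hDs hD,
      fun _ _ => hDc⟩
  have hR₁ := CfsgLib.PPrimeResidual.residual_isPPrimeResidual hp₁ hE₁.1.1
  have hR₂ := CfsgLib.PPrimeResidual.residual_isPPrimeResidual hp₂ hE₂.1.1
  have hn₁ := CfsgLib.FusionLayer.isNormalIn_of_isPPrimeResidual hS hE₁.1 hR₁
  have hn₂ := CfsgLib.FusionLayer.isNormalIn_of_isPPrimeResidual hS hE₂.1 hR₂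
  have hsc := CfsgLib.Fusion.stronglyClosed_inf hT₁ hT₂
  have hZ₁ := CfsgLib.FusionLayer.Product.le_center_residual (Z := T₁ ⊓ T₂) hp₁ hE₁.1.1
    ⟨inf_le_left, fun R hR φ hφ => hsc.2 R hR φ (hE₁.1.2.2.1 R hφ)⟩
    (le_antisymm inf_le_left fun a ha => CfsgLib.Fusion.mem_centralizerIn.2
      ⟨ha, fun z hz => (hc' a ha z hz.2).symm⟩) hR₁
  have hZ₂ := CfsgLib.FusionLayer.Product.le_center_residual (Z := T₁ ⊓ T₂) hp₂ hE₂.1.1
    ⟨inf_le_right, fun R hR φ hφ => hsc.2 R hR φ (hE₂.1.2.2.1 R hφ)⟩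
    (le_antisymm inf_le_left fun b hb => CfsgLib.Fusion.mem_centralizerIn.2
      ⟨hb, fun z hz => hc' z hz.1 b hb⟩) hR₂
  obtain ⟨D, hDs, -, hD⟩ := CfsgLib.FusionLayer.Product.exists_central_product hp₁ hp₂
    hn₁.1.1 hn₂.1.1 hc' hZ₁ hZ₂
  exact ⟨D, CfsgLib.FusionLayer.Product.isNormalIn_product hS hn₁ hn₂ hc' hZ₁ hZ₂ hDs hD,
    fun h₁ h₂ => absurd ⟨h₁, h₂⟩ hcase⟩

end Cfsg.Agent.S5138
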