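import Cfsg.Statements.S5153
import Cfsg.Agent.Fusion.Saturation
import Cfsg.Agent.FusionFactor.Lift

set_option autoImplicit false
open Cfsg

namespace Cfsg.Agent.S5153

/-- A subnormal subsystem sits inside. -/
theorem subnormal_le {Ω : Type*} [Group Ω] {T S : Subgroup Ω} {E : Cfsg.FusionSystem T}
    {F : Cfsg.FusionSystem S} {p : ℕ} (h : E.IsSubnormalIn F p) : T ≤ S := by
  induction h with
  | refl F q => exact le_rfl
  | step _ h2 ih => exact ih.trans h2.1.2.2.2.1.1

open Cfsg.FusionSystem CfsgLib.Fusion in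
/-- One normal step. -/
theorem step {Ω : Type*} [Group Ω] {S T : Subgroup Ω} [Finite S] {p : ℕ} [Fact p.Prime]
    (hS : IsPGroup p S) {F : Cfsg.FusionSystem S} {E : Cfsg.FusionSystem T} (hE : E.IsNormalIn F p)
    {P : Subgroup Ω} (hPT : P ≤ T) (hP : F.IsFullyNormalized P) : E.IsFullyNormalized P := by
  obtain ⟨⟨-, hF, hsub, hT, -, -⟩, -⟩ := hE
  refine ⟨hPT, fun Q hQ => ?_⟩
  have hQT : Q ≤ T := le_of_isConj_right hQ
  obtain ⟨φ, hφ, hr⟩ := hQ
  obtain ⟨ha, hb⟩ := automized_receptive hS hF hP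
  obtain ⟨χ, hχ, hmem, -⟩ := exists_map_normalizerIn hS ha hb
    (isConj_symm ⟨φ, hsub P hφ, hr⟩)
  haveI : Finite T := finite_of_le hT.1
  haveI := finite_of_le (normalizerIn_le T P)
  refine Nat.card_le_card_of_injective (fun x : normalizerIn T Q =>
    (⟨χ ⟨x, hT.1 x.2.1, x.2.2⟩, ?_, (hmem _).2⟩ : normalizerIn T P)) ?_
  · exact CfsgLib.FusionFactor.apply_mem_of_stronglyClosed hT hχ x.2.1
  · intro a b hab
    exact Subtype.ext (congrArg (fun z : normalizerIn S Q => (z : Ω))
      (F.injective_of_mem hχ (congrArg Subtype.val hab) :))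

/-- Let F be a saturated fusion system over a finite p-group S and E a subnormal subsystem of F over T. Then every subgroup of T that is fully normalized in F is fully normalized in E. -/
theorem result {Ω : Type*} [Group Ω] {S : Subgroup Ω} [Finite S] (p : ℕ) [Fact p.Prime] (hS : IsPGroup p S) (F : Cfsg.FusionSystem S) (hF : F.IsSaturated p) {T : Subgroup Ω} (E : Cfsg.FusionSystem T) (hE : E.IsSubnormalIn F p) (P : Subgroup Ω) (hPT : P ≤ T) (hP : F.IsFullyNormalized P) : E.IsFullyNormalized P := by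
  have key : ∀ {T S : Subgroup Ω} (E : Cfsg.FusionSystem T) (F : Cfsg.FusionSystem S) (q : ℕ),
      E.IsSubnormalIn F q → q = p → IsPGroup p S → Finite S → F.IsSaturated p →
        ∀ P : Subgroup Ω, P ≤ T → F.IsFullyNormalized P → E.IsFullyNormalized P ∧ T ≤ S := by
    intro T S E F q h
    induction h with
    | refl F q => intro _ _ _ _ P _ hP; exact ⟨hP, le_rfl⟩
    | step h1 h2 ih =>
      rename_i T U S E D F q
      intro hq hS hfin hF P hPT hP
      subst hq
      have hUS : U ≤ S := h2.1.2.2.2.1.1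
      have hTU : T ≤ U := subnormal_le h1
      haveI := hfin
      haveI : Finite U := CfsgLib.Fusion.finite_of_le hUS
      exact ⟨(ih rfl (hS.to_le hUS) inferInstance h2.1.1 P hPT
        (step hS h2 (hPT.trans hTU) hP)).1, hTU.trans hUS⟩
  exact (key E F p hE rfl hS inferInstance hF P hPT hP).1

end Cfsg.Agent.S5153
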