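import Cfsg.Statements.S5156
import Cfsg.Agent.FusionLayer.Series
-- import your own Cfsg.Agent.* helpers here

set_option autoImplicit false
universe u
open Cfsg

namespace Cfsg.Agent.S5156

/-- A saturated fusion system over a finite p-group has a terminating alternating chain of p'-residual and p-residual subsystems (the chain reaches the trivial system — the notion of solvability adapted to fusion systems of p-solvable groups) if and only if it is constrained and its models are p-solvable (a model is a finite group realizing the system on a Sylow p-subgroup with self-centralizing largest normal p-subgroup; it exists and is unique up to isomorphism for constrained systems). -/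
theorem result {Ω : Type u} [Group Ω] {S : Subgroup Ω} [Finite S] (p : ℕ) [Fact p.Prime] (hS : IsPGroup p S) (F : Cfsg.FusionSystem S) (hF : F.IsSaturated p) : F.HasTerminatingResidualSeries p ↔ (F.IsConstrained p ∧ ∀ (G : Type u) [Group G] (ι : S →* G), F.IsModel p G ι → Cfsg.IsPSolvable p G) := by
  have hcen : ∀ h : F.IsConstrained p, F.IsCentric F.core := fun h =>
    CfsgLib.FusionConstrained.isCentric_of_stronglyClosed
      (CfsgLib.Fusion.stronglyClosed_of_normal (CfsgLib.FusionFactor.isNormal_core F))
      (CfsgLib.FusionConstrained.core_centralizer_le h)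
  constructor
  · intro h
    obtain ⟨hc, hA⟩ := CfsgLib.FusionLayer.constrained_of_series h hS hF
    refine ⟨hc, fun G _ ι hm => ?_⟩
    have := hm.1
    obtain ⟨f, -, hker⟩ :=
      CfsgLib.FusionSub.exists_surj_autGroup hm (CfsgLib.FusionFactor.isNormal_core F)
    obtain ⟨Q', -, hQ'im, hQ'n⟩ := CfsgLib.Fusion.exists_pCore_preimage hm
    exact CfsgLib.FusionLayer.isPSolvable_of_ker hA f
      ((CfsgLib.PLocal.isPGroup_pCore p G).to_le ((hker.trans (Subgroup.centralizer_le
        (hQ'im ▸ CfsgLib.Fusion.im_mono ι (le_sSup hQ'n)))).trans hm.2.2.2))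
  · rintro ⟨hc, hmod⟩
    obtain ⟨G, _, ι, hm⟩ := CfsgLib.Fusion.exists_model hS hF
      (CfsgLib.FusionFactor.isNormal_core F) (hcen hc)
    have := hm.1
    obtain ⟨f, hf, -⟩ :=
      CfsgLib.FusionSub.exists_surj_autGroup hm (CfsgLib.FusionFactor.isNormal_core F)
    exact CfsgLib.FusionLayer.series_of_constrained (Nat.card S) le_rfl hS F hc
      (CfsgLib.PLocal.isPSolvable_of_surjective (hmod G ι hm) hf)

end Cfsg.Agent.S5156
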