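import Cfsg.Statements.S5189
import Cfsg.Agent.FusionTwoEssentials.Final
import Cfsg.Agent.FusionTwoEssentials.Main
import Cfsg.Agent.MonsterType.ExtraIso

set_option autoImplicit false
universe u
open Cfsg

namespace Cfsg.Agent.S5189

/-- Let p be an odd prime, S a finite p-group of sectional p-rank exactly 3, and F a saturated fusion system over S whose largest subgroup normal in F is trivial. Suppose S has two distinct essential subgroups E₁, E₂ each of which is invariant under every F-automorphism of S. Then S is isomorphic to a Sylow p-subgroup of Sp(4,p), and one of E₁, E₂ is extraspecial of order p³ and exponent p while the other is elementary abelian of order p³. -/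
theorem result {Ω : Type u} [Group Ω] {S : Subgroup Ω} [Finite S] (p : ℕ) [Fact p.Prime] (hp : Odd p) (hS : IsPGroup p S)
    (hsr : Cfsg.SectionalPRankLE p 3 ↥S ∧ ¬ Cfsg.SectionalPRankLE p 2 ↥S)
    (F : Cfsg.FusionSystem S) (hF : F.IsSaturated p) (hO : F.core = ⊥)
    (E₁ E₂ : Subgroup Ω) (hne : E₁ ≠ E₂) (hE₁ : F.IsEssential p E₁) (hE₂ : F.IsEssential p E₂)
    (hc₁ : (∀ φ : MulAut ↥S, φ ∈ F.autGroup S → (E₁.subgroupOf S).map φ.toMonoidHom = E₁.subgroupOf S))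
    (hc₂ : (∀ φ : MulAut ↥S, φ ∈ F.autGroup S → (E₂.subgroupOf S).map φ.toMonoidHom = E₂.subgroupOf S)) :
    (∃ P : Sylow p ↥(Matrix.symplecticGroup (Fin 2) (ZMod p)),
        Nonempty (↥S ≃* ↥(P : Subgroup ↥(Matrix.symplecticGroup (Fin 2) (ZMod p))))) ∧
      ((Cfsg.IsExtraspecial p ↥E₁ ∧ Nat.card E₁ = p ^ 3 ∧ (∀ x ∈ E₁, x ^ p = 1) ∧
          Cfsg.IsElementaryAbelian p E₂ ∧ Nat.card E₂ = p ^ 3) ∨
        (Cfsg.IsExtraspecial p ↥E₂ ∧ Nat.card E₂ = p ^ 3 ∧ (∀ x ∈ E₂, x ^ p = 1) ∧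
          Cfsg.IsElementaryAbelian p E₁ ∧ Nat.card E₁ = p ^ 3)) := by
  have hp2 : p ≠ 2 := fun h => by subst h; exact absurd hp (by decide)
  have hrk : CfsgLib.FusionTwoEssentials.Rank3 p ↥S :=
    CfsgLib.FusionTwoEssentials.Rank3.of_sectional hsr.1
  have hinn : ∀ g : ↥S, MulAut.conj g ∈ F.autGroup S := fun g =>
    CfsgLib.Fusion.Inn_le_autGroup le_rfl ⟨g, rfl⟩
  have hnorm : ∀ E : Subgroup Ω, (∀ φ : MulAut ↥S, φ ∈ F.autGroup S →
      (E.subgroupOf S).map φ.toMonoidHom = E.subgroupOf S) → (E.subgroupOf S).Normal :=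
    fun E hc => ⟨fun x hx g => by rw [← hc _ (hinn g)]; exact ⟨x, hx, rfl⟩⟩
  have hstab : ∀ E : Subgroup Ω, (∀ φ : MulAut ↥S, φ ∈ F.autGroup S →
      (E.subgroupOf S).map φ.toMonoidHom = E.subgroupOf S) →
      ∀ β ∈ F.autGroup S, ∀ x ∈ E.subgroupOf S, β x ∈ E.subgroupOf S :=
    fun E hc β hβ x hx => by rw [← hc β hβ]; exact ⟨x, hx, rfl⟩
  obtain ⟨s, hs, -⟩ := CfsgLib.FusionTwoEssentials.exists_side hp2 hS hF hrk hE₁ (hnorm E₁ hc₁)
    (F.autGroup S) le_rfl hinn (hstab E₁ hc₁) (fun β hβ _ => hβ)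
  obtain ⟨t, ht, -⟩ := CfsgLib.FusionTwoEssentials.exists_side hp2 hS hF hrk hE₂ (hnorm E₂ hc₂)
    (F.autGroup S) le_rfl hinn (hstab E₂ hc₂) (fun β hβ _ => hβ)
  have hne' : s.E ≠ t.E := fun h => hne (by
    rw [hs, ht, Subgroup.subgroupOf_inj, inf_eq_left.2 hE₁.1.1, inf_eq_left.2 hE₂.1.1] at h
    exact h)
  have key : ∀ (A B : Subgroup Ω), A ≤ S → B ≤ S → ∀ (A' B' : Subgroup ↥S),
      A' = A.subgroupOf S → B' = B.subgroupOf S →
      Cfsg.IsExtraspecial p ↥A' → Nat.card A' = p ^ 3 → (∀ x ∈ A', x ^ p = 1) →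
      Cfsg.IsElementaryAbelian p B' → Nat.card B' = p ^ 3 →
      Cfsg.IsExtraspecial p ↥A ∧ Nat.card A = p ^ 3 ∧ (∀ x ∈ A, x ^ p = 1) ∧
        Cfsg.IsElementaryAbelian p B ∧ Nat.card B = p ^ 3 := by
    rintro A B hA hB _ _ rfl rfl h1 h2 h3 h4 h5
    haveI := CfsgLib.Fusion.finite_of_le hA
    refine ⟨CfsgLib.MonsterType.extraspecial_congr (Subgroup.subgroupOfEquivOfLe hA) h1, ?_, ?_,
      ⟨⟨⟨fun a b => Subtype.ext ?_⟩⟩, fun b hb => ?_⟩, ?_⟩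
    · rw [← h2]; exact Nat.card_congr (Subgroup.subgroupOfEquivOfLe hA).symm.toEquiv
    · intro x hx
      simpa using congrArg Subtype.val (h3 ⟨x, hA hx⟩ hx)
    · have h := h4.1.is_comm.comm (⟨⟨a, hB a.2⟩, a.2⟩ : B.subgroupOf S) ⟨⟨b, hB b.2⟩, b.2⟩
      exact congrArg (fun z : B.subgroupOf S => ((z : ↥S) : Ω)) h
    · simpa using congrArg Subtype.val (h4.2 ⟨b, hB hb⟩ hb)
    · rw [← h5]; exact Nat.card_congr (Subgroup.subgroupOfEquivOfLe hB).symm.toEquiv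
  rcases CfsgLib.FusionTwoEssentials.exists_core_or hp2 (Nat.card ↥S) ↥S rfl hS hrk (F.autGroup S)
      s t hne' with ⟨⟨c⟩⟩ | ⟨⟨c⟩⟩
  · obtain ⟨hP, h1, h2, h3, h4, h5⟩ :=
      CfsgLib.FusionTwoEssentials.shape c hp2 hS hrk hsr.2 hF hO
    exact ⟨hP, Or.inl (key E₁ E₂ hE₁.1.1 hE₂.1.1 s.E t.E hs ht h1 h2 h3 h4 h5)⟩
  · obtain ⟨hP, h1, h2, h3, h4, h5⟩ :=
      CfsgLib.FusionTwoEssentials.shape c hp2 hS hrk hsr.2 hF hO
    exact ⟨hP, Or.inr (key E₂ E₁ hE₂.1.1 hE₁.1.1 t.E s.E ht hs h1 h2 h3 h4 h5)⟩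

end Cfsg.Agent.S5189
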