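import Cfsg.Statements.S5181
import Cfsg.Agent.FusionAllNormal.Main
import Cfsg.Agent.S5189

set_option autoImplicit false
universe u
open Cfsg

namespace Cfsg.Agent.S5181

/-- Let p be an odd prime, S a finite p-group of sectional p-rank exactly 3, and F a saturated fusion system over S whose largest subgroup normal in F is trivial. Then either S is isomorphic to a Sylow p-subgroup of Sp(4,p), or some essential subgroup of F is not normal in S. -/
theorem result {Ω : Type u} [Group Ω] {S : Subgroup Ω} [Finite S] (p : ℕ) [Fact p.Prime] (hp : Odd p) (hS : IsPGroup p S) (hsr : Cfsg.SectionalPRankLE p 3 ↥S ∧ ¬ Cfsg.SectionalPRankLE p 2 ↥S)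
    (F : Cfsg.FusionSystem S) (hF : F.IsSaturated p) (hO : F.core = ⊥) :
    (∃ P : Sylow p ↥(Matrix.symplecticGroup (Fin 2) (ZMod p)),
        Nonempty (↥S ≃* ↥(P : Subgroup ↥(Matrix.symplecticGroup (Fin 2) (ZMod p))))) ∨
      ∃ E : Subgroup Ω, F.IsEssential p E ∧ ¬ S ≤ Subgroup.normalizer (E : Set Ω) := by
  have hp2 : p ≠ 2 := fun h => by subst h; exact absurd hp (by decide)
  by_cases hall : CfsgLib.FusionAllNormal.AllNormal F p
  · left
    obtain ⟨n, m, hne, hn, hm⟩ := CfsgLib.FusionAllNormal.exists_two_invariant hp2 hS hF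
      (CfsgLib.FusionTwoEssentials.Rank3.of_sectional hsr.1) hsr.2 hO hall
    have hchar : ∀ k : CfsgLib.FusionAllNormal.NSide F p,
        (∀ h ∈ F.autGroup S, ∀ x ∈ k.s.E, h x ∈ k.s.E) →
        ∀ φ : MulAut ↥S, φ ∈ F.autGroup S →
          (k.P.subgroupOf S).map φ.toMonoidHom = k.P.subgroupOf S := by
      intro k hk φ hφ
      refine Subgroup.eq_of_le_of_card_ge ?_
        (Subgroup.card_map_of_injective φ.injective).ge
      rintro _ ⟨x, hx, rfl⟩
      rw [← k.hs] at hx ⊢
      exact hk φ hφ x hx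
    exact (Cfsg.Agent.S5189.result p hp hS hsr F hF hO n.P m.P
      (fun h => hne (by rw [n.hs, m.hs, h])) n.ess m.ess (hchar n hn) (hchar m hm)).1
  · right
    simp only [CfsgLib.FusionAllNormal.AllNormal, not_forall] at hall
    obtain ⟨E, hE, hn⟩ := hall
    exact ⟨E, hE, fun h => hn ((Subgroup.normal_subgroupOf_iff_le_normalizer hE.1.1).2 h)⟩

end Cfsg.Agent.S5181
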