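import Cfsg.Statements.S5182
import Cfsg.Agent.FusionTwoGenEssential.Main
import Cfsg.Agent.FusionAllNormal.Main
import Cfsg.Agent.S5189

set_option autoImplicit false
universe u
open Cfsg

namespace Cfsg.Agent.S5182

/-- Let p ≥ 5 be a prime, S a finite p-group of sectional p-rank exactly 3, and F a saturated fusion system over S whose largest subgroup normal in F is trivial. Then F has an essential subgroup that is either elementary abelian of order p² or extraspecial of order p³ and exponent p. -/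
theorem result {Ω : Type u} [Group Ω] {S : Subgroup Ω} [Finite S] (p : ℕ) [Fact p.Prime] (hp : 5 ≤ p) (hS : IsPGroup p S) (hsr : Cfsg.SectionalPRankLE p 3 ↥S ∧ ¬ Cfsg.SectionalPRankLE p 2 ↥S)
    (F : Cfsg.FusionSystem S) (hF : F.IsSaturated p) (hO : F.core = ⊥) :
    ∃ E : Subgroup Ω, (F.IsEssential p E ∧ ((Cfsg.IsElementaryAbelian p E ∧ Nat.card E = p ^ 2) ∨
        (Cfsg.IsExtraspecial p ↥E ∧ Nat.card E = p ^ 3 ∧ ∀ x ∈ E, x ^ p = 1))) := by
  have hp2 : p ≠ 2 := by omega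
  by_contra hcon
  push Not at hcon
  have hno : ∀ E : Subgroup Ω, F.IsEssential p E →
      ¬ ((Cfsg.IsElementaryAbelian p E ∧ Nat.card E = p ^ 2) ∨
        (Cfsg.IsExtraspecial p ↥E ∧ Nat.card E = p ^ 3 ∧ ∀ x ∈ E, x ^ p = 1)) := by
    rintro E hE (⟨h1, h2⟩ | ⟨h1, h2, h3⟩)
    · exact (hcon E hE).1 h1 h2
    · obtain ⟨x, hx, hx'⟩ := (hcon E hE).2 h1 h2
      exact hx' (h3 x hx)
  have hall : CfsgLib.FusionAllNormal.AllNormal F p := fun E hE =>
    (Subgroup.normal_subgroupOf_iff_le_normalizer hE.1.1).2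
      ((CfsgLib.FusionTwoGenEssential.pearl_or_normal hp hS hsr.1 hF hE).resolve_left (hno E hE))
  obtain ⟨n, m, hne, hn, hm⟩ := CfsgLib.FusionAllNormal.exists_two_invariant hp2 hS hF
    (CfsgLib.FusionTwoEssentials.Rank3.of_sectional hsr.1) hsr.2 hO hall
  have hchar : ∀ k : CfsgLib.FusionAllNormal.NSide F p,
      (∀ h ∈ F.autGroup S, ∀ x ∈ k.s.E, h x ∈ k.s.E) →
      ∀ φ : MulAut ↥S, φ ∈ F.autGroup S →
        (k.P.subgroupOf S).map φ.toMonoidHom = k.P.subgroupOf S := by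
    intro k hk φ hφ
    refine Subgroup.eq_of_le_of_card_ge ?_
      (Subgroup.card_map_of_injective φ.injective).ge
    rintro _ ⟨x, hx, rfl⟩
    rw [← k.hs] at hx ⊢
    exact hk φ hφ x hx
  have hodd : Odd p := (Fact.out : p.Prime).odd_of_ne_two hp2
  rcases (Cfsg.Agent.S5189.result p hodd hS hsr F hF hO n.P m.P
      (fun h => hne (by rw [n.hs, m.hs, h])) n.ess m.ess (hchar n hn) (hchar m hm)).2 with
    ⟨h1, h2, h3, -⟩ | ⟨h1, h2, h3, -⟩
  · exact hno _ n.ess (Or.inr ⟨h1, h2, h3⟩)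
  · exact hno _ m.ess (Or.inr ⟨h1, h2, h3⟩)

end Cfsg.Agent.S5182
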