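import Cfsg.Statements.S5185
import Cfsg.Agent.FusionEssential.Aut
import Cfsg.Agent.FusionEssential.GL2

set_option autoImplicit false
universe u
open Cfsg

namespace Cfsg.Agent.S5185

/-- Let F be a saturated fusion system over a finite p-group S and H an essential subgroup of order p². Then H is elementary abelian (isomorphic to C_p × C_p) and its F-automorphism group contains a subgroup isomorphic to SL(2,p). -/
theorem result {Ω : Type u} [Group Ω] {S : Subgroup Ω} [Finite S] (p : ℕ) [Fact p.Prime] (hS : IsPGroup p S)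
    (F : Cfsg.FusionSystem S) (hF : F.IsSaturated p) (H : Subgroup Ω) (hH : F.IsEssential p H) (hcard : Nat.card H = p ^ 2) :
    Cfsg.IsElementaryAbelian p H ∧
      ∃ K : Subgroup ↥(F.autGroup H), Nonempty (↥K ≃* Matrix.SpecialLinearGroup (Fin 2) (ZMod p)) := by
  haveI := CfsgLib.Fusion.finite_of_le hH.1.1
  haveI : IsMulCommutative ↥H := IsPGroup.isMulCommutative_of_card_eq_prime_sq hcard
  have hexp : ∀ x : ↥H, x ^ p = 1 := by
    intro x
    by_contra hx
    have hd : orderOf x ∣ p ^ 2 := hcard ▸ orderOf_dvd_natCard x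
    obtain ⟨k, hk, hxk⟩ := (Nat.dvd_prime_pow (Fact.out : p.Prime)).1 hd
    have hk2 : k = 2 := by
      by_contra h2
      have h1 : k ≤ 1 := by omega
      exact hx (orderOf_dvd_iff_pow_eq_one.1 (by
        rw [hxk]; exact (pow_dvd_pow p h1).trans (by rw [pow_one])))
    exact CfsgLib.FusionEssential.not_isCyclic_of_essential hH
      (isCyclic_of_orderOf_eq_card x (by rw [hxk, hk2, hcard]))
  refine ⟨⟨inferInstance, fun a ha => congrArg Subtype.val (hexp ⟨a, ha⟩)⟩, ?_⟩
  obtain ⟨f⟩ := CfsgLib.FusionEssential.exists_mulEquiv_fin_of_elementary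
    (H := ↥H) (fun a b => IsMulCommutative.is_comm.comm a b) hexp hcard
  obtain ⟨α, β, ⟨a, ha⟩, ⟨b, hb⟩, hne⟩ := CfsgLib.FusionEssential.exists_noncommute_pElements hH
  let Φ : MulAut ↥H →* GL (Fin 2) (ZMod p) := (CfsgLib.FusionEssential.autMatrix f).toHomUnits
  have hΦi : Function.Injective Φ := fun x y h =>
    CfsgLib.FusionEssential.autMatrix_injective f (congrArg Units.val h)
  let Ψ : ↥(F.autGroup H) →* GL (Fin 2) (ZMod p) := Φ.comp (F.autGroup H).subtype
  have hΨi : Function.Injective Ψ := hΦi.comp Subtype.val_injective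
  obtain ⟨g, hg⟩ := CfsgLib.FusionEssential.exists_sl_two_le Ψ.range ⟨α, rfl⟩ ⟨β, rfl⟩
    (a := a) (b := b) (by rw [← map_pow, ha, map_one]) (by rw [← map_pow, hb, map_one])
    (by rw [← map_mul, ← map_mul]; exact fun h => hne (hΨi h))
  let θ : Matrix.SpecialLinearGroup (Fin 2) (ZMod p) →* GL (Fin 2) (ZMod p) :=
    (MulAut.conj g).toMonoidHom.comp Matrix.SpecialLinearGroup.toGL
  have hθi : Function.Injective θ := by
    intro x y h
    have h1 := (MulAut.conj g).injective h
    exact Subtype.ext (congrArg (Units.val : GL (Fin 2) (ZMod p) → _) h1)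
  have hle : θ.range ≤ Ψ.range := by
    rintro _ ⟨M, rfl⟩
    exact hg M
  refine ⟨θ.range.comap Ψ, ⟨?_⟩⟩
  exact ((θ.range.comap Ψ).equivMapOfInjective Ψ hΨi).trans
    ((MulEquiv.subgroupCongr (Subgroup.map_comap_eq_self hle)).trans
      (MonoidHom.ofInjective hθi).symm)

end Cfsg.Agent.S5185
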