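import Cfsg.Statements.S5191
-- import your own Cfsg.Agent.* helpers here

set_option autoImplicit false
open Cfsg

namespace Cfsg.Agent.S5191

/-- Fusion in a finite group G and in its quotient by O_{p'}(G) agree. Let S be a Sylow p-subgroup of G, N = O_{p'}(G) and P ≤ S. If an element of G/N conjugates the image of P into the image of S, then some element g of G conjugates P into S and induces the same map on P modulo N. (Together with the injectivity of S → G/N this says that g ↦ gN induces an isomorphism of the fusion system of G on S with that of G/N on SN/N.) -/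
theorem result {G : Type*} [Group G] [Finite G] {p : ℕ} [Fact p.Prime]
    [hN : (Cfsg.pPrimeCore p G).Normal] (S : Sylow p G) (P : Subgroup G) (hP : P ≤ (S : Subgroup G))
    (γ : G ⧸ Cfsg.pPrimeCore p G)
    (hγ : ∀ x ∈ P, γ * QuotientGroup.mk x * γ⁻¹ ∈ ((S : Subgroup G).map (QuotientGroup.mk' (Cfsg.pPrimeCore p G)))) :
    ∃ g : G, ∀ x ∈ P, g * x * g⁻¹ ∈ S ∧
      (QuotientGroup.mk (g * x * g⁻¹) : G ⧸ Cfsg.pPrimeCore p G) = γ * QuotientGroup.mk x * γ⁻¹ := by
  obtain ⟨g₀, rfl⟩ := QuotientGroup.mk_surjective γ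
  let N : Subgroup G := Cfsg.pPrimeCore p G
  let K : Subgroup G := (S : Subgroup G) ⊔ N
  have hN' : N.Normal := hN
  let P' : Subgroup G := P.map (MulAut.conj g₀).toMonoidHom
  have hP'K : P' ≤ K := by
    rintro _ ⟨x, hx, rfl⟩
    have h := hγ x hx
    rw [← QuotientGroup.mk_mul, ← QuotientGroup.mk_inv, ← QuotientGroup.mk_mul] at h
    obtain ⟨s, hs, hse⟩ := h
    have hn : s⁻¹ * (g₀ * x * g₀⁻¹) ∈ N := QuotientGroup.eq.1 hse
    have : g₀ * x * g₀⁻¹ = s * (s⁻¹ * (g₀ * x * g₀⁻¹)) := by group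
    show g₀ * x * g₀⁻¹ ∈ K
    rw [this]
    exact K.mul_mem (Subgroup.mem_sup_left hs) (Subgroup.mem_sup_right hn)
  have hP'p : IsPGroup p (P'.subgroupOf K) :=
    ((S.isPGroup'.to_le hP).map (MulAut.conj g₀).toMonoidHom).comap_of_injective K.subtype
      Subtype.coe_injective
  obtain ⟨R, hR⟩ := hP'p.exists_le_sylow
  obtain ⟨k, hk⟩ := MulAction.exists_smul_eq ↥K R (S.subtype le_sup_left)
  have hk' : ∀ y : ↥K, (y : G) ∈ P' → (k : G) * y * (k : G)⁻¹ ∈ (S : Subgroup G) := by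
    intro y hy
    have h1 : k * y * k⁻¹ ∈ ((k • R : Sylow p ↥K) : Subgroup ↥K) := by
      rw [Sylow.coe_subgroup_smul]
      exact ⟨y, hR hy, rfl⟩
    rw [hk] at h1
    exact h1
  obtain ⟨s, hs, n, hn, hsn⟩ : ∃ s ∈ (S : Subgroup G), ∃ n ∈ N, s * n = (k : G) :=
    Subgroup.mem_sup_of_normal_right.1 k.2
  refine ⟨n * g₀, fun x hx => ?_⟩
  constructor
  · have hy : g₀ * x * g₀⁻¹ ∈ P' := ⟨x, hx, rfl⟩
    have h := hk' ⟨_, hP'K hy⟩ hy
    rw [← hsn] at h
    have e : n * g₀ * x * (n * g₀)⁻¹ = s⁻¹ * (s * n * (g₀ * x * g₀⁻¹) * (s * n)⁻¹) * s := by group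
    show n * g₀ * x * (n * g₀)⁻¹ ∈ (S : Subgroup G)
    rw [e]
    exact (S : Subgroup G).mul_mem ((S : Subgroup G).mul_mem ((S : Subgroup G).inv_mem hs) h) hs
  · have h1 : (QuotientGroup.mk n : G ⧸ Cfsg.pPrimeCore p G) = 1 :=
      (QuotientGroup.eq_one_iff n).2 hn
    simp [QuotientGroup.mk_mul, QuotientGroup.mk_inv, h1]

end Cfsg.Agent.S5191
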