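import Cfsg.Statements.S5193
import Cfsg.Agent.WeakClosed.FusionCenter

set_option autoImplicit false
open Cfsg

namespace Cfsg.Agent.S5193

/-- Glauberman's Theorem for fusion systems. Let F be a saturated fusion system over a finite p-group S, let J(S) be the subgroup generated by the abelian subgroups of S of largest order, and let N be the normalizer fusion system of J(S) in F (a fusion system over N_S(J(S)) = S). Then every p-th power of an element of Z(S) that lies in the centre of N lies in the centre of F; and if p is odd, or if the symmetric group of degree 4 is not involved in any model of the normalizer system of a fully normalized F-centric subgroup (F is S₄-free), then the centre of N equals the centre of F. -/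
theorem result {Ω : Type*} [Group Ω] {S : Subgroup Ω} [Finite S] (p : ℕ) [Fact p.Prime] (hS : IsPGroup p S) (F : Cfsg.FusionSystem S) (hF : F.IsSaturated p) (N : Cfsg.FusionSystem (Cfsg.FusionSystem.normalizerIn S (Cfsg.thompsonSubgroupAOf S))) (hN : F.IsNormalizerSystem (Cfsg.thompsonSubgroupAOf S) N) : Subgroup.closure ((fun z : Ω => z ^ p) '' ((S ⊓ Subgroup.centralizer (S : Set Ω) : Subgroup Ω) : Set Ω)) ⊓ N.center ≤ F.center ∧ (p ≠ 2 ∨ F.IsSectionFree p (Equiv.Perm (Fin 4)) → N.center = F.center) := by
  classical
  have hJS : thompsonSubgroupAOf S ≤ S := CfsgLib.PLocal.thompsonSubgroupAOf_le S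
  have hn : S ≤ Subgroup.normalizer (thompsonSubgroupAOf S : Set Ω) :=
    Subgroup.le_normalizer.trans
      (CfsgLib.PLocal.normalizer_le_normalizer_thompsonSubgroupAOf _)
  refine ⟨fun x hx => ?_, fun hp => le_antisymm (fun x hx => ?_) fun x hx => ?_⟩
  · obtain ⟨hxZ, hfix⟩ := CfsgLib.WeakClosed.autFixes_of_mem_center hN hx.2
    refine CfsgLib.WeakClosed.mem_center_of_fixes hS hF hxZ.1
      (CfsgLib.WeakClosed.fixes_of_agemo hS hF ?_ hfix)
    refine Subgroup.closure_mono ?_ hx.1
    rintro _ ⟨z, hz, rfl⟩
    exact ⟨z, hz, by simp⟩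
  · obtain ⟨hxZ, hfix⟩ := CfsgLib.WeakClosed.autFixes_of_mem_center hN hx
    exact CfsgLib.WeakClosed.mem_center_of_fixes hS hF hxZ.1
      (CfsgLib.WeakClosed.fixes_of_thompson hS hF hp hxZ hfix)
  · haveI := CfsgLib.Fusion.finite_of_le
      (CfsgLib.Fusion.normalizerIn_le S (thompsonSubgroupAOf S))
    have hxS : x ∈ S := (CfsgLib.FusionFactor.isCentral_center F).1 hx
    have hfix := CfsgLib.WeakClosed.fixes_of_mem_center hx
    exact CfsgLib.WeakClosed.mem_center_of_fixes (hS.to_le (CfsgLib.Fusion.normalizerIn_le S _))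
      (CfsgLib.Fusion.isSaturated_normalizerSystem hS hF
        (CfsgLib.WeakClosed.isFullyNormalized_of_le F hJS hn) hN)
      ⟨hxS, hn hxS⟩ fun P φ hφ => hfix P φ (CfsgLib.WeakClosed.normSystem_le hN P hφ)

end Cfsg.Agent.S5193
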