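import Cfsg.Statements.S5204
import Cfsg.Agent.WeakClosed.FusionSparse

set_option autoImplicit false
open Cfsg

namespace Cfsg.Agent.S5204

/-- The Glauberman–Thompson normal p-complement criterion for fusion systems, p odd. Let F be a saturated fusion system over a finite p-group S with p odd, and let Z(J(S)) be the centre of the subgroup generated by the abelian subgroups of S of largest order. Then F is the inner fusion system of S if and only if the normalizer fusion system of Z(J(S)) in F is the inner fusion system of N_S(Z(J(S))) = S. -/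
theorem result {Ω : Type*} [Group Ω] {S : Subgroup Ω} [Finite S] (p : ℕ) [Fact p.Prime] (hS : IsPGroup p S) (F : Cfsg.FusionSystem S) (hF : F.IsSaturated p) (hp : p ≠ 2) : (∀ P : Subgroup Ω, F.Hom P = (Cfsg.innerFusionSystem S).Hom P) ↔ ∀ N : Cfsg.FusionSystem (Cfsg.FusionSystem.normalizerIn S (Cfsg.centerThompsonAOf S)), F.IsNormalizerSystem (Cfsg.centerThompsonAOf S) N → ∀ P : Subgroup Ω, N.Hom P = (Cfsg.innerFusionSystem (Cfsg.FusionSystem.normalizerIn S (Cfsg.centerThompsonAOf S))).Hom P := by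
  have hZS : centerThompsonAOf S ≤ S := inf_le_left.trans (CfsgLib.PLocal.thompsonSubgroupAOf_le S)
  have hn := CfsgLib.WeakClosed.le_normalizer_centerThompsonAOf S
  refine ⟨fun h N hN P => ?_, fun h => ?_⟩
  · refine Set.Subset.antisymm (fun φ hφ => ?_) fun φ ⟨hP, g, hg, hv⟩ =>
      CfsgLib.Fusion.conj_mem' hP hg hv
    have hF' : φ ∈ F.Hom P := ((hN P) ▸ hφ : φ ∈ F.normalizerHom (centerThompsonAOf S) P).1
    rw [h P] at hF'
    obtain ⟨-, g, hg, hv⟩ := hF'
    exact ⟨(N.le_of_mem hφ).1, g, ⟨hg, hn hg⟩, hv⟩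
  · obtain ⟨N, hN⟩ := CfsgLib.Fusion.exists_isNormalizerSystem F hZS
    exact (CfsgLib.WeakClosed.allInner_of_ZJ hS hF hp fun P φ hφ =>
      CfsgLib.WeakClosed.inner_mono (CfsgLib.Fusion.normalizerIn_le S _) P
        (h N hN P ▸ (hN P).symm ▸ hφ)).hom_eq

end Cfsg.Agent.S5204
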