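import Cfsg.Statements.S5215
import Cfsg.Agent.Classification.RankTwoFusion.WreathedBase
import Cfsg.Agent.Classification.RankTwoFusion.SimpleSystem

set_option autoImplicit false
open Cfsg

namespace Cfsg.Agent.S5215

/-- Let S be a finite 2-group of 2-rank 2 (an elementary abelian subgroup of order 4, none of order 8) and F a simple saturated fusion system over S. Then S is dihedral, semidihedral or wreathed, and F is the fusion system of the projective special linear group PSL₂(q) for some odd prime power q ≡ ±1 (mod 8) or of PSL₃(q) for some odd prime power q: it is realized by an injective homomorphism of S into that group whose image is a Sylow 2-subgroup. -/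
theorem result {Ω : Type*} [Group Ω] {S : Subgroup Ω} [Finite S] (hS : IsPGroup 2 S) (F : Cfsg.FusionSystem S) (hF : F.IsSaturated 2) (hr : Cfsg.PRankAtLeast 2 2 ↥S ∧ ¬ Cfsg.PRankAtLeast 2 3 ↥S) (hsimple : F.IsSimple 2) : ((∃ m : ℕ, Nonempty (↥S ≃* DihedralGroup m)) ∨ Cfsg.IsQuasiDihedral ↥S ∨ Cfsg.IsWreathed ↥S) ∧ ∃ (K : Type) (_ : Field K) (_ : Fintype K) (q : ℕ), Fintype.card K = q ∧ Odd q ∧ (((q % 8 = 1 ∨ q % 8 = 7) ∧ ∃ ι : ↥S →* Matrix.ProjectiveSpecialLinearGroup (Fin 2) K, F.IsRealizedBy ι ∧ ∃ T : Sylow 2 (Matrix.ProjectiveSpecialLinearGroup (Fin 2) K), (T : Subgroup (Matrix.ProjectiveSpecialLinearGroup (Fin 2) K)) = ι.range) ∨ (∃ ι : ↥S →* Matrix.ProjectiveSpecialLinearGroup (Fin 3) K, F.IsRealizedBy ι ∧ ∃ T : Sylow 2 (Matrix.ProjectiveSpecialLinearGroup (Fin 3) K), (T : Subgroup (Matrix.ProjectiveSpecialLinearGroup (Fin 3) K)) = ι.range)) := by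
  classical
  haveI : Fact (Nat.Prime 2) := ⟨Nat.prime_two⟩
  obtain ⟨A, hA, hA2, hA4⟩ := hr.1
  have hr1 : ¬ Cfsg.PRankLE 2 1 S := fun h => by
    have := h A hA hA2
    omega
  have hr2 : Cfsg.PRankLE 2 2 S := fun B hB hB2 => by
    obtain ⟨j, hj⟩ := (hS.to_subgroup B).exists_card_eq
    by_contra hlt
    rw [hj] at hlt
    refine hr.2 ⟨B, hB, hB2, ?_⟩
    rw [hj]
    have : 2 < j := by
      by_contra hle
      exact hlt (Nat.pow_le_pow_right two_pos (by omega))
    exact Nat.pow_le_pow_right two_pos this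
  have h2 : 2 < Nat.card S := by
    have := Subgroup.card_le_card_group A
    omega
  have hfoc := CfsgLib.Classification.RankTwoFusion.focal_eq_of_simple hS hsimple h2
  rcases CfsgLib.Classification.RankTwoFusion.types_of_simple hS hsimple hr2 hr1 with
    ⟨m, hm, ⟨e⟩⟩ | h | h
  · obtain ⟨p, hp, hodd, h8, hι⟩ :=
      CfsgLib.Classification.RankTwoFusion.realizedBy_psl_two hS hF hfoc hm e
    exact ⟨Or.inl ⟨m, ⟨e⟩⟩, ZMod p, inferInstance, inferInstance, p, ZMod.card p, hodd,
      Or.inl ⟨Or.inr h8, hι⟩⟩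
  · obtain ⟨p, hp, hodd, -, hι⟩ :=
      CfsgLib.Classification.RankTwoFusion.realizedBy_psl_three_quasiDihedral hS hF hfoc h
    exact ⟨Or.inr (Or.inl h), ZMod p, inferInstance, inferInstance, p, ZMod.card p, hodd, Or.inr hι⟩
  · obtain ⟨p, hp, hodd, -, hι⟩ :=
      CfsgLib.Classification.RankTwoFusion.realizedBy_psl_three_wreathed hS hF hfoc h
    exact ⟨Or.inr (Or.inr h), ZMod p, inferInstance, inferInstance, p, ZMod.card p, hodd, Or.inr hι⟩

end Cfsg.Agent.S5215
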