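import Cfsg.Statements.S5217
import Cfsg.Agent.Bicyclic.Model
import Cfsg.Agent.Bicyclic.Direction

set_option autoImplicit false
open Cfsg

namespace Cfsg.Agent.S5217

/-- Let S be a finite bicyclic 2-group (S = ⟨x⟩⟨y⟩) that is not metacyclic. Then S supports a saturated fusion system other than its inner fusion system if and only if the commutator subgroup of S is cyclic. -/
theorem result {Ω : Type*} [Group Ω] {S : Subgroup Ω} [Finite S] (hS : IsPGroup 2 S) (hb : ∃ x y : ↥S, ∀ g : ↥S, ∃ i j : ℤ, g = x ^ i * y ^ j) (hm : ¬ Cfsg.IsMetacyclic ↥S) : (∃ F : Cfsg.FusionSystem S, F.IsSaturated 2 ∧ ¬ ∀ P : Subgroup Ω, F.Hom P = (Cfsg.innerFusionSystem S).Hom P) ↔ IsCyclic ↥(commutator ↥S) := by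
  obtain ⟨x, y, hfac⟩ := hb
  obtain ⟨p, q, -, -, hstd⟩ := CfsgLib.Bicyclic.exists_std
    (⟨hfac, hS, hm⟩ : CfsgLib.Bicyclic.Pair x y)
  constructor
  · rintro ⟨F, hF, hne⟩
    by_contra hA
    obtain ⟨P, hP⟩ := CfsgLib.Bicyclic.exists_essential hstd hF hne
    obtain ⟨𝒜, Y, E⟩ := CfsgLib.Bicyclic.exists_ess hstd hF hP
    exact E.false hstd hA
  · intro hA
    obtain ⟨c, t, a, n, v, m, u, i, d⟩ := hstd.exists_data hA
    exact d.exists_noninner

end Cfsg.Agent.S5217
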