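import Cfsg.Statements.S5219
import Cfsg.Agent.FusionAgemo.Agemo
import Cfsg.Agent.FusionAgemo.Exponent

set_option autoImplicit false
open Cfsg

namespace Cfsg.Agent.S5219

/-- Let p be a prime, n a natural number, S a nontrivial finite p-group of nilpotence class at most n(p−1)+1, and F a saturated fusion system over S with no nontrivial normal subgroup (O_p(F) = 1). Then S has exponent dividing p^(n²(p−1)+n). -/
theorem result {Ω : Type*} [Group Ω] {S : Subgroup Ω} [Finite S] (p : ℕ) [Fact p.Prime] (hS : IsPGroup p S) (F : Cfsg.FusionSystem S) (hF : F.IsSaturated p) (n : ℕ) (hS1 : S ≠ ⊥) (hcl : Subgroup.lowerCentralSeries S (n * (p - 1) + 1) = ⊥) (hcore : F.core = ⊥) : Monoid.exponent ↥S ∣ p ^ (n ^ 2 * (p - 1) + n) := by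
  have hW : Cfsg.powerClosure p n (S ⊓ Subgroup.centralizer (S : Set Ω)) ≤ ⊥ :=
    hcore ▸ le_sSup (CfsgLib.FusionAgemo.agemo_center_isNormal hS hF n hcl)
  have hZ : ∀ z ∈ Subgroup.center ↥S, z ^ (p ^ n) = 1 := by
    intro z hz
    refine Subtype.ext ?_
    rw [SubmonoidClass.coe_pow, OneMemClass.coe_one]
    refine Subgroup.mem_bot.1 (hW (Subgroup.subset_closure ⟨(z : Ω), ⟨z.2, ?_⟩, rfl⟩))
    intro s hs
    exact congrArg Subtype.val (Subgroup.mem_center_iff.1 hz ⟨s, hs⟩)
  refine Monoid.exponent_dvd_of_forall_pow_eq_one fun x => ?_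
  have hx := CfsgLib.FusionAgemo.subgroupOf_lowerCentralSeries_le S hcl _ le_rfl
    (show x ∈ _ by rw [Nat.sub_self, Subgroup.mem_subgroupOf]; exact x.2)
  have h := CfsgLib.FusionAgemo.pow_mul_eq_one hZ _ x hx
  rw [← pow_mul] at h
  rw [show n ^ 2 * (p - 1) + n = n * (n * (p - 1) + 1) by ring]
  exact h

end Cfsg.Agent.S5219
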