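import Cfsg.Statements.S5222
import Cfsg.Agent.FusionTate.Consequences

set_option autoImplicit false
open Cfsg

namespace Cfsg.Agent.S5222

/-- Let F be a saturated fusion system over a finite p-group S whose normalizer fusion system of S is the inner fusion system of S (Aut_F(S) is a p-group). Then for every subgroup Q of S with [S, S] ≤ Q ≤ Φ(S), the normalizer fusion system of Q in F is the inner fusion system of N_S(Q) = S. -/
theorem result {Ω : Type*} [Group Ω] {S : Subgroup Ω} [Finite S] (p : ℕ) [Fact p.Prime] (hS : IsPGroup p S) (F : Cfsg.FusionSystem S) (hF : F.IsSaturated p) (hN : ∀ N : Cfsg.FusionSystem (Cfsg.FusionSystem.normalizerIn S S), F.IsNormalizerSystem S N → ∀ P : Subgroup Ω, N.Hom P = (Cfsg.innerFusionSystem (Cfsg.FusionSystem.normalizerIn S S)).Hom P) (Q : Subgroup Ω) (h1 : (commutator ↥S).map S.subtype ≤ Q) (h2 : Q ≤ (frattini ↥S).map S.subtype) : ∀ N : Cfsg.FusionSystem (Cfsg.FusionSystem.normalizerIn S Q), F.IsNormalizerSystem Q N → ∀ P : Subgroup Ω, N.Hom P = (Cfsg.innerFusionSystem (Cfsg.FusionSystem.normalizerIn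 S Q)).Hom P := by
  intro N hNs P
  rw [Subgroup.map_subtype_commutator] at h1
  have hn : S ≤ Subgroup.normalizer (Q : Set Ω) := fun s hs => by
    haveI := CfsgLib.Fusion.finite_of_le (h2.trans (Subgroup.map_subtype_le _))
    refine Subgroup.mem_normalizer_fintype fun q hq => ?_
    have hqS : q ∈ S := (h2.trans (Subgroup.map_subtype_le _)) hq
    have h3 := Q.mul_mem (h1 (Subgroup.commutator_mem_commutator hs hqS)) hq
    simpa [commutatorElement_def] using h3
  exact CfsgLib.FusionTate.normalizer_inner hS hF hN h1 h2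
    (CfsgLib.WeakClosed.normalizerIn_eq_self hn)
    (CfsgLib.Fusion.isSaturated_normalizerSystem hS hF
      (CfsgLib.WeakClosed.isFullyNormalized_of_le F (h2.trans (Subgroup.map_subtype_le _)) hn) hNs)
    hNs P

end Cfsg.Agent.S5222
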