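import Cfsg.Statements.S5223
import Cfsg.Agent.S5083
import Cfsg.Agent.FusionClosed.Stabilizer

set_option autoImplicit false
open Cfsg

namespace Cfsg.Agent.S5223

/-- Let F be a saturated fusion system over a finite p-group S. Suppose there are subgroups Q₀ = S, Q₁, …, Qₙ = 1 (not required to be nested) such that for each i < n the focal subgroup of Qᵢ (generated by the elements x⁻¹φ(x), x ∈ Qᵢ, φ a map of F defined on the cyclic group generated by x) lies in Qᵢ₊₁. Then F is the inner fusion system of S. -/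
theorem result {Ω : Type*} [Group Ω] {S : Subgroup Ω} [Finite S] (p : ℕ) [Fact p.Prime] (hS : IsPGroup p S) (F : Cfsg.FusionSystem S) (hF : F.IsSaturated p) (n : ℕ) (Q : Fin (n + 1) → Subgroup Ω) (hQ0 : Q 0 = S) (hQn : Q (Fin.last n) = ⊥) (hstep : ∀ i : Fin n, Subgroup.closure {y : Ω | ∃ x ∈ Q i.castSucc, ∃ φ ∈ F.Hom (Subgroup.zpowers x), y = x⁻¹ * φ ⟨x, Subgroup.mem_zpowers x⟩} ≤ Q i.succ) : ∀ P : Subgroup Ω, F.Hom P = (Cfsg.innerFusionSystem S).Hom P := by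
  suffices h : F = Cfsg.innerFusionSystem S from fun P => by rw [h]
  refine Cfsg.Agent.S5083.result p hS F hF fun P hPS => ?_
  haveI := CfsgLib.Fusion.finite_of_le hPS
  haveI : Finite (MulAut ↥P) := Finite.of_injective (fun α => (α : ↥P → ↥P)) DFunLike.coe_injective
  refine CfsgLib.FusionClosed.isPGroup_of_coprime_trivial fun α hα hcop => ?_
  let C : ℕ → Subgroup ↥P := fun i =>
    (Q ⟨n - i, Nat.lt_succ_of_le (Nat.sub_le n i)⟩).subgroupOf P
  have h0 : C 0 = ⊥ := by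
    show (Q ⟨n - 0, _⟩).subgroupOf P = ⊥
    rw [show (⟨n - 0, Nat.lt_succ_of_le (Nat.sub_le n 0)⟩ : Fin (n + 1)) = Fin.last n from
      Fin.ext (Nat.sub_zero n), hQn, Subgroup.bot_subgroupOf]
  have hstab : CfsgLib.FusionClosed.StabSeries C n α := by
    intro i hi x hx
    let j : Fin n := ⟨n - (i + 1), by omega⟩
    have hj1 : (⟨n - i, Nat.lt_succ_of_le (Nat.sub_le n i)⟩ : Fin (n + 1)) = j.succ :=
      Fin.ext (show n - i = n - (i + 1) + 1 by omega)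
    have hxQ : ((x⁻¹ : ↥P) : Ω) ∈ Q j.castSucc := Subgroup.inv_mem _ hx
    have hle : Subgroup.zpowers ((x⁻¹ : ↥P) : Ω) ≤ P := Subgroup.zpowers_le.2 (x⁻¹ : ↥P).2
    have hφ := CfsgLib.Fusion.restrict_mem ((CfsgLib.Fusion.mem_autGroup_iff hPS).1 hα) hle
    have hy := hstep j (Subgroup.subset_closure ⟨((x⁻¹ : ↥P) : Ω), hxQ, _, hφ, rfl⟩)
    show ((α x * x⁻¹ : ↥P) : Ω) ∈ Q ⟨n - i, Nat.lt_succ_of_le (Nat.sub_le n i)⟩
    rw [hj1]
    have hy' := Subgroup.inv_mem _ hy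
    have e : ∀ h, (⟨((x : Ω))⁻¹, h⟩ : ↥P) = x⁻¹ := fun _ => rfl
    simpa [e] using hy'
  refine MulEquiv.ext fun x => CfsgLib.FusionClosed.fix_of_stab (hS.to_le hPS) h0 hstab hcop n
    le_rfl x ?_
  show (x : Ω) ∈ Q ⟨n - n, Nat.lt_succ_of_le (Nat.sub_le n n)⟩
  rw [show (⟨n - n, Nat.lt_succ_of_le (Nat.sub_le n n)⟩ : Fin (n + 1)) = 0 from
      Fin.ext (Nat.sub_self n), hQ0]
  exact hPS x.2

end Cfsg.Agent.S5223
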