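import Cfsg.Statements.S5236
import Cfsg.Agent.FusionClosed.Normality
open scoped commutatorElement

set_option autoImplicit false
open Cfsg

namespace Cfsg.Agent.S5236

open Cfsg.FusionSystem CfsgLib.Fusion CfsgLib.FusionClosed

variable {Ω : Type*} [Group Ω] {S : Subgroup Ω}

/-- The descending series `Ω₁(P), [Ω₁(P),P], …`. -/
def serD (p : ℕ) (P : Subgroup Ω) : ℕ → Subgroup Ω
  | 0 => omegaOne p P
  | j + 1 => ⁅serD p P j, P⁆

theorem omegaOne_le (p : ℕ) (P : Subgroup Ω) : omegaOne p P ≤ P :=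
  (Subgroup.closure_le _).2 fun _ hx => hx.1

theorem serD_le (p : ℕ) (P : Subgroup Ω) : ∀ j, serD p P j ≤ P
  | 0 => omegaOne_le p P
  | j + 1 => (Subgroup.commutator_mono (serD_le p P j) le_rfl).trans P.commutator_le_self

theorem serD_le_lower (p : ℕ) (P : Subgroup Ω) : ∀ j, serD p P j ≤ P.lowerCentralSeries j
  | 0 => omegaOne_le p P
  | j + 1 => Subgroup.commutator_mono (serD_le_lower p P j) le_rfl

theorem serD_invariant (p : ℕ) (P : Subgroup Ω) {f : P →* Ω} (hf : ∀ x, f x ∈ P) :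
    ∀ j, serD p P j ≤ ((serD p P j).comap f).map P.subtype := by
  intro j
  induction j with
  | zero =>
    refine (Subgroup.closure_le _).2 fun x hx => ⟨⟨x, hx.1⟩, ?_, rfl⟩
    refine Subgroup.subset_closure ⟨hf _, ?_⟩
    rw [← map_pow, show (⟨x, hx.1⟩ : P) ^ p = 1 from Subtype.ext hx.2, map_one]
  | succ j ih =>
    show ⁅serD p P j, P⁆ ≤ _
    rw [Subgroup.commutator_le]
    intro d hd q hq
    obtain ⟨d', hd', rfl⟩ := ih hd
    refine ⟨⁅d', ⟨q, hq⟩⁆, ?_, by rw [map_commutatorElement]; rfl⟩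
    rw [SetLike.mem_coe, Subgroup.mem_comap, map_commutatorElement]
    exact Subgroup.commutator_mem_commutator hd' (hf _)

theorem serD_succ_le (p : ℕ) (P : Subgroup Ω) : ∀ j, serD p P (j + 1) ≤ serD p P j := by
  intro j
  induction j with
  | zero =>
    show ⁅omegaOne p P, P⁆ ≤ omegaOne p P
    rw [Subgroup.commutator_le]
    intro d hd q hq
    rw [commutatorElement_def]
    let f : P →* Ω := conjHom P q
    have hf : ∀ x, f x ∈ P := fun x => mul_mem (mul_mem hq x.2) (inv_mem hq)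
    obtain ⟨d', hd', hdd⟩ := serD_invariant p P hf 0 (inv_mem hd)
    have h1 : q * d⁻¹ * q⁻¹ ∈ omegaOne p P := by
      have : f d' = q * d⁻¹ * q⁻¹ := by rw [← hdd]; rfl
      exact this ▸ hd'
    simpa [mul_assoc] using mul_mem hd h1
  | succ j ih => exact Subgroup.commutator_mono ih le_rfl

/-- The subgroups of the series of a normal subgroup are strongly closed. -/
theorem serD_stronglyClosed {F : FusionSystem S} {P : Subgroup Ω} (hn : F.IsNormal P) (p j : ℕ) :
    F.StronglyClosed (serD p P j) := by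
  refine ⟨(serD_le p P j).trans hn.1, fun R hR φ hφ x => ?_⟩
  obtain ⟨ψ, hψ, hψR, hψP⟩ := hn.2 R φ hφ
  have hf : ∀ y, restrictHom ψ le_sup_right y ∈ P := fun y =>
    hψP.le ⟨⟨y, Subgroup.mem_sup_right y.2⟩, y.2, rfl⟩
  obtain ⟨x', hx', hxx⟩ := serD_invariant p P hf j (hR x.2)
  have : restrictHom ψ le_sup_right x' = φ x := by
    rw [← hψR x, restrictHom_apply]
    exact congrArg ψ (Subtype.ext hxx)
  exact this ▸ hx'

theorem le_essential [Finite S] {p : ℕ} [Fact p.Prime] (hS : IsPGroup p S) (hp : p ≠ 2)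
    {F : FusionSystem S} {P : Subgroup Ω}
    (hP : F.StronglyClosed P) {n : ℕ} (Q : Fin (n + 1) → Subgroup Ω) (h0 : Q 0 = ⊥)
    (hlast : Q (Fin.last n) = omegaOne p P) (hmono : Monotone Q)
    (hsc : ∀ i, F.StronglyClosed (Q i)) (hcomm : ∀ i : Fin n, ⁅Q i.succ, P⁆ ≤ Q i.castSucc)
    {R : Subgroup Ω} (hc : F.IsCentric R) (hrad : F.IsRadical p R) : P ≤ R := by
  by_contra hle
  obtain ⟨x, hxP, hxN, hxR⟩ := exists_mem_normalizer_not_mem_of_not_le hS hP hc.1 hle
  have := finite_of_le hc.1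
  -- the chain `Q` extended to all natural numbers, seen inside `R`
  let c : ℕ → Subgroup R := fun i =>
    (Q ⟨min i n, Nat.lt_succ_of_le (min_le_right i n)⟩).subgroupOf R
  have hc0 : c 0 = ⊥ := by
    simp only [c, Nat.zero_min]
    rw [show (⟨0, _⟩ : Fin (n + 1)) = 0 from rfl, h0, Subgroup.bot_subgroupOf]
  have hcm : Monotone c := fun i j hij =>
    Subgroup.comap_mono (hmono (Fin.mk_le_mk.2 (min_le_min_right n hij)))
  have hsc' : ∀ i, F.StronglyClosed (Q ⟨min i n, Nat.lt_succ_of_le (min_le_right i n)⟩) :=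
    fun i => hsc _
  let K : Subgroup (F.autGroup R) := Subgroup.closure
    {α | StabSeries c n (α : MulAut R) ∧ ∀ y : R, (((α : MulAut R) y * y⁻¹ : R) : Ω) ∈ P}
  have hKchar : ∀ α ∈ K, StabSeries c n ((α : F.autGroup R) : MulAut R) ∧
      ∀ y : R, (((α : MulAut R) y * y⁻¹ : R) : Ω) ∈ P := by
    intro α hα
    rw [← Subgroup.mem_toSubmonoid, Subgroup.closure_toSubmonoid_of_finite] at hα
    induction hα using Submonoid.closure_induction with
    | mem a ha => exact ha
    | one =>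
      refine ⟨fun i _ y _ => ?_, fun y => ?_⟩
      · simp
      · simp
    | mul a b _ _ ha hb =>
      refine ⟨(mem_stab hcm hc0).1 (mul_mem ((mem_stab hcm hc0).2 ha.1)
        ((mem_stab hcm hc0).2 hb.1)), fun y => ?_⟩
      have h1 := mul_mem (ha.2 ((b : MulAut R) y)) (hb.2 y)
      rw [← Subgroup.coe_mul] at h1
      convert h1 using 2
      simp [mul_assoc]
  have hinv : ∀ (a : F.autGroup R) (i : ℕ) (y : R), y ∈ c i → (a : MulAut R) y ∈ c i :=
    fun a i y hy => (aut_mem_stronglyClosed_iff (hsc' i) hc.1 a.2).2 hy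
  have hKn : K.Normal := ⟨fun g hg a => Subgroup.subset_closure ⟨fun i hi y hy => by
    have h3 := (hKchar g hg).1 i hi ((a : MulAut R)⁻¹ y) (hinv a⁻¹ (i + 1) y hy)
    simpa using hinv a i _ h3, fun y => by
    have h3 := (aut_mem_stronglyClosed_iff hP hc.1 a.2).2 ((hKchar g hg).2 ((a : MulAut R)⁻¹ y))
    simpa using h3⟩⟩
  have hRp : IsPGroup p R := hS.to_le hc.1
  have hKp : IsPGroup p K := isPGroup_of_coprime_trivial fun g hg hco => by
    rw [← Subgroup.orderOf_coe] at hco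
    obtain ⟨h1, h2⟩ := hKchar g hg
    have hfix : ∀ y ∈ P.subgroupOf R, (g : MulAut R) y = y := by
      refine fix_of_fix_prime_order hp (hRp.to_subgroup _)
        (fun y => aut_mem_stronglyClosed_iff hP hc.1 g.2) hco fun y hy hyp => ?_
      refine fix_of_stab hRp hc0 h1 hco n le_rfl y ?_
      show (y : Ω) ∈ Q ⟨min n n, _⟩
      rw [show (⟨min n n, _⟩ : Fin (n + 1)) = Fin.last n from Fin.ext (min_self n), hlast]
      exact Subgroup.subset_closure ⟨hy, by rw [← SubgroupClass.coe_pow, hyp]; rfl⟩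
    let d : ℕ → Subgroup R := fun i => if i = 0 then ⊥ else if i = 1 then P.subgroupOf R else ⊤
    have hd : StabSeries d 2 (g : MulAut R) := by
      intro i hi y hy
      rcases i with _ | _ | i
      · simp [d] at hy ⊢
        rw [mul_inv_eq_one]
        exact hfix y hy
      · exact h2 y
      · omega
    apply Subtype.ext
    ext y
    exact congrArg Subtype.val (fix_of_stab hRp rfl hd hco 2 le_rfl y (Subgroup.mem_top y))
  have hα : R.normalizerMonoidHom ⟨x, hxN.2⟩ ∈ F.autGroup R :=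
    autInducedBy_le_autGroup hc.1 (mem_autInducedBy_iff.2 ⟨x, hxN.1, hxN.2, fun _ => rfl⟩)
  refine hxR (mem_of_normal_pSubgroup hc hrad hKn hKp hxN (α := ⟨_, hα⟩)
    (Subgroup.subset_closure ⟨fun i hi y hy => ?_, fun y => ?_⟩) fun _ => rfl)
  · show x * (y : Ω) * x⁻¹ * (y : Ω)⁻¹ ∈ Q ⟨min i n, _⟩
    have hy' : (y : Ω) ∈ Q (Fin.succ ⟨i, hi⟩) := by
      have hy2 : (y : Ω) ∈ Q ⟨min (i + 1) n, _⟩ := hy
      convert hy2 using 2
      exact Fin.ext (by simp; omega)
    have h1 := hcomm ⟨i, hi⟩ (Subgroup.commutator_mem_commutator hy' hxP)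
    rw [show (⟨min i n, _⟩ : Fin (n + 1)) = Fin.castSucc ⟨i, hi⟩ from
      Fin.ext (by simp; omega)]
    convert inv_mem h1 using 1
    group
  · show x * (y : Ω) * x⁻¹ * (y : Ω)⁻¹ ∈ P
    have h1 := conj_mem_stronglyClosed hP (hc.1 y.2) (inv_mem hxP)
    simpa [mul_assoc] using mul_mem hxP h1

/-- Let p be an odd prime, F a saturated fusion system over a finite p-group S and P a subgroup of S strongly closed in F. Then P is normal in F if and only if Ω₁(P) (the subgroup generated by the elements of order p of P) has a chain of subgroups 1 = Q₀ ≤ Q₁ ≤ ⋯ ≤ Qₙ = Ω₁(P), each strongly closed in F, with [Qᵢ₊₁, P] ≤ Qᵢ for all i. -/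
theorem result {Ω : Type*} [Group Ω] {S : Subgroup Ω} [Finite S] (p : ℕ) [Fact p.Prime] (hS : IsPGroup p S) (F : Cfsg.FusionSystem S) (hF : F.IsSaturated p) (hp : p ≠ 2) (P : Subgroup Ω) (hP : F.StronglyClosed P) : F.IsNormal P ↔ ∃ (n : ℕ) (Q : Fin (n + 1) → Subgroup Ω), Q 0 = ⊥ ∧ Q (Fin.last n) = Cfsg.omegaOne p P ∧ Monotone Q ∧ (∀ i : Fin (n + 1), F.StronglyClosed (Q i)) ∧ ∀ i : Fin n, ⁅Q i.succ, P⁆ ≤ Q i.castSucc := by
  constructor
  · intro hn
    have := CfsgLib.Fusion.finite_of_le hP.1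
    have : Group.IsNilpotent ↥P := (hS.to_le hP.1).isNilpotent
    obtain ⟨m, hm⟩ := (Subgroup.isNilpotent_iff_lowerCentralSeries P).1 this
    refine ⟨m, fun i => serD p P (m - i), ?_, ?_, ?_, fun i => serD_stronglyClosed hn p _, ?_⟩
    · simpa using le_bot_iff.1 ((serD_le_lower p P m).trans hm.le)
    · simp [serD]
    · exact fun i j hij => (antitone_nat_of_succ_le (serD_succ_le p P)) (by omega)
    · intro i
      have : m - (i : ℕ) = (m - (i + 1)) + 1 := by omega
      simp only [Fin.val_succ, Fin.val_castSucc]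
      rw [this]
      exact le_of_eq rfl
  · rintro ⟨n, Q, h0, hlast, hmono, hsc, hcomm⟩
    exact isNormal_of_le_essential hS hF hP fun R hR =>
      le_essential hS hp hP Q h0 hlast hmono hsc hcomm hR.1 (isRadical_of_essential hS hR)

end Cfsg.Agent.S5236
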