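import Cfsg.Statements.S5239
import Cfsg.Agent.PMaxClass.ThreeGroups
import Cfsg.Agent.FusionRankTwo.ElementaryFrame
-- import your own Cfsg.Agent.* helpers here

set_option autoImplicit false
open Cfsg

namespace Cfsg.Agent.S5239

open Cfsg Cfsg.FusionSystem CfsgLib.Fusion CfsgLib.FusionRankTwo

/-- An elementary pearl of order `9` in a group of order `27` forces exponent `3`. -/
theorem cube_eq_one {Ω : Type*} [Group Ω] {S : Subgroup Ω} [Finite S] [Fact (Nat.Prime 3)]
    (hS : IsPGroup 3 S) {F : FusionSystem S} (hF : F.IsSaturated 3) {E : Subgroup Ω}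
    (hE : F.IsEssential 3 E) (hcard : Nat.card E = 9)
    (hexp : ∀ x ∈ E, x ^ 3 = 1 ∧ IsMulCommutative ↥E) (hS27 : Nat.card S = 27) :
    ∀ y ∈ S, y ^ 3 = 1 := by
  intro y hy
  by_cases hyE : y ∈ E
  · exact (hexp y hyE).1
  have hES := hE.1.1
  have hc : IsMulCommutative ↥E := (hexp 1 E.one_mem).2
  have hnorm : S ≤ Subgroup.normalizer (E : Set Ω) := by
    have hidx : (E.subgroupOf S).index = 3 := by
      have h1 := Subgroup.card_mul_index (E.subgroupOf S)
      rw [Nat.card_congr (Subgroup.subgroupOfEquivOfLe hES).toEquiv, hcard, hS27] at h1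
      omega
    have hmin : (E.subgroupOf S).Normal := by
      refine Subgroup.normal_of_index_eq_minFac_card ?_
      rw [hidx, hS27]
      norm_num
    exact (Subgroup.normal_subgroupOf_iff_le_normalizer hES).1 hmin
  obtain ⟨e, f, d, htor⟩ := exists_eFrame hS hF hE (fun a b => hc.is_comm.comm a b)
    (fun a => Subtype.ext (hexp a a.2).1) (by rw [hcard]; norm_num) (x := y) ⟨hy, hnorm hy⟩ hyE
  obtain ⟨τ, hτ, hmem, hτe, hτf⟩ := htor 2 2 (show ((2 : ℕ) : ZMod 3) * ((2 : ℕ) : ZMod 3) = 1 from rfl)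
  have hN : ∀ z ∈ S, z ∈ normalizerIn S E := fun z hz => ⟨hz, hnorm hz⟩
  set Y : normalizerIn S E := ⟨y, hN y hy⟩ with hY
  set e' : normalizerIn S E := ⟨e, hN e (hES d.heH)⟩ with he'
  set f' : normalizerIn S E := ⟨f, hN f (hES d.hfH)⟩ with hf'
  have he : τ e' = e ^ 2 := hτe e' rfl
  have hf : τ f' = f ^ 2 := hτf f' rfl
  have htS : τ Y ∈ S := (hmem Y).1
  -- `τ y ∈ E y`
  have h1 : τ Y * f ^ 2 * (τ Y)⁻¹ = f ^ 2 * e ^ 2 := by
    have h : Y * f' * Y⁻¹ = f' * e' := Subtype.ext d.hxf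
    have h2 := congrArg τ h
    rw [map_mul, map_mul, map_mul, map_inv, he, hf] at h2
    exact h2
  have hee : ∀ z ∈ normalizerIn S E, z * e = e * z := fun z hz => d.commute_e hz
  obtain ⟨-, k, hk⟩ := d.hN (τ Y) (hN _ htS)
  have hk2 : τ Y * f ^ 2 * (τ Y)⁻¹ = f ^ 2 * e ^ (2 * k) := by
    rw [← conj_pow, hk, (show Commute f (e ^ k) from
      ((show Commute e f from d.hef).pow_left k).symm).mul_pow, ← pow_mul, mul_comm k]
  have hk1 : e ^ k = e := by
    have h3 := hk2.symm.trans h1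
    rw [mul_right_inj] at h3
    calc e ^ k = e ^ k * (e ^ k) ^ 3 := by rw [← pow_mul, mul_comm, pow_mul, d.hep, one_pow, mul_one]
      _ = (e ^ (2 * k)) ^ 2 := by rw [← pow_mul, ← pow_add, ← pow_mul]; congr 1; ring
      _ = (e ^ 2) ^ 2 := by rw [h3]
      _ = e := by rw [← pow_mul, show 2 * 2 = 3 + 1 from rfl, pow_succ, d.hep, one_mul]
  rw [hk1] at hk
  set v := τ Y * y⁻¹ with hv
  have hvE : v ∈ E := by
    refine d.mem_of_commute (S.mul_mem htS (S.inv_mem hy)) ?_ ?_
    · exact ((show Commute (τ Y) e from hee _ (hN _ htS)).mul_left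
        (show Commute y e from hee _ (hN _ hy)).inv_left).eq.symm
    · have hy' : y⁻¹ * (f * e) * y = f := by rw [← d.hxf]; group
      calc f * v = (τ Y * f * (τ Y)⁻¹) * e⁻¹ * v := by rw [hk, mul_inv_cancel_right]
        _ = τ Y * f * ((τ Y)⁻¹ * e⁻¹ * τ Y) * y⁻¹ := by rw [hv]; group
        _ = τ Y * f * e⁻¹ * y⁻¹ := by
          rw [mul_assoc (τ Y)⁻¹, ← ((show Commute (τ Y) e from hee _ (hN _ htS)).inv_right).eq,
            inv_mul_cancel_left]
        _ = τ Y * (y⁻¹ * (f * e) * y) * e⁻¹ * y⁻¹ := by rw [hy']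
        _ = v * f * (e * (y * e⁻¹ * y⁻¹)) := by rw [hv]; group
        _ = v * f := by
          rw [((show Commute y e from hee _ (hN _ hy)).inv_right).eq, mul_inv_cancel_right,
            mul_inv_cancel, mul_one]
  -- the cube
  have hc3 : ∃ r : ℕ, y ^ 3 = e ^ r := by
    refine d.mem_zpowers_of_commute ?_ (Commute.self_pow y 3).eq
    have h := (Subgroup.normal_subgroupOf_iff_le_normalizer hES).2 hnorm
    have hidx : (E.subgroupOf S).index = 3 := by
      have h1 := Subgroup.card_mul_index (E.subgroupOf S)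
      rw [Nat.card_congr (Subgroup.subgroupOfEquivOfLe hES).toEquiv, hcard, hS27] at h1
      omega
    have := Subgroup.pow_index_mem (E.subgroupOf S) (⟨y, hy⟩ : S)
    rw [hidx] at this
    exact this
  obtain ⟨r, hr⟩ := hc3
  obtain ⟨s, t, hst⟩ := d.span v hvE
  have hpow : (v * y) ^ 3 = y ^ 3 := by
    have hye : ∀ i : ℕ, Commute y (e ^ i) := fun i => (show Commute y e from hee _ (hN _ hy)).pow_right i
    have hvy : y * v * y⁻¹ = v * e ^ t := by
      rw [hst, show y * (e ^ s * f ^ t) * y⁻¹ = (y * e ^ s * y⁻¹) * (y * f ^ t * y⁻¹) by group,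
        (hye s).eq, mul_inv_cancel_right, ← conj_pow, d.hxf,
        (show Commute f e from d.hef.symm).mul_pow, mul_assoc]
    have hve : ∀ i : ℕ, Commute v (e ^ i) := fun i => congrArg Subtype.val
      (hc.is_comm.comm (⟨v, hvE⟩ : E) ⟨e ^ i, E.pow_mem d.heH i⟩)
    calc (v * y) ^ 3 = v * (y * v * y⁻¹) * (y * (y * v * y⁻¹) * y⁻¹) * y ^ 3 := by
          simp only [pow_succ, pow_zero, one_mul]; group
      _ = v * (v * e ^ t) * (y * (v * e ^ t) * y⁻¹) * y ^ 3 := by rw [hvy]
      _ = v * (v * e ^ t) * ((y * v * y⁻¹) * e ^ t) * y ^ 3 := by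
        rw [show y * (v * e ^ t) * y⁻¹ = (y * v * y⁻¹) * (y * e ^ t * y⁻¹) by group, (hye t).eq,
          mul_inv_cancel_right]
      _ = v ^ 3 * (e ^ t) ^ 3 * y ^ 3 := by
        rw [hvy]
        congr 1
        rw [show v * (v * e ^ t) * (v * e ^ t * e ^ t) = v * v * (e ^ t * v) * e ^ t * e ^ t by group,
          ← (hve t).eq]
        simp only [pow_succ, pow_zero, one_mul, mul_assoc]
      _ = y ^ 3 := by
        rw [(hexp v hvE).1, one_mul, ← pow_mul, mul_comm, pow_mul, d.hep, one_pow, one_mul]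
  have h4 : τ Y = v * y := by rw [hv, inv_mul_cancel_right]
  have h5 : (τ Y) ^ 3 = (e ^ r) ^ 2 := by
    rw [← map_pow, show Y ^ 3 = e' ^ r from Subtype.ext (by simpa [hY, he'] using hr), map_pow, he,
      ← pow_mul, ← pow_mul, mul_comm]
  rw [h4, hpow, hr, pow_two, left_eq_mul] at h5
  rw [hr, h5]

/-- Let F be a saturated fusion system over a finite 3-group S having a pearl: an F-essential subgroup E that is elementary abelian of order 9 or nonabelian of order 27. Then either S is extraspecial of order 27 and exponent 3, or S has order at least 81 and every subgroup of S can be generated by at most two elements, or S is isomorphic to the wreath product C₃ ≀ C₃ (a Sylow 3-subgroup of the symmetric group of degree 9). -/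
theorem result {Ω : Type*} [Group Ω] {S : Subgroup Ω} [Finite S] (hS : IsPGroup 3 S) (F : Cfsg.FusionSystem S) (hF : F.IsSaturated 3) [Fact (Nat.Prime 3)] (E : Subgroup Ω) (hE : F.IsEssential 3 E) (hpearl : (Nat.card E = 9 ∧ ∀ x ∈ E, x ^ 3 = 1 ∧ IsMulCommutative ↥E) ∨ (Nat.card E = 27 ∧ ¬ IsMulCommutative ↥E)) : (Cfsg.IsExtraspecial 3 ↥S ∧ Nat.card S = 27 ∧ Monoid.exponent ↥S = 3) ∨ (81 ≤ Nat.card S ∧ ∀ H : Subgroup Ω, H ≤ S → ∃ T : Finset Ω, T.card ≤ 2 ∧ Subgroup.closure (T : Set Ω) = H) ∨ (∃ W : Sylow 3 (Equiv.Perm (Fin 9)), Nonempty (↥S ≃* ↥(W : Subgroup (Equiv.Perm (Fin 9))))) := by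
  obtain ⟨k, hk⟩ := IsPGroup.iff_card.1 hS
  obtain ⟨hk3, hM, x, -, hxp, hx, -, hu⟩ :=
    CfsgLib.PMaxClass.exists_pearl_element hS hF (by norm_num) hE hpearl hk
  have hconj : ∀ a ∈ Subgroup.upperCentralSeries (↥S) (k - 2), (a * x) ^ 3 = 1 := fun a ha =>
    hM.pow_eq_one_of_mem (by omega) hxp hx ha
  have htrans : (∀ H : Subgroup ↥S, ∃ T : Finset ↥S, T.card ≤ 2 ∧ Subgroup.closure (T : Set ↥S) = H) →
      ∀ H : Subgroup Ω, H ≤ S → ∃ T : Finset Ω, T.card ≤ 2 ∧ Subgroup.closure (T : Set Ω) = H := by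
    classical
    intro h H hH
    obtain ⟨T, hT, hcl⟩ := h (H.subgroupOf S)
    refine ⟨T.image S.subtype, Finset.card_image_le.trans hT, ?_⟩
    rw [Finset.coe_image, ← MonoidHom.map_closure, hcl, Subgroup.subgroupOf_map_subtype,
      inf_eq_left.2 hH]
  rcases Nat.lt_or_ge k 4 with hk4 | hk4
  · left
    obtain rfl : k = 3 := by omega
    rcases hpearl with ⟨hcard, hexp⟩ | ⟨hcard, -⟩
    · have hcube := cube_eq_one hS hF hE hcard hexp (by rw [hk]; norm_num)
      have hnc : ¬ IsMulCommutative ↥S := fun h => hM.ne_top (by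
        rw [Subgroup.upperCentralSeries_one, Subgroup.center_eq_top_iff]
        exact h)
      obtain ⟨hZp, hder, hfr, -⟩ := CfsgLib.FusionEssential.center_of_card_cube (p := 3) hk hnc
      refine ⟨⟨⟨hS, hfr, hder⟩, hZp⟩, by rw [hk]; norm_num, ?_⟩
      have h3 : Monoid.exponent ↥S ∣ 3 :=
        Monoid.exponent_dvd_of_forall_pow_eq_one fun z => Subtype.ext (by simpa using hcube z z.2)
      rcases (Nat.dvd_prime Nat.prime_three).1 h3 with h1 | h1
      · have := Monoid.exp_eq_one_iff.1 h1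
        have h2 := Nat.card_of_subsingleton (1 : ↥S)
        omega
      · exact h1
    · obtain ⟨y, hy⟩ := CfsgLib.FusionRankTwo.exists_normalizer_not_mem hS hF hE
      refine absurd (?_ : (y : Ω) ∈ E) hy
      exact (Subgroup.eq_of_le_of_card_ge hE.1.1 (by rw [hk, hcard]; norm_num)).ge y.2.1
  have h81 : 81 ≤ Nat.card S := by
    rw [hk]
    calc 81 = 3 ^ 4 := by norm_num
      _ ≤ _ := Nat.pow_le_pow_right (by norm_num) hk4
  rcases Nat.lt_or_ge k 5 with hk5 | hk5
  · obtain rfl : k = 4 := by omega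
    rcases hM.wreath_or_two with h | h
    · exact Or.inr (Or.inl ⟨h81, htrans h⟩)
    · exact Or.inr (Or.inr h)
  · exact Or.inr (Or.inl ⟨h81, htrans (hM.exists_generators_two hu hconj hk5)⟩)

end Cfsg.Agent.S5239
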