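import Cfsg.Statements.S5244
import Cfsg.Agent.FusionClosed.AbelianIndexConvert
import Cfsg.Agent.FusionClosed.AbelianIndexCore

set_option autoImplicit false
open Cfsg Cfsg.FusionSystem CfsgLib.Fusion CfsgLib.FusionClosed

namespace Cfsg.Agent.S5244

/-- Let p be an odd prime, S a finite nonabelian p-group with a unique abelian subgroup A of index p, and F a saturated fusion system over S with no nontrivial normal subgroup (O_p(F) = 1) in which A is not F-essential. Then some subgroup Z(S)⟨x⟩ with x ∈ S outside A is F-essential, the centre Z(S) is contained in the commutator subgroup of S, and S has maximal nilpotency class (if S has order pⁿ with n ≥ 3, the term of index n − 2 of its lower central series, counting S itself as the term of index 0, is nontrivial). -/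
theorem result {Ω : Type*} [Group Ω] {S : Subgroup Ω} [Finite S] (p : ℕ) [Fact p.Prime] (hS : IsPGroup p S) (F : Cfsg.FusionSystem S) (hF : F.IsSaturated p) (hp : p ≠ 2) (hna : ¬ IsMulCommutative ↥S) (A : Subgroup Ω) (hA : A ≤ S ∧ IsMulCommutative ↥A ∧ (A.subgroupOf S).index = p) (huniq : ∀ B : Subgroup Ω, B ≤ S → IsMulCommutative ↥B → (B.subgroupOf S).index = p → B = A) (hcore : F.core = ⊥) (hAe : ¬ F.IsEssential p A) : (∃ x ∈ S, x ∉ A ∧ F.IsEssential p ((S ⊓ Subgroup.centralizer (S : Set Ω)) ⊔ Subgroup.zpowers x)) ∧ (S ⊓ Subgroup.centralizer (S : Set Ω)) ≤ (commutator ↥S).map S.subtype ∧ ∀ n : ℕ, Nat.card S = p ^ n → 3 ≤ n → Subgroup.lowerCentralSeries S (n - 2) ≠ ⊥ := by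
  have h : AIdx S A p := ⟨hA.1, hA.2.1, hA.2.2, huniq, hna, hS⟩
  rw [inf_centralizer_eq_zS, map_subtype_commutator_self]
  obtain ⟨⟨P, x, hP, hxP, hxA, hB⟩, hzR, hR⟩ := h.core_free hp hF hcore hAe
  have hi := h.relIndex_inter hP.1.1 hxP hxA
  rw [hB] at hi
  refine ⟨⟨x, hP.1.1 hxP, hxA, ?_⟩, hzR, fun n hn hn3 hlow => ?_⟩
  · rw [sup_zpowers_eq (AIdx.zS_le_essential hP) hi hxP fun e => hxA (h.zS_le e)]
    exact hP
  rw [inf_eq_left.2 hzR] at hR
  have hx := hP.1.1 hxP
  have hall : ∀ a : A, a ∈ h.kD hx (n - 3 + 1) := fun a => by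
    have h1 := h.iterate_mem_lowerCentralSeries hx (n - 2) a
    rw [hlow, Subgroup.mem_bot, OneMemClass.coe_eq_one] at h1
    rw [h.mem_kD hx, show n - 3 + 1 = n - 2 by omega, h1]
  have h1 := h.card_kD_le hx hxA (by rwa [inf_eq_left.2 hzR]) (n - 3)
  rw [show h.kD hx (n - 3 + 1) = ⊤ from eq_top_iff.2 fun a _ => hall a, Subgroup.card_top, hR,
    ← pow_succ'] at h1
  have h2 := Subgroup.relIndex_mul_relIndex ⊥ A S bot_le h.le
  rw [Subgroup.relIndex_bot_left, Subgroup.relIndex_bot_left, h.index, hn] at h2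
  have h3 : p ^ n ≤ p ^ (n - 3 + 1) * p := h2 ▸ Nat.mul_le_mul_right p h1
  rw [← pow_succ] at h3
  have h4 := (Nat.pow_le_pow_iff_right (Fact.out : p.Prime).one_lt).1 h3
  omega

end Cfsg.Agent.S5244
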