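import Cfsg.Statements.S5245
import Cfsg.Agent.S5083
import Cfsg.Agent.FusionClosed.Semidirect

set_option autoImplicit false
open Cfsg CfsgLib.Fusion CfsgLib.FusionClosed

namespace Cfsg.Agent.S5245

theorem exists_prime_order {G : Type*} [Group G] [Finite G] {p : ℕ} [Fact p.Prime]
    (h : ¬ IsPGroup p G) : ∃ (q : ℕ) (g : G), q.Prime ∧ q ≠ p ∧ orderOf g = q := by
  by_contra hc
  push Not at hc
  refine h (IsPGroup.of_card (n := (Nat.card G).primeFactorsList.length)
    (Nat.eq_prime_pow_of_unique_prime_dvd Nat.card_pos.ne' fun {q} hq hqd => ?_))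
  have := Fact.mk hq
  obtain ⟨g, hg⟩ := exists_prime_orderOf_dvd_card' q hqd
  exact Classical.byContradiction fun hne => hc q g hq hne hg

theorem mem_Inn_of_inner {Ω : Type*} [Group Ω] {T : Subgroup Ω} {E : Cfsg.FusionSystem T}
    (hE : ∀ P : Subgroup Ω, E.Hom P = (Cfsg.innerFusionSystem T).Hom P) {α : MulAut T}
    (hα : α ∈ E.autGroup T) : α ∈ Inn T := by
  have h1 : T.subtype.comp α.toMonoidHom ∈ E.Hom T := (mem_autGroup_iff le_rfl).1 hα
  rw [hE T] at h1
  obtain ⟨-, g, hg, hv⟩ := h1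
  exact ⟨⟨g, hg⟩, MulEquiv.ext fun x => Subtype.ext (hv x).symm⟩

theorem Inn_isPGroup {G : Type*} [Group G] {p : ℕ} (h : IsPGroup p G) : IsPGroup p (Inn G) :=
  h.of_surjective MulAut.conj.rangeRestrict MulAut.conj.rangeRestrict_surjective

/-- Let F be an extremely sparse fusion system over a finite p-group S (saturated, not the inner system, and every saturated fusion system over any subgroup T of S contained in F is F itself or the inner system of T). Then S is normal in F, the focal and hyperfocal subgroups of F are both S, and Aut_F(S) is generated by the inner automorphisms of S together with a single automorphism of prime order q ≠ p (F is the fusion system of the semidirect product of S by a cyclic group of prime order). -/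
theorem result {Ω : Type*} [Group Ω] {S : Subgroup Ω} [Finite S] (p : ℕ) [Fact p.Prime] (hS : IsPGroup p S) (F : Cfsg.FusionSystem S) (hF : F.IsSaturated p) (hxs : ¬ (∀ P : Subgroup Ω, F.Hom P = (Cfsg.innerFusionSystem S).Hom P) ∧ ∀ (T : Subgroup Ω) (E : Cfsg.FusionSystem T), E.IsSaturated p → E.IsSubsystemOf F → (T = S ∧ ∀ P : Subgroup Ω, E.Hom P = F.Hom P) ∨ (∀ P : Subgroup Ω, E.Hom P = (Cfsg.innerFusionSystem T).Hom P)) : F.IsNormal S ∧ F.focalSubgroup = S ∧ F.hyperfocalSubgroup p = S ∧ ∃ (q : ℕ) (β : MulAut ↥S), q.Prime ∧ q ≠ p ∧ β ∈ F.autGroup S ∧ orderOf β = q ∧ (F.autGroup S : Subgroup (MulAut ↥S)) = Cfsg.Inn ↥S ⊔ Subgroup.zpowers β := by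
  obtain ⟨hne, hsparse⟩ := hxs
  have hp : p.Prime := Fact.out
  obtain ⟨P, hPS, hP⟩ : ∃ P : Subgroup Ω, P ≤ S ∧ ¬ IsPGroup p (F.autGroup P) := by
    by_contra hc
    push Not at hc
    exact hne fun P => by rw [Cfsg.Agent.S5083.result p hS F hF hc]
  have hfin : ∀ T : Subgroup Ω, T ≤ S → Finite (MulAut T) := fun T hT => by
    have := finite_of_le hT
    exact Finite.of_injective (fun α => (α : T → T)) DFunLike.coe_injective
  have key : ∀ (T : Subgroup Ω) (γ : MulAut T), T ≤ S → γ ∈ F.autGroup T → ∀ q : ℕ, q.Prime →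
      q ≠ p → orderOf γ = q →
      T = S ∧ ∀ R : Subgroup Ω, (semidirectSystem T (Subgroup.zpowers γ)).Hom R = F.Hom R := by
    intro T γ hT hγ q hq hqp hord
    have := finite_of_le hT
    refine (hsparse T _ (isSaturated_semidirectSystem (hS.to_le hT) ?_)
      (semidirectSystem_le hT (Subgroup.zpowers_le.2 hγ))).resolve_right fun hin => ?_
    · rw [Nat.card_zpowers, hord]
      exact (Nat.coprime_primes hq hp).2 hqp
    · have h1 : γ ∈ Inn T := mem_Inn_of_inner hin
        (mem_autGroup_semidirectSystem_of_mem (Subgroup.mem_zpowers γ))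
      obtain ⟨k, hk⟩ := IsPGroup.iff_orderOf.mp (Inn_isPGroup (hS.to_le hT)) ⟨γ, h1⟩
      rw [Subgroup.orderOf_mk, hord] at hk
      exact hqp ((Nat.prime_dvd_prime_iff_eq hq hp).1 (hq.dvd_of_dvd_pow (dvd_of_eq hk)))
  have := hfin P hPS
  obtain ⟨q, ⟨β, hβ⟩, hq, hqp, hord⟩ := exists_prime_order hP
  rw [Subgroup.orderOf_mk] at hord
  obtain ⟨rfl, hEF⟩ := key P β hPS hβ q hq hqp hord
  have hA : F.autGroup P = Inn P ⊔ Subgroup.zpowers β := by
    rw [← autGroup_semidirectSystem, Cfsg.FusionSystem.autGroup, Cfsg.FusionSystem.autGroup, hEF P]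
  let T : Subgroup Ω := Subgroup.closure {y : Ω | ∃ x : P, y = (x : Ω)⁻¹ * (β x : P)}
  have hTS : T ≤ P := (Subgroup.closure_le _).2 fun y ⟨x, hx⟩ =>
    hx ▸ P.mul_mem (P.inv_mem x.2) (β x).2
  have hTeq : T = P := by
    by_contra hT
    have hinv : ∀ x : P, (x : Ω) ∈ T → ((β x : P) : Ω) ∈ T := by
      have : T.subgroupOf P ≤ (T.subgroupOf P).comap β.toMonoidHom := by
        have he : T.subgroupOf P = Subgroup.closure {y : P | ∃ x : P, y = x⁻¹ * β x} := by
          apply Subgroup.map_injective P.subtype_injective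
          rw [Subgroup.map_subgroupOf_eq_of_le hTS, MonoidHom.map_closure]
          refine congrArg Subgroup.closure (Set.ext fun y => ?_)
          constructor
          · rintro ⟨x, rfl⟩
            exact ⟨x⁻¹ * β x, ⟨x, rfl⟩, rfl⟩
          · rintro ⟨_, ⟨x, rfl⟩, rfl⟩
            exact ⟨x, rfl⟩
        rw [he, Subgroup.closure_le]
        rintro _ ⟨x, rfl⟩
        exact Subgroup.subset_closure ⟨β x, by simp⟩
      exact fun x hx => this hx
    have := finite_of_le hTS
    let β' : T →* T := ((P.subtype.comp β.toMonoidHom).comp (Subgroup.inclusion hTS)).codRestrict T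
      fun x => hinv ⟨x, hTS x.2⟩ x.2
    have hinj : Function.Injective β' := fun a b hab => by
      have h1 : β ⟨a, hTS a.2⟩ = β ⟨b, hTS b.2⟩ :=
        Subtype.ext (congrArg Subtype.val hab :)
      exact Subtype.ext (congrArg Subtype.val (β.injective h1) :)
    let γ : MulAut T := MulEquiv.ofBijective β' ⟨hinj, Finite.surjective_of_injective hinj⟩
    have hγv : ∀ (k : ℕ) (x : T), ((γ ^ k) x : Ω) = ((β ^ k) ⟨x, hTS x.2⟩ : P) := by
      intro k
      induction k with
      | zero => intro x; rfl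
      | succ k ih =>
        intro x
        rw [pow_succ', MulAut.mul_apply, pow_succ', MulAut.mul_apply]
        exact congrArg (fun w : P => ((β w : P) : Ω))
          (Subtype.ext (ih x) : (⟨_, hTS ((γ ^ k) x).2⟩ : P) = _)
    have hγmem : γ ∈ F.autGroup T :=
      (mem_autGroup_iff hTS).2 (mem_of_agree ((mem_autGroup_iff le_rfl).1 hβ) hTS fun x => rfl)
    have hγ1 : γ ^ q = 1 := MulEquiv.ext fun x => Subtype.ext (by
      rw [hγv, ← hord, pow_orderOf_eq_one]; rfl)
    have hγ : γ = 1 := by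
      by_contra hne'
      exact hT (key T γ hTS hγmem q hq hqp (by
        have := Fact.mk hq
        exact orderOf_eq_prime hγ1 hne')).1
    refine hq.ne_one (hord.symm.trans (orderOf_eq_one_iff.2 (MulEquiv.ext fun x => ?_)))
    have hxT : ((x⁻¹ * β x : P) : Ω) ∈ T := Subgroup.subset_closure ⟨x, rfl⟩
    have hfix : β (x⁻¹ * β x) = x⁻¹ * β x := by
      have := hγv 1 ⟨_, hxT⟩
      rw [hγ, one_pow, pow_one] at this
      exact (Subtype.ext this).symm
    have hpow : ∀ k : ℕ, (β ^ k) x = x * (x⁻¹ * β x) ^ k := by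
      intro k
      induction k with
      | zero => simp
      | succ k ih =>
        rw [pow_succ', MulAut.mul_apply, ih, map_mul, map_pow, hfix, pow_succ' (x⁻¹ * β x),
          ← mul_assoc x, mul_inv_cancel_left]
    have h1 : (x⁻¹ * β x) ^ q = 1 := by
      have := hpow q
      rw [← hord, pow_orderOf_eq_one, MulAut.one_apply, left_eq_mul] at this
      rwa [hord] at this
    have h2 : x⁻¹ * β x = 1 := by
      obtain ⟨k, hk⟩ := IsPGroup.iff_orderOf.mp hS (x⁻¹ * β x)
      by_contra hne'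
      have := Fact.mk hq
      rw [orderOf_eq_prime h1 hne'] at hk
      exact hqp ((Nat.prime_dvd_prime_iff_eq hq hp).1 (hq.dvd_of_dvd_pow (dvd_of_eq hk)))
    exact (inv_mul_eq_one.1 h2).symm
  have hres : (⟨β, hβ⟩ : F.autGroup P) ∈ pResidual p (F.autGroup P) :=
    Subgroup.subset_closure (by
      show (orderOf _).Coprime p
      rw [Subgroup.orderOf_mk, hord]
      exact (Nat.coprime_primes hq hp).2 hqp)
  refine ⟨⟨le_rfl, fun R φ hφ => ?_⟩, le_antisymm ?_ ?_, le_antisymm ?_ ?_,
    q, β, hq, hqp, hβ, hord, hA⟩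
  · rw [← hEF R] at hφ
    obtain ⟨hR, g, h, hh, hv⟩ := mem_semidirectSystem_iff.1 hφ
    have he : R ⊔ P = P := sup_eq_right.2 hR
    let ψ : (R ⊔ P : Subgroup Ω) →* Ω :=
      (P.subtype.comp (MulAut.conj g * h).toMonoidHom).comp (Subgroup.inclusion he.le)
    refine ⟨ψ, ?_, fun x => (hv x).symm, ?_⟩
    · rw [← hEF]
      exact mem_semidirectSystem_iff.2 ⟨he.le, g, h, hh, fun x => rfl⟩
    · ext y
      constructor
      · rintro ⟨x, -, rfl⟩
        exact ((MulAut.conj g * h) _).2
      · intro hy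
        obtain ⟨z, hz⟩ := (MulAut.conj g * h).surjective ⟨y, hy⟩
        exact ⟨⟨z, he.ge z.2⟩, z.2, congrArg Subtype.val hz⟩
  · exact (Subgroup.closure_le _).2 fun y ⟨R, φ, x, hφ, hy⟩ =>
      hy ▸ P.mul_mem (P.inv_mem (le_left hφ x.2)) (apply_mem hφ x)
  · refine hTeq.ge.trans ((Subgroup.closure_le _).2 ?_)
    rintro _ ⟨x, rfl⟩
    exact Subgroup.subset_closure ⟨P, P.subtype.comp β.toMonoidHom, x,
      (mem_autGroup_iff le_rfl).1 hβ, rfl⟩
  · exact (Subgroup.closure_le _).2 fun y ⟨R, α, x, hR, _, hy⟩ =>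
      hy ▸ P.mul_mem (P.inv_mem (hR x.2)) (hR ((α : MulAut R) x).2)
  · refine hTeq.ge.trans ((Subgroup.closure_le _).2 ?_)
    rintro _ ⟨x, rfl⟩
    exact Subgroup.subset_closure ⟨P, ⟨β, hβ⟩, x, le_rfl, hres, rfl⟩

end Cfsg.Agent.S5245
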