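import Cfsg.Statements.S5246
import Cfsg.Agent.FusionPStable.Basic

set_option autoImplicit false
open Cfsg

namespace Cfsg.Agent.S5246

open Subgroup CfsgLib.FusionPStable

variable {G : Type*} [Group G] {p : ℕ}

/-- p-stability of the fusion system at a single subgroup, in group terms. -/
def GoodAt (p : ℕ) (Q : Subgroup G) : Prop :=
  ∀ g : ↥(normalizer (Q : Set G)), QuadAut (Q.normalizerMonoidHom g) →
    InCore p Q.normalizerMonoidHom.range (Q.normalizerMonoidHom g)

theorem goodAt_iff (Q : Subgroup G) : GoodAt p Q ↔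
    ∀ (g : G) (hg : g ∈ normalizer (Q : Set G)), ⁅⁅Q, zpowers g⁆, zpowers g⁆ = ⊥ →
      (QuotientGroup.mk (s := (centralizer (Q : Set G)).subgroupOf (normalizer (Q : Set G)))
          (⟨g, hg⟩ : ↥(normalizer (Q : Set G)))) ∈
        Cfsg.pCore p (↥(normalizer (Q : Set G)) ⧸
          (centralizer (Q : Set G)).subgroupOf (normalizer (Q : Set G))) := by
  let e := (QuotientGroup.quotientMulEquivOfEq Q.normalizerMonoidHom_ker).symm.trans
    (QuotientGroup.quotientKerEquivRange Q.normalizerMonoidHom)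
  constructor
  · intro h g hg hq
    obtain ⟨a, ha, hae⟩ := h ⟨g, hg⟩ ((quadAut_normalizer_iff ⟨g, hg⟩).2 hq)
    have h2 := mem_pCore_map_surjective e.symm.toMonoidHom e.symm.surjective ha
    rw [MulEquiv.coe_toMonoidHom] at h2
    convert h2
    rw [MulEquiv.eq_symm_apply]
    apply Subtype.ext
    exact hae.symm
  · intro h g hq
    have h1 := h g g.2 ((quadAut_normalizer_iff g).1 hq)
    exact ⟨_, mem_pCore_map_surjective e.toMonoidHom e.surjective h1, rfl⟩

theorem goodAt_of_conj (x : G) {Q R : Subgroup G}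
    (hR : Q.map (MulAut.conj x).toMonoidHom = R) (h : GoodAt p R) : GoodAt p Q := by
  subst hR
  intro g hq
  let c : Q ≃* Q.map (MulAut.conj x).toMonoidHom := (MulAut.conj x).subgroupMap Q
  have hN : ∀ g : ↥(normalizer (Q : Set G)),
      x * g * x⁻¹ ∈ normalizer ((Q.map (MulAut.conj x).toMonoidHom : Subgroup G) : Set G) := by
    intro g
    exact Subgroup.le_normalizer_map (MulAut.conj x).toMonoidHom ⟨g, g.2, rfl⟩
  have hc : ∀ g : ↥(normalizer (Q : Set G)), MulAut.congr c (Q.normalizerMonoidHom g) =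
      (Q.map (MulAut.conj x).toMonoidHom).normalizerMonoidHom ⟨x * g * x⁻¹, hN g⟩ := by
    intro g
    ext y
    obtain ⟨y, rfl⟩ := c.surjective y
    simp only [normalizerMonoidHom_coe]
    show ((c (Q.normalizerMonoidHom g (c.symm (c y))) : _) : G) = _
    rw [MulEquiv.symm_apply_apply]
    show x * ((Q.normalizerMonoidHom g y : Q) : G) * x⁻¹ = _
    rw [normalizerMonoidHom_coe]
    show _ = x * g * x⁻¹ * (x * y * x⁻¹) * (x * g * x⁻¹)⁻¹
    group
  have h1 := h ⟨_, hN g⟩ (hc g ▸ hq.congr c)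
  have h2 : InCore p Q.normalizerMonoidHom.range
      (MulAut.congr c.symm ((Q.map (MulAut.conj x).toMonoidHom).normalizerMonoidHom
        ⟨x * g * x⁻¹, hN g⟩)) := by
    refine h1.congr c.symm ?_
    apply le_antisymm
    · rintro _ ⟨_, ⟨⟨k, hk⟩, rfl⟩, rfl⟩
      have hk' : x⁻¹ * k * x ∈ normalizer (Q : Set G) := by
        have h3 := Subgroup.le_normalizer_map (H := Q.map (MulAut.conj x).toMonoidHom)
          (MulAut.conj x⁻¹).toMonoidHom ⟨k, hk, rfl⟩
        rw [Subgroup.map_map] at h3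
        have h4 : (MulAut.conj x⁻¹).toMonoidHom.comp (MulAut.conj x).toMonoidHom
            = MonoidHom.id G := by ext; simp [mul_assoc]
        rw [h4, Subgroup.map_id] at h3
        simpa using h3
      refine ⟨⟨_, hk'⟩, ?_⟩
      apply (MulAut.congr c).injective
      rw [hc, MulEquiv.coe_toMonoidHom, congr_congr_symm]
      congr 1
      exact Subtype.ext (by simp [mul_assoc])
    · rintro _ ⟨k, rfl⟩
      refine ⟨_, ⟨⟨_, hN k⟩, rfl⟩, ?_⟩
      rw [← hc k, MulEquiv.coe_toMonoidHom, congr_symm_congr]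
  rw [← hc g, congr_symm_congr] at h2
  exact h2

theorem exists_fullyNormalized_conj [Finite G] [Fact p.Prime] (P : Sylow p G) (Q : Subgroup G)
    (hQ : IsPGroup p Q) : ∃ x : G,
      (Cfsg.groupFusionSystem (P : Subgroup G)).IsFullyNormalized
        (Q.map (MulAut.conj x).toMonoidHom) := by
  obtain ⟨T, hT⟩ := (hQ.of_equiv (Subgroup.subgroupOfEquivOfLe
    (Subgroup.le_normalizer (H := Q))).symm).exists_le_sylow
  set T' : Subgroup G := (T : Subgroup ↥(normalizer (Q : Set G))).map (normalizer (Q : Set G)).subtype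
  obtain ⟨S, hS⟩ := (T.isPGroup'.map (normalizer (Q : Set G)).subtype).exists_le_sylow
  obtain ⟨x, hx⟩ := MulAction.exists_smul_eq G S P
  have hxmap : ∀ H : Subgroup G, H ≤ (S : Subgroup G) →
      H.map (MulAut.conj x).toMonoidHom ≤ (P : Subgroup G) := by
    intro H hH
    rw [← hx]
    rintro _ ⟨a, ha, rfl⟩
    exact Subgroup.smul_mem_pointwise_smul a (MulAut.conj x) (S : Subgroup G) (hH ha)
  have hQT : Q ≤ T' := by
    intro q hq
    exact ⟨⟨q, Subgroup.le_normalizer hq⟩, hT hq, rfl⟩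
  refine ⟨x, (Subgroup.map_mono hQT).trans (hxmap T' hS), ?_⟩
  rintro R ⟨φ, ⟨-, -, y, hy⟩, rfl⟩
  have hR : φ.range = Q.map (MulAut.conj (y * x)).toMonoidHom := by
    ext r
    constructor
    · rintro ⟨⟨_, q, hq, rfl⟩, rfl⟩
      exact ⟨q, hq, by rw [hy]; simp [mul_assoc]⟩
    · rintro ⟨q, hq, rfl⟩
      exact ⟨⟨_, q, hq, rfl⟩, by rw [hy]; simp [mul_assoc]⟩
  have h1 : Nat.card (T'.map (MulAut.conj x).toMonoidHom) = Nat.card T := by
    rw [Subgroup.card_map_of_injective (MulAut.conj x).injective,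
      Subgroup.card_map_of_injective Subtype.coe_injective]
  have h2 : T'.map (MulAut.conj x).toMonoidHom ≤ Cfsg.FusionSystem.normalizerIn (P : Subgroup G)
      (Q.map (MulAut.conj x).toMonoidHom) :=
    le_inf (hxmap T' hS) ((Subgroup.map_mono (Subgroup.map_subtype_le _)).trans
      (Subgroup.le_normalizer_map _))
  refine le_trans ?_ (h1 ▸ Subgroup.card_le_of_le h2)
  set M : Subgroup G := (Cfsg.FusionSystem.normalizerIn (P : Subgroup G) φ.range).map
    (MulAut.conj (y * x)⁻¹).toMonoidHom with hM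
  have hMp : IsPGroup p M := (P.isPGroup'.to_le inf_le_left).map _
  have hMN : M ≤ normalizer (Q : Set G) := by
    have h3 : M ≤ normalizer ((φ.range.map (MulAut.conj (y * x)⁻¹).toMonoidHom : Subgroup G)
        : Set G) := (Subgroup.map_mono inf_le_right).trans (Subgroup.le_normalizer_map _)
    rw [hR, Subgroup.map_map] at h3
    have h4 : (MulAut.conj (y * x)⁻¹).toMonoidHom.comp (MulAut.conj (y * x)).toMonoidHom
        = MonoidHom.id G := by ext; simp [mul_assoc]
    rwa [h4, Subgroup.map_id] at h3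
  obtain ⟨T2, hT2⟩ := (hMp.of_equiv (Subgroup.subgroupOfEquivOfLe hMN).symm).exists_le_sylow
  calc Nat.card (Cfsg.FusionSystem.normalizerIn (P : Subgroup G) φ.range)
      = Nat.card M := (Subgroup.card_map_of_injective (MulAut.conj (y * x)⁻¹).injective).symm
    _ = Nat.card (M.subgroupOf (normalizer (Q : Set G))) :=
        (Nat.card_congr (Subgroup.subgroupOfEquivOfLe hMN).toEquiv).symm
    _ ≤ Nat.card T2 := Subgroup.card_le_of_le hT2
    _ = Nat.card T := by rw [T2.card_eq_multiplicity, T.card_eq_multiplicity]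

/-- Let p be an odd prime, G a finite group and P a Sylow p-subgroup. Call a fusion system F p-stable when, for every fully normalized subgroup Q and every χ ∈ Aut_F(Q) acting quadratically on Q (that is, χ fixes a⁻¹χ(a) for every a ∈ Q; equivalently χ(a⁻¹)·a·χ(a⁻¹)·χ(χ(a)) = 1), χ lies in O_p(Aut_F(Q)). Then G is p-stable in the normalizer form (for every p-subgroup Q and x ∈ N_G(Q) with [Q, x, x] = 1, the image of x lies in O_p(N_G(Q)/C_G(Q))) if and only if the fusion system of G on P is p-stable. -/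
theorem result {Ω : Type*} [Group Ω] [Finite Ω] {p : ℕ} [Fact p.Prime] (hp : p ≠ 2) (P : Sylow p Ω) : Cfsg.IsNormalizerPStable p Ω ↔ (∀ Q : Subgroup Ω, (Cfsg.groupFusionSystem (P : Subgroup Ω)).IsFullyNormalized Q → ∀ χ : MulAut ↥Q, χ ∈ (Cfsg.groupFusionSystem (P : Subgroup Ω)).autGroup Q → (∀ a : ↥Q, (χ a⁻¹) * a * (χ a⁻¹) * (χ (χ a)) = 1) → χ ∈ ((Cfsg.pCore p ↥((Cfsg.groupFusionSystem (P : Subgroup Ω)).autGroup Q)).map ((Cfsg.groupFusionSystem (P : Subgroup Ω)).autGroup Q).subtype : Subgroup (MulAut ↥Q))) := by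
  constructor
  · intro h Q hQ χ hχ hquad
    rw [autGroup_groupFusion hQ.1] at hχ ⊢
    obtain ⟨g, rfl⟩ := hχ
    exact (goodAt_iff Q).2 (fun g hg hq => h Q (P.isPGroup'.to_le hQ.1) g hg hq) g hquad
  · intro h Q hQ g hg hq
    obtain ⟨x, hx⟩ := exists_fullyNormalized_conj P Q hQ
    refine (goodAt_iff Q).1 (goodAt_of_conj x rfl ?_) g hg hq
    intro g' hq'
    have h1 := h _ hx ((Q.map (MulAut.conj x).toMonoidHom).normalizerMonoidHom g')
    rw [autGroup_groupFusion hx.1] at h1
    exact h1 ⟨g', rfl⟩ hq'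

end Cfsg.Agent.S5246
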