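import Cfsg.Statements.S5247
import Cfsg.Agent.FusionPStable.Descend
import Cfsg.Agent.FusionPStable.NormalizerSystem

set_option autoImplicit false
open Cfsg

namespace Cfsg.Agent.S5247

/-- Let p be an odd prime and F a saturated fusion system over a finite p-group S. Call a fusion system E (over any subgroup) p-stable when, for every fully E-normalized subgroup Q and every χ ∈ Aut_E(Q) with χ(a⁻¹)·a·χ(a⁻¹)·χ(χ(a)) = 1 for all a ∈ Q (χ acts quadratically), χ lies in O_p(Aut_E(Q)). Then F is p-stable if and only if every normalizer fusion system N_F(R) of every non-cyclic fully F-normalized subgroup R of S is p-stable. -/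
theorem result {Ω : Type*} [Group Ω] {S : Subgroup Ω} [Finite S] (p : ℕ) [Fact p.Prime] (hS : IsPGroup p S) (F : Cfsg.FusionSystem S) (hF : F.IsSaturated p) (hp : p ≠ 2) : (∀ Q : Subgroup Ω, F.IsFullyNormalized Q → ∀ χ : MulAut ↥Q, χ ∈ F.autGroup Q → (∀ a : ↥Q, (χ a⁻¹) * a * (χ a⁻¹) * (χ (χ a)) = 1) → χ ∈ ((Cfsg.pCore p ↥(F.autGroup Q)).map (F.autGroup Q).subtype : Subgroup (MulAut ↥Q))) ↔ ∀ R : Subgroup Ω, F.IsFullyNormalized R → ¬ IsCyclic ↥R → ∀ N : Cfsg.FusionSystem (Cfsg.FusionSystem.normalizerIn S R), F.IsNormalizerSystem R N → (∀ Q : Subgroup Ω, N.IsFullyNormalized Q → ∀ χ : MulAut ↥Q, χ ∈ N.autGroup Q → (∀ a : ↥Q, (χ a⁻¹) * a * (χ a⁻¹) * (χ (χ a)) = 1) → χ ∈ ((Cfsg.pCore p ↥(N.autGroup Q)).map (N.autGroup Q).subtype : Subgroup (MulAut ↥Q))) := by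
  constructor
  · intro h R _ _ N hN
    exact CfsgLib.FusionPStable.pStable_normalizerSystem h hN
  · intro h Q hQ χ hχ hq
    have hfin := CfsgLib.Fusion.finite_of_le hQ.1
    by_cases hc : IsCyclic ↥Q
    · exact CfsgLib.FusionPStable.inCore_of_cyclic (hS.to_le hQ.1) hχ hq
    obtain ⟨N, hN⟩ := CfsgLib.FusionPStable.exists_normalizerSystem F hQ.1
    have hQN := CfsgLib.Fusion.le_normalizerIn hQ.1
    refine CfsgLib.FusionPStable.inCore_of_normalizerSystem hN (h Q hQ hc N hN) hQN ?_ hχ hq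
    intro α hα
    refine CfsgLib.FusionPStable.mem_autGroup_normalizerSystem hN hQN hα
      (CfsgLib.Fusion.mem_of_eq (sup_idem Q) ((CfsgLib.Fusion.mem_autGroup_iff hQ.1).mp hα)
        (ψ := (Q.subtype.comp α.toMonoidHom).comp (Subgroup.inclusion (sup_idem Q).le))
        fun x hx => rfl) (fun x => rfl) ?_
    ext y
    constructor
    · rintro ⟨x, hx, rfl⟩
      exact (α _).2
    · intro hy
      exact ⟨⟨_, Subgroup.mem_sup_left (α.symm ⟨y, hy⟩).2⟩, (α.symm ⟨y, hy⟩).2,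
        congrArg Subtype.val (α.apply_symm_apply ⟨y, hy⟩)⟩

end Cfsg.Agent.S5247
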