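import Cfsg.Statements.S5249
import Cfsg.Agent.FusionPStable.ZJControl
import Cfsg.Agent.LocalEven.QdSection
import Cfsg.Agent.ConjFunctor.Sections
-- import your own Cfsg.Agent.* helpers here

set_option autoImplicit false
open Cfsg

namespace Cfsg.Agent.S5249

open Subgroup

/-- For `R` strongly closed and normal in `S`, the factor system is the system of `N(R)/R`, where
`N(Z(J(S/R)))` controls fusion. -/
theorem core_factor_ne_bot {G : Type*} [Group G] [Finite G] {p : ℕ} [Fact p.Prime] (hp : p ≠ 2)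
    (hqd : ¬ Cfsg.Involves ↥(Cfsg.qd p) G) (P : Sylow p G) (R : Subgroup G)
    (hR : (Cfsg.groupFusionSystem (P : Subgroup G)).StronglyClosed R)
    (hne : R ≠ (P : Subgroup G)) [(R.subgroupOf (P : Subgroup G)).Normal]
    (E : Cfsg.FusionSystem (⊤ : Subgroup ((P : Subgroup G) ⧸ R.subgroupOf (P : Subgroup G))))
    (hE : (Cfsg.groupFusionSystem (P : Subgroup G)).IsFactorSystem R
      (QuotientGroup.mk' (R.subgroupOf (P : Subgroup G))) E) : E.core ≠ ⊥ := by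
  set S : Subgroup G := (P : Subgroup G) with hS
  set R' := R.subgroupOf S with hR'
  set θ := QuotientGroup.mk' R' with hθ
  set N := normalizer (R : Set G) with hN
  have hRS : R ≤ S := hR.1
  have hSN : S ≤ N := (normal_subgroupOf_iff_le_normalizer hRS).mp inferInstance
  set K := R.subgroupOf N with hK
  have hKn : K.Normal := normal_in_normalizer
  set π := QuotientGroup.mk' K with hπ
  have hle : R' ≤ K.comap (Subgroup.inclusion hSN) := fun x hx => hx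
  let ι : S ⧸ R' →* ↥N ⧸ K := QuotientGroup.map R' K (Subgroup.inclusion hSN) hle
  have hιθ : ∀ s : S, ι (θ s) = π (Subgroup.inclusion hSN s) := fun s => rfl
  have hι : Function.Injective ι := by
    rw [← MonoidHom.ker_eq_bot_iff, eq_bot_iff]
    intro z hz
    obtain ⟨s, rfl⟩ := QuotientGroup.mk'_surjective R' z
    exact (QuotientGroup.eq_one_iff s).mpr
      ((QuotientGroup.eq_one_iff (N := K) (Subgroup.inclusion hSN s)).mp hz)
  let T : Sylow p (↥N ⧸ K) := (P.subtype hSN).mapSurjective (QuotientGroup.mk'_surjective K)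
  have hT : ∀ y, y ∈ (T : Subgroup (↥N ⧸ K)) ↔ y ∈ ι.range := by
    intro y
    constructor
    · rintro ⟨⟨s, hsN⟩, hs, rfl⟩
      exact ⟨θ ⟨s, hs⟩, rfl⟩
    · rintro ⟨z, rfl⟩
      obtain ⟨⟨s, hs⟩, rfl⟩ := QuotientGroup.mk'_surjective R' z
      exact ⟨⟨s, hSN hs⟩, hs, rfl⟩
  have hstL : Cfsg.IsNormalizerPStable p (↥N ⧸ K) :=
    CfsgLib.LocalEven.isNormalizerPStable_of_qdFree hp fun h => hqd
      (CfsgLib.ConjFunctor.involves_trans (CfsgLib.ConjFunctor.involves_section N R) h)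
  have hTne : (T : Subgroup (↥N ⧸ K)) ≠ ⊥ := by
    intro h
    refine hne (le_antisymm hRS fun s hs => ?_)
    have h1 : π ⟨s, hSN hs⟩ ∈ (T : Subgroup (↥N ⧸ K)) := ⟨⟨s, hSN hs⟩, hs, rfl⟩
    rw [h, mem_bot] at h1
    exact (QuotientGroup.eq_one_iff (N := K) ⟨s, hSN hs⟩).mp h1
  set Z := Cfsg.centerThompsonAOf (T : Subgroup (↥N ⧸ K)) with hZ
  have hZT : Z ≤ (T : Subgroup (↥N ⧸ K)) := CfsgLib.PLocal.centerThompsonAOf_le _
  have hZ0 : Z ≠ ⊥ := CfsgLib.PLocal.centerThompsonAOf_ne_bot T.isPGroup' hTne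
  set Zb := Z.comap ι with hZb
  have hZb0 : Zb ≠ ⊥ := by
    intro h
    refine hZ0 (eq_bot_iff.mpr fun y hy => ?_)
    obtain ⟨z, rfl⟩ := (hT y).mp (hZT hy)
    have h1 : z ∈ Zb := hy
    rw [h, mem_bot] at h1
    rw [h1, map_one]
    exact one_mem _
  intro hbot
  refine hZb0 (le_bot_iff.mp (hbot ▸ le_sSup ⟨le_top, ?_⟩))
  intro P' φ' hφ'
  obtain ⟨-, φ, ⟨hpre, hφS, g, hg⟩, hP, hφ, hP', hind⟩ := (hE.2.2.2 P' φ').mp hφ'
  have hRpre : R ≤ Cfsg.FusionSystem.preimageAlong θ P' := fun r hr => ⟨⟨r, hRS hr⟩,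
    show θ ⟨r, hRS hr⟩ ∈ P' from by
      rw [QuotientGroup.mk'_apply, (QuotientGroup.eq_one_iff (N := R') _).mpr hr]
      exact one_mem _, rfl⟩
  have hgN : g ∈ N := by
    refine CfsgLib.ConjFunctor.mem_normalizer_of_cj_le ?_
    rintro _ ⟨r, hr, rfl⟩
    exact hR.2 R le_rfl (Cfsg.conjHom R g) ⟨hRS,
      fun x => by
        show g * (x : G) * g⁻¹ ∈ S
        rw [← hg ⟨x, hRpre x.2⟩]
        exact hφS _, g, fun x => rfl⟩ ⟨r, hr⟩
  have hact : ∀ y ∈ P', π ⟨g, hgN⟩ * ι y * (π ⟨g, hgN⟩)⁻¹ ∈ (T : Subgroup (↥N ⧸ K)) ∧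
      ∀ hy : y ∈ P', ι (φ' ⟨y, hy⟩) = π ⟨g, hgN⟩ * ι y * (π ⟨g, hgN⟩)⁻¹ := by
    intro y hy
    obtain ⟨s, rfl⟩ := QuotientGroup.mk'_surjective R' y
    have hs : (s : G) ∈ Cfsg.FusionSystem.preimageAlong θ P' := ⟨s, hy, rfl⟩
    have e : (⟨φ ⟨s, hs⟩, hSN (hφS _)⟩ : ↥N) =
        ⟨g, hgN⟩ * Subgroup.inclusion hSN s * ⟨g, hgN⟩⁻¹ := Subtype.ext (hg ⟨s, hs⟩)
    have e2 : π ⟨g, hgN⟩ * ι (θ s) * (π ⟨g, hgN⟩)⁻¹ =
        π ⟨φ ⟨s, hs⟩, hSN (hφS _)⟩ := by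
      rw [e, map_mul, map_mul, map_inv, hιθ]
    refine ⟨e2 ▸ ⟨⟨φ ⟨s, hs⟩, hSN (hφS _)⟩, hφS _, rfl⟩, fun _ => ?_⟩
    rw [e2, show (⟨θ s, hy⟩ : P') = ⟨θ ⟨((⟨s, hs⟩ : Cfsg.FusionSystem.preimageAlong θ P') : G),
      hP hs⟩, hP' ⟨s, hs⟩⟩ from Subtype.ext (congrArg θ (Subtype.ext rfl)), hind ⟨s, hs⟩]
    exact hιθ _
  obtain ⟨x, hxN, hx⟩ := CfsgLib.FusionPStable.exists_mem_normalizer_zj hp hstL T
    (A := ι '' (P' : Set (S ⧸ R'))) (g := π ⟨g, hgN⟩)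
    (by rintro _ ⟨y, -, rfl⟩; exact (hT _).mpr ⟨y, rfl⟩)
    (by rintro _ ⟨y, hy, rfl⟩; exact (hact y hy).1)
  obtain ⟨⟨n, hn⟩, rfl⟩ := QuotientGroup.mk'_surjective K x
  have hxT : P' ⊔ Zb ≤ ((T : Subgroup (↥N ⧸ K)).comap
      (MulAut.conj (π ⟨n, hn⟩)).toMonoidHom).comap ι := by
    refine sup_le (fun y hy => ?_) fun y hy => hZT ((mem_normalizer_iff.mp hxN _).mp hy)
    show π ⟨n, hn⟩ * ι y * (π ⟨n, hn⟩)⁻¹ ∈ (T : Subgroup (↥N ⧸ K))
    rw [hx _ ⟨y, hy, rfl⟩]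
    exact (hact y hy).1
  let e := MonoidHom.ofInjective hι
  let c : ↥(P' ⊔ Zb) →* ↥ι.range :=
    (((MulAut.conj (π ⟨n, hn⟩)).toMonoidHom.comp ι).comp (P' ⊔ Zb).subtype).codRestrict ι.range
      fun y => (hT _).mp (hxT y.2)
  let ψ : ↥(P' ⊔ Zb) →* S ⧸ R' := e.symm.toMonoidHom.comp c
  have hψ : ∀ y : ↥(P' ⊔ Zb),
      ι (ψ y) = π ⟨n, hn⟩ * ι (y : S ⧸ R') * (π ⟨n, hn⟩)⁻¹ := fun y => by
    show ι (e.symm (c y)) = _
    rw [← MonoidHom.ofInjective_apply hι, e.apply_symm_apply]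
    rfl
  have hpre2 : Cfsg.FusionSystem.preimageAlong θ (P' ⊔ Zb) ≤ S := by
    rintro _ ⟨s, -, rfl⟩
    exact s.2
  have hnS : ∀ s : S, θ s ∈ P' ⊔ Zb → n * (s : G) * n⁻¹ ∈ S := by
    intro s hs
    obtain ⟨⟨t, htN⟩, ht, hte⟩ := hxT hs
    have h1 : (⟨t, htN⟩ : ↥N)⁻¹ * (⟨n, hn⟩ * Subgroup.inclusion hSN s * ⟨n, hn⟩⁻¹) ∈ K :=
      QuotientGroup.eq.mp hte
    have h2 : t⁻¹ * (n * (s : G) * n⁻¹) ∈ R := h1
    simpa using S.mul_mem ht (hRS h2)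
  refine ⟨ψ, (hE.2.2.2 _ ψ).mpr ⟨le_top,
    Cfsg.conjHom (Cfsg.FusionSystem.preimageAlong θ (P' ⊔ Zb)) n,
    ⟨hpre2, ?_, n, fun y => rfl⟩, hpre2, ?_, ?_, ?_⟩, ?_, ?_⟩
  · rintro ⟨_, s, hs, rfl⟩
    exact hnS s hs
  · rintro ⟨_, s, hs, rfl⟩
    exact hnS s hs
  · rintro ⟨_, s, hs, rfl⟩
    exact hs
  · rintro ⟨_, s, hs, rfl⟩
    apply hι
    rw [hψ, hιθ]
    rw [← map_inv, ← map_mul, ← map_mul]
    rfl
  · intro y
    apply hι
    rw [hψ]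
    exact (hx _ ⟨y, y.2, rfl⟩).trans ((hact y y.2).2 y.2).symm
  · have h1 : ∀ z, z ∈ (Zb.subgroupOf (P' ⊔ Zb)).map ψ ↔ ι z ∈ Z := by
      intro z
      constructor
      · rintro ⟨y, hy, rfl⟩
        rw [hψ]
        exact (mem_normalizer_iff.mp hxN _).mp hy
      · intro hz
        obtain ⟨w, hw⟩ := (hT _).mp (hZT ((mem_normalizer_iff''.mp hxN _).mp hz))
        have hwZ : w ∈ Zb := by
          show ι w ∈ Z
          rw [hw]
          exact (mem_normalizer_iff''.mp hxN _).mp hz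
        refine ⟨⟨w, mem_sup_right hwZ⟩, hwZ, hι ?_⟩
        rw [hψ, hw]
        simp only [hπ]
        group
    exact Subgroup.ext h1

/-- Let p be an odd prime, G a finite group in which Qd(p) (the natural semidirect product of an elementary abelian group of order p² by SL₂(p)) is not involved, and P a Sylow p-subgroup of G. Then the fusion system of G on P is a solvable fusion system. -/
theorem result {G : Type*} [Group G] [Finite G] {p : ℕ} [Fact p.Prime] (hp : p ≠ 2) (hqd : ¬ Cfsg.Involves ↥(Cfsg.qd p) G) (P : Sylow p G) : (Cfsg.groupFusionSystem (P : Subgroup G)).IsSolvableSystem := by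
  intro R hR hne hn E hE
  exact core_factor_ne_bot hp hqd P R hR hne E hE

end Cfsg.Agent.S5249
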