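import Cfsg.Statements.S5251
import Cfsg.Agent.FusionClosed.StronglyClosed
import Cfsg.Agent.FusionClosed.Stabilizer
import Cfsg.Agent.FusionPStable.Basic

set_option autoImplicit false
open Cfsg

namespace Cfsg.Agent.S5251

open Cfsg.FusionSystem CfsgLib.Fusion CfsgLib.FusionClosed CfsgLib.FusionPStable

variable {Ω : Type*} [Group Ω] {S : Subgroup Ω}

/-- The automizer of `P` acting trivially on `P ∩ T` and on `P/(P ∩ T)` lies in `O_p`. -/
theorem inCore_of_stab [Finite S] {p : ℕ} [Fact p.Prime] (hS : IsPGroup p S)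
    {F : FusionSystem S} {T P : Subgroup Ω} (hT : F.StronglyClosed T) (hP : P ≤ S)
    {α : MulAut P} (hα : α ∈ F.autGroup P) (h1 : ∀ y : P, (y : Ω) ∈ T → α y = y)
    (h2 : ∀ y : P, ((α y * y⁻¹ : P) : Ω) ∈ T) : InCore p (F.autGroup P) α := by
  have := finite_of_le hP
  let c : ℕ → Subgroup P := fun i => if i = 0 then ⊥ else if i = 1 then T.subgroupOf P else ⊤
  have hmono : Monotone c := monotone_nat_of_le_succ fun i => by
    rcases i with _ | _ | i <;> simp [c]
  have h0 : c 0 = ⊥ := rfl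
  let K : Subgroup (F.autGroup P) := (stab c 2 hmono h0).subgroupOf (F.autGroup P)
  have hK : ∀ g : F.autGroup P, g ∈ K ↔ StabSeries c 2 (g : MulAut P) := fun g => mem_stab hmono h0
  have hKp : IsPGroup p K := isPGroup_of_coprime_trivial fun g hg hco => by
    apply Subtype.ext
    ext x
    rw [← Subgroup.orderOf_coe] at hco
    exact congrArg Subtype.val
      (fix_of_stab (hS.to_le hP) h0 ((hK g).1 hg) hco 2 le_rfl x (Subgroup.mem_top x))
  have hKn : K.Normal := by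
    refine ⟨fun g hg a => (hK _).2 fun i hi x hx => ?_⟩
    have hinv : ∀ (j : ℕ) (b : F.autGroup P) (y : P), y ∈ c j → (b : MulAut P) y ∈ c j := by
      intro j b y hy
      rcases j with _ | _ | j
      · simp [c] at hy ⊢; rw [hy]
      · exact (aut_mem_stronglyClosed_iff hT hP b.2).2 hy
      · simp [c]
    have h3 := (hK g).1 hg i hi ((a : MulAut P)⁻¹ x) (hinv (i + 1) a⁻¹ x hx)
    have h4 := hinv i a _ h3
    simpa using h4
  refine ⟨⟨α, hα⟩, le_pCore hKn hKp ((hK _).2 fun i hi x hx => ?_), rfl⟩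
  rcases i with _ | _ | i
  · simp [c] at hx ⊢
    rw [mul_inv_eq_one]
    exact h1 x hx
  · simp [c, Subgroup.mem_subgroupOf]
    simpa using h2 x
  · omega

/-- Let F be a saturated fusion system over a finite p-group S, E a normal subsystem of F over T, and P an F-centric subgroup of S such that P ∩ T is not E-centric. Then some F-conjugate P* of P satisfies Out_S(P*) ∩ O_p(Out_F(P*)) ≠ 1: there is an element of N_S(P*) outside P* whose conjugation action on P* lies in O_p(Aut_F(P*)). In particular P is not both centric and radical in F. -/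
theorem result {Ω : Type*} [Group Ω] {S : Subgroup Ω} [Finite S] (p : ℕ) [Fact p.Prime] (hS : IsPGroup p S) (F : Cfsg.FusionSystem S) (hF : F.IsSaturated p) {T : Subgroup Ω} (E : Cfsg.FusionSystem T) (hE : E.IsNormalIn F p) (P : Subgroup Ω) (hP : F.IsCentric P) (hPT : ¬ E.IsCentric (P ⊓ T)) : (∃ φ ∈ F.Hom P, ∃ x ∈ S ⊓ Subgroup.normalizer (φ.range : Set Ω), x ∉ φ.range ∧ ∃ α ∈ ((Cfsg.pCore p ↥(F.autGroup φ.range)).map (F.autGroup φ.range).subtype : Subgroup (MulAut ↥φ.range)), ∀ y : ↥φ.range, ((α y : ↥φ.range) : Ω) = x * (y : Ω) * x⁻¹) ∧ ¬ F.IsRadical p P := by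
  have hT : F.StronglyClosed T := hE.1.2.2.2.1
  have hsub : E.IsSubsystemOf F := hE.1.2.2.1
  have hPS : P ≤ S := hP.1
  obtain ⟨R, ⟨η, hη, hηR⟩, hR⟩ :
      ∃ R, E.IsConj (P ⊓ T) R ∧ ¬ centralizerIn T R ≤ R := by
    by_contra hcon
    push Not at hcon
    exact hPT ⟨inf_le_right, hcon⟩
  have hQR : F.IsConj (P ⊓ T) R := ⟨η, hsub _ hη, hηR⟩
  obtain ⟨Q, hQ, hQn⟩ := exists_fullyNormalized (F := F) (inf_le_left.trans hPS : P ⊓ T ≤ S)
  obtain ⟨hQa, hQr⟩ := automized_receptive hS hF hQn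
  obtain ⟨φ₀, hφ₀, -, hφ₀Q⟩ := exists_map_normalizerIn hS hQa hQr hQ
  have hPN : P ≤ normalizerIn S (P ⊓ T) := by
    refine fun x hx => Subgroup.mem_inf.2 ⟨hPS hx, ?_⟩
    have h1 := Subgroup.le_normalizer hx
    have h2 := mem_normalizer_stronglyClosed hT (hPS hx)
    rw [Subgroup.mem_normalizer_iff] at h1 h2 ⊢
    intro y
    exact and_congr (h1 y) (h2 y)
  set φ := restrictHom φ₀ hPN with hφdef
  have hφ : φ ∈ F.Hom P := restrict_mem hφ₀ hPN
  have hP2 : φ.range ≤ S := range_le hφ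
  have hinter : φ.range ⊓ T = Q := by
    rw [imgHom_inf_stronglyClosed hT hφ, ← hφ₀Q]
    ext y
    exact ⟨fun ⟨x, hx, hxy⟩ => ⟨⟨x, hPN x.2⟩, hx, hxy⟩,
      fun ⟨x, hx, hxy⟩ => ⟨⟨x, hx.1⟩, hx, hxy⟩⟩
  have hCQ : ¬ centralizerIn T Q ≤ Q := by
    intro hle
    obtain ⟨e, he⟩ := isConj_iff.1 (isConj_trans (isConj_symm hQR) hQ)
    obtain ⟨ψ, hψ, hext⟩ := exists_extension (T := R ⊔ centralizerIn S R) hQr he
      (sup_le (le_extender he.le_left (F.le_of_mem he).2) (centralizerIn_le_extender _))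
    have himg := imgHom_eq_of_agree le_sup_left hext
    refine hR fun c hc => ?_
    obtain ⟨hcT, hcC⟩ := Subgroup.mem_inf.1 hc
    have hc' : c ∈ R ⊔ centralizerIn S R :=
      Subgroup.mem_sup_right (Subgroup.mem_inf.2 ⟨hT.1 hcT, hcC⟩)
    have h1 : ψ ⟨c, hc'⟩ ∈ centralizerIn T Q := by
      refine Subgroup.mem_inf.2 ⟨apply_mem_stronglyClosed hT hψ hcT, ?_⟩
      have := map_mem_centralizer (ψ := ψ) le_sup_left (g := ⟨c, hc'⟩) hcC
      rwa [himg] at this
    have h2 := hle h1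
    rw [← himg] at h2
    exact (mem_imgHom_apply_iff (F.injective_of_mem hψ)).1 h2
  obtain ⟨x, hxC, hxN, hxP⟩ : ∃ x ∈ centralizerIn T Q,
      x ∈ Subgroup.normalizer (φ.range : Set Ω) ∧ x ∉ φ.range := by
    have hnorm : φ.range ≤ Subgroup.normalizer (centralizerIn T Q : Set Ω) := by
      intro u hu
      have h1 := mem_normalizer_stronglyClosed hT (hP2 hu)
      have h2 : u ∈ Subgroup.normalizer (Q : Set Ω) := by
        rw [← hinter]
        have h3 := Subgroup.le_normalizer hu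
        rw [Subgroup.mem_normalizer_iff] at h1 h3 ⊢
        exact fun y => and_congr (h3 y) (h1 y)
      rw [Subgroup.mem_normalizer_iff] at h1 h2 ⊢
      intro y
      simp only [centralizerIn, Subgroup.mem_inf, Subgroup.mem_centralizer_iff]
      refine and_congr (h1 y) ⟨fun h z hz => ?_, fun h z hz => ?_⟩
      · have hz' : u⁻¹ * z * u ∈ Q := (h2 _).2 (by simpa [mul_assoc] using hz)
        calc z * (u * y * u⁻¹) = u * ((u⁻¹ * z * u) * y) * u⁻¹ := by group
          _ = u * (y * (u⁻¹ * z * u)) * u⁻¹ := by rw [h _ hz']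
          _ = u * y * u⁻¹ * z := by group
      · have h4 := h _ ((h2 z).1 hz)
        calc z * y = u⁻¹ * ((u * z * u⁻¹) * (u * y * u⁻¹)) * u := by group
          _ = u⁻¹ * ((u * y * u⁻¹) * (u * z * u⁻¹)) * u := by rw [h4]
          _ = y * z := by group
    set M := φ.range ⊔ centralizerIn T Q
    have hMS : M ≤ S := sup_le hP2 (inf_le_left.trans hT.1)
    have hfM := finite_of_le hMS
    have hlt : φ.range < M := lt_of_le_of_ne le_sup_left fun h => hCQ fun c hc => by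
      rw [← hinter]
      exact ⟨h.symm ▸ Subgroup.mem_sup_right hc, hc.1⟩
    obtain ⟨m, hm, hmP⟩ := SetLike.exists_of_lt (lt_normalizerIn (hS.to_le hMS) hlt)
    have hmM : m ∈ (M : Set Ω) := hm.1
    rw [Subgroup.coe_mul_of_left_le_normalizer_right _ _ hnorm] at hmM
    obtain ⟨u, hu, c, hc, rfl⟩ := hmM
    refine ⟨c, hc, ?_, fun hcP => hmP (mul_mem hu hcP)⟩
    simpa using mul_mem (inv_mem (Subgroup.le_normalizer hu)) hm.2
  have hxS : x ∈ S := hT.1 hxC.1
  set α : MulAut φ.range := φ.range.normalizerMonoidHom ⟨x, hxN⟩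
  have hα : α ∈ F.autGroup φ.range :=
    autInducedBy_le_autGroup hP2 (mem_autInducedBy_iff.2 ⟨x, hxS, hxN, fun _ => rfl⟩)
  have hcore : InCore p (F.autGroup φ.range) α := by
    refine inCore_of_stab hS hT hP2 hα (fun y hy => Subtype.ext ?_) fun y => ?_
    · have hyQ : (y : Ω) ∈ Q := hinter ▸ ⟨y.2, hy⟩
      show x * (y : Ω) * x⁻¹ = y
      rw [← Subgroup.mem_centralizer_iff.1 hxC.2 _ hyQ, mul_inv_cancel_right]
    · show x * (y : Ω) * x⁻¹ * (y : Ω)⁻¹ ∈ T
      have h1 : (y : Ω) * x⁻¹ * (y : Ω)⁻¹ ∈ T :=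
        conj_mem_stronglyClosed hT (hP2 y.2) (inv_mem hxC.1)
      simpa [mul_assoc] using mul_mem hxC.1 h1
  refine ⟨⟨φ, hφ, x, ⟨hxS, hxN⟩, hxP, α, hcore, fun y => rfl⟩, fun hrad => ?_⟩
  obtain ⟨e, he, -⟩ := exists_iso_range hφ
  have hP2c := isCentric_of_isConj hP he.isConj
  have h1 := hcore.congr e.symm (map_autGroup he.symm)
  rw [InCore, hrad.2] at h1
  obtain ⟨g, hg⟩ := h1
  have hkey : ∀ y : φ.range, (e g : Ω) * y * (e g : Ω)⁻¹ = x * y * x⁻¹ := by
    intro y
    have h2 := congrArg Subtype.val (congrArg e (DFunLike.congr_fun hg (e.symm y)))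
    simp only [MulAut.conj_apply, map_mul, map_inv, Subgroup.coe_mul, Subgroup.coe_inv,
      MulEquiv.apply_symm_apply, MulAut.congr_apply, MulEquiv.symm_symm,
      MulEquiv.trans_apply] at h2
    exact h2
  apply hxP
  have hc : x⁻¹ * (e g : Ω) ∈ centralizerIn S φ.range := by
    refine mem_centralizerIn'.2 ⟨mul_mem (inv_mem hxS) (hP2 (e g).2), fun y hy => ?_⟩
    calc x⁻¹ * (e g : Ω) * y * (x⁻¹ * (e g : Ω))⁻¹
        = x⁻¹ * ((e g : Ω) * y * (e g : Ω)⁻¹) * x := by group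
      _ = x⁻¹ * (x * y * x⁻¹) * x := by rw [hkey ⟨y, hy⟩]
      _ = y := by group
  have h3 := mul_mem (e g).2 (inv_mem (centralizerIn_le_of_centric hP2c hc))
  simpa using h3

end Cfsg.Agent.S5251
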