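import Cfsg.Statements.S5253
import Cfsg.Agent.WeakClosed.FunctorFixed
import Cfsg.Agent.ConjFunctor.Functor
import Cfsg.Agent.S1974

set_option autoImplicit false
universe u
open Cfsg

namespace Cfsg.Agent.S5253

/-- Let p be a prime and W a positive characteristic p-functor with Z(Q) ≤ W(Q): W assigns to every finite p-group Q (in a fixed universe) a subgroup W(Q), nontrivial when Q is, carried to W(R) by every isomorphism Q ≅ R, and containing the centre of Q. Suppose that for every finite group G with Sylow p-subgroup P in which W(P) is not normal there is g ∈ P outside O_p(G) with [Z(O_p(G)), g, g] = 1. Then for every saturated fusion system F over a finite p-group S and every normalizer fusion system N of W(S) in F, every p-th power of an element of Z(S) that lies in the centre of N lies in the centre of F. -/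
theorem result {p : ℕ} [Fact p.Prime] (W : ∀ (Q : Type u) [Group Q], Subgroup Q) (hW1 : ∀ (Q : Type u) [Group Q] [Finite Q], IsPGroup p Q → Nontrivial Q → W Q ≠ ⊥) (hW2 : ∀ (Q R : Type u) [Group Q] [Group R] [Finite Q], IsPGroup p Q → ∀ φ : Q ≃* R, (W Q).map φ.toMonoidHom = W R) (hWZ : ∀ (Q : Type u) [Group Q] [Finite Q], IsPGroup p Q → Subgroup.center Q ≤ W Q) (hq : ∀ (G : Type u) [Group G] [Finite G] (P : Sylow p G), ¬ (((W ↥(P : Subgroup G)).map (P : Subgroup G).subtype : Subgroup G)).Normal → ∃ g : G, g ∈ (P : Subgroup G) ∧ g ∉ Cfsg.pCore p G ∧ ⁅⁅Subgroup.center ↥(Cfsg.pCore p G) |>.map (Cfsg.pCore p G).subtype, Subgroup.zpowers g⁆, Subgroup.zpowers g⁆ = ⊥) {Ω : Type u} [Group Ω] {S : Subgroup Ω} [Finite S] (hS : IsPGroup p S) (F : Cfsg.FusionSystem S) (hF : F.IsSaturated p) (N : Cfsg.FusionSystem (Cfsg.FusionSystem.normalizerIn S ((W ↥S).map S.subtype))) (hN : F.IsNormalizerSystem ((W ↥S).map S.subtype) N) : Subgroup.closure ((fun z => z ^ p) '' ((S ⊓ Subgroup.centralizer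 (S : Set Ω) : Subgroup Ω) : Set Ω)) ⊓ N.center ≤ F.center := by
  have hC : CfsgLib.FusionQd.IsoInvariant p W := hW2
  have hWc : Cfsg.IsCharPFunctor.{u} p W := ⟨hW1, hW2⟩
  have hWS : (W ↥S).map S.subtype ≤ S := Subgroup.map_subtype_le _
  haveI := CfsgLib.Fusion.finite_of_le
    (inf_le_left : Cfsg.FusionSystem.normalizerIn S ((W ↥S).map S.subtype) ≤ S)
  -- the local condition
  have hloc : CfsgLib.WeakClosed.RootCenterCondition p p W := by
    intro G _ _ P y hy hyO hcent _
    set Z := Subgroup.closure ((fun z : G => z ^ p) ''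
      (((P : Subgroup G) ⊓ Subgroup.centralizer ((P : Subgroup G) : Set G) : Subgroup G) : Set G))
      with hZ
    have key := Cfsg.Agent.S1974.result P (Cfsg.inducedFunctor W)
      (CfsgLib.ConjFunctor.isConjugacyFunctor_induced hWc) (fun R hR x hx => ?_)
      (fun H T h1 h2 h3 hn => ?_) Z hZ
    · rw [Subgroup.mem_center_iff]
      intro g
      have hmem : g * y ^ p * g⁻¹ ∈ (P : Subgroup G) :=
        CfsgLib.PLocal.pCore_le_sylow P ((inferInstance : (Cfsg.pCore p G).Normal).conj_mem _ hyO g)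
      have h := key.1 (y ^ p) ⟨Subgroup.subset_closure ⟨y, hy, rfl⟩,
        Subgroup.mem_centralizer_iff.2 fun n hn =>
          Subgroup.mem_centralizer_singleton_iff.1 (hcent hn)⟩ g hmem
      exact mul_inv_eq_iff_eq_mul.1 h
    · exact ⟨⟨x, hx.1⟩, hWZ R hR (Subgroup.mem_center_iff.2 fun r =>
        Subtype.ext (Subgroup.mem_centralizer_iff.1 hx.2 r r.2)), rfl⟩
    · have hsyl := CfsgLib.ConjFunctor.isSylowIn_subgroupOf (G := G) ⟨h1, h2, h3⟩
      let TH : Sylow p H := hsyl.toSylowTop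
      have hmap : (T.subgroupOf H).map H.subtype = T := Subgroup.map_subgroupOf_eq_of_le h1
      have hTH : (TH : Subgroup H) = T.subgroupOf H := rfl
      have hnn : ¬ ((W ↥(TH : Subgroup H)).map (TH : Subgroup H).subtype : Subgroup H).Normal := by
        intro hnn
        refine hn fun h hh => ?_
        have e : Cfsg.inducedFunctor (G := G) W T =
            ((W ↥(TH : Subgroup H)).map (TH : Subgroup H).subtype).map H.subtype := by
          conv_lhs => rw [← hmap]
          rw [CfsgLib.ConjFunctor.inducedFunctor_map hWc H.subtype hsyl.2.1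
            H.subtype_injective.injOn]
          rfl
        rw [Subgroup.mem_normalizer_iff_map_conj_eq, e]
        ext z
        constructor
        · rintro ⟨_, ⟨a, ha, rfl⟩, rfl⟩
          exact ⟨⟨h, hh⟩ * a * ⟨h, hh⟩⁻¹, hnn.conj_mem a ha _, rfl⟩
        · rintro ⟨a, ha, rfl⟩
          refine ⟨_, ⟨⟨h, hh⟩⁻¹ * a * ⟨h, hh⟩, by simpa using hnn.conj_mem a ha (⟨h, hh⟩ : H)⁻¹,
            rfl⟩, ?_⟩
          show h * ((⟨h, hh⟩⁻¹ * a * ⟨h, hh⟩ : H) : G) * h⁻¹ = a
          simp [mul_assoc]
      obtain ⟨g, hgT, hgO, hg⟩ := hq H TH hnn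
      refine ⟨g, hgT, fun ⟨q, hqO, hqg⟩ => hgO (Subtype.ext hqg ▸ hqO), ?_⟩
      have hle : Cfsg.pCoreOf p H ⊓
          Subgroup.centralizer ((Cfsg.pCoreOf p H : Subgroup G) : Set G) ≤
          ((Subgroup.center ↥(Cfsg.pCore p H)).map (Cfsg.pCore p H).subtype).map H.subtype := by
        rintro z ⟨⟨q, hqO, rfl⟩, hzc⟩
        exact ⟨q, ⟨⟨q, hqO⟩, Subgroup.mem_center_iff.2 fun r => Subtype.ext (Subtype.ext
          (Subgroup.mem_centralizer_iff.1 hzc _ ⟨r, r.2, rfl⟩)), rfl⟩, rfl⟩
      refine le_bot_iff.1 ((Subgroup.commutator_mono (Subgroup.commutator_mono hle le_rfl)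
        le_rfl).trans ?_)
      rw [show Subgroup.zpowers (g : G) = (Subgroup.zpowers g).map H.subtype from
        (MonoidHom.map_zpowers H.subtype g).symm, ← Subgroup.map_commutator, ← Subgroup.map_commutator,
        hg, Subgroup.map_bot]
  rintro x ⟨hx1, hx2⟩
  haveI : Finite ↥(Cfsg.FusionSystem.normalizerIn S ((W ↥S).map S.subtype)) :=
    CfsgLib.Fusion.finite_of_le (inf_le_left : _ ≤ S)
  have hroot : ∃ y ∈ CfsgLib.FusionThompson.zIn S, y ^ p = x := by
    clear hx2
    induction hx1 using Subgroup.closure_induction with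
    | mem z hz => exact hz
    | one => exact ⟨1, one_mem _, one_pow _⟩
    | mul a b _ _ iha ihb =>
      obtain ⟨y, hy, rfl⟩ := iha
      obtain ⟨z, hz, rfl⟩ := ihb
      exact ⟨y * z, mul_mem hy hz,
        (show Commute y z from (Subgroup.mem_centralizer_iff.mp hy.2 z hz.1).symm).mul_pow p⟩
    | inv a _ iha =>
      obtain ⟨y, hy, rfl⟩ := iha
      exact ⟨y⁻¹, inv_mem hy, inv_pow y p⟩
  have hxS : x ∈ S := by
    obtain ⟨y, hy, rfl⟩ := hroot
    exact pow_mem hy.1 p
  refine CfsgLib.WeakClosed.mem_center_of_fixes hS hF hxS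
    (CfsgLib.WeakClosed.fixes_of_root hC hWZ hloc hS hF hroot fun α hα y hy => ?_)
  exact CfsgLib.WeakClosed.fixes_of_mem_center hx2 _ _
    ((hN _).symm ▸ CfsgLib.WeakClosed.aut_mem_normalizerHom hWS hα) y hy

end Cfsg.Agent.S5253
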