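import Cfsg.Statements.S5254
import Cfsg.Agent.FusionClosed.AbelianIndexConvert

set_option autoImplicit false
open Cfsg Cfsg.FusionSystem CfsgLib.Fusion CfsgLib.FusionClosed

namespace Cfsg.Agent.S5254

/-- Let p be an odd prime, S a finite nonabelian p-group with a unique abelian subgroup A of index p, and F a saturated fusion system over S. Then every F-essential subgroup P is A, or Z(S)⟨x⟩ for some x ∈ S outside A, or (when the second centre Z₂(S) lies in A) Z₂(S)⟨x⟩ for some x ∈ S outside A; and P has index p in its normalizer in S. -/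
theorem result {Ω : Type*} [Group Ω] {S : Subgroup Ω} [Finite S] (p : ℕ) [Fact p.Prime] (hS : IsPGroup p S) (F : Cfsg.FusionSystem S) (hF : F.IsSaturated p) (hp : p ≠ 2) (hna : ¬ IsMulCommutative ↥S) (A : Subgroup Ω) (hA : A ≤ S ∧ IsMulCommutative ↥A ∧ (A.subgroupOf S).index = p) (huniq : ∀ B : Subgroup Ω, B ≤ S → IsMulCommutative ↥B → (B.subgroupOf S).index = p → B = A) (P : Subgroup Ω) (hP : F.IsEssential p P) : (P = A ∨ (∃ x ∈ S, x ∉ A ∧ P = (S ⊓ Subgroup.centralizer (S : Set Ω)) ⊔ Subgroup.zpowers x) ∨ (((upperCentralSeries ↥S 2).map S.subtype) ≤ A ∧ ∃ x ∈ S, x ∉ A ∧ P = ((upperCentralSeries ↥S 2).map S.subtype) ⊔ Subgroup.zpowers x)) ∧ (P.subgroupOf (S ⊓ Subgroup.normalizer (P : Set Ω))).index = p := by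
  have h : AIdx S A p := ⟨hA.1, hA.2.1, hA.2.2, huniq, hna, hS⟩
  rw [inf_centralizer_eq_zS]
  change (P = A ∨ _ ∨ (z2S S ≤ A ∧ ∃ x ∈ S, x ∉ A ∧ P = z2S S ⊔ Subgroup.zpowers x)) ∧
    P.relIndex (normalizerIn S P) = p
  by_cases hPA : P = A
  · refine ⟨Or.inl hPA, ?_⟩
    subst hPA
    rw [normalizerIn_eq_of_relIndex hS h.le h.index]
    exact h.index
  obtain ⟨hz2, -, hidx, x, hxP, hxA, hcase⟩ := h.essential_main hF hP hPA
  have hi := h.relIndex_inter hP.1.1 hxP hxA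
  refine ⟨Or.inr ?_, hidx⟩
  rcases hcase with ⟨-, hB⟩ | ⟨hB, -⟩
  · rw [hB] at hi
    exact Or.inl ⟨x, hP.1.1 hxP, hxA,
      (sup_zpowers_eq (hB ▸ inf_le_right) hi hxP fun e => hxA (h.zS_le e)).symm⟩
  · rw [hB] at hi
    exact Or.inr ⟨hz2, x, hP.1.1 hxP, hxA,
      (sup_zpowers_eq (hB ▸ inf_le_right) hi hxP fun e => hxA (hz2 e)).symm⟩

end Cfsg.Agent.S5254
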