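import Cfsg.Statements.S5255
import Cfsg.Agent.FusionFactor.Lift

set_option autoImplicit false
open Cfsg

namespace Cfsg.Agent.S5255

/-- Let F be a saturated fusion system over a finite p-group S and T a subgroup of S strongly closed in F. Then T·C_S(T) is strongly closed in F. -/
theorem result {Ω : Type*} [Group Ω] {S : Subgroup Ω} [Finite S] (p : ℕ) [Fact p.Prime] (hS : IsPGroup p S) (F : Cfsg.FusionSystem S) (hF : F.IsSaturated p) (T : Subgroup Ω) (hT : F.StronglyClosed T) : F.StronglyClosed (T ⊔ Cfsg.FusionSystem.centralizerIn S T) := by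
  set C := Cfsg.FusionSystem.centralizerIn S T with hC
  have hCS : C ≤ S := inf_le_left
  refine ⟨sup_le hT.1 hCS, fun R hR φ hφ x => ?_⟩
  obtain ⟨ψ, hψ, hψc⟩ := CfsgLib.FusionFactor.hasLift hS hF hT hφ
  have himg : CfsgLib.Fusion.imgHom ψ T = T := by
    ext y
    constructor
    · rintro ⟨z, hz, rfl⟩
      exact CfsgLib.FusionFactor.apply_mem_of_stronglyClosed hT hψ hz
    · intro hy
      obtain ⟨z, hz, hzy⟩ :=
        CfsgLib.FusionFactor.exists_eq_of_stronglyClosed F hT hψ le_sup_right hy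
      exact ⟨z, hz, hzy⟩
  have hx : (x : Ω) ∈ ((T ⊔ C : Subgroup Ω) : Set Ω) := hR x.2
  rw [Subgroup.coe_mul_of_right_le_normalizer_left T C
    (hCS.trans (CfsgLib.FusionFactor.le_normalizer_of_stronglyClosed hT))] at hx
  obtain ⟨t, ht, c, hc, htc⟩ := hx
  have hc' : c ∈ R ⊔ T := by
    rw [show c = t⁻¹ * (x : Ω) by rw [← htc]; group]
    exact mul_mem (inv_mem (Subgroup.mem_sup_right ht)) (Subgroup.mem_sup_left x.2)
  have h1 : ψ ⟨c, hc'⟩ ∈ C := by
    refine Subgroup.mem_inf.2 ⟨CfsgLib.Fusion.apply_mem hψ _, ?_⟩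
    have := CfsgLib.Fusion.map_mem_centralizer (ψ := ψ) (le_sup_right : T ≤ R ⊔ T) (g := ⟨c, hc'⟩)
      hc.2
    rwa [himg] at this
  have h2 : ψ ⟨t, Subgroup.mem_sup_right ht⟩ ∈ T :=
    CfsgLib.FusionFactor.apply_mem_of_stronglyClosed hT hψ ht
  have h3 : ψ (Subgroup.inclusion le_sup_left x) ∈ T ⊔ C := by
    rw [show Subgroup.inclusion le_sup_left x =
      (⟨t, Subgroup.mem_sup_right ht⟩ : ↥(R ⊔ T)) * ⟨c, hc'⟩ from Subtype.ext htc.symm, map_mul]
    exact mul_mem (Subgroup.mem_sup_left h2) (Subgroup.mem_sup_right h1)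
  have h4 := mul_mem h3 (inv_mem (Subgroup.mem_sup_left (T := C) (hψc x)))
  rwa [mul_inv_rev, inv_inv, mul_inv_cancel_left] at h4

end Cfsg.Agent.S5255
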