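import Cfsg.Statements.S5256
import Cfsg.Agent.FusionFactor.Lift
import Cfsg.Agent.FusionPStable.RadicalOvergroup

set_option autoImplicit false
open Cfsg

namespace Cfsg.Agent.S5256

open Cfsg.FusionSystem CfsgLib.Fusion

variable {Ω : Type*} [Group Ω] {S : Subgroup Ω} {Ω' : Type*} [Group Ω'] {S' : Subgroup Ω'}

/-- `ᾱ` is induced by `α` along `θ`. -/
def Ind (θ : S →* Ω') {P : Subgroup Ω} {P' : Subgroup Ω'} (α : MulAut P) (ᾱ : MulAut P') : Prop :=
  ∀ (x : P) (hx : (x : Ω) ∈ S) (hαx : ((α x : P) : Ω) ∈ S) (h' : θ ⟨x, hx⟩ ∈ P'),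
    ((ᾱ ⟨θ ⟨x, hx⟩, h'⟩ : P') : Ω') = θ ⟨(α x : P), hαx⟩

theorem Ind.pow {θ : S →* Ω'} {P : Subgroup Ω} {P' : Subgroup Ω'} (hP : P ≤ S)
    (hP' : ∀ x : P, θ ⟨x, hP x.2⟩ ∈ P') {α : MulAut P} {ᾱ : MulAut P'} (h : Ind θ α ᾱ) :
    ∀ k : ℕ, Ind θ (α ^ k) (ᾱ ^ k) := by
  intro k
  induction k with
  | zero => intro x hx hαx h'; rfl
  | succ k ih =>
    intro x hx hαx h'
    have h1 := h x hx (hP (α x).2) h'
    have h2 := ih (α x) (hP (α x).2) (hP ((α ^ k) (α x)).2) (hP' _)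
    simp only [pow_succ, MulAut.mul_apply]
    rw [show ᾱ ⟨θ ⟨x, hx⟩, h'⟩ = ⟨θ ⟨(α x : P), hP (α x).2⟩, hP' (α x)⟩ from Subtype.ext h1]
    exact h2

theorem hyperfocal_mem_of_aut {F : FusionSystem S} {p : ℕ} {P : Subgroup Ω} (hP : P ≤ S)
    {β : F.autGroup P} (hβ : (orderOf β).Coprime p) (x : P) :
    (x : Ω)⁻¹ * (((β : MulAut P) x : P) : Ω) ∈ F.hyperfocalSubgroup p :=
  Subgroup.subset_closure ⟨P, β, x, hP, Subgroup.subset_closure hβ, rfl⟩

/-- The pullback of the hyperfocal subgroup lies in the one of the factor system. -/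
theorem map_le [Finite S] {p : ℕ} [Fact p.Prime] (hS : IsPGroup p S) {F : FusionSystem S}
    (hF : F.IsSaturated p) {T : Subgroup Ω} (hT : F.StronglyClosed T) (θ : S →* Ω')
    (E : FusionSystem S') (hE : F.IsFactorSystem T θ E) :
    ((F.hyperfocalSubgroup p).subgroupOf S).map θ ≤ E.hyperfocalSubgroup p := by
  obtain ⟨⟨hmem, hmor⟩, -, -⟩ :=
    CfsgLib.FusionFactor.isSurjectiveMorphism_of_isFactorSystem hS hF hT hE
  suffices h : F.hyperfocalSubgroup p ≤ ((E.hyperfocalSubgroup p).comap θ).map S.subtype by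
    rintro _ ⟨z, hz, rfl⟩
    obtain ⟨w, hw, hwz⟩ := h hz
    exact (Subtype.ext hwz : w = z) ▸ hw
  refine (Subgroup.closure_le _).2 ?_
  rintro _ ⟨P, α, x, hP, hα, rfl⟩
  refine ⟨⟨_, mul_mem (inv_mem (hP x.2)) (hP ((α : MulAut P) x).2)⟩, ?_, rfl⟩
  rw [SetLike.mem_coe, Subgroup.mem_comap]
  induction hα using Subgroup.closure_induction generalizing x with
  | one =>
    convert one_mem (E.hyperfocalSubgroup p)
    convert map_one θ
    simp
  | mul a b _ _ ha hb =>
    have h1 := mul_mem (hb x) (ha ((b : MulAut P) x))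
    rw [← map_mul] at h1
    convert h1 using 2
    exact Subtype.ext (by simp [mul_assoc])
  | inv a _ ha =>
    have h1 := inv_mem (ha ((a : MulAut P)⁻¹ x))
    rw [← map_inv] at h1
    convert h1 using 2
    exact Subtype.ext (by simp)
  | mem α hα =>
    have hαI := (mem_autGroup_iff hP).1 α.2
    obtain ⟨φ', hφ', hPS, hφS, hP', hv⟩ := hmor P _ hαI
    have hfin := finite_of_le hP
    have hP'fin : Finite (imageAlong θ P) :=
      Finite.of_surjective (fun y : P => (⟨θ ⟨y, hP y.2⟩, hP' y⟩ : imageAlong θ P)) fun z => by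
        obtain ⟨w, hw, hwz⟩ := z.2
        exact ⟨⟨w, hw⟩, Subtype.ext hwz⟩
    have hS' : Finite S' := Finite.of_surjective (fun s : S => (⟨θ s, hmem s⟩ : S')) fun z => by
      obtain ⟨w, hw⟩ := (hE.2.2.1 ▸ z.2 : (z : Ω') ∈ θ.range)
      exact ⟨w, Subtype.ext hw⟩
    obtain ⟨ᾱ, hᾱ, hᾱv⟩ := CfsgLib.FusionPStable.exists_autGroup_of_range hφ' (by
      rintro _ ⟨⟨_, w, hw, rfl⟩, rfl⟩
      have h1 := hv ⟨w, hw⟩
      simp only [MonoidHom.coe_comp, MulEquiv.coe_toMonoidHom, Subgroup.coe_subtype,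
        Function.comp_apply] at h1
      rw [h1]
      exact hP' _)
    have hind : Ind θ (α : MulAut P) ᾱ := fun y hy hαy h' => (hᾱv _).trans (hv y)
    have hord : orderOf ᾱ ∣ orderOf (α : MulAut P) := orderOf_dvd_of_pow_eq_one (by
      refine MulEquiv.ext fun z => Subtype.ext ?_
      obtain ⟨z, w, hw, rfl⟩ := z
      have h1 := hind.pow hP hP' (orderOf (α : MulAut P)) ⟨w, hw⟩ w.2
      simp only [pow_orderOf_eq_one, MulAut.one_apply] at h1 ⊢
      exact h1 w.2 ⟨w, hw, rfl⟩)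
    have hcop : (orderOf (⟨ᾱ, hᾱ⟩ : E.autGroup (imageAlong θ P))).Coprime p := by
      rw [← Subgroup.orderOf_coe]
      exact (Subgroup.orderOf_coe α ▸ hα : (orderOf (α : MulAut P)).Coprime p).coprime_dvd_left hord
    have h2 := hyperfocal_mem_of_aut (F := E) (P := imageAlong θ P)
      (fun y hy => by obtain ⟨w, -, rfl⟩ := hy; exact hmem w) hcop ⟨θ ⟨x, hP x.2⟩, hP' x⟩
    rw [hind x (hP x.2) (hP ((α : MulAut P) x).2) (hP' x), ← map_inv, ← map_mul] at h2
    exact h2

/-- Automorphisms of the factor system of order prime to `p` lift. -/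
theorem le_map [Finite S] {p : ℕ} [Fact p.Prime] {F : FusionSystem S} {T : Subgroup Ω}
    (θ : S →* Ω') (E : FusionSystem S') (hE : F.IsFactorSystem T θ E) :
    E.hyperfocalSubgroup p ≤ ((F.hyperfocalSubgroup p).subgroupOf S).map θ := by
  obtain ⟨-, -, hrange, hHom⟩ := hE
  refine (Subgroup.closure_le _).2 ?_
  rintro _ ⟨P', ᾱ, y, hP', hα, rfl⟩
  rw [SetLike.mem_coe]
  induction hα using Subgroup.closure_induction generalizing y with
  | one => simp
  | mul a b _ _ ha hb =>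
    have h1 := mul_mem (hb y) (ha ((b : MulAut P') y))
    simpa [mul_assoc] using h1
  | inv a _ ha =>
    have h1 := inv_mem (ha ((a : MulAut P')⁻¹ y))
    simpa using h1
  | mem a ha =>
    obtain ⟨-, φ, hφ, hPS, hφS, hP'', hv⟩ :=
      (hHom P' _).1 ((mem_autGroup_iff hP').1 a.2)
    have hPre : preimageAlong θ P' ≤ S := le_left hφ
    obtain ⟨β, hβ, hβv⟩ := CfsgLib.FusionPStable.exists_autGroup_of_range hφ (by
      rintro _ ⟨z, rfl⟩
      refine CfsgLib.FusionFactor.mem_preimageAlong.2 ⟨hφS z, ?_⟩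
      rw [← hv z]
      exact ((a : MulAut P') _).2)
    have hind : Ind θ β (a : MulAut P') := by
      intro z hz hβz h'
      have h1 := hv z
      simp only [MonoidHom.coe_comp, MulEquiv.coe_toMonoidHom, Subgroup.coe_subtype,
        Function.comp_apply] at h1
      rw [h1]
      exact congrArg θ (Subtype.ext (hβv z).symm)
    have hfin : Finite (preimageAlong θ P') := finite_of_le hPre
    have : Finite (MulAut (preimageAlong θ P')) :=
      Finite.of_injective (fun α => (α : preimageAlong θ P' → preimageAlong θ P'))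
        DFunLike.coe_injective
    obtain ⟨e, m, hm, hord⟩ := Nat.exists_eq_pow_mul_and_not_dvd (orderOf_pos β).ne' p
      (Fact.out : p.Prime).ne_one
    have hco : (p ^ e).Coprime (orderOf (a : MulAut P')) := by
      rw [Subgroup.orderOf_coe]
      exact (ha : (orderOf a).Coprime p).symm.pow_left e
    obtain ⟨k, hk⟩ := exists_pow_eq_self_of_coprime hco
    have hβ'ord : (orderOf ((β ^ p ^ e) ^ k)).Coprime p := by
      refine Nat.Coprime.coprime_dvd_left ?_ ((Fact.out : p.Prime).coprime_iff_not_dvd.2 hm).symm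
      refine orderOf_dvd_of_pow_eq_one ?_
      rw [← pow_mul, ← pow_mul, mul_comm k m, ← mul_assoc, ← hord, pow_mul, pow_orderOf_eq_one,
        one_pow]
    have hind' : Ind θ ((β ^ p ^ e) ^ k) (a : MulAut P') := by
      have h1 := (hind.pow hPre hP'' (p ^ e)).pow hPre hP'' k
      rwa [hk] at h1
    obtain ⟨z, hz⟩ : ∃ z : S, θ z = y :=
      MonoidHom.mem_range.1 (hrange ▸ hP' y.2)
    have hzpre : (z : Ω) ∈ preimageAlong θ P' :=
      CfsgLib.FusionFactor.mem_preimageAlong.2 ⟨z.2, hz.symm ▸ y.2⟩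
    have h2 := hyperfocal_mem_of_aut (F := F) hPre
      (β := ⟨(β ^ p ^ e) ^ k, pow_mem (pow_mem hβ _) _⟩)
      (by rw [← Subgroup.orderOf_coe]; exact hβ'ord) ⟨z, hzpre⟩
    set w : preimageAlong θ P' := ((β ^ p ^ e) ^ k) ⟨z, hzpre⟩
    refine ⟨z⁻¹ * ⟨w, hPre w.2⟩, h2, ?_⟩
    have h3 := hind' ⟨z, hzpre⟩ z.2 (hPre w.2) (hz.symm ▸ y.2)
    rw [show (⟨θ ⟨(z : Ω), z.2⟩, _⟩ : P') = y from Subtype.ext hz] at h3
    rw [map_mul, map_inv, hz, ← h3]

/-- Let F be a saturated fusion system over a finite p-group S, T a subgroup of S strongly closed in F, and E a factor system F/T realised along a homomorphism θ of S with kernel T. Then the hyperfocal subgroup of E is the image under θ of the hyperfocal subgroup of F (hyp(F/T) = T·hyp(F)/T). -/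
theorem result {Ω : Type*} [Group Ω] {S : Subgroup Ω} [Finite S] (p : ℕ) [Fact p.Prime] (hS : IsPGroup p S) (F : Cfsg.FusionSystem S) (hF : F.IsSaturated p) (T : Subgroup Ω) (hT : F.StronglyClosed T) {Ω' : Type*} [Group Ω'] {S' : Subgroup Ω'} (θ : ↥S →* Ω') (E : Cfsg.FusionSystem S') (hE : F.IsFactorSystem T θ E) : E.hyperfocalSubgroup p = ((F.hyperfocalSubgroup p).subgroupOf S).map θ := by
  exact le_antisymm (le_map θ E hE) (map_le hS hF hT θ E hE)

end Cfsg.Agent.S5256
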