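import Cfsg.Statements.S5257
import Cfsg.Agent.FusionClosed.AbelianIndexConvert
import Cfsg.Agent.FusionClosed.AbelianIndexCore

set_option autoImplicit false
open Cfsg Cfsg.FusionSystem CfsgLib.Fusion CfsgLib.FusionClosed

namespace Cfsg.Agent.S5257

/-- Let p be an odd prime, S a finite nonabelian p-group with a unique abelian subgroup A of index p, and F a saturated fusion system over S having an F-essential subgroup other than A. Then the second centre Z₂(S) lies in A; Z(S) ∩ [S, S] has order p; Z(S)[S, S] has index p in A; Z(S) has index p in Z₂(S); and S/Z(S) has maximal nilpotency class (if S/Z(S) has order pᵐ with m ≥ 3 then the term of index m − 2 of the lower central series of S, counting S as index 0, is not contained in Z(S)). -/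
theorem result {Ω : Type*} [Group Ω] {S : Subgroup Ω} [Finite S] (p : ℕ) [Fact p.Prime] (hS : IsPGroup p S) (F : Cfsg.FusionSystem S) (hF : F.IsSaturated p) (hp : p ≠ 2) (hna : ¬ IsMulCommutative ↥S) (A : Subgroup Ω) (hA : A ≤ S ∧ IsMulCommutative ↥A ∧ (A.subgroupOf S).index = p) (huniq : ∀ B : Subgroup Ω, B ≤ S → IsMulCommutative ↥B → (B.subgroupOf S).index = p → B = A) (P : Subgroup Ω) (hP : F.IsEssential p P) (hPA : P ≠ A) : ((upperCentralSeries ↥S 2).map S.subtype) ≤ A ∧ Nat.card ↥((S ⊓ Subgroup.centralizer (S : Set Ω)) ⊓ ((commutator ↥S).map S.subtype)) = p ∧ (((S ⊓ Subgroup.centralizer (S : Set Ω)) ⊔ ((commutator ↥S).map S.subtype)).subgroupOf A).index = p ∧ (((S ⊓ Subgroup.centralizer (S : Set Ω))).subgroupOf ((upperCentralSeries ↥S 2).map S.subtype)).index = p ∧ ∀ m : ℕ, ((S ⊓ Subgroup.centralizer (S : Set Ω)).subgroupOf S).index = p ^ m → 3 ≤ m → ¬ Subgroup.lowerCentralSeries S (m - 2) ≤ (S ⊓ Subgroup.centralizer (S : Set Ω)) := by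
  have h : AIdx S A p := ⟨hA.1, hA.2.1, hA.2.2, huniq, hna, hS⟩
  rw [inf_centralizer_eq_zS, map_subtype_commutator_self]
  change z2S S ≤ A ∧ _ ∧ _ ∧ (zS S).relIndex (z2S S) = p ∧
    ∀ m : ℕ, (zS S).relIndex S = p ^ m → 3 ≤ m → _
  obtain ⟨hz2, hR, -, x, hxP, hxA, -⟩ := h.essential_main hF hP hPA
  have hx := hP.1.1 hxP
  have := finite_of_le (CfsgLib.FusionClosed.zS_le (S := S))
  have := finite_of_le h.le
  have hzpos : 0 < Nat.card (zS S) := Nat.card_pos
  refine ⟨hz2, hR, ?_, ?_, fun m hm hm3 => h.lowerCentralSeries_not_le hR hm3 hm⟩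
  · let _ := h.comm
    have hcomm := h.comm
    set Z' := (zS S).subgroupOf A with hZ'
    set R' := (⁅S, S⁆ : Subgroup Ω).subgroupOf A with hR'
    have hsup : (zS S ⊔ ⁅S, S⁆).subgroupOf A = Z' ⊔ R' :=
      Subgroup.subgroupOf_sup h.zS_le h.commutator_le_A
    rw [hsup]
    have hcardR : Nat.card R' = Nat.card (⁅S, S⁆ : Subgroup Ω) :=
      Nat.card_congr (Subgroup.subgroupOfEquivOfLe h.commutator_le_A).toEquiv
    have hindex : R'.index = Nat.card (zS S) := by
      have h1 := R'.card_mul_index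
      rw [h.card_eq, hcardR, mul_comm (Nat.card (zS S))] at h1
      exact Nat.eq_of_mul_eq_mul_left (hcardR ▸ Nat.card_pos) h1
    have : Finite Z' := inferInstance
    have hinter : Nat.card (Z' ⊓ R' : Subgroup A) = p := by
      rw [← hR]
      exact Nat.card_congr (Subgroup.subgroupOfEquivOfLe
        (inf_le_left.trans h.zS_le : zS S ⊓ ⁅S, S⁆ ≤ A)).toEquiv
    have : R'.Normal := ⟨fun n hn g => by rw [mul_comm' g n, mul_inv_cancel_right]; exact hn⟩
    have h2 : R'.relIndex (Z' ⊔ R') = R'.relIndex Z' := Subgroup.relIndex_sup_right Z' R'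
    have h3 := Subgroup.relIndex_mul_relIndex ⊥ (Z' ⊓ R') Z' bot_le inf_le_left
    rw [Subgroup.relIndex_bot_left, Subgroup.relIndex_bot_left, hinter,
      Subgroup.inf_relIndex_left, Nat.card_congr (Subgroup.subgroupOfEquivOfLe h.zS_le).toEquiv]
      at h3
    have h4 := Subgroup.relIndex_mul_index (le_sup_right : R' ≤ Z' ⊔ R')
    rw [h2, hindex, mul_comm, ← h3] at h4
    refine Nat.eq_of_mul_eq_mul_right ?_ h4
    refine Nat.pos_of_ne_zero fun e => ?_
    rw [e, mul_zero] at h3
    omega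
  · have h1 := h.card_preimage hx hxA (zS S)
    rw [← h.z2_inf_eq hx hxA, inf_eq_right.2 hz2, hR] at h1
    have h2 := Subgroup.relIndex_mul_relIndex ⊥ (zS S) (z2S S) bot_le fun z hz =>
      mem_z2S.2 ⟨CfsgLib.FusionClosed.zS_le hz, fun t ht => by
        rw [commutatorElement_eq_one_iff_mul_comm.2 ((mem_zS.1 hz).2 t ht).symm]
        exact one_mem _⟩
    rw [Subgroup.relIndex_bot_left, Subgroup.relIndex_bot_left, h1] at h2
    exact Nat.eq_of_mul_eq_mul_left hzpos h2

end Cfsg.Agent.S5257
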