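import Cfsg.Statements.S5265
import Cfsg.Agent.FusionClosed.CentreIndex

set_option autoImplicit false
open Cfsg Cfsg.FusionSystem CfsgLib.Fusion CfsgLib.FusionClosed

namespace Cfsg.Agent.S5265

/-- Let p be a prime, S a nontrivial finite p-group whose centre has index at most p², and F a saturated fusion system over S with no nontrivial normal subgroup and with hyperfocal subgroup equal to S. Then S is extraspecial of order p³; for odd p it has exponent p, and for p = 2 it is dihedral of order 8. -/
theorem result {Ω : Type*} [Group Ω] {S : Subgroup Ω} [Finite S] (p : ℕ) [Fact p.Prime] (hS : IsPGroup p ↥S) (F : Cfsg.FusionSystem S) (hF : F.IsSaturated p) (hS1 : S ≠ ⊥) (hcore : F.core = ⊥) (hhyp : F.hyperfocalSubgroup p = S) (hZ : (Subgroup.center ↥S).index ≤ p ^ 2) : Cfsg.IsExtraspecial p ↥S ∧ Nat.card S = p ^ 3 ∧ (p ≠ 2 → Monoid.exponent ↥S = p) ∧ (p = 2 → Nonempty (↥S ≃* DihedralGroup 4)) := by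
  have hp : p.Prime := Fact.out
  have hidx : (Subgroup.center S).index = p ^ 2 := by
    obtain ⟨k, hk⟩ := hS.index (Subgroup.center S)
    rw [hk] at hZ ⊢
    have hk2 : k ≤ 2 := (Nat.pow_le_pow_iff_right hp.one_lt).1 hZ
    by_contra hne
    have hab : IsMulCommutative S := by
      have hcard : Nat.card (S ⧸ Subgroup.center S) = p ^ k := by
        rw [← Subgroup.index_eq_card, hk]
      have hcyc : IsCyclic (S ⧸ Subgroup.center S) := by
        interval_cases k
        · have : Subsingleton (S ⧸ Subgroup.center S) :=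
            (Nat.card_eq_one_iff_unique.1 (by rw [hcard, pow_zero])).1
          exact isCyclic_of_subsingleton
        · exact isCyclic_of_prime_card (p := p) (by rw [hcard, pow_one])
        · exact absurd rfl hne
      exact ⟨⟨commutative_of_cyclic_center_quotient (QuotientGroup.mk' (Subgroup.center S))
        (QuotientGroup.ker_mk' _).le⟩⟩
    refine hS1 (le_bot_iff.1 (hcore ▸ le_sSup ?_))
    refine isNormal_of_invariant hS hF le_rfl (fun s hs x hx => S.mul_mem (S.mul_mem hs hx)
      (S.inv_mem hs)) (fun P hP => ?_) fun P hP α hα x _ => ?_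
    · refine le_trans (fun x hx => ?_) (centralizerIn_le_of_centric hP.1)
      exact mem_centralizerIn.2 ⟨hx, fun y hy =>
        congrArg Subtype.val (mul_comm' (⟨y, hP.1.1 hy⟩ : S) ⟨x, hx⟩)⟩
    · rcases hP with rfl | hP
      · exact (α x).2
      · exact hP.1.1 (α x).2
  have hfocal : F.focalSubgroup = S := le_antisymm
    ((Subgroup.closure_le _).2 fun y ⟨P, φ, x, hφ, hy⟩ =>
      hy ▸ S.mul_mem (S.inv_mem (le_left hφ x.2)) (apply_mem hφ x))
    (hhyp.ge.trans ((Subgroup.closure_le _).2 fun y ⟨P, α, x, hP, _, hy⟩ =>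
      Subgroup.subset_closure ⟨P, P.subtype.comp (α : MulAut P).toMonoidHom, x,
        (mem_autGroup_iff hP).1 α.2, hy⟩))
  obtain ⟨P, σ, g, d⟩ := exists_datum hS hF hS1 hidx hcore
  have hcommon : HasCommonFix F p ⊥ := by
    rcases eq_or_ne p 2 with rfl | hp2
    · have h := hasCommonFix_two hS hF hidx hcore hfocal d
      exact eq_bot_of_common hS hF hidx hcore h d ▸ h
    · have h := hasCommonFix_odd hp2 hS hF d
      exact eq_bot_of_common hS hF hidx hcore h d ▸ h
  obtain ⟨hcard, hcenter⟩ := card_eq_cube hS hF hidx d (hcommon P σ g d)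
  have hna : ¬ IsMulCommutative S := fun hab => by
    have h1 : Subgroup.center S = ⊤ := eq_top_iff.2 fun x _ =>
      Subgroup.mem_center_iff.2 fun y => mul_comm' y x
    rw [h1, Subgroup.index_top] at hidx
    exact (Nat.one_lt_pow two_ne_zero hp.one_lt).ne hidx
  obtain ⟨-, hcomm, hfr, -⟩ := CfsgLib.FusionEssential.center_of_card_cube hcard hna
  refine ⟨⟨⟨hS, hfr, hcomm⟩, hcenter⟩, hcard, fun hp2 => ?_, fun hp2 => ?_⟩
  · have hpow := pow_eq_one_of_data hp2 hS hF hidx hcore d hcommon
    rcases (Nat.dvd_prime hp).1 (Monoid.exponent_dvd_of_forall_pow_eq_one hpow) with h | h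
    · refine absurd ?_ hna
      have := Monoid.exp_eq_one_iff.1 h
      exact ⟨⟨fun a b => Subsingleton.elim _ _⟩⟩
    · exact h
  · subst hp2
    exact dihedral_of_two hS hF hidx hcore d hcommon

end Cfsg.Agent.S5265
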