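import Cfsg.Statements.S5269
import Cfsg.Agent.MaxClassEssential.GlueUniserial
import Cfsg.Agent.MaxClassEssential.GlueIndexP
import Cfsg.Agent.MaxClassEssential.GlueTerms
-- import your own Cfsg.Agent.* helpers here

set_option autoImplicit false
open Cfsg

namespace Cfsg.Agent.S5269

/-- Let p ≥ 5 be a prime, S a finite p-group of maximal class of order p^n with n ≥ 4, F a saturated fusion system over S, and E an F-essential subgroup that is normal in S. Then E has index p in S; moreover E is the two-step centralizer Γ₁ = C_S([S,S]/γ₄(S)) or E = C_S(Z₂(S)), unless S has order p^4 and E is extraspecial of order p³ and exponent p. -/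
theorem result {Ω : Type*} [Group Ω] {S : Subgroup Ω} [Finite S] (p : ℕ) [Fact p.Prime] (hS : IsPGroup p ↥S) (n : ℕ) (hn : Nat.card S = p ^ n) (h4 : 4 ≤ n) (hmax : Subgroup.lowerCentralSeries S (n - 2) ≠ ⊥) (F : Cfsg.FusionSystem S) (hF : F.IsSaturated p) (hp : 5 ≤ p) (Γ₁ : Subgroup Ω) (hΓ₁ : ∀ x : Ω, x ∈ Γ₁ ↔ x ∈ S ∧ ∀ y ∈ Subgroup.lowerCentralSeries S 1, x * y * x⁻¹ * y⁻¹ ∈ Subgroup.lowerCentralSeries S 3) (E : Subgroup Ω) (hE : F.IsEssential p E) (hEn : (E.subgroupOf S).Normal) : (E.subgroupOf S).index = p ∧ (E = Γ₁ ∨ E = (S ⊓ Subgroup.centralizer (((Subgroup.upperCentralSeries ↥S 2).map S.subtype) : Set Ω)) ∨ (n = 4 ∧ Nat.card ↥E = p ^ 3 ∧ Cfsg.IsExtraspecial p ↥E ∧ Monoid.exponent ↥E = p)) := by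
  have h := CfsgLib.PMaxClass.MaxClass.of_lower (Fact.out : p.Prime) hn hmax
  have hES : E ≤ S := hE.1.1
  have := h.finite
  haveI := hEn
  obtain ⟨k, hk⟩ := hS.index (E.subgroupOf S)
  have hk2 : k ≤ 1 := by
    by_contra hlt
    exact CfsgLib.MaxClassEssential.false_of_index hp hS h h4 hF hE hEn
      (hk ▸ Nat.pow_le_pow_right (Fact.out : p.Prime).pos (by omega))
  have hidx : (E.subgroupOf S).index = p := by
    rcases Nat.le_one_iff_eq_zero_or_eq_one.1 hk2 with rfl | rfl
    · exfalso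
      obtain ⟨g, hg⟩ := CfsgLib.FusionRankTwo.exists_normalizer_not_mem hS hF hE
      rw [pow_zero, Subgroup.index_eq_one, Subgroup.subgroupOf_eq_top] at hk
      exact hg (hk g.2.1)
    · rw [hk, pow_one]
  refine ⟨hidx, ?_⟩
  have hmap : E = (E.subgroupOf S).map S.subtype := (Subgroup.map_subgroupOf_eq_of_le hES).symm
  rcases CfsgLib.MaxClassEssential.layerCentralizer_or_of_index hp hS h h4 hE hEn hidx with
    e | e | e
  · exact Or.inl (by rw [hmap, e, CfsgLib.MaxClassEssential.gamma_one_eq h h4 hΓ₁])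
  · exact Or.inr (Or.inl (by rw [hmap, e, CfsgLib.MaxClassEssential.centralizer_two_eq]))
  · exact Or.inr (Or.inr e)

end Cfsg.Agent.S5269
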