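import Cfsg.Statements.S5270
import Cfsg.Agent.PMaxClass.Basic
import Cfsg.Agent.FusionEssential.Criterion
import Cfsg.Agent.FusionPStable.RadicalOvergroup

set_option autoImplicit false
open Cfsg

namespace Cfsg.Agent.S5270

/-- Let p ≥ 5 be a prime, S a finite p-group of maximal class of order p^n with n ≥ 4, and F a saturated fusion system over S. If some map of F defined on the second centre Z₂(S) with image Z₂(S) does not carry Z(S) into itself, then the centralizer C_S(Z₂(S)) is an F-essential subgroup. -/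
theorem result {Ω : Type*} [Group Ω] {S : Subgroup Ω} [Finite S] (p : ℕ) [Fact p.Prime] (hS : IsPGroup p ↥S) (n : ℕ) (hn : Nat.card S = p ^ n) (h4 : 4 ≤ n) (hmax : Subgroup.lowerCentralSeries S (n - 2) ≠ ⊥) (F : Cfsg.FusionSystem S) (hF : F.IsSaturated p) (hp : 5 ≤ p) (φ : ↥((Subgroup.upperCentralSeries ↥S 2).map S.subtype) →* Ω) (hφ : φ ∈ F.Hom ((Subgroup.upperCentralSeries ↥S 2).map S.subtype)) (hφZ : φ.range = ((Subgroup.upperCentralSeries ↥S 2).map S.subtype)) (hmove : ∃ (z : Ω) (hz : z ∈ ((Subgroup.upperCentralSeries ↥S 2).map S.subtype)), z ∈ ((Subgroup.center ↥S).map S.subtype) ∧ φ ⟨z, hz⟩ ∉ ((Subgroup.center ↥S).map S.subtype)) : F.IsEssential p (S ⊓ Subgroup.centralizer (((Subgroup.upperCentralSeries ↥S 2).map S.subtype) : Set Ω)) := by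
  have hM := CfsgLib.PMaxClass.MaxClass.of_lower (Fact.out : p.Prime) hn hmax
  obtain ⟨hidx, hZC⟩ := hM.index_centralizer_two h4
  revert φ
  set Z₂ : Subgroup Ω := (Subgroup.upperCentralSeries ↥S 2).map S.subtype with hZ₂
  intro φ hφ hφZ hmove
  set C : Subgroup Ω := S ⊓ Subgroup.centralizer (Z₂ : Set Ω) with hC
  have hZ₂S : Z₂ ≤ S := Subgroup.map_subtype_le _
  have hCS : C ≤ S := inf_le_left
  have hmemC : ∀ x : ↥S, (x : Ω) ∈ C ↔
      x ∈ Subgroup.centralizer (Subgroup.upperCentralSeries ↥S 2 : Set ↥S) := by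
    intro x
    simp only [hC, Subgroup.mem_inf, x.2, true_and, Subgroup.mem_centralizer_iff]
    constructor
    · intro h y hy
      exact Subtype.ext (h y ⟨y, hy, rfl⟩)
    · rintro h _ ⟨y, hy, rfl⟩
      exact congrArg Subtype.val (h y hy)
  have hCsub : C.subgroupOf S =
      Subgroup.centralizer (Subgroup.upperCentralSeries ↥S 2 : Set ↥S) := by
    ext x
    exact hmemC x
  have hZ₂C : Z₂ ≤ C := by
    rintro _ ⟨y, hy, rfl⟩
    exact (hmemC y).2 (hZC hy)
  have hU : (Subgroup.upperCentralSeries ↥S 2).Normal := inferInstance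
  have hnZ : S ≤ Subgroup.normalizer (Z₂ : Set Ω) := fun g hg => by
    have h1 := Subgroup.le_normalizer_map (H := Subgroup.upperCentralSeries ↥S 2) S.subtype
    rw [Subgroup.normalizer_eq_top_iff.2 hU] at h1
    exact h1 ⟨⟨g, hg⟩, Subgroup.mem_top _, rfl⟩
  have hnC : S ≤ Subgroup.normalizer (C : Set Ω) := by
    intro g hg
    rw [Subgroup.mem_normalizer_iff]
    have h1 := Subgroup.mem_normalizer_iff.1 (Subgroup.le_normalizer (H := S) hg)
    have h2 : g ∈ Subgroup.normalizer (Z₂ : Set Ω) := hnZ hg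
    intro x
    rw [hC, Subgroup.mem_inf, Subgroup.mem_inf]
    refine and_congr (h1 x) ?_
    rw [Subgroup.mem_centralizer_iff, Subgroup.mem_centralizer_iff]
    rw [Subgroup.mem_normalizer_iff] at h2
    constructor
    · intro h z hz
      have hz' : g⁻¹ * z * g ∈ Z₂ := (h2 _).2 (by simpa [mul_assoc] using hz)
      calc z * (g * x * g⁻¹) = g * ((g⁻¹ * z * g) * x) * g⁻¹ := by group
        _ = g * (x * (g⁻¹ * z * g)) * g⁻¹ := by rw [h _ hz']
        _ = g * x * g⁻¹ * z := by group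
    · intro h z hz
      have h4 := h _ ((h2 z).1 hz)
      calc z * x = g⁻¹ * ((g * z * g⁻¹) * (g * x * g⁻¹)) * g := by group
        _ = g⁻¹ * ((g * x * g⁻¹) * (g * z * g⁻¹)) * g := by rw [h4]
        _ = x * z := by group
  have hfn : ∀ P : Subgroup Ω, P ≤ S → S ≤ Subgroup.normalizer (P : Set Ω) →
      F.IsFullyNormalized P := fun P hP hN => ⟨hP, fun Q hQ => by
    rw [Cfsg.FusionSystem.normalizerIn, Cfsg.FusionSystem.normalizerIn, inf_eq_left.2 hN]
    exact Nat.card_le_card_of_injective _ (Subgroup.inclusion_injective inf_le_left)⟩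
  have hCn := hfn C hCS hnC
  have hcc : Cfsg.FusionSystem.centralizerIn S C ≤ C := fun x hx =>
    Subgroup.mem_inf.2 ⟨hx.1, Subgroup.centralizer_le hZ₂C hx.2⟩
  have hCc : F.IsCentric C := CfsgLib.Fusion.isCentric_of_fullyCentralized hS hF
    (CfsgLib.Fusion.fullyCentralized_of_normalized hS hF hCn) hcc
  obtain ⟨e, he, hev⟩ := CfsgLib.Fusion.exists_iso hφ hφZ
  have hr := (CfsgLib.Fusion.automized_receptive hS hF (hfn Z₂ hZ₂S hnZ)).2
  obtain ⟨ψ, hψ, hext⟩ := CfsgLib.Fusion.exists_extension (T := C) hr he fun g hg =>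
    CfsgLib.Fusion.centralizerIn_le_extender _ hg
  have himg := CfsgLib.Fusion.imgHom_eq_of_agree hZ₂C hext
  obtain ⟨β, hβ, hβv⟩ := CfsgLib.FusionPStable.exists_autGroup_of_range hψ (by
    rintro _ ⟨x, rfl⟩
    refine Subgroup.mem_inf.2 ⟨CfsgLib.Fusion.apply_mem hψ x, ?_⟩
    have := CfsgLib.Fusion.map_mem_centralizer (ψ := ψ) hZ₂C (g := x) x.2.2
    rwa [himg] at this)
  obtain ⟨z, hz, ⟨zS, hzc, hzeq⟩, hzmove⟩ := hmove
  have hφS : φ ⟨z, hz⟩ ∈ S := CfsgLib.Fusion.apply_mem hφ _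
  obtain ⟨s, hs⟩ : ∃ s : ↥S, s * ⟨φ ⟨z, hz⟩, hφS⟩ ≠ ⟨φ ⟨z, hz⟩, hφS⟩ * s := by
    by_contra hall
    push Not at hall
    exact hzmove ⟨_, Subgroup.mem_center_iff.2 hall, rfl⟩
  refine CfsgLib.FusionEssential.isEssential_of_index_prime hS hF hCc hCn ?_ (inv_mem hβ)
    (CfsgLib.Fusion.mem_autInducedBy_iff.2 ⟨(s : Ω), s.2, hnC s.2,
      fun _ => (rfl : (C.normalizerMonoidHom ⟨(s : Ω), hnC s.2⟩ _ : Ω) = _)⟩) ?_
  · rw [Cfsg.FusionSystem.normalizerIn, inf_eq_left.2 hnC]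
    rw [Subgroup.relIndex, hCsub]; exact hidx
  · intro hmem
    obtain ⟨t, htS, -, ht⟩ := CfsgLib.Fusion.mem_autInducedBy_iff.1 hmem
    set zC : ↥C := ⟨z, hZ₂C hz⟩ with hzC
    have hfix : t * z * t⁻¹ = z := by
      have h1 := congrArg Subtype.val (Subgroup.mem_center_iff.1 hzc ⟨t, htS⟩)
      simp only [Subgroup.coe_mul, Subgroup.coe_subtype] at h1 hzeq
      rw [hzeq] at h1
      rw [h1, mul_inv_cancel_right]
    have hβz : ((β zC : ↥C) : Ω) = φ ⟨z, hz⟩ :=
      ((hβv zC).trans (hext ⟨z, hz⟩ (hZ₂C hz))).trans (hev ⟨z, hz⟩)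
    have h2 : (β⁻¹ * C.normalizerMonoidHom ⟨(s : Ω), hnC s.2⟩ * β⁻¹⁻¹) zC = zC :=
      Subtype.ext ((ht zC).trans hfix)
    rw [inv_inv, MulAut.mul_apply, MulAut.mul_apply] at h2
    have h3 := congrArg β h2
    rw [MulAut.apply_inv_self] at h3
    have h4 := congrArg Subtype.val h3
    change (s : Ω) * (β zC : Ω) * (s : Ω)⁻¹ = (β zC : Ω) at h4
    rw [hβz, mul_inv_eq_iff_eq_mul] at h4
    exact hs (Subtype.ext h4)

end Cfsg.Agent.S5270
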