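import Cfsg.Statements.S5271
import Cfsg.Agent.FusionWeakEmb.Criterion

set_option autoImplicit false
open Cfsg

namespace Cfsg.Agent.S5271

open Cfsg.FusionSystem CfsgLib.Fusion CfsgLib.FusionFactor CfsgLib.FusionWeakEmb

universe u

/-- The criterion, by induction on the order of `S`. -/
theorem aux (n : ℕ) : ∀ {Ω : Type u} [Group Ω] {S : Subgroup Ω} [Finite S] {p : ℕ} [Fact p.Prime],
    IsPGroup p S → ∀ (F : FusionSystem S), F.IsSaturated p → Nat.card S = n →
    ∀ d k : ℕ, d = p ^ k → 1 < d → d < Nat.card S → Embedded F d → InnerAt F d →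
      ∀ P : Subgroup Ω, F.Hom P = (innerFusionSystem S).Hom P := by
  induction n using Nat.strong_induction_on with
  | _ n ih =>
  intro Ω _ S _ p _ hS F hF hn d k hdk hd1 hdS he hi P₀
  have hp := (Fact.out : p.Prime)
  have hrec : ∀ V : Subgroup Ω, F.StronglyClosed V → V ≠ ⊥ → Nat.card V < d →
      ∀ (P : Subgroup Ω) (φ : P →* Ω), φ ∈ F.Hom P →
        ∃ g ∈ S, ∀ x : P, (g * (x : Ω) * g⁻¹)⁻¹ * φ x ∈ V := by
    intro V hV hV1 hVd P φ hφ
    haveI := finite_of_le hV.1
    haveI := normal_subgroupOf_of_stronglyClosed hV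
    obtain ⟨E, hE⟩ := exists_factorSystem_quotient F V hV
    have hEs := isSaturated_factor hS hF hV hE
    obtain ⟨i, hi'⟩ := IsPGroup.iff_card.1 (hS.to_le hV.1)
    have hik : i < k := (Nat.pow_lt_pow_iff_right hp.one_lt).1 (by rw [← hi', ← hdk]; exact hVd)
    have hdd : d = Nat.card V * p ^ (k - i) := by
      rw [hi', ← pow_add, Nat.add_sub_cancel' hik.le, hdk]
    have hcardS : Nat.card S = Nat.card V * Nat.card (⊤ : Subgroup (S ⧸ V.subgroupOf S)) := by
      rw [Subgroup.card_top, Subgroup.card_eq_card_quotient_mul_card_subgroup (V.subgroupOf S),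
        Nat.card_congr (Subgroup.subgroupOfEquivOfLe hV.1).toEquiv, mul_comm]
    have hlt : Nat.card (⊤ : Subgroup (S ⧸ V.subgroupOf S)) < n := by
      rw [← hn, hcardS]
      exact lt_mul_of_one_lt_left Nat.card_pos ((Subgroup.one_lt_card_iff_ne_bot V).2 hV1)
    obtain ⟨he', hi''⟩ := factor_hypotheses hS hF hV hE hdd he hi
    have hinner := ih _ hlt (p := p) ((hS.to_quotient _).to_subgroup ⊤) E hEs rfl (p ^ (k - i))
      (k - i) rfl (Nat.one_lt_pow (by omega) hp.one_lt)
      (by
        refine lt_of_mul_lt_mul_left ?_ (Nat.zero_le (Nat.card V))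
        rw [← hdd, ← hcardS]
        exact hdS) he' hi''
    obtain ⟨φ', hφ', hPS, hval, hP', hind⟩ :=
      (isSurjectiveMorphism_of_isFactorSystem hS hF hV hE).1.2 P φ hφ
    rw [hinner] at hφ'
    obtain ⟨-, g, -, hgx⟩ := hφ'
    obtain ⟨s, rfl⟩ := QuotientGroup.mk'_surjective _ g
    refine ⟨s, s.2, fun x => ?_⟩
    have h := hind x
    rw [hgx] at h
    refine (hE.2.1 ((s * ⟨x, hPS x.2⟩ * s⁻¹)⁻¹ * ⟨φ x, hval x⟩)).1 ?_
    rw [map_mul, map_inv, map_mul, map_mul, map_inv, inv_mul_eq_one]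
    exact h
  by_cases hsmall : ∃ V : Subgroup Ω, F.StronglyClosed V ∧ V ≠ ⊥ ∧ Nat.card V < d
  · obtain ⟨V, hV, hV1, hVd⟩ := hsmall
    obtain ⟨W, hW, hW1, hWV, hmin⟩ := exists_minimal hV hV1
    haveI := finite_of_le hV.1
    exact inner_of_small hS hF hdk hd1 hdS he hi hrec hW hW1
      (lt_of_le_of_lt (Subgroup.card_le_of_le hWV) hVd) hmin P₀
  · push Not at hsmall
    exact inner_of_large hS hF hdk hd1 hdS he hi hsmall P₀

/-- A nilpotency criterion for fusion systems. Let F be a saturated fusion system over a finite p-group S of order at least p². Call a subgroup Q of S weakly embedded in F when there is a subgroup P of S strongly closed in F such that both the product QP and the intersection Q ∩ P are strongly closed in F. Then F is the inner fusion system of S if and only if there is a subgroup D of S with 1 < D < S such that every subgroup of S of the same order as D is weakly embedded in F and, for every fully normalized subgroup H of S of that order, the normalizer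 fusion system of H in F is the inner fusion system of N_S(H). -/
theorem result {Ω : Type*} [Group Ω] {S : Subgroup Ω} [Finite S] (p : ℕ) [Fact p.Prime] (hS : IsPGroup p ↥S) (F : Cfsg.FusionSystem S) (hF : F.IsSaturated p) (hcard : p ^ 2 ≤ Nat.card S) : (∀ P : Subgroup Ω, F.Hom P = (Cfsg.innerFusionSystem S).Hom P) ↔ ∃ D : Subgroup Ω, ⊥ < D ∧ D < S ∧ (∀ Q : Subgroup Ω, Q ≤ S → Nat.card ↥Q = Nat.card ↥D → ∃ P : Subgroup Ω, F.StronglyClosed P ∧ F.StronglyClosed (Q ⊔ P) ∧ F.StronglyClosed (Q ⊓ P)) ∧ (∀ H : Subgroup Ω, F.IsFullyNormalized H → Nat.card ↥H = Nat.card ↥D → ∀ N : Cfsg.FusionSystem (Cfsg.FusionSystem.normalizerIn S H), F.IsNormalizerSystem H N → ∀ P : Subgroup Ω, N.Hom P = (Cfsg.innerFusionSystem (Cfsg.FusionSystem.normalizerIn S H)).Hom P) := by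
  have hp := (Fact.out : p.Prime)
  obtain ⟨j, hj⟩ := IsPGroup.iff_card.1 hS
  constructor
  · intro h
    have hj2 : 2 ≤ j := (Nat.pow_le_pow_iff_right hp.one_lt).1 (hj ▸ hcard)
    haveI := hS.isNilpotent
    obtain ⟨D, -, hDS, hDn, hDc⟩ := exists_normal_of_card (p := p) hS le_rfl bot_le
      (by rw [Subgroup.bot_subgroupOf]; infer_instance)
      (by rw [Subgroup.subgroupOf_self]; infer_instance) (k := j - 1)
      (by rw [Subgroup.card_bot]; exact Nat.one_le_pow _ _ hp.pos)
      (hj ▸ Nat.pow_le_pow_right hp.pos (Nat.sub_le j 1))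
    -- subgroups of index `p` are normal, so strongly closed
    have hnormal : ∀ Q : Subgroup Ω, Q ≤ S → Nat.card Q = Nat.card D →
        (Q.subgroupOf S).Normal := by
      intro Q hQ hQc
      refine Subgroup.normal_of_index_eq_minFac_card ?_
      rw [hj, hp.pow_minFac (by omega)]
      have h1 := (Q.subgroupOf S).card_mul_index
      rw [Nat.card_congr (Subgroup.subgroupOfEquivOfLe hQ).toEquiv, hQc, hDc, hj] at h1
      refine Nat.eq_of_mul_eq_mul_left (pow_pos hp.pos (j - 1)) ?_
      rw [h1, ← pow_succ, Nat.sub_add_cancel (by omega)]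
    have hclosed : ∀ Q : Subgroup Ω, Q ≤ S → (Q.subgroupOf S).Normal → F.StronglyClosed Q := by
      intro Q hQ hn
      refine ⟨hQ, fun R hR φ hφ x => ?_⟩
      rw [h R] at hφ
      obtain ⟨-, g, hg, hgx⟩ := hφ
      rw [hgx]
      exact hn.conj_mem ⟨x, hQ (hR x.2)⟩ (hR x.2) ⟨g, hg⟩
    refine ⟨D, ?_, ?_, fun Q hQ hQc => ⟨⊥, hclosed ⊥ bot_le (by
        rw [Subgroup.bot_subgroupOf]; infer_instance), ?_, ?_⟩, ?_⟩
    · refine bot_lt_iff_ne_bot.2 fun e => ?_
      rw [e, Subgroup.card_bot] at hDc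
      exact (Nat.one_lt_pow (by omega) hp.one_lt).ne hDc
    · refine lt_of_le_of_ne hDS fun e => ?_
      rw [e, hj] at hDc
      have := Nat.pow_right_injective hp.two_le hDc
      omega
    · rw [sup_bot_eq]
      exact hclosed Q hQ (hnormal Q hQ hQc)
    · rw [inf_bot_eq]
      exact hclosed ⊥ bot_le (by rw [Subgroup.bot_subgroupOf]; infer_instance)
    · intro H hH hHc N hN P
      have hn := normalizerIn_eq_of_normal hH.1 (hnormal H hH.1 hHc)
      refine Set.ext fun φ => ⟨fun hφ => ?_, ?_⟩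
      · rw [hN P] at hφ
        obtain ⟨h1, h2, -, -⟩ := hφ
        rw [h P] at h1
        obtain ⟨-, g, hg, hgx⟩ := h1
        exact ⟨h2, g, hn.ge hg, hgx⟩
      · rintro ⟨hP, g, hg, hgx⟩
        exact mem_congr (N.conj_mem hP hg) hgx
  · rintro ⟨D, hD1, hDS, he, hi⟩
    haveI := finite_of_le hDS.le
    obtain ⟨k, hk⟩ := IsPGroup.iff_card.1 (hS.to_le hDS.le)
    exact aux _ hS F hF rfl _ k hk ((Subgroup.one_lt_card_iff_ne_bot D).2 hD1.ne')
      (card_lt_of_lt hDS le_rfl) he hi

end Cfsg.Agent.S5271
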