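import Cfsg.Statements.S5274
import Cfsg.Agent.Fusion.NormalSubgroup
import Cfsg.Agent.Fusion.Saturation
import Cfsg.Agent.FusionFactor.Construct
import Cfsg.Agent.FusionFactor.ImageSaturated
import Cfsg.Agent.FusionFactor.Lift

set_option autoImplicit false
open Cfsg

namespace Cfsg.Agent.S5274

open Cfsg.FusionSystem CfsgLib.Fusion CfsgLib.FusionFactor

/-- An element conjugate in `S` to its inverse and in the system to a central element has order
at most `2`. -/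
theorem sq_eq_one_of_inverted {Ω : Type*} [Group Ω] {S : Subgroup Ω} [Finite S]
    (hS : IsPGroup 2 S) {F : FusionSystem S} (hF : F.IsSaturated 2) {w z s : Ω}
    (hs : s ∈ S) (hz : z ∈ S ⊓ Subgroup.centralizer (S : Set Ω)) (hwz : F.IsConjElt w z)
    (hsw : s * w * s⁻¹ = w⁻¹) : w * w = 1 := by
  obtain ⟨φ, hφ, hφw⟩ := hwz
  obtain ⟨e, he, hev⟩ := exists_iso_range hφ
  obtain ⟨Q, hQ⟩ : ∃ Q, Q = φ.range := ⟨_, rfl⟩
  have hQS : Q ≤ S := hQ ▸ range_le hφ
  haveI := finite_of_le hQS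
  have hQc : ∀ y : Q, ∀ g ∈ S, g * (y : Ω) * g⁻¹ = y := by
    intro y g hg
    obtain ⟨⟨x, hx⟩, hxy⟩ := (hQ ▸ y.2 : (y : Ω) ∈ φ.range)
    obtain ⟨n, rfl⟩ := Subgroup.mem_zpowers_iff.1 hx
    have h1 : (y : Ω) = z ^ n := by
      rw [← hxy, ← hφw, ← map_zpow]
      exact congrArg φ (Subtype.ext (by simp))
    have h2 : Commute g z := Subgroup.mem_centralizer_iff.1 hz.2 g hg
    rw [h1, (h2.zpow_right n).eq, mul_inv_cancel_right]
  have hfn : F.IsFullyNormalized Q := by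
    refine ⟨hQS, fun R _ => ?_⟩
    have h1 : normalizerIn S Q = S := le_antisymm (normalizerIn_le S Q) fun g hg =>
      ⟨hg, Subgroup.mem_normalizer_iff.2 fun y => ⟨fun hy => by
        rw [hQc ⟨y, hy⟩ g hg]; exact hy, fun hy => by
        have h := hQc ⟨_, hy⟩ g⁻¹ (S.inv_mem hg)
        simp only [inv_inv] at h
        rw [show g⁻¹ * (g * y * g⁻¹) * g = y by group] at h
        exact h ▸ hy⟩⟩
    rw [h1]
    exact Nat.card_le_card_of_injective _ (Subgroup.inclusion_injective (normalizerIn_le S R))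
  obtain ⟨⟨-, R, hR⟩, -⟩ := automized_receptive hS hF hfn
  have hRbot : (R : Subgroup (F.autGroup Q)) = ⊥ := by
    rw [hR, Subgroup.subgroupOf_eq_bot]
    refine Disjoint.mono_left ?_ disjoint_bot_left
    intro β hβ
    obtain ⟨g, hg, -, hgy⟩ := mem_autInducedBy_iff.1 hβ
    exact Subgroup.mem_bot.2 (MulEquiv.ext fun y => Subtype.ext ((hgy y).trans (hQc y g hg)))
  -- conjugation by `s`, transported to `Q`
  have hsP : ∀ x : Subgroup.zpowers w, s * (x : Ω) * s⁻¹ ∈ Subgroup.zpowers w := by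
    rintro ⟨x, hx⟩
    obtain ⟨n, rfl⟩ := Subgroup.mem_zpowers_iff.1 hx
    show s * w ^ n * s⁻¹ ∈ _
    rw [← conj_zpow, hsw]
    exact Subgroup.zpow_mem _ (Subgroup.inv_mem _ (Subgroup.mem_zpowers w)) n
  let c : Subgroup.zpowers w ≃* Subgroup.zpowers w :=
    { toFun := fun x => ⟨s * x * s⁻¹, hsP x⟩
      invFun := fun x => ⟨s⁻¹ * x * s, by
        obtain ⟨n, hn⟩ := Subgroup.mem_zpowers_iff.1 x.2
        have hsw' : s⁻¹ * w * s = w⁻¹ := by
          have := congrArg (fun y : Ω => s⁻¹ * y⁻¹ * s) hsw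
          simpa [mul_assoc] using this.symm
        rw [← hn, show s⁻¹ * w ^ n * s = (s⁻¹ * w * s⁻¹⁻¹) ^ n by rw [conj_zpow, inv_inv],
          inv_inv, hsw']
        exact Subgroup.zpow_mem _ (Subgroup.inv_mem _ (Subgroup.mem_zpowers w)) n⟩
      left_inv := fun x => Subtype.ext (by simp [mul_assoc])
      right_inv := fun x => Subtype.ext (by simp [mul_assoc])
      map_mul' := fun x y => Subtype.ext (by simp [mul_assoc]) }
  have hw : Subgroup.zpowers w ≤ S := le_left hφ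
  have hc : IsIso F c := conj_mem' hw hs fun x => rfl
  obtain ⟨γ, hγ⟩ : ∃ γ, γ = MulAut.congr e c := ⟨_, rfl⟩
  subst hQ
  have hγF : γ ∈ F.autGroup φ.range :=
    hγ ▸ congr_mem_autGroup he ((mem_autGroup_iff hw).2 hc)
  obtain ⟨zQ, hzQ⟩ : ∃ zQ, zQ = e ⟨w, Subgroup.mem_zpowers w⟩ := ⟨_, rfl⟩
  have hinv : γ zQ = zQ⁻¹ := by
    rw [hγ, hzQ]
    show e (c (e.symm (e _))) = _
    rw [MulEquiv.symm_apply_apply, ← map_inv]
    exact congrArg e (Subtype.ext hsw)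
  let g : F.autGroup φ.range := ⟨γ, hγF⟩
  have hcop : ¬ 2 ∣ orderOf g := by
    intro h2
    have h3 := R.not_dvd_index
    rw [hRbot, Subgroup.index_bot] at h3
    exact h3 (h2.trans (orderOf_dvd_natCard g))
  have hstab : ∀ n : ℕ, (γ ^ n) zQ = if Even n then zQ else zQ⁻¹ := by
    intro n
    induction n with
    | zero => simp
    | succ n ih =>
      rw [pow_succ', MulAut.mul_apply, ih]
      by_cases h : Even n <;> simp [Nat.even_add_one, h, hinv]
  have h1 := hstab (orderOf g)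
  have h2 : γ ^ orderOf g = 1 := congrArg Subtype.val (pow_orderOf_eq_one g)
  rw [h2, if_neg (fun h => hcop (even_iff_two_dvd.1 h))] at h1
  have h4 : e (⟨w, Subgroup.mem_zpowers w⟩⁻¹) = e ⟨w, Subgroup.mem_zpowers w⟩ := by
    rw [map_inv, ← hzQ]
    exact h1.symm
  have h5 : w⁻¹ = w := congrArg Subtype.val (e.injective h4)
  nth_rw 1 [← h5]
  exact inv_mul_cancel w

theorem aux (n : ℕ) : ∀ {Ω : Type*} [Group Ω] {S : Subgroup Ω} [Finite S],
    IsPGroup 2 ↥S → ∀ (F : Cfsg.FusionSystem S), F.IsSaturated 2 → Nat.card S = n →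
    (∀ x ∈ S, ∃ z ∈ S ⊓ Subgroup.centralizer (S : Set Ω), F.IsConjElt x z) →
    ∀ a ∈ S, ∀ b ∈ S, a * b = b * a := by
  induction n using Nat.strong_induction_on with
  | _ n ih =>
  intro Ω _ S _ hS F hF hn h
  haveI : Fact (Nat.Prime 2) := ⟨Nat.prime_two⟩
  -- involutions commute
  have hinv2 : ∀ a ∈ S, ∀ b ∈ S, a * a = 1 → b * b = 1 → a * b = b * a := by
    intro a ha b hb haa hbb
    obtain ⟨z, hz, hwz⟩ := h (a * b) (S.mul_mem ha hb)
    have ha' : a⁻¹ = a := inv_eq_of_mul_eq_one_right haa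
    have hb' : b⁻¹ = b := inv_eq_of_mul_eq_one_right hbb
    have h1 := sq_eq_one_of_inverted hS hF ha hz hwz (by
      rw [mul_inv_rev, ha', hb', ← mul_assoc, haa, one_mul])
    rw [← inv_eq_of_mul_eq_one_right h1, mul_inv_rev, ha', hb']
  let T : Subgroup Ω :=
    { carrier := {x | x ∈ S ∧ x * x = 1}
      one_mem' := ⟨S.one_mem, one_mul 1⟩
      mul_mem' := fun {a b} ha hb => ⟨S.mul_mem ha.1 hb.1, by
        have hc := hinv2 a ha.1 b hb.1 ha.2 hb.2
        calc a * b * (a * b) = a * (b * a) * b := by group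
          _ = a * (a * b) * b := by rw [hc]
          _ = a * a * (b * b) := by group
          _ = 1 := by rw [ha.2, hb.2, one_mul]⟩
      inv_mem' := fun {a} ha => ⟨S.inv_mem ha.1, by rw [← mul_inv_rev, ha.2, inv_one]⟩ }
  have hTs : F.StronglyClosed T := by
    refine ⟨fun x hx => hx.1, fun R hR φ hφ x => ⟨apply_mem hφ x, ?_⟩⟩
    rw [← map_mul, show x * x = 1 from Subtype.ext (hR x.2).2, map_one]
  by_cases hS1 : ∀ a ∈ S, a = 1
  · intro a ha b hb
    rw [hS1 a ha, hS1 b hb]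
  obtain ⟨t, htS, ht2, ht1⟩ : ∃ t ∈ S, t * t = 1 ∧ t ≠ 1 := by
    haveI : Nontrivial S := by
      obtain ⟨a, ha⟩ := not_forall.1 hS1
      obtain ⟨haS, ha⟩ := Classical.not_imp.1 ha
      exact ⟨⟨⟨a, haS⟩, 1, fun e => ha (congrArg Subtype.val e)⟩⟩
    obtain ⟨k, hk, hk'⟩ := hS.nontrivial_iff_card.1 inferInstance
    obtain ⟨t, ht⟩ := exists_prime_orderOf_dvd_card' (G := S) 2 (hk' ▸ dvd_pow_self 2 hk.ne')
    have h2 := pow_orderOf_eq_one t
    rw [ht, pow_two] at h2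
    exact ⟨t, t.2, congrArg Subtype.val h2, fun e => by
      rw [show t = 1 from Subtype.ext e, orderOf_one] at ht
      exact absurd ht (by norm_num)⟩
  haveI hTn : (T.subgroupOf S).Normal := ⟨fun x hx g =>
    conj_mem_of_stronglyClosed hTs g.2 hx⟩
  let θ : S →* S ⧸ T.subgroupOf S := QuotientGroup.mk' _
  have hker : ∀ s : S, θ s = 1 ↔ (s : Ω) ∈ T := fun s =>
    (QuotientGroup.eq_one_iff s).trans Subgroup.mem_subgroupOf
  have hrange : θ.range = ⊤ := MonoidHom.range_eq_top.2 (QuotientGroup.mk'_surjective _)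
  let E := factorSystem F T hTs θ hker ⊤ hrange
  have hE : F.IsFactorSystem T θ E := isFactorSystem_factorSystem F T hTs θ hker ⊤ hrange
  have hEs : E.IsSaturated 2 := isSaturated_factor hS hF hTs hE
  have hmor := isSurjectiveMorphism_of_isFactorSystem hS hF hTs hE
  have hS' : IsPGroup 2 (⊤ : Subgroup (S ⧸ T.subgroupOf S)) :=
    (hS.to_quotient _).to_subgroup ⊤
  have hlt : Nat.card (⊤ : Subgroup (S ⧸ T.subgroupOf S)) < n := by
    rw [Subgroup.card_top, ← hn, Subgroup.card_eq_card_quotient_mul_card_subgroup (T.subgroupOf S)]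
    refine lt_mul_of_one_lt_right Nat.card_pos (Finite.one_lt_card_iff_nontrivial.2 ?_)
    exact ⟨⟨⟨⟨t, htS⟩, htS, ht2⟩, 1, fun e =>
      ht1 (congrArg (fun y : T.subgroupOf S => ((y : S) : Ω)) e)⟩⟩
  have hab := ih _ hlt hS' E hEs rfl (by
    intro x _
    obtain ⟨s, rfl⟩ := QuotientGroup.mk'_surjective _ x
    obtain ⟨z, hz, φ, hφ, hφz⟩ := h s s.2
    obtain ⟨φ', hφ', hPS, hval, hP', hind⟩ := hmor.1.2 _ φ hφ
    refine ⟨θ ⟨z, hz.1⟩, ⟨Subgroup.mem_top _, ?_⟩, ?_⟩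
    · refine Subgroup.mem_centralizer_iff.2 ?_
      intro y _
      obtain ⟨u, rfl⟩ := QuotientGroup.mk'_surjective _ y
      show θ u * θ ⟨z, hz.1⟩ = θ ⟨z, hz.1⟩ * θ u
      rw [← map_mul, ← map_mul]
      exact congrArg θ (Subtype.ext (Subgroup.mem_centralizer_iff.1 hz.2 u u.2))
    · have hle : Subgroup.zpowers (θ s) ≤ imageAlong θ (Subgroup.zpowers (s : Ω)) :=
        Subgroup.zpowers_le.2 ⟨s, Subgroup.mem_zpowers (s : Ω), rfl⟩
      refine ⟨_, restrict_mem hφ' hle, ?_⟩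
      show φ' _ = _
      rw [show θ ⟨z, hz.1⟩ = θ ⟨φ ⟨s, Subgroup.mem_zpowers _⟩, hval _⟩ from
        congrArg θ (Subtype.ext hφz.symm)]
      exact hind ⟨s, Subgroup.mem_zpowers _⟩)
  -- the factor system is controlled by the automorphisms of its group
  have hEn : E.IsNormal ⊤ := by
    refine isNormal_of_abelian hS' hEs ⟨le_rfl, fun R _ φ _ x => Subgroup.mem_top _⟩
      ⟨⟨fun a b => Subtype.ext (hab a a.2 b b.2)⟩⟩
  -- `S = Z(S) T`
  have hdec : ∀ x ∈ S, ∃ c ∈ S ⊓ Subgroup.centralizer (S : Set Ω), ∃ u ∈ T, x = c * u := by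
    intro x hx
    obtain ⟨z, hz, φ, hφ, hφz⟩ := h x hx
    obtain ⟨φ', hφ', hPS, hval, hP', hind⟩ := hmor.1.2 _ φ hφ
    obtain ⟨ψ', hψ', hψ'ext, -⟩ := hEn.2 _ φ' hφ'
    obtain ⟨-, α, hα, hαS, hαv, hαP, hαind⟩ := (hE.2.2.2 _ ψ').1 hψ'
    have hSle : S ≤ preimageAlong θ (imageAlong θ (Subgroup.zpowers x) ⊔ ⊤) := fun y hy =>
      mem_preimageAlong.2 ⟨hy, le_sup_right (a := imageAlong θ _) (Subgroup.mem_top _)⟩
    have hαSe := restrict_mem hα hSle
    have hrS : (restrictHom α hSle).range = S := eq_S_of_isConj ⟨_, hαSe, rfl⟩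
    obtain ⟨a, ha, hav⟩ := exists_iso hαSe hrS
    have hθ : θ ⟨α ⟨x, hSle hx⟩, hαv _⟩ = θ ⟨z, hz.1⟩ := by
      rw [← hαind ⟨x, hSle hx⟩]
      refine (hψ'ext ⟨θ ⟨x, hx⟩, ⟨⟨x, hx⟩, Subgroup.mem_zpowers x, rfl⟩⟩).trans ?_
      rw [show θ ⟨z, hz.1⟩ = θ ⟨φ ⟨x, Subgroup.mem_zpowers _⟩, hval _⟩ from
        congrArg θ (Subtype.ext hφz.symm)]
      exact hind ⟨x, Subgroup.mem_zpowers _⟩
    have hu : (z : Ω)⁻¹ * α ⟨x, hSle hx⟩ ∈ T := by
      have h1 : θ ((⟨z, hz.1⟩ : S)⁻¹ * ⟨_, hαv ⟨x, hSle hx⟩⟩) = 1 := by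
        rw [map_mul, map_inv, hθ, inv_mul_cancel]
      exact (hker _).1 h1
    have hax : (a ⟨x, hx⟩ : Ω) = α ⟨x, hSle hx⟩ := hav ⟨x, hx⟩
    refine ⟨a.symm ⟨z, hz.1⟩, ⟨Subtype.mem _, ?_⟩,
      a.symm (⟨z, hz.1⟩⁻¹ * a ⟨x, hx⟩), ?_, ?_⟩
    · refine Subgroup.mem_centralizer_iff.2 ?_
      intro y hy
      have h1 : a ⟨y, hy⟩ * ⟨z, hz.1⟩ = ⟨z, hz.1⟩ * a ⟨y, hy⟩ :=
        Subtype.ext (Subgroup.mem_centralizer_iff.1 hz.2 _ (a ⟨y, hy⟩).2)
      have h2 := congrArg a.symm h1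
      rw [map_mul, map_mul, MulEquiv.symm_apply_apply] at h2
      exact congrArg Subtype.val h2
    · obtain ⟨hu1, hu2⟩ := hu
      have h3 : (⟨z, hz.1⟩⁻¹ * a ⟨x, hx⟩ : S) * (⟨z, hz.1⟩⁻¹ * a ⟨x, hx⟩) = 1 :=
        Subtype.ext (by simpa [hax] using hu2)
      refine ⟨Subtype.mem _, ?_⟩
      have h4 := congrArg a.symm h3
      rw [map_mul, map_one] at h4
      exact congrArg Subtype.val h4
    · have : (⟨x, hx⟩ : S) = a.symm ⟨z, hz.1⟩ * a.symm (⟨z, hz.1⟩⁻¹ * a ⟨x, hx⟩) := by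
        rw [← map_mul, mul_inv_cancel_left, MulEquiv.symm_apply_apply]
      exact congrArg Subtype.val this
  intro a ha b hb
  obtain ⟨c, hc, u, hu, rfl⟩ := hdec a ha
  obtain ⟨d, hd, v, hv, rfl⟩ := hdec b hb
  have h1 : Commute c (d * v) := (Subgroup.mem_centralizer_iff.1 hc.2 _ hb).symm
  have h2 : Commute u d := Subgroup.mem_centralizer_iff.1 hd.2 _ hu.1
  have h3 : Commute u v := hinv2 u hu.1 v hv.1 hu.2 hv.2
  exact (h1.mul_left (h2.mul_right h3)).eq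

/-- Let F be a saturated fusion system over a finite 2-group S. Suppose that every element of S is F-conjugate to an element of the centre Z(S) (some map of F defined on the cyclic subgroup it generates sends it into Z(S)). Then S is abelian. -/
theorem result {Ω : Type*} [Group Ω] {S : Subgroup Ω} [Finite S] (hS : IsPGroup 2 ↥S) (F : Cfsg.FusionSystem S) (hF : F.IsSaturated 2) (h : ∀ x ∈ S, ∃ z ∈ S ⊓ Subgroup.centralizer (S : Set Ω), F.IsConjElt x z) : IsMulCommutative ↥S :=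
  ⟨⟨fun a b => Subtype.ext (aux _ hS F hF rfl h a a.2 b b.2)⟩⟩

end Cfsg.Agent.S5274
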