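import Cfsg.Statements.S5275
import Cfsg.Agent.FusionAxThompson.Fusion
import Cfsg.Agent.PLocal.ZJTheorem

set_option autoImplicit false
open Cfsg

namespace Cfsg.Agent.S5275

/-- A Glauberman–Thompson nilpotency criterion for fusion systems relative to a strongly closed subgroup. Let p be an odd prime, F a saturated fusion system over a finite p-group S, and D a subgroup of S that is strongly closed in F. Let Z(J(D)) be the centre of the subgroup of D generated by the abelian subgroups of D of largest order. Then F is the inner fusion system of S if and only if the normalizer fusion system of Z(J(D)) in F is the inner fusion system of N_S(Z(J(D))) = S. -/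
theorem result {Ω : Type*} [Group Ω] {S : Subgroup Ω} [Finite S] (p : ℕ) [Fact p.Prime] (hS : IsPGroup p ↥S) (F : Cfsg.FusionSystem S) (hF : F.IsSaturated p) (hp : p ≠ 2) (D : Subgroup Ω) (hD : F.StronglyClosed D) : (∀ P : Subgroup Ω, F.Hom P = (Cfsg.innerFusionSystem S).Hom P) ↔ ∀ N : Cfsg.FusionSystem (Cfsg.FusionSystem.normalizerIn S (Cfsg.centerThompsonAOf D)), F.IsNormalizerSystem (Cfsg.centerThompsonAOf D) N → ∀ P : Subgroup Ω, N.Hom P = (Cfsg.innerFusionSystem (Cfsg.FusionSystem.normalizerIn S (Cfsg.centerThompsonAOf D))).Hom P := by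
  classical
  set D' := D.subgroupOf S with hD'
  have hDS : D ≤ S := hD.1
  set 𝒜' := CfsgLib.PLocal.maxIn (fun A : Subgroup ↥S => IsMulCommutative A) D' with h𝒜'
  set 𝒜 : Set (Subgroup Ω) := (fun A : Subgroup ↥S => A.map S.subtype) '' 𝒜' with h𝒜
  have hcl := CfsgLib.PLocal.isReplClass_isMulCommutative (G := ↥S)
  obtain ⟨A₀, hA₀⟩ := hcl.maxIn_nonempty D'
  have hSD : S ≤ Subgroup.normalizer (D : Set Ω) :=
    CfsgLib.FusionFactor.le_normalizer_of_stronglyClosed hD
  haveI hDn : D'.Normal := (Subgroup.normal_subgroupOf_iff_le_normalizer hDS).2 hSD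
  -- members are the abelian subgroups of largest order of `D`
  have hmem : ∀ A : Subgroup Ω, A ∈ 𝒜 ↔ A ≤ D ∧ IsMulCommutative ↥A ∧
      ∀ B : Subgroup Ω, B ≤ D → IsMulCommutative ↥B → Nat.card ↥B ≤ Nat.card ↥A := by
    intro A
    constructor
    · rintro ⟨A', ⟨h1, h2, h3⟩, rfl⟩
      refine ⟨?_, CfsgLib.PLocal.isMulCommutative_map h2 _, fun B hB hBc => ?_⟩
      · rintro _ ⟨y, hy, rfl⟩; exact h1 hy
      · rw [Subgroup.card_map_of_injective S.subtype_injective,
          ← Nat.card_congr (Subgroup.subgroupOfEquivOfLe (hB.trans hDS)).toEquiv]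
        exact h3 (B.subgroupOf S) (fun y hy => hB hy) ⟨⟨fun a b => Subtype.ext (Subtype.ext
          (CfsgLib.PLocal.comm_of_isMulCommutative hBc (Subgroup.mem_subgroupOf.1 a.2)
            (Subgroup.mem_subgroupOf.1 b.2)))⟩⟩
    · rintro ⟨h1, h2, h3⟩
      refine ⟨A.subgroupOf S, ⟨fun y hy => h1 hy, ⟨⟨fun a b => Subtype.ext (Subtype.ext
          (CfsgLib.PLocal.comm_of_isMulCommutative h2 (Subgroup.mem_subgroupOf.1 a.2)
            (Subgroup.mem_subgroupOf.1 b.2)))⟩⟩, fun B hB hBc => ?_⟩,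
          Subgroup.map_subgroupOf_eq_of_le (h1.trans hDS)⟩
      rw [Nat.card_congr (Subgroup.subgroupOfEquivOfLe (h1.trans hDS)).toEquiv,
        ← Subgroup.card_map_of_injective S.subtype_injective]
      exact h3 _ (by rintro _ ⟨y, hy, rfl⟩; exact hB hy) (CfsgLib.PLocal.isMulCommutative_map hBc _)
  have hI : CfsgLib.FusionAxThompson.iSub 𝒜 S = Cfsg.centerThompsonAOf D := by
    have e1 : Cfsg.centerThompsonAOf D = (sInf 𝒜').map S.subtype := by
      rw [h𝒜', ← CfsgLib.PLocal.centerThompsonAOf_eq_sInf,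
        CfsgLib.PLocal.map_centerThompsonAOf S.subtype_injective,
        Subgroup.map_subgroupOf_eq_of_le hDS]
    rw [e1]
    ext x
    constructor
    · intro hx
      obtain ⟨y, -, hyx⟩ := Subgroup.mem_sInf.1 hx (A₀.map S.subtype)
        ⟨⟨A₀, hA₀, rfl⟩, Subgroup.map_subtype_le _⟩
      subst hyx
      refine ⟨y, Subgroup.mem_sInf.2 fun A' hA' => ?_, rfl⟩
      obtain ⟨z, hz, hzy⟩ := Subgroup.mem_sInf.1 hx (A'.map S.subtype)
        ⟨⟨A', hA', rfl⟩, Subgroup.map_subtype_le _⟩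
      rwa [← S.subtype_injective hzy]
    · rintro ⟨y, hy, rfl⟩
      exact Subgroup.mem_sInf.2 fun A ⟨⟨A', hA', e⟩, _⟩ =>
        e ▸ Subgroup.mem_map_of_mem _ (Subgroup.mem_sInf.1 hy A' hA')
  have hfam : CfsgLib.FusionAxThompson.IsSystemFamily F 𝒜 := by
    refine ⟨fun A hA => ((hmem A).1 hA).1.trans hDS, fun A hA => ((hmem A).1 hA).2.1,
      ⟨_, A₀, hA₀, rfl⟩, fun Q hQ hex α hα x hx => ?_, fun B hB hSB hc hex => ?_⟩
    · refine Subgroup.mem_sInf.2 fun A ⟨hA, hAQ⟩ => ?_
      obtain ⟨h1, h2, h3⟩ := (hmem A).1 hA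
      have hαi := (CfsgLib.Fusion.mem_autGroup_iff hQ).1 (inv_mem hα)
      set A₁ : Subgroup Ω := CfsgLib.Fusion.imgHom (Q.subtype.comp (α⁻¹ : MulAut ↥Q).toMonoidHom) A
        with hA₁
      have hA₁Q : A₁ ≤ Q := by rintro _ ⟨y, -, rfl⟩; exact ((α⁻¹ : MulAut ↥Q) y).2
      have hA₁mem : A₁ ∈ 𝒜 := by
        refine (hmem A₁).2 ⟨?_, ?_, fun B hB hBc => ?_⟩
        · rintro _ ⟨y, hy, rfl⟩
          exact CfsgLib.FusionFactor.apply_mem_of_stronglyClosed hD hαi (h1 hy)
        · exact CfsgLib.PLocal.isMulCommutative_map ⟨⟨fun a b => Subtype.ext (Subtype.ext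
            (CfsgLib.PLocal.comm_of_isMulCommutative h2 (Subgroup.mem_subgroupOf.1 a.2)
              (Subgroup.mem_subgroupOf.1 b.2)))⟩⟩ _
        · rw [CfsgLib.Fusion.card_imgHom (F.injective_of_mem hαi) hAQ]
          exact h3 B hB hBc
      obtain ⟨y, hy, hyx⟩ := CfsgLib.Fusion.mem_imgHom.1 (Subgroup.mem_sInf.1 hx A₁ ⟨hA₁mem, hA₁Q⟩)
      have hxy : α x = y := by
        have : ((α⁻¹ : MulAut ↥Q) y) = x := Subtype.ext hyx
        rw [← this]
        exact α.apply_symm_apply y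
      rw [hxy]
      exact hy
    · obtain ⟨A, ⟨A', hA', rfl⟩, hBA, hnle⟩ := hex
      set B' := B.subgroupOf S with hB'
      have hBB : B'.map S.subtype = B := Subgroup.map_subgroupOf_eq_of_le hB
      haveI : B'.Normal := (Subgroup.normal_subgroupOf_iff_le_normalizer hB).2 hSB
      have hder : ⁅B, B⁆ = ⁅B', B'⁆.map S.subtype := by rw [Subgroup.map_commutator, hBB]
      obtain ⟨A₁, hA₁, h4, h5, h6⟩ := hcl.replacement_property hp (P := (⊤ : Subgroup ↥S))
        (D := D') (B := B') (hS.to_subgroup ⊤) le_top (Subgroup.normalizer_eq_top (H := D')).ge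
        le_top (Subgroup.normalizer_eq_top (H := B')).ge
        ⟨A', hA', (Subgroup.map_le_map_iff_of_injective S.subtype_injective).1 (hder ▸ hBA),
          fun h => hnle (hBB ▸ Subgroup.map_mono h)⟩
      refine ⟨_, ⟨A₁, hA₁, rfl⟩, hder ▸ Subgroup.map_mono h4,
        fun h => h5 ((Subgroup.map_le_map_iff_of_injective S.subtype_injective).1 (hBB.le.trans h)),
        hBB ▸ (Subgroup.map_mono h6).trans (Subgroup.le_normalizer_map _)⟩
  rw [← hI]
  exact hfam.inner_iff hS hF hp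

end Cfsg.Agent.S5275
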