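import Cfsg.Statements.S5276
import Cfsg.Agent.FusionTate.Hyperfocal
import Cfsg.Agent.FusionTate.ModClosed
import Cfsg.Agent.Fusion.Systems
import Cfsg.Agent.FrattiniTheory.Basic

set_option autoImplicit false
open Cfsg

namespace Cfsg.Agent.S5276

open Cfsg.FusionSystem CfsgLib.Fusion
open scoped commutatorElement

/-- Let p be a prime and F a saturated fusion system over a finite p-group S. Then F is the inner fusion system of S if and only if the normalizer fusion system of S itself in F is the inner fusion system (equivalently, Aut_F(S) is induced by S) and the Frattini subgroup Φ(S) is strongly closed in F. -/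
theorem result {Ω : Type*} [Group Ω] {S : Subgroup Ω} [Finite S] (p : ℕ) [Fact p.Prime] (hS : IsPGroup p ↥S) (F : Cfsg.FusionSystem S) (hF : F.IsSaturated p) : (∀ P : Subgroup Ω, F.Hom P = (Cfsg.innerFusionSystem S).Hom P) ↔ (∀ N : Cfsg.FusionSystem (Cfsg.FusionSystem.normalizerIn S S), F.IsNormalizerSystem S N → ∀ P : Subgroup Ω, N.Hom P = (Cfsg.innerFusionSystem (Cfsg.FusionSystem.normalizerIn S S)).Hom P) ∧ F.StronglyClosed ((frattini ↥S).map S.subtype) := by
  have hNS : normalizerIn S S = S := le_antisymm (normalizerIn_le S S) (le_normalizerIn le_rfl)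
  constructor
  · intro h
    refine ⟨fun N hN P => Set.ext fun φ => ⟨?_, ?_⟩, Subgroup.map_subtype_le _, ?_⟩
    · intro hφ
      rw [hN P] at hφ
      obtain ⟨h1, h2, -, -⟩ := hφ
      rw [h P] at h1
      obtain ⟨-, g, hg, hgx⟩ := h1
      exact ⟨h2, g, by rw [hNS]; exact hg, hgx⟩
    · rintro ⟨hP, g, hg, hgx⟩
      have := N.conj_mem hP hg
      exact mem_congr this hgx
    · intro R hR φ hφ x
      rw [h R] at hφ
      obtain ⟨-, g, hg, hgx⟩ := hφ
      rw [hgx x]
      obtain ⟨y, hy, hyx⟩ := hR x.2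
      refine ⟨⟨g, hg⟩ * y * ⟨g, hg⟩⁻¹, Subgroup.Normal.conj_mem inferInstance y hy _, ?_⟩
      show g * (y : Ω) * g⁻¹ = _
      rw [show (y : Ω) = x from hyx]
  · rintro ⟨hN, hΦ⟩
    have htop : ∀ α ∈ F.autGroup S, ∃ g ∈ S, ∀ x : S, (α x : Ω) = g * x * g⁻¹ := by
      intro α hα
      obtain ⟨N, hN'⟩ := exists_isNormalizerSystem F (le_refl S)
      have hmem : S.subtype.comp α.toMonoidHom ∈ N.Hom S := by
        rw [hN' S]
        have hα' := (mem_autGroup_iff le_rfl).1 hα
        refine ⟨hα', hNS.ge, fun x => hNS.ge (α x).2, ?_⟩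
        let j : ↥(S ⊔ S) →* Ω :=
          (S.subtype.comp α.toMonoidHom).comp (Subgroup.inclusion (sup_idem S).le)
        refine ⟨j, restrict_mem hα' (sup_idem S).le, fun x => rfl, ?_⟩
        refine le_antisymm ?_ fun s hs => ?_
        · rintro _ ⟨x, -, rfl⟩
          exact (α _).2
        · refine ⟨Subgroup.inclusion le_sup_left (α.symm ⟨s, hs⟩), ?_, ?_⟩
          · exact (α.symm ⟨s, hs⟩).2
          · show (α _ : Ω) = s
            exact congrArg Subtype.val (α.apply_symm_apply ⟨s, hs⟩)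
      rw [hN N hN' S] at hmem
      obtain ⟨-, g, hg, hgx⟩ := hmem
      exact ⟨g, normalizerIn_le S S hg, hgx⟩
    obtain ⟨M, hM⟩ : ∃ M, M = (frattini S).map S.subtype := ⟨_, rfl⟩
    rw [← hM] at hΦ
    haveI := hS.isNilpotent
    have hcomm : ∀ a ∈ S, ∀ b ∈ S, a⁻¹ * (b * a * b⁻¹) ∈ M := by
      intro a ha b hb
      rw [hM]
      exact ⟨(⟨a, ha⟩ : S)⁻¹ * (⟨b, hb⟩ * ⟨a, ha⟩ * (⟨b, hb⟩ : S)⁻¹),
        CfsgLib.FrattiniTheory.commutator_le_frattini_of_nilpotent (by
          have := Subgroup.commutator_mem_commutator (Subgroup.mem_top (⟨a, ha⟩ : S)⁻¹)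
            (Subgroup.mem_top (⟨b, hb⟩ : S))
          rw [commutator_def]
          rw [commutatorElement_def, inv_inv] at this
          simpa [mul_assoc] using this), rfl⟩
    have hmod : ∀ {P : Subgroup Ω} {φ : P →* Ω}, φ ∈ F.Hom P → ∀ x : P, (x : Ω)⁻¹ * φ x ∈ M :=
      fun {P φ} => CfsgLib.FusionTate.inv_mul_apply_mem_of_top hS hF hΦ hcomm fun α hα x => by
      obtain ⟨g, hg, hgx⟩ := htop α hα
      rw [hgx x]
      exact hcomm _ x.2 _ hg
    have hyp := CfsgLib.FusionTate.hyperfocal_eq_bot_of_le_frattini hS hF (fun u hu => by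
      have : F.hyperfocalSubgroup p ≤ M := (Subgroup.closure_le _).2 (by
        rintro _ ⟨P, α, x, hP, -, rfl⟩
        exact hmod ((mem_autGroup_iff hP).1 α.2) x)
      obtain ⟨v, hv, hvu⟩ := hM ▸ this (Subgroup.mem_subgroupOf.1 hu)
      exact (Subtype.ext hvu : v = u) ▸ hv)
    intro P
    refine Set.ext fun φ => ⟨fun hφ => ?_, ?_⟩
    · refine mem_le_of_pResidual hS hF (D := innerFusionSystem S) (fun Q hQ α hα => ?_) hφ
      refine ⟨hQ, 1, S.one_mem, fun x => ?_⟩
      have h1 := inv_mul_apply_mem_hyperfocal (F := F) hQ hα x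
      rw [hyp, Subgroup.mem_bot, inv_mul_eq_one] at h1
      simp [h1]
    · rintro ⟨hP, g, hg, hgx⟩
      exact mem_congr (F.conj_mem hP hg) hgx

end Cfsg.Agent.S5276
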