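import Cfsg.Statements.S5279
import Cfsg.Agent.S5246
import Cfsg.Agent.FusionPStable.ZJControl
-- import your own Cfsg.Agent.* helpers here

set_option autoImplicit false
open Cfsg

namespace Cfsg.Agent.S5279

/-- Let p be an odd prime, G a finite group with a nontrivial Sylow p-subgroup P, and F the fusion system of G on P. Suppose F is p-stable: for every fully normalized subgroup Q and every χ in Aut_F(Q) acting quadratically on Q (χ(a⁻¹)·a·χ(a⁻¹)·χ(χ(a)) = 1 for all a in Q), χ lies in O_p(Aut_F(Q)). Then some nontrivial subgroup of P is normal in F. -/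
theorem result {Ω : Type*} [Group Ω] [Finite Ω] (p : ℕ) [Fact p.Prime] (hp : p ≠ 2) (P : Sylow p Ω) (hP : (P : Subgroup Ω) ≠ ⊥) (hst : (∀ Q : Subgroup Ω, (Cfsg.groupFusionSystem (P : Subgroup Ω)).IsFullyNormalized Q → ∀ χ : MulAut ↥Q, χ ∈ (Cfsg.groupFusionSystem (P : Subgroup Ω)).autGroup Q → (∀ a : ↥Q, (χ a⁻¹) * a * (χ a⁻¹) * (χ (χ a)) = 1) → χ ∈ ((Cfsg.pCore p ↥((Cfsg.groupFusionSystem (P : Subgroup Ω)).autGroup Q)).map ((Cfsg.groupFusionSystem (P : Subgroup Ω)).autGroup Q).subtype : Subgroup (MulAut ↥Q)))) : (Cfsg.groupFusionSystem (P : Subgroup Ω)).core ≠ ⊥ := by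
  have hG := (Cfsg.Agent.S5246.result hp P).mpr hst
  set Z := Cfsg.centerThompsonAOf (P : Subgroup Ω) with hZ
  have hZP : Z ≤ (P : Subgroup Ω) := CfsgLib.PLocal.centerThompsonAOf_le _
  have hZ0 : Z ≠ ⊥ := CfsgLib.PLocal.centerThompsonAOf_ne_bot P.isPGroup' hP
  intro hbot
  refine hZ0 (le_bot_iff.mp (hbot ▸ le_sSup ⟨hZP, ?_⟩))
  rintro Q φ ⟨hQP, hφP, g, hg⟩
  obtain ⟨x, hxN, hx⟩ := CfsgLib.FusionPStable.exists_mem_normalizer_zj hp hG P
    (A := (Q : Set Ω)) (g := g) hQP (fun a ha => hg ⟨a, ha⟩ ▸ hφP ⟨a, ha⟩)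
  have hle : Q ⊔ Z ≤ (P : Subgroup Ω).comap (MulAut.conj x).toMonoidHom :=
    sup_le (fun a ha => by
        show x * a * x⁻¹ ∈ (P : Subgroup Ω)
        rw [hx a ha, ← hg ⟨a, ha⟩]; exact hφP ⟨a, ha⟩)
      (fun z hz => hZP ((Subgroup.mem_normalizer_iff.mp hxN z).mp hz))
  refine ⟨(MulAut.conj x).toMonoidHom.comp (Q ⊔ Z).subtype,
    ⟨sup_le hQP hZP, fun y => hle y.2, x, fun y => rfl⟩, fun y => ?_, ?_⟩
  · exact (hx y y.2).trans (hg y).symm
  · rw [← Subgroup.map_map, Subgroup.subgroupOf_map_subtype, inf_eq_left.mpr le_sup_right]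
    exact Subgroup.mem_normalizer_iff_map_conj_eq.mp hxN

end Cfsg.Agent.S5279
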