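import Cfsg.Statements.S5281
import Cfsg.Agent.FusionPStable.Descend
import Cfsg.Agent.FusionPStable.NormalizerSystem
import Cfsg.Agent.FusionPStable.RadicalOvergroup

set_option autoImplicit false
open Cfsg

namespace Cfsg.Agent.S5281

/-- Let p be an odd prime and F a saturated fusion system over a finite p-group S. Call a fusion system E (over any subgroup) p-stable when, for every fully E-normalized subgroup Q and every χ in Aut_E(Q) with χ(a⁻¹)·a·χ(a⁻¹)·χ(χ(a)) = 1 for all a in Q (χ acts quadratically), χ lies in O_p(Aut_E(Q)). Then F is p-stable if and only if the normalizer fusion system of R in F is p-stable for every fully F-normalized, F-centric, F-radical subgroup R of S. -/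
theorem result {Ω : Type*} [Group Ω] {S : Subgroup Ω} [Finite S] (p : ℕ) [Fact p.Prime] (hS : IsPGroup p ↥S) (F : Cfsg.FusionSystem S) (hF : F.IsSaturated p) (hp : p ≠ 2) : (∀ Q : Subgroup Ω, F.IsFullyNormalized Q → ∀ χ : MulAut ↥Q, χ ∈ F.autGroup Q → (∀ a : ↥Q, (χ a⁻¹) * a * (χ a⁻¹) * (χ (χ a)) = 1) → χ ∈ ((Cfsg.pCore p ↥(F.autGroup Q)).map (F.autGroup Q).subtype : Subgroup (MulAut ↥Q))) ↔ ∀ R : Subgroup Ω, F.IsFullyNormalized R → F.IsCentric R → F.IsRadical p R → ∀ N : Cfsg.FusionSystem (Cfsg.FusionSystem.normalizerIn S R), F.IsNormalizerSystem R N → (∀ Q : Subgroup Ω, N.IsFullyNormalized Q → ∀ χ : MulAut ↥Q, χ ∈ N.autGroup Q → (∀ a : ↥Q, (χ a⁻¹) * a * (χ a⁻¹) * (χ (χ a)) = 1) → χ ∈ ((Cfsg.pCore p ↥(N.autGroup Q)).map (N.autGroup Q).subtype : Subgroup (MulAut ↥Q))) := by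
  constructor
  · intro h R _ _ _ N hN
    exact CfsgLib.FusionPStable.pStable_normalizerSystem h hN
  · intro h Q hQ χ hχ hq
    obtain ⟨Q', R, e, he, hQR, hRn, hRc, hRr, hExt⟩ :=
      CfsgLib.FusionPStable.exists_radical_overgroup hS hF hQ
    obtain ⟨N, hN⟩ := CfsgLib.FusionPStable.exists_normalizerSystem F hRn.1
    have hQN : Q' ≤ Cfsg.FusionSystem.normalizerIn S R :=
      hQR.trans (CfsgLib.Fusion.le_normalizerIn hRn.1)
    have hsup : Q' ⊔ R = R := sup_eq_right.2 hQR
    have h1 := CfsgLib.FusionPStable.inCore_of_normalizerSystem hN (h R hRn hRc hRr N hN) hQN ?_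
      (CfsgLib.Fusion.congr_mem_autGroup he hχ)
      (CfsgLib.FusionPStable.QuadAut.congr e hq)
    · have h2 := h1.congr e.symm (CfsgLib.Fusion.map_autGroup he.symm)
      rwa [CfsgLib.FusionPStable.congr_symm_congr] at h2
    intro α hα
    obtain ⟨β, hβ, hβv⟩ := hExt α hα
    refine CfsgLib.FusionPStable.mem_autGroup_normalizerSystem hN hQN hα
      (ψ := (R.subtype.comp β.toMonoidHom).comp (Subgroup.inclusion hsup.le))
      (CfsgLib.Fusion.mem_of_eq hsup ((CfsgLib.Fusion.mem_autGroup_iff hRn.1).mp hβ)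
        fun x hx => rfl) (fun x => hβv x (hQR x.2)) ?_
    ext y
    constructor
    · rintro ⟨x, hx, rfl⟩
      exact (β _).2
    · intro hy
      exact ⟨⟨_, Subgroup.mem_sup_right (β.symm ⟨y, hy⟩).2⟩, (β.symm ⟨y, hy⟩).2,
        congrArg Subtype.val (β.apply_symm_apply ⟨y, hy⟩)⟩

end Cfsg.Agent.S5281
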