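import Cfsg.Statements.S5283
import Cfsg.Agent.FusionClosed.Supersoluble

set_option autoImplicit false
open Cfsg CfsgLib.Fusion CfsgLib.FusionClosed

namespace Cfsg.Agent.S5283

/-- Call a saturated fusion system F over a finite p-group S supersoluble when S has a chain of subgroups 1 = S_0 ≤ S_1 ≤ … ≤ S_m = S, each strongly closed in F, with each S_{i+1} generated by S_i together with one further element (cyclic steps). Then every saturated fusion system over S is supersoluble if and only if S is normal in every saturated fusion system over S (S is resistant) and every subgroup of Aut(S) of order prime to p is abelian of exponent dividing p − 1. -/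
theorem result {Ω : Type*} [Group Ω] {S : Subgroup Ω} [Finite S] (p : ℕ) [Fact p.Prime] (hS : IsPGroup p ↥S) : (∀ F : Cfsg.FusionSystem S, F.IsSaturated p → (∃ (m : ℕ) (c : Fin (m + 1) → Subgroup Ω), c 0 = ⊥ ∧ c (Fin.last m) = S ∧ (∀ i : Fin (m + 1), F.StronglyClosed (c i)) ∧ ∀ i : Fin m, c i.castSucc ≤ c i.succ ∧ ∃ x ∈ S, c i.succ = c i.castSucc ⊔ Subgroup.zpowers x)) ↔ (∀ F : Cfsg.FusionSystem S, F.IsSaturated p → F.IsNormal S) ∧ ∀ H : Subgroup (MulAut ↥S), (Nat.card ↥H).Coprime p → IsMulCommutative ↥H ∧ ∀ h ∈ H, h ^ (p - 1) = 1 := by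
  constructor
  · intro h
    have hfine : ∀ F : Cfsg.FusionSystem S, F.IsSaturated p → FineReach F p S := fun F hF => by
      obtain ⟨m, c, h0, hm, hsc, hstep⟩ := h F hF
      exact hm ▸ fineReach_of_cyclic hS h0 hsc hstep (Fin.last m)
    refine ⟨fun F hF => isNormal_self_of_fine hS hF (hfine F hF), fun H hH => ?_⟩
    have : Finite (MulAut S) := Finite.of_injective (fun α => (α : S → S)) DFunLike.coe_injective
    obtain ⟨m, C, h0, hm, hmono, hsc, hstep⟩ :=
      hfine (semidirectSystem S H) (isSaturated_semidirectSystem hS hH)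
    let D : ℕ → Subgroup S := fun i => (C i).subgroupOf S
    have hD0 : D 0 = ⊥ := by simp only [D, h0, Subgroup.bot_subgroupOf]
    have hDm : D m = ⊤ := by simp only [D, hm, Subgroup.subgroupOf_self]
    have hDmono : Monotone D := fun i j hij => Subgroup.comap_mono (hmono hij)
    have hDnormal : ∀ i, ((D i).subgroupOf (D (i + 1))).Normal := fun i =>
      ⟨fun n hn g => conj_mem_stronglyClosed (hsc i) ((g : D (i + 1)) : S).2 hn⟩
    have hDstep : ∀ i < m, (D i).relIndex (D (i + 1)) ∣ p := fun i hi => by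
      simp only [D]
      rw [Subgroup.relIndex_subgroupOf (hsc (i + 1)).1]
      exact hstep i hi
    have hinv : ∀ α ∈ H, ∀ i x, α x ∈ D i ↔ x ∈ D i := fun α hα i x =>
      aut_mem_stronglyClosed_iff (hsc i) le_rfl (mem_autGroup_semidirectSystem_of_mem hα)
    have hord : ∀ α ∈ H, (orderOf α).Coprime p := fun α hα =>
      hH.coprime_dvd_left (Subgroup.orderOf_dvd_natCard H hα)
    refine ⟨⟨⟨fun a b => Subtype.ext ?_⟩⟩, fun α hα =>
      pow_sub_one_of_fine hS hD0 hDm hDmono hDnormal hDstep (hord α hα) (hinv α hα)⟩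
    exact commute_of_fine hS hD0 hDm hDmono hDnormal hDstep
      (hord _ (mul_mem (mul_mem (mul_mem a.2 b.2) (inv_mem a.2)) (inv_mem b.2)))
      (hinv a a.2) (hinv b b.2)
  · rintro ⟨hN, hK⟩ F hF
    obtain ⟨K, -, hKco, hA⟩ := exists_complement hS hF
    obtain ⟨hc, hpow⟩ := hK K hKco
    exact supersoluble_of_complement hS (hN F hF) K hA
      (fun a ha b hb => congrArg Subtype.val (hc.is_comm.comm ⟨a, ha⟩ ⟨b, hb⟩)) hpow

end Cfsg.Agent.S5283
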