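import Cfsg.Statements.S5284
import Cfsg.Agent.S5283
import Cfsg.Agent.FusionClosed.AbelianInvariants

set_option autoImplicit false
open Cfsg Cfsg.FusionSystem CfsgLib.Fusion CfsgLib.FusionClosed

namespace Cfsg.Agent.S5284

theorem isNormal_self_of_abelian {Ω : Type*} [Group Ω] {S : Subgroup Ω} [Finite S] {p : ℕ}
    [Fact p.Prime] (hS : IsPGroup p S) (hab : IsMulCommutative S) {F : Cfsg.FusionSystem S}
    (hF : F.IsSaturated p) : F.IsNormal S := by
  refine isNormal_of_le_essential hS hF ⟨le_rfl, fun R hR φ hφ x => apply_mem hφ x⟩ fun P hP => ?_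
  refine le_trans (fun x hx => ?_) (centralizerIn_le_of_centric hP.1)
  refine Subgroup.mem_inf.2 ⟨hx, Subgroup.mem_centralizer_iff.2 fun y hy => ?_⟩
  exact congrArg Subtype.val (hab.is_comm.comm ⟨y, hP.1.1 hy⟩ ⟨x, hx⟩)

theorem cycReach_of_powCyclic {Ω : Type*} [Group Ω] {S : Subgroup Ω} [Finite S] {p : ℕ}
    [Fact p.Prime] (hS : IsPGroup p S) [IsMulCommutative S] {F : Cfsg.FusionSystem S}
    (hN : F.IsNormal S)
    (hcyc : @PowCyclic S { (inferInstance : Group S) with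
      mul_comm := fun a b => mul_comm' a b } p) : CycReach F S := by
  classical
  let _ : CommGroup S := { (inferInstance : Group S) with mul_comm := fun a b => mul_comm' a b }
  have hfin : {c : Subgroup Ω | CycReach F c}.Finite :=
    (finite_subgroups (S := S)).subset fun c ⟨m, C, _, hm, hsc, _⟩ => hm ▸ (hsc _).1
  obtain ⟨c, hc, hmax⟩ := hfin.exists_maximal ⟨⊥, cycReach_bot F⟩
  obtain ⟨m, C, h0, hm, hsc, hstep⟩ := id (hc : CycReach F c)
  have hcsc : F.StronglyClosed c := hm ▸ hsc _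
  rcases eq_or_lt_of_le hcsc.1 with h | hlt
  · exact h ▸ hc
  exfalso
  obtain ⟨y₀, hy₀, hy₀c⟩ := SetLike.exists_of_lt hlt
  have hP : ∃ i : ℕ, ∃ y : S, y ^ p ^ (i + 1) = 1 ∧ (y : Ω) ∉ c := by
    obtain ⟨k, hk⟩ := hS ⟨y₀, hy₀⟩
    exact ⟨k, ⟨y₀, hy₀⟩, by rw [pow_succ, pow_mul, hk, one_pow], hy₀c⟩
  obtain ⟨i, ⟨y, hy, hyc⟩, himin⟩ :
      ∃ i, (∃ y : S, y ^ p ^ (i + 1) = 1 ∧ (y : Ω) ∉ c) ∧
        ∀ y : S, y ^ p ^ i = 1 → (y : Ω) ∈ c := by
    refine ⟨Nat.find hP, Nat.find_spec hP, fun y hy => ?_⟩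
    rcases h : Nat.find hP with - | j
    · rw [h, pow_zero, pow_one] at hy
      rw [hy]
      exact one_mem c
    · by_contra hyc
      exact Nat.find_min hP (show j < Nat.find hP by omega) ⟨y, h ▸ hy, hyc⟩
  have hQ : ∃ j : ℕ, ∀ w : S, (w ^ p ^ (j + 1)) ^ p ^ (i + 1) = 1 →
      ((w ^ p ^ (j + 1) : S) : Ω) ∈ c := by
    obtain ⟨N, hN'⟩ := hS.exists_card_eq
    refine ⟨N, fun w _ => ?_⟩
    rw [pow_succ, pow_mul, ← hN', pow_card_eq_one', one_pow]
    exact one_mem c
  obtain ⟨j, hj, a, hai, hac⟩ : ∃ j, (∀ w : S, (w ^ p ^ (j + 1)) ^ p ^ (i + 1) = 1 →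
      ((w ^ p ^ (j + 1) : S) : Ω) ∈ c) ∧
      ∃ a : S, (a ^ p ^ j) ^ p ^ (i + 1) = 1 ∧ ((a ^ p ^ j : S) : Ω) ∉ c := by
    refine ⟨Nat.find hQ, Nat.find_spec hQ, ?_⟩
    rcases h : Nat.find hQ with - | j
    · exact ⟨y, by rwa [pow_zero, pow_one], by rwa [pow_zero, pow_one]⟩
    · have := Nat.find_min hQ (show j < Nat.find hQ by omega)
      push Not at this
      exact this
  set x := a ^ p ^ j with hx
  let c' : Subgroup Ω := c ⊔ Subgroup.zpowers (x : Ω)
  have hexp : ∀ b : S, (b ^ p ^ (i + j)) ^ p = (b ^ p ^ j) ^ p ^ (i + 1) := fun b => by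
    rw [← pow_mul, ← pow_mul, ← pow_succ, ← pow_add, show i + j + 1 = j + (i + 1) by omega]
  have hL : ∀ b : S, (b ^ p ^ j) ^ p ^ (i + 1) = 1 → ((b ^ p ^ j : S) : Ω) ∈ c' := by
    intro b hb
    have hn : ¬ ∃ w : S, a ^ p ^ (i + j) = w ^ p ^ (i + j + 1) := by
      rintro ⟨w, hw⟩
      refine hac ?_
      have h1 : (w ^ p ^ (j + 1)) ^ p ^ i = x ^ p ^ i := by
        rw [hx, ← pow_mul, ← pow_mul, ← pow_add, ← pow_add,
          show j + 1 + i = i + j + 1 by omega, show j + i = i + j by omega, hw]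
      have h2 := hj w (by rw [pow_succ p i, pow_mul, h1, ← pow_mul, ← pow_succ, hai])
      have h3 := himin (x * (w ^ p ^ (j + 1))⁻¹) (by rw [mul_pow, inv_pow, h1, mul_inv_cancel])
      have h4 := mul_mem h3 h2
      rwa [← Subgroup.coe_mul, inv_mul_cancel_right] at h4
    obtain ⟨n, w, hw⟩ := hcyc (i + j) a b ((hexp a).trans hai) ((hexp b).trans hb) hn
    set z := w ^ p ^ (j + 1)
    have hzi : z ^ p ^ i = w ^ p ^ (i + j + 1) := by
      rw [← pow_mul, ← pow_add, show j + 1 + i = i + j + 1 by omega]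
    have hbx : (b ^ p ^ j) ^ p ^ i = (x ^ p ^ i) ^ n * z ^ p ^ i := by
      rw [hx, ← pow_mul b, ← pow_mul a, ← pow_add, Nat.add_comm j i, hw, hzi]
    have hz : z ^ p ^ (i + 1) = 1 := by
      have h1 := hbx
      have h2 : ((b ^ p ^ j) ^ p ^ i) ^ p = ((x ^ p ^ i) ^ n) ^ p * (z ^ p ^ i) ^ p := by
        rw [← mul_pow, ← h1]
      rw [← pow_mul _ n, mul_comm n, pow_mul, ← pow_mul _ (p ^ i), ← pow_mul x,
        ← pow_mul z, ← pow_succ, hb, hai, one_pow, one_mul] at h2
      exact h2.symm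
    have h3 := himin (b ^ p ^ j * (x ^ n * z)⁻¹) (by
      rw [mul_pow, inv_pow, mul_pow, ← pow_mul x, mul_comm n, pow_mul, ← hbx, mul_inv_cancel])
    have h4 : ((x ^ n * z : S) : Ω) ∈ c' := by
      rw [Subgroup.coe_mul, SubgroupClass.coe_pow]
      exact mul_mem (pow_mem (Subgroup.mem_sup_right (Subgroup.mem_zpowers _)) n)
        (Subgroup.mem_sup_left (hj w hz))
    have h5 := mul_mem (Subgroup.mem_sup_left h3 : _ ∈ c') h4
    rwa [← Subgroup.coe_mul, inv_mul_cancel_right] at h5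
  have hc'S : c' ≤ S := sup_le hcsc.1 (Subgroup.zpowers_le.2 x.2)
  have hsc' : F.StronglyClosed c' := by
    refine stronglyClosed_of_aut_invariant hN hc'S fun α hα => ?_
    have h : c'.subgroupOf S ≤ (c'.subgroupOf S).comap α.toMonoidHom := by
      rw [show c'.subgroupOf S = c.subgroupOf S ⊔ Subgroup.zpowers x by
        rw [Subgroup.subgroupOf_sup hcsc.1 (Subgroup.zpowers_le.2 x.2)]
        congr 1
        apply Subgroup.map_injective S.subtype_injective
        rw [Subgroup.map_subgroupOf_eq_of_le (Subgroup.zpowers_le.2 x.2), MonoidHom.map_zpowers]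
        rfl]
      refine sup_le (fun z hz => Subgroup.mem_sup_left
        ((aut_mem_stronglyClosed_iff hcsc le_rfl hα).2 hz)) (Subgroup.zpowers_le.2 ?_)
      have h1 := hL (α a) (by rw [← map_pow, ← map_pow, hai, map_one])
      rw [← map_pow, ← hx] at h1
      rw [show c.subgroupOf S ⊔ Subgroup.zpowers x = c'.subgroupOf S by
        rw [Subgroup.subgroupOf_sup hcsc.1 (Subgroup.zpowers_le.2 x.2)]
        congr 1
        apply Subgroup.map_injective S.subtype_injective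
        rw [Subgroup.map_subgroupOf_eq_of_le (Subgroup.zpowers_le.2 x.2), MonoidHom.map_zpowers]
        rfl]
      exact h1
    exact fun z hz => h hz
  exact hac (hmax (show c' ∈ {c | CycReach F c} from CycReach.step hc x.2 rfl hsc') le_sup_left
    (Subgroup.mem_sup_right (Subgroup.mem_zpowers _)))

/-- Let S be a finite abelian p-group. Every saturated fusion system over S is supersoluble (S has a chain of F-strongly closed subgroups from 1 to S with cyclic steps) if and only if the invariants of S are pairwise distinct, that is, S is not isomorphic to a direct product (Z/p^n × Z/p^n) × H with n ≥ 1. -/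
theorem result {Ω : Type*} [Group Ω] {S : Subgroup Ω} [Finite S] (p : ℕ) [Fact p.Prime] (hS : IsPGroup p ↥S) (hab : IsMulCommutative ↥S) : (∀ F : Cfsg.FusionSystem S, F.IsSaturated p → (∃ (m : ℕ) (c : Fin (m + 1) → Subgroup Ω), c 0 = ⊥ ∧ c (Fin.last m) = S ∧ (∀ i : Fin (m + 1), F.StronglyClosed (c i)) ∧ ∀ i : Fin m, c i.castSucc ≤ c i.succ ∧ ∃ x ∈ S, c i.succ = c i.castSucc ⊔ Subgroup.zpowers x)) ↔ ¬ ∃ (n : ℕ) (H : Type) (_ : CommGroup H), 0 < n ∧ Nonempty (↥S ≃* (Multiplicative (ZMod (p ^ n)) × Multiplicative (ZMod (p ^ n))) × H) := by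
  constructor
  · rintro h ⟨n, H, _, hn, ⟨f⟩⟩
    obtain ⟨K, hK, hbad⟩ := exists_bad_subgroup hn f
    exact hbad (((Cfsg.Agent.S5283.result p hS).1 h).2 K hK)
  · intro h F hF
    let _ : CommGroup S := { (inferInstance : Group S) with mul_comm := fun a b => mul_comm' a b }
    have hcyc : PowCyclic S p :=
      (powCyclic_or_repeated hS).resolve_right h
    exact cycReach_of_powCyclic hS (isNormal_self_of_abelian hS hab hF) hcyc

end Cfsg.Agent.S5284
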