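import Cfsg.Statements.S5286
import Cfsg.Agent.Fusion.Basic
import Cfsg.Agent.FusionFree.Properties

set_option autoImplicit false
universe u
open Cfsg

namespace Cfsg.Agent.S5286

open CfsgLib.Fusion CfsgLib.FusionFree

/-- The right regular representation. -/
def regRight (K : Type u) [Group K] : K →* Equiv.Perm K :=
  MonoidHom.mk' (fun x => Equiv.mulRight x⁻¹) fun a b => Equiv.ext fun v => by
    simp [mul_assoc]

theorem regRight_injective (K : Type u) [Group K] : Function.Injective (regRight K) := fun a b h => by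
  simpa [regRight] using congrArg (fun e : Equiv.Perm K => e 1) h

/-- Isomorphic subgroups of a finite group are conjugate in its symmetric group. -/
theorem exists_perm {K : Type u} [Group K] [Finite K] {P Q : Subgroup K} (θ : P ≃* Q) :
    ∃ σ : Equiv.Perm K, ∀ x : P, σ * regRight K x * σ⁻¹ = regRight K (θ x) := by
  have hc : Nat.card (K ⧸ P) = Nat.card (K ⧸ Q) := by
    have h1 := Subgroup.card_eq_card_quotient_mul_card_subgroup P
    have h2 := Subgroup.card_eq_card_quotient_mul_card_subgroup Q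
    rw [Nat.card_congr θ.toEquiv] at h1
    exact Nat.eq_of_mul_eq_mul_right Nat.card_pos (h1.symm.trans h2)
  obtain ⟨f⟩ := (Finite.card_eq.1 hc : Nonempty ((K ⧸ P) ≃ (K ⧸ Q)))
  let eP : (K ⧸ P) × P → K := fun c => c.1.out * c.2
  let eQ : (K ⧸ Q) × Q → K := fun c => c.1.out * c.2
  have hb : ∀ R : Subgroup K, Function.Bijective fun c : (K ⧸ R) × R => c.1.out * (c.2 : K) := by
    intro R
    refine ⟨fun a b h => ?_, fun v => ?_⟩
    · have e : ∀ c : (K ⧸ R) × R, ((c.1.out * c.2 : K) : K ⧸ R) = c.1 := fun c => by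
        rw [QuotientGroup.mk_mul_of_mem _ c.2.2, QuotientGroup.out_eq']
      have h1 : a.1 = b.1 := by rw [← e a, ← e b]; exact congrArg QuotientGroup.mk h
      refine Prod.ext h1 (Subtype.ext (mul_left_cancel (a := a.1.out) ?_))
      simp only [← h1] at h
      exact h
    · refine ⟨(v, ⟨(v : K ⧸ R).out⁻¹ * v, QuotientGroup.eq.1 (QuotientGroup.out_eq' _)⟩), ?_⟩
      exact mul_inv_cancel_left _ _
  let EP := Equiv.ofBijective eP (hb P)
  let EQ := Equiv.ofBijective eQ (hb Q)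
  refine ⟨EP.symm.trans ((f.prodCongr θ.toEquiv).trans EQ), fun x => ?_⟩
  rw [mul_inv_eq_iff_eq_mul]
  refine Equiv.ext fun v => ?_
  obtain ⟨⟨c, y⟩, rfl⟩ := EP.surjective v
  show EQ (f.prodCongr θ.toEquiv (EP.symm (EP (c, y) * (x : K)⁻¹))) =
    EQ (f.prodCongr θ.toEquiv (EP.symm (EP (c, y)))) * (θ x : K)⁻¹
  have h : EP (c, y) * (x : K)⁻¹ = EP (c, y * x⁻¹) := by
    show c.out * (y : K) * (x : K)⁻¹ = c.out * ((y * x⁻¹ : P) : K)
    rw [Subgroup.coe_mul, Subgroup.coe_inv, mul_assoc]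
  rw [h, Equiv.symm_apply_apply, Equiv.symm_apply_apply]
  show (f c).out * (θ (y * x⁻¹) : K) = (f c).out * (θ y : K) * (θ x : K)⁻¹
  rw [map_mul, map_inv, Subgroup.coe_mul, Subgroup.coe_inv, mul_assoc]

variable {Ω : Type u} [Group Ω] {S : Subgroup Ω} (F : FusionSystem S)

/-- The indices of the stable letters: the maps of the system. -/
abbrev Index : Type u := Σ A : Subgroup Ω, {φ : A →* Ω // φ ∈ F.Hom A}

/-- The source. -/
abbrev src (i : Index F) : Subgroup S := i.1.subgroupOf S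

/-- The image. -/
abbrev tgt (i : Index F) : Subgroup S := i.2.1.range.subgroupOf S

theorem exists_sigma [Finite S] (i : Index F) : ∃ σ : Equiv.Perm S, ∀ x : i.1,
    σ * regRight S ⟨x, le_left i.2.2 x.2⟩ * σ⁻¹ = regRight S ⟨i.2.1 x, apply_mem i.2.2 x⟩ := by
  obtain ⟨A, φ, hφ⟩ := i
  obtain ⟨σ, h⟩ := exists_perm (((Subgroup.subgroupOfEquivOfLe (le_left hφ)).trans
    (MonoidHom.ofInjective (F.injective_of_mem hφ))).trans
    (Subgroup.subgroupOfEquivOfLe (range_le hφ)).symm)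
  exact ⟨σ, fun x => h ⟨⟨x, le_left hφ x.2⟩, x.2⟩⟩

/-- The permutation realizing a map. -/
noncomputable def sigma [Finite S] (i : Index F) : Equiv.Perm S := (exists_sigma F i).choose

theorem sigma_spec [Finite S] (i : Index F) (x : i.1) :
    sigma F i * regRight S ⟨x, le_left i.2.2 x.2⟩ * (sigma F i)⁻¹ =
      regRight S ⟨i.2.1 x, apply_mem i.2.2 x⟩ := (exists_sigma F i).choose_spec x

theorem conjugates [Finite S] : Conjugates (regRight S) (sigma F) (src F) (tgt F) := by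
  refine fun i => ⟨fun x hx => ⟨_, ⟨⟨x, hx⟩, rfl⟩, sigma_spec F i ⟨x, hx⟩⟩, ?_⟩
  rintro ⟨y, hyS⟩ ⟨x, hx⟩
  obtain rfl : i.2.1 x = y := hx
  exact ⟨⟨x, le_left i.2.2 x.2⟩, x.2, sigma_spec F i x⟩

/-- The map of the system attached to a signed letter. -/
theorem exists_map [Finite S] (j : Index F × Bool) :
    ∃ (B : Subgroup Ω) (ψ : B →* Ω) (hψ : ψ ∈ F.Hom B),
      (∀ b : S, b ∈ dom (src F) (tgt F) j ↔ (b : Ω) ∈ B) ∧
      ∀ (b : B) (a : S), trn (sigma F) j * regRight S a =
        regRight S ⟨b, le_left hψ b.2⟩ * trn (sigma F) j → (a : Ω) = ψ b := by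
  obtain ⟨i, _ | _⟩ := j
  · refine ⟨i.1, i.2.1, i.2.2, fun b => Iff.rfl, fun b a h => ?_⟩
    have h1 : regRight S a = regRight S ⟨i.2.1 b, apply_mem i.2.2 b⟩ := by
      rw [← sigma_spec F i b, mul_assoc]
      exact inv_mul_eq_iff_eq_mul.1 h
    exact congrArg Subtype.val (regRight_injective S h1)
  · obtain ⟨ψ, hψ, hψv⟩ := F.inv_mem i.2.2
    refine ⟨_, ψ, hψ, fun b => Iff.rfl, ?_⟩
    rintro ⟨_, x, rfl⟩ a h
    rw [hψv x]
    have h1 : sigma F i * regRight S a = sigma F i * regRight S ⟨x, le_left i.2.2 x.2⟩ := by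
      refine h.trans ?_
      rw [← eq_mul_inv_iff_mul_eq]
      exact (sigma_spec F i x).symm
    exact congrArg Subtype.val (regRight_injective S (mul_left_cancel h1))

theorem mem_of_transport [Finite S] :
    ∀ (L : List (S × (Index F × Bool))) (z : S),
      FreeGroup.IsReduced (word (regRight S) (sigma F) (tgt F) L) →
      ∀ (A : Subgroup Ω) (hA : A ≤ S) (φ : A →* Ω) (hφ : ∀ x : A, φ x ∈ S),
        (∀ x : A, val (regRight S) (sigma F) (tgt F) L z * inK (regRight S) (tgt F) ⟨x, hA x.2⟩ =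
          inK (regRight S) (tgt F) ⟨φ x, hφ x⟩ * val (regRight S) (sigma F) (tgt F) L z) →
        φ ∈ F.Hom A := by
  intro L
  induction L with
  | nil =>
    intro z _ A hA φ hφ h
    refine conj_mem' hA z.2 fun x => ?_
    have h1 := (SemidirectProduct.inr_injective.comp (regRight_injective S))
      (a₁ := z * ⟨x, hA x.2⟩) (a₂ := ⟨φ x, hφ x⟩ * z) (by
        simpa [val, inK, map_mul] using h x)
    exact eq_mul_inv_iff_mul_eq.2 (congrArg Subtype.val h1).symm
  | cons e L ih =>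
    intro z hr A hA φ hφ h
    obtain ⟨s, j⟩ := e
    obtain ⟨B, ψ, hψ, hdom, hval⟩ := exists_map F j
    let φ₁ : A →* Ω := (MulAut.conj (s : Ω)⁻¹).toMonoidHom.comp φ
    have hφ₁ : ∀ x : A, φ₁ x = (s : Ω)⁻¹ * φ x * s := fun x => by simp [φ₁]
    have hstep := fun x : A => step (regRight_injective S) (conjugates F) hr (h x)
    have hB : ∀ x : A, φ₁ x ∈ B := fun x => by
      rw [hφ₁]
      exact (hdom _).1 (hstep x).1
    let φ₂ : A →* Ω := ψ.comp (φ₁.codRestrict B hB)
    have hφ₂S : ∀ x : A, φ₂ x ∈ S := fun x => apply_mem hψ _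
    have hφ₂ : φ₂ ∈ F.Hom A := by
      rcases isEmpty_or_nonempty A with hE | hN
      · exact (hE.false 1).elim
      refine ih z (hstep hN.some).2.1 A hA φ₂ hφ₂S fun x => ?_
      obtain ⟨-, -, a', ha', heq⟩ := hstep x
      rw [heq]
      congr 2
      refine Subtype.ext (hval ⟨φ₁ x, hB x⟩ a' (ha'.trans ?_))
      congr 2
      exact Subtype.ext (hφ₁ x).symm
    obtain ⟨ψ', hψ', hψ'v⟩ := F.inv_mem hψ
    have hφ₁m : φ₁ ∈ F.Hom A := mem_of_comp hφ₂ hψ' (fun x => ⟨⟨φ₁ x, hB x⟩, rfl⟩)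
      fun x => (hψ'v ⟨φ₁ x, hB x⟩).symm
    refine mem_of_comp hφ₁m (F.conj_mem le_rfl s.2) (fun x => apply_mem hφ₁m x) fun x => ?_
    show φ x = (s : Ω) * φ₁ x * (s : Ω)⁻¹
    rw [hφ₁]
    group

/-- Every fusion system F over a finite p-group S, saturated or not, is realized by a possibly infinite group: there are a group G and an injective homomorphism ι of S into G such that the maps of F are exactly the conjugations by elements of G between subgroups of ι(S), every finite subgroup of G is conjugate to a subgroup of ι(S), and G has a free normal subgroup whose index divides (#S)!. -/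
theorem result {Ω : Type u} [Group Ω] {S : Subgroup Ω} [Finite S] (p : ℕ) [Fact p.Prime] (hS : IsPGroup p ↥S) (F : Cfsg.FusionSystem S) : ∃ (G : Type u) (_ : Group G) (ι : ↥S →* G), F.IsRealizedBy ι ∧ (∀ H : Subgroup G, Finite ↥H → ∃ g : G, ∀ h ∈ H, g * h * g⁻¹ ∈ ι.range) ∧ ∃ N : Subgroup G, N.Normal ∧ IsFreeGroup ↥N ∧ N.index ∣ (Nat.card ↥S).factorial := by
  let ρ := regRight S
  let G₀ := grp ρ (sigma F) (tgt F)
  refine ⟨G₀, inferInstance, (inK ρ (tgt F)).codRestrict G₀ (inK_mem ρ (sigma F) (tgt F)),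
    ⟨?_, ?_⟩, ?_, _, MonoidHom.normal_ker _, isFreeGroup_ker, ?_⟩
  · intro a b h
    exact regRight_injective S (SemidirectProduct.inr_injective (congrArg Subtype.val h))
  · intro A hA φ hφ
    constructor
    · intro hm
      refine ⟨⟨_, T_mem ρ (sigma F) (tgt F) (⟨A, φ, hm⟩, true)⟩, fun x => Subtype.ext ?_⟩
      show inK ρ (tgt F) ⟨φ x, hφ x⟩ =
        T ρ (sigma F) (tgt F) _ * inK ρ (tgt F) ⟨x, hA x.2⟩ * (T ρ (sigma F) (tgt F) _)⁻¹
      rw [eq_mul_inv_iff_mul_eq]
      refine (T_mul_inK (regRight_injective S) (conjugates F) ?_ ?_).symm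
      · exact ⟨x, rfl⟩
      · exact mul_inv_eq_iff_eq_mul.1 (sigma_spec F ⟨A, φ, hm⟩ x)
    · rintro ⟨⟨g, hg⟩, hgx⟩
      obtain ⟨L, z, rfl, hr, -⟩ := normal_form (regRight_injective S) (conjugates F) hg
      refine mem_of_transport F L z hr A hA φ hφ fun x => ?_
      exact (eq_mul_inv_iff_mul_eq.1 (congrArg Subtype.val (hgx x))).symm
  · intro H hH
    haveI : Finite (H.map G₀.subtype) :=
      Finite.of_equiv _ (H.equivMapOfInjective _ G₀.subtype_injective).toEquiv
    obtain ⟨g, hg, hgH⟩ := exists_conj_mem (regRight_injective S) (conjugates F)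
      (H.map G₀.subtype) (Subgroup.map_subtype_le H)
    refine ⟨⟨g, hg⟩, fun h hh => ?_⟩
    obtain ⟨s, hs⟩ := hgH _ ⟨h, hh, rfl⟩
    exact ⟨s, Subtype.ext hs⟩
  · rw [Subgroup.index_ker, ← Nat.card_perm]
    exact Subgroup.card_subgroup_dvd_card _

end Cfsg.Agent.S5286
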