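import Cfsg.Statements.S5287
import Cfsg.Agent.S5283
import Cfsg.Agent.S5284
import Cfsg.Agent.FusionMetacyclic.Fusion
import Cfsg.Agent.FusionMetaSuper.OddAut
import Cfsg.Agent.FusionMetaSuper.Models

set_option autoImplicit false
set_option linter.style.haveILetI false
open Cfsg

namespace Cfsg.Agent.S5287

open CfsgLib.FusionMetaSuper

/-- In an abelian metacyclic `p`-group a direct factor `(Z/p^n)²` is everything. -/
theorem homocyclic_of_repeated {G : Type*} [Group G] [Finite G] {p : ℕ} [hp : Fact p.Prime]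
    (hG : IsPGroup p G) (hm : Cfsg.IsMetacyclic G) (hab : IsMulCommutative G) {n : ℕ} (hn : 0 < n)
    {H : Type} [CommGroup H]
    (f : G ≃* (Multiplicative (ZMod (p ^ n)) × Multiplicative (ZMod (p ^ n))) × H) :
    Nonempty (G ≃* Multiplicative (ZMod (p ^ n)) × Multiplicative (ZMod (p ^ n))) := by
  classical
  haveI : NeZero (p ^ n) := ⟨(pow_pos hp.1.pos n).ne'⟩
  haveI : Finite H := Finite.of_injective (fun h : H => f.symm (1, h))
    (fun a b h => congrArg Prod.snd (f.symm.injective h))
  rcases subsingleton_or_nontrivial H with hH | hH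
  · haveI : Unique H := uniqueOfSubsingleton 1
    exact ⟨f.trans MulEquiv.prodUnique⟩
  exfalso
  letI : CommGroup G := { (inferInstance : Group G) with mul_comm := hab.is_comm.comm }
  -- at most `p ^ 2` elements are killed by `p`
  have hbound : Nat.card (powMonoidHom p : G →* G).ker ∣ p ^ 2 := by
    obtain ⟨N, hN, hNc, hQc⟩ := hm
    set K := (powMonoidHom p : G →* G).ker
    let π : K →* G ⧸ N := (QuotientGroup.mk' N).comp K.subtype
    have hker : Nat.card π.ker ∣ p := by
      haveI : IsCyclic π.ker := by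
        refine isCyclic_of_injective ((K.subtype.comp π.ker.subtype).codRestrict N fun y =>
          (QuotientGroup.eq_one_iff _).1 y.2) fun y y' h => ?_
        exact Subtype.ext (Subtype.ext (congrArg (fun w : N => (w : G)) h))
      rw [← IsCyclic.exponent_eq_card]
      exact Monoid.exponent_dvd_of_forall_pow_eq_one fun y => Subtype.ext (Subtype.ext y.1.2)
    have hrange : Nat.card π.range ∣ p := by
      rw [← IsCyclic.exponent_eq_card]
      refine Monoid.exponent_dvd_of_forall_pow_eq_one ?_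
      rintro ⟨_, y, rfl⟩
      refine Subtype.ext ?_
      show π y ^ p = 1
      rw [← map_pow, show y ^ p = 1 from Subtype.ext y.2, map_one]
    rw [← Subgroup.card_mul_index π.ker, Subgroup.index_ker, sq]
    exact mul_dvd_mul hker hrange
  let u : Multiplicative (ZMod (p ^ n)) := Multiplicative.ofAdd ((p ^ (n - 1) : ℕ) : ZMod (p ^ n))
  have hu : orderOf u = p := by
    refine orderOf_eq_prime ?_ ?_
    · show Multiplicative.ofAdd (p • ((p ^ (n - 1) : ℕ) : ZMod (p ^ n))) = 1
      rw [nsmul_eq_mul, ← Nat.cast_mul, ← pow_succ', show n - 1 + 1 = n by omega, ZMod.natCast_self]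
      rfl
    · intro h
      have h1 : ((p ^ (n - 1) : ℕ) : ZMod (p ^ n)) = 0 := congrArg Multiplicative.toAdd h
      rw [ZMod.natCast_eq_zero_iff, Nat.pow_dvd_pow_iff_le_right hp.1.one_lt] at h1
      omega
  have hHp : IsPGroup p H :=
    hG.of_surjective ((MonoidHom.snd _ _).comp f.toMonoidHom)
      fun h => ⟨f.symm (1, h), by simp⟩
  obtain ⟨k, hk, hcard⟩ := hHp.nontrivial_iff_card.1 hH
  obtain ⟨w, hw⟩ := exists_prime_orderOf_dvd_card' p (G := H) (hcard ▸ dvd_pow_self p hk.ne')
  let U := (Subgroup.zpowers u).prod (Subgroup.zpowers u)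
  let A := U.prod (Subgroup.zpowers w)
  have hz : ∀ {M : Type} [CommGroup M] {a : M}, orderOf a = p →
      ∀ x ∈ Subgroup.zpowers a, x ^ p = 1 := by
    rintro M _ a ha _ ⟨i, rfl⟩
    rw [← zpow_natCast, ← zpow_mul, mul_comm, zpow_mul, zpow_natCast, ← ha, pow_orderOf_eq_one,
      one_zpow]
  have hAK : A.map f.symm.toMonoidHom ≤ (powMonoidHom p : G →* G).ker := by
    rintro _ ⟨x, ⟨⟨h1, h2⟩, h3⟩, rfl⟩
    show (f.symm x) ^ p = 1
    rw [← map_pow, show x ^ p = 1 from
      Prod.ext (Prod.ext (hz hu _ h1) (hz hu _ h2)) (hz hw _ h3), map_one]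
  have h3 : Nat.card (A.map f.symm.toMonoidHom) = p ^ 3 := by
    rw [Subgroup.card_map_of_injective f.symm.injective, Nat.card_congr
      (U.prodEquiv (Subgroup.zpowers w)).toEquiv, Nat.card_prod, Nat.card_congr
      ((Subgroup.zpowers u).prodEquiv (Subgroup.zpowers u)).toEquiv, Nat.card_prod,
      Nat.card_zpowers, Nat.card_zpowers, hu, hw]
    ring
  have h4 := (h3 ▸ Subgroup.card_dvd_of_le hAK).trans hbound
  rw [Nat.pow_dvd_pow_iff_le_right hp.1.one_lt] at h4
  omega

theorem isMulCommutative_of_equiv {G M : Type*} [Group G] [Group M] (e : G ≃* M)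
    (h : ∀ a b : M, a * b = b * a) : IsMulCommutative G :=
  ⟨⟨fun a b => e.injective (by rw [map_mul, map_mul, h])⟩⟩

/-- Let S be a finite metacyclic p-group (an extension of a cyclic group by a cyclic group). Every saturated fusion system over S is supersoluble (S has a chain of F-strongly closed subgroups from 1 to S with cyclic steps) if and only if S is not homocyclic of rank two (isomorphic to Z/p^n × Z/p^n with n ≥ 1) and, when p = 2, S is not dihedral of order at least 4, not quasi-dihedral (semidihedral) and not generalized quaternion of order at least 8. -/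
theorem result {Ω : Type*} [Group Ω] {S : Subgroup Ω} [Finite S] (p : ℕ) [Fact p.Prime] (hS : IsPGroup p ↥S) (hm : Cfsg.IsMetacyclic ↥S) : (∀ F : Cfsg.FusionSystem S, F.IsSaturated p → (∃ (m : ℕ) (c : Fin (m + 1) → Subgroup Ω), c 0 = ⊥ ∧ c (Fin.last m) = S ∧ (∀ i : Fin (m + 1), F.StronglyClosed (c i)) ∧ ∀ i : Fin m, c i.castSucc ≤ c i.succ ∧ ∃ x ∈ S, c i.succ = c i.castSucc ⊔ Subgroup.zpowers x)) ↔ ¬ ((∃ n : ℕ, 0 < n ∧ Nonempty (↥S ≃* Multiplicative (ZMod (p ^ n)) × Multiplicative (ZMod (p ^ n)))) ∨ (p = 2 ∧ ((∃ n : ℕ, 2 ≤ n ∧ Nonempty (↥S ≃* DihedralGroup n)) ∨ Cfsg.IsQuasiDihedral ↥S ∨ (∃ n : ℕ, 2 ≤ n ∧ Nonempty (↥S ≃* QuaternionGroup n))))) := by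
  refine ⟨fun h hbad => ?_, fun hgood => ?_⟩
  · -- the excluded groups carry a system which is not supersoluble
    rcases hbad with ⟨n, hn, ⟨e⟩⟩ | ⟨rfl, hbad⟩
    · have hab : IsMulCommutative ↥S := isMulCommutative_of_equiv e mul_comm
      exact (Cfsg.Agent.S5284.result p hS hab).1 h
        ⟨n, PUnit, inferInstance, hn, ⟨e.trans MulEquiv.prodUnique.symm⟩⟩
    obtain ⟨a, ha⟩ := IsPGroup.iff_card.1 hS
    rcases hbad with ⟨n, hn, ⟨e⟩⟩ | hsd | ⟨n, hn, ⟨e⟩⟩
    · have hc : 2 * n = 2 ^ a := by rw [← ha, Nat.card_congr e.toEquiv, DihedralGroup.nat_card]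
      obtain ⟨j, -, rfl⟩ := (Nat.dvd_prime_pow Nat.prime_two).1 (Dvd.intro_left 2 hc)
      have hj : 1 ≤ j := by
        rcases Nat.eq_zero_or_pos j with rfl | h
        · simp at hn
        · exact h
      obtain ⟨G, _, _, P, ⟨f⟩, hG⟩ := exists_dihedral_model (j + 1) (by omega)
      rw [Nat.add_sub_cancel] at f
      obtain ⟨F, hF, hFn⟩ := exists_bad_system hS P (e.trans f.symm) hG
      exact hFn (h F hF)
    · obtain ⟨n, x, y, d⟩ := CfsgLib.TwoGroups.exists_sdPair hsd
      obtain ⟨G, _, _, P, hP, hcard, hG⟩ := exists_semidihedral_model n d.le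
      obtain ⟨m, x', y', d'⟩ := CfsgLib.TwoGroups.exists_sdPair hP
      have hmn : m = n := by
        have h1 := d'.card
        rw [hcard] at h1
        have := Nat.pow_right_injective le_rfl h1
        omega
      subst hmn
      obtain ⟨f⟩ := nonempty_equiv_of_sdPair d d'
      obtain ⟨F, hF, hFn⟩ := exists_bad_system hS P f hG
      exact hFn (h F hF)
    · haveI : NeZero n := ⟨by omega⟩
      have hc : 4 * n = 2 ^ a := by
        rw [← ha, Nat.card_congr e.toEquiv, Nat.card_eq_fintype_card, QuaternionGroup.card]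
      obtain ⟨j, -, rfl⟩ := (Nat.dvd_prime_pow Nat.prime_two).1 (Dvd.intro_left 4 hc)
      have hj : 1 ≤ j := by
        rcases Nat.eq_zero_or_pos j with rfl | h
        · simp at hn
        · exact h
      obtain ⟨G, _, _, P, ⟨f⟩, hG⟩ := exists_quaternion_model (j + 1) (by omega)
      rw [Nat.add_sub_cancel] at f
      obtain ⟨F, hF, hFn⟩ := exists_bad_system hS P (e.trans f.symm) hG
      exact hFn (h F hF)
  · by_cases hab : IsMulCommutative ↥S
    · refine (Cfsg.Agent.S5284.result p hS hab).2 ?_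
      rintro ⟨n, H, _, hn, ⟨f⟩⟩
      exact hgood (Or.inl ⟨n, hn, homocyclic_of_repeated hS hm hab hn f⟩)
    by_cases hp2 : p = 2
    · subst hp2
      have hsd : ¬ Cfsg.IsQuasiDihedral ↥S := fun h => hgood (Or.inr ⟨rfl, Or.inr (Or.inl h)⟩)
      have hd : ¬ ∃ m : ℕ, Nonempty (↥S ≃* DihedralGroup m) := by
        rintro ⟨m, ⟨e⟩⟩
        rcases Nat.lt_or_ge m 2 with h | h
        · have hc : Nat.card ↥S = 2 * m := by rw [Nat.card_congr e.toEquiv, DihedralGroup.nat_card]
          have hpos : 0 < Nat.card ↥S := Nat.card_pos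
          obtain rfl : m = 1 := by omega
          haveI : Fact (Nat.card ↥S).Prime := ⟨by rw [hc]; exact Nat.prime_two⟩
          haveI : IsCyclic ↥S := isCyclic_of_prime_card (p := Nat.card ↥S) rfl
          exact hab IsCyclic.isMulCommutative
        · exact hgood (Or.inr ⟨rfl, Or.inl ⟨m, h, ⟨e⟩⟩⟩)
      have hq : ¬ ∃ m : ℕ, Nonempty (↥S ≃* QuaternionGroup m) := by
        rintro ⟨m, ⟨e⟩⟩
        rcases Nat.lt_or_ge m 2 with h | h
        · rcases Nat.eq_zero_or_pos m with rfl | hm0
          · haveI : Infinite (ZMod (2 * 0)) := (inferInstance : Infinite ℤ)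
            haveI : Infinite (QuaternionGroup 0) :=
              Infinite.of_injective QuaternionGroup.a fun _ _ h => QuaternionGroup.a.inj h
            haveI : Finite (QuaternionGroup 0) := Finite.of_equiv _ e.toEquiv
            exact not_finite (QuaternionGroup 0)
          · obtain rfl : m = 1 := by omega
            refine hab (IsPGroup.isMulCommutative_of_card_eq_prime_sq (p := 2) ?_)
            rw [Nat.card_congr e.toEquiv, Nat.card_eq_fintype_card, QuaternionGroup.card]
            rfl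
        · exact hgood (Or.inr ⟨rfl, Or.inr (Or.inr ⟨m, h, ⟨e⟩⟩)⟩)
      refine (Cfsg.Agent.S5283.result 2 hS).2 ⟨fun F hF => ?_, fun H hH => ?_⟩
      · exact CfsgLib.FusionMetacyclic.isNormal_metacyclic_two hS hF
          ⟨le_rfl, fun _ _ _ hφ x => CfsgLib.Fusion.apply_mem hφ x⟩ hm hd hq hsd
      · have hpg : IsPGroup 2 H := (CfsgLib.FusionMetacyclic.isPGroup_mulAut hS hm (by
          rintro ⟨n, k, ⟨e⟩⟩
          exact hab (isMulCommutative_of_equiv e mul_comm)) hq).to_subgroup H
        haveI : Finite (MulAut ↥S) :=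
          Finite.of_injective (fun α => (α : ↥S → ↥S)) DFunLike.coe_injective
        obtain ⟨j, hj⟩ := IsPGroup.iff_card.1 hpg
        have hj0 : j = 0 := by
          by_contra h
          rw [hj, Nat.coprime_pow_left_iff (Nat.pos_of_ne_zero h)] at hH
          norm_num at hH
        have hH1 : H = ⊥ := Subgroup.card_eq_one.1 (by rw [hj, hj0, pow_zero])
        subst hH1
        exact ⟨⟨⟨fun a b => Subsingleton.elim _ _⟩⟩, fun x hx => by
          rw [Subgroup.mem_bot.1 hx, one_pow]⟩
    · refine (Cfsg.Agent.S5283.result p hS).2 ⟨fun F hF => ?_, fun H hH => ?_⟩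
      · exact isNormal_self_of_isMetacyclic hS hF hp2 hm
      · exact abelian_exponent_of_coprime hp2 hS hm hab H hH

end Cfsg.Agent.S5287
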