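import Cfsg.Statements.S5299
import Cfsg.Agent.QdFree.Basic
import Cfsg.Agent.Fusion.Saturation

set_option autoImplicit false
universe u
open Cfsg

namespace Cfsg.Agent.S5299

/-- Let F be a saturated fusion system over a finite p-group S, H a finite group and Q a p-subgroup of H. If Q is not involved in S (no section of S is isomorphic to Q), then F is H-free: H is involved in no model of the normalizer system of a fully normalized centric subgroup. -/
theorem result {Ω : Type u} [Group Ω] {S : Subgroup Ω} [Finite S] (p : ℕ) [Fact p.Prime] (hS : IsPGroup p S)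
    (F : Cfsg.FusionSystem S) (hF : F.IsSaturated p) (H : Type*) [Group H] [Finite H] (Q : Subgroup H) (hQ : IsPGroup p Q)
    (hfree : ¬ Cfsg.Involves (↥Q) (↥S)) : F.IsSectionFree p H := by
  intro R hRn hRc N hN L _ ι hmodel hinv
  haveI : Finite L := hmodel.1
  obtain ⟨T, hT⟩ := hmodel.2.2.1
  obtain ⟨K, f, hf⟩ := CfsgLib.QdFree.exists_surjective_of_involves hinv
  obtain ⟨U, hUp, hUQ⟩ := CfsgLib.QdFree.exists_pGroup_map_eq f hf Q hQ
  obtain ⟨a, ha⟩ := CfsgLib.Fusion.exists_conj_mem_sylow T (hUp.map K.subtype)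
  let W : Subgroup S := ((U.map K.subtype).map (MulAut.conj a).toMonoidHom).comap ι |>.map
    (Subgroup.inclusion (CfsgLib.Fusion.normalizerIn_le S R))
  have hι : Function.Injective ι := hmodel.2.1.1
  have hinc := Subgroup.inclusion_injective (CfsgLib.Fusion.normalizerIn_le S R)
  have hle : ((U.map K.subtype).map (MulAut.conj a).toMonoidHom) ≤ ι.range := by
    rw [← hT]
    rintro _ ⟨u, hu, rfl⟩
    exact ha u hu
  let e₁ : ↥U ≃* ↥((U.map K.subtype).map (MulAut.conj a).toMonoidHom) :=
    (Subgroup.equivMapOfInjective U K.subtype K.subtype_injective).trans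
      (Subgroup.equivMapOfInjective _ (MulAut.conj a).toMonoidHom (MulAut.conj a).injective)
  have hcomap : (((U.map K.subtype).map (MulAut.conj a).toMonoidHom).comap ι).map ι =
      (U.map K.subtype).map (MulAut.conj a).toMonoidHom := Subgroup.map_comap_eq_self hle
  let e₂ : ↥W ≃* ↥U :=
    (((Subgroup.equivMapOfInjective _ _ hinc).symm.trans
      (Subgroup.equivMapOfInjective _ ι hι)).trans (MulEquiv.subgroupCongr hcomap)).trans e₁.symm
  let π : ↥W →* ↥Q := ((f.comp U.subtype).codRestrict Q (fun u => hUQ ▸ ⟨u, u.2, rfl⟩)).comp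
    e₂.toMonoidHom
  have hπ : Function.Surjective π := by
    rintro ⟨q, hq⟩
    obtain ⟨u, hu, rfl⟩ := (hUQ.symm ▸ hq : q ∈ U.map f)
    exact ⟨e₂.symm ⟨u, hu⟩, Subtype.ext (by simp [π])⟩
  have hker : (π.ker.map W.subtype).subgroupOf W = π.ker :=
    Subgroup.comap_map_eq_self_of_injective W.subtype_injective _
  haveI hnorm : ((π.ker.map W.subtype).subgroupOf W).Normal := by
    rw [hker]
    infer_instance
  exact hfree ⟨W, π.ker.map W.subtype, hnorm,
    ⟨(QuotientGroup.quotientMulEquivOfEq hker).trans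
      (QuotientGroup.quotientKerEquivOfSurjective π hπ)⟩⟩

end Cfsg.Agent.S5299
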