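import Cfsg.Statements.S5306
import Cfsg.Agent.PLocal.Thompson
import Cfsg.Agent.Transfer.Fusion

set_option autoImplicit false
open Cfsg

namespace Cfsg.Agent.S5306

/-- Let P be a Sylow p-subgroup of the finite group X and J = J(P) its Thompson subgroup (generated by the elementary abelian subgroups of P of largest order). If x and y lie in the centre of J and y = g x g⁻¹ for some g in X, then y = n x n⁻¹ for some n in the normalizer N_X(J). -/
theorem result {X : Type*} [Group X] [Finite X] (p : ℕ) [Fact p.Prime] (P : Sylow p X) (J : Subgroup X) (hJ : J = Cfsg.thompsonSubgroupOf p (P : Subgroup X))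
    (x y : X) (hx : x ∈ J ∧ ∀ j ∈ J, Commute j x) (hy : y ∈ J ∧ ∀ j ∈ J, Commute j y) (g : X) (hg : g * x * g⁻¹ = y) :
    ∃ n ∈ Subgroup.normalizer (J : Set X), n * x * n⁻¹ = y := by
  subst hJ
  have hw : Cfsg.IsWeaklyClosed (Cfsg.thompsonSubgroupOf p (P : Subgroup X)) (P : Subgroup X) := by
    refine ⟨CfsgLib.PLocal.thompsonSubgroupOf_le _ _, fun k hk => ?_⟩
    have hinj := (MulAut.conj k).injective
    set J := Cfsg.thompsonSubgroupOf p (P : Subgroup X) with hJdef
    have hJJ : Cfsg.thompsonSubgroupOf p J = J :=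
      CfsgLib.PLocal.thompsonSubgroupOf_eq_of_le (CfsgLib.PLocal.thompsonSubgroupOf_le _ _) le_rfl
    refine Subgroup.eq_of_le_of_card_ge ?_ (Subgroup.card_map_of_injective hinj).ge
    calc J.map (MulAut.conj k).toMonoidHom
        = Cfsg.thompsonSubgroupOf p (J.map (MulAut.conj k).toMonoidHom) := by
          rw [← CfsgLib.PLocal.map_thompsonSubgroupOf hinj, hJJ]
      _ ≤ J := by
        obtain ⟨A, hA⟩ := CfsgLib.PLocal.maxEAIn_nonempty p (P : Subgroup X)
        have hAJ : A ∈ CfsgLib.PLocal.maxEAIn p J := by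
          rw [CfsgLib.PLocal.maxEAIn_of_le (CfsgLib.PLocal.thompsonSubgroupOf_le _ _) hA
            (CfsgLib.PLocal.le_thompsonSubgroupOf hA)]
          exact ⟨hA, CfsgLib.PLocal.le_thompsonSubgroupOf hA⟩
        have hA' : A.map (MulAut.conj k).toMonoidHom ∈
            CfsgLib.PLocal.maxEAIn p (J.map (MulAut.conj k).toMonoidHom) := by
          rw [CfsgLib.PLocal.map_maxEAIn (f := (MulAut.conj k).toMonoidHom) hinj]
          exact ⟨A, hAJ, rfl⟩
        have hA'P : A.map (MulAut.conj k).toMonoidHom ∈ CfsgLib.PLocal.maxEAIn p (P : Subgroup X) :=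
          ⟨hA'.1.trans hk, hA'.2.1, fun C hC hCe =>
            (hA.2.2 C hC hCe).trans (Subgroup.card_map_of_injective hinj).ge⟩
        rw [CfsgLib.PLocal.thompsonSubgroupOf_eq, CfsgLib.PLocal.maxEAIn_of_le hk hA'P hA'.1]
        exact sSup_le fun B hB => CfsgLib.PLocal.le_thompsonSubgroupOf hB.1
  obtain ⟨n, hn, h⟩ := CfsgLib.Transfer.exists_mem_normalizer_conj_of_weaklyClosed P hw
    (X := {x}) (g := g)
    (fun j hj z hz => by rw [Set.mem_singleton_iff] at hz; subst hz; exact (hx.2 j hj).symm.eq)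
    (fun j hj z hz => by
      rw [Set.image_singleton, Set.mem_singleton_iff] at hz
      subst hz
      rw [hg]
      exact (hy.2 j hj).symm.eq)
  exact ⟨n, hn, (h x rfl).trans hg⟩

end Cfsg.Agent.S5306
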