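import Cfsg.Statements.S5310
import Cfsg.Agent.FusionComponents.Basic

set_option autoImplicit false
open Cfsg

namespace Cfsg.Agent.S5310

/-- A saturated fusion system F over a finite p-group S is constrained (its largest normal subgroup O_p(F) is centric) if and only if the inner fusion system of O_p(F) is itself a generalized Fitting subsystem of F (that is, F*(F) = O_p(F)). -/
theorem result {Ω : Type*} [Group Ω] {S : Subgroup Ω} [Finite S] (p : ℕ) [Fact p.Prime] (hS : IsPGroup p S) (F : Cfsg.FusionSystem S) (hF : F.IsSaturated p) :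
    F.IsConstrained p ↔ (Cfsg.innerFusionSystem F.core).IsGeneralizedFittingOf F p := by
  constructor
  · intro hc
    exact ⟨⊥, _, CfsgLib.FusionComponents.isLayerOf_bot hS hF fun U C hC =>
      CfsgLib.FusionLayer.not_component_of_constrained hS hc hC,
      CfsgLib.FusionComponents.isCentralProductOf_bot F.core⟩
  · rintro ⟨T, E, hE, hcp⟩
    by_contra hnc
    obtain ⟨U, C, hC⟩ := CfsgLib.FusionLayer.exists_component _ hS F le_rfl hF hnc
    have := CfsgLib.Fusion.finite_of_le (CfsgLib.FusionLayer.le_of_isSubnormalIn hC.1)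
    obtain ⟨P, φ, hφ, x, hx⟩ := CfsgLib.FusionComponents.exists_apply_ne_of_quasisimple hC.2
    have : Finite T := CfsgLib.Fusion.finite_of_le hE.1.1.2.2.2.1.1
    have : Finite F.core := CfsgLib.Fusion.finite_of_le (CfsgLib.FusionFactor.isNormal_core F).1
    exact hx (CfsgLib.FusionComponents.apply_eq_of_centralProduct hcp (hE.2.1 U C hC P hφ) x)

end Cfsg.Agent.S5310
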