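import Cfsg.Statements.S5316
import Cfsg.Agent.FusionPearl.CaseB

set_option autoImplicit false
open Cfsg

namespace Cfsg.Agent.S5316

/-- Let p ≥ 5 be a prime, S a finite p-group of maximal class of order p^n with n ≥ 5 (nilpotency class n − 1), F a saturated fusion system over S, and E an F-essential subgroup that is not a pearl (not elementary abelian of order p² and not extraspecial of order p³ and exponent p). Then E has order at least p⁴. -/
theorem result {Ω : Type*} [Group Ω] {S : Subgroup Ω} [Finite S] (p : ℕ) [Fact p.Prime] (hp : 5 ≤ p) (hS : IsPGroup p ↥S) (n : ℕ) (hn : Nat.card S = p ^ n) (h5 : 5 ≤ n)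
    (hmax : Subgroup.lowerCentralSeries S (n - 2) ≠ ⊥) (F : Cfsg.FusionSystem S) (hF : F.IsSaturated p)
    (E : Subgroup Ω) (hE : F.IsEssential p E)
    (hnp : ¬ ((Nat.card ↥E = p ^ 2 ∧ Cfsg.IsElementaryAbelian p E) ∨ (Nat.card ↥E = p ^ 3 ∧ Cfsg.IsExtraspecial p ↥E ∧ Monoid.exponent ↥E = p))) :
    p ^ 4 ≤ Nat.card ↥E := by
  have hpp : p.Prime := Fact.out
  by_contra hlt
  push Not at hlt
  have := CfsgLib.Fusion.finite_of_le hE.1.1
  have hcyc := CfsgLib.FusionEssential.not_isCyclic_of_essential hE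
  obtain ⟨m, hm⟩ := IsPGroup.iff_card.1 (hS.to_le hE.1.1)
  rw [hm] at hlt
  have hm4 := (Nat.pow_lt_pow_iff_right hpp.one_lt).1 hlt
  obtain rfl | rfl | rfl | rfl : m = 0 ∨ m = 1 ∨ m = 2 ∨ m = 3 := by omega
  · rw [pow_zero] at hm
    exact hcyc (@isCyclic_of_subsingleton _ _ (Nat.card_eq_one_iff_unique.1 hm).1)
  · exact hcyc (isCyclic_of_prime_card (hm.trans (pow_one p)))
  · refine hnp (Or.inl ⟨hm, IsPGroup.isMulCommutative_of_card_eq_prime_sq hm, fun a ha => ?_⟩)
    by_contra hap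
    have h1 : (⟨a, ha⟩ : E) ^ (p ^ 2) = 1 := by rw [← hm]; exact pow_card_eq_one'
    have h2 : ¬ (⟨a, ha⟩ : E) ^ (p ^ 1) = 1 := fun h => hap (by simpa using congrArg Subtype.val h)
    exact hcyc (isCyclic_of_orderOf_eq_card (⟨a, ha⟩ : E) ((orderOf_eq_prime_pow h2 h1).trans hm.symm))
  · rcases CfsgLib.FusionEssential.essential_card_cube hS hE hm with hel | ⟨-, hex, hexp⟩ | ⟨h2, -⟩
    · exact CfsgLib.FusionPearl.Setting.false_of_target
        ⟨CfsgLib.PMaxClass.MaxClass.of_lower hpp hn hmax, h5, hp, hF⟩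
        ⟨CfsgLib.FusionPearl.soft_of_essential hE hel hm, hE.1⟩
    · refine hnp (Or.inr ⟨hm, hex, ?_⟩)
      have hdvd : Monoid.exponent E ∣ p := Monoid.exponent_dvd_of_forall_pow_eq_one fun g =>
        Subtype.ext (by simpa using hexp g g.2)
      refine ((Nat.dvd_prime hpp).1 hdvd).resolve_left fun h1 => ?_
      have := Monoid.exp_eq_one_iff.1 h1
      rw [Nat.card_of_subsingleton (1 : E)] at hm
      exact absurd hm.symm (Nat.one_lt_pow (by omega) hpp.one_lt).ne'
    · omega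

end Cfsg.Agent.S5316
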