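import Cfsg.Statements.S5324
import Cfsg.Agent.FusionSimple.DoubleCover.Transfer
import Cfsg.Agent.LyCert.Order
import Cfsg.Agent.LyLower.Main
import Cfsg.Agent.LyInvol.Cover

set_option autoImplicit false
open Cfsg

namespace Cfsg.Agent.S5324

/-- For a finite group G isomorphic to the Lyons group, the 2-fusion system of G on a Sylow 2-subgroup is simple: saturated, over a nontrivial 2-group, with no normal subsystem other than the trivial one and itself. -/
theorem result {G : Type*} [Group G] [Finite G] (hG : Cfsg.Spor.IsoLy G) (S : Sylow 2 G) : (Cfsg.groupFusionSystem (S : Subgroup G)).IsSimple 2 := by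
  haveI := CfsgLib.LyCert.isSimple_of_dvd CfsgLib.LyLower.card_dvd
  exact CfsgLib.FusionSimple.DoubleCover.isSimple_fusion_Ly CfsgLib.LyInvol.orderOf_tInv
    CfsgLib.LyInvol.isDoubleCover_tInv (CfsgLib.LyCert.card_eq_of_dvd CfsgLib.LyLower.card_dvd)
    CfsgLib.LyInvol.card_centralizer hG S

end Cfsg.Agent.S5324
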