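import Cfsg.Statements.S5331
import Cfsg.Agent.FusionSub.NormalS
import Cfsg.Agent.FusionSub.AbelianTwo

set_option autoImplicit false
open Cfsg

namespace Cfsg.Agent.S5331

/-- Let S be a finite abelian 2-group that is a direct product of cyclic groups of pairwise distinct orders 2^{a_1} < 2^{a_2} < ⋯ < 2^{a_n} (all a_i ≥ 1). Then every saturated fusion system over S is the inner one: its maps are exactly the conjugations by elements of S. -/
theorem result {Ω : Type*} [Group Ω] {S : Subgroup Ω} [Finite S] (n : ℕ) (a : Fin n → ℕ) (ha : StrictMono a) (ha1 : ∀ i, 1 ≤ a i) (e : ↥S ≃* Multiplicative ((i : Fin n) → ZMod (2 ^ a i))) (F : Cfsg.FusionSystem S) (hF : F.IsSaturated 2) (P : Subgroup Ω) : F.Hom P = (Cfsg.innerFusionSystem S).Hom P := by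
  have hab : ∀ x ∈ S, ∀ y ∈ S, x * y = y * x := fun x hx y hy => by
    have := congrArg e.symm (mul_comm (e ⟨x, hx⟩) (e ⟨y, hy⟩))
    simpa [Subtype.ext_iff] using this
  have hS : IsPGroup 2 S := by
    refine IsPGroup.of_card (n := ∑ i, a i) ?_
    rw [Nat.card_congr (e.toEquiv.trans Multiplicative.toAdd), Nat.card_pi]
    simp [Finset.prod_pow_eq_pow_sum]
  haveI : Fact (Nat.Prime 2) := ⟨Nat.prime_two⟩
  have htriv : ∀ α ∈ F.autGroup S, ∀ x : S, α x = x := by
    intro α hα x
    have hodd : Odd (Nat.card (F.autGroup S)) :=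
      Nat.not_even_iff_odd.1 fun h => CfsgLib.FusionSub.not_dvd_card_autGroup_self hS hF hab
        (even_iff_two_dvd.1 h)
    let f := MulEquiv.toAdditive (((e.symm.trans α).trans e) :
      Multiplicative ((i : Fin n) → ZMod (2 ^ a i)) ≃* Multiplicative ((i : Fin n) → ZMod (2 ^ a i)))
    let g : ((i : Fin n) → ZMod (2 ^ a i)) ≃+ ((i : Fin n) → ZMod (2 ^ a i)) :=
      { toFun := fun v => Multiplicative.toAdd (e (α (e.symm (Multiplicative.ofAdd v))))
        invFun := fun v => Multiplicative.toAdd (e (α.symm (e.symm (Multiplicative.ofAdd v))))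
        left_inv := fun v => by simp
        right_inv := fun v => by simp
        map_add' := fun v w => by simp }
    have hit : ∀ (k : ℕ) (v : (i : Fin n) → ZMod (2 ^ a i)),
        (⇑g)^[k] v = Multiplicative.toAdd (e ((α ^ k) (e.symm (Multiplicative.ofAdd v)))) := by
      intro k v
      induction k with
      | zero => simp
      | succ k ih =>
        rw [Function.iterate_succ_apply', ih, pow_succ', MulAut.mul_apply]
        simp [g]
    have hpow : α ^ Nat.card (F.autGroup S) = 1 :=
      congrArg Subtype.val (pow_card_eq_one' : (⟨α, hα⟩ : F.autGroup S) ^ Nat.card (F.autGroup S) = 1)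
    have h := CfsgLib.FusionSub.eq_self_of_odd_pow ha ha1 g hodd
      (funext fun v => by rw [hit, hpow]; simp) (Multiplicative.toAdd (e x))
    simpa [g] using h
  refine Set.Subset.antisymm (fun φ hφ => ?_) ?_
  · obtain ⟨α, hα, hv⟩ := CfsgLib.FusionSub.exists_aut_extending hS hF hab hφ
    exact ⟨(F.le_of_mem hφ).1, 1, S.one_mem, fun x => by rw [hv, htriv α hα]; simp⟩
  · rintro φ ⟨hP, g, hg, h⟩
    exact CfsgLib.Fusion.conj_mem' hP hg h

end Cfsg.Agent.S5331
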