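import Cfsg.Statements.S5332
import Cfsg.Agent.WeakClosed.FusionSparse

set_option autoImplicit false
open Cfsg

namespace Cfsg.Agent.S5332

/-- Let p be odd and F a saturated fusion system over a finite p-group S that is not the inner system of S. Then F contains a saturated constrained subsystem over S that is itself not the inner system. -/
theorem result {Ω : Type*} [Group Ω] {S : Subgroup Ω} [Finite S] (p : ℕ) [Fact p.Prime] (hS : IsPGroup p S) (F : Cfsg.FusionSystem S) (hF : F.IsSaturated p) (hp : p ≠ 2) (hne : ∃ P : Subgroup Ω, F.Hom P ≠ (Cfsg.innerFusionSystem S).Hom P) : ∃ E : Cfsg.FusionSystem S, E ≤ F ∧ E.IsConstrained p ∧ ∃ P : Subgroup Ω, E.Hom P ≠ (Cfsg.innerFusionSystem S).Hom P := by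
  classical
  have hne' : ¬ CfsgLib.WeakClosed.AllInner F := fun h => by
    obtain ⟨P, hP⟩ := hne
    exact hP (h.hom_eq P)
  have hex : ∃ k, ∃ E : Cfsg.FusionSystem S, E ≤ F ∧ E.IsSaturated p ∧
      ¬ CfsgLib.WeakClosed.AllInner E ∧ (CfsgLib.FusionThompson.mapSet E).ncard = k :=
    ⟨_, F, fun P => subset_rfl, hF, hne', rfl⟩
  obtain ⟨E, hEF, hEs, hEne, hk⟩ := Nat.find_spec hex
  refine ⟨E, hEF, CfsgLib.WeakClosed.isConstrained_of_sparse hS hEs (Or.inl hp) hEne
    fun E' hE's hE'le => ?_, ?_⟩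
  · by_cases hin : CfsgLib.WeakClosed.AllInner E'
    · exact Or.inr hin
    refine Or.inl fun P => ?_
    have hsub : CfsgLib.FusionThompson.mapSet E' ⊆ CfsgLib.FusionThompson.mapSet E :=
      fun x hx => hE'le x.1 hx
    have hmin := Nat.find_min' hex ⟨E', fun P => (hE'le P).trans (hEF P), hE's, hin, rfl⟩
    have heq := Set.eq_of_subset_of_ncard_le hsub (hk.le.trans hmin)
      (CfsgLib.FusionThompson.mapSet_finite E)
    ext φ
    exact ⟨fun h => hE'le P h, fun h => heq.symm.subset (show (⟨P, φ⟩ : Σ P : Subgroup Ω, P →* Ω) ∈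
      CfsgLib.FusionThompson.mapSet E from h)⟩
  · by_contra hcon
    push Not at hcon
    exact hEne fun P φ hφ => hcon P ▸ hφ

end Cfsg.Agent.S5332
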