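import Cfsg.Statements.S5338
import Cfsg.Agent.FusionSub.Extension

set_option autoImplicit false
open Cfsg

namespace Cfsg.Agent.S5338

/-- Let F be a saturated fusion system over a finite p-group S and F′ ≤ F a saturated subsystem over all of S that is invariant under F in the conjugation sense: for every map φ of F with source Q and every map ψ of F′ between subgroups R ≤ Q (with values in Q), the transported map φψφ⁻¹ defined on φ(R) is again a map of F′. If moreover Aut_{F′}(S) = Aut_F(S), then F′ = F. -/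
theorem result {Ω : Type*} [Group Ω] {S : Subgroup Ω} [Finite S] (p : ℕ) [Fact p.Prime] (hS : IsPGroup p S) (F : Cfsg.FusionSystem S) (hF : F.IsSaturated p) (F' : Cfsg.FusionSystem S) (hF' : F'.IsSaturated p) (hle : F' ≤ F) (hinv : ∀ (Q : Subgroup Ω) (φ : ↥Q →* Ω), φ ∈ F.Hom Q → ∀ (R : Subgroup Ω) (hRQ : R ≤ Q) (ψ : ↥R →* Ω), ψ ∈ F'.Hom R → ∀ (hψQ : ∀ x : R, ψ x ∈ Q), ∃ χ ∈ F'.Hom ((R.subgroupOf Q).map φ), ∀ (x : R) (hx : φ ⟨(x : Ω), hRQ x.2⟩ ∈ (R.subgroupOf Q).map φ), χ ⟨φ ⟨(x : Ω), hRQ x.2⟩, hx⟩ = φ ⟨ψ x, hψQ x⟩) (htop : F'.autGroup S = F.autGroup S) (P : Subgroup Ω) : F'.Hom P = F.Hom P := by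
  refine CfsgLib.FusionSub.hom_eq_of_invariant hS hF hF' hle ?_ htop P
  intro Q hQ α hα β hβ
  have hα' := (CfsgLib.Fusion.mem_autGroup_iff hQ).1 hα
  obtain ⟨χ, hχ, hv⟩ := hinv Q _ hα' Q le_rfl _ ((CfsgLib.Fusion.mem_autGroup_iff hQ).1 hβ) (fun x => (β x).2)
  have himg : (Q.subgroupOf Q).map (Q.subtype.comp α.toMonoidHom) = Q :=
    (CfsgLib.Fusion.imgHom_self _).trans (CfsgLib.Fusion.range_subtype_comp α)
  refine (CfsgLib.Fusion.mem_autGroup_iff hQ).2 (CfsgLib.Fusion.mem_of_eq himg.symm hχ fun y hy => ?_)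
  obtain ⟨x, hx⟩ := α.surjective ⟨y, hy⟩
  have hxy : (α x : Ω) = y := congrArg Subtype.val hx
  have h := hv x (by rw [himg]; exact (α x).2)
  refine Eq.trans ?_ (h.symm.trans (congrArg χ (Subtype.ext hxy)))
  show ((α * β * α⁻¹) ⟨y, hy⟩ : Ω) = (α ⟨(β x : Q), _⟩ : Ω)
  rw [MulAut.mul_apply, MulAut.mul_apply, ← hx, MulAut.inv_apply, MulEquiv.symm_apply_apply]

end Cfsg.Agent.S5338
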