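import Cfsg.Statements.S5345
import Cfsg.Agent.Transpositions.WidthOne

set_option autoImplicit false
open Cfsg CfsgLib.Transpositions

namespace Cfsg.Agent.S5345

/-- Let D be a conjugation-invariant generating set of 3-transpositions of a finite group G and T a Sylow 2-subgroup of G. Then the members of D lying in T generate an abelian subgroup, and their number is the width of D (the largest number of pairwise commuting members of D). -/
theorem result {G : Type*} [Group G] [Finite G] {D : Set G} (hD : Cfsg.IsThreeTranspositionGroup D) (T : Sylow 2 G) : IsMulCommutative (Subgroup.closure {d : G | d ∈ D ∧ d ∈ T}) ∧ {d : G | d ∈ D ∧ d ∈ T}.ncard = Cfsg.commutingWidth D := by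
  obtain ⟨hD, hconj, -⟩ := hD
  haveI : Fact (Nat.Prime 2) := ⟨Nat.prime_two⟩
  have hcomm : ∀ a ∈ {d : G | d ∈ D ∧ d ∈ T}, ∀ b ∈ {d : G | d ∈ D ∧ d ∈ T}, Commute a b :=
    fun a ha b hb => commute_of_isPGroup hD ha.1 hb.1 Nat.prime_two (by norm_num) T.isPGroup'
      (mul_mem ha.2 hb.2)
  refine ⟨Subgroup.isMulCommutative_closure fun a ha b hb => hcomm a ha b hb, ?_⟩
  refine le_antisymm (le_commutingWidth (fun x hx => hx.1) hcomm) (commutingWidth_le fun E hE hc => ?_)
  haveI : IsMulCommutative (Subgroup.closure E) :=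
    Subgroup.isMulCommutative_closure fun a ha b hb => hc a ha b hb
  have hP : IsPGroup 2 (Subgroup.closure E) := by
    rintro ⟨x, hx⟩
    refine ⟨1, Subtype.ext ?_⟩
    show x ^ 2 = 1
    induction hx using Subgroup.closure_induction with
    | mem y hy => rw [pow_two]; exact sq hD (hE hy)
    | one => simp
    | mul y z hy hz h1 h2 =>
      have hyz : Commute y z := congrArg Subtype.val
        ((inferInstance : IsMulCommutative (Subgroup.closure E)).is_comm.comm ⟨y, hy⟩ ⟨z, hz⟩)
      rw [hyz.mul_pow, h1, h2, one_mul]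
    | inv y _ h => rw [inv_pow, h, inv_one]
  obtain ⟨Q, hQ⟩ := hP.exists_le_sylow
  obtain ⟨g, hg⟩ := MulAction.exists_smul_eq G Q T
  have hsub : (fun x => g * x * g⁻¹) '' E ⊆ {d : G | d ∈ D ∧ d ∈ T} := by
    rintro _ ⟨x, hx, rfl⟩
    refine ⟨hconj g x (hE hx), ?_⟩
    rw [← hg]
    exact Subgroup.smul_mem_pointwise_smul x (MulAut.conj g) _ (hQ (Subgroup.subset_closure hx))
  rw [← Set.ncard_image_of_injective E (f := fun x => g * x * g⁻¹)
    (fun x y h => by simpa using h)]
  exact Set.ncard_le_ncard hsub (Set.toFinite _)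

end Cfsg.Agent.S5345
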