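import Cfsg.Statements.S5347
import Cfsg.Agent.Transpositions.Basic

set_option autoImplicit false
open Cfsg CfsgLib.Transpositions

namespace Cfsg.Agent.S5347

/-- Let D be a conjugation-invariant generating set of 3-transpositions of a finite group G, p a prime bigger than 3, and P a p-subgroup of G. If a member d of D normalizes P then d centralizes P. -/
theorem result {G : Type*} [Group G] [Finite G] {D : Set G} (hD : Cfsg.IsThreeTranspositionGroup D) {p : ℕ} (hp : p.Prime) (hp3 : 3 < p) (P : Subgroup G) (hP : IsPGroup p P) {d : G} (hd : d ∈ D) (hnorm : d ∈ Subgroup.normalizer (P : Set G)) : ∀ x ∈ P, Commute d x := by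
  obtain ⟨hD, hconj, -⟩ := hD
  intro x hx
  have hxd : x * d * x⁻¹ ∈ D := hconj x d hd
  have hmem : x * d * x⁻¹ * d ∈ P := by
    have h := (Subgroup.mem_normalizer_iff.1 hnorm x⁻¹).1 (inv_mem hx)
    rw [inv_eq hD hd] at h
    simpa [mul_assoc] using mul_mem hx h
  have hc : Commute (x * d * x⁻¹) d := commute_of_isPGroup hD hxd hd hp (by omega) hP hmem
  have heq : x * d * x⁻¹ = d := eq_of_commute_of_isPGroup hD hxd hd hp (by omega) hP hmem hc
  exact (mul_inv_eq_iff_eq_mul.1 heq).symm

end Cfsg.Agent.S5347
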