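import Cfsg.Statements.S5351
import Cfsg.Agent.Transpositions.Components

set_option autoImplicit false
open Cfsg CfsgLib.Transpositions

namespace Cfsg.Agent.S5351

/-- Let D be a conjugacy class of 3-transpositions generating the finite group G, with at least two members. Then for every prime p > 3 the largest normal p-subgroup of G is central, and exactly one of the following holds: the largest normal 2-subgroup of G is not central; the largest normal 3-subgroup of G is not central; the layer of G (the product of its components) is non-trivial. -/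
theorem result {G : Type*} [Group G] [Finite G] {D : Set G} (hD : Cfsg.IsThreeTranspositionClass D) (hD2 : ∃ a ∈ D, ∃ b ∈ D, a ≠ b) : (∀ p : ℕ, p.Prime → 3 < p → Cfsg.pCore p G ≤ Subgroup.center G) ∧ ((¬ Cfsg.pCore 2 G ≤ Subgroup.center G ∧ Cfsg.pCore 3 G ≤ Subgroup.center G ∧ Cfsg.layer G = ⊥) ∨ (Cfsg.pCore 2 G ≤ Subgroup.center G ∧ ¬ Cfsg.pCore 3 G ≤ Subgroup.center G ∧ Cfsg.layer G = ⊥) ∨ (Cfsg.pCore 2 G ≤ Subgroup.center G ∧ Cfsg.pCore 3 G ≤ Subgroup.center G ∧ Cfsg.layer G ≠ ⊥)) := by
  have hG := isThreeTranspositionGroup_of_class hD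
  refine ⟨fun p hp h3 => pCore_le_center_of_three_lt hG hp h3, ?_⟩
  obtain ⟨a, ha, hab⟩ := hD2
  by_cases h2 : pCore 2 G ≤ Subgroup.center G
  · by_cases h3 : pCore 3 G ≤ Subgroup.center G
    · refine Or.inr (Or.inr ⟨h2, h3, ?_⟩)
      obtain ⟨L, hL, -, hlayer, -⟩ :=
        exists_component_of_central hD ⟨a, ha, hab⟩ h2 h3
      rw [hlayer]
      exact CfsgLib.Components.IsComponent.ne_bot hL
    · obtain ⟨w, hw, hne⟩ := exists_wRel_of_not_central hD h3 a ha
      exact Or.inr (Or.inl ⟨h2, h3, layer_eq_bot_of_wRel hD ha hw hne⟩)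
  · obtain ⟨v, hv, hne⟩ := exists_vRel_of_not_central hD h2 a ha
    refine Or.inl ⟨h2, ?_, layer_eq_bot_of_vRel hD ha hv hne⟩
    by_contra h3
    obtain ⟨w, hw, hne'⟩ := exists_wRel_of_not_central hD h3 a ha
    have hvw : v ∈ perp D w := hw.2 ▸ ⟨hv.1, hne, hv.commute⟩
    have hdw : Commute a w := (hv.2 w hw.1).1 hvw.2.2.symm
    exact hne' (hw.eq_of_commute hdw).symm

end Cfsg.Agent.S5351
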