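import Cfsg.Statements.S5361
import Cfsg.Agent.Transpositions.Simplicity

set_option autoImplicit false
open Cfsg CfsgLib.Transpositions

namespace Cfsg.Agent.S5361

/-- Let D be a conjugacy class of 3-transpositions generating the finite group G, and suppose the centre of G is trivial and some two different members of D commute. Then the following are equivalent: (1) the commutator subgroup of G is simple (possibly of prime order); (2) G acts primitively on D by conjugation; (3) the largest normal 2-subgroup and the largest normal 3-subgroup of G are trivial and the commuting graph of D is connected. -/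
theorem result {G : Type*} [Group G] [Finite G] {D : Set G} (hD : Cfsg.IsThreeTranspositionClass D) (hZ : Subgroup.center G = ⊥) (hw : ∃ a ∈ D, ∃ b ∈ D, a ≠ b ∧ Commute a b) : (IsSimpleGroup (commutator G) ↔ Cfsg.IsPrimitiveUnderConj D) ∧ (Cfsg.IsPrimitiveUnderConj D ↔ (Cfsg.pCore 2 G = ⊥ ∧ Cfsg.pCore 3 G = ⊥ ∧ (Cfsg.commutingGraph D).Connected)) := by
  have hG := isThreeTranspositionGroup_of_class hD
  refine ⟨⟨fun h => primitive_of_isSimpleGroup_commutator hD hw hZ h,
    fun h => isSimpleGroup_commutator_of_primitive hG h hw hZ⟩,
    ⟨fun h => cores_of_primitive hG h hw hZ, fun ⟨h2, h3, hc⟩ => ?_⟩⟩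
  obtain ⟨a, ha, b, hb, hab, -⟩ := hw
  exact primitive_of_cores hD ⟨a, ha, b, hb, hab⟩ (by rw [h2]; exact bot_le)
    (by rw [h3]; exact bot_le) hc

end Cfsg.Agent.S5361
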