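import Cfsg.Statements.S5363


set_option autoImplicit false
open Cfsg

namespace Cfsg.Agent.S5363

/-- Let D be a conjugation-invariant set of involutions of a finite group G. Then every product of two members of D has odd order or order 2 if and only if, for every a in D and every b in D different from a and commuting with a, the members of D commuting with a b are exactly those commuting with both a and b. -/
theorem result {G : Type*} [Group G] [Finite G] {D : Set G} (hinv : ∀ d ∈ D, orderOf d = 2) (hconj : ∀ g : G, ∀ d ∈ D, g * d * g⁻¹ ∈ D) : (∀ a ∈ D, ∀ b ∈ D, Odd (orderOf (a * b)) ∨ orderOf (a * b) = 2) ↔ ∀ a ∈ D, ∀ b ∈ D, b ≠ a → Commute a b → {y : G | y ∈ D ∧ Commute (a * b) y} = {y : G | y ∈ D ∧ Commute a y} ∩ {y : G | y ∈ D ∧ Commute b y} := by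
  have inv : ∀ d ∈ D, d * d = 1 := fun d hd => by
    have h := pow_orderOf_eq_one d
    rwa [hinv d hd, pow_two] at h
  have inv' : ∀ d ∈ D, d⁻¹ = d := fun d hd => inv_eq_of_mul_eq_one_left (inv d hd)
  have comm : ∀ a ∈ D, ∀ b ∈ D, (a * b) ^ 2 = 1 → Commute a b := fun a ha b hb h => by
    rw [pow_two, mul_eq_one_iff_eq_inv, mul_inv_rev, inv' a ha, inv' b hb] at h
    exact h
  constructor
  · intro hord a ha b hb hne hab
    ext y
    constructor
    · rintro ⟨hy, hyab⟩
      suffices hya : Commute a y by
        refine ⟨⟨hy, hya⟩, hy, ?_⟩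
        have : b = a⁻¹ * (a * b) := by rw [inv_mul_cancel_left]
        rw [this]
        exact hya.inv_left.mul_left hyab
      by_contra hn
      have hn' : ¬ Commute b y := fun h => hn (by
        have : a = a * b * b⁻¹ := by rw [mul_inv_cancel_right]
        rw [this]
        exact hyab.mul_left h.inv_left)
      have key : a * y * a = b * y * b := by
        have h1 : y * a * b = a * b * y := by rw [mul_assoc]; exact hyab.symm.eq
        calc a * y * a = a * (y * a * b) * b⁻¹ := by group
          _ = a * (a * b * y) * b := by rw [h1, inv' b hb]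
          _ = (a * a) * (b * y * b) := by group
          _ = b * y * b := by rw [inv a ha, one_mul]
      have hu2 : (y * a) ^ 2 = (y * b) ^ 2 := by
        calc (y * a) ^ 2 = y * (a * y * a) := by rw [pow_two]; group
          _ = (y * b) ^ 2 := by rw [key, pow_two]; group
      have hodd : ∀ c ∈ D, ¬ Commute c y → Odd (orderOf (y * c)) := fun c hc hcy => by
        rcases hord y hy c hc with h | h
        · exact h
        · refine absurd (comm y hy c hc ?_).symm hcy
          rw [← h]; exact pow_orderOf_eq_one _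
      obtain ⟨j, hj⟩ := hodd a ha hn
      obtain ⟨i, hi⟩ := hodd b hb hn'
      have hu : (y * a) ^ (2 * j + 1) = 1 := hj ▸ pow_orderOf_eq_one _
      have hdvd : orderOf (y * b) ∣ 2 * j + 1 := by
        have h1 : (y * b) ^ (2 * (2 * j + 1)) = 1 := by
          rw [pow_mul, ← hu2, ← pow_mul, mul_comm, pow_mul, hu, one_pow]
        refine Nat.Coprime.dvd_of_dvd_mul_left ?_ (orderOf_dvd_of_pow_eq_one h1)
        rw [Nat.coprime_two_right]
        exact ⟨i, hi⟩
      have hv : (y * b) ^ (2 * j + 1) = 1 := orderOf_dvd_iff_pow_eq_one.1 hdvd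
      have h' : y * a = y * b :=
        calc y * a = (y * a) ^ (2 * j + 1) * (y * a) := by rw [hu, one_mul]
          _ = ((y * a) ^ 2) ^ (j + 1) := by rw [← pow_succ, ← pow_mul]; ring_nf
          _ = ((y * b) ^ 2) ^ (j + 1) := by rw [hu2]
          _ = (y * b) ^ (2 * j + 1) * (y * b) := by rw [← pow_succ, ← pow_mul]; ring_nf
          _ = y * b := by rw [hv, one_mul]
      exact hne (mul_left_cancel h').symm
    · rintro ⟨⟨hy, h1⟩, -, h2⟩
      exact ⟨hy, h1.mul_left h2⟩
  · intro h a ha b hb
    rcases Nat.even_or_odd (orderOf (a * b)) with ⟨m, hm⟩ | ho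
    swap
    · exact Or.inl ho
    refine Or.inr ?_
    by_contra h2
    have hpos : 0 < orderOf (a * b) := orderOf_pos _
    have hc1 : (a * b) ^ m ≠ 1 := pow_ne_one_of_lt_orderOf (by omega) (by omega)
    have hc2 : ((a * b) ^ m)⁻¹ = (a * b) ^ m := by
      apply inv_eq_of_mul_eq_one_left
      rw [← pow_add, ← hm, pow_orderOf_eq_one]
    have hflip : a * (a * b) * a⁻¹ = (a * b)⁻¹ := by
      rw [mul_inv_rev, inv' a ha, inv' b hb, ← mul_assoc, inv a ha, one_mul]
    have hca : Commute a ((a * b) ^ m) := by
      have h3 : a * (a * b) ^ m * a⁻¹ = (a * b) ^ m := by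
        rw [← conj_pow, hflip, inv_pow, hc2]
      exact mul_inv_eq_iff_eq_mul.1 h3
    have hcab : Commute ((a * b) ^ m) (a * b) := (Commute.refl (a * b)).pow_left m
    have hcb : Commute ((a * b) ^ m) b := by
      have := hca.symm.inv_right.mul_right hcab
      rwa [inv_mul_cancel_left] at this
    have heD : a * (a * b) ^ m ∈ D := by
      have hsw : ∀ k : ℕ, a * (a * b) ^ k = ((a * b) ^ k)⁻¹ * a := fun k => by
        rw [← inv_pow, ← hflip, conj_pow, inv_mul_cancel_right]
      rcases Nat.even_or_odd m with ⟨k, hk⟩ | ⟨k, hk⟩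
      · rw [hk, pow_add, ← mul_assoc, hsw]
        simpa using hconj ((a * b) ^ k)⁻¹ a ha
      · have hk' : m = k + (1 + k) := by omega
        rw [hk', pow_add, pow_add, pow_one, ← mul_assoc, hsw]
        have : ((a * b) ^ k)⁻¹ * a * (a * b * (a * b) ^ k)
            = ((a * b) ^ k)⁻¹ * ((a * a) * b) * (((a * b) ^ k)⁻¹)⁻¹ := by
          simp only [inv_inv, mul_assoc]
        rw [this, inv a ha, one_mul]
        exact hconj _ b hb
    have hne : a * (a * b) ^ m ≠ a := fun h3 => hc1 (mul_eq_left.1 h3)
    have hset := h a ha _ heD hne ((Commute.refl a).mul_right hca)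
    have hmem : b ∈ {y : G | y ∈ D ∧ Commute (a * (a * (a * b) ^ m)) y} := by
      refine ⟨hb, ?_⟩
      rwa [← mul_assoc, inv a ha, one_mul]
    rw [hset] at hmem
    have hab2 : (a * b) ^ 2 = 1 := by
      rw [hmem.1.2.mul_pow, pow_two, pow_two, inv a ha, inv b hb, one_mul]
    have := orderOf_dvd_of_pow_eq_one hab2
    have hle := Nat.le_of_dvd two_pos this
    omega

end Cfsg.Agent.S5363
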