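import Cfsg.Statements.S5364
import Cfsg.Agent.Transpositions.Basic

set_option autoImplicit false
open Cfsg CfsgLib.Transpositions

namespace Cfsg.Agent.S5364

/-- Let D be a conjugation-invariant set of involutions of a finite group G and t an involution in the centre of G such that d t does not lie in D for any d in D. If the images of the members of D in G modulo the subgroup generated by t satisfy the 3-transposition order conditions (each has order 2 and any two have product of order at most 3), then so do the members of D. -/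
theorem result {G : Type*} [Group G] [Finite G] {D : Set G} (hinv : ∀ d ∈ D, orderOf d = 2) (hconj : ∀ g : G, ∀ d ∈ D, g * d * g⁻¹ ∈ D) (t : G) (ht : orderOf t = 2) (htZ : t ∈ Subgroup.center G) (hDt : ∀ d ∈ D, d * t ∉ D) [(Subgroup.zpowers t).Normal] (himg : Cfsg.IsThreeTranspositionSet ((QuotientGroup.mk : G → G ⧸ Subgroup.zpowers t) '' D)) : Cfsg.IsThreeTranspositionSet D := by
  refine ⟨hinv, fun d hd e he => ?_⟩
  have hd2 : d * d = 1 := CfsgLib.SporB.mul_self_of_orderTwo (hinv d hd)
  have he2 : e * e = 1 := CfsgLib.SporB.mul_self_of_orderTwo (hinv e he)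
  have hdi : d⁻¹ = d := CfsgLib.SporB.inv_of_orderTwo (hinv d hd)
  have hei : e⁻¹ = e := CfsgLib.SporB.inv_of_orderTwo (hinv e he)
  have hmem : ∀ z : G, z ∈ Subgroup.zpowers t → z = 1 ∨ z = t := by
    intro z hz
    obtain ⟨k, rfl⟩ := Subgroup.mem_zpowers_iff.1 hz
    have ht2 : t ^ (2 : ℤ) = 1 := by
      rw [zpow_two]; exact CfsgLib.SporB.mul_self_of_orderTwo ht
    rcases Int.even_or_odd' k with ⟨m, rfl | rfl⟩
    · exact Or.inl (by rw [zpow_mul, ht2, one_zpow])
    · exact Or.inr (by rw [zpow_add_one, zpow_mul, ht2, one_zpow, one_mul])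
  rcases himg.2 _ ⟨d, hd, rfl⟩ _ ⟨e, he, rfl⟩ with h | h <;>
    rw [← QuotientGroup.mk_mul, ← QuotientGroup.mk_pow, QuotientGroup.eq_one_iff] at h <;>
    rcases hmem _ h with h | h
  · exact Or.inl h
  · exfalso
    apply hDt d hd
    have hx : e * d * e ∈ D := by simpa [hei] using hconj e d hd
    have key : d * t = e * d * e := by
      rw [← h, pow_two]
      simp only [← mul_assoc, hd2, one_mul]
    rwa [key]
  · exact Or.inr h
  · exfalso
    apply hDt d hd
    have hx : (e * d) * e * (e * d)⁻¹ ∈ D := hconj (e * d) e he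
    have key : d * t = (e * d) * e * (e * d)⁻¹ := by
      rw [← h, mul_inv_rev, hdi, hei, pow_succ, pow_two]
      simp only [← mul_assoc, hd2, one_mul]
    rwa [key]

end Cfsg.Agent.S5364
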