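import Cfsg.Statements.S5382
import Cfsg.Agent.HallJanko.Setup
import Cfsg.Agent.HallJanko.Local
import Cfsg.Agent.ThompsonWielandt.Basic
-- import your own Cfsg.Agent.* helpers here

set_option autoImplicit false
open Cfsg

namespace Cfsg.Agent.S5382

/-- Let G be a finite group of Hall–Janko type: it has more than one class of involutions and an involution z whose centralizer C has generalized Fitting subgroup Q extraspecial of order 32 with C/Q isomorphic to the commutator subgroup of the isometry group of the elliptic quadratic form in dimension 4 over the field with two elements (the alternating group of degree 5), with z not weakly closed in Q. Then for every involution t not conjugate to z, the centralizer of t is isomorphic to the direct product of an elementary abelian group of order 4 and the alternating group of degree 5, and the normalizer of the largest normal 2-subgroup of that centralizer is isomorphic to the direct product of the alternating groups of degrees 4 and 5. -/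
theorem result {G : Type*} [Group G] [Finite G] (z : G) (hz : orderOf z = 2) (Q : Subgroup (Subgroup.centralizer ({z} : Set G))) [Q.Normal] (hF : Cfsg.generalizedFittingSubgroup (Subgroup.centralizer ({z} : Set G)) = Q) (hQ : Cfsg.IsExtraspecial 2 Q) (hcard : Nat.card Q = 2 ^ 5) (e : (Subgroup.centralizer ({z} : Set G)) ⧸ Q ≃* Cfsg.Omega (ZMod 2) (Cfsg.quadFormMinus 1 (ZMod 2) 1 1)) (hnwc : ∃ g : G, (∃ hq : g * z * g⁻¹ ∈ Subgroup.centralizer ({z} : Set G), (⟨g * z * g⁻¹, hq⟩ : Subgroup.centralizer ({z} : Set G)) ∈ Q) ∧ g * z * g⁻¹ ≠ z) (hcl : ∃ x y : G, orderOf x = 2 ∧ orderOf y = 2 ∧ ¬ IsConj x y) (t : G) (ht : orderOf t = 2) (htz : ¬ IsConj t z) : Nonempty (↥(Subgroup.centralizer ({t} : Set G)) ≃* (Multiplicative (ZMod 2) × Multiplicative (ZMod 2)) × alternatingGroup (Fin 5)) ∧ Nonempty (↥(Subgroup.normalizer (((Cfsg.pCore 2 ↥(Subgroup.centralizer ({t} : Set G))).map (Subgroup.subtype (Subgroup.centralizer ({t} : Set G))) : Subgroup G) : Set G)) ≃* alternatingGroup (Fin 4) × alternatingGroup (Fin 5)) := by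
  have hc := CfsgLib.HallJanko.core_of_hyp z hz Q hF hQ hcard e hnwc hcl
  obtain ⟨L⟩ := hc.exists_locdata
  obtain ⟨X0, c⟩ := L.exists_comp hc
  obtain ⟨g, rfl⟩ := isConj_iff.1
    ((hc.classes L.ht L.ht2 L.htQ ht).resolve_left fun h => htz h.symm)
  obtain ⟨⟨eX⟩, hcore, ⟨eN⟩⟩ := L.centralizer_structure hc c
  obtain ⟨φ, hφ⟩ : ∃ φ : G ≃* G, ∀ x, φ x = g * x * g⁻¹ := ⟨MulAut.conj g, fun x => rfl⟩
  have hcent : (Subgroup.centralizer ({L.t} : Set G)).map φ.toMonoidHom =
      Subgroup.centralizer ({g * L.t * g⁻¹} : Set G) := by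
    ext x
    rw [Subgroup.mem_map_equiv, Subgroup.mem_centralizer_singleton_iff,
      Subgroup.mem_centralizer_singleton_iff]
    have hs : φ.symm x = g⁻¹ * x * g := by
      rw [MulEquiv.symm_apply_eq, hφ]; group
    rw [hs]
    constructor <;> intro e
    · calc x * (g * L.t * g⁻¹) = g * (g⁻¹ * x * g * L.t) * g⁻¹ := by group
        _ = g * L.t * g⁻¹ * x := by rw [e]; group
    · calc g⁻¹ * x * g * L.t = g⁻¹ * (x * (g * L.t * g⁻¹)) * g := by group
        _ = L.t * (g⁻¹ * x * g) := by rw [e]; group
  let eC := ((Subgroup.centralizer ({L.t} : Set G)).equivMapOfInjective φ.toMonoidHom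
    φ.injective).trans (MulEquiv.subgroupCongr hcent)
  have heC : ∀ x, ((eC x : Subgroup.centralizer ({g * L.t * g⁻¹} : Set G)) : G) = φ x :=
    fun x => rfl
  refine ⟨⟨eC.symm.trans eX⟩, ?_⟩
  have hcore' : (Cfsg.pCore 2 ↥(Subgroup.centralizer ({g * L.t * g⁻¹} : Set G))).map
      (Subgroup.centralizer ({g * L.t * g⁻¹} : Set G)).subtype = (L.V hc).map φ.toMonoidHom := by
    rw [← CfsgLib.ThompsonWielandt.map_pCore_equiv 2 eC, Subgroup.map_map, ← hcore, Subgroup.map_map]
    exact congrArg (fun ψ => Subgroup.map ψ (Cfsg.pCore 2 ↥(Subgroup.centralizer ({L.t} : Set G)))) (MonoidHom.ext fun x => heC x)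
  rw [hcore', ← Subgroup.map_equiv_normalizer_eq]
  exact ⟨((Subgroup.normalizer (L.V hc : Set G)).equivMapOfInjective φ.toMonoidHom
    φ.injective).symm.trans eN⟩

end Cfsg.Agent.S5382
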