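import Cfsg.Statements.S5385
import Cfsg.Agent.ConwayFive.Recognise
import Cfsg.Agent.ConwayFive.Layer

set_option autoImplicit false
set_option linter.style.haveILetI false
open Cfsg

namespace Cfsg.Agent.S5385

open CfsgLib.ConwayType in
/-- Let G be a finite group of Conway type (involution z with generalized Fitting subgroup Q of its centralizer C extraspecial of order 2^9, C/Q the commutator subgroup of the isometry group of the hyperbolic quadratic form in dimension 8 over the field with two elements, z not weakly closed in Q), and let B be a subgroup of C of order 5 such that the centralizer of B in Q is extraspecial of order 32 containing no elementary abelian subgroup of order 8 (the quaternion-times-dihedral type). Then the layer L of the centralizer of B in G is isomorphic to the Hall–Janko group and the centralizer of L is isomorphic to the alternating group of degree 5. -/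
theorem result {G : Type*} [Group G] [Finite G] (z : G) (hz : orderOf z = 2) (Q : Subgroup (Subgroup.centralizer ({z} : Set G))) [Q.Normal] (hF : Cfsg.generalizedFittingSubgroup (Subgroup.centralizer ({z} : Set G)) = Q) (hQ : Cfsg.IsExtraspecial 2 Q) (hcard : Nat.card Q = 2 ^ 9) (e : (Subgroup.centralizer ({z} : Set G)) ⧸ Q ≃* Cfsg.Omega (ZMod 2) (Cfsg.quadFormPlus 4 (ZMod 2))) (hnwc : ∃ g : G, (∃ hq : g * z * g⁻¹ ∈ Subgroup.centralizer ({z} : Set G), (⟨g * z * g⁻¹, hq⟩ : Subgroup.centralizer ({z} : Set G)) ∈ Q) ∧ g * z * g⁻¹ ≠ z) (B : Subgroup (Subgroup.centralizer ({z} : Set G))) (hB : Nat.card B = 5) (hCQ : Cfsg.IsExtraspecial 2 ↥(Q ⊓ Subgroup.centralizer (B : Set (Subgroup.centralizer ({z} : Set G))))) (hCQcard : Nat.card ↥(Q ⊓ Subgroup.centralizer (B : Set (Subgroup.centralizer ({z} : Set G)))) = 32) (hminus : ∀ A : Subgroup (Subgroup.centralizer ({z} : Set G)), A ≤ Q ⊓ Subgroup.centralizer (B : Set (Subgroup.centralizer ({z} : Set G))) → Cfsg.IsElementaryAbelian 2 A →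 Nat.card A ≤ 4) : Cfsg.Spor.IsoJ2 ↥(Cfsg.layer ↥(Subgroup.centralizer ((B.map (Subgroup.subtype (Subgroup.centralizer ({z} : Set G)))) : Set G))) ∧ Nonempty (↥(Subgroup.centralizer (((Cfsg.layer ↥(Subgroup.centralizer ((B.map (Subgroup.subtype (Subgroup.centralizer ({z} : Set G)))) : Set G))).map (Subgroup.subtype _)) : Set G)) ≃* alternatingGroup (Fin 5)) := by
  classical
  obtain ⟨Q', π, D⟩ := exists_data z hz Q hF hQ hcard e hnwc
  haveI : Fact (Nat.Prime 2) := ⟨Nat.prime_two⟩
  haveI : Fact (Nat.Prime 5) := ⟨Nat.prime_five⟩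
  -- `Q'` is the image of `Q`
  have hQC : Q' ≤ (Subgroup.centralizer ({z} : Set G)) := fun x hx => Subgroup.mem_centralizer_singleton_iff.2 (D.Q_comm hx)
  haveI hn : (Q'.subgroupOf (Subgroup.centralizer ({z} : Set G))).Normal := ⟨fun x hx g => Subgroup.mem_subgroupOf.2
    (D.sub.conj_mem (Subgroup.mem_centralizer_singleton_iff.1 g.2) (Subgroup.mem_subgroupOf.1 hx))⟩
  have hQeq : Q'.subgroupOf (Subgroup.centralizer ({z} : Set G)) = Q := by
    refine Subgroup.eq_of_le_of_card_ge ?_ ?_
    · rw [← hF]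
      refine le_trans ?_ le_sup_right
      have hp : IsPGroup 2 (Q'.subgroupOf (Subgroup.centralizer ({z} : Set G))) := IsPGroup.of_card (n := 9) (by
        rw [Nat.card_congr (Subgroup.subgroupOfEquivOfLe hQC).toEquiv, D.card]; norm_num)
      exact le_sSup ⟨hn, hp.isNilpotent⟩
    · rw [hcard, Nat.card_congr (Subgroup.subgroupOfEquivOfLe hQC).toEquiv, D.card]; norm_num
  -- a generator
  haveI : IsCyclic B := isCyclic_of_prime_card hB
  obtain ⟨g0, hg0⟩ := IsCyclic.exists_generator (α := B)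
  obtain ⟨b, hb⟩ : ∃ b : G, b = ((g0 : (Subgroup.centralizer ({z} : Set G))) : G) := ⟨_, rfl⟩
  have hb5 : orderOf b = 5 := by
    rw [hb, Subgroup.orderOf_coe, Subgroup.orderOf_coe, orderOf_eq_card_of_forall_mem_zpowers hg0, hB]
  have hBle : ∀ x ∈ B, (x : G) ∈ Subgroup.zpowers b := fun x hx => by
    obtain ⟨i, hi⟩ := Subgroup.mem_zpowers_iff.1 (hg0 ⟨x, hx⟩)
    refine Subgroup.mem_zpowers_iff.2 ⟨i, ?_⟩
    rw [hb]
    have := congrArg (fun t : B => ((t : (Subgroup.centralizer ({z} : Set G))) : G)) hi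
    simpa using this
  have hcentB : Subgroup.centralizer (B.map (Subgroup.centralizer ({z} : Set G)).subtype : Set G) = Subgroup.centralizer ({b} : Set G) := by
    refine le_antisymm (Subgroup.centralizer_le (Set.singleton_subset_iff.2
      ⟨g0, g0.2, hb.symm⟩)) fun x hx => Subgroup.mem_centralizer_iff.2 ?_
    rintro _ ⟨y, hy, rfl⟩
    obtain ⟨i, hi⟩ := Subgroup.mem_zpowers_iff.1 (hBle y hy)
    show (y : G) * x = x * y
    rw [← hi]
    exact ((show Commute b x from (Subgroup.mem_centralizer_singleton_iff.1 hx).symm).zpow_left i).eq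
  have hbz : b * z = z * b := hb ▸ Subgroup.mem_centralizer_singleton_iff.1 (g0 : (Subgroup.centralizer ({z} : Set G))).2
  -- the fixed subgroup
  set M := Q ⊓ Subgroup.centralizer (B : Set (Subgroup.centralizer ({z} : Set G))) with hM
  have hcentC : ∀ x : (Subgroup.centralizer ({z} : Set G)), x ∈ Subgroup.centralizer (B : Set (Subgroup.centralizer ({z} : Set G))) ↔ (x : G) * b = b * x := by
    intro x
    rw [Subgroup.mem_centralizer_iff]
    constructor
    · intro h
      have := congrArg Subtype.val (h g0 g0.2)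
      rw [hb]
      exact this.symm
    · intro h y hy
      obtain ⟨i, hi⟩ := Subgroup.mem_zpowers_iff.1 (hBle y hy)
      refine Subtype.ext ?_
      show (y : G) * x = x * y
      rw [← hi]
      exact ((show Commute b (x : G) from h.symm).zpow_left i).eq
  have hMeq : M.map (Subgroup.centralizer ({z} : Set G)).subtype = Q' ⊓ Subgroup.centralizer ({b} : Set G) := by
    refine le_antisymm ?_ fun x hx => ?_
    · rintro _ ⟨x, hx, rfl⟩
      exact ⟨Subgroup.mem_subgroupOf.1 (hQeq ▸ hx.1),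
        Subgroup.mem_centralizer_singleton_iff.2 ((hcentC x).1 hx.2)⟩
    · exact ⟨⟨x, hQC hx.1⟩, ⟨hQeq ▸ Subgroup.mem_subgroupOf.2 hx.1,
        (hcentC _).2 (Subgroup.mem_centralizer_singleton_iff.1 hx.2)⟩, rfl⟩
  obtain ⟨P, s, c, hc, h5⟩ := CfsgLib.ConwayFive.exists_five D hbz hb5
    (by rw [← hMeq, Subgroup.card_map_of_injective (Subgroup.centralizer ({z} : Set G)).subtype_injective, hCQcard])
    (fun x hx hcomm => by
      obtain ⟨xm, hxm, rfl⟩ : x ∈ M.map (Subgroup.centralizer ({z} : Set G)).subtype := hMeq.ge hx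
      have hzM : (⟨z, hQC D.sub.z_mem⟩ : (Subgroup.centralizer ({z} : Set G))) ∈ M := ⟨hQeq ▸ Subgroup.mem_subgroupOf.2 D.sub.z_mem,
        (hcentC _).2 hbz.symm⟩
      have h1 : (⟨xm, hxm⟩ : M) ∈ Subgroup.center M := Subgroup.mem_center_iff.2 fun y =>
        Subtype.ext (Subtype.ext (hcomm _ (hMeq.le ⟨(y : (Subgroup.centralizer ({z} : Set G))), y.2, rfl⟩)).symm)
      have h2 : (⟨_, hzM⟩ : M) ∈ Subgroup.center M := Subgroup.mem_center_iff.2 fun y =>
        Subtype.ext (Subtype.ext (Subgroup.mem_centralizer_singleton_iff.1 (y : (Subgroup.centralizer ({z} : Set G))).2))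
      obtain ⟨w, -, huniq⟩ := (Nat.card_eq_two_iff' (1 : Subgroup.center M)).1 hCQ.2
      by_cases hx1 : (⟨_, h1⟩ : Subgroup.center M) = 1
      · exact Or.inl (congrArg (fun t : Subgroup.center M => (((t : M) : (Subgroup.centralizer ({z} : Set G))) : G)) hx1)
      · exact Or.inr (congrArg (fun t : Subgroup.center M => (((t : M) : (Subgroup.centralizer ({z} : Set G))) : G))
          ((huniq _ hx1).trans (huniq ⟨_, h2⟩ fun e' => D.sub.ne_one
            (congrArg (fun t : Subgroup.center M => (((t : M) : (Subgroup.centralizer ({z} : Set G))) : G)) e')).symm)))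
    (fun x hx y hy hx2 hy2 hxy hx0 hy0 => by
      by_contra hne
      obtain ⟨xm, hxm, rfl⟩ : x ∈ M.map (Subgroup.centralizer ({z} : Set G)).subtype := hMeq.ge hx
      obtain ⟨ym, hym, rfl⟩ : y ∈ M.map (Subgroup.centralizer ({z} : Set G)).subtype := hMeq.ge hy
      have hzM : (⟨z, hQC D.sub.z_mem⟩ : (Subgroup.centralizer ({z} : Set G))) ∈ M := ⟨hQeq ▸ Subgroup.mem_subgroupOf.2 D.sub.z_mem,
        (hcentC _).2 hbz.symm⟩
      let T : Set (Subgroup.centralizer ({z} : Set G)) := {⟨z, hQC D.sub.z_mem⟩, xm, ym}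
      have hTM : Subgroup.closure T ≤ M := by
        rw [Subgroup.closure_le]
        rintro u (rfl | rfl | rfl) <;> assumption
      have hT : ∀ u ∈ T, u * u = 1 ∧ ∀ v ∈ T, u * v = v * u := by
        rintro u (rfl | rfl | rfl) <;> refine ⟨Subtype.ext ?_, ?_⟩
        · exact D.sub.mul_self
        · rintro v (rfl | rfl | rfl)
          · rfl
          · exact Subtype.ext (D.Q_comm hx.1).symm
          · exact Subtype.ext (D.Q_comm hy.1).symm
        · exact hx2
        · rintro v (rfl | rfl | rfl)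
          · exact Subtype.ext (D.Q_comm hx.1)
          · rfl
          · exact Subtype.ext hxy
        · exact hy2
        · rintro v (rfl | rfl | rfl)
          · exact Subtype.ext (D.Q_comm hy.1)
          · exact Subtype.ext hxy.symm
          · rfl
      have hcm : IsMulCommutative (Subgroup.closure T) :=
        Subgroup.isMulCommutative_closure fun u hu v hv => (hT u hu).2 v hv
      have hel : ∀ a ∈ Subgroup.closure T, a ^ 2 = 1 := by
        intro a ha
        induction ha using Subgroup.closure_induction with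
        | mem u hu => rw [pow_two]; exact (hT u hu).1
        | one => exact one_pow 2
        | mul u v hu hv h1 h2 =>
          have huv : Commute u v := congrArg Subtype.val
            (hcm.is_comm.comm (⟨u, hu⟩ : Subgroup.closure T) ⟨v, hv⟩)
          rw [huv.mul_pow, h1, h2, one_mul]
        | inv u _ h1 => rw [inv_pow, h1, inv_one]
      have h4 := hminus _ hTM ⟨hcm, hel⟩
      have h8 : 5 ≤ Nat.card (Subgroup.closure T) := by
        have hzz : (⟨z, hQC D.sub.z_mem⟩ : (Subgroup.centralizer ({z} : Set G))) ∈ Subgroup.closure T := Subgroup.subset_closure (by simp [T])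
        have hxx : xm ∈ Subgroup.closure T := Subgroup.subset_closure (by simp [T])
        have hyy : ym ∈ Subgroup.closure T := Subgroup.subset_closure (by simp [T])
        let v : Fin 5 → Subgroup.closure T :=
          ![1, ⟨_, hzz⟩, ⟨_, hxx⟩, ⟨_, hyy⟩, ⟨_, hxx⟩ * ⟨_, hyy⟩]
        let u : Fin 5 → G := ![1, z, (xm : G), (ym : G), (xm : G) * (ym : G)]
        have hvu : ∀ i, (((v i : Subgroup.closure T) : (Subgroup.centralizer ({z} : Set G))) : G) = u i := fun i => by
          fin_cases i <;> rfl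
        have hu : Function.Injective u := by
          have hπx : π (xm : G) ≠ 0 := hx0
          have hπy : π (ym : G) ≠ 0 := hy0
          have hπxy : π (xm : G) ≠ π (ym : G) := hne
          have e1 : π ((xm : G) * ym) = π (xm : G) + π (ym : G) := D.map_mul _ hx.1 _ hy.1
          have hz1 := D.sub.ne_one
          have a1 : (xm : G) ≠ 1 := fun e' => hπx (by rw [e', D.π_one])
          have a2 : (xm : G) ≠ z := fun e' => hπx (by rw [e', D.π_z])
          have a3 : (ym : G) ≠ 1 := fun e' => hπy (by rw [e', D.π_one])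
          have a4 : (ym : G) ≠ z := fun e' => hπy (by rw [e', D.π_z])
          have a5 : (xm : G) ≠ ym := fun e' => hπxy (by rw [e'])
          have a6 : (xm : G) * ym ≠ 1 := fun e' => hπxy (eq_of_add_eq_zero8 (by rw [← e1, e', D.π_one]))
          have a7 : (xm : G) * ym ≠ z := fun e' => hπxy (eq_of_add_eq_zero8 (by rw [← e1, e', D.π_z]))
          have a8 : (xm : G) * ym ≠ xm := fun e' => a3 (mul_eq_left.1 e')
          have a9 : (xm : G) * ym ≠ ym := fun e' => a1 (mul_eq_right.1 e')
          intro i j hij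
          fin_cases i <;> fin_cases j <;>
            simp [u, hz1, a1, a2, a3, a4, a5, a6, a7, a8, a9, hz1.symm, a1.symm, a2.symm, a3.symm,
              a4.symm, a5.symm, a6.symm, a7.symm, a8.symm, a9.symm] at hij ⊢
        have := Nat.card_le_card_of_injective v fun i j h => hu (by rw [← hvu, ← hvu, h])
        simpa using this
      omega)
  obtain ⟨Y1, hY1le, hY1, hY1gen, ⟨eK⟩⟩ := h5.main
  -- transport back
  obtain ⟨Y, hY⟩ : ∃ Y : Subgroup G, Y = Y1.map (MulAut.conj c⁻¹).toMonoidHom := ⟨_, rfl⟩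
  have hmemY : ∀ {y : G}, y ∈ Y ↔ c * y * c⁻¹ ∈ Y1 := fun {y} => by
    rw [hY]
    constructor
    · rintro ⟨w, hw, rfl⟩
      simpa [mul_assoc] using hw
    · exact fun h => ⟨_, h, by simp [mul_assoc]⟩
  set X := Subgroup.centralizer (B.map (Subgroup.centralizer ({z} : Set G)).subtype : Set G) with hX
  have hconjb : ∀ {x : G}, x * b = b * x ↔ (c * x * c⁻¹) * (c * b * c⁻¹) = (c * b * c⁻¹) * (c * x * c⁻¹) :=
    fun {x} => (Commute.conj_iff c).symm
  have hYX : Y ≤ X := fun y hy => by
    rw [hcentB, Subgroup.mem_centralizer_singleton_iff, hconjb]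
    exact Subgroup.mem_centralizer_singleton_iff.1 (hY1le (hmemY.1 hy))
  have hdec : ∀ x : X, ∃ i : ℤ, ∃ y ∈ Y, (x : G) = b ^ i * y := fun x => by
    obtain ⟨i, y, hy, h⟩ := hY1gen (c * (x : G) * c⁻¹)
      (hconjb.1 (Subgroup.mem_centralizer_singleton_iff.1 (hcentB ▸ x.2)))
    refine ⟨i, c⁻¹ * y * c, hmemY.2 (by simpa [mul_assoc] using hy), ?_⟩
    rw [conj_zpow] at h
    calc (x : G) = c⁻¹ * (c * (x : G) * c⁻¹) * c := by group
      _ = b ^ i * (c⁻¹ * y * c) := by rw [h]; group
  have hbX : ∀ x : X, Commute b (x : G) := fun x =>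
    (Subgroup.mem_centralizer_singleton_iff.1 (hcentB ▸ x.2)).symm
  haveI : (Y.subgroupOf X).Normal := ⟨fun y hy x => by
    obtain ⟨i, w, hw, hx⟩ := hdec x
    refine Subgroup.mem_subgroupOf.2 ?_
    show (x : G) * y * (x : G)⁻¹ ∈ Y
    have hm := mul_mem (mul_mem hw (Subgroup.mem_subgroupOf.1 hy)) (inv_mem hw)
    rw [show (x : G) * y * (x : G)⁻¹ = b ^ i * (w * y * w⁻¹) * (b ^ i)⁻¹ by rw [hx]; group,
      ((show Commute b (w * (y : G) * w⁻¹) from hbX ⟨_, hYX hm⟩).zpow_left i).eq,
      mul_inv_cancel_right]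
    exact hm⟩
  have hYiso : Cfsg.Spor.IsoJ2 ↥(Y.subgroupOf X) := by
    obtain ⟨eJ⟩ := hY1
    exact ⟨(Subgroup.subgroupOfEquivOfLe hYX).trans (((MulEquiv.subgroupCongr hY).trans
      (Y1.equivMapOfInjective _ (MulAut.conj c⁻¹).injective).symm).trans eJ)⟩
  have hlayer : Cfsg.layer X = Y.subgroupOf X :=
    CfsgLib.ConwayFive.layer_eq_of_abelian _ (CfsgLib.ConwayFive.isQuasisimple_of_isoJ2 hYiso)
      fun a a' => by
        obtain ⟨i, w, hw, ha⟩ := hdec a
        obtain ⟨j, w', hw', ha'⟩ := hdec a'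
        refine Subgroup.mem_subgroupOf.2 ?_
        show (a : G) * a' * (a : G)⁻¹ * (a' : G)⁻¹ ∈ Y
        have c1 : Commute (b ^ i) w := (hbX ⟨w, hYX hw⟩).zpow_left i
        have c2 : Commute (b ^ j) w' := (hbX ⟨w', hYX hw'⟩).zpow_left j
        have c3 : Commute (b ^ i) w' := (hbX ⟨w', hYX hw'⟩).zpow_left i
        have c4 : Commute (b ^ j) w := (hbX ⟨w, hYX hw⟩).zpow_left j
        have hm := mul_mem (mul_mem (mul_mem hw hw') (inv_mem hw)) (inv_mem hw')
        suffices h : (a : G) * a' * (a : G)⁻¹ * (a' : G)⁻¹ = w * w' * w⁻¹ * w'⁻¹ by rwa [h]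
        rw [ha, ha']
        calc b ^ i * w * (b ^ j * w') * (b ^ i * w)⁻¹ * (b ^ j * w')⁻¹
            = b ^ i * (w * b ^ j) * (w' * w⁻¹ * (b ^ i)⁻¹) * (w'⁻¹ * (b ^ j)⁻¹) := by group
          _ = b ^ i * (b ^ j * w) * ((b ^ i)⁻¹ * (w' * w⁻¹)) * ((b ^ j)⁻¹ * w'⁻¹) := by
            rw [c4.symm.eq, ((c3.mul_right c1.inv_right).inv_left.symm).eq,
              (c2.inv_inv.symm).eq]
          _ = (b ^ j * b ^ i) * ((w * (b ^ i)⁻¹) * (w' * w⁻¹)) * ((b ^ j)⁻¹ * w'⁻¹) := by
            rw [show b ^ i * (b ^ j * w) = (b ^ j * b ^ i) * w by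
              rw [← mul_assoc, ← zpow_add, ← zpow_add, add_comm]]
            group
          _ = b ^ j * ((w * (w' * w⁻¹)) * (b ^ j)⁻¹) * w'⁻¹ := by
            rw [(c1.inv_left.symm).eq]; group
          _ = w * w' * w⁻¹ * w'⁻¹ := by
            rw [((c4.mul_right (c2.mul_right c4.inv_right)).inv_left.symm).eq]; group
  rw [hlayer]
  refine ⟨hYiso, ⟨?_⟩⟩
  have hm : (Y.subgroupOf X).map X.subtype = Y := by
    rw [Subgroup.subgroupOf_map_subtype, inf_eq_left.2 hYX]
  rw [hm]
  have hcentY : Subgroup.centralizer (Y : Set G) =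
      (Subgroup.centralizer (Y1 : Set G)).map (MulAut.conj c⁻¹).toMonoidHom := by
    refine le_antisymm ?_ ?_
    · intro x hx
      refine ⟨c * x * c⁻¹, Subgroup.mem_centralizer_iff.2 fun w hw => ?_, by simp [mul_assoc]⟩
      have := Subgroup.mem_centralizer_iff.1 hx (c⁻¹ * w * c) (hmemY.2 (by simpa [mul_assoc] using hw))
      calc w * (c * x * c⁻¹) = c * ((c⁻¹ * w * c) * x) * c⁻¹ := by group
        _ = c * (x * (c⁻¹ * w * c)) * c⁻¹ := by rw [this]
        _ = c * x * c⁻¹ * w := by group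
    · rintro _ ⟨x, hx, rfl⟩
      refine Subgroup.mem_centralizer_iff.2 fun y hy => ?_
      have := Subgroup.mem_centralizer_iff.1 hx _ (hmemY.1 hy)
      show y * (c⁻¹ * x * c⁻¹⁻¹) = c⁻¹ * x * c⁻¹⁻¹ * y
      calc y * (c⁻¹ * x * c⁻¹⁻¹) = c⁻¹ * ((c * y * c⁻¹) * x) * c := by group
        _ = c⁻¹ * (x * (c * y * c⁻¹)) * c := by rw [this]
        _ = c⁻¹ * x * c⁻¹⁻¹ * y := by group
  exact ((MulEquiv.subgroupCongr hcentY).trans
    ((Subgroup.centralizer (Y1 : Set G)).equivMapOfInjective _ (MulAut.conj c⁻¹).injective).symm).trans eK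

end Cfsg.Agent.S5385
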