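import Cfsg.Statements.S5394
import Cfsg.Agent.M24Classes.Classes
import Cfsg.Agent.Mathieu.M24Actions

set_option autoImplicit false
open Cfsg

namespace Cfsg.Agent.S5394

/-- The automorphism group of the length-24 code built from the squares modulo 23 has exactly two conjugacy classes of involutions: an involution either fixes exactly the eight points of an octad or has no fixed points, both kinds occur, and any two involutions of the same kind are conjugate in the group. -/
theorem result : (∀ g ∈ Cfsg.M24, orderOf g = 2 → (Finset.univ.filter fun p => g p = p) ∈ Cfsg.octads ∨ ∀ p, g p ≠ p) ∧ (∃ g ∈ Cfsg.M24, orderOf g = 2 ∧ (Finset.univ.filter fun p => g p = p) ∈ Cfsg.octads) ∧ (∃ g ∈ Cfsg.M24, orderOf g = 2 ∧ ∀ p, g p ≠ p) ∧ ∀ g ∈ Cfsg.M24, ∀ h ∈ Cfsg.M24, orderOf g = 2 → orderOf h = 2 → ((∀ p, g p ≠ p) ↔ (∀ p, h p ≠ p)) → ∃ k ∈ Cfsg.M24, k * g * k⁻¹ = h := by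
  classical
  open CfsgLib.M24Classes CfsgLib.Mathieu in
  have hoct : (Finset.univ.filter fun p => inv2Oct p = p) ∈ octads := by
    refine (mem_wordsOfWeight_iff _ 8).2 ?_
    have e : ∀ p, inv2Oct p = permFun tab2Oct p := fun p => rfl
    simp only [e]
    decide +kernel
  open CfsgLib.M24Classes CfsgLib.Mathieu in
  have hfree : ∀ g : Equiv.Perm GolayPt, fixCount g = 0 → ∀ p, g p ≠ p := fun g h p hp => by
    have : p ∈ Finset.univ.filter fun q => g q = q := Finset.mem_filter.2 ⟨Finset.mem_univ p, hp⟩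
    rw [fixCount, Finset.card_eq_zero] at h
    rw [h] at this
    exact Finset.notMem_empty p this
  open CfsgLib.M24Classes CfsgLib.Mathieu in
  have hkind : ∀ g ∈ M24, orderOf g = 2 →
      ((∀ p, g p ≠ p) ∧ ∃ h ∈ M24, h * inv2Free * h⁻¹ = g) ∨
      ((¬ ∀ p, g p ≠ p) ∧ (Finset.univ.filter fun p => g p = p) ∈ octads ∧
        ∃ h ∈ M24, h * inv2Oct * h⁻¹ = g) := by
    intro g hg ho
    rcases conj_inv2_of_fix hg ho with ⟨h0, hh⟩ | ⟨h8, h, hh, rfl⟩
    · exact Or.inl ⟨hfree g h0, hh⟩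
    · have hfix : (Finset.univ.filter fun p => (h * inv2Oct * h⁻¹) p = p) =
          (Finset.univ.filter fun p => inv2Oct p = p).image h := by
        ext p
        rw [Finset.mem_image, Finset.mem_filter]
        constructor
        · rintro ⟨-, e⟩
          refine ⟨h⁻¹ p, Finset.mem_filter.2 ⟨Finset.mem_univ _, ?_⟩, by simp⟩
          apply h.injective
          simpa using e
        · rintro ⟨q, hq, rfl⟩
          have hq' := (Finset.mem_filter.1 hq).2
          exact ⟨Finset.mem_univ _, by simp [hq']⟩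
      refine Or.inr ⟨fun hall => ?_, hfix ▸ octad_image hh hoct, h, hh, rfl⟩
      have : (Finset.univ.filter fun p => (h * inv2Oct * h⁻¹) p = p) = ∅ :=
        Finset.filter_eq_empty_iff.2 fun p _ => hall p
      rw [fixCount, this] at h8
      simp at h8
  refine ⟨fun g hg ho => ?_, ⟨CfsgLib.M24Classes.inv2Oct, CfsgLib.M24Classes.inv2Oct_mem,
    CfsgLib.M24Classes.orderOf_reps.2.1, hoct⟩,
    ⟨CfsgLib.M24Classes.inv2Free, CfsgLib.M24Classes.inv2Free_mem,
      CfsgLib.M24Classes.orderOf_reps.1, hfree _ CfsgLib.M24Classes.fixCount_reps.1⟩,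
    fun g hg h hh hgo hho hiff => ?_⟩
  · rcases hkind g hg ho with ⟨h, -⟩ | ⟨-, h, -⟩
    · exact Or.inr h
    · exact Or.inl h
  · rcases hkind g hg hgo with ⟨a, x, hx, rfl⟩ | ⟨a, -, x, hx, rfl⟩ <;>
      rcases hkind h hh hho with ⟨b, y, hy, rfl⟩ | ⟨b, -, y, hy, rfl⟩
    · exact ⟨y * x⁻¹, mul_mem hy (inv_mem hx), by group⟩
    · exact absurd (hiff.1 a) b
    · exact absurd (hiff.2 b) a
    · exact ⟨y * x⁻¹, mul_mem hy (inv_mem hx), by group⟩

end Cfsg.Agent.S5394
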