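import Cfsg.Statements.S5395
import Cfsg.Agent.ExtraspecialBasic.Order

set_option autoImplicit false
open Cfsg
open scoped commutatorElement

namespace Cfsg.Agent.S5395

/-- For a finite extraspecial 2-group E, an automorphism of E that induces the identity on E modulo its centre is inner (so these automorphisms form exactly the inner automorphism group, an elementary abelian 2-group of order |E|/2). -/
theorem result {E : Type*} [Group E] [Finite E] (hE : Cfsg.IsExtraspecial 2 E) (φ : E ≃* E) (hφ : ∀ x : E, φ x * x⁻¹ ∈ Subgroup.center E) : ∃ g : E, ∀ x : E, φ x = g * x * g⁻¹ := by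
  haveI : Fact (Nat.Prime 2) := ⟨Nat.prime_two⟩
  let Z := Subgroup.center E
  let f : E →* Z := MonoidHom.mk' (fun x => ⟨φ x * x⁻¹, hφ x⟩) fun a b => Subtype.ext (by
    show φ (a * b) * (a * b)⁻¹ = φ a * a⁻¹ * (φ b * b⁻¹)
    have h := Subgroup.mem_center_iff.1 (hφ b) a⁻¹
    calc φ (a * b) * (a * b)⁻¹ = φ a * ((φ b * b⁻¹) * a⁻¹) := by rw [map_mul]; group
      _ = φ a * a⁻¹ * (φ b * b⁻¹) := by rw [← h, mul_assoc])
  have hfZ : Z ≤ f.ker := fun z hz => by
    rw [MonoidHom.mem_ker]
    apply Subtype.ext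
    show φ z * z⁻¹ = 1
    have hφz : φ z ∈ Z := by
      have := mul_mem (hφ z) hz
      rwa [inv_mul_cancel_right] at this
    rw [mul_inv_eq_one]
    by_cases hz1 : z = 1
    · rw [hz1, map_one]
    · obtain ⟨w₁, w₂, hne, huniv⟩ := Nat.card_eq_two_iff.1 (hE.2 : Nat.card Z = 2)
      have mem : ∀ w : Z, w = w₁ ∨ w = w₂ := fun w => by
        have : w ∈ ({w₁, w₂} : Set Z) := huniv ▸ Set.mem_univ w
        simpa using this
      have hφ1 : φ z ≠ 1 := fun h => hz1 (φ.injective (by rw [h, map_one]))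
      have a1 : (⟨φ z, hφz⟩ : Z) ≠ 1 := fun h => hφ1 (congrArg Subtype.val h)
      have a2 : (⟨z, hz⟩ : Z) ≠ 1 := fun h => hz1 (congrArg Subtype.val h)
      rcases mem ⟨φ z, hφz⟩ with h1 | h1 <;> rcases mem ⟨z, hz⟩ with h2 | h2 <;>
        rcases mem 1 with h3 | h3 <;>
        first
          | exact congrArg Subtype.val (h1.trans h2.symm)
          | exact absurd (h1.trans h3.symm) a1
          | exact absurd (h2.trans h3.symm) a2
  have hcomm : ∀ q r : E ⧸ Z, q * r = r * q := by
    intro q r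
    induction q using QuotientGroup.induction_on with | _ a => ?_
    induction r using QuotientGroup.induction_on with | _ b => ?_
    rw [← commutatorElement_eq_one_iff_mul_comm]
    change ⁅QuotientGroup.mk' Z a, QuotientGroup.mk' Z b⁆ = 1
    rw [← map_commutatorElement, QuotientGroup.mk'_apply, QuotientGroup.eq_one_iff]
    exact CfsgLib.ExtraspecialBasic.commutator_mem_center hE a b
  letI : CommGroup (E ⧸ Z) := { (inferInstance : Group (E ⧸ Z)) with mul_comm := hcomm }
  obtain ⟨ι, hι⟩ : ∃ ι : Z →* ℂˣ, Function.Injective ι := by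
    have h2 : Nat.card (rootsOfUnity 2 ℂ) = 2 := by
      exact HasEnoughRootsOfUnity.natCard_rootsOfUnity ℂ 2
    exact ⟨(rootsOfUnity 2 ℂ).subtype.comp (mulEquivOfPrimeCardEq hE.2 h2).toMonoidHom,
      Subtype.val_injective.comp (mulEquivOfPrimeCardEq hE.2 h2).injective⟩
  have hker : ∀ g : E, Z ≤ (CfsgLib.ExtraspecialBasic.commHom hE g).ker := fun g z hz =>
    MonoidHom.mem_ker.2 ((CfsgLib.ExtraspecialBasic.commHom_eq_one hE).2
      (Subgroup.mem_center_iff.1 hz g))
  let Ψ : E ⧸ Z → (E ⧸ Z →* ℂˣ) := fun q =>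
    ι.comp (QuotientGroup.lift Z (CfsgLib.ExtraspecialBasic.commHom hE q.out) (hker _))
  have hinj : Function.Injective Ψ := fun q r hqr => by
    have h : ∀ x : E, ⁅q.out, x⁆ = ⁅r.out, x⁆ := fun x =>
      congrArg Subtype.val (hι (DFunLike.congr_fun hqr (x : E ⧸ Z)))
    have hmem : r.out⁻¹ * q.out ∈ Z := Subgroup.mem_center_iff.2 fun x => by
      have h1 : q.out * x * q.out⁻¹ = r.out * x * r.out⁻¹ := by
        have := congrArg (· * x) (h x)
        simpa [commutatorElement_def, mul_assoc] using this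
      calc x * (r.out⁻¹ * q.out) = r.out⁻¹ * (r.out * x * r.out⁻¹) * q.out := by group
        _ = r.out⁻¹ * q.out * x := by rw [← h1]; group
    have := (QuotientGroup.eq (s := Z)).2 hmem
    rw [QuotientGroup.out_eq', QuotientGroup.out_eq'] at this
    exact this.symm
  haveI : Finite (E ⧸ Z →* ℂˣ) := Nat.finite_of_card_ne_zero (by
    rw [CommGroup.card_monoidHom_of_hasEnoughRootsOfUnity]; exact Nat.card_pos.ne')
  have hsurj : Function.Surjective Ψ := ((Nat.bijective_iff_injective_and_card Ψ).2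
    ⟨hinj, (CommGroup.card_monoidHom_of_hasEnoughRootsOfUnity (E ⧸ Z) ℂ).symm⟩).2
  obtain ⟨q, hq⟩ := hsurj (ι.comp (QuotientGroup.lift Z f hfZ))
  refine ⟨q.out, fun x => ?_⟩
  have h : ⁅q.out, x⁆ = φ x * x⁻¹ :=
    congrArg Subtype.val (hι (DFunLike.congr_fun hq (x : E ⧸ Z)))
  rw [commutatorElement_def] at h
  exact (mul_right_cancel h).symm

end Cfsg.Agent.S5395
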