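import Cfsg.Statements.S5401
import Cfsg.Agent.FischerExist.M24

set_option autoImplicit false
open Cfsg

namespace Cfsg.Agent.S5401

/-- Existence of the Fischer 3-transposition groups: there exist finite groups generated by a conjugacy class of 3-transpositions on which they act primitively that are of type M(22), of type M(23), and of type M(24) respectively. -/
theorem result : (∃ (X : Type) (_ : Group X) (_ : Finite X) (E : Set X), Cfsg.IsThreeTranspositionClass E ∧ Cfsg.IsPrimitiveUnderConj E ∧ Cfsg.IsOfTypeM22 X E) ∧ (∃ (X : Type) (_ : Group X) (_ : Finite X) (E : Set X), Cfsg.IsThreeTranspositionClass E ∧ Cfsg.IsPrimitiveUnderConj E ∧ Cfsg.IsOfTypeM23 X E) ∧ (∃ (X : Type) (_ : Group X) (_ : Finite X) (E : Set X), Cfsg.IsThreeTranspositionClass E ∧ Cfsg.IsPrimitiveUnderConj E ∧ Cfsg.IsOfTypeM24 X E) := by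
  obtain ⟨E, hE, hp, ht⟩ := CfsgLib.FischerExist.exists_m22
  obtain ⟨h1, h2, h3⟩ := CfsgLib.FischerExist.type_m23
  obtain ⟨k1, k2, k3⟩ := CfsgLib.FischerExist.type_m24
  exact ⟨⟨_, inferInstance, CfsgLib.CosetEnum.Fi22.finite_grp, E, hE, hp, ht⟩,
    ⟨_, inferInstance, CfsgLib.CosetEnum.Fi23.finite_grp, _, h1, h2, h3⟩,
    ⟨_, inferInstance, CfsgLib.CosetEnum.Fi24.finite_grp, _, k1, k2, k3⟩⟩

end Cfsg.Agent.S5401
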