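import Cfsg.Statements.S5411
import Cfsg.Agent.MonsterType.QConjTransport

set_option autoImplicit false
open Cfsg

namespace Cfsg.Agent.S5411

/-- Let G be a finite group of Monster type at the involution z with Q the extraspecial normal subgroup of order 2^25 of C = C_G(z) (so C/Q is identified with the first Conway group with Q modulo its centre the Leech lattice modulo 2, and z is not weakly closed in Q). Then C acts transitively by conjugation on the involutions of Q that are not conjugate to z in G. -/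
theorem result {G : Type*} [Group G] [Finite G] (z : G) (Q : Subgroup (Subgroup.centralizer ({z} : Set G))) [Q.Normal] (hM : Cfsg.IsOfMonsterType z Q) (s t : G) (hsQ : ∃ hsc : s ∈ Subgroup.centralizer ({z} : Set G), (⟨s, hsc⟩ : Subgroup.centralizer ({z} : Set G)) ∈ Q) (htQ : ∃ htc : t ∈ Subgroup.centralizer ({z} : Set G), (⟨t, htc⟩ : Subgroup.centralizer ({z} : Set G)) ∈ Q) (hs2 : orderOf s = 2) (ht2 : orderOf t = 2) (hs : ¬ IsConj z s) (ht : ¬ IsConj z t) : ∃ h ∈ Subgroup.centralizer ({z} : Set G), h * s * h⁻¹ = t := by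
  obtain ⟨hS, e, ψ, hψ⟩ := hM
  obtain ⟨hsc, hsq⟩ := hsQ
  obtain ⟨htc, htq⟩ := htQ
  have key : ∀ (u : G) (huc : u ∈ Subgroup.centralizer ({z} : Set G))
      (huq : (⟨u, huc⟩ : Subgroup.centralizer ({z} : Set G)) ∈ Q), orderOf u = 2 → ¬ IsConj z u →
      (⟨⟨u, huc⟩, huq⟩ : Q) * ⟨⟨u, huc⟩, huq⟩ = 1 ∧
        (⟨⟨u, huc⟩, huq⟩ : Q) ∉ Subgroup.center Q := by
    intro u huc huq h2 hu
    refine ⟨Subtype.ext (Subtype.ext ?_), fun hc => ?_⟩
    · show u * u = 1
      rw [← pow_two, ← h2]; exact pow_orderOf_eq_one u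
    · rcases (CfsgLib.MonsterType.mem_center_iff hS).1 hc with h | h
      · have h' : u = 1 := congrArg (fun q : Q => ((q : Subgroup.centralizer ({z} : Set G)) : G)) h
        rw [h', orderOf_one] at h2
        omega
      · have h' : u = z := congrArg (fun q : Q => ((q : Subgroup.centralizer ({z} : Set G)) : G)) h
        exact hu (h' ▸ IsConj.refl z)
  obtain ⟨h, hh⟩ := CfsgLib.MonsterType.invol_transitive hS hψ (key s hsc hsq hs2 hs).1
    (key s hsc hsq hs2 hs).2 hs (key t htc htq ht2 ht).1 (key t htc htq ht2 ht).2 ht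
  exact ⟨h, h.2, congrArg Subtype.val hh⟩

end Cfsg.Agent.S5411
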