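import Cfsg.Statements.S5422
import Cfsg.Agent.LargeExtraspecial.PairFacts

set_option autoImplicit false
open Cfsg

namespace Cfsg.Agent.S5422

/-- Let Q be an extraspecial 2-subgroup of the finite group G whose centralizer in G is its centre Z and which is normal in the centralizer of Z; suppose Q has width at least 2 (order 2^(2w+1) with w ≥ 2) and g is an element of G not normalizing Z with g Z g⁻¹ inside Q. Then Z lies inside g Q g⁻¹; writing V for the subgroup generated by Z and g Z g⁻¹ (a four-group), the normalizer of V induces on V its full automorphism group, that is, the centralizer of V has index 6 in the normalizer of V; and Q is a large extraspecial 2-subgroup of G. -/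
theorem result {G : Type*} [Group G] [Finite G] (Q : Subgroup G) (hL1 : Cfsg.IsExtraspecial 2 ↥Q) (hL2 : Subgroup.centralizer (Q : Set G) = ((Subgroup.center ↥Q).map Q.subtype)) (hL3 : Subgroup.centralizer (((Subgroup.center ↥Q).map Q.subtype) : Set G) ≤ Subgroup.normalizer (Q : Set G)) (w : ℕ) (hw : 2 ≤ w) (hcard : Nat.card ↥Q = 2 ^ (2 * w + 1)) (g : G) (hg : g ∉ Subgroup.normalizer (((Subgroup.center ↥Q).map Q.subtype) : Set G)) (hZg : (((Subgroup.center ↥Q).map Q.subtype)).map (MulAut.conj g).toMonoidHom ≤ Q) : ((Subgroup.center ↥Q).map Q.subtype) ≤ (Q).map (MulAut.conj g).toMonoidHom ∧ (Subgroup.centralizer ((((Subgroup.center ↥Q).map Q.subtype) ⊔ (((Subgroup.center ↥Q).map Q.subtype)).map (MulAut.conj g).toMonoidHom : Subgroup G) : Set G)).relIndex (Subgroup.normalizer ((((Subgroup.center ↥Q).map Q.subtype) ⊔ (((Subgroup.center ↥Q).map Q.subtype)).map (MulAut.conj g).toMonoidHom : Subgroup G) : Set G)) = 6 ∧ Cfsg.IsLargeExtraspecial Q := by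
  obtain ⟨z, hz2, hz⟩ := CfsgLib.LargeExtraspecial.exists_center_gen hL1.2
  have h : CfsgLib.LargeExtraspecial.IsZSub Q z := ⟨hL1, hL2, hL3, hz, hz2⟩
  have hne : g * z * g⁻¹ ≠ z := by
    intro e
    apply hg
    rw [hz, Subgroup.mem_normalizer_iff]
    have he : Subgroup.map (MulAut.conj g).toMonoidHom (Subgroup.zpowers z) = Subgroup.zpowers z := by
      rw [MonoidHom.map_zpowers]
      exact congrArg Subgroup.zpowers e
    intro x
    constructor
    · intro hx
      rw [← he]
      exact ⟨x, hx, rfl⟩
    · intro hx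
      rw [← he] at hx
      obtain ⟨y, hy, hyx⟩ := hx
      have : y = x := mul_left_cancel (mul_right_cancel hyx)
      exact this ▸ hy
  have hs : g * z * g⁻¹ ∈ Q := hZg ⟨z, hz ▸ Subgroup.mem_zpowers z, rfl⟩
  have hc9 : 9 ≤ Nat.card Q := by
    have h32 : 2 ^ 5 ≤ 2 ^ (2 * w + 1) := Nat.pow_le_pow_right (by norm_num) (by omega)
    rw [hcard]; omega
  have d := CfsgLib.LargeExtraspecial.pairData_of_mem h hc9 hs hne
  refine ⟨?_, ?_, CfsgLib.LargeExtraspecial.isLarge_of_pairData d⟩
  · rw [hz, Subgroup.zpowers_le]; exact d.z_mem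
  · have hV : ((Subgroup.center ↥Q).map Q.subtype) ⊔
        (((Subgroup.center ↥Q).map Q.subtype)).map (MulAut.conj g).toMonoidHom =
        Subgroup.closure ({z, g * z * g⁻¹} : Set G) := by
      rw [hz, MonoidHom.map_zpowers, Set.insert_eq z {g * z * g⁻¹}, Subgroup.closure_union,
        ← Subgroup.zpowers_eq_closure, ← Subgroup.zpowers_eq_closure]
      rfl
    rw [hV, Subgroup.centralizer_closure]
    exact d.relIndex_eq_six

end Cfsg.Agent.S5422
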