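import Cfsg.Statements.S5425
import Cfsg.Agent.OctadInvol.Structure

set_option autoImplicit false
open Cfsg

namespace Cfsg.Agent.S5425

/-- In the Mathieu group of degree 24 (the automorphism group of the length-24 binary Golay code, acting on the 24 coordinates), let z be an involution whose fixed points form an octad (the support of a code word of weight 8), and let Q be the largest normal 2-subgroup of the centralizer C of z. Then Q is extraspecial of order 2^7 with an elementary abelian subgroup of order 16 (plus type), Q is a large extraspecial 2-subgroup, and C is the split extension of Q by the special linear group of degree 3 over the field with two elements. -/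
theorem result (z : ↥Cfsg.M24) (hz : orderOf z = 2) (hfix : (Finset.univ.filter fun p : Cfsg.GolayPt => (z : Equiv.Perm Cfsg.GolayPt) p = p) ∈ Cfsg.octads) (Q : Subgroup ↥Cfsg.M24) (hQ : Q = (Cfsg.pCore 2 ↥(Subgroup.centralizer ({z} : Set ↥Cfsg.M24))).map (Subgroup.centralizer ({z} : Set ↥Cfsg.M24)).subtype) : Cfsg.IsExtraspecial 2 ↥Q ∧ Nat.card ↥Q = 2 ^ 7 ∧ (∃ E : Subgroup ↥Cfsg.M24, E ≤ Q ∧ Cfsg.IsElementaryAbelian 2 E ∧ Nat.card ↥E = 2 ^ 4) ∧ Cfsg.IsLargeExtraspecial Q ∧ ∃ K : Subgroup ↥Cfsg.M24, K ≤ Subgroup.centralizer ({z} : Set ↥Cfsg.M24) ∧ Q ⊓ K = ⊥ ∧ Q ⊔ K = Subgroup.centralizer ({z} : Set ↥Cfsg.M24) ∧ Nonempty (↥K ≃* Matrix.SpecialLinearGroup (Fin 3) (ZMod 2)) := by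
  obtain ⟨a, rfl⟩ := CfsgLib.OctadInvol.exists_conjugator z hz hfix
  rw [CfsgLib.OctadInvol.pCore_centralizer a] at hQ
  subst hQ
  refine ⟨(CfsgLib.OctadInvol.extraspecial a).1, by rw [CfsgLib.OctadInvol.card_QQ]; norm_num,
    ⟨CfsgLib.OctadInvol.AA a, CfsgLib.OctadInvol.AA_le_QQ a, ⟨⟨⟨fun x y => Subtype.ext ?_⟩⟩, fun x hx => ?_⟩,
      by rw [CfsgLib.OctadInvol.card_AA]; norm_num⟩,
    CfsgLib.OctadInvol.large a, CfsgLib.OctadInvol.KK a,
    le_sup_right.trans (CfsgLib.OctadInvol.sup_le_centralizer a), CfsgLib.OctadInvol.inf_eq_bot a,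
    (CfsgLib.OctadInvol.centralizer_eq a).symm, CfsgLib.OctadInvol.complement_iso a⟩
  · have h1 := CfsgLib.OctadInvol.AA_sq a x.2
    have h2 := CfsgLib.OctadInvol.AA_sq a y.2
    have h3 := CfsgLib.OctadInvol.AA_sq a (mul_mem x.2 y.2)
    have e3 : ((x : ↥Cfsg.M24) * y)⁻¹ = (x : ↥Cfsg.M24) * y := inv_eq_of_mul_eq_one_right h3
    rw [mul_inv_rev, inv_eq_of_mul_eq_one_right h1, inv_eq_of_mul_eq_one_right h2] at e3
    exact e3.symm
  · rw [sq]
    exact CfsgLib.OctadInvol.AA_sq a hx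

end Cfsg.Agent.S5425
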