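import Cfsg.Statements.S5433
import Cfsg.Agent.LargeExtraspecial.Basic

set_option autoImplicit false
open Cfsg

namespace Cfsg.Agent.S5433

/-- Let Q be a large extraspecial 2-subgroup of the finite group G (extraspecial; centralizer equal to its centre; normal in the centralizer of its centre; normalizing no non-trivial subgroup of odd order), and L a normal subgroup of G containing Q. Then G is the product of L and the normalizer of Q. -/
theorem result {G : Type*} [Group G] [Finite G] (Q : Subgroup G) (hQ : Cfsg.IsLargeExtraspecial Q) (L : Subgroup G) [L.Normal] (hQL : Q ≤ L) : L ⊔ Subgroup.normalizer (Q : Set G) = ⊤ := by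
  obtain ⟨hE, hC, hN, -⟩ := hQ
  obtain ⟨z, hz2, hz⟩ := CfsgLib.LargeExtraspecial.exists_center_gen hE.2
  set Z := (Subgroup.center Q).map Q.subtype with hZdef
  have hQ' : IsPGroup 2 (Q.subgroupOf L) :=
    hE.1.1.of_equiv (Subgroup.subgroupOfEquivOfLe hQL).symm
  obtain ⟨T, hT⟩ := hQ'.exists_le_sylow
  set T' : Subgroup G := (T : Subgroup L).map L.subtype with hT'
  have hQT : Q ≤ T' := by
    have h := Subgroup.map_mono (f := L.subtype) hT
    rwa [Subgroup.subgroupOf_map_subtype, inf_of_le_left hQL] at h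
  have htop : Subgroup.normalizer (T' : Set G) ⊔ L = ⊤ := Sylow.normalizer_sup_eq_top T
  refine le_antisymm le_top (htop ▸ sup_le ?_ le_sup_left)
  refine le_trans ?_ le_sup_right
  -- the centre of `T'` is the centre of `Q`
  have hTnt : Nontrivial T' := by
    have : Nontrivial Q := by
      rw [← Finite.one_lt_card_iff_nontrivial]
      calc 1 < Nat.card (Subgroup.center Q) := by rw [hE.2]; norm_num
        _ ≤ Nat.card Q := Subgroup.card_le_card_group _
    exact (Subgroup.inclusion_injective hQT).nontrivial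
  have hTP : IsPGroup 2 T' := T.2.map _
  haveI := hTP.center_nontrivial
  have hle : (Subgroup.center T').map T'.subtype ≤ Z := by
    rw [← hC]
    rintro _ ⟨⟨c, hcT⟩, hc, rfl⟩
    refine Subgroup.mem_centralizer_iff.mpr fun q hq => ?_
    simpa using congrArg Subtype.val (Subgroup.mem_center_iff.mp hc ⟨q, hQT hq⟩)
  intro n hn
  refine hN (CfsgLib.LargeExtraspecial.mem_of_centralizer_singleton hz ?_)
  obtain ⟨c, hc⟩ := exists_ne (1 : Subgroup.center T')
  have hc1 : ((c : T') : G) ≠ 1 := by
    simpa using hc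
  have hcz : ((c : T') : G) = z := by
    have hm := hle ⟨(c : T'), c.2, rfl⟩
    rw [hz] at hm
    exact (CfsgLib.LargeExtraspecial.mem_zpowers_two hz2 hm).resolve_left hc1
  have hzT : z ∈ T' := hcz ▸ (c : T').2
  have hnT : n * z * n⁻¹ ∈ T' := (Subgroup.mem_normalizer_iff.mp hn z).mp hzT
  have hnc : n * z * n⁻¹ ∈ Z := by
    refine hle ⟨⟨_, hnT⟩, Subgroup.mem_center_iff.mpr fun t => Subtype.ext ?_, rfl⟩
    have ht : n⁻¹ * (t : G) * n ∈ T' := by
      simpa using (Subgroup.mem_normalizer_iff.mp (inv_mem hn) (t : G)).mp t.2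
    have h := congrArg Subtype.val (Subgroup.mem_center_iff.mp c.2 ⟨_, ht⟩)
    simp only [Subgroup.coe_mul, hcz] at h
    calc (t : G) * (n * z * n⁻¹) = n * ((n⁻¹ * t * n) * z) * n⁻¹ := by group
      _ = n * (z * (n⁻¹ * t * n)) * n⁻¹ := by rw [h]
      _ = n * z * n⁻¹ * t := by group
  rw [hz] at hnc
  rcases CfsgLib.LargeExtraspecial.mem_zpowers_two hz2 hnc with h | h
  · exact absurd (conj_eq_one_iff.mp h) (fun h1 => by simp [h1] at hz2)
  · exact mul_inv_eq_iff_eq_mul.mp h

end Cfsg.Agent.S5433
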