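import Cfsg.Statements.S5437

set_option autoImplicit false
open Cfsg

namespace Cfsg.Agent.S5437

/-- Let I be a set of involutions of the finite group G closed under conjugation, and H a subgroup of G. The following are equivalent: (1) for every member x of I lying in H, the conjugates of x lying in H form a single H-class and the centralizer of x lies in H; (2) for every g outside H, no member of I lies in both H and g H g⁻¹; (3) every member of I lying in H fixes exactly one coset in the action of G on the cosets of H. -/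
theorem result {G : Type*} [Group G] [Finite G] (I : Set G) (hI : ∀ x ∈ I, orderOf x = 2) (hIc : ∀ g : G, ∀ x ∈ I, g * x * g⁻¹ ∈ I) (H : Subgroup G) : ((∀ x ∈ I, x ∈ H → (∀ g : G, g * x * g⁻¹ ∈ H → ∃ h ∈ H, h * x * h⁻¹ = g * x * g⁻¹) ∧ Subgroup.centralizer ({x} : Set G) ≤ H) ↔ (∀ g : G, g ∉ H → ∀ x ∈ I, ¬ (x ∈ H ∧ x ∈ (H : Subgroup G).map (MulAut.conj g).toMonoidHom))) ∧ ((∀ g : G, g ∉ H → ∀ x ∈ I, ¬ (x ∈ H ∧ x ∈ (H : Subgroup G).map (MulAut.conj g).toMonoidHom)) ↔ ∀ x ∈ I, x ∈ H → ∃! c : G ⧸ H, x • c = c) := by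
  refine ⟨⟨fun h g hg x hx hxx => ?_, fun h x hx hxH => ?_⟩, ⟨fun h x hx hxH => ?_, fun h g hg x hx hxx => ?_⟩⟩
  · obtain ⟨hxH, y, hy, hyx⟩ := hxx
    have hyI : y ∈ I := by
      have := hIc g⁻¹ x hx
      rw [← hyx] at this
      simpa [mul_assoc] using this
    have hgy : g * y * g⁻¹ = x := by simpa using hyx
    obtain ⟨h1, h2⟩ := h y hyI hy
    obtain ⟨k, hk, hk'⟩ := h1 g (hgy.symm ▸ hxH)
    refine hg ?_
    have hc : k⁻¹ * g ∈ Subgroup.centralizer ({y} : Set G) := by
      rw [Subgroup.mem_centralizer_singleton_iff]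
      calc k⁻¹ * g * y = k⁻¹ * (g * y * g⁻¹) * g := by group
        _ = k⁻¹ * (k * y * k⁻¹) * g := by rw [hk']
        _ = y * (k⁻¹ * g) := by group
    simpa using H.mul_mem hk (h2 hc)
  · refine ⟨fun g hg => ?_, fun c hc => ?_⟩
    · by_cases hgH : g ∈ H
      · exact ⟨g, hgH, rfl⟩
      · exact absurd ⟨hg, ⟨x, hxH, by simp⟩⟩ (h g hgH _ (hIc g x hx))
    · by_contra hcH
      refine h c hcH x hx ⟨hxH, ⟨x, hxH, ?_⟩⟩
      rw [Subgroup.mem_centralizer_singleton_iff] at hc
      simpa [mul_inv_eq_iff_eq_mul] using hc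
  · refine ⟨(1 : G), ?_, fun c hc => ?_⟩
    · change (((x * 1 : G)) : G ⧸ H) = ((1 : G) : G ⧸ H)
      rw [QuotientGroup.eq]
      simpa using H.inv_mem hxH
    · induction c using QuotientGroup.induction_on with
      | H g =>
        change (((x * g : G)) : G ⧸ H) = (g : G ⧸ H) at hc
        rw [QuotientGroup.eq] at hc
        rw [QuotientGroup.eq, mul_one]
        by_contra hg
        refine h g (fun h' => hg (H.inv_mem h')) x hx ⟨hxH, ⟨g⁻¹ * x * g, ?_, by simp [mul_assoc]⟩⟩
        have h2 := H.inv_mem hc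
        simpa [mul_assoc] using h2
  · obtain ⟨hxH, y, hy, hyx⟩ := hxx
    obtain ⟨c, -, hu⟩ := h x hx hxH
    have h1 := hu ((1 : G) : G ⧸ H) (by
      change (((x * 1 : G)) : G ⧸ H) = ((1 : G) : G ⧸ H)
      rw [QuotientGroup.eq]; simpa using H.inv_mem hxH)
    have h2 := hu (g : G ⧸ H) (by
      change (((x * g : G)) : G ⧸ H) = (g : G ⧸ H)
      rw [QuotientGroup.eq, ← hyx]
      simpa [mul_assoc] using H.inv_mem hy)
    rw [← h1, QuotientGroup.eq, mul_one] at h2
    exact hg (by simpa using H.inv_mem h2)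

end Cfsg.Agent.S5437
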