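import Cfsg.Statements.S5438

set_option autoImplicit false
open Cfsg

namespace Cfsg.Agent.S5438

/-- Let z be a 2-central involution of the finite group G (an involution central in some Sylow 2-subgroup) and H a subgroup containing z such that the coset H is the only coset of H fixed by z (in the action of G on the cosets of H). Then H has odd index in G, and for every 2-element x of H the conjugates of x lying in H form a single H-class. -/
theorem result {G : Type*} [Group G] [Finite G] (z : G) (hz : Cfsg.IsTwoCentralInvolution z) (H : Subgroup G) (hzH : z ∈ H) (hfix : ∀ g : G, g⁻¹ * z * g ∈ H → g ∈ H) : Odd H.index ∧ ∀ x ∈ H, (∃ k : ℕ, orderOf x = 2 ^ k) → ∀ g : G, g * x * g⁻¹ ∈ H → ∃ h ∈ H, h * x * h⁻¹ = g * x * g⁻¹ := by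
  obtain ⟨hz2, P, hzP, hPz⟩ := hz
  have hfix1 : ∀ c : G, c * z = z * c → c ∈ H := by
    intro c hc
    refine hfix c ?_
    have : c⁻¹ * z * c = z := by rw [mul_assoc, ← hc]; group
    rwa [this]
  have hPH : (P : Subgroup G) ≤ H := fun x hx => hfix1 x (hPz x hx)
  have hidx : H.index ∣ (P : Subgroup G).index := Subgroup.index_dvd_of_le hPH
  have hodd : Odd H.index := by
    rw [← Nat.not_even_iff_odd, even_iff_two_dvd]
    exact fun h => P.not_dvd_index (h.trans hidx)
  refine ⟨hodd, ?_⟩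
  -- every 2-element of `H` is `H`-conjugate into `P`
  have hconjP : ∀ x ∈ H, (∃ k : ℕ, orderOf x = 2 ^ k) → ∃ h ∈ H, h * x * h⁻¹ ∈ (P : Subgroup G) := by
    intro x hx ⟨k, hk⟩
    have hp : IsPGroup 2 (Subgroup.zpowers (⟨x, hx⟩ : H)) :=
      IsPGroup.of_card (n := k) (by rw [Nat.card_zpowers, Subgroup.orderOf_mk, hk])
    obtain ⟨S, hS⟩ := hp.exists_le_sylow
    obtain ⟨h, hh⟩ := MulAction.exists_smul_eq H S (P.subtype hPH)
    refine ⟨h, h.2, ?_⟩
    have hm : (⟨x, hx⟩ : H) ∈ S := hS (Subgroup.mem_zpowers _)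
    have hm2 : h * ⟨x, hx⟩ * h⁻¹ ∈ (h • S : Sylow 2 H) :=
      Subgroup.smul_mem_pointwise_smul _ (MulAut.conj h) _ hm
    rw [hh] at hm2
    exact hm2
  intro x hx hxk g hgx
  obtain ⟨a, ha, hax⟩ := hconjP x hx hxk
  obtain ⟨b, hb, hbx⟩ := hconjP (g * x * g⁻¹) hgx (by
    obtain ⟨k, hk⟩ := hxk
    exact ⟨k, by rw [← hk]; exact orderOf_injective (MulAut.conj g).toMonoidHom (MulAut.conj g).injective x⟩)
  set x' := a * x * a⁻¹ with hx'
  set y := b * (g * x * g⁻¹) * b⁻¹ with hy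
  set g' := b * g * a⁻¹ with hg'
  have hgy : g' * x' * g'⁻¹ = y := by rw [hg', hx', hy]; group
  have hzx : x' * z = z * x' := hPz _ hax
  have hzy : y * z = z * y := hPz _ hbx
  set s := g' * z * g'⁻¹ with hs
  have hsy : s * y = y * s := by
    rw [hs, ← hgy]
    calc g' * z * g'⁻¹ * (g' * x' * g'⁻¹) = g' * (z * x') * g'⁻¹ := by group
      _ = g' * (x' * z) * g'⁻¹ := by rw [hzx]
      _ = g' * x' * g'⁻¹ * (g' * z * g'⁻¹) := by group
  set M := Subgroup.centralizer ({y} : Set G) with hM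
  have hzM : z ∈ M := Subgroup.mem_centralizer_singleton_iff.mpr hzy.symm
  have hsM : s ∈ M := Subgroup.mem_centralizer_singleton_iff.mpr hsy
  set HM := H.subgroupOf M with hHM
  have hpz : IsPGroup 2 (Subgroup.zpowers (⟨z, hzM⟩ : M)) :=
    IsPGroup.of_card (n := 1) (by rw [Nat.card_zpowers, Subgroup.orderOf_mk, hz2]; norm_num)
  have hone : Nat.card (MulAction.fixedPoints (Subgroup.zpowers (⟨z, hzM⟩ : M)) (M ⧸ HM)) = 1 := by
    rw [Nat.card_eq_one_iff_unique]
    refine ⟨⟨fun ⟨c, hc⟩ ⟨d, hd⟩ => Subtype.ext ?_⟩, ⟨⟨((1 : M) : M ⧸ HM), ?_⟩⟩⟩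
    · have key : ∀ c : M ⧸ HM, c ∈ MulAction.fixedPoints (Subgroup.zpowers (⟨z, hzM⟩ : M)) (M ⧸ HM) →
          c = ((1 : M) : M ⧸ HM) := by
        intro c hc
        induction c using QuotientGroup.induction_on with
        | H m =>
          have h1 := hc ⟨⟨z, hzM⟩, Subgroup.mem_zpowers _⟩
          change (((⟨z, hzM⟩ * m : M)) : M ⧸ HM) = (m : M ⧸ HM) at h1
          rw [QuotientGroup.eq, Subgroup.mem_subgroupOf] at h1
          rw [QuotientGroup.eq, mul_one, Subgroup.mem_subgroupOf]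
          refine H.inv_mem (hfix _ ?_)
          simpa [mul_assoc] using H.inv_mem h1
      exact (key c hc).trans (key d hd).symm
    · intro m
      change (((m : M) * 1 : M) : M ⧸ HM) = ((1 : M) : M ⧸ HM)
      rw [QuotientGroup.eq, Subgroup.mem_subgroupOf]
      obtain ⟨n, hn⟩ := Subgroup.mem_zpowers_iff.mp m.2
      have hm : ((m : M) : G) = z ^ n := by
        have := congrArg Subtype.val hn
        simpa using this.symm
      simpa [hm] using H.inv_mem (H.zpow_mem hzH n)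
  have hoddM : ¬ 2 ∣ HM.index := by
    have h := hpz.card_modEq_card_fixedPoints (M ⧸ HM)
    rw [hone] at h
    rw [Subgroup.index]
    intro hd
    have := Nat.modEq_zero_iff_dvd.mpr hd
    exact absurd (this.symm.trans h) (by decide)
  -- an element of `M` conjugates `s` into `H`
  obtain ⟨c, hcM, hc⟩ : ∃ c ∈ M, c * s * c⁻¹ ∈ H := by
    obtain ⟨S⟩ : Nonempty (Sylow 2 HM) := inferInstance
    have hcard : ¬ 2 ∣ ((S : Subgroup HM).map HM.subtype).index := by
      rw [Subgroup.index_map_subtype]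
      exact Nat.Prime.not_dvd_mul Nat.prime_two S.not_dvd_index hoddM
    set T : Sylow 2 M := (S.2.map HM.subtype).toSylow hcard with hT
    have hp : IsPGroup 2 (Subgroup.zpowers (⟨s, hsM⟩ : M)) :=
      IsPGroup.of_card (n := 1) (by
        rw [Nat.card_zpowers, Subgroup.orderOf_mk, pow_one, ← hz2]
        exact orderOf_injective (MulAut.conj g').toMonoidHom (MulAut.conj g').injective z)
    obtain ⟨U, hU⟩ := hp.exists_le_sylow
    obtain ⟨m, hm⟩ := MulAction.exists_smul_eq M U T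
    refine ⟨m, m.2, ?_⟩
    have hm2 : m * ⟨s, hsM⟩ * m⁻¹ ∈ (m • U : Sylow 2 M) :=
      Subgroup.smul_mem_pointwise_smul _ (MulAut.conj m) _ (hU (Subgroup.mem_zpowers _))
    rw [hm] at hm2
    have hm3 : m * ⟨s, hsM⟩ * m⁻¹ ∈ HM := Subgroup.map_subtype_le _ hm2
    simpa [hHM, Subgroup.mem_subgroupOf] using hm3
  have hcg : c * g' ∈ H := by
    have := hfix (c * g')⁻¹ (by simpa [hs, mul_assoc] using hc)
    simpa using H.inv_mem this
  refine ⟨b⁻¹ * (c * g') * a, H.mul_mem (H.mul_mem (H.inv_mem hb) hcg) ha, ?_⟩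
  have hcy : c * y * c⁻¹ = y := by
    rw [Subgroup.mem_centralizer_singleton_iff] at hcM
    rw [hcM]; group
  calc b⁻¹ * (c * g') * a * x * (b⁻¹ * (c * g') * a)⁻¹
      = b⁻¹ * (c * (g' * x' * g'⁻¹) * c⁻¹) * b := by rw [hx']; group
    _ = b⁻¹ * y * b := by rw [hgy, hcy]
    _ = g * x * g⁻¹ := by rw [hy]; group

end Cfsg.Agent.S5438
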