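import Cfsg.Statements.S5439

set_option autoImplicit false
open Cfsg

namespace Cfsg.Agent.S5439

/-- Let I and J be two different conjugacy classes of involutions of the finite group G and H a subgroup such that every member of I ∪ J fixes exactly one coset in the action on the cosets of H, and such that for every a in I ∩ H and every b in (I ∪ J) ∩ H different from a and commuting with it, the centralizer of a b lies in H. Then H = G. -/
theorem result {G : Type*} [Group G] [Finite G] (I J : Set G) (a₀ b₀ : G) (ha₀ : orderOf a₀ = 2) (hb₀ : orderOf b₀ = 2) (hI : I = {x | IsConj a₀ x}) (hJ : J = {x | IsConj b₀ x}) (hIJ : I ≠ J) (H : Subgroup G) (hfix : ∀ x ∈ I ∪ J, ∃! c : G ⧸ H, x • c = c) (hcent : ∀ a ∈ I, a ∈ H → ∀ b ∈ I ∪ J, b ∈ H → a ≠ b → a * b = b * a → Subgroup.centralizer ({a * b} : Set G) ≤ H) : H = ⊤ := by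
  subst hI hJ
  have hord : ∀ {a₁ x : G}, IsConj a₁ x → orderOf x = orderOf a₁ := by
    intro a₁ x h
    obtain ⟨g, rfl⟩ := isConj_iff.mp h
    exact orderOf_injective (MulAut.conj g).toMonoidHom (MulAut.conj g).injective a₁
  have hmem : ∀ {x g : G}, x • (g : G ⧸ H) = (g : G ⧸ H) ↔ g⁻¹ * x * g ∈ H := by
    intro x g
    change (((x * g : G)) : G ⧸ H) = (g : G ⧸ H) ↔ _
    rw [eq_comm, QuotientGroup.eq, mul_assoc]
  obtain ⟨c₀, hc₀, -⟩ := hfix a₀ (Or.inl (IsConj.refl _))
  obtain ⟨g₀, rfl⟩ : ∃ g : G, (g : G ⧸ H) = c₀ := QuotientGroup.mk_surjective c₀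
  obtain ⟨a, ha⟩ : ∃ a, a = g₀⁻¹ * a₀ * g₀ := ⟨_, rfl⟩
  have haI : IsConj a₀ a := isConj_iff.mpr ⟨g₀⁻¹, by rw [ha]; group⟩
  have haH : a ∈ H := ha ▸ hmem.mp hc₀
  have ha2 : orderOf a = 2 := (hord haI).trans ha₀
  have haa : a * a = 1 := by rw [← sq, ← ha2, pow_orderOf_eq_one]
  have hCa : ∀ c : G, c * a = a * c → c ∈ H := by
    intro c hc
    obtain ⟨u, -, huniq⟩ := hfix a (Or.inl haI)
    have h1 := huniq ((1 : G) : G ⧸ H) (hmem.mpr (by simpa using haH))
    have h2 := huniq (c : G ⧸ H) (hmem.mpr (by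
      rw [mul_assoc, ← hc, ← mul_assoc]; simpa using haH))
    have h3 : ((1 : G) : G ⧸ H) = (c : G ⧸ H) := h1.trans h2.symm
    simpa [QuotientGroup.eq] using h3
  have key : ∀ b : G, IsConj b₀ b → b ∈ H := by
    intro b hb
    have hbb : b * b = 1 := by rw [← sq, ← hb₀, ← hord hb, pow_orderOf_eq_one]
    have hnot : ¬ IsConj a b := fun h => hIJ (by
      ext x
      exact ⟨fun hx => hb.trans (h.symm.trans (haI.symm.trans hx)),
        fun hx => haI.trans (h.trans (hb.symm.trans hx))⟩)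
    have hai : a⁻¹ = a := inv_eq_of_mul_eq_one_right haa
    have hbi : b⁻¹ = b := inv_eq_of_mul_eq_one_right hbb
    obtain ⟨r, hr⟩ : ∃ r, r = a * b := ⟨_, rfl⟩
    have hflip : ∀ j : ℕ, a * r ^ j = (r ^ j)⁻¹ * a := by
      intro j
      induction j with
      | zero => simp
      | succ j ih =>
        have har : a * r = r⁻¹ * a := by
          rw [hr, mul_inv_rev, hai, hbi, ← mul_assoc, haa, one_mul, mul_assoc, haa, mul_one]
        rw [pow_succ, ← mul_assoc, ih, mul_assoc, har, ← mul_assoc, ← mul_inv_rev, ← pow_succ', pow_succ]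
    obtain ⟨k, hk⟩ := Nat.even_or_odd' (orderOf r)
    have hm1 := pow_orderOf_eq_one r
    rcases hk with hk | hk
    · -- even order
      have hk0 : 0 < k := by have := orderOf_pos r; omega
      obtain ⟨c, hc⟩ : ∃ c, c = r ^ k := ⟨_, rfl⟩
      have hcc : c * c = 1 := by rw [hc, ← pow_add, show k + k = orderOf r by omega, hm1]
      have hc1 : c ≠ 1 := hc ▸ pow_ne_one_of_lt_orderOf (by omega) (by omega)
      have hci : c⁻¹ = c := inv_eq_of_mul_eq_one_right hcc
      have hac : a * c = c * a := by rw [hc, hflip, ← hc, hci]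
      have hcH : c ∈ H := hCa c hac.symm
      have hacIJ : IsConj a₀ (a * c) ∨ IsConj b₀ (a * c) := by
        obtain ⟨j, hj⟩ := Nat.even_or_odd' k
        rcases hj with hj | hj
        · left
          refine haI.trans (isConj_iff.mpr ⟨(r ^ j)⁻¹, ?_⟩)
          rw [hc, hj, two_mul, pow_add, inv_inv, ← mul_assoc, hflip]
        · right
          refine hb.trans (isConj_iff.mpr ⟨(r ^ j)⁻¹, ?_⟩)
          rw [hc, hj, show 2 * j + 1 = j + (1 + j) by omega, pow_add, pow_add, inv_inv,
            ← mul_assoc, hflip, pow_one]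
          have : a * r = b := by rw [hr, ← mul_assoc, haa, one_mul]
          simp only [← mul_assoc]
          rw [mul_assoc ((r ^ j)⁻¹) a r, this]
      have hne : a ≠ a * c := fun h => hc1 (by simpa using h.symm)
      have hcomm : a * (a * c) = a * c * a := by
        rw [mul_assoc a c a, ← hac]
      refine hcent a haI haH (a * c) hacIJ (H.mul_mem haH hcH) hne hcomm ?_
      rw [Subgroup.mem_centralizer_singleton_iff, ← mul_assoc a a c, haa, one_mul, hc]
      have hbr : b * r = r⁻¹ * b := by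
        rw [hr, mul_inv_rev, hai, hbi, mul_assoc b a b]
      have hbk : ∀ j : ℕ, b * r ^ j = (r ^ j)⁻¹ * b := by
        intro j
        induction j with
        | zero => simp
        | succ j ih =>
          rw [pow_succ, ← mul_assoc, ih, mul_assoc, hbr, ← mul_assoc, ← mul_inv_rev, ← pow_succ', pow_succ]
      rw [hbk, ← hc, hci]
    · -- odd order: `a` and `b` are conjugate
      refine absurd (isConj_iff.mpr ⟨r ^ k, ?_⟩) hnot
      have h1 : r * (r ^ k * r ^ k) = 1 := by
        rw [← pow_add, ← pow_succ', show k + k + 1 = orderOf r by omega, hm1]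
      have h2 : r ^ k * r ^ k = r⁻¹ := eq_inv_of_mul_eq_one_right h1
      have h3 : r ^ k * a = a * (r ^ k)⁻¹ := by
        calc r ^ k * a = a * (a * r ^ k) * a := by rw [← mul_assoc a a, haa, one_mul]
          _ = a * ((r ^ k)⁻¹ * a) * a := by rw [hflip]
          _ = a * (r ^ k)⁻¹ := by rw [mul_assoc, mul_assoc, haa, mul_one]
      rw [h3, mul_assoc, ← mul_inv_rev, h2, inv_inv, hr, ← mul_assoc, haa, one_mul]
  obtain ⟨u, -, huniq⟩ := hfix b₀ (Or.inr (IsConj.refl _))
  rw [Subgroup.eq_top_iff']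
  intro g
  have hall : ∀ g : G, b₀ • (g : G ⧸ H) = (g : G ⧸ H) := fun g =>
    hmem.mpr (key _ (isConj_iff.mpr ⟨g⁻¹, by group⟩))
  have h3 : ((1 : G) : G ⧸ H) = (g : G ⧸ H) := (huniq _ (hall 1)).trans (huniq _ (hall g)).symm
  simpa [QuotientGroup.eq] using h3

end Cfsg.Agent.S5439
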