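import Cfsg.Statements.S5440
import Cfsg.Agent.LargeFischer.Conjugates
-- import your own Cfsg.Agent.* helpers here

set_option autoImplicit false
set_option linter.style.haveILetI false
open Cfsg

namespace Cfsg.Agent.S5440

/-- Let G be a finite group of large Fischer type at the involution z: the generalized Fitting subgroup Q of H = C_G(z) is extraspecial of order 2^13, H has normal subgroups Q ≤ H₁ ≤ H₂ with H₁/Q of order 3, H₂/H₁ the projective special unitary group of dimension 4 over the field with nine elements and H₂ of index 2 in H, and some conjugate of z other than z lies in Q. Then H has exactly two orbits, under conjugation, on the involutions of Q other than z. -/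
theorem result {G : Type*} [Group G] [Finite G] (z : G) (Q : Subgroup (Subgroup.centralizer ({z} : Set G))) [Q.Normal] (hF : Cfsg.IsOfLargeFischerTypeAt z Q) : ∃ s t : Subgroup.centralizer ({z} : Set G), s ∈ Q ∧ t ∈ Q ∧ orderOf s = 2 ∧ orderOf t = 2 ∧ (s : G) ≠ z ∧ (t : G) ≠ z ∧ (¬ ∃ h : Subgroup.centralizer ({z} : Set G), h * s * h⁻¹ = t) ∧ ∀ x : Subgroup.centralizer ({z} : Set G), x ∈ Q → orderOf x = 2 → (x : G) ≠ z → (∃ h : Subgroup.centralizer ({z} : Set G), h * s * h⁻¹ = x) ∨ ∃ h : Subgroup.centralizer ({z} : Set G), h * t * h⁻¹ = x := by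
  obtain ⟨D⟩ := CfsgLib.LargeFischer.exists_data hF
  obtain ⟨C⟩ := D.exists_coords
  obtain ⟨w, hw⟩ := CfsgLib.LargeFischer.Frame.exists_vec 2
  obtain ⟨w', hw'⟩ := CfsgLib.LargeFischer.Frame.exists_vec 4
  obtain ⟨s, hs⟩ := CfsgLib.LargeFischer.vec_surjective (C.F.coord.symm w)
  obtain ⟨t, ht⟩ := CfsgLib.LargeFischer.vec_surjective (C.F.coord.symm w')
  have hA : C.F.InA C.c (CfsgLib.LargeFischer.vec s) := by
    left; rw [hs, AddEquiv.apply_symm_apply, hw]; rfl
  have hB : C.F.InB C.c (CfsgLib.LargeFischer.vec t) := by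
    left; rw [ht, AddEquiv.apply_symm_apply, hw']; rfl
  have key : ∀ a : Q, C.F.InA C.c (CfsgLib.LargeFischer.vec a) ∨ C.F.InB C.c (CfsgLib.LargeFischer.vec a) →
      orderOf (a : Subgroup.centralizer ({z} : Set G)) = 2 ∧
        ((a : Subgroup.centralizer ({z} : Set G)) : G) ≠ z ∧ a ∉ Subgroup.center Q := by
    intro a ha
    have hc : a ∉ Subgroup.center Q := fun h => C.ne_zero_of ha ((CfsgLib.LargeFischer.vec_eq_zero D.hS).2 h)
    refine ⟨orderOf_eq_prime ?_ ?_, ?_, hc⟩
    · rw [pow_two]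
      exact congrArg Subtype.val ((CfsgLib.LargeFischer.qf_eq_zero_iff D.hS a).1 (C.q_zero_of ha))
    · intro e
      exact hc (by rw [show a = 1 from Subtype.ext e]; exact one_mem _)
    · intro e
      refine hc ?_
      rw [show a = CfsgLib.LargeFischer.zin D.hS from Subtype.ext (Subtype.ext e)]
      exact (CfsgLib.LargeFischer.mem_center_cases D.hS).2 (Or.inr rfl)
  obtain ⟨hs2, hsz, hsc⟩ := key s (Or.inl hA)
  obtain ⟨ht2, htz, htc⟩ := key t (Or.inr hB)
  refine ⟨s, t, s.2, t.2, hs2, ht2, hsz, htz, ?_, ?_⟩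
  · rintro ⟨h, hh⟩
    exact C.F.inA_not_inB C.c (C.class_of_conj hh hA) hB
  · intro x hxQ hx2 hxz
    obtain ⟨hxc, hx | hx⟩ := C.cases_of_involution (x := ⟨x, hxQ⟩) hx2 hxz
    · exact Or.inl (CfsgLib.LargeFischer.Coords.conj_of_orbit hxc ((C.orbA _ _ hA).2 hx))
    · exact Or.inr (CfsgLib.LargeFischer.Coords.conj_of_orbit hxc ((C.orbB _ _ hB).2 hx))

end Cfsg.Agent.S5440
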