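import Cfsg.Statements.S5441
import Cfsg.Agent.LargeFischer.Conjugates
-- import your own Cfsg.Agent.* helpers here

set_option autoImplicit false
set_option linter.style.haveILetI false
open Cfsg

namespace Cfsg.Agent.S5441

/-- Let G be a finite group of large Fischer type at the involution z: the generalized Fitting subgroup Q of H = C_G(z) is extraspecial of order 2^13, H has normal subgroups Q ≤ H₁ ≤ H₂ with H₁/Q of order 3, H₂/H₁ the projective special unitary group of dimension 4 over the field with nine elements and H₂ of index 2 in H, and some conjugate of z other than z lies in Q. Then the conjugates of z lying in Q and different from z form a single orbit under conjugation by H. -/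
theorem result {G : Type*} [Group G] [Finite G] (z : G) (Q : Subgroup (Subgroup.centralizer ({z} : Set G))) [Q.Normal] (hF : Cfsg.IsOfLargeFischerTypeAt z Q) (s t : G) (hsQ : ∃ hsc : s ∈ Subgroup.centralizer ({z} : Set G), (⟨s, hsc⟩ : Subgroup.centralizer ({z} : Set G)) ∈ Q) (htQ : ∃ htc : t ∈ Subgroup.centralizer ({z} : Set G), (⟨t, htc⟩ : Subgroup.centralizer ({z} : Set G)) ∈ Q) (hs : IsConj z s) (ht : IsConj z t) (hs1 : s ≠ z) (ht1 : t ≠ z) : ∃ h ∈ Subgroup.centralizer ({z} : Set G), h * s * h⁻¹ = t := by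
  obtain ⟨D⟩ := CfsgLib.LargeFischer.exists_data hF
  obtain ⟨C⟩ := D.exists_coords
  obtain ⟨hsc, hsm⟩ := hsQ
  obtain ⟨htc, htm⟩ := htQ
  obtain ⟨g, hg⟩ := isConj_iff.1 hs
  obtain ⟨g', hg'⟩ := isConj_iff.1 ht
  let x : Q := ⟨⟨s, hsc⟩, hsm⟩
  let y : Q := ⟨⟨t, htc⟩, htm⟩
  have hx := CfsgLib.LargeFischer.conj_not_center D (x := x) hg hs1
  have hy := CfsgLib.LargeFischer.conj_not_center D (x := y) hg' ht1
  obtain ⟨hxB, -, -, -⟩ := CfsgLib.LargeFischer.image_main D (x := x) hg hx C
  obtain ⟨hyB, -, -, -⟩ := CfsgLib.LargeFischer.image_main D (x := y) hg' hy C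
  obtain ⟨k, hk⟩ := CfsgLib.LargeFischer.Coords.conj_of_orbit hy ((C.orbB _ _ hxB).2 hyB)
  exact ⟨k, k.2, congrArg Subtype.val hk⟩

end Cfsg.Agent.S5441
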