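import Cfsg.Statements.S5442
import Cfsg.Agent.LargeFischer.Conjugates
-- import your own Cfsg.Agent.* helpers here

set_option autoImplicit false
set_option linter.style.haveILetI false
open Cfsg

namespace Cfsg.Agent.S5442

/-- Let G be a finite group of large Fischer type at the involution z: the generalized Fitting subgroup Q of H = C_G(z) is extraspecial of order 2^13, H has normal subgroups Q ≤ H₁ ≤ H₂ with H₁/Q of order 3, H₂/H₁ the projective special unitary group of dimension 4 over the field with nine elements and H₂ of index 2 in H, and some conjugate of z other than z lies in Q. Let s = g z g⁻¹ be a conjugate of z lying in Q and different from z. Then the intersection of Q and g Q g⁻¹ (as subgroups of G) is elementary abelian of order 2^7; and in H/Q, writing X for the image of the centralizer of s in H and E for the image of the intersection of g Q g⁻¹ with H, E is a normal subgroup of X, elementary abelian of order 32, with X/E isomorphic to the alternating group of degree 6. -/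
theorem result {G : Type*} [Group G] [Finite G] (z : G) (Q : Subgroup (Subgroup.centralizer ({z} : Set G))) [Q.Normal] (hF : Cfsg.IsOfLargeFischerTypeAt z Q) (s : G) (hsQ : ∃ hsc : s ∈ Subgroup.centralizer ({z} : Set G), (⟨s, hsc⟩ : Subgroup.centralizer ({z} : Set G)) ∈ Q) (hs : IsConj z s) (hs1 : s ≠ z) (g : G) (hg : g * z * g⁻¹ = s) (X E : Subgroup ((Subgroup.centralizer ({z} : Set G)) ⧸ Q)) (hX : X = ((Subgroup.centralizer ({z} : Set G) ⊓ Subgroup.centralizer ({s} : Set G)).subgroupOf (Subgroup.centralizer ({z} : Set G))).map (QuotientGroup.mk' Q)) (hE : E = ((((Q.map (Subgroup.centralizer ({z} : Set G)).subtype)).map (MulAut.conj g).toMonoidHom ⊓ Subgroup.centralizer ({z} : Set G)).subgroupOf (Subgroup.centralizer ({z} : Set G))).map (QuotientGroup.mk' Q)) : Cfsg.IsElementaryAbelian 2 ((Q.map (Subgroup.centralizer ({z} : Set G)).subtype) ⊓ ((Q.map (Subgroup.centralizer ({z} : Set G)).subtype)).map (MulAut.conj g).toMonoidHom) ∧ Nat.card ↥((Q.map (Subgroup.centralizer ({z} : Set G)).subtype) ⊓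 ((Q.map (Subgroup.centralizer ({z} : Set G)).subtype)).map (MulAut.conj g).toMonoidHom) = 2 ^ 7 ∧ E ≤ X ∧ (∀ x ∈ X, ∀ y ∈ E, x * y * x⁻¹ ∈ E) ∧ Cfsg.IsElementaryAbelian 2 E ∧ Nat.card E = 32 ∧ ∃ _ : (E.subgroupOf X).Normal, Nonempty (↥X ⧸ E.subgroupOf X ≃* alternatingGroup (Fin 6)) := by
  obtain ⟨D⟩ := CfsgLib.LargeFischer.exists_data hF
  obtain ⟨C⟩ := D.exists_coords
  obtain ⟨hsc, hsm⟩ := hsQ
  let x : Q := ⟨⟨s, hsc⟩, hsm⟩
  have hx := CfsgLib.LargeFischer.conj_not_center D (x := x) hg hs1
  obtain ⟨-, hE32, hM, -⟩ := CfsgLib.LargeFischer.image_main D (x := x) hg hx C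
  have hE' : E = CfsgLib.LargeFischer.eImage Q g := hE
  have hX' : X = C.stab (CfsgLib.LargeFischer.vec x) := by
    rw [hX]
    ext h
    constructor
    · rintro ⟨k, ⟨-, hk⟩, rfl⟩
      rw [QuotientGroup.mk'_apply, C.mem_stab, CfsgLib.LargeFischer.act_mk D.hS, CfsgLib.LargeFischer.actC_vec]
      congr 1
      refine Subtype.ext (Subtype.ext ?_)
      rw [CfsgLib.LargeFischer.conjIn_coe]
      show (k : G) * s * (k : G)⁻¹ = s
      rw [show (k : G) * s = s * (k : G) from Subgroup.mem_centralizer_singleton_iff.1 hk, mul_inv_cancel_right]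
    · intro hh
      obtain ⟨k, rfl, hk⟩ := CfsgLib.LargeFischer.exists_commuting D (x := x) hx C hh
      exact ⟨k, ⟨k.2, Subgroup.mem_centralizer_singleton_iff.2 hk.eq⟩, rfl⟩
  obtain ⟨hn, hiso⟩ := CfsgLib.LargeFischer.stab_quot D (x := x) hg hx C X hX'
  refine ⟨(CfsgLib.LargeFischer.meet_facts D (x := x) hg hx).1, hM, ?_⟩
  subst hE'
  refine ⟨hX' ▸ CfsgLib.LargeFischer.eImage_le_stab D (x := x) hg C, fun a ha b hb => ?_,
    CfsgLib.LargeFischer.eImage_elementary D (x := x) hg hx, hE32, hn, hiso⟩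
  exact CfsgLib.LargeFischer.eImage_conj D (x := x) hg hx C (hX' ▸ ha) hb

end Cfsg.Agent.S5442
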