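import Cfsg.Statements.S5443
import Cfsg.Agent.LargeFischer.Conjugates
import Cfsg.Agent.LargeFischer.Outer
import Cfsg.Agent.LargeFischer.StabAOrth
import Cfsg.Agent.UFourThree.Five

set_option autoImplicit false
set_option maxHeartbeats 400000
open Cfsg

namespace Cfsg.Agent.S5443

/-- Let G be a finite group of large Fischer type at the involution z: the generalized Fitting subgroup Q of H = C_G(z) is extraspecial of order 2^13, H has normal subgroups Q ≤ H₁ ≤ H₂ with H₁/Q of order 3, H₂/H₁ the projective special unitary group of dimension 4 over the field with nine elements and H₂ of index 2 in H, and some conjugate of z other than z lies in Q. Let t be an involution of Q not conjugate to z in G, and S the set of elements of H conjugating t to t or to t z (the stabilizer of the image of t in Q modulo its centre). Then the image of S in H/Q is isomorphic to the full isometry group of the elliptic quadratic form in dimension 6 over the field with two elements. -/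
theorem result {G : Type*} [Group G] [Finite G] (z : G) (Q : Subgroup (Subgroup.centralizer ({z} : Set G))) [Q.Normal] (hF : Cfsg.IsOfLargeFischerTypeAt z Q) (t : Subgroup.centralizer ({z} : Set G)) (htQ : t ∈ Q) (ht2 : orderOf t = 2) (ht : ¬ IsConj z (t : G)) (S : Subgroup (Subgroup.centralizer ({z} : Set G))) (hS : ∀ h : Subgroup.centralizer ({z} : Set G), h ∈ S ↔ (h * t * h⁻¹ = t ∨ ((h * t * h⁻¹ : Subgroup.centralizer ({z} : Set G)) : G) = t * z)) : Nonempty (↥(S.map (QuotientGroup.mk' Q)) ≃* Cfsg.isometryGroup (ZMod 2) (Cfsg.quadFormMinus 2 (ZMod 2) 1 1)) := by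
  classical
  obtain ⟨D⟩ := CfsgLib.LargeFischer.exists_data hF
  obtain ⟨C⟩ := D.exists_coords
  let a : Q := ⟨t, htQ⟩
  have htz : (t : G) ≠ z := fun e => ht (by rw [e])
  obtain ⟨hac, hcl⟩ := C.cases_of_involution (x := a) ht2 htz
  have hA : C.F.InA C.c (CfsgLib.LargeFischer.vec a) := by
    refine hcl.resolve_right fun hB => ht ?_
    obtain ⟨g, x, hgx, hx⟩ := D.exists_conj
    obtain ⟨hBx, -⟩ := CfsgLib.LargeFischer.image_main D hgx hx C
    obtain ⟨k, hk⟩ := CfsgLib.LargeFischer.Coords.conj_of_orbit (D := D) hac ((C.orbB _ _ hBx).2 hB)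
    have hk' : (k : G) * CfsgLib.LargeFischer.toG x * (k : G)⁻¹ = (t : G) :=
      congrArg Subtype.val hk
    refine isConj_iff.2 ⟨(k : G) * g, ?_⟩
    rw [← hk', ← hgx]
    group
  have h5 : ∀ u l : D.L, u ^ 2 = 1 → u ≠ 1 → orderOf l = 5 → ¬ Commute u l := by
    intro u l hu hu1 hl hcom
    letI := D.fieldK
    letI := D.fintypeK
    have hker : ∀ y, D.π y = 1 → y ^ 3 = 1 := fun y hy => by
      obtain ⟨n, rfl⟩ := (D.π_ker y).1 hy
      rw [← zpow_natCast, ← zpow_mul, mul_comm, zpow_mul, zpow_natCast, D.x3, one_zpow]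
    haveI : Fact (Nat.Prime 5) := ⟨by norm_num⟩
    have hl5 : orderOf (D.π l) = 5 := by
      refine orderOf_eq_prime ?_ fun h => ?_
      · rw [← map_pow, ← hl, pow_orderOf_eq_one, map_one]
      · have := orderOf_dvd_of_pow_eq_one (hker l h)
        rw [hl] at this
        norm_num at this
    have hcz := CfsgLib.UFourThree.centralizer_five D.K D.cardK (Subgroup.zpowers (D.π l))
      (by rw [Nat.card_zpowers, hl5])
    have hmem : D.π u ∈ Subgroup.zpowers (D.π l) := by
      rw [← hcz, Subgroup.mem_centralizer_iff]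
      rintro _ ⟨n, rfl⟩
      exact ((hcom.map D.π).zpow_right n).eq.symm
    have h5' : D.π u ^ 5 = 1 := by
      obtain ⟨n, hn⟩ := hmem
      have hn' : D.π l ^ n = D.π u := hn
      rw [← hn', ← zpow_natCast, ← zpow_mul, mul_comm, zpow_mul, zpow_natCast, ← hl5,
        pow_orderOf_eq_one, one_zpow]
    have h2' : D.π u ^ 2 = 1 := by rw [← map_pow, hu, map_one]
    have h1 : D.π u = 1 := by
      rw [pow_succ, show D.π u ^ 4 = (D.π u ^ 2) ^ 2 from pow_mul _ 2 2, h2', one_pow, one_mul] at h5'
      exact h5'
    have h3 := hker u h1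
    exact hu1 (by rw [pow_succ, hu, one_mul] at h3; exact h3)
  have hsemi : ∀ h, h ∉ D.L → ∀ w, CfsgLib.LargeFischer.act h (D.setting.φ D.setting.x w) =
      D.setting.φ D.setting.x (D.setting.φ D.setting.x (CfsgLib.LargeFischer.act h w)) := by
    intro h hh w
    have e := mul_inv_eq_iff_eq_mul.1 (D.outer_inverts hh)
    have e3 : (D.x : Subgroup.centralizer ({z} : Set G) ⧸ Q)⁻¹ = D.x * D.x := by
      refine inv_eq_of_mul_eq_one_right ?_
      have := congrArg Subtype.val D.x3
      rw [SubgroupClass.coe_pow, pow_succ, pow_two, mul_assoc] at this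
      exact this
    show CfsgLib.LargeFischer.act h (CfsgLib.LargeFischer.act (D.x : Subgroup.centralizer ({z} : Set G) ⧸ Q) w) =
      CfsgLib.LargeFischer.act (D.x : Subgroup.centralizer ({z} : Set G) ⧸ Q)
        (CfsgLib.LargeFischer.act (D.x : Subgroup.centralizer ({z} : Set G) ⧸ Q) (CfsgLib.LargeFischer.act h w))
    rw [← CfsgLib.LargeFischer.act_mul D.hS, ← CfsgLib.LargeFischer.act_mul D.hS,
      ← CfsgLib.LargeFischer.act_mul D.hS, e, e3, mul_assoc]
  obtain ⟨e⟩ := CfsgLib.LargeFischer.stabA_iso (S := D.setting) CfsgLib.LargeFischer.act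
    (CfsgLib.LargeFischer.act_mul D.hS) (fun _ _ => rfl) C.F C.c D.L_index D.L_card h5 hsemi
    (fun h w hw => C.act_inA h hw) (fun u w hu hw => (C.orbA u w hu).2 hw) hA
  have hz2 := CfsgLib.LargeFischer.zin_sq D.hS
  have hzc := fun q : Q => Subgroup.mem_center_iff.1
    ((CfsgLib.LargeFischer.mem_center_cases D.hS).2 (Or.inr rfl)) q
  have hmap : S.map (QuotientGroup.mk' Q) = CfsgLib.LargeFischer.stabIn CfsgLib.LargeFischer.act
      (CfsgLib.LargeFischer.act_mul D.hS) (CfsgLib.LargeFischer.vec a) := by
    have key : ∀ k : Subgroup.centralizer ({z} : Set G), k ∈ S ↔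
        CfsgLib.LargeFischer.act (QuotientGroup.mk k) (CfsgLib.LargeFischer.vec a) =
          CfsgLib.LargeFischer.vec a := by
      intro k
      rw [hS, CfsgLib.LargeFischer.act_mk D.hS, CfsgLib.LargeFischer.actC_vec,
        CfsgLib.LargeFischer.vec_eq_iff D.hS, CfsgLib.LargeFischer.mem_center_cases D.hS]
      constructor
      · rintro (e | e)
        · left
          rw [show CfsgLib.LargeFischer.conjIn k a = a from
            Subtype.ext (by rw [CfsgLib.LargeFischer.conjIn_coe]; exact e), inv_mul_cancel]
        · right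
          rw [show CfsgLib.LargeFischer.conjIn k a = a * CfsgLib.LargeFischer.zin D.hS from
            Subtype.ext (Subtype.ext (by rw [CfsgLib.LargeFischer.conjIn_coe]; exact e)), mul_inv_rev,
            mul_assoc, inv_mul_cancel, mul_one]
          exact inv_eq_of_mul_eq_one_right hz2
      · rintro (e | e)
        · left
          have := congrArg Subtype.val (inv_mul_eq_one.1 e)
          rwa [CfsgLib.LargeFischer.conjIn_coe] at this
        · right
          have h1 : CfsgLib.LargeFischer.conjIn k a = a * CfsgLib.LargeFischer.zin D.hS := by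
            nth_rewrite 2 [inv_mul_eq_iff_eq_mul.1 e]
            rw [mul_assoc, hz2, mul_one]
          have := congrArg (fun q : Q => (q : Subgroup.centralizer ({z} : Set G))) h1
          simp only [CfsgLib.LargeFischer.conjIn_coe, Subgroup.coe_mul] at this
          exact congrArg Subtype.val this
    ext h
    obtain ⟨k, rfl⟩ := QuotientGroup.mk_surjective h
    constructor
    · rintro ⟨k', hk', e⟩
      show CfsgLib.LargeFischer.act _ _ = _
      rw [← e]
      exact (key k').1 hk'
    · intro hk
      exact ⟨k, (key k).2 hk, rfl⟩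
  rw [hmap]
  exact ⟨e⟩

end Cfsg.Agent.S5443
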