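import Cfsg.Statements.S5447
import Cfsg.Agent.LargeFischerJ.Main

set_option autoImplicit false
open Cfsg

namespace Cfsg.Agent.S5447

/-- Let G be a finite group of large Fischer type at the involution z: the generalized Fitting subgroup Q of H = C_G(z) is extraspecial of order 2^13, H has normal subgroups Q ≤ H₁ ≤ H₂ with H₁/Q of order 3, H₂/H₁ the projective special unitary group of dimension 4 over the field with nine elements and H₂ of index 2 in H, and some conjugate of z other than z lies in Q. Let T be a Sylow 2-subgroup of G, A its Thompson subgroup and M = N_G(A) its normalizer. Then M controls fusion in A (elements of A conjugate in G are conjugate in M), and M has exactly two orbits on the non-identity elements of A: those conjugate to z in G and those not. -/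
theorem result {G : Type*} [Group G] [Finite G] (z : G) (Q : Subgroup (Subgroup.centralizer ({z} : Set G))) [Q.Normal] (hF : Cfsg.IsOfLargeFischerTypeAt z Q) (T : Sylow 2 G) (A M : Subgroup G) (hA : A = Cfsg.thompsonSubgroupOf 2 (T : Subgroup G)) (hM : M = Subgroup.normalizer (A : Set G)) : (∀ a ∈ A, ∀ g : G, g * a * g⁻¹ ∈ A → ∃ m ∈ M, m * a * m⁻¹ = g * a * g⁻¹) ∧ (∃ a ∈ A, a ≠ 1 ∧ IsConj z a) ∧ (∃ a ∈ A, a ≠ 1 ∧ ¬ IsConj z a) ∧ ∀ a ∈ A, ∀ b ∈ A, a ≠ 1 → b ≠ 1 → (IsConj z a ↔ IsConj z b) → ∃ m ∈ M, m * a * m⁻¹ = b := by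
  obtain ⟨A₀, R, c, hL, hT⟩ := CfsgLib.LargeFischerJ.exists_setup hF T
  subst hM hA
  rw [hT, CfsgLib.LargeFischerJ.normalizer_map]
  have hconj : ∀ u : G, IsConj z (c * u * c⁻¹) ↔ IsConj z u := fun u =>
    ⟨fun h => h.trans (isConj_iff.2 ⟨c⁻¹, by group⟩), fun h => h.trans (isConj_iff.2 ⟨c, rfl⟩)⟩
  have hfus : ∀ u ∈ A₀, ∀ v ∈ A₀, (∃ g : G, g * u * g⁻¹ = v) →
      ∃ m ∈ (Subgroup.normalizer (A₀ : Set G)).map (MulAut.conj c).toMonoidHom,
        m * (c * u * c⁻¹) * m⁻¹ = c * v * c⁻¹ := by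
    rintro u hu v hv ⟨g, rfl⟩
    obtain ⟨m, hm, h⟩ := hL.fusion u hu g hv
    exact ⟨_, ⟨m, hm, rfl⟩, by simp only [MulEquiv.coe_toMonoidHom, MulAut.conj_apply]; rw [← h]; group⟩
  refine ⟨?_, ⟨c * z * c⁻¹, ⟨z, hL.z_mem, rfl⟩, fun h => hL.z_ne (conj_eq_one_iff.1 h),
    (hconj z).2 (IsConj.refl z)⟩, ?_, ?_⟩
  · rintro _ ⟨u, hu, rfl⟩ g ⟨v, hv, e⟩
    simp only [MulEquiv.coe_toMonoidHom, MulAut.conj_apply] at e ⊢
    rw [← e]
    refine hfus u hu v hv ⟨c⁻¹ * g * c, ?_⟩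
    rw [show v = c⁻¹ * (c * v * c⁻¹) * c by group, e]
    group
  · obtain ⟨u, hu⟩ : Nonempty (CfsgLib.LargeFischerJ.Layer.others z A₀) :=
      (Nat.card_pos_iff.1 (by rw [hL.card_others]; norm_num)).1
    exact ⟨c * u * c⁻¹, ⟨u, hu.1, rfl⟩, fun h => hu.2.1 (conj_eq_one_iff.1 h), fun h => hu.2.2 ((hconj u).1 h)⟩
  · rintro _ ⟨u, hu, rfl⟩ _ ⟨v, hv, rfl⟩ hu1 hv1 hiff
    simp only [MulEquiv.coe_toMonoidHom, MulAut.conj_apply] at hu1 hv1 hiff ⊢
    rw [hconj, hconj] at hiff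
    rw [Ne, conj_eq_one_iff] at hu1 hv1
    by_cases h : IsConj z u
    · refine hfus u hu v hv ?_
      obtain ⟨g, hg⟩ := isConj_iff.1 (h.symm.trans (hiff.1 h))
      exact ⟨g, hg⟩
    · obtain ⟨m, hm, e⟩ := hL.others_transitive (a := u) (b := v) ⟨hu, hu1, h⟩
        ⟨hv, hv1, fun h' => h (hiff.2 h')⟩
      exact hfus u hu v hv ⟨m, e⟩

end Cfsg.Agent.S5447
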