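import Cfsg.Statements.S5452
import Cfsg.Agent.FischerTypes.U62Lift

set_option autoImplicit false
open Cfsg

namespace Cfsg.Agent.S5452

theorem mul_zpow' {G : Type*} [Group G] (d : G) (n : ℤ) : (d * d) ^ n = d ^ n * d ^ n :=
  (Commute.refl d).mul_zpow n


/-- Let G be a finite group with an involution d whose centralizer C is quasisimple with C modulo the subgroup generated by d isomorphic to the projective special unitary group of dimension 6 over the field with four elements, and suppose some conjugate of d other than d commutes with d. Then every involution of C modulo the subgroup generated by d is the image of an involution of C, and d is not a square in G. -/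
theorem result {G : Type*} [Group G] [Finite G] (d : G) (hd : orderOf d = 2) (hq : Cfsg.IsQuasisimple ↥(Subgroup.centralizer ({d} : Set G))) [hzn : ((Subgroup.zpowers d).subgroupOf (Subgroup.centralizer ({d} : Set G))).Normal] (K : Type) [Field K] [Fintype K] (hK : Fintype.card K = 4) (e : ↥(Subgroup.centralizer ({d} : Set G)) ⧸ (Subgroup.zpowers d).subgroupOf (Subgroup.centralizer ({d} : Set G)) ≃* Cfsg.PSU 6 K 2) (hnwc : ∃ g : G, g * d * g⁻¹ ∈ Subgroup.centralizer ({d} : Set G) ∧ g * d * g⁻¹ ≠ d) : (∀ x : ↥(Subgroup.centralizer ({d} : Set G)) ⧸ (Subgroup.zpowers d).subgroupOf (Subgroup.centralizer ({d} : Set G)), orderOf x = 2 → ∃ y : ↥(Subgroup.centralizer ({d} : Set G)), orderOf y = 2 ∧ (QuotientGroup.mk y : ↥(Subgroup.centralizer ({d} : Set G)) ⧸ (Subgroup.zpowers d).subgroupOf (Subgroup.centralizer ({d} : Set G))) = x) ∧ ¬ ∃ g : G, g ^ 2 = d := by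
  obtain ⟨C', hC', φ, hφ, hφk⟩ := CfsgLib.U62.exists_model K hK
  let Z := (Subgroup.zpowers d).subgroupOf (Subgroup.centralizer ({d} : Set G))
  let π : ↥(Subgroup.centralizer ({d} : Set G)) →* Cfsg.PSU 6 K 2 := e.toMonoidHom.comp (QuotientGroup.mk' Z)
  have hπ : Function.Surjective π := e.surjective.comp (QuotientGroup.mk'_surjective Z)
  have hmem : ∀ a, π a = 1 → (a : G) ∈ Subgroup.zpowers d := fun a ha => by
    have h1 : e (QuotientGroup.mk a) = 1 := ha
    rw [e.map_eq_one_iff, QuotientGroup.eq_one_iff] at h1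
    exact h1
  have hk : π.ker ≤ Subgroup.center _ := fun a ha => by
    rw [Subgroup.mem_center_iff]
    intro g
    obtain ⟨n, hn⟩ := hmem a ha
    have hg : Commute d (g : G) := (Subgroup.mem_centralizer_singleton_iff.1 g.2).symm
    apply Subtype.ext
    show (g : G) * (a : G) = a * g
    rw [← hn]
    exact ((hg.zpow_left n).eq).symm
  have hd2 : d * d = 1 := by rw [← pow_two, ← hd, pow_orderOf_eq_one]
  have hk2 : ∀ a, π a = 1 → a * a = 1 := fun a ha => by
    obtain ⟨n, hn⟩ := hmem a ha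
    apply Subtype.ext
    show (a : G) * (a : G) = 1
    rw [← hn, ← mul_zpow' d n, hd2, one_zpow]
  have hlift : ∀ x : ↥(Subgroup.centralizer ({d} : Set G)) ⧸ Z, orderOf x = 2 →
      ∃ y : ↥(Subgroup.centralizer ({d} : Set G)), orderOf y = 2 ∧ QuotientGroup.mk y = x := by
    intro x hx
    have hx2 : x * x = 1 := by rw [← pow_two, ← hx, pow_orderOf_eq_one]
    obtain ⟨y, hy, hy2⟩ := CfsgLib.U62.exists_lift_involution C' hC' π hπ hk φ hk2 hφ hφk (e x)
      (by rw [← map_mul, hx2, map_one])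
    have hyx : QuotientGroup.mk y = x := e.injective hy
    refine ⟨y, orderOf_eq_prime_iff.2 ⟨by rw [pow_two, hy2], fun h => ?_⟩, hyx⟩
    rw [← hyx, h, QuotientGroup.mk_one, orderOf_one] at hx
    omega
  refine ⟨hlift, ?_⟩
  rintro ⟨g, hg⟩
  have hgC : g ∈ Subgroup.centralizer ({d} : Set G) := by
    rw [Subgroup.mem_centralizer_singleton_iff, ← hg]
    exact (Commute.self_pow g 2).eq
  have hd1 : d ≠ 1 := fun h => by rw [h, orderOf_one] at hd; omega
  have hsq : ∀ a : ↥(Subgroup.centralizer ({d} : Set G)), a ∈ Z → a * a = 1 := fun a ha =>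
    hk2 a (by show e (QuotientGroup.mk a) = 1; rw [e.map_eq_one_iff, QuotientGroup.eq_one_iff]; exact ha)
  have hx : orderOf (QuotientGroup.mk ⟨g, hgC⟩ : _ ⧸ Z) = 2 := by
    refine orderOf_eq_prime_iff.2 ⟨?_, fun h => ?_⟩
    · rw [← QuotientGroup.mk_pow, QuotientGroup.eq_one_iff, Subgroup.mem_subgroupOf]
      show g ^ 2 ∈ _
      rw [hg]
      exact Subgroup.mem_zpowers d
    · rw [QuotientGroup.eq_one_iff] at h
      have := congrArg Subtype.val (hsq _ h)
      exact hd1 (by rw [← hg, pow_two]; exact this)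
  obtain ⟨y, hy, hyx⟩ := hlift _ hx
  have hy2 : y * y = 1 := by rw [← pow_two, ← hy, pow_orderOf_eq_one]
  rw [QuotientGroup.eq] at hyx
  have hc : Commute y (y⁻¹ * ⟨g, hgC⟩) :=
    CfsgLib.U62.commutes_of_map_one π hk
      (show e (QuotientGroup.mk _) = 1 by rw [e.map_eq_one_iff, QuotientGroup.eq_one_iff]; exact hyx) y |>.symm
  have h2 := hsq _ hyx
  have h3 : (y * (y⁻¹ * ⟨g, hgC⟩)) * (y * (y⁻¹ * ⟨g, hgC⟩)) = 1 := by
    rw [Commute.mul_mul_mul_comm hc.symm, hy2, h2, one_mul]
  rw [mul_inv_cancel_left] at h3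
  exact hd1 (by rw [← hg, pow_two]; exact congrArg Subtype.val h3)
end Cfsg.Agent.S5452
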