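import Cfsg.Statements.S5453
import Cfsg.Agent.FischerTypes.M22Lift
import Cfsg.Agent.FischerTypes.M22Primitive

set_option autoImplicit false
open Cfsg

namespace Cfsg.Agent.S5453

/-- Let G be a finite group with an involution d whose centralizer C is quasisimple, such that C modulo the subgroup generated by d is of type M(22) with respect to some conjugacy class of 3-transpositions generating it and also has an involution whose own centralizer is quasisimple with quotient by it isomorphic to the projective special unitary group of dimension 6 over the field with four elements and which is not weakly closed in that centralizer; and suppose some conjugate of d other than d commutes with d. Then every involution of C modulo the subgroup generated by d is the image of an involution of C, and d is not a square in G. -/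
theorem result {G : Type*} [Group G] [Finite G] (d : G) (hd : orderOf d = 2) (hq : Cfsg.IsQuasisimple ↥(Subgroup.centralizer ({d} : Set G))) [hzn : ((Subgroup.zpowers d).subgroupOf (Subgroup.centralizer ({d} : Set G))).Normal] (htype : ∃ E : Set (↥(Subgroup.centralizer ({d} : Set G)) ⧸ (Subgroup.zpowers d).subgroupOf (Subgroup.centralizer ({d} : Set G))), Cfsg.IsThreeTranspositionClass E ∧ Cfsg.IsOfTypeM22 _ E) (hinvol : ∃ d' : ↥(Subgroup.centralizer ({d} : Set G)) ⧸ (Subgroup.zpowers d).subgroupOf (Subgroup.centralizer ({d} : Set G)), orderOf d' = 2 ∧ Cfsg.IsQuasisimple ↥(Subgroup.centralizer ({d'} : Set _)) ∧ (∃ (K : Type) (_ : Field K) (_ : Fintype K), Fintype.card K = 4 ∧ ∃ _ : ((Subgroup.zpowers d').subgroupOf (Subgroup.centralizer ({d'} : Set _))).Normal, Nonempty (↥(Subgroup.centralizer ({d'} : Set _)) ⧸ (Subgroup.zpowers d').subgroupOf (Subgroup.centralizer ({d'} : Set _)) ≃* Cfsg.PSU 6 K 2)) ∧ ∃ g, g * d' * g⁻¹ ∈ Subgroup.centralizer ({d'} : Set _) ∧ g * d' * g⁻¹ ≠ d')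 (hnwc : ∃ g : G, g * d * g⁻¹ ∈ Subgroup.centralizer ({d} : Set G) ∧ g * d * g⁻¹ ≠ d) : (∀ x : ↥(Subgroup.centralizer ({d} : Set G)) ⧸ (Subgroup.zpowers d).subgroupOf (Subgroup.centralizer ({d} : Set G)), orderOf x = 2 → ∃ y : ↥(Subgroup.centralizer ({d} : Set G)), orderOf y = 2 ∧ (QuotientGroup.mk y : ↥(Subgroup.centralizer ({d} : Set G)) ⧸ (Subgroup.zpowers d).subgroupOf (Subgroup.centralizer ({d} : Set G))) = x) ∧ ¬ ∃ g : G, g ^ 2 = d := by
  set C := Subgroup.centralizer ({d} : Set G) with hC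
  set Z := (Subgroup.zpowers d).subgroupOf C with hZ
  obtain ⟨E, hE, h22⟩ := htype
  obtain ⟨hE1, ⟨a, ha, hEa⟩, hEgen⟩ := hE
  have hd2 : d * d = 1 := by rw [← pow_two, ← hd, pow_orderOf_eq_one]
  have hd1 : d ≠ 1 := fun h1 => by rw [h1, orderOf_one] at hd; omega
  have hzC : ∀ z : C, (z : G) ∈ Subgroup.zpowers d → (∀ g : C, Commute z g) ∧ z * z = 1 := by
    intro z hz
    obtain ⟨n, hn⟩ := Subgroup.mem_zpowers_iff.1 hz
    refine ⟨fun g => Subtype.ext ?_, Subtype.ext ?_⟩
    · have hgd : Commute (g : G) d := Subgroup.mem_centralizer_singleton_iff.1 g.2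
      show (z : G) * g = g * z
      rw [← hn]
      exact ((hgd.zpow_right n).eq).symm
    · show (z : G) * z = 1
      rw [← hn, ← (Commute.refl d).mul_zpow, hd2, one_zpow]
  have hker : ∀ z : C, QuotientGroup.mk' Z z = 1 → (∀ g : C, Commute z g) ∧ z * z = 1 :=
    fun z hz => hzC z ((QuotientGroup.eq_one_iff z).1 hz)
  have hπ := QuotientGroup.mk'_surjective Z
  have h : Cfsg.IsThreeTranspositionGroup E := ⟨hE1, fun g x hx => by
    rw [hEa] at hx ⊢
    exact hx.trans (isConj_iff.2 ⟨g, rfl⟩), hEgen⟩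
  -- the quotient is simple
  have hcen : Z = Subgroup.center C := by
    refine le_antisymm (fun z hz => Subgroup.mem_center_iff.2 fun g => ((hzC z hz).1 g).eq.symm) fun z hz => ?_
    have h1 : QuotientGroup.mk' Z z ∈ Subgroup.center (C ⧸ Z) := by
      refine Subgroup.mem_center_iff.2 fun q => ?_
      obtain ⟨q, rfl⟩ := hπ q
      rw [← map_mul, ← map_mul, Subgroup.mem_center_iff.1 hz q]
    rw [h22.1, Subgroup.mem_bot] at h1
    exact (QuotientGroup.eq_one_iff z).1 h1
  have hsimple : IsSimpleGroup (C ⧸ Z) := by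
    have := hq.2
    let e : C ⧸ Z ≃* C ⧸ Subgroup.center C := QuotientGroup.quotientMulEquivOfEq hcen
    have : Nontrivial (C ⧸ Z) := e.toEquiv.nontrivial
    exact IsSimpleGroup.isSimpleGroup_of_surjective e.symm.toMonoidHom e.symm.surjective
  have hp := CfsgLib.FischerTypes.isPrimitive_of_simple h h22
  constructor
  · intro x hx
    have hx2 : x * x = 1 := by rw [← pow_two, ← hx, pow_orderOf_eq_one]
    have hx1 : x ≠ 1 := fun h1 => by rw [h1, orderOf_one] at hx; omega
    obtain ⟨y, hy, hy2⟩ := CfsgLib.FischerTypes.exists_lift_mul_self _ hπ hker h hp h22 hx2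
    exact ⟨y, orderOf_eq_prime (by rw [pow_two, hy2]) (fun h1 => hx1 (by rw [← hy, h1, map_one])), hy⟩
  · rintro ⟨g, hg⟩
    have hgC : g ∈ C := Subgroup.mem_centralizer_singleton_iff.2
      (hg ▸ ((Commute.refl g).pow_right 2).eq)
    obtain ⟨y, hy, hy2⟩ := CfsgLib.FischerTypes.exists_lift_mul_self (QuotientGroup.mk' Z) hπ hker h hp h22
      (j := QuotientGroup.mk' Z ⟨g, hgC⟩) (by
        rw [← map_mul, QuotientGroup.mk'_apply, QuotientGroup.eq_one_iff]
        show g * g ∈ Subgroup.zpowers d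
        rw [← pow_two, hg]
        exact Subgroup.mem_zpowers d)
    obtain ⟨hc, hu⟩ := hker (y⁻¹ * ⟨g, hgC⟩) (by rw [map_mul, map_inv, hy, inv_mul_cancel])
    have h1 : (⟨g, hgC⟩ : C) * ⟨g, hgC⟩ = 1 := by
      calc (⟨g, hgC⟩ : C) * ⟨g, hgC⟩ = y * (y⁻¹ * ⟨g, hgC⟩) * (y * (y⁻¹ * ⟨g, hgC⟩)) := by group
        _ = y * y * (y⁻¹ * ⟨g, hgC⟩ * (y⁻¹ * ⟨g, hgC⟩)) := Commute.mul_mul_mul_comm (hc y) _ _
        _ = 1 := by rw [hy2, hu, one_mul]
    exact hd1 (by rw [← hg, pow_two]; exact congrArg Subtype.val h1)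

end Cfsg.Agent.S5453
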