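import Cfsg.Statements.S5454
import Cfsg.Agent.U62Pencil.Fusion
import Cfsg.Agent.PLocal.Thompson

set_option autoImplicit false
open Cfsg

namespace Cfsg.Agent.S5454

open CfsgLib.U62Pencil

/-- Let G be a finite group with an involution d whose centralizer C is quasisimple with C modulo the subgroup generated by d isomorphic to the projective special unitary group of dimension 6 over the field with four elements, and suppose some conjugate of d other than d commutes with d. Let S be a Sylow 2-subgroup of C and A the Thompson subgroup of S (generated by the elementary abelian subgroups of S of largest order), regarded as a subgroup of G. Then A is elementary abelian of order 2^10, exactly 22 conjugates of d lie in A, and the normalizer of A permutes them transitively. -/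
theorem result {G : Type*} [Group G] [Finite G] (d : G) (hd : orderOf d = 2) (hq : Cfsg.IsQuasisimple ↥(Subgroup.centralizer ({d} : Set G))) [hzn : ((Subgroup.zpowers d).subgroupOf (Subgroup.centralizer ({d} : Set G))).Normal] (K : Type) [Field K] [Fintype K] (hK : Fintype.card K = 4) (e : ↥(Subgroup.centralizer ({d} : Set G)) ⧸ (Subgroup.zpowers d).subgroupOf (Subgroup.centralizer ({d} : Set G)) ≃* Cfsg.PSU 6 K 2) (hnwc : ∃ g : G, g * d * g⁻¹ ∈ Subgroup.centralizer ({d} : Set G) ∧ g * d * g⁻¹ ≠ d) (S : Sylow 2 ↥(Subgroup.centralizer ({d} : Set G))) (A : Subgroup G) (hA : A = (Cfsg.thompsonSubgroupOf 2 (S : Subgroup ↥(Subgroup.centralizer ({d} : Set G)))).map (Subgroup.centralizer ({d} : Set G)).subtype) : Cfsg.IsElementaryAbelian 2 A ∧ Nat.card A = 2 ^ 10 ∧ Set.ncard {x : G | x ∈ A ∧ IsConj d x} = 22 ∧ ∀ x ∈ A, ∀ y ∈ A, IsConj d x → IsConj d y → ∃ n ∈ Subgroup.normalizer (A : Set G), n * x * n⁻¹ = y := by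
  haveI : Fact (Nat.Prime 2) := ⟨Nat.prime_two⟩
  subst hA
  revert S
  set C := Subgroup.centralizer ({d} : Set G) with hC
  set Z := (Subgroup.zpowers d).subgroupOf C with hZ
  intro S
  have hd2 : d * d = 1 := by rw [← pow_two, ← hd, pow_orderOf_eq_one]
  have hd1 : d ≠ 1 := fun h1 => by rw [h1, orderOf_one] at hd; omega
  have hker : ∀ z : C, e.toMonoidHom.comp (QuotientGroup.mk' Z) z = 1 ↔ z = 1 ∨ z = selfC d := by
    intro z
    show e (QuotientGroup.mk' Z z) = 1 ↔ _
    rw [map_eq_one_iff e e.injective, QuotientGroup.mk'_apply, QuotientGroup.eq_one_iff, hZ, Subgroup.mem_subgroupOf]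
    constructor
    · intro hz
      obtain ⟨n, hn⟩ := Subgroup.mem_zpowers_iff.1 hz
      rcases Int.even_or_odd' n with ⟨k, rfl | rfl⟩
      · left; refine Subtype.ext ?_
        rw [← hn, zpow_mul, zpow_two, hd2, one_zpow]; rfl
      · right; refine Subtype.ext ?_
        rw [← hn, zpow_add, zpow_mul, zpow_two, hd2, one_zpow, one_mul, zpow_one]; rfl
    · rintro (rfl | rfl)
      · exact one_mem _
      · exact Subgroup.mem_zpowers d
  have hcen : ∀ g : C, Commute (selfC d) g := fun g =>
    Subtype.ext (Subgroup.mem_centralizer_singleton_iff.1 g.2).symm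
  obtain ⟨X, q, T, H₀⟩ := exists_setup hK (e.toMonoidHom.comp (QuotientGroup.mk' Z))
    (e.surjective.comp (QuotientGroup.mk'_surjective Z)) hker hcen (Subtype.ext hd2)
    (fun h => hd1 (congrArg Subtype.val h)) hq.1.commutator_eq_top
  -- move to the given Sylow subgroup
  obtain ⟨c, hc⟩ := MulAction.exists_smul_eq C H₀.sylow S
  have H := H₀.conj c
  have hS : (S : Subgroup C) = H.Ssub := by
    rw [← hc, Sylow.coe_subgroup_smul, H₀.coe_sylow]
    show (((CfsgLib.Schur.Pc.tailSubgroup X.y2 17 0).map q).map (MulAut.conj c).toMonoidHom : Subgroup C) = _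
    rw [Subgroup.map_map]
    rfl
  have hJ : Cfsg.thompsonSubgroupOf 2 (S : Subgroup C) = H.Asub := by
    have hle : H.Asub ≤ (S : Subgroup C) := hS ▸ H.Asub_le
    have hset : Subgroup.map (S : Subgroup C).subtype '' maxElementaryAbelianSubgroups 2 ↥(S : Subgroup C) = {H.Asub} := by
      rw [CfsgLib.PLocal.image_map_maxEA]
      ext B
      constructor
      · rintro ⟨hBS, hBe, hBmax⟩
        refine (H.elementary_le (hS ▸ hBS) hBe).2 ?_
        have := hBmax _ hle H.elementary_Asub
        rw [H.card_Asub] at this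
        omega
      · rintro rfl
        refine ⟨hle, H.elementary_Asub, fun Y hY hY' => ?_⟩
        rw [H.card_Asub]
        exact (H.elementary_le (hS ▸ hY) hY').1
    unfold thompsonSubgroupOf thompsonSubgroup
    rw [(Subgroup.gc_map_comap (S : Subgroup C).subtype).l_sSup, ← sSup_image, hset, sSup_singleton]
  rw [hJ]
  refine ⟨H.elementary_AG, H.card_AG, H.ncard_eq hnwc, ?_⟩
  intro x hx y hy hdx hdy
  obtain ⟨g, hg, hgx⟩ := H.transitive ⟨hx, hdx⟩
  obtain ⟨k, hk, hky⟩ := H.transitive ⟨hy, hdy⟩
  refine ⟨k * g⁻¹, mul_mem hk (inv_mem hg), ?_⟩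
  rw [← hgx, ← hky]
  group

end Cfsg.Agent.S5454
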