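import Cfsg.Statements.S5455
import Cfsg.Agent.FischerTypes.M23PencilCount
import Cfsg.Agent.FischerTypes.M22Primitive

set_option autoImplicit false
open Cfsg

namespace Cfsg.Agent.S5455

/-- Let G be a finite group with an involution d whose centralizer C is quasisimple, such that C modulo the subgroup generated by d is of type M(22) with respect to some conjugacy class of 3-transpositions generating it and also has an involution whose own centralizer is quasisimple with quotient by it isomorphic to the projective special unitary group of dimension 6 over the field with four elements and which is not weakly closed in that centralizer; and suppose some conjugate of d other than d commutes with d. Let S be a Sylow 2-subgroup of C and A the Thompson subgroup of S, regarded as a subgroup of G. Then A is elementary abelian of order 2^11, exactly 23 conjugates of d lie in A, and the normalizer of A permutes them transitively. -/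
theorem result {G : Type*} [Group G] [Finite G] (d : G) (hd : orderOf d = 2) (hq : Cfsg.IsQuasisimple ↥(Subgroup.centralizer ({d} : Set G))) [hzn : ((Subgroup.zpowers d).subgroupOf (Subgroup.centralizer ({d} : Set G))).Normal] (htype : ∃ E : Set (↥(Subgroup.centralizer ({d} : Set G)) ⧸ (Subgroup.zpowers d).subgroupOf (Subgroup.centralizer ({d} : Set G))), Cfsg.IsThreeTranspositionClass E ∧ Cfsg.IsOfTypeM22 _ E) (hinvol : ∃ d' : ↥(Subgroup.centralizer ({d} : Set G)) ⧸ (Subgroup.zpowers d).subgroupOf (Subgroup.centralizer ({d} : Set G)), orderOf d' = 2 ∧ Cfsg.IsQuasisimple ↥(Subgroup.centralizer ({d'} : Set _)) ∧ (∃ (K : Type) (_ : Field K) (_ : Fintype K), Fintype.card K = 4 ∧ ∃ _ : ((Subgroup.zpowers d').subgroupOf (Subgroup.centralizer ({d'} : Set _))).Normal, Nonempty (↥(Subgroup.centralizer ({d'} : Set _)) ⧸ (Subgroup.zpowers d').subgroupOf (Subgroup.centralizer ({d'} : Set _)) ≃* Cfsg.PSU 6 K 2)) ∧ ∃ g, g * d' * g⁻¹ ∈ Subgroup.centralizer ({d'} : Set _) ∧ g * d' * g⁻¹ ≠ d') (hnwc : ∃ g :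 G, g * d * g⁻¹ ∈ Subgroup.centralizer ({d} : Set G) ∧ g * d * g⁻¹ ≠ d) (S : Sylow 2 ↥(Subgroup.centralizer ({d} : Set G))) (A : Subgroup G) (hA : A = (Cfsg.thompsonSubgroupOf 2 (S : Subgroup ↥(Subgroup.centralizer ({d} : Set G)))).map (Subgroup.centralizer ({d} : Set G)).subtype) : Cfsg.IsElementaryAbelian 2 A ∧ Nat.card A = 2 ^ 11 ∧ Set.ncard {x : G | x ∈ A ∧ IsConj d x} = 23 ∧ ∀ x ∈ A, ∀ y ∈ A, IsConj d x → IsConj d y → ∃ n ∈ Subgroup.normalizer (A : Set G), n * x * n⁻¹ = y := by
  subst hA
  revert S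
  set C := Subgroup.centralizer ({d} : Set G) with hC
  set Z := (Subgroup.zpowers d).subgroupOf C with hZ
  obtain ⟨E, hE, h22⟩ := htype
  obtain ⟨hE1, ⟨a, ha, hEa⟩, hEgen⟩ := hE
  have hd2 : d * d = 1 := by rw [← pow_two, ← hd, pow_orderOf_eq_one]
  have hd1 : d ≠ 1 := fun h1 => by rw [h1, orderOf_one] at hd; omega
  have hcentral : ∀ g : C, Commute (CfsgLib.FischerTypes.selfC d) g := fun g =>
    Subtype.ext (Subgroup.mem_centralizer_singleton_iff.1 g.2).symm
  have hker : ∀ z : C, QuotientGroup.mk' Z z = 1 ↔ z = 1 ∨ z = CfsgLib.FischerTypes.selfC d := by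
    intro z
    rw [QuotientGroup.mk'_apply, QuotientGroup.eq_one_iff, hZ, Subgroup.mem_subgroupOf]
    constructor
    · intro hz
      obtain ⟨n, hn⟩ := Subgroup.mem_zpowers_iff.1 hz
      rcases Int.even_or_odd' n with ⟨k, rfl | rfl⟩
      · left; refine Subtype.ext ?_
        rw [← hn, zpow_mul, zpow_two, hd2, one_zpow]; rfl
      · right; refine Subtype.ext ?_
        rw [← hn, zpow_add, zpow_mul, zpow_two, hd2, one_zpow, one_mul, zpow_one]; rfl
    · rintro (rfl | rfl)
      · exact one_mem _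
      · exact Subgroup.mem_zpowers d
  have hπ := QuotientGroup.mk'_surjective Z
  have h : Cfsg.IsThreeTranspositionGroup E := ⟨hE1, fun g x hx => by
    rw [hEa] at hx ⊢
    exact hx.trans (isConj_iff.2 ⟨g, rfl⟩), hEgen⟩
  -- the quotient is simple
  have hcen : Z = Subgroup.center C := by
    refine le_antisymm (fun z hz => Subgroup.mem_center_iff.2 fun g => ?_) fun z hz => ?_
    · rcases (hker z).1 ((QuotientGroup.eq_one_iff z).2 hz) with rfl | rfl
      · simp
      · exact (hcentral g).eq.symm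
    have h1 : QuotientGroup.mk' Z z ∈ Subgroup.center (C ⧸ Z) := by
      refine Subgroup.mem_center_iff.2 fun q => ?_
      obtain ⟨q, rfl⟩ := hπ q
      rw [← map_mul, ← map_mul, Subgroup.mem_center_iff.1 hz q]
    rw [h22.1, Subgroup.mem_bot] at h1
    exact (QuotientGroup.eq_one_iff z).1 h1
  have hsimple : IsSimpleGroup (C ⧸ Z) := by
    have := hq.2
    let e : C ⧸ Z ≃* C ⧸ Subgroup.center C := QuotientGroup.quotientMulEquivOfEq hcen
    have : Nontrivial (C ⧸ Z) := e.toEquiv.nontrivial
    exact IsSimpleGroup.isSimpleGroup_of_surjective e.symm.toMonoidHom e.symm.surjective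
  have hp := CfsgLib.FischerTypes.isPrimitive_of_simple h h22
  have H : CfsgLib.FischerTypes.Cover22 (QuotientGroup.mk' Z) E (CfsgLib.FischerTypes.selfC d) :=
    ⟨hπ, hker, hcentral, Subtype.ext hd2, fun e => hd1 (congrArg Subtype.val e), hq.1.commutator_eq_top,
      h, hp, h22⟩
  intro S
  obtain ⟨M, hM, hJ⟩ := H.thompson S
  rw [hJ]
  change Cfsg.IsElementaryAbelian 2 (CfsgLib.FischerTypes.Pencil.Asub (QuotientGroup.mk' Z) M) ∧ _
  refine ⟨CfsgLib.FischerTypes.Pencil.elementary_A H hM, CfsgLib.FischerTypes.Pencil.card_A H hM, ?_, ?_⟩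
  · obtain ⟨x, hx, hxd⟩ := CfsgLib.FischerTypes.Pencil.exists_other H hM hnwc
    exact CfsgLib.FischerTypes.Pencil.ncard_eq H hM hx hxd
  · intro x hx y hy hdx hdy
    obtain ⟨g, hg, hgx⟩ := CfsgLib.FischerTypes.Pencil.transitive H hM ⟨hx, hdx⟩
    obtain ⟨k, hk, hky⟩ := CfsgLib.FischerTypes.Pencil.transitive H hM ⟨hy, hdy⟩
    refine ⟨k * g⁻¹, mul_mem hk (inv_mem hg), ?_⟩
    rw [← hgx, ← hky]
    group

end Cfsg.Agent.S5455
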