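import Cfsg.Statements.S5459

set_option autoImplicit false
open Cfsg

namespace Cfsg.Agent.S5459

/-- Let G be a finite group with a quasisimple normal subgroup L and an involution d such that G is generated by L and d, the centre of L has odd order, and d inverts every element of the centre of L. If the commuting graph on the conjugacy class of the image of d in G modulo the centre of L is connected, then the commuting graph on the conjugacy class of d is connected. -/
theorem result {G : Type*} [Group G] [Finite G] (L : Subgroup G) [L.Normal] (hL : Cfsg.IsQuasisimple ↥L) (d : G) (hd : orderOf d = 2) (hgen : L ⊔ Subgroup.zpowers d = ⊤) (hodd : Odd (Nat.card ↥(Subgroup.center ↥L))) (hinv : ∀ c ∈ (Subgroup.center ↥L).map L.subtype, d * c * d⁻¹ = c⁻¹) [hn : ((Subgroup.center ↥L).map L.subtype).Normal] (hconn : (Cfsg.commutingGraph (conjugatesOf (QuotientGroup.mk d : G ⧸ (Subgroup.center ↥L).map L.subtype))).Connected) : (Cfsg.commutingGraph (conjugatesOf d)).Connected :=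 by
  obtain ⟨hperf, hsimp⟩ := hL
  set Z := (Subgroup.center ↥L).map L.subtype with hZdef
  have hzc : ∀ c ∈ Z, ∀ l ∈ L, c * l = l * c := by
    rintro _ ⟨c, hc, rfl⟩ l hl
    simpa using (congrArg Subtype.val (Subgroup.mem_center_iff.mp hc ⟨l, hl⟩)).symm
  have hZodd : Odd (Nat.card Z) := by
    rwa [Nat.card_congr ((Subgroup.center ↥L).equivMapOfInjective _ L.subtype_injective).toEquiv.symm]
  have sq : ∀ c ∈ Z, ∃ u ∈ Z, u * u = c := by
    intro c hc
    obtain ⟨k, hk⟩ := hZodd
    refine ⟨c ^ (k + 1), Z.pow_mem hc _, ?_⟩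
    have h1 : c ^ Nat.card Z = 1 := by
      have := congrArg Subtype.val (pow_card_eq_one' (x := (⟨c, hc⟩ : Z)))
      rwa [Subgroup.coe_pow, Subgroup.coe_one] at this
    rw [← pow_add, show k + 1 + (k + 1) = Nat.card Z + 1 by omega, pow_succ, h1, one_mul]
  have hdd : d * d = 1 := by rw [← pow_two, ← hd, pow_orderOf_eq_one]
  have conjD : ∀ x ∈ conjugatesOf d, x * x = 1 ∧ ∀ c ∈ Z, x * c = c⁻¹ * x := by
    intro x hx
    obtain ⟨g, rfl⟩ := isConj_iff.mp hx
    refine ⟨by rw [show g * d * g⁻¹ * (g * d * g⁻¹) = g * (d * d) * g⁻¹ from by group, hdd]; group,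
      fun c hc => ?_⟩
    have hc' : g⁻¹ * c * g ∈ Z := by simpa using hn.conj_mem c hc g⁻¹
    calc g * d * g⁻¹ * c = g * (d * (g⁻¹ * c * g) * d⁻¹) * d * g⁻¹ := by group
      _ = g * (g⁻¹ * c * g)⁻¹ * d * g⁻¹ := by rw [hinv _ hc']
      _ = c⁻¹ * (g * d * g⁻¹) := by group
  have fibre : ∀ x ∈ conjugatesOf d, ∀ c ∈ Z, x * c ∈ conjugatesOf d := by
    intro x hx c hc
    obtain ⟨u, hu, rfl⟩ := sq c hc
    refine IsConj.trans hx (isConj_iff.mpr ⟨u⁻¹, ?_⟩)
    rw [inv_inv, show x * (u * u) = (x * u) * u from (mul_assoc _ _ _).symm,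
      (conjD x hx).2 u hu]
  set V := ↥(conjugatesOf d)
  set Γ := Cfsg.commutingGraph (conjugatesOf d) with hΓ
  have hadj : ∀ a b : V, Γ.Adj a b ↔ a ≠ b ∧ Commute (a : G) (b : G) := by
    intro a b
    simp only [hΓ, Cfsg.commutingGraph, SimpleGraph.fromRel_adj]
    exact ⟨fun h => ⟨h.1, h.2.elim id Commute.symm⟩, fun h => ⟨h.1, Or.inl h.2⟩⟩
  let v₀ : V := ⟨d, mem_conjugatesOf_self⟩
  have hmap : ∀ g : G, ∀ x ∈ conjugatesOf d, g * x * g⁻¹ ∈ conjugatesOf d := fun g x hx =>
    IsConj.trans hx (isConj_iff.mpr ⟨g, rfl⟩)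
  let cj : G → V → V := fun g a => ⟨g * a * g⁻¹, hmap g a a.2⟩
  have hcj : ∀ g a b, Γ.Reachable a b → Γ.Reachable (cj g a) (cj g b) := by
    intro g a b h
    let f : Γ →g Γ :=
      { toFun := cj g
        map_rel' := fun {a b} hab => by
          rw [hadj] at hab ⊢
          refine ⟨fun he => hab.1 (Subtype.ext ?_), (Commute.conj_iff g).mpr hab.2⟩
          exact mul_left_cancel (mul_right_cancel (congrArg Subtype.val he)) }
    exact h.map f
  let T : Subgroup G :=
    { carrier := {g | Γ.Reachable v₀ (cj g v₀)}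
      one_mem' := by
        show Γ.Reachable v₀ (cj 1 v₀)
        rw [show cj 1 v₀ = v₀ from Subtype.ext (by simp [cj])]
      mul_mem' := by
        intro g h hg hh
        show Γ.Reachable v₀ (cj (g * h) v₀)
        rw [show cj (g * h) v₀ = cj g (cj h v₀) from Subtype.ext (by simp [cj, mul_assoc])]
        exact (show Γ.Reachable v₀ (cj g v₀) from hg).trans (hcj g _ _ hh)
      inv_mem' := by
        intro g hg
        show Γ.Reachable v₀ (cj g⁻¹ v₀)
        have := hcj g⁻¹ _ _ (show Γ.Reachable v₀ (cj g v₀) from hg)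
        rw [show cj g⁻¹ (cj g v₀) = v₀ from Subtype.ext (by simp [cj, mul_assoc])] at this
        exact this.symm }
  have hT : ∀ g : G, g ∈ T ↔ Γ.Reachable v₀ (cj g v₀) := fun g => Iff.rfl
  have hdT : d ∈ T := by
    rw [hT, show cj d v₀ = v₀ from Subtype.ext (by simp [cj, v₀, mul_assoc])]
  have hreachT : ∀ a : V, Γ.Reachable v₀ a → (a : G) ∈ T := by
    intro a ha
    obtain ⟨g, hg⟩ := isConj_iff.mp a.2
    have hgT : g ∈ T := by
      rw [hT, show cj g v₀ = a from Subtype.ext hg]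
      exact ha
    rw [← hg]
    exact T.mul_mem (T.mul_mem hgT hdT) (T.inv_mem hgT)
  -- paths lift
  let mkq : V → ↥(conjugatesOf (QuotientGroup.mk d : G ⧸ Z)) := fun a =>
    ⟨QuotientGroup.mk' Z (a : G), MonoidHom.map_isConj (QuotientGroup.mk' Z) a.2⟩
  have step : ∀ (a : V) (q : ↥(conjugatesOf (QuotientGroup.mk d : G ⧸ Z))),
      (Cfsg.commutingGraph (conjugatesOf (QuotientGroup.mk d : G ⧸ Z))).Adj (mkq a) q →
      ∃ b : V, mkq b = q ∧ Γ.Adj a b := by
    intro a q hq
    obtain ⟨p, hp⟩ := isConj_iff.mp q.2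
    induction p using QuotientGroup.induction_on with
    | H g =>
      set y := g * d * g⁻¹ with hy
      have hyc : y ∈ conjugatesOf d := isConj_iff.mpr ⟨g, rfl⟩
      have hyq : (QuotientGroup.mk' Z y : G ⧸ Z) = q := by
        rw [hy, ← hp]; simp
      simp only [Cfsg.commutingGraph, SimpleGraph.fromRel_adj] at hq
      obtain ⟨hne, hc⟩ := hq
      have hc' : Commute (QuotientGroup.mk' Z (a : G)) (QuotientGroup.mk' Z y) := by
        rw [hyq]; exact hc.elim id Commute.symm
      have hx := conjD a a.2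
      have hy2 := conjD y hyc
      have hmem : ((a : G) * y) * ((a : G) * y) ∈ Z := by
        rw [← QuotientGroup.eq_one_iff]
        change QuotientGroup.mk' Z (((a : G) * y) * ((a : G) * y)) = 1
        rw [map_mul, map_mul, mul_assoc, ← mul_assoc (QuotientGroup.mk' Z y), ← hc'.eq, mul_assoc,
          ← map_mul _ y y, hy2.1, map_one, mul_one, ← map_mul, hx.1, map_one]
      obtain ⟨u, hu, huu⟩ := sq _ (Z.inv_mem hmem)
      have h2 : ((a : G) * (y * u)) * ((a : G) * (y * u)) = 1 := by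
        have e1 : u * ((a : G) * y) = (a : G) * y * u := by
          rw [← mul_assoc, show u * (a : G) = a * u⁻¹ by
              rw [hx.2 _ (Z.inv_mem hu), inv_inv],
            mul_assoc (a : G) u⁻¹ y, ← hy2.2 u hu, ← mul_assoc]
        calc ((a : G) * (y * u)) * ((a : G) * (y * u))
            = ((a : G) * y) * (u * ((a : G) * y)) * u := by simp [mul_assoc]
          _ = (((a : G) * y) * ((a : G) * y)) * (u * u) := by rw [e1]; simp [mul_assoc]
          _ = 1 := by rw [huu, mul_inv_cancel]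
      have hyu := fibre y hyc u hu
      have hq' : mkq ⟨y * u, hyu⟩ = q := Subtype.ext (by
        show QuotientGroup.mk' Z (y * u) = q
        rw [map_mul, show QuotientGroup.mk' Z u = 1 from (QuotientGroup.eq_one_iff u).mpr hu, mul_one, hyq])
      refine ⟨⟨y * u, hyu⟩, hq', (hadj _ _).mpr ⟨fun he => hne (he ▸ hq'), ?_⟩⟩
      have h3 := (conjD _ hyu).1
      show (a : G) * (y * u) = (y * u) * a
      rw [mul_eq_one_iff_eq_inv, mul_inv_rev, inv_eq_of_mul_eq_one_right h3,
        inv_eq_of_mul_eq_one_right hx.1] at h2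
      exact h2
  have lift : ∀ q, ∃ b : V, mkq b = q ∧ Γ.Reachable v₀ b := by
    intro q
    obtain ⟨w⟩ := hconn.preconnected (mkq v₀) q
    have key : ∀ {p q}, (Cfsg.commutingGraph (conjugatesOf (QuotientGroup.mk d : G ⧸ Z))).Walk p q →
        ∀ a : V, mkq a = p → Γ.Reachable v₀ a → ∃ b : V, mkq b = q ∧ Γ.Reachable v₀ b := by
      intro p q w
      induction w with
      | nil => intro a ha hr; exact ⟨a, ha, hr⟩
      | cons hpq _ ih =>
        intro a ha hr
        obtain ⟨b, hb, hab⟩ := step a _ (ha ▸ hpq)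
        exact ih b hb (hr.trans hab.reachable)
    exact key w v₀ rfl (SimpleGraph.Reachable.refl _)
  have hgen' : ∀ x ∈ conjugatesOf d, x ∈ T ⊔ Z := by
    intro x hx
    obtain ⟨b, hb, hr⟩ := lift (mkq ⟨x, hx⟩)
    have hb' : (b : G)⁻¹ * x ∈ Z := QuotientGroup.eq.mp (congrArg Subtype.val hb)
    have := Subgroup.mul_mem_sup (hreachT b hr) hb'
    rwa [mul_inv_cancel_left] at this
  set N := Subgroup.normalClosure ({d} : Set G) with hN
  have hNle : N ≤ T ⊔ Z := by
    refine (Subgroup.closure_le _).mpr fun x hx => ?_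
    obtain ⟨y, rfl, hy⟩ := Group.mem_conjugatesOfSet_iff.mp hx
    exact hgen' x hy
  have : Nonempty V := ⟨v₀⟩
  refine ⟨fun a b => ?_⟩
  suffices htop : ∀ a : V, Γ.Reachable v₀ a from (htop a).symm.trans (htop b)
  intro a
  rcases ((Subgroup.normalClosure_normal (s := ({d} : Set G))).subgroupOf L |>.map
      (QuotientGroup.mk' (Subgroup.center ↥L)) (QuotientGroup.mk'_surjective _)).eq_bot_or_eq_top
    with hb | ht
  · -- `d` centralizes `L`
    rw [Subgroup.map_eq_bot_iff, QuotientGroup.ker_mk'] at hb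
    have hcm : ∀ l ∈ L, d * l * d⁻¹ * l⁻¹ ∈ Z := by
      intro l hl
      have h1 : d * l * d⁻¹ * l⁻¹ ∈ L := L.mul_mem (Subgroup.Normal.conj_mem inferInstance l hl d) (L.inv_mem hl)
      have h2 : d * (l * d⁻¹ * l⁻¹) ∈ N :=
        N.mul_mem (Subgroup.subset_normalClosure rfl)
          (Subgroup.normalClosure_normal.conj_mem _ (N.inv_mem (Subgroup.subset_normalClosure rfl)) l)
      exact ⟨⟨_, h1⟩, hb (by rw [Subgroup.mem_subgroupOf]; simpa [mul_assoc] using h2), rfl⟩
    let χ : ↥L →* ↥Z := MonoidHom.mk' (fun l => ⟨d * l * d⁻¹ * (l : G)⁻¹, hcm l l.2⟩) (by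
      intro l m
      apply Subtype.ext
      show d * ((l : G) * m) * d⁻¹ * ((l : G) * m)⁻¹ = (d * l * d⁻¹ * (l : G)⁻¹) * (d * m * d⁻¹ * (m : G)⁻¹)
      have := hzc _ (hcm m m.2) _ l.2
      calc d * ((l : G) * m) * d⁻¹ * ((l : G) * m)⁻¹
          = d * l * d⁻¹ * ((d * m * d⁻¹ * (m : G)⁻¹) * (l : G)⁻¹) := by group
        _ = d * l * d⁻¹ * ((l : G)⁻¹ * (d * m * d⁻¹ * (m : G)⁻¹)) := by rw [hzc _ (hcm m m.2) _ (L.inv_mem l.2)]
        _ = _ := by group)
    have hχ : ∀ l, χ l = 1 := by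
      intro l
      have hl : l ∈ commutator ↥L := hperf.commutator_eq_top ▸ Subgroup.mem_top l
      have hle : commutator ↥L ≤ χ.ker := by
        rw [commutator_eq_closure, Subgroup.closure_le]
        rintro _ ⟨p, q, rfl⟩
        have hcm2 : ∀ x y : ↥Z, x * y = y * x := fun x y => Subtype.ext (by
          obtain ⟨c, hc, hcx⟩ := y.2
          exact hzc _ x.2 _ (hcx ▸ c.2))
        simp only [SetLike.mem_coe, MonoidHom.mem_ker, commutatorElement_def, map_mul, map_inv]
        rw [hcm2 (χ p) (χ q)]; group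
      exact hle hl
    have hcen : ∀ g : G, d * g = g * d := by
      intro g
      have hle : L ⊔ Subgroup.zpowers d ≤ Subgroup.centralizer ({d} : Set G) := by
        refine sup_le (fun l hl => Subgroup.mem_centralizer_singleton_iff.mpr ?_)
          (Subgroup.zpowers_le.mpr (Subgroup.mem_centralizer_singleton_iff.mpr rfl))
        have := congrArg Subtype.val (hχ ⟨l, hl⟩)
        simp only [χ, MonoidHom.mk'_apply, Subgroup.coe_one] at this
        exact ((mul_inv_eq_iff_eq_mul.mp (mul_inv_eq_one.mp this))).symm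
      exact (Subgroup.mem_centralizer_singleton_iff.mp (hle (hgen ▸ Subgroup.mem_top g))).symm
    obtain ⟨g, hg⟩ := isConj_iff.mp a.2
    rw [show a = v₀ from Subtype.ext (by rw [← hg, ← hcen]; simp [v₀])]
  · -- `L` lies in the normal closure of `d`
    have hLT : L ≤ T := by
      intro l hl
      have hlc : (⟨l, hl⟩ : ↥L) ∈ commutator ↥L := hperf.commutator_eq_top ▸ Subgroup.mem_top _
      have hle : commutator ↥L ≤ T.subgroupOf L := by
        rw [commutator_eq_closure, Subgroup.closure_le]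
        rintro _ ⟨p, q, rfl⟩
        have dec : ∀ p : ↥L, ∃ t c : G, t ∈ T ∧ t ∈ L ∧ c ∈ Z ∧ (p : G) = t * c := by
          intro p
          have hp : (QuotientGroup.mk' (Subgroup.center ↥L) p) ∈ (N.subgroupOf L).map
              (QuotientGroup.mk' (Subgroup.center ↥L)) := ht ▸ Subgroup.mem_top _
          obtain ⟨m, hm, hmp⟩ := Subgroup.mem_map.mp hp
          have hmc : m⁻¹ * p ∈ Subgroup.center ↥L := QuotientGroup.eq.mp hmp
          obtain ⟨t, ht', c, hc, htc⟩ := (Subgroup.mem_sup_of_normal_right (s := T) (t := Z)).mp (hNle hm)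
          replace htc : t * c = (m : G) := htc
          refine ⟨t, c * ((m : G)⁻¹ * p), ht', ?_, Z.mul_mem hc ⟨_, hmc, rfl⟩, ?_⟩
          · have hcL : c ∈ L := Subgroup.map_subtype_le _ hc
            have : t = (m : G) * c⁻¹ := by rw [← htc]; group
            rw [this]; exact L.mul_mem m.2 (L.inv_mem hcL)
          · rw [← mul_assoc, htc]; group
        obtain ⟨t, c, htT, htL, hc, hpe⟩ := dec p
        obtain ⟨t', c', htT', htL', hc', hqe⟩ := dec q
        show ((p * q * p⁻¹ * q⁻¹ : ↥L) : G) ∈ T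
        simp only [Subgroup.coe_mul, Subgroup.coe_inv]
        rw [hpe, hqe]
        have e1 := hzc c hc (t' * c') (L.mul_mem htL' (Subgroup.map_subtype_le _ hc'))
        have e2 := hzc c' hc' t⁻¹ (L.inv_mem htL)
        rw [show t * c * (t' * c') * (t * c)⁻¹ * (t' * c')⁻¹ = t * (c * (t' * c')) * c⁻¹ * t⁻¹ * c'⁻¹ * t'⁻¹
            from by group, e1,
          show t * (t' * c' * c) * c⁻¹ * t⁻¹ * c'⁻¹ * t'⁻¹ = t * t' * (c' * t⁻¹) * c'⁻¹ * t'⁻¹ from by group, e2,
          show t * t' * (t⁻¹ * c') * c'⁻¹ * t'⁻¹ = t * t' * t⁻¹ * t'⁻¹ from by group]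
        exact T.mul_mem (T.mul_mem (T.mul_mem htT htT') (T.inv_mem htT)) (T.inv_mem htT')
      exact hle hlc
    have hTtop : T = ⊤ := by
      rw [eq_top_iff, ← hgen]
      exact sup_le hLT (Subgroup.zpowers_le.mpr hdT)
    obtain ⟨g, hg⟩ := isConj_iff.mp a.2
    have := (hT g).mp (hTtop ▸ Subgroup.mem_top g)
    rwa [show cj g v₀ = a from Subtype.ext hg] at this

end Cfsg.Agent.S5459
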