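import Cfsg.Statements.S5465
import Cfsg.Agent.FischerTypes.M24PairCent
import Cfsg.Agent.Fi22Out.Out

set_option autoImplicit false
open Cfsg CfsgLib.FischerTypes

namespace Cfsg.Agent.S5465

/-- Let G be a finite group with trivial centre generated by a conjugation-invariant set D of 3-transpositions on which it acts primitively, such that for some d in D the subgroup generated by the members of D other than d commuting with d has central largest normal 2- and 3-subgroups, and suppose G with D is of type M(24), and let L be the commutator subgroup of G. Let d₁, d₂ be distinct commuting members of D and j = d₁ d₂. Then K, the joint centralizer of d₁ and d₂ in L, is quasisimple, is the generalized Fitting subgroup of the centralizer of j in L, has index 2 in it and contains j, and the centralizer of j in L modulo the subgroup generated by j is isomorphic to the full automorphism group of the Fischer group Fi₂₂ (as presented). -/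
theorem result {G : Type*} [Group G] [Finite G] {D : Set G} (hD : Cfsg.IsThreeTranspositionGroup D) (hprim : Cfsg.IsPrimitiveUnderConj D) (d₀ : G) (hd₀ : d₀ ∈ D) (h3 : Cfsg.pCore 3 ↥(Subgroup.closure {y : G | y ∈ D ∧ y ≠ d₀ ∧ Commute d₀ y}) ≤ Subgroup.center ↥(Subgroup.closure {y : G | y ∈ D ∧ y ≠ d₀ ∧ Commute d₀ y})) (h2 : Cfsg.pCore 2 ↥(Subgroup.closure {y : G | y ∈ D ∧ y ≠ d₀ ∧ Commute d₀ y}) ≤ Subgroup.center ↥(Subgroup.closure {y : G | y ∈ D ∧ y ≠ d₀ ∧ Commute d₀ y})) (h24 : Cfsg.IsOfTypeM24 G D) (L : Subgroup G) (hL : L = commutator G) (d₁ d₂ : G) (h₁ : d₁ ∈ D) (h₂ : d₂ ∈ D) (hne : d₁ ≠ d₂) (hc : Commute d₁ d₂) (K CL : Subgroup G) (hK : K = L ⊓ Subgroup.centralizer ({d₁, d₂} : Set G)) (hCL : CL = L ⊓ Subgroup.centralizer ({d₁ * d₂} : Set G)) [hn : ((Subgroup.zpowers (d₁ * d₂)).subgroupOf CL).Normal] : Cfsg.IsQuasisimple ↥K ∧ K = (Cfsg.generalizedFittingSubgroup ↥CL).map CL.subtype ∧ K ≤ CL ∧ (K.subgroupOf CL).index = 2 ∧ d₁ *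 d₂ ∈ K ∧ Nonempty (↥CL ⧸ (Subgroup.zpowers (d₁ * d₂)).subgroupOf CL ≃* MulAut Cfsg.Spor.Fi22) := by
  classical
  have H : CfsgLib.FischerTypes.M24.Hyp G D := ⟨hD, hprim, h24⟩
  have p12 : d₂ ∈ perp D d₁ := ⟨h₂, hne.symm, hc⟩
  obtain ⟨hqs, hcen, ⟨e22⟩⟩ := CfsgLib.FischerTypes.M24.pair_core H h₁ p12 L K hL hK
  obtain ⟨hKCL, hidx⟩ := CfsgLib.FischerTypes.M24.pair_index H h₁ p12 L K CL hL hK hCL
  have hzK : d₁ * d₂ ∈ K := by
    obtain ⟨z, -, hz⟩ := (hcen.symm ▸ Subgroup.mem_zpowers (d₁ * d₂) :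
      d₁ * d₂ ∈ (Subgroup.center ↥K).map K.subtype)
    exact hz ▸ z.2
  haveI hKn : (K.subgroupOf CL).Normal := Subgroup.normal_of_index_eq_two hidx
  have hcent : Subgroup.centralizer ((K.subgroupOf CL : Subgroup ↥CL) : Set ↥CL) ≤ K.subgroupOf CL := by
    intro g hg
    -- an element outside `K` would swap the pair, but it centralizes the neighbours
    rw [Subgroup.mem_subgroupOf]
    by_contra hgK
    have hgC := g.2
    simp only [hCL, Subgroup.mem_inf, Subgroup.mem_centralizer_singleton_iff] at hgC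
    obtain ⟨χ, hker, hχ⟩ := CfsgLib.FischerTypes.M24.exists_sign_commutator H
    have hgc : ∀ k ∈ K, Commute (g : G) k := fun k hk =>
      (congrArg Subtype.val (Subgroup.mem_centralizer_iff.1 hg ⟨k, hKCL hk⟩
        (Subgroup.mem_subgroupOf.2 hk))).symm
    obtain ⟨y, hy1, hy2⟩ : ∃ y, y ∈ perp D d₁ ∧ y ∈ perp D d₂ := by
      obtain ⟨p, hp⟩ : (perp (img D d₁) (bar p12)).Nonempty :=
        Set.nonempty_of_ncard_ne_zero (by
          rw [CfsgLib.FischerTypes.M23.ncard_perp (CfsgLib.FischerTypes.M24.quot H h₁)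
            (CfsgLib.FischerTypes.M24.bar_mem H h₁ p12)]
          norm_num)
      obtain ⟨w, hw, rfl⟩ := CfsgLib.FischerTypes.M23.exists_lift hp.1
      exact ⟨w, hw, (CfsgLib.FischerTypes.M24.mem_perp_bar H h₁ p12 hw).1 hp⟩
    have hmemK : d₁ * y ∈ K := by
      rw [hK, Subgroup.mem_inf]
      refine ⟨?_, Subgroup.mem_centralizer_iff.2 ?_⟩
      · rw [hL, ← hker, MonoidHom.mem_ker, map_mul, hχ d₁ h₁, hχ y hy1.1]
        decide
      · rintro w (rfl | rfl)
        · exact ((Commute.refl w).mul_right hy1.2.2).eq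
        · exact (hc.symm.mul_right hy2.2.2).eq
    have hpu := pairUnique hD.1 (noTwins_of_primitive hD h24.1 hprim)
    have h1 : (g : G) * (d₁ * y) * (g : G)⁻¹ = d₁ * y := mul_inv_eq_iff_eq_mul.2 (hgc _ hmemK)
    have h2 : (g : G) * (d₁ * d₂) * (g : G)⁻¹ = d₁ * d₂ := mul_inv_eq_iff_eq_mul.2 hgC.2
    rw [show (g : G) * (d₁ * y) * (g : G)⁻¹ = (g * d₁ * (g : G)⁻¹) * (g * y * (g : G)⁻¹) by group] at h1
    rw [show (g : G) * (d₁ * d₂) * (g : G)⁻¹ = (g * d₁ * (g : G)⁻¹) * (g * d₂ * (g : G)⁻¹) by group] at h2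
    have key : ∀ {u : G}, u ∈ perp D d₁ → (g * d₁ * (g : G)⁻¹) * (g * u * (g : G)⁻¹) = d₁ * u →
        ((g : G) * d₁ * (g : G)⁻¹ = d₁ ∧ g * u * (g : G)⁻¹ = u) ∨
          ((g : G) * d₁ * (g : G)⁻¹ = u ∧ g * u * (g : G)⁻¹ = d₁) := fun {u} hu he =>
      hpu _ (hD.2.1 g d₁ h₁) _ (hD.2.1 g u hu.1) _ h₁ _ hu.1
        (fun he => hu.2.1 (mul_left_cancel (mul_right_cancel he)).symm)
        ((commute_conj_iff' _ _ _).2 hu.2.2) hu.2.1.symm hu.2.2 he
    rcases key p12 h2 with ⟨a1, a2⟩ | ⟨a1, a2⟩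
    · refine hgK (hK ▸ ⟨hgC.1, Subgroup.mem_centralizer_iff.2 ?_⟩)
      rintro w (rfl | rfl)
      exacts [(mul_inv_eq_iff_eq_mul.1 a1).symm, (mul_inv_eq_iff_eq_mul.1 a2).symm]
    · rcases key hy1 h1 with ⟨b1, b2⟩ | ⟨b1, b2⟩
      · exact p12.2.1 (a1.symm.trans b1)
      · exact hy2.2.1 (a1.symm.trans b1).symm
  have hq' : Cfsg.IsQuasisimple ↥(K.subgroupOf CL) :=
    CfsgLib.Components.isQuasisimple_congr (Subgroup.subgroupOfEquivOfLe hKCL).symm hqs
  refine ⟨hqs, ?_, hKCL, hidx, hzK, ?_⟩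
  · rw [generalizedFitting_eq_of_quasisimple (K.subgroupOf CL) hq' hcent,
      Subgroup.map_subgroupOf_eq_of_le hKCL]
  haveI := CfsgLib.CosetEnum.Fi22.isSimpleGroup_Fi22
  haveI : Finite Cfsg.Spor.Fi22 := Finite.of_surjective e22 e22.surjective
  have hcenA : Subgroup.center Cfsg.Spor.Fi22 = ⊥ := by
    rcases (inferInstance : (Subgroup.center Cfsg.Spor.Fi22).Normal).eq_bot_or_eq_top with h0 | h0
    · exact h0
    · exfalso
      haveI : IsMulCommutative Cfsg.Spor.Fi22 := Subgroup.center_eq_top_iff.1 h0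
      open scoped IsMulCommutative in
      have hp := IsSimpleGroup.prime_card (α := Cfsg.Spor.Fi22)
      rw [CfsgLib.CosetEnum.Fi22.card_Fi22] at hp
      norm_num at hp
  have hinn : Function.Injective (MulAut.conj : Cfsg.Spor.Fi22 →* MulAut Cfsg.Spor.Fi22) := by
    rw [← MonoidHom.ker_eq_bot_iff, Subgroup.eq_bot_iff_forall]
    intro x hx
    have hxc : x ∈ Subgroup.center Cfsg.Spor.Fi22 := Subgroup.mem_center_iff.2 fun k =>
      (mul_inv_eq_iff_eq_mul.1 (DFunLike.congr_fun (MonoidHom.mem_ker.1 hx) k)).symm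
    rwa [hcenA, Subgroup.mem_bot] at hxc
  have hcardA : Nat.card (MulAut Cfsg.Spor.Fi22) = 2 * Nat.card Cfsg.Spor.Fi22 := by
    rw [Subgroup.card_eq_card_quotient_mul_card_subgroup (Cfsg.Inn Cfsg.Spor.Fi22)]
    exact congrArg₂ (· * ·) CfsgLib.Fi22Out.card_out_Fi22
      (Nat.card_congr (MonoidHom.ofInjective hinn).toEquiv).symm
  -- the centre inside `CL`
  let ψ : ↥(K.subgroupOf CL) ≃* ↥K := Subgroup.subgroupOfEquivOfLe hKCL
  have hψc : (Subgroup.center ↥(K.subgroupOf CL)).map ψ.toMonoidHom = Subgroup.center ↥K := by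
    ext z
    obtain ⟨z, rfl⟩ := ψ.surjective z
    rw [Subgroup.mem_map_equiv, MulEquiv.symm_apply_apply, Subgroup.mem_center_iff, Subgroup.mem_center_iff]
    exact ⟨fun hz w => by rw [← ψ.apply_symm_apply w, ← map_mul, ← map_mul, hz],
      fun hz w => ψ.injective (by rw [map_mul, map_mul, hz])⟩
  have hZ : (Subgroup.center ↥(K.subgroupOf CL)).map (K.subgroupOf CL).subtype =
      (Subgroup.zpowers (d₁ * d₂)).subgroupOf CL := by
    apply Subgroup.map_injective CL.subtype_injective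
    rw [Subgroup.map_subgroupOf_eq_of_le ((Subgroup.zpowers_le.2 hzK).trans hKCL), ← hcen, ← hψc,
      Subgroup.map_map, Subgroup.map_map]
    rfl
  exact quotient_equiv_aut (K.subgroupOf CL) _ hq' hcent hZ
    ((QuotientGroup.congr _ _ ψ hψc).trans e22) (by rw [hidx]; exact hcardA)

end Cfsg.Agent.S5465
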