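import Cfsg.Statements.S5466
import Cfsg.Agent.FischerTypes.M24Triple

set_option autoImplicit false
open Cfsg CfsgLib.FischerTypes

namespace Cfsg.Agent.S5466

/-- Let G be a finite group with trivial centre generated by a conjugation-invariant set D of 3-transpositions on which it acts primitively, such that for some d in D the subgroup generated by the members of D other than d commuting with d has central largest normal 2- and 3-subgroups, and suppose G with D is of type M(24), and let L be the commutator subgroup of G. Let d₁, d₂, d₃ be distinct pairwise commuting members of D, j their product, E the subgroup generated by d₁ d₂ and d₁ d₃ (a four-group lying in L), CL the centralizer of j in L and K its generalized Fitting subgroup. Then K is quasisimple with centre E, K is the centralizer of E in L, K modulo E is isomorphic to the projective special unitary group of dimension 6 over the field with four elements, CL/K is isomorphic to the symmetric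 group of degree 3, and CL modulo E is isomorphic to the full automorphism group of that unitary group. -/
theorem result {G : Type*} [Group G] [Finite G] {D : Set G} (hD : Cfsg.IsThreeTranspositionGroup D) (hprim : Cfsg.IsPrimitiveUnderConj D) (d₀ : G) (hd₀ : d₀ ∈ D) (h3 : Cfsg.pCore 3 ↥(Subgroup.closure {y : G | y ∈ D ∧ y ≠ d₀ ∧ Commute d₀ y}) ≤ Subgroup.center ↥(Subgroup.closure {y : G | y ∈ D ∧ y ≠ d₀ ∧ Commute d₀ y})) (h2 : Cfsg.pCore 2 ↥(Subgroup.closure {y : G | y ∈ D ∧ y ≠ d₀ ∧ Commute d₀ y}) ≤ Subgroup.center ↥(Subgroup.closure {y : G | y ∈ D ∧ y ≠ d₀ ∧ Commute d₀ y})) (h24 : Cfsg.IsOfTypeM24 G D) (L : Subgroup G) (hL : L = commutator G) (d₁ d₂ d₃ : G) (h₁ : d₁ ∈ D) (h₂ : d₂ ∈ D) (h₃ : d₃ ∈ D) (h12 : d₁ ≠ d₂) (h13 : d₁ ≠ d₃) (h23 : d₂ ≠ d₃) (c12 : Commute d₁ d₂) (c13 : Commute d₁ d₃) (c23 : Commute d₂ d₃) (E CL K : Subgroup G) (hE : E = Subgroup.closure ({d₁ * d₂, d₁ * d₃} : Set G)) (hCL : CL = L ⊓ Subgroup.centralizer ({d₁ * d₂ * d₃} : Set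 G)) (hK : K = (Cfsg.generalizedFittingSubgroup ↥CL).map CL.subtype) : Cfsg.IsQuasisimple ↥K ∧ (Subgroup.center ↥K).map K.subtype = E ∧ K = L ⊓ Subgroup.centralizer (E : Set G) ∧ (∃ (_ : (E.subgroupOf K).Normal) (F : Type) (_ : Field F) (_ : Fintype F), Fintype.card F = 4 ∧ Nonempty (↥K ⧸ E.subgroupOf K ≃* Cfsg.PSU 6 F 2)) ∧ ∃ _ : (K.subgroupOf CL).Normal, Nonempty (↥CL ⧸ K.subgroupOf CL ≃* Equiv.Perm (Fin 3)) ∧ E ≤ CL ∧ ∃ (_ : (E.subgroupOf CL).Normal) (F : Type) (_ : Field F) (_ : Fintype F), Fintype.card F = 4 ∧ Nonempty (↥CL ⧸ E.subgroupOf CL ≃* MulAut (Cfsg.PSU 6 F 2)) := by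
  classical
  have H : CfsgLib.FischerTypes.M24.Hyp G D := ⟨hD, hprim, h24⟩
  have p12 : d₂ ∈ perp D d₁ := ⟨h₂, h12.symm, c12⟩
  have p13 : d₃ ∈ perp D d₁ := ⟨h₃, h13.symm, c13⟩
  have p23 : d₃ ∈ perp D d₂ := ⟨h₃, h23.symm, c23⟩
  obtain ⟨K0, hK0⟩ : ∃ K0 : Subgroup G, K0 = L ⊓ Subgroup.centralizer (E : Set G) := ⟨_, rfl⟩
  obtain ⟨hqs, hcen, F, hF, hFf, hF4, ⟨ePSU⟩⟩ := CfsgLib.FischerTypes.M24.triple_core H h₁ p12 p13 p23 L E K0 hL hE hK0
  obtain ⟨hKCL, σ, hσ, hσk⟩ := CfsgLib.FischerTypes.M24.triple_perm H h₁ p12 p13 p23 L E K0 CL hL hE hK0 hCL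
  haveI hKn : (K0.subgroupOf CL).Normal := hσk ▸ MonoidHom.normal_ker σ
  have hcent : Subgroup.centralizer ((K0.subgroupOf CL : Subgroup ↥CL) : Set ↥CL) ≤ K0.subgroupOf CL := by
    intro g hg
    rw [Subgroup.mem_subgroupOf, hK0, Subgroup.mem_inf]
    have hgC := g.2
    simp only [hCL, Subgroup.mem_inf] at hgC
    refine ⟨hgC.1, Subgroup.mem_centralizer_iff.2 fun x hx => ?_⟩
    obtain ⟨z, -, rfl⟩ := (hcen.symm ▸ hx : x ∈ (Subgroup.center ↥K0).map K0.subtype)
    exact congrArg Subtype.val (Subgroup.mem_centralizer_iff.1 hg ⟨z, hKCL z.2⟩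
      (Subgroup.mem_subgroupOf.2 z.2))
  have hq' : Cfsg.IsQuasisimple ↥(K0.subgroupOf CL) :=
    CfsgLib.Components.isQuasisimple_congr (Subgroup.subgroupOfEquivOfLe hKCL).symm hqs
  have hK' : K = K0 := by
    rw [hK, generalizedFitting_eq_of_quasisimple (K0.subgroupOf CL) hq' hcent,
      Subgroup.map_subgroupOf_eq_of_le hKCL]
  subst hK'
  have hEK : E ≤ K := fun x hx => by
    obtain ⟨z, -, rfl⟩ := (hcen.symm ▸ hx : x ∈ (Subgroup.center ↥K).map K.subtype)
    exact z.2
  have hEsub : E.subgroupOf K = Subgroup.center ↥K := by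
    conv_lhs => rw [← hcen]
    exact Subgroup.comap_map_eq_self_of_injective K.subtype_injective _
  have hEn : (E.subgroupOf K).Normal := by
    rw [hEsub]
    infer_instance
  have eKE : ↥K ⧸ E.subgroupOf K ≃* Cfsg.PSU 6 F 2 := (QuotientGroup.quotientMulEquivOfEq hEsub).trans ePSU
  refine ⟨hqs, hcen, hK0, ⟨hEn, F, hF, hFf, hF4, ⟨eKE⟩⟩, hKn,
    ⟨(QuotientGroup.quotientMulEquivOfEq hσk.symm).trans (QuotientGroup.quotientKerEquivOfSurjective σ hσ)⟩,
    hEK.trans hKCL, ?_⟩
  -- the action of `CL` on `K / E`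
  let β : ↥CL →* MulAut ↥K := (MulAut.congr (Subgroup.subgroupOfEquivOfLe hKCL)).toMonoidHom.comp
    (MulAut.conjNormal (H := K.subgroupOf CL))
  have hβ : ∀ (g : ↥CL) (k : ↥K), ((β g k : ↥K) : G) = g * k * (g : G)⁻¹ := fun g k => rfl
  have hpres : ∀ g : ↥CL, (E.subgroupOf K).map (β g).toMonoidHom = E.subgroupOf K := fun g => by
    rw [hEsub]
    exact Subgroup.characteristic_iff_map_eq.1 inferInstance (β g)
  let γ : ↥CL →* MulAut (↥K ⧸ E.subgroupOf K) :=
    { toFun := fun g => QuotientGroup.congr _ _ (β g) (hpres g)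
      map_one' := MulEquiv.ext fun q => by
        obtain ⟨k, rfl⟩ := QuotientGroup.mk_surjective q
        exact congrArg QuotientGroup.mk (by rw [map_one]; rfl)
      map_mul' := fun a b => MulEquiv.ext fun q => by
        obtain ⟨k, rfl⟩ := QuotientGroup.mk_surjective q
        exact congrArg QuotientGroup.mk (by rw [map_mul]; rfl) }
  have hγk : γ.ker = E.subgroupOf CL := by
    ext g
    rw [MonoidHom.mem_ker, Subgroup.mem_subgroupOf]
    constructor
    · intro hg
      have hmove : ∀ k : ↥K, (β g).toMonoidHom k * k⁻¹ ∈ Subgroup.center ↥K := fun k => by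
        have h1 : (QuotientGroup.mk (β g k) : ↥K ⧸ E.subgroupOf K) = QuotientGroup.mk k :=
          DFunLike.congr_fun hg (QuotientGroup.mk k)
        have h2 : (QuotientGroup.mk (β g k * k⁻¹) : ↥K ⧸ E.subgroupOf K) = 1 := by
          rw [QuotientGroup.mk_mul, h1, QuotientGroup.mk_inv, mul_inv_cancel]
        rw [← hEsub]
        exact (QuotientGroup.eq_one_iff _).1 h2
      have hfix := fixed_of_central_moves hqs (β g).toMonoidHom hmove
      have hgc : g ∈ Subgroup.centralizer ((K.subgroupOf CL : Subgroup ↥CL) : Set ↥CL) := by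
        refine Subgroup.mem_centralizer_iff.2 fun x hx => Subtype.ext ?_
        have h1 := congrArg Subtype.val (hfix ⟨x, hx⟩)
        exact (mul_inv_eq_iff_eq_mul.1 ((hβ g ⟨x, hx⟩).symm.trans h1)).symm
      have hgK : (g : G) ∈ K := Subgroup.mem_subgroupOf.1 (hcent hgc)
      rw [← hcen]
      refine ⟨⟨g, hgK⟩, Subgroup.mem_center_iff.2 fun k => Subtype.ext ?_, rfl⟩
      exact congrArg (fun w : ↥CL => (w : G)) (Subgroup.mem_centralizer_iff.1 hgc ⟨k, hKCL k.2⟩
        (Subgroup.mem_subgroupOf.2 k.2))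
    · intro hg
      refine MulEquiv.ext fun q => ?_
      obtain ⟨k, rfl⟩ := QuotientGroup.mk_surjective q
      refine congrArg QuotientGroup.mk (Subtype.ext ?_)
      show (g : G) * k * (g : G)⁻¹ = k
      obtain ⟨z, hz, hze⟩ := (hcen.symm ▸ hg : (g : G) ∈ (Subgroup.center ↥K).map K.subtype)
      rw [← hze]
      show (z : G) * k * (z : G)⁻¹ = k
      rw [show (z : G) * k = k * z from congrArg Subtype.val (Subgroup.mem_center_iff.1 hz k).symm,
        mul_inv_cancel_right]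
  haveI hEnCL : (E.subgroupOf CL).Normal := hγk ▸ MonoidHom.normal_ker γ
  refine ⟨hEnCL, F, hF, hFf, hF4, ?_⟩
  let γ' : ↥CL →* MulAut (Cfsg.PSU 6 F 2) := (MulAut.congr eKE).toMonoidHom.comp γ
  have hγ'k : γ'.ker = E.subgroupOf CL := by
    rw [← hγk]
    ext g
    simp [γ', MonoidHom.mem_ker]
  have hcardA : Nat.card (MulAut (Cfsg.PSU 6 F 2)) = 6 * Nat.card (Cfsg.PSU 6 F 2) := by
    haveI : Fact (Nat.Prime 2) := ⟨Nat.prime_two⟩
    rw [CfsgLib.AutPSU.card_aut_psu (by rw [hF4]; rfl) (by norm_num) (by norm_num),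
      CfsgLib.AutPSL.card_ringEquiv (p := 2) (f := 2) (by rw [hF4]; rfl) (by norm_num)]
    rfl
  have hrange : Nat.card γ'.range = 6 * Nat.card (Cfsg.PSU 6 F 2) := by
    rw [← Nat.card_congr (QuotientGroup.quotientKerEquivRange γ').toEquiv]
    have hKE : Nat.card (↥K ⧸ E.subgroupOf K) = Nat.card (Cfsg.PSU 6 F 2) := Nat.card_congr eKE.toEquiv
    have hCK : Nat.card (↥CL ⧸ K.subgroupOf CL) = 6 := by
      rw [Nat.card_congr ((QuotientGroup.quotientMulEquivOfEq hσk.symm).trans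
        (QuotientGroup.quotientKerEquivOfSurjective σ hσ)).toEquiv, Nat.card_perm, Nat.card_fin]
      rfl
    have h1 := Subgroup.card_eq_card_quotient_mul_card_subgroup γ'.ker
    have h2 := Subgroup.card_eq_card_quotient_mul_card_subgroup (K.subgroupOf CL)
    have h3 := Subgroup.card_eq_card_quotient_mul_card_subgroup (E.subgroupOf K)
    rw [hγ'k, Nat.card_congr (Subgroup.subgroupOfEquivOfLe (hEK.trans hKCL)).toEquiv] at h1
    rw [hCK, Nat.card_congr (Subgroup.subgroupOfEquivOfLe hKCL).toEquiv] at h2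
    rw [hKE, Nat.card_congr (Subgroup.subgroupOfEquivOfLe hEK).toEquiv] at h3
    rw [hγ'k]
    have hpos : 0 < Nat.card ↥E := Nat.card_pos
    refine Nat.eq_of_mul_eq_mul_right hpos ?_
    rw [← h1, h2, h3, mul_assoc]
  have hsurj : Function.Surjective γ' := by
    rw [← MonoidHom.range_eq_top]
    exact Subgroup.eq_top_of_card_eq _ (hrange.trans hcardA.symm)
  exact ⟨(QuotientGroup.quotientMulEquivOfEq hγ'k.symm).trans
    (QuotientGroup.quotientKerEquivOfSurjective γ' hsurj)⟩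

end Cfsg.Agent.S5466
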