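import Cfsg.Statements.S5514
import Cfsg.Agent.OmegaSeven.Invariants
import Cfsg.Agent.OmegaSeven.Split

set_option autoImplicit false
open Cfsg CfsgLib.OmegaSeven

namespace Cfsg.Agent.S5514

/-- The commutator subgroup of the isometry group of a non-degenerate 7-dimensional quadratic form over the field with three elements, modulo its (trivial) centre — the simple group Ω(7, 3) — has exactly seven conjugacy classes of subgroups of order 3. -/
theorem result : ∃ Y : Fin 7 → Subgroup (Cfsg.POmega (ZMod 3) (Cfsg.quadFormOdd 3 (ZMod 3))), (∀ i, Nat.card (Y i) = 3) ∧ (∀ i j, (∃ g : Cfsg.POmega (ZMod 3) (Cfsg.quadFormOdd 3 (ZMod 3)), (Y i).map (MulAut.conj g).toMonoidHom = Y j) → i = j) ∧ (∀ X : Subgroup (Cfsg.POmega (ZMod 3) (Cfsg.quadFormOdd 3 (ZMod 3))), Nat.card X = 3 → ∃ i, ∃ g : Cfsg.POmega (ZMod 3) (Cfsg.quadFormOdd 3 (ZMod 3)), X.map (MulAut.conj g).toMonoidHom = Y i) := by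
  rw [← CfsgLib.StdForms.coe_oddQ]
  let π := QuotientGroup.mk' (Subgroup.center G7)
  have hπ : Function.Injective π := by
    rw [← MonoidHom.ker_eq_bot_iff, QuotientGroup.ker_mk', center_eq]
  let e : G7 ≃* G7 ⧸ Subgroup.center G7 :=
    MulEquiv.ofBijective π ⟨hπ, QuotientGroup.mk'_surjective _⟩
  have hmap : ∀ (g : G7) (H : Subgroup G7),
      (H.map e.toMonoidHom).map (MulAut.conj (e g)).toMonoidHom
        = (H.map (MulAut.conj g).toMonoidHom).map e.toMonoidHom := by
    intro g H
    rw [Subgroup.map_map, Subgroup.map_map]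
    exact congrArg (fun f => H.map f) (MonoidHom.ext fun x => by simp)
  have hinj := Subgroup.map_injective (f := e.toMonoidHom) e.injective
  refine ⟨fun i => (Subgroup.zpowers (rep i)).map e.toMonoidHom, fun i => ?_, ?_, fun X hX => ?_⟩
  · obtain ⟨-, h1, h3⟩ := el_rep i
    beta_reduce
    rw [MonoidHom.map_zpowers, Nat.card_zpowers,
      show orderOf (e.toMonoidHom (rep i)) = orderOf (rep i) from MulEquiv.orderOf_eq e (rep i)]
    have : Fact (Nat.Prime 3) := ⟨by norm_num⟩
    refine orderOf_eq_prime ?_ h1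
    rw [pow_succ', pow_two]
    exact h3
  · rintro i j ⟨g, hg⟩
    obtain ⟨g, rfl⟩ := e.surjective g
    rw [hmap] at hg
    have hc := hinj hg
    rw [MonoidHom.map_zpowers, MulEquiv.coe_toMonoidHom, MulAut.conj_apply] at hc
    obtain ⟨-, hj1, hj3⟩ := el_rep j
    obtain ⟨-, hi1, -⟩ := el_rep i
    have hcase : g * rep i * g⁻¹ = rep j ∨ g * rep i * g⁻¹ = (rep j)⁻¹ := by
      have hmem : g * rep i * g⁻¹ ∈ Subgroup.zpowers (rep j) := hc ▸ Subgroup.mem_zpowers _
      obtain ⟨k, hk⟩ := hmem
      have hk' : rep j ^ k = rep j ^ (k % 3) := by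
        conv_lhs => rw [← Int.emod_add_mul_ediv k 3, zpow_add, zpow_mul]
        have h3' : rep j ^ (3 : ℤ) = 1 := by
          rw [show (3 : ℤ) = ((3 : ℕ) : ℤ) from rfl, zpow_natCast, pow_succ', pow_two, hj3]
        rw [h3', one_zpow, mul_one]
      simp only at hk
      rw [hk'] at hk
      have h0 := Int.emod_nonneg k (show (3 : ℤ) ≠ 0 by norm_num)
      have h1 := Int.emod_lt_of_pos k (show (0 : ℤ) < 3 by norm_num)
      obtain h | h | h : k % 3 = 0 ∨ k % 3 = 1 ∨ k % 3 = 2 := by omega
      · rw [h, zpow_zero] at hk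
        exact absurd (conj_eq_one_iff.1 hk.symm) hi1
      · rw [h, zpow_one] at hk
        exact Or.inl hk.symm
      · rw [h, zpow_two] at hk
        exact Or.inr (hk.symm.trans (inv_eq_of_mul_eq_one_right hj3).symm)
    have hfix : ∀ c, fixCount (rep i) c = fixCount (rep j) c := fun c => by
      rw [← fixCount_conj (rep i) g c]
      rcases hcase with h | h <;> rw [h]
      rw [fixCount_inv]
    rcases eq_of_fixCount hfix with h | ⟨rfl, rfl⟩ | ⟨rfl, rfl⟩
    · exact h
    · rcases hcase with h | h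
      · exact ((not_conj g).1 h).elim
      · exact ((not_conj g).2 h).elim
    · have h' := not_conj g⁻¹
      rcases hcase with h | h
      · exact (h'.1 (by rw [← h]; group)).elim
      · exact (h'.2 (by rw [← inv_inv (rep 4), ← h]; group)).elim
  · have hX' : (X.comap e.toMonoidHom).map e.toMonoidHom = X :=
      Subgroup.map_comap_eq_self_of_surjective (f := e.toMonoidHom)
        (show Function.Surjective π from QuotientGroup.mk'_surjective _) X
    have hc : Nat.card (X.comap e.toMonoidHom) = 3 := by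
      rw [← Subgroup.card_map_of_injective (K := X.comap e.toMonoidHom) (f := e.toMonoidHom) e.injective,
        hX', hX]
    obtain ⟨i, g, hg⟩ := exists_rep (X.comap e.toMonoidHom) hc
    refine ⟨i, e g, ?_⟩
    have h := hmap g (X.comap e.toMonoidHom)
    rw [hX', hg] at h
    exact h

end Cfsg.Agent.S5514
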