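import Cfsg.Statements.S5518
import Cfsg.Agent.FischerTypes.M24ThirteenLocal
import Cfsg.Agent.M24G2.Main
-- import your own Cfsg.Agent.* helpers here

set_option autoImplicit false
open Cfsg

namespace Cfsg.Agent.S5518

/-- Let G be a finite group with trivial centre generated by a conjugation-invariant set D of 3-transpositions on which it acts primitively, such that for some d in D the subgroup generated by the members of D other than d commuting with d has central largest normal 2- and 3-subgroups, and suppose G with D is of type M(24). Then any two subgroups of order 13 are conjugate; and there are members a, b, c, d of D generating the direct product T of two symmetric groups of degree 3 (a, d non-commuting; b, c non-commuting; b and c commuting with a and d) whose centralizer K is isomorphic to the Chevalley group G₂(3), such that for every subgroup B of K of order 13: the normalizer of B lies in the normalizer of K, the normalizer F of B in K is a Frobenius group of order 78 with kernel B (order 78, centralizer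 of B in it equal to B), and the subgroup generated by F and T has index 2 in the normalizer of B. -/
theorem result {G : Type*} [Group G] [Finite G] {D : Set G} (hD : Cfsg.IsThreeTranspositionGroup D) (hprim : Cfsg.IsPrimitiveUnderConj D) (d₀ : G) (hd₀ : d₀ ∈ D) (h3 : Cfsg.pCore 3 ↥(Subgroup.closure {y : G | y ∈ D ∧ y ≠ d₀ ∧ Commute d₀ y}) ≤ Subgroup.center ↥(Subgroup.closure {y : G | y ∈ D ∧ y ≠ d₀ ∧ Commute d₀ y})) (h2 : Cfsg.pCore 2 ↥(Subgroup.closure {y : G | y ∈ D ∧ y ≠ d₀ ∧ Commute d₀ y}) ≤ Subgroup.center ↥(Subgroup.closure {y : G | y ∈ D ∧ y ≠ d₀ ∧ Commute d₀ y})) (h24 : Cfsg.IsOfTypeM24 G D) : (∀ X Y : Subgroup G, Nat.card X = 13 → Nat.card Y = 13 → ∃ g : G, X.map (MulAut.conj g).toMonoidHom = Y) ∧ ∃ (a b c d : G) (T K : Subgroup G), (∀ x ∈ [a, b, c, d], x ∈ D) ∧ ¬ Commute a d ∧ ¬ Commute b c ∧ Commute a b ∧ Commute a c ∧ Commute d b ∧ Commute d c ∧ T = Subgroup.closure ({a, b, c, d} : Set G) ∧ K = Subgroup.centralizer (T : Set G) ∧ Nonempty (↥K ≃* ↥(Cfsg.Lie.chevG2.group (ZMod 3))) ∧ ∀ B : Subgroup G, B ≤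 K → Nat.card B = 13 → Subgroup.normalizer ((B : Subgroup G) : Set G) ≤ Subgroup.normalizer ((K : Subgroup G) : Set G) ∧ Nat.card ↥(K ⊓ Subgroup.normalizer ((B : Subgroup G) : Set G)) = 78 ∧ K ⊓ Subgroup.centralizer ((B : Subgroup G) : Set G) = B ∧ (((K ⊓ Subgroup.normalizer ((B : Subgroup G) : Set G)) ⊔ T).subgroupOf (Subgroup.normalizer ((B : Subgroup G) : Set G))).index = 2 := by
  have H : CfsgLib.FischerTypes.M24.Hyp G D := ⟨hD, hprim, h24⟩
  have hG : Nat.card G = 13 * 193108570644717187891200 := by
    rw [CfsgLib.Transpositions.TypeM24.card_group H]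
  have : Fact (Nat.Prime 13) := ⟨by norm_num⟩
  refine ⟨fun X Y hX hY => (CfsgLib.FischerTypes.sylow_conj_count hG (by norm_num) hX).1 Y hY, ?_⟩
  obtain ⟨a, b, c, d, ha, hb, hc, hd, hnad, hnbc, hab, hac, hdb, hdc, ⟨e⟩⟩ := CfsgLib.M24G2.exists_quad H
  refine ⟨a, b, c, d, Subgroup.closure ({a, b, c, d} : Set G),
    Subgroup.centralizer ((Subgroup.closure ({a, b, c, d} : Set G) : Subgroup G) : Set G), ?_, hnad, hnbc, hab, hac,
    hdb, hdc, rfl, rfl, ?_, ?_⟩
  · intro z hz
    simp only [List.mem_cons, List.not_mem_nil, or_false] at hz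
    rcases hz with rfl | rfl | rfl | rfl
    exacts [ha, hb, hc, hd]
  · rw [Subgroup.centralizer_closure]
    exact ⟨e⟩
  · intro B hB hBcard
    refine CfsgLib.FischerTypes.M24.thirteen_four H ha hb hc hd hnad hnbc hab hac hdb hdc _ _ rfl rfl ?_ B hB hBcard
    rw [Subgroup.centralizer_closure, Nat.card_congr e.toEquiv, CfsgLib.M24G2.card_group]

end Cfsg.Agent.S5518
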