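import Cfsg.Statements.S5521
import Cfsg.Agent.Mathieu.M24Order

set_option autoImplicit false
open Cfsg

namespace Cfsg.Agent.S5521

/-- The Mathieu group M₂₄ in its natural action on the 24 coordinate positions of the binary Golay code has minimal base size exactly 7: every set of at most 6 positions is fixed pointwise by some non-identity element of M₂₄, while some set of 7 positions is fixed pointwise only by the identity. -/
theorem result :
    (∀ B : Finset Cfsg.GolayPt, B.card ≤ 6 → ∃ g ∈ Cfsg.M24, g ≠ 1 ∧ ∀ b ∈ B, g b = b) ∧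
    (∃ B : Finset Cfsg.GolayPt, B.card = 7 ∧ ∀ g ∈ Cfsg.M24, (∀ b ∈ B, g b = b) → g = 1) := by
  classical
  refine ⟨fun B hB => ?_, CfsgLib.Mathieu.m24Base.toFinset, by decide +kernel, fun g hg hfix => ?_⟩
  · by_contra h
    push Not at h
    let f : ↥Cfsg.M24 → (↥B ↪ Cfsg.GolayPt) := fun g =>
      ⟨fun b => (g : Equiv.Perm Cfsg.GolayPt) b.1, fun a b e => Subtype.ext ((g : Equiv.Perm _).injective e)⟩
    have hf : Function.Injective f := by
      intro g k e
      by_contra hne
      have hne1 : (k : Equiv.Perm Cfsg.GolayPt)⁻¹ * g ≠ 1 := fun h1 =>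
        hne (Subtype.ext (inv_mul_eq_one.1 h1).symm)
      obtain ⟨b, hb, hgb⟩ := h _ (mul_mem (inv_mem k.2) g.2) hne1
      apply hgb
      show (k : Equiv.Perm Cfsg.GolayPt).symm ((g : Equiv.Perm Cfsg.GolayPt) b) = b
      rw [Equiv.symm_apply_eq]
      exact congrArg (fun z : ↥B ↪ Cfsg.GolayPt => z ⟨b, hb⟩) e
    have hc := Nat.card_le_card_of_injective f hf
    rw [CfsgLib.Mathieu.card_M24, Nat.card_eq_fintype_card (α := ↥B ↪ Cfsg.GolayPt),
      Fintype.card_embedding_eq, Fintype.card_coe] at hc
    have h24 : Fintype.card Cfsg.GolayPt = 24 := by decide +kernel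
    rw [h24] at hc
    have key : ∀ k ≤ 6, Nat.descFactorial 24 k < 244823040 := by decide +kernel
    have := key _ hB
    omega
  · exact CfsgLib.Mathieu.M24_ext hg (one_mem _) fun x hx => hfix x (List.mem_toFinset.2 hx)

end Cfsg.Agent.S5521
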