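import Cfsg.Statements.S5522
import Cfsg.Agent.Mathieu.SmallOrders

set_option autoImplicit false
open Cfsg

namespace Cfsg.Agent.S5522

open CfsgLib.Mathieu

/-- Tables of a Sylow 2-subgroup of `M11`. -/
def syl2 : List ℕ :=
  [566073426779046459040877649791461066728553822781039575296, 271833910169951794875471730631307758018160824868654940416, 124043871481952192517787997144056619641089631284287832576, 467323245387336099037009891911534521418967833138029462016, 467514807329945377072925094895519589281635338200065835776, 271355005313431643564805548572955728225238012672848233216, 417320331501492361066865768848498277584280390740533052416, 539922583579731404297681719043479633444751299887092990976, 368857768870539147422079074716057705800780174691689302016, 246255516792300801089550457621635649575985820979979094016, 247021764562732174118690466182120670835761208106869852416, 541263517177988015120093587610707216325660391785513093376, 370007140526187347915282762662712849803619120641349323776, 419044388984965785742046639964357444673280003190062386176, 123564966625432041207121632546494037172384219733562690816,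 564924055123396864772335223314022848069285055700811320576]

/-- Tables of a Sylow 3-subgroup of `M11`. -/
def syl3 : List ℕ :=
  [566073426779046459040877649791461066728553822781039575296, 345391822514916888713646556719202642425932659038204658176, 418948602224611487024749821909936925706484885750045278976, 564442890790697312966303219337805150416184277221753291776, 417325576830489188689013874459296690126822779991447832576, 565014596559838905786103526031389994154192860080669592576, 343760554359986268968704224482945398355280779521221463296, 417898019304748416980400948974188347428783555831260778496, 344340463600483293447306227210700185063627493453534859776]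

/-- The table is that of a member of `M11`. -/
def inM11 (t : ℕ) : Bool := inM12 t && app t 0 == 0

/-- The list is closed under composition and inverse. -/
def isClosed (l : List ℕ) : Bool :=
  l.all (fun a => l.all (fun b => l.any (fun c => allBelow 24 fun k => app c k == app a (app b k))))
    && l.all (fun a => l.any (fun c => allBelow 24 fun k => app c (app a k) == k))

/-- Pairwise different tables. -/
def isSeparated (l : List ℕ) : Bool :=
  allBelow l.length fun i => allBelow l.length fun j =>
    i == j || (List.range 24).any fun k => app (l.getD i 0) k != app (l.getD j 0) k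

/-- Some point outside the dodecad is fixed. -/
def hasFix (t : ℕ) : Bool := (List.range 24).any fun k => !m12Dodecad.testBit k && app t k == k

/-- The `p`-th power is not the identity, or a point outside the dodecad is fixed. -/
def goodTable (p t : ℕ) : Bool :=
  hasFix t || (List.range 24).any fun k => (app t)^[p] k != k

/-- A list of tables, closed, inside `M11`, of prime power length and with fixed points, settles
every element of the corresponding prime order. -/
theorem of_sylow (p n : ℕ) [Fact p.Prime] (l : List ℕ) (hn : p ^ n = l.length)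
    (hdiv : 7920 = p ^ n * (7920 / p ^ n) ∧ ¬ p ∣ 7920 / p ^ n)
    (hid : (l.any fun t => allBelow 24 fun k => app t k == k) = true)
    (hall : l.all inM11 = true) (hcl : isClosed l = true) (hsep : isSeparated l = true)
    (hfix : l.all (goodTable p) = true) (g : Equiv.Perm GolayPt) (hg : g ∈ Cfsg.Spor.M11)
    (hp : orderOf g = p) : ∃ x : GolayPt, x ∉ Cfsg.Spor.squareDodecad ∧ g x = x := by
  classical
  simp only [isClosed, Bool.and_eq_true, List.all_eq_true, List.any_eq_true, allBelow_iff,
    beq_iff_eq] at hcl
  simp only [List.all_eq_true] at hall hfix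
  simp only [List.any_eq_true, allBelow_iff, beq_iff_eq] at hid
  have hrep : ∀ t ∈ l, ∃ σ ∈ Cfsg.Spor.M11, Rep enc σ t := by
    intro t ht
    have h := hall t ht
    simp only [inM11, Bool.and_eq_true, beq_iff_eq] at h
    obtain ⟨σ, hσ, r⟩ := inGroup_of_inM12 h.1
    refine ⟨σ, mem_SporM11.2 ⟨hσ, ?_⟩, r⟩
    apply idx_injective
    have := r (pt 0)
    change app t (idx (pt 0)) = idx (σ (pt 0)) at this
    rw [idx_pt (by norm_num)] at this
    rw [← pt_0, idx_pt (by norm_num), ← this, h.2]
  choose σ hσ hσr using hrep
  let P : Subgroup (Equiv.Perm GolayPt) :=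
    { carrier := {x | ∃ t ∈ l, Rep enc x t}
      one_mem' := by
        obtain ⟨t, ht, h⟩ := hid
        exact ⟨t, ht, fun x => h _ (idx_lt x)⟩
      mul_mem' := by
        rintro x y ⟨a, ha, hxa⟩ ⟨b, hb, hyb⟩
        obtain ⟨c, hc, h⟩ := hcl.1 a ha b hb
        refine ⟨c, hc, fun z => ?_⟩
        rw [h _ (enc z).isLt, hyb z, hxa (y z)]
        rfl
      inv_mem' := by
        rintro x ⟨a, ha, hxa⟩
        obtain ⟨c, hc, h⟩ := hcl.2 a ha
        refine ⟨c, hc, fun z => ?_⟩
        have e := hxa (x⁻¹ z)
        rw [perm_apply_inv] at e
        have := h _ (enc (x⁻¹ z)).isLt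
        rwa [e] at this }
  have hPle : P ≤ Cfsg.Spor.M11 := by
    rintro x ⟨t, ht, hx⟩
    rw [Rep.unique hx (hσr t ht)]
    exact hσ t ht
  have hcard : Nat.card ↥P = l.length := by
    let f : Fin l.length → ↥P := fun i =>
      ⟨σ l[i] (List.getElem_mem i.isLt), l[i], List.getElem_mem i.isLt, hσr _ _⟩
    have hf : Function.Bijective f := by
      constructor
      · intro i j e
        by_contra hne
        simp only [isSeparated, allBelow_iff, Bool.or_eq_true, beq_iff_eq, List.any_eq_true,
          bne_iff_ne, List.mem_range] at hsep
        rcases hsep i i.isLt j j.isLt with h | ⟨k, hk, hne'⟩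
        · exact hne (Fin.ext h)
        · apply hne'
          rw [List.getD_eq_getElem _ _ i.isLt, List.getD_eq_getElem _ _ j.isLt]
          have e1 := hσr l[i] (List.getElem_mem i.isLt) (pt k)
          have e2 := hσr l[j] (List.getElem_mem j.isLt) (pt k)
          have e' := congrArg (fun x : ↥P => (x : Equiv.Perm GolayPt) (pt k)) e
          simp only [f] at e'
          rw [e', ← e2] at e1
          change app _ (idx (pt k)) = app _ (idx (pt k)) at e1
          rwa [idx_pt hk] at e1
      · rintro ⟨x, t, ht, hx⟩
        obtain ⟨i, hi, rfl⟩ := List.getElem_of_mem ht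
        exact ⟨⟨i, hi⟩, Subtype.ext (Rep.unique (hσr _ _) hx)⟩
    rw [← Nat.card_eq_of_bijective f hf, Nat.card_eq_fintype_card, Fintype.card_fin]
  let P' : Subgroup ↥Cfsg.Spor.M11 := P.subgroupOf _
  have hP' : Nat.card ↥P' = p ^ (Nat.factorization (Nat.card ↥Cfsg.Spor.M11) p) := by
    rw [Nat.card_congr (Subgroup.subgroupOfEquivOfLe hPle).toEquiv, hcard, ← hn, card_SporM11]
    congr 1
    rw [hdiv.1, Nat.factorization_mul (pow_ne_zero _ (Fact.out : p.Prime).ne_zero)
      (fun h0 => hdiv.2 (by rw [h0]; exact dvd_zero p)), Finsupp.add_apply,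
      (Fact.out : p.Prime).factorization_pow, Finsupp.single_eq_same,
      Nat.factorization_eq_zero_of_not_dvd hdiv.2, add_zero]
  let S : Sylow p ↥Cfsg.Spor.M11 := Sylow.ofCard P' hP'
  have hpg : IsPGroup p ↥(Subgroup.zpowers (⟨g, hg⟩ : ↥Cfsg.Spor.M11)) :=
    IsPGroup.of_card (n := 1) (by rw [Nat.card_zpowers, Subgroup.orderOf_mk, hp, pow_one])
  obtain ⟨T, hT⟩ := hpg.exists_le_sylow
  obtain ⟨c, rfl⟩ := MulAction.exists_smul_eq ↥Cfsg.Spor.M11 S T
  have hmem := hT (Subgroup.mem_zpowers _)
  have hS : ((c • S : Sylow p ↥Cfsg.Spor.M11) : Subgroup ↥Cfsg.Spor.M11)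
      = P'.map (MulAut.conj c).toMonoidHom := rfl
  rw [hS, Subgroup.mem_map] at hmem
  obtain ⟨y, ⟨t, ht, hyt⟩, hy⟩ := hmem
  have hgy : g = (c : Equiv.Perm GolayPt) * y * (c : Equiv.Perm GolayPt)⁻¹ := by
    simpa using (congrArg Subtype.val hy).symm
  have hyp : (y : Equiv.Perm GolayPt) ^ p = 1 := by
    have h1 : g ^ p = 1 := hp ▸ pow_orderOf_eq_one g
    rw [hgy, conj_pow, mul_inv_eq_one, mul_eq_left] at h1
    exact h1
  have hiter : ∀ (m : ℕ) (z : GolayPt),
      (app t)^[m] (idx z) = idx (((y : Equiv.Perm GolayPt) ^ m) z) := by
    intro m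
    induction m with
    | zero => intro z; rfl
    | succ m ih =>
      intro z
      rw [Function.iterate_succ_apply', ih, pow_succ']
      exact hyt _
  have hgood := hfix t ht
  simp only [goodTable, Bool.or_eq_true, List.any_eq_true, List.mem_range, bne_iff_ne] at hgood
  have hfx : hasFix t = true := hgood.resolve_right fun ⟨k, hk, hne⟩ => hne (by
    have := hiter p (pt k)
    rwa [hyp, Equiv.Perm.one_apply, idx_pt hk] at this)
  simp only [hasFix, List.any_eq_true, List.mem_range, Bool.and_eq_true, Bool.not_eq_true',
    beq_iff_eq] at hfx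
  obtain ⟨k, hk, hkD, hkfix⟩ := hfx
  have hyfix : (y : Equiv.Perm GolayPt) (pt k) = pt k := by
    refine Rep.apply_eq enc hyt ?_
    show app t (idx (pt k)) = idx (pt k)
    rw [idx_pt hk, hkfix]
  refine ⟨(c : Equiv.Perm GolayPt) (pt k), ?_, ?_⟩
  · rw [squareDodecad_eq]
    refine SporM12_preserves_compl (mem_SporM11.1 c.2).1 ?_
    rw [mem_setOf24, idx_pt hk, hkD]
    simp
  · rw [hgy]
    simp [hyfix]

/-- The Mathieu group M₁₁, realised as the stabiliser of one point of the dodecad of squares inside the stabiliser M₁₂ of that dodecad in M₂₄, acts on the twelve coordinate positions outside the dodecad of squares (its 3-transitive action of degree 12); in this action every element of prime order fixes a point, i.e. the action is elusive. -/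
theorem result (g : Equiv.Perm Cfsg.GolayPt) (hg : g ∈ Cfsg.Spor.M11) (hord : (orderOf g).Prime) :
    ∃ x : Cfsg.GolayPt, x ∉ Cfsg.Spor.squareDodecad ∧ g x = x := by
  have hdvd : orderOf g ∣ 7920 := by
    rw [← CfsgLib.Mathieu.card_SporM11, ← Subgroup.orderOf_mk g hg]
    exact orderOf_dvd_natCard _
  by_cases h2 : orderOf g = 2
  · exact of_sylow 2 4 syl2 (by decide +kernel) (by decide +kernel) (by decide +kernel) (by decide +kernel)
      (by decide +kernel) (by decide +kernel) (by decide +kernel) g hg h2
  by_cases h3 : orderOf g = 3
  · have : Fact (Nat.Prime 3) := ⟨Nat.prime_three⟩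
    exact of_sylow 3 2 syl3 (by decide +kernel) (by decide +kernel) (by decide +kernel) (by decide +kernel)
      (by decide +kernel) (by decide +kernel) (by decide +kernel) g hg h3
  -- otherwise the number of points outside the dodecad is prime to the order
  classical
  have : Fact (orderOf g).Prime := ⟨hord⟩
  let Ω := {x : Cfsg.GolayPt // x ∉ Cfsg.Spor.squareDodecad}
  have hg12 := (CfsgLib.Mathieu.mem_SporM11.1 hg).1
  have hiff : ∀ x : Cfsg.GolayPt,
      g x ∉ Cfsg.Spor.squareDodecad ↔ x ∉ Cfsg.Spor.squareDodecad := by
    intro x
    rw [CfsgLib.Mathieu.squareDodecad_eq]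
    constructor
    · exact fun h hx => h (CfsgLib.Mathieu.SporM12_preserves hg12 hx)
    · exact fun h => CfsgLib.Mathieu.SporM12_preserves_compl hg12 h
  let r : Equiv.Perm Ω := g.subtypePerm fun x => hiff x
  have hpow : ∀ n : ℕ, ∀ x : Ω, ((r ^ n) x).1 = (g ^ n) x.1 := by
    intro n
    induction n with
    | zero => intro x; rfl
    | succ n ih => intro x; rw [pow_succ, pow_succ]; exact ih (r x)
  have hr : r ^ (orderOf g) ^ 1 = 1 := by
    refine Equiv.ext fun x => Subtype.ext ?_
    rw [pow_one, hpow, pow_orderOf_eq_one]; rfl
  have h12 : Fintype.card Ω = 12 := by decide +kernel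
  have hnd : ¬ orderOf g ∣ Fintype.card Ω := by
    rw [h12]
    intro h
    have hle := Nat.le_of_dvd (by norm_num) h
    have := hord.two_le
    interval_cases hn : orderOf g
    all_goals first | omega | exact absurd hord (by norm_num)
  obtain ⟨x, hx⟩ := Equiv.Perm.exists_fixed_point_of_prime hnd hr
  exact ⟨x.1, x.2, congrArg Subtype.val hx⟩

end Cfsg.Agent.S5522
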