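import Cfsg.Statements.S5529
import Cfsg.Agent.M23Gen.Generation

set_option autoImplicit false
open Cfsg

namespace Cfsg.Agent.S5529

/-- Generation of the Mathieu group M₂₃ (the stabiliser of a point in the Mathieu group M₂₄ acting on 24 points) by triples of prime orders. Let p ≤ q ≤ r be primes dividing |M₂₃| = 10200960 = 2⁷·3²·5·7·11·23, not both p and q equal to 2. Then M₂₃ contains elements x, y, z of orders p, q, r with xyz = 1 and ⟨x, y⟩ = M₂₃ if and only if (p, q, r) is none of: (2, 3, r) for any r, (2, 5, 5), (2, 5, 7), (3, 3, 3), (3, 3, 5), (3, 3, 7). -/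
theorem result (p q r : ℕ) (hp : p.Prime) (hq : q.Prime)
    (hr : r.Prime) (hpq : p ≤ q) (hqr : q ≤ r) (hp2 : ¬ (p = 2 ∧ q = 2))
    (hdvd : p ∣ 10200960 ∧ q ∣ 10200960 ∧ r ∣ 10200960) :
    (∃ x y z : Cfsg.Spor.M23, orderOf x = p ∧ orderOf y = q ∧ orderOf z = r ∧ x * y * z = 1 ∧
        Subgroup.closure {x, y} = ⊤) ↔
      ¬ ((p = 2 ∧ q = 3) ∨ (p = 2 ∧ q = 5 ∧ r = 5) ∨ (p = 2 ∧ q = 5 ∧ r = 7) ∨ (p = 3 ∧ q = 3 ∧ r ≤ 7)) := by
  have mem6 : ∀ {n : ℕ}, n.Prime → n ∣ 10200960 → n ∈ [2, 3, 5, 7, 11, 23] := by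
    intro n hn h
    have h' : n ∣ 2 ^ 7 * 3 ^ 2 * 5 * 7 * 11 * 23 := by norm_num; exact h
    have aux : ∀ {m k : ℕ}, m.Prime → n ∣ m ^ k → n = m := fun hm h =>
      (Nat.prime_dvd_prime_iff_eq hn hm).1 (hn.dvd_of_dvd_pow h)
    rcases (Nat.Prime.dvd_mul hn).1 h' with h | h
    rcases (Nat.Prime.dvd_mul hn).1 h with h | h
    rcases (Nat.Prime.dvd_mul hn).1 h with h | h
    rcases (Nat.Prime.dvd_mul hn).1 h with h | h
    rcases (Nat.Prime.dvd_mul hn).1 h with h | h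
    · simp [aux (by norm_num) h]
    · simp [aux (by norm_num) h]
    all_goals simp [(Nat.prime_dvd_prime_iff_eq hn (by norm_num)).1 h]
  constructor
  · rintro ⟨x, y, z, hx, hy, hz, hxyz, hgen⟩ h
    exact CfsgLib.M23Gen.not_generate hp hq hr hqr x y z hx hy hz hxyz hgen h
  · intro h
    have hc := CfsgLib.M23Gen.witnesses_complete p (mem6 hp hdvd.1) q (mem6 hq hdvd.2.1) r
      (mem6 hr hdvd.2.2) hpq hqr hp2 h
    rw [List.any_eq_true] at hc
    obtain ⟨c, hc, he⟩ := hc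
    simp only [Bool.and_eq_true, beq_iff_eq] at he
    obtain ⟨⟨rfl, rfl⟩, rfl⟩ := he
    exact CfsgLib.M23Gen.exists_triple c hc hp hq hr

end Cfsg.Agent.S5529
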