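import Cfsg.Statements.S5541
-- import your own Cfsg.Agent.* helpers here

set_option autoImplicit false
open Cfsg

namespace Cfsg.Agent.S5541

/-- Let ρ be a representation of a group H on a finite-dimensional real vector space U whose only ρ-invariant subspaces are the zero subspace and U, and suppose U carries a non-zero ρ-invariant symmetric bilinear form. Then the following are equivalent: (1) there is a non-zero ρ-equivariant commutative bilinear product on U of which every ρ-equivariant bilinear product is a scalar multiple; (2) there is a non-zero ρ-invariant trilinear form on U that is symmetric under all permutations of its arguments and of which every ρ-invariant trilinear form is a scalar multiple. -/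
theorem result {H : Type*} [Group H] {U : Type*} [AddCommGroup U] [Module ℝ U] [FiniteDimensional ℝ U] (ρ : Representation ℝ H U) (hirr : ∀ W : Submodule ℝ U, (∀ g : H, W.map (ρ g) ≤ W) → W = ⊥ ∨ W = ⊤) (B : LinearMap.BilinForm ℝ U) (hB0 : B ≠ 0) (hBs : ∀ u v, B u v = B v u) (hBi : ∀ (g : H) (u v : U), B (ρ g u) (ρ g v) = B u v) : (∃ m : U →ₗ[ℝ] U →ₗ[ℝ] U, m ≠ 0 ∧ (∀ u v, m u v = m v u) ∧ (∀ (g : H) (u v : U), m (ρ g u) (ρ g v) = ρ g (m u v)) ∧ ∀ m' : U →ₗ[ℝ] U →ₗ[ℝ] U, (∀ (g : H) (u v : U), m' (ρ g u) (ρ g v) = ρ g (m' u v)) → ∃ c : ℝ, m' = c • m) ↔ (∃ t : U →ₗ[ℝ] U →ₗ[ℝ] U →ₗ[ℝ] ℝ, t ≠ 0 ∧ (∀ u v w, t u v w = t v u w ∧ t u v w = t u w v) ∧ (∀ (g : H) (u v w : U), t (ρ g u) (ρ g v) (ρ g w) = t u v w) ∧ ∀ t' : U →ₗ[ℝ] U →ₗ[ℝ] U →ₗ[ℝ] ℝ, (∀ (g : H) (u v w : U), t' (ρ g u) (ρ g v) (ρ g w) = t' u v w) → ∃ c : ℝ, t' = c • t) := by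
  have hr : ∀ (g : H) (v : U), ρ g (ρ g⁻¹ v) = v := by
    intro g v; rw [← Module.End.mul_apply, ← map_mul]; simp
  have hinj : Function.Injective B := by
    rw [← LinearMap.ker_eq_bot]
    rcases hirr (LinearMap.ker B) (fun g => by
      rintro _ ⟨u, hu, rfl⟩
      rw [LinearMap.mem_ker]
      ext v
      rw [← hr g v, hBi, LinearMap.mem_ker.1 hu]; simp) with h | h
    · exact h
    · exact absurd (LinearMap.ker_eq_top.1 h) hB0
  let e : U ≃ₗ[ℝ] (U →ₗ[ℝ] ℝ) :=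
    LinearMap.linearEquivOfInjective B hinj (Subspace.dual_finrank_eq).symm
  have he : ∀ (u : U), e u = B u := fun _ => rfl
  let Φ : (U →ₗ[ℝ] U →ₗ[ℝ] U) → (U →ₗ[ℝ] U →ₗ[ℝ] U →ₗ[ℝ] ℝ) := fun m => m.compr₂ B
  let Ψ : (U →ₗ[ℝ] U →ₗ[ℝ] U →ₗ[ℝ] ℝ) → (U →ₗ[ℝ] U →ₗ[ℝ] U) := fun t =>
    t.compr₂ (e.symm : (U →ₗ[ℝ] ℝ) →ₗ[ℝ] U)
  have hΦ : ∀ m u v w, Φ m u v w = B (m u v) w := fun _ _ _ _ => rfl
  have hΨ : ∀ t u v w, B (Ψ t u v) w = t u v w := by
    intro t u v w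
    rw [← he]
    show e (e.symm (t u v)) w = t u v w
    rw [e.apply_symm_apply]
  have hext : ∀ u u' : U, (∀ w, B u w = B u' w) → u = u' := fun u u' h =>
    hinj (LinearMap.ext h)
  have hΦeq : ∀ m : U →ₗ[ℝ] U →ₗ[ℝ] U, (∀ (g : H) (u v : U), m (ρ g u) (ρ g v) = ρ g (m u v)) →
      ∀ (g : H) (u v w : U), Φ m (ρ g u) (ρ g v) (ρ g w) = Φ m u v w := by
    intro m hm g u v w; simp only [hΦ, hm, hBi]
  have hΨeq : ∀ t : U →ₗ[ℝ] U →ₗ[ℝ] U →ₗ[ℝ] ℝ,
      (∀ (g : H) (u v w : U), t (ρ g u) (ρ g v) (ρ g w) = t u v w) →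
      ∀ (g : H) (u v : U), Ψ t (ρ g u) (ρ g v) = ρ g (Ψ t u v) := by
    intro t ht g u v
    apply hext
    intro w
    rw [hΨ, ← hr g w, ht, hBi, hΨ]
  constructor
  · rintro ⟨m, hm0, hms, hme, hmu⟩
    refine ⟨Φ m, ?_, ?_, hΦeq m hme, ?_⟩
    · intro h
      apply hm0
      ext u v
      apply hext
      intro w
      rw [← hΦ, h]; simp
    · let t₁ : U →ₗ[ℝ] U →ₗ[ℝ] U →ₗ[ℝ] ℝ :=
        (LinearMap.lflip (R₀ := ℝ)).toLinearMap.comp (Φ m)
      have ht₁ : ∀ u v w, t₁ u v w = Φ m u w v := fun _ _ _ => rfl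
      obtain ⟨c, hc⟩ := hmu (Ψ t₁) (hΨeq t₁ (fun g u v w => by simp only [ht₁, hΦeq m hme]))
      have hs : ∀ u v w, Φ m u w v = c * Φ m u v w := by
        intro u v w
        rw [← ht₁, ← hΨ, hc]; simp [hΦ]
      have h12 : ∀ u v w, Φ m u v w = Φ m v u w := fun u v w => by rw [hΦ, hΦ, hms]
      intro u v w
      refine ⟨h12 u v w, ?_⟩
      by_cases h0 : c = 1
      · rw [hs u v w, h0, one_mul]
      · have hz : ∀ u v w, Φ m u v w = 0 := by
          intro u v w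
          have e1 : Φ m u v w = c * Φ m w v u := by
            rw [h12 u v w, hs v w u, h12 v w u]
          have e2 : Φ m u v w = c * c * Φ m w v u := by
            rw [hs u w v, h12 u w v, hs w v u, mul_assoc]
          have h4 : c * (1 - c) * Φ m w v u = 0 := by linarith
          rcases mul_eq_zero.1 h4 with h5 | h5
          · rcases mul_eq_zero.1 h5 with h7 | h7
            · rw [e1, h7, zero_mul]
            · exact absurd (by linarith : c = 1) h0
          · rw [e1, h5, mul_zero]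
        rw [hz, hz]
    · intro t ht
      obtain ⟨c, hc⟩ := hmu (Ψ t) (hΨeq t ht)
      exact ⟨c, by ext u v w; rw [← hΨ, hc]; simp [hΦ]⟩
  · rintro ⟨t, ht0, hts, hte, htu⟩
    refine ⟨Ψ t, ?_, ?_, hΨeq t hte, ?_⟩
    · intro h
      apply ht0
      ext u v w
      rw [← hΨ, h]; simp
    · intro u v
      apply hext
      intro w
      rw [hΨ, hΨ, (hts u v w).1]
    · intro m hm
      obtain ⟨c, hc⟩ := htu (Φ m) (hΦeq m hm)
      refine ⟨c, ?_⟩
      ext u v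
      apply hext
      intro w
      rw [← hΦ, hc]; simp [hΨ]

end Cfsg.Agent.S5541
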