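import Cfsg.Statements.S5543
import Cfsg.Agent.Majorana.Basic

set_option autoImplicit false
open Cfsg

namespace Cfsg.Agent.S5543

/-- Let V be a finite-dimensional real vector space with a commutative bilinear product and a positive-definite symmetric bilinear form that associates with the product and satisfies the Norton inequality (the Majorana setting of the definitions). Let X be a group of linear automorphisms of V in which every element squares to the identity, and suppose every non-identity element x of X is a Majorana involution with an axial vector a(x) of squared length 1, such that for any two distinct non-identity x, y the product a(x) ∘ a(y) equals (1/8)(a(x) + a(y) − a(xy)) (the dihedral subalgebra of type 2A whose third axis belongs to the involution xy). Then X has order at most 4. -/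
theorem result {V : Type*} [AddCommGroup V] [Module ℝ V] [FiniteDimensional ℝ V] (mul : V →ₗ[ℝ] V →ₗ[ℝ] V) (B : LinearMap.BilinForm ℝ V) (hV : Cfsg.Axial.IsMajoranaAmbient mul B) (X : Subgroup (V ≃ₗ[ℝ] V)) (hX : ∀ x ∈ X, x * x = 1) (ax : (V ≃ₗ[ℝ] V) → V) (hax : ∀ x ∈ X, x ≠ 1 → Cfsg.Axial.IsMajoranaPair mul B x (ax x)) (h1 : ∀ x ∈ X, x ≠ 1 → B (ax x) (ax x) = 1) (h2A : ∀ x ∈ X, ∀ y ∈ X, x ≠ 1 → y ≠ 1 → x ≠ y → mul (ax x) (ax y) = (1 / 8 : ℝ) • (ax x + ax y - ax (x * y))) : Nat.card ↥X ≤ 4 := by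
  have hinv : ∀ x ∈ X, x⁻¹ = x := fun x hx => inv_eq_of_mul_eq_one_right (hX x hx)
  have hmc : ∀ x ∈ X, ∀ y ∈ X, x * y = y * x := fun x hx y hy => by
    have := hinv _ (X.mul_mem hx hy)
    rw [mul_inv_rev, hinv x hx, hinv y hy] at this
    exact this.symm
  by_contra hcard
  obtain ⟨x, hx, hx1⟩ : ∃ x ∈ X, x ≠ 1 := by
    by_contra h
    push Not at h
    have : X = ⊥ := (Subgroup.eq_bot_iff_forall X).2 h
    subst this
    simp at hcard
  have pick : ∀ s : Finset (V ≃ₗ[ℝ] V), s.card ≤ 4 → ∃ y ∈ X, y ∉ s := by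
    intro s hs
    by_contra h
    push Not at h
    apply hcard
    calc Nat.card ↥X ≤ Nat.card ↥(s : Set (V ≃ₗ[ℝ] V)) :=
          Nat.card_mono s.finite_toSet (fun y hy => h y hy)
      _ ≤ 4 := by simpa using hs
  classical
  obtain ⟨y, hy, hyn⟩ := pick {1, x} (le_trans Finset.card_le_two (by norm_num))
  obtain ⟨z, hz, hzn⟩ := pick {1, x, y, x * y} Finset.card_le_four
  simp only [Finset.mem_insert, Finset.mem_singleton, not_or] at hyn hzn
  obtain ⟨hy1, hyx⟩ := hyn
  obtain ⟨hz1, hzx, hzy, hzxy⟩ := hzn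
  have hxx := hX x hx
  have hyy := hX y hy
  have cxy := hmc x hx y hy
  have hxy := X.mul_mem hx hy
  have hxz := X.mul_mem hx hz
  have hyz := X.mul_mem hy hz
  have hxyz := X.mul_mem hxy hz
  have nxy : x * y ≠ 1 := fun h => hyx (mul_left_cancel (h.trans hxx.symm))
  have nxz : x * z ≠ 1 := fun h => hzx (mul_left_cancel (h.trans hxx.symm))
  have nyz : y * z ≠ 1 := fun h => hzy (mul_left_cancel (h.trans hyy.symm))
  have nxyz : x * y * z ≠ 1 := fun h => hzxy (mul_left_cancel (h.trans (hX _ hxy).symm))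
  have g1 : x * (x * y) = y := by rw [← mul_assoc, hxx, one_mul]
  have g2 : x * (x * y * z) = y * z := by rw [← mul_assoc, g1]
  have g3 : y * (x * z) = x * y * z := by rw [← mul_assoc, cxy]
  have g4 : x * y * (x * z) = y * z := by
    rw [cxy, mul_assoc, ← mul_assoc x x z, hxx, one_mul]
  have g6 : x * (y * z) = x * y * z := (mul_assoc _ _ _).symm
  have g7 : y * z * (x * y * z) = x := by
    rw [← g6, ← mul_assoc, ← hmc x hx (y*z) hyz, mul_assoc, hX _ hyz, mul_one]
  have d1 : x ≠ y := Ne.symm hyx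
  have d2 : x ≠ x * y := fun h => hy1 (left_eq_mul.1 h)
  have d3 : y ≠ z := Ne.symm hzy
  have d4 : y ≠ x * z := fun h => hzxy (by rw [h, ← mul_assoc, hxx, one_mul])
  have d5 : x * y ≠ z := Ne.symm hzxy
  have d6 : x * y ≠ x * z := fun h => d3 (mul_left_cancel h)
  have d7 : x ≠ y * z := fun h => nxyz (by rw [mul_assoc, ← h, hxx])
  have d8 : x ≠ x * y * z := fun h => nyz (by rw [mul_assoc] at h; exact left_eq_mul.1 h)
  have d9 : y * z ≠ x * y * z := fun h => hx1 (by rw [mul_assoc] at h; exact right_eq_mul.1 h)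
  have P := hax x hx hx1
  have aa : mul (ax x) (ax x) = ax x := CfsgLib.Majorana.axis_mul_self P
  have hab := h2A x hx y hy hx1 hy1 d1
  have hap := h2A x hx _ hxy hx1 nxy d2
  have hbc := h2A y hy z hz hy1 hz1 d3
  have hbr := h2A y hy _ hxz hy1 nxz d4
  have hpc := h2A _ hxy z hz nxy hz1 d5
  have hpr := h2A _ hxy _ hxz nxy nxz d6
  have had := h2A x hx _ hyz hx1 nyz d7
  have has := h2A x hx _ hxyz hx1 nxyz d8
  have hac := h2A x hx z hz hx1 hz1 (Ne.symm hzx)
  have har := h2A x hx _ hxz hx1 nxz (fun h => hz1 (left_eq_mul.1 h))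
  rw [g1] at hap; rw [g3] at hbr; rw [g4] at hpr; rw [g6] at had; rw [g2] at has
  rw [← mul_assoc, hxx, one_mul] at har
  have w1 : mul (ax x) (ax y - ax (x * y)) = (1/4 : ℝ) • (ax y - ax (x * y)) := by
    rw [map_sub, hab, hap]; module
  have w2 : mul (ax x) (ax z - ax (x * z)) = (1/4 : ℝ) • (ax z - ax (x * z)) := by
    rw [map_sub, hac, har]; module
  have w3 : mul (ax x) (ax (y * z) - ax (x * y * z))
      = (1/4 : ℝ) • (ax (y * z) - ax (x * y * z)) := by
    rw [map_sub, had, has]; module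
  obtain ⟨t, u, hu, he⟩ := CfsgLib.Majorana.quarter_mul_quarter P w1 w2
  have hprod : mul (ax y - ax (x * y)) (ax z - ax (x * z))
      = (-1/4 : ℝ) • (ax (y * z) - ax (x * y * z)) := by
    simp only [map_sub, LinearMap.sub_apply, hbc, hbr, hpc, hpr]; module
  have e2 : t • ax x + u + 0
      = (0 : ℝ) • ax x + 0 + (-1/4 : ℝ) • (ax (y * z) - ax (x * y * z)) := by
    rw [← hprod, he]; simp
  obtain ⟨-, -, e3⟩ := CfsgLib.Majorana.decomposition_unique P hu (by simp) (by simp)
    (by rw [map_smul, w3]; module) e2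
  have hds : ax (y * z) = ax (x * y * z) := by
    linear_combination (norm := module) (4 : ℝ) • e3
  have ds := h2A _ hyz _ hxyz nyz nxyz d9
  rw [g7, ← hds, CfsgLib.Majorana.axis_mul_self (hax _ hyz nyz)] at ds
  have ha6 : ax x = (-6 : ℝ) • ax (y * z) := by
    linear_combination (norm := module) (8 : ℝ) • ds
  have hn := h1 x hx hx1
  rw [ha6] at hn
  simp only [map_smul, LinearMap.smul_apply, smul_eq_mul, h1 _ hyz nyz] at hn
  norm_num at hn

end Cfsg.Agent.S5543
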