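import Cfsg.Statements.S5544
import Cfsg.Agent.Majorana.Dihedral

set_option autoImplicit false
open Cfsg

namespace Cfsg.Agent.S5544

open CfsgLib.Majorana

theorem involutive {V : Type*} [AddCommGroup V] [Module ℝ V] {mul : V →ₗ[ℝ] V →ₗ[ℝ] V}
    {B : LinearMap.BilinForm ℝ V} {μ : V ≃ₗ[ℝ] V} {a : V}
    (h : Cfsg.Axial.IsMajoranaPair mul B μ a) : μ * μ = 1 := by
  refine LinearEquiv.ext fun v => ?_
  obtain ⟨t, u, w, q, hu, hw, hq, rfl⟩ := decompose h v
  simp [fixes_axis h, fixes_zero h hu, fixes_quarter h hw, negates h hq]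

/-- Let V be a finite-dimensional real vector space with a commutative bilinear product and a positive-definite symmetric bilinear form that associates with the product and satisfies the Norton inequality (the Majorana setting of the definitions). Let μ₀ and μ₁ be Majorana involutions with axial vectors a₀ and a₁ of squared length 1, each involution having no other axial vector. Then the product μ₀μ₁ has order at most 6: some power (μ₀μ₁)^n with 1 ≤ n ≤ 6 is the identity (so the two involutions generate a dihedral group of order at most 12). This is the 6-transposition property of Majorana involutions. -/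
theorem result {V : Type*} [AddCommGroup V] [Module ℝ V] [FiniteDimensional ℝ V] (mul : V →ₗ[ℝ] V →ₗ[ℝ] V) (B : LinearMap.BilinForm ℝ V) (hV : Cfsg.Axial.IsMajoranaAmbient mul B) (μ₀ μ₁ : V ≃ₗ[ℝ] V) (a₀ a₁ : V) (h₀ : Cfsg.Axial.IsMajoranaPair mul B μ₀ a₀) (h₁ : Cfsg.Axial.IsMajoranaPair mul B μ₁ a₁) (hu₀ : ∀ a : V, Cfsg.Axial.IsMajoranaPair mul B μ₀ a → a = a₀) (hu₁ : ∀ a : V, Cfsg.Axial.IsMajoranaPair mul B μ₁ a → a = a₁) (hn₀ : B a₀ a₀ = 1) (hn₁ : B a₁ a₁ = 1) : ∃ n : ℕ, 1 ≤ n ∧ n ≤ 6 ∧ (μ₀ * μ₁) ^ n = 1 := by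
  classical
  have s₀ := involutive h₀
  have s₁ := involutive h₁
  obtain ⟨ρ, hρ⟩ : ∃ ρ : V ≃ₗ[ℝ] V, ρ = μ₁ * μ₀ := ⟨_, rfl⟩
  have hμ₁ : ρ * μ₀ = μ₁ := by rw [hρ, mul_assoc, s₀, mul_one]
  have i₀ : μ₀⁻¹ = μ₀ := inv_eq_of_mul_eq_one_right s₀
  have i₁ : μ₁⁻¹ = μ₁ := inv_eq_of_mul_eq_one_right s₁
  have hρi : ρ⁻¹ = μ₀ * μ₁ := by rw [hρ, mul_inv_rev, i₀, i₁]
  have hconj : ∀ k : ℤ, μ₀ * ρ ^ k = ρ ^ (-k) * μ₀ := by
    intro k
    have : μ₀ * ρ ^ k * μ₀⁻¹ = (μ₀ * ρ * μ₀⁻¹) ^ k := conj_zpow.symm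
    have e : μ₀ * ρ * μ₀⁻¹ = ρ⁻¹ := by
      rw [hρi, hρ, mul_assoc, mul_assoc, mul_inv_cancel, mul_one]
    rw [e, inv_zpow', mul_inv_eq_iff_eq_mul] at this
    exact this
  have hauto : ∀ k : ℤ, (∀ u v, (ρ ^ k : V ≃ₗ[ℝ] V) (mul u v)
      = mul ((ρ ^ k : V ≃ₗ[ℝ] V) u) ((ρ ^ k : V ≃ₗ[ℝ] V) v)) ∧
      ∀ u v, B ((ρ ^ k : V ≃ₗ[ℝ] V) u) ((ρ ^ k : V ≃ₗ[ℝ] V) v) = B u v := by
    intro k
    induction k using Int.induction_on with
    | zero => simp
    | succ n ih =>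
      rw [zpow_add_one, hρ]
      rw [hρ] at ih
      exact ⟨fun u v => by simp only [LinearEquiv.mul_apply, h₀.1, h₁.1, ih.1],
        fun u v => by simp only [LinearEquiv.mul_apply, h₀.2.1, h₁.2.1, ih.2]⟩
    | pred n ih =>
      rw [zpow_sub_one, hρi]
      exact ⟨fun u v => by simp only [LinearEquiv.mul_apply, h₀.1, h₁.1, ih.1],
        fun u v => by simp only [LinearEquiv.mul_apply, h₀.2.1, h₁.2.1, ih.2]⟩
  let ax : ℤ → V := fun i => (ρ ^ (i / 2) : V ≃ₗ[ℝ] V) (if i % 2 = 0 then a₀ else a₁)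
  have ax0 : ∀ k : ℤ, ax (2 * k) = (ρ ^ k : V ≃ₗ[ℝ] V) a₀ := by
    intro k; simp [ax]
  have ax1 : ∀ k : ℤ, ax (2 * k + 1) = (ρ ^ k : V ≃ₗ[ℝ] V) a₁ := by
    intro k
    show (ρ ^ ((2 * k + 1) / 2) : V ≃ₗ[ℝ] V) _ = _
    rw [if_neg (by omega), show (2 * k + 1) / 2 = k by omega]
  have t0 : ∀ k : ℤ, ρ ^ k * μ₀ * (ρ ^ k)⁻¹ = ρ ^ (2 * k) * μ₀ := by
    intro k
    rw [← zpow_neg, mul_assoc, hconj, neg_neg, ← mul_assoc, ← zpow_add, two_mul]
  have m01 : μ₀ a₁ = (ρ⁻¹ : V ≃ₗ[ℝ] V) a₁ := by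
    rw [hρi, LinearEquiv.mul_apply, fixes_axis h₁]
  let O : CfsgLib.Majorana.Orbit mul B :=
    { ax := ax
      inv := fun i => ρ ^ i * μ₀
      amb := hV
      pair := by
        intro i
        obtain ⟨k, rfl | rfl⟩ := Int.even_or_odd' i
        · rw [ax0, ← t0]
          exact transport _ (hauto k).1 (hauto k).2 h₀
        · rw [ax1]
          have e : ρ ^ (2 * k + 1) * μ₀ = ρ ^ k * μ₁ * (ρ ^ k)⁻¹ := by
            rw [← hμ₁, ← mul_assoc, ← zpow_add_one, mul_assoc, ← zpow_neg, hconj, neg_neg,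
              ← mul_assoc, ← zpow_add]
            congr 2; ring
          rw [e]
          exact transport _ (hauto k).1 (hauto k).2 h₁
      refl := by
        intro i j
        obtain ⟨k, rfl | rfl⟩ := Int.even_or_odd' j
        · rw [show 2 * i - 2 * k = 2 * (i - k) by ring, ax0, ax0, ← LinearEquiv.mul_apply,
            mul_assoc, hconj, ← mul_assoc, ← zpow_add, LinearEquiv.mul_apply, fixes_axis h₀,
            ← sub_eq_add_neg]
        · rw [show 2 * i - (2 * k + 1) = 2 * (i - k - 1) + 1 by ring, ax1, ax1,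
            ← LinearEquiv.mul_apply, mul_assoc, hconj, ← mul_assoc, ← zpow_add,
            LinearEquiv.mul_apply, m01, ← LinearEquiv.mul_apply, ← zpow_sub_one,
            ← sub_eq_add_neg]
      unit := by
        intro i
        obtain ⟨k, rfl | rfl⟩ := Int.even_or_odd' i
        · rw [ax0, (hauto k).2, hn₀]
        · rw [ax1, (hauto k).2, hn₁] }
  obtain ⟨n, h1, h6, hn⟩ := O.period_le_six
  refine ⟨n, h1, h6, ?_⟩
  -- the involution of an axis is determined by the axis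
  have huniq : O.inv n = O.inv 0 := by
    refine LinearEquiv.ext fun v => ?_
    obtain ⟨t, u, w, q, hu, hw, hq, rfl⟩ := decompose (O.pair 0) v
    have p0 := O.pair 0
    have pn : Cfsg.Axial.IsMajoranaPair mul B (O.inv n) (O.ax 0) := hn ▸ O.pair n
    simp only [map_add, map_smul, fixes_axis p0, fixes_zero p0 hu, fixes_quarter p0 hw,
      negates p0 hq, fixes_axis pn, fixes_zero pn hu, fixes_quarter pn hw, negates pn hq]
  have hpow : ρ ^ (n : ℤ) = 1 := by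
    have : ρ ^ (n : ℤ) * μ₀ = ρ ^ (0 : ℤ) * μ₀ := huniq
    simpa using this
  rw [zpow_natCast] at hpow
  rw [← hρi, inv_pow, hpow, inv_one]

end Cfsg.Agent.S5544
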