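import Cfsg.Statements.S5545
import Cfsg.Agent.Majorana.Basic

set_option autoImplicit false
open Cfsg

namespace Cfsg.Agent.S5545

/-- Let V be a finite-dimensional real vector space with a commutative bilinear product and a positive-definite symmetric bilinear form that associates with the product and satisfies the Norton inequality (the Majorana setting of the definitions). Let μ₀, μ₁ be commuting Majorana involutions with distinct axial vectors a₀ ≠ a₁ of squared length 1, each involution having no other axial vector. Then either a₀ and a₁ are orthogonal with a₀ ∘ a₁ = 0 (type 2B), or their inner product is 1/8 and, with a₂ = a₀ + a₁ − 8 a₀ ∘ a₁, the vector a₂ is an idempotent and a₀ ∘ a₂ = (1/8)(a₀ + a₂ − a₁), a₁ ∘ a₂ = (1/8)(a₁ + a₂ − a₀) (type 2A: the three idempotents span a subalgebra with aᵢ ∘ aⱼ = (1/8)(aᵢ + aⱼ − aₖ)). -/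
theorem result {V : Type*} [AddCommGroup V] [Module ℝ V] [FiniteDimensional ℝ V] (mul : V →ₗ[ℝ] V →ₗ[ℝ] V) (B : LinearMap.BilinForm ℝ V) (hV : Cfsg.Axial.IsMajoranaAmbient mul B) (μ₀ μ₁ : V ≃ₗ[ℝ] V) (a₀ a₁ : V) (h₀ : Cfsg.Axial.IsMajoranaPair mul B μ₀ a₀) (h₁ : Cfsg.Axial.IsMajoranaPair mul B μ₁ a₁) (hu₀ : ∀ a : V, Cfsg.Axial.IsMajoranaPair mul B μ₀ a → a = a₀) (hu₁ : ∀ a : V, Cfsg.Axial.IsMajoranaPair mul B μ₁ a → a = a₁) (hn₀ : B a₀ a₀ = 1) (hn₁ : B a₁ a₁ = 1) (hc : μ₀ * μ₁ = μ₁ * μ₀) (hne : a₀ ≠ a₁) : (B a₀ a₁ = 0 ∧ mul a₀ a₁ = 0) ∨ (B a₀ a₁ = 1 / 8 ∧ mul (a₀ + a₁ - (8 : ℝ) • mul a₀ a₁) (a₀ + a₁ - (8 : ℝ) • mul a₀ a₁) = a₀ + a₁ - (8 : ℝ) • mul a₀ a₁ ∧ mul a₀ (a₀ + a₁ - (8 : ℝ) • mul a₀ a₁) = (1 / 8 : ℝ) • (a₀ + (a₀ + a₁ - (8 : ℝ) • mul a₀ a₁) - a₁) ∧ mul a₁ (a₀ + a₁ - (8 : ℝ) • mul a₀ a₁) = (1 / 8 : ℝ) • (a₁ + (a₀ + a₁ - (8 : ℝ) • mul a₀ a₁) - a₀)) := by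
  obtain ⟨hcomm, hsymm, hpos, hassoc, -⟩ := hV
  have hfix : μ₀ a₁ = a₁ := by
    apply hu₁
    have := CfsgLib.Majorana.transport μ₀ h₀.1 h₀.2.1 h₁
    rwa [hc, mul_inv_cancel_right] at this
  have hfix' : μ₁ a₀ = a₀ := by
    apply hu₀
    have := CfsgLib.Majorana.transport μ₁ h₁.1 h₁.2.1 h₀
    rwa [← hc, mul_inv_cancel_right] at this
  obtain ⟨l, u, w, hu, hw, he⟩ := CfsgLib.Majorana.decompose_fixed h₀ hfix
  obtain ⟨l', u', w', hu', hw', he'⟩ := CfsgLib.Majorana.decompose_fixed h₁ hfix'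
  have ha := CfsgLib.Majorana.axis_mul_self h₀
  have hb := CfsgLib.Majorana.axis_mul_self h₁
  obtain ⟨k, X, hX, hww⟩ := CfsgLib.Majorana.quarter_mul_quarter h₀ hw hw
  have orth : ∀ (a v : V) (c : ℝ), mul a a = a → mul a v = c • v → B a v = c * B a v := by
    intro a v c haa hv
    calc B a v = B (mul a a) v := by rw [haa]
      _ = B a (mul a v) := (hassoc a a v).symm
      _ = c * B a v := by rw [hv]; simp
  have hau : B a₀ u = 0 := by simpa using orth a₀ u 0 ha (by simpa using hu)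
  have haw : B a₀ w = 0 := by linarith [orth a₀ w _ ha hw]
  have hl : B a₀ a₁ = l := by
    rw [he]; simp [hn₀, hau, haw]
  have hll : l' = l := by
    have hbu : B a₁ u' = 0 := by simpa using orth a₁ u' 0 hb (by simpa using hu')
    have hbw : B a₁ w' = 0 := by linarith [orth a₁ w' _ hb hw']
    rw [← hl, hsymm]
    conv_rhs => arg 2; rw [he']
    simp [hn₁, hbu, hbw]
  have m01 : mul a₀ a₁ = l • a₀ + (1/4 : ℝ) • w := by
    rw [he]; simp [ha, hu, hw]
  have m10 : mul a₁ a₀ = l • a₁ + (1/4 : ℝ) • w' := by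
    rw [he']; simp [hb, hu', hw', hll]
  have key : mul a₁ (mul a₀ a₁) = (1/4 : ℝ) • mul a₀ a₁ + (3/4 * l) • a₁ := by
    rw [hcomm a₀ a₁, m10]
    simp [hb, hw']
    module
  have q1 := CfsgLib.Majorana.zero_mul_zero h₀ hu hu
  have q2 := CfsgLib.Majorana.zero_mul_quarter h₀ hu hw
  have c1 : mul u a₀ = 0 := by rw [hcomm, hu]
  have c2 : mul w a₀ = (1/4 : ℝ) • w := by rw [hcomm, hw]
  have c3 : mul w u = mul u w := hcomm _ _
  have sq : (l * l + k) • a₀ + (mul u u + X) + ((l/2) • w + (2 : ℝ) • mul u w)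
      = l • a₀ + u + w := by
    have := hb
    rw [he] at this
    simp only [map_add, map_smul, LinearMap.add_apply, LinearMap.smul_apply, ha, hu, hw, c1, c2,
      c3, hww] at this
    linear_combination (norm := module) this
  obtain ⟨sk, sX, sw⟩ := CfsgLib.Majorana.decomposition_unique h₀
    (by simp [q1, hX]) (by simp [q2, hw]; module) hu hw sq
  have bw : mul a₁ w = k • a₀ + X + (1/2 : ℝ) • w := by
    rw [he]
    simp only [map_add, map_smul, LinearMap.add_apply, LinearMap.smul_apply, hw, hww]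
    linear_combination (norm := module) (1/2 : ℝ) • sw
  have key' : (l * l + k/4) • a₀ + (1/4 : ℝ) • X + (l/4 + 1/8) • w
      = (l/4 + 3/4 * l * l) • a₀ + (3/4 * l) • u + (1/16 + 3/4 * l) • w := by
    rw [m01, map_add, map_smul, map_smul, bw, hcomm a₁ a₀, m01] at key
    rw [he] at key
    linear_combination (norm := module) key
  obtain ⟨-, kX, kw⟩ := CfsgLib.Majorana.decomposition_unique h₀
    (by simp [hX]) (by simp [hw]; module) (by simp [hu]) (by simp [hw]; module) key'
  have kw' : (1/16 - l/2) • w = 0 := by linear_combination (norm := module) kw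
  rcases smul_eq_zero.1 kw' with h8 | hw0
  · right
    have l8 : l = 1/8 := by linarith
    subst l8
    have kk : k = 7/64 := by linarith
    refine ⟨hl, ?_⟩
    have hd : a₀ + a₁ - (8 : ℝ) • mul a₀ a₁ = (1/8 : ℝ) • a₀ + u - w := by
      rw [m01, he]; module
    have hXu : X = (3/8 : ℝ) • u := by
      linear_combination (norm := module) (4 : ℝ) • kX
    have huu : mul u u = (5/8 : ℝ) • u := by
      linear_combination (norm := module) sX - hXu
    have huw : mul u w = (15/32 : ℝ) • w := by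
      linear_combination (norm := module) (1/2 : ℝ) • sw
    rw [hd, he]
    refine ⟨?_, ?_, ?_⟩ <;>
      · simp only [map_add, map_sub, map_smul, LinearMap.add_apply, LinearMap.sub_apply,
          LinearMap.smul_apply, ha, hu, hw, c1, c2, c3, hww, hXu, huu, huw, kk]
        module
  · left
    subst hw0
    have k0 : k = 0 ∧ X = 0 := by
      have e0 : (0 : V) = k • a₀ + X := by simpa using hww
      have hz := CfsgLib.Majorana.decomposition_unique h₀ (s := 0) (t := k) (u := 0) (w := 0)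
        (w' := 0) (by simp) (by simp) hX (by simp) (by simpa using e0)
      exact ⟨hz.1.symm, hz.2.1.symm⟩
    have : l * (l - 1) = 0 := by rw [k0.1] at sk; linarith
    rcases mul_eq_zero.1 this with h | h
    · subst h
      exact ⟨hl, by simpa using m01⟩
    · exfalso
      have l1 : l = 1 := by linarith
      subst l1
      have hbb : B a₁ a₁ = 1 + B u u := by
        rw [he]; simp [hn₀, hau, hsymm u a₀]
      have : u = 0 := by
        by_contra hne'
        have := hpos u hne'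
        rw [hn₁] at hbb; linarith
      exact hne (by rw [he, this]; simp)

end Cfsg.Agent.S5545
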