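import Cfsg.Statements.S5546
import Cfsg.Agent.Leech.LatticeBasis

set_option autoImplicit false
open Cfsg

namespace Cfsg.Agent.S5546

open CfsgLib.Leech Matrix CfsgLib.Mathieu

/-- Coordinates of the fixed short vector. -/
noncomputable def uCoord : Fin 24 → ℤ := coordEquiv.symm Cfsg.Spor.leechU

/-- A member of `Co0` on coordinates. -/
noncomputable def coordMap (g : Equiv.Perm ↥Cfsg.leechLattice) (hg : g ∈ Cfsg.Co0) :
    (Fin 24 → ℤ) →+ (Fin 24 → ℤ) where
  toFun a := coordEquiv.symm (g (coordEquiv a))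
  map_zero' := by
    have h : g 0 = g 0 + g 0 := by
      have := hg.1 0 0
      rwa [add_zero] at this
    simp [left_eq_add.1 h]
  map_add' a b := by rw [map_add, hg.1, map_add]

theorem coordMap_norm (g : Equiv.Perm ↥Cfsg.leechLattice) (hg : g ∈ Cfsg.Co0) (a : Fin 24 → ℤ) :
    coordMap g hg a ⬝ᵥ (CfsgLib.Leech.gram *ᵥ coordMap g hg a) = a ⬝ᵥ (CfsgLib.Leech.gram *ᵥ a) := by
  have h := hg.2 (coordEquiv a)
  have e : (g (coordEquiv a) : Cfsg.GolayPt → ℤ) = linComb (coordMap g hg a) := by
    rw [← coordEquiv_coe]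
    simp [coordMap]
  rw [e, coordEquiv_coe, sqNorm_linComb, sqNorm_linComb] at h
  omega

theorem gram_symm (a b : Fin 24 → ℤ) : a ⬝ᵥ (CfsgLib.Leech.gram *ᵥ b) = b ⬝ᵥ (CfsgLib.Leech.gram *ᵥ a) := by
  have h1 := dotInt_linComb a b
  have h2 := dotInt_linComb b a
  have e : Cfsg.dotInt (linComb a) (linComb b) = Cfsg.dotInt (linComb b) (linComb a) :=
    Finset.sum_congr rfl fun i _ => mul_comm _ _
  omega

theorem coordMap_dot (g : Equiv.Perm ↥Cfsg.leechLattice) (hg : g ∈ Cfsg.Co0) (a b : Fin 24 → ℤ) :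
    coordMap g hg a ⬝ᵥ (CfsgLib.Leech.gram *ᵥ coordMap g hg b) = a ⬝ᵥ (CfsgLib.Leech.gram *ᵥ b) := by
  have h := coordMap_norm g hg (a + b)
  have ha := coordMap_norm g hg a
  have hb := coordMap_norm g hg b
  simp only [map_add, Matrix.mulVec_add, dotProduct_add, add_dotProduct] at h
  rw [gram_symm (coordMap g hg b) (coordMap g hg a), gram_symm b a] at h
  omega

/-- The integer matrix of a member of `Co2`. -/
noncomputable def intMat : ↥Cfsg.Spor.Co2 →* Matrix (Fin 24) (Fin 24) ℤ where
  toFun g := LinearMap.toMatrix' (coordMap g.1 g.2.1).toIntLinearMap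
  map_one' := by
    rw [← LinearMap.toMatrix'_id]
    congr 1
    refine LinearMap.ext fun a => ?_
    exact coordEquiv.symm_apply_apply a
  map_mul' g h := by
    rw [← LinearMap.toMatrix'_comp]
    congr 1
    refine LinearMap.ext fun a => ?_
    show coordEquiv.symm (g.1 (h.1 (coordEquiv a)))
      = coordEquiv.symm (g.1 (coordEquiv (coordEquiv.symm (h.1 (coordEquiv a)))))
    rw [AddEquiv.apply_symm_apply]

theorem intMat_mulVec (g : ↥Cfsg.Spor.Co2) (a : Fin 24 → ℤ) :
    intMat g *ᵥ a = coordMap g.1 g.2.1 a := by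
  show LinearMap.toMatrix' _ *ᵥ a = _
  rw [LinearMap.toMatrix'_mulVec]; rfl

theorem coordMap_uCoord (g : ↥Cfsg.Spor.Co2) : coordMap g.1 g.2.1 uCoord = uCoord := by
  show coordEquiv.symm (g.1 (coordEquiv uCoord)) = uCoord
  rw [uCoord, AddEquiv.apply_symm_apply]
  exact congrArg coordEquiv.symm g.2.2

theorem uCoord_norm : uCoord ⬝ᵥ (CfsgLib.Leech.gram *ᵥ uCoord) = 4 := by
  have h := sqNorm_linComb uCoord
  rw [← coordEquiv_coe, uCoord, AddEquiv.apply_symm_apply] at h
  have : Cfsg.sqNorm (Cfsg.Spor.leechU : Cfsg.GolayPt → ℤ) = 32 := by decide +kernel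
  rw [this] at h
  have e : uCoord = coordEquiv.symm Cfsg.Spor.leechU := rfl
  rw [e]
  omega

/-- Reduction modulo 13. -/
noncomputable def modMat : ↥Cfsg.Spor.Co2 →* Matrix (Fin 24) (Fin 24) (ZMod 13) :=
  ((Int.castRingHom (ZMod 13)).mapMatrix : _ →+* Matrix (Fin 24) (Fin 24) (ZMod 13)).toMonoidHom.comp
    intMat

theorem modMat_mulVec (g : ↥Cfsg.Spor.Co2) (a : Fin 24 → ℤ) :
    modMat g *ᵥ (fun i => (a i : ZMod 13)) = fun i => (coordMap g.1 g.2.1 a i : ZMod 13) := by
  rw [← intMat_mulVec]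
  funext i
  exact (RingHom.map_mulVec (Int.castRingHom (ZMod 13)) (intMat g) a i).symm

/-- The functional given by the fixed vector. -/
noncomputable def form : (Fin 24 → ZMod 13) →ₗ[ZMod 13] ZMod 13 :=
  dotProductBilin (ZMod 13) (ZMod 13) (fun i => ((CfsgLib.Leech.gram *ᵥ uCoord) i : ZMod 13))

theorem form_cast (a : Fin 24 → ℤ) :
    form (fun i => (a i : ZMod 13)) = ((a ⬝ᵥ (CfsgLib.Leech.gram *ᵥ uCoord) : ℤ) : ZMod 13) := by
  simp [form, dotProduct, mul_comm]

theorem form_invariant (g : ↥Cfsg.Spor.Co2) (w : Fin 24 → ZMod 13) :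
    form (modMat g *ᵥ w) = form w := by
  obtain ⟨a, rfl⟩ : ∃ a : Fin 24 → ℤ, (fun i => (a i : ZMod 13)) = w :=
    ⟨fun i => (w i).val, funext fun i => by simp⟩
  rw [modMat_mulVec, form_cast, form_cast]
  congr 1
  conv_lhs => rw [← coordMap_uCoord g]
  exact coordMap_dot _ _ _ _

/-- The action on the kernel of the functional. -/
noncomputable def kerAct : ↥Cfsg.Spor.Co2 →* Module.End (ZMod 13) (LinearMap.ker form) where
  toFun g := (Matrix.mulVecLin (modMat g)).restrict fun w hw => by
    rw [LinearMap.mem_ker] at hw ⊢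
    rw [Matrix.mulVecLin_apply, form_invariant, hw]
  map_one' := by
    refine LinearMap.ext fun w => Subtype.ext ?_
    simp
  map_mul' g h := by
    refine LinearMap.ext fun w => Subtype.ext ?_
    simp [Matrix.mulVec_mulVec]

theorem kerAct_injective : Function.Injective kerAct := by
  rw [injective_iff_map_eq_one]
  intro g hg
  have hu : modMat g *ᵥ (fun i => (uCoord i : ZMod 13)) = fun i => (uCoord i : ZMod 13) := by
    rw [modMat_mulVec, coordMap_uCoord]
  have h4 : form (fun i => (uCoord i : ZMod 13)) = 4 := by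
    rw [form_cast, uCoord_norm]; norm_num
  have hfix : ∀ w : Fin 24 → ZMod 13, modMat g *ᵥ w = w := by
    intro w
    set u : Fin 24 → ZMod 13 := fun i => (uCoord i : ZMod 13) with hu'
    have hk : w - (form w * 10) • u ∈ LinearMap.ker form := by
      have h40 : (10 : ZMod 13) * 4 = 1 := by decide
      rw [LinearMap.mem_ker, map_sub, map_smul, h4, smul_eq_mul, mul_assoc, h40, mul_one, sub_self]
    have h := congrArg (fun f : Module.End (ZMod 13) (LinearMap.ker form) =>
      ((f ⟨_, hk⟩ : LinearMap.ker form) : Fin 24 → ZMod 13)) hg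
    change modMat g *ᵥ (w - (form w * 10) • u) = w - (form w * 10) • u at h
    rwa [Matrix.mulVec_sub, Matrix.mulVec_smul, hu, sub_left_inj] at h
  have hfix' : ∀ a, coordMap g.1 g.2.1 a = a := by
    have hb : ∀ k : Fin 24, coordMap g.1 g.2.1 (Pi.single k 1) = Pi.single k 1 := by
      intro k
      have h1 := hfix (fun i => ((Pi.single k 1 : Fin 24 → ℤ) i : ZMod 13))
      rw [modMat_mulVec] at h1
      have hdvd : ∀ i, (13 : ℤ) ∣
          (coordMap g.1 g.2.1 (Pi.single k (1 : ℤ)) - Pi.single k (1 : ℤ) : Fin 24 → ℤ) i := fun i =>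
        (ZMod.intCast_zmod_eq_zero_iff_dvd _ 13).1 (by
          simp only [Pi.sub_apply, Int.cast_sub]
          exact sub_eq_zero.2 (congrFun h1 i))
      choose c hc using hdvd
      set e : Fin 24 → ℤ := Pi.single k 1
      have hsub : coordMap g.1 g.2.1 e = (13 : ℤ) • c + e := by
        funext i
        have := hc i
        simp only [Pi.sub_apply, Pi.add_apply, Pi.smul_apply, smul_eq_mul] at this ⊢
        linarith
      by_contra hne
      have hc0 : c ≠ 0 := fun h => hne (by rw [hsub, h]; simp)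
      have hpos := gram_isRootless.four_le hc0
      have hn := coordMap_norm g.1 g.2.1 e
      have hd := coordMap_norm g.1 g.2.1 e
      rw [hsub] at hn
      simp only [Matrix.mulVec_add, Matrix.mulVec_smul, dotProduct_add, add_dotProduct,
        smul_dotProduct, dotProduct_smul, smul_eq_mul, gram_symm e c] at hn
      -- Cauchy-Schwarz: the form is nonnegative at `13 c + 2 e`
      have hnn : 0 ≤ ((13 : ℤ) • c + (2 : ℤ) • e) ⬝ᵥ (CfsgLib.Leech.gram *ᵥ ((13 : ℤ) • c + (2 : ℤ) • e)) := by
        by_cases h0 : (13 : ℤ) • c + (2 : ℤ) • e = 0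
        · rw [h0, zero_dotProduct]
        · linarith [gram_isRootless.four_le h0]
      have hnn' : 0 ≤ ((13 : ℤ) • c + (4 : ℤ) • e) ⬝ᵥ (CfsgLib.Leech.gram *ᵥ ((13 : ℤ) • c + (4 : ℤ) • e)) := by
        by_cases h0 : (13 : ℤ) • c + (4 : ℤ) • e = 0
        · rw [h0, zero_dotProduct]
        · linarith [gram_isRootless.four_le h0]
      simp only [Matrix.mulVec_add, Matrix.mulVec_smul, dotProduct_add, add_dotProduct,
        smul_dotProduct, dotProduct_smul, smul_eq_mul, gram_symm e c] at hnn hnn'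
      have hbound : e ⬝ᵥ (CfsgLib.Leech.gram *ᵥ e) ≤ 40 :=
        (by decide +kernel : ∀ k : Fin 24,
          (Pi.single k 1 : Fin 24 → ℤ) ⬝ᵥ (CfsgLib.Leech.gram *ᵥ Pi.single k 1) ≤ 40) k
      nlinarith
    intro a
    conv_lhs => rw [← Finset.univ_sum_single a]
    conv_rhs => rw [← Finset.univ_sum_single a]
    rw [map_sum]
    refine Finset.sum_congr rfl fun k _ => ?_
    have : (Pi.single k (a k) : Fin 24 → ℤ) = a k • Pi.single k 1 := by
      rw [← Pi.single_smul']; simp
    rw [this, map_zsmul, hb]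
  apply Subtype.ext
  refine Equiv.ext fun v => ?_
  obtain ⟨a, rfl⟩ := coordEquiv.surjective v
  show g.1 (coordEquiv a) = coordEquiv a
  have h : coordEquiv.symm (g.1 (coordEquiv a)) = a := hfix' a
  exact (AddEquiv.symm_apply_eq _).1 h

theorem finrank_ker : Module.finrank (ZMod 13) (LinearMap.ker form) = 23 := by
  have h : Function.Surjective form := by
    intro c
    refine ⟨(c * 10) • fun i => (uCoord i : ZMod 13), ?_⟩
    have h40 : (10 : ZMod 13) * 4 = 1 := by decide
    rw [map_smul, form_cast, uCoord_norm, smul_eq_mul, mul_assoc]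
    push_cast
    rw [h40, mul_one]
  have : Fact (Nat.Prime 13) := ⟨by norm_num⟩
  have h2 := LinearMap.finrank_range_add_finrank_ker form
  rw [LinearMap.range_eq_top.2 h, finrank_top, Module.finrank_self, Module.finrank_pi,
    Fintype.card_fin] at h2
  omega

/-- The second Conway group (the stabilizer in the Leech lattice automorphism group of the short vector fixed in the definitions) is isomorphic to a subgroup of the general linear group of degree 23 over the field with 13 elements: there is an injective homomorphism into it. -/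
theorem result : ∃ f : ↥Cfsg.Spor.Co2 →* GL (Fin 23) (ZMod 13), Function.Injective f := by
  have : Fact (Nat.Prime 13) := ⟨by norm_num⟩
  let b : Module.Basis (Fin 23) (ZMod 13) (LinearMap.ker form) :=
    Module.finBasisOfFinrankEq _ _ finrank_ker
  let φ : ↥Cfsg.Spor.Co2 →* Matrix (Fin 23) (Fin 23) (ZMod 13) :=
    ((LinearMap.toMatrixAlgEquiv b).toRingEquiv.toMonoidHom).comp kerAct
  refine ⟨φ.toHomUnits, fun g h e => kerAct_injective ?_⟩
  exact (LinearMap.toMatrixAlgEquiv b).injective (congrArg Units.val e)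

end Cfsg.Agent.S5546
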