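import Cfsg.Statements.S5548
import Cfsg.Agent.GolayModule.Basic

set_option autoImplicit false
open Cfsg

namespace Cfsg.Agent.S5548

open CfsgLib.Mathieu CfsgLib.GolayModule

/-- Four commuting involutions fixing an octad pointwise and transitive outside it. -/
def octTrans : List ℕ :=
  [466650907866112100569157374664092513058321556079228225806,
    516076508030008177148991917344276387130147495189351501571,
    96932714923104358835570945173460255405708278457701911,
    541645911733925041701475701834350753620634075516575416321]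

theorem invariant_sixteen {W : Submodule (ZMod 2) (GolayPt → ZMod 2)}
    (hW : ∀ σ ∈ M24, ∀ w ∈ W, act σ w ∈ W) {w : GolayPt → ZMod 2} (hw : w ∈ W) (h0 : w ≠ 0)
    (h1 : w ≠ 1) : wordOf 15332127 ∈ W := by
  classical
  obtain ⟨p, q, hpq⟩ : ∃ p q, w p ≠ w q := by
    by_contra h
    push Not at h
    rcases (by decide : ∀ z : ZMod 2, z = 0 ∨ z = 1) (w none) with hz | hz
    · exact h0 (funext fun p => (h p none).trans hz)
    · exact h1 (funext fun p => (h p none).trans hz)
  have hne : p ≠ q := fun h => hpq (h ▸ rfl)
  -- move the pair outside the octad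
  have hp0 : idx (pt 0) = 0 ∧ idx (pt 1) = 1 := by decide +kernel
  obtain ⟨g, hg, hgp, hgq⟩ : ∃ g ∈ M24, g p = pt 0 ∧ g q = pt 1 := by
    have hpre : MulAction.IsMultiplyPretransitive M24 GolayPt 2 :=
      M24_isMultiplyPretransitive (by norm_num)
    have hne' : pt 0 ≠ pt 1 := fun h => by simpa [hp0.1, hp0.2] using congrArg idx h
    obtain ⟨g, h1, h2⟩ := (MulAction.is_two_pretransitive_iff).1 hpre hne hne'
    exact ⟨g.1, g.2, h1, h2⟩
  set v := act g w with hv
  have hvW : v ∈ W := hW g hg w hw
  have hv01 : v (pt 0) ≠ v (pt 1) := by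
    have e1 : g.symm (pt 0) = p := g.symm_apply_eq.2 hgp.symm
    have e2 : g.symm (pt 1) = q := g.symm_apply_eq.2 hgq.symm
    show w (g.symm (pt 0)) ≠ w (g.symm (pt 1))
    rwa [e1, e2]
  -- the four involutions
  have hrep : ∀ t ∈ octTrans, ∃ σ ∈ M24, Rep enc σ t :=
    fun t ht => exists_of_table
      ((by decide +kernel : ∀ t ∈ octTrans, tableIn t = true) t ht)
  choose σ hσ hσr using hrep
  let T : Set (Equiv.Perm GolayPt) := {x | ∃ t, ∃ ht : t ∈ octTrans, σ t ht = x}
  have happ : ∀ t ht p, idx (σ t ht p) = app t (idx p) := fun t ht p => (hσr t ht p).symm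
  have hcomm : ∀ a ∈ T, ∀ b ∈ T, a * b = b * a := by
    rintro _ ⟨a, ha, rfl⟩ _ ⟨b, hb, rfl⟩
    have key : ∀ a ∈ octTrans, ∀ b ∈ octTrans, allBelow 24 (fun i =>
        app a (app b i) == app b (app a i)) = true := by decide +kernel
    have h := allBelow_iff.1 (key a ha b hb)
    refine Equiv.ext fun p => idx_injective ?_
    have := h _ (idx_lt p)
    rw [beq_iff_eq, ← happ b hb, ← happ a ha, ← happ a ha, ← happ b hb] at this
    exact this
  have hinvol : ∀ a ∈ T, a * a = 1 := by
    rintro _ ⟨a, ha, rfl⟩
    have key : ∀ a ∈ octTrans, allBelow 24 (fun i => app a (app a i) == i) = true := by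
      decide +kernel
    have h := allBelow_iff.1 (key a ha)
    refine Equiv.ext fun p => idx_injective ?_
    have := h _ (idx_lt p)
    rw [beq_iff_eq, ← happ a ha, ← happ a ha] at this
    exact this
  have hfixO : ∀ a ∈ T, ∀ p, (1445088 : ℕ).testBit (idx p) = true → a p = p := by
    rintro _ ⟨a, ha, rfl⟩ p hp
    have key : ∀ a ∈ octTrans, allBelow 24 (fun i =>
        !Nat.testBit 1445088 i || app a i == i) = true := by decide +kernel
    have h := allBelow_iff.1 (key a ha) _ (idx_lt p)
    simp only [hp, Bool.not_true, Bool.false_or, beq_iff_eq] at h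
    exact idx_injective ((happ a ha p).trans h)
  -- a nonzero vector of `W` vanishing on the octad, fixed by a list of them
  obtain ⟨a₀, ha₀, hne₀⟩ : ∃ a ∈ T, act a v ≠ v := by
    by_contra h
    push Not at h
    have key : ∃ l : List ℕ, (∀ t ∈ l, t ∈ octTrans) ∧
        l.foldr (fun t i => app t i) 0 = 1 := by
      have : ∃ l ∈ octTrans.sublists, l.foldr (fun t i => app t i) 0 = 1 := by decide +kernel
      obtain ⟨l, hl, h⟩ := this
      exact ⟨l, fun t ht => (List.mem_sublists.1 hl).subset ht, h⟩
    obtain ⟨l, hl, hl1⟩ := key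
    have hrun : ∀ l : List ℕ, (∀ t ∈ l, t ∈ octTrans) →
        v (pt (l.foldr (fun t i => app t i) 0)) = v (pt 0) ∧
          l.foldr (fun t i => app t i) 0 < 24 := by
      intro l
      induction l with
      | nil => exact fun _ => ⟨rfl, by norm_num⟩
      | cons t l ih =>
        intro hl
        obtain ⟨e, hlt⟩ := ih fun x hx => hl x (List.mem_cons_of_mem _ hx)
        have ht := hl t (by simp)
        have hstep := happ t ht (pt (l.foldr (fun t i => app t i) 0))
        rw [idx_pt hlt] at hstep
        simp only [List.foldr_cons]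
        refine ⟨?_, hstep ▸ idx_lt _⟩
        rw [← hstep, pt_idx, ← e]
        have := congrFun (h _ ⟨t, ht, rfl⟩) (σ t ht (pt (l.foldr (fun t i => app t i) 0)))
        simpa [act] using this.symm
    have := (hrun l hl).1
    rw [hl1] at this
    exact hv01 this.symm
  have step : ∀ l : List (Equiv.Perm GolayPt), (∀ a ∈ l, a ∈ T) → ∃ u ∈ W, u ≠ 0 ∧
      (∀ p, (1445088 : ℕ).testBit (idx p) = true → u p = 0) ∧ ∀ a ∈ l, act a u = u := by
    intro l
    induction l with
    | nil =>
      intro _
      refine ⟨act a₀ v - v, W.sub_mem (hW a₀ ?_ v hvW) hvW, sub_ne_zero.2 hne₀, ?_, by simp⟩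
      · obtain ⟨t, ht, rfl⟩ := ha₀; exact hσ t ht
      · intro p hp
        have : a₀.symm p = p := a₀.symm_apply_eq.2 (hfixO a₀ ha₀ p hp).symm
        simp [act, this]
    | cons b l ih =>
      intro hl
      obtain ⟨u, huW, hu0, huO, hul⟩ := ih fun x hx => hl x (List.mem_cons_of_mem _ hx)
      by_cases hbu : act b u = u
      · exact ⟨u, huW, hu0, huO, by simpa [hbu] using hul⟩
      · have hb := hl b (by simp)
        have hbW : act b u ∈ W := by
          obtain ⟨t, ht, rfl⟩ := hb; exact hW _ (hσ t ht) u huW
        refine ⟨act b u - u, W.sub_mem hbW huW, sub_ne_zero.2 hbu, ?_, ?_⟩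
        · intro p hp
          have : b.symm p = p := b.symm_apply_eq.2 (hfixO b hb p hp).symm
          simp [act, this]
        · intro a ha
          rcases List.mem_cons.1 ha with rfl | ha
          · rw [act_sub, ← act_mul, hinvol a hb, act_one, ← neg_sub]
            exact CharTwo.neg_eq _
          · rw [act_sub, ← act_mul, hcomm a (hl a (List.mem_cons_of_mem _ ha)) b hb, act_mul,
              hul a ha]
  let L : List (Equiv.Perm GolayPt) := octTrans.attach.map fun t => σ t.1 t.2
  obtain ⟨u, huW, hu0, huO, hul⟩ := step L (by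
    intro a ha
    obtain ⟨t, -, rfl⟩ := List.mem_map.1 ha
    exact ⟨t.1, t.2, rfl⟩)
  have hfx : ∀ t ∈ octTrans, ∀ i < 24, u (pt (app t i)) = u (pt i) := by
    intro t ht i hi
    have := congrFun (hul (σ t ht) (List.mem_map.2 ⟨⟨t, ht⟩, List.mem_attach _ _, rfl⟩))
      (σ t ht (pt i))
    simp only [act, Equiv.symm_apply_apply] at this
    rw [this]
    congr 1
    apply idx_injective
    rw [happ t ht, idx_pt hi, idx_pt]
    have := happ t ht (pt i)
    rw [idx_pt hi] at this
    rw [← this]
    exact idx_lt _
  have hconst : ∀ i < 24, Nat.testBit 1445088 i = false → u (pt i) = u (pt 0) := by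
    have key : allBelow 24 (fun i => Nat.testBit 1445088 i ||
        octTrans.sublists.any (fun l => l.foldr (fun t j => app t j) 0 == i)) = true := by
      decide +kernel
    intro i hi hO
    have h := allBelow_iff.1 key i hi
    simp only [hO, Bool.false_or, List.any_eq_true, beq_iff_eq] at h
    obtain ⟨l, hl, rfl⟩ := h
    have hrun : ∀ l : List ℕ, (∀ t ∈ l, t ∈ octTrans) →
        u (pt (l.foldr (fun t j => app t j) 0)) = u (pt 0) ∧
          l.foldr (fun t j => app t j) 0 < 24 := by
      intro l
      induction l with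
      | nil => exact fun _ => ⟨rfl, by norm_num⟩
      | cons t l ih =>
        intro hl
        obtain ⟨e, hlt⟩ := ih fun x hx => hl x (List.mem_cons_of_mem _ hx)
        have ht := hl t (by simp)
        have hstep := happ t ht (pt (l.foldr (fun t j => app t j) 0))
        rw [idx_pt hlt] at hstep
        simp only [List.foldr_cons]
        exact ⟨(hfx t ht _ hlt).trans e, hstep ▸ idx_lt _⟩
    exact (hrun l fun t ht => (List.mem_sublists.1 hl).subset ht).1
  have key : ∀ i < 24, (15332127 : ℕ).testBit i = !(Nat.testBit 1445088 i) := by decide +kernel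
  have hu1 : u (pt 0) = 1 := by
    refine ((by decide : ∀ z : ZMod 2, z = 0 ∨ z = 1) _).resolve_left fun hz => hu0 (funext fun p => ?_)
    by_cases hp : (1445088 : ℕ).testBit (idx p) = true
    · exact huO p hp
    · have := hconst _ (idx_lt p) (by simpa using hp)
      rw [pt_idx] at this
      rw [this, hz]; rfl
  have : u = wordOf 15332127 := by
    funext p
    simp only [wordOf, key _ (idx_lt p)]
    by_cases hp : (1445088 : ℕ).testBit (idx p) = true
    · simp [hp, huO p hp]
    · have := hconst _ (idx_lt p) (by simpa using hp)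
      rw [pt_idx, hu1] at this
      simp [Bool.not_eq_true _ ▸ hp, this]
  exact this ▸ huW

/-- An invariant subspace lies in the span of the all-ones word or contains the code. -/
theorem small_or_big {W : Submodule (ZMod 2) (GolayPt → ZMod 2)}
    (hW : ∀ σ ∈ M24, ∀ w ∈ W, act σ w ∈ W) :
    (∀ w ∈ W, w = 0 ∨ w = 1) ∨ golayCode ≤ W := by
  by_cases h : ∀ w ∈ W, w = 0 ∨ w = 1
  · exact Or.inl h
  push Not at h
  obtain ⟨w, hw, h0, h1⟩ := h
  have h16 := invariant_sixteen hW hw h0 h1
  have hfull : wordOf 15332127 = (1 : GolayPt → ZMod 2) + wordOf 1445088 := by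
    rw [one_eq, ← wordOf_xor]; decide +kernel
  have h16' : wordOf 16101503 ∈ W := by
    obtain ⟨σ, hσ, he⟩ := octad_move (M := 675712) (by decide +kernel) (by decide +kernel)
    have := hW σ hσ _ h16
    rwa [hfull, act_add, act_ones, he, one_eq, ← wordOf_xor] at this
  obtain ⟨σ, hσ, he⟩ := octad_move (M := 15332127 ^^^ 16101503) (by decide +kernel) (by decide +kernel)
  have h8 : wordOf 1445088 ∈ W := by
    have := hW σ⁻¹ (inv_mem hσ) _ (wordOf_xor _ _ ▸ W.add_mem h16 h16')
    rwa [← he, act_inv_act] at this
  refine Or.inr fun x hx => code_induction (fun x => x ∈ W) W.zero_mem (fun _ _ => W.add_mem)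
    (fun r hr => ?_) hx
  have hr8 : ∀ r ∈ codeRows, isCode r = true ∧ wt r = 8 := by decide +kernel
  obtain ⟨τ, hτ, he'⟩ := octad_move (hr8 r hr).1 (hr8 r hr).2
  exact he' ▸ hW τ hτ _ h8


/-- For the automorphism group of the length-24 binary Golay code of the definitions (the Mathieu group of degree 24) acting on binary words of length 24 by permuting coordinates, the only invariant subspaces of the space of all words are: zero, the span of the all-ones word, the code itself, the even-weight words, and the whole space. (So the permutation module has a unique composition series.) -/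
theorem result (W : Submodule (ZMod 2) (Cfsg.GolayPt → ZMod 2)) (hW : ∀ σ ∈ Cfsg.M24, ∀ w ∈ W, (fun p => w (σ.symm p)) ∈ W) : W = ⊥ ∨ W = Submodule.span (ZMod 2) {fun _ => (1 : ZMod 2)} ∨ W = Cfsg.golayCode ∨ (W : Set (Cfsg.GolayPt → ZMod 2)) = {w | ∑ p, w p = 0} ∨ W = ⊤ := by
  classical
  have hone : (1 : Cfsg.GolayPt → ZMod 2) ∈ Cfsg.golayCode :=
    Submodule.subset_span (Or.inr rfl)
  rcases small_or_big hW with hsmall | hC
  · by_cases h1 : (1 : Cfsg.GolayPt → ZMod 2) ∈ W
    · refine Or.inr (Or.inl (le_antisymm (fun w hw => ?_) ?_))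
      · rcases hsmall w hw with rfl | rfl
        · exact zero_mem _
        · exact Submodule.subset_span rfl
      · exact Submodule.span_le.2 (Set.singleton_subset_iff.2 h1)
    · left
      rw [Submodule.eq_bot_iff]
      exact fun w hw => (hsmall w hw).resolve_right fun h => h1 (h ▸ hw)
  · by_cases hWC : W ≤ Cfsg.golayCode
    · exact Or.inr (Or.inr (Or.inl (le_antisymm hWC hC)))
    · -- the orthogonal is small, so `W` contains the even words
      let W' : Submodule (ZMod 2) (Cfsg.GolayPt → ZMod 2) :=
        { carrier := {v | ∀ x ∈ W, CfsgLib.GolayModule.dot x v = 0}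
          add_mem' := fun {a b} ha hb x hx => by
            rw [CfsgLib.GolayModule.dot_add, ha x hx, hb x hx, add_zero]
          zero_mem' := fun x _ => CfsgLib.GolayModule.dot_zero x
          smul_mem' := fun c v hv x hx => by
            rcases (by decide : ∀ z : ZMod 2, z = 0 ∨ z = 1) c with rfl | rfl
            · rw [zero_smul]; exact CfsgLib.GolayModule.dot_zero x
            · rw [one_smul]; exact hv x hx }
      have hW' : ∀ σ ∈ Cfsg.M24, ∀ v ∈ W', act σ v ∈ W' := by
        intro σ hσ v hv x hx
        have := hv _ (hW σ⁻¹ (inv_mem hσ) x hx)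
        change CfsgLib.GolayModule.dot (act σ⁻¹ x) v = 0 at this
        rwa [← CfsgLib.GolayModule.dot_act σ, act_act_inv] at this
      have hsm : ∀ v ∈ W', v = 0 ∨ v = 1 := (small_or_big hW').resolve_right fun h => hWC fun x hx =>
        (CfsgLib.GolayModule.mem_code_iff_orth x).2 fun c hc => h hc x hx
      have heven : ∀ v : Cfsg.GolayPt → ZMod 2, ∑ p, v p = 0 → v ∈ W := by
        intro v hv
        by_contra hvW
        obtain ⟨f, hfv, hfW⟩ := Submodule.exists_dual_map_eq_bot_of_notMem hvW inferInstance
        let a : Cfsg.GolayPt → ZMod 2 := fun p => f (Pi.single p 1)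
        have hfa : ∀ x, f x = CfsgLib.GolayModule.dot x a := by
          intro x
          conv_lhs => rw [pi_eq_sum_univ' x]
          simp [CfsgLib.GolayModule.dot, a, map_sum, map_smul]
        have haW : a ∈ W' := fun x hx => by
          rw [← hfa]
          exact (Submodule.mem_bot _).1 (hfW ▸ Submodule.mem_map_of_mem hx)
        apply hfv
        rw [hfa]
        rcases hsm a haW with ha | ha
        · rw [ha, CfsgLib.GolayModule.dot_zero]
        · rw [ha]; simpa [CfsgLib.GolayModule.dot] using hv
      by_cases hodd : ∀ w ∈ W, ∑ p, w p = 0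
      · exact Or.inr (Or.inr (Or.inr (Or.inl (Set.ext fun v => ⟨hodd v, heven v⟩))))
      · push Not at hodd
        obtain ⟨o, ho, ho1⟩ := hodd
        have hval : ∀ z : ZMod 2, z ≠ 0 → z = 1 := by decide
        refine Or.inr (Or.inr (Or.inr (Or.inr ((Submodule.eq_top_iff').2 fun v => ?_))))
        by_cases hv : ∑ p, v p = 0
        · exact heven v hv
        · have := W.add_mem (heven (v - o) (by
            simp [Finset.sum_sub_distrib, hval _ hv, hval _ ho1])) ho
          simpa using this

end Cfsg.Agent.S5548
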