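import Cfsg.Statements.S5549
import Cfsg.Agent.GolayModule.Basic

set_option autoImplicit false
open Cfsg

namespace Cfsg.Agent.S5549

open CfsgLib.Mathieu CfsgLib.GolayModule

/-- Octads whose classes span the code modulo the all-ones word, with transitive stabilisers. -/
def base : List ℕ := [1445088, 13062145, 3719203, 884962, 10558, 36294, 69395, 5279, 133817, 262637, 4196943]

/-- Tests singling out the possible images at each level. -/
def tests : List (List ℕ) := [[], [1], [1, 2, 3], [5, 6, 1, 4, 7], [3, 5, 6, 1, 4, 12], [5, 6, 17, 1, 24, 2], [6, 43, 44, 22, 14, 2], [6, 31, 117, 38, 19], [6, 31, 43, 44, 22], [6, 43, 99, 1, 8], [6, 25, 69, 32, 49]]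

/-- Tables fixing the first two members of `base`. -/
def tables2 : List ℕ := [2203346726746214580654111553261934113694639113330561806,
    540976567328068539841458280664887741043638771866867532311]

/-- Tables fixing the first three members of `base`. -/
def tables3 : List ℕ := [393475368211583183236613450016326261242648906559063064846,
    565115595143458504889338119831066471023302895902873095936]

/-- Orbit of the third member. -/
def edges2 : List (ℕ × ℕ × ℕ) := [(3719203, 0, 0), (545190, 0, 0), (9471495, 0, 1), (4731956, 1, 0), (551943, 1, 1), (582081, 2, 0), (14156372, 2, 1), (14688364, 3, 0), (2704706, 3, 1), (3698756, 4, 0), (11010247, 4, 1), (2120980, 5, 0), (10496547, 5, 1), (8431757, 6, 0), (5833010, 6, 1), (6915112, 7, 1), (596054, 8, 0), (45159, 8, 1), (6305926, 9, 0), (13142054, 10, 1), (5255258, 11, 0), (14714004, 12, 1), (3172097, 13, 0), (15207048, 13, 1), (8978620, 14, 0), (1127686, 14, 1), (8455014, 15, 0), (104010, 15, 1), (5842956, 16, 0), (6842656, 17, 0), (11028004,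 17, 1), (16262146, 18, 0), (2738308, 18, 1), (9969957, 19, 0), (4785798, 19, 1), (3227948, 20, 1), (8398155, 21, 0), (4819776, 21, 1), (2150610, 22, 0), (11575377, 22, 1), (4294810, 23, 1), (75309, 24, 0), (4726026, 24, 1), (6889680, 25, 0), (632881, 26, 0), (21116, 27, 1), (11608708, 28, 0), (3739786, 28, 1), (11538486, 29, 0), (2204803, 29, 1), (4752467, 30, 1), (7438406, 31, 1), (563843, 32, 1), (2121909, 33, 0), (9020484, 34, 0), (78514, 35, 0), (1618953, 35, 1), (2640465, 36, 0), (9537812, 37, 0), (52005, 38, 1), (2115979, 39, 0), (15762208, 39, 1), (10028808, 40, 0), (72588, 40, 1), (2220640, 41, 0), (11015256, 41, 1), (90318, 42, 1), (10554382, 43, 0), (2201890, 43, 1), (10491778, 44, 1), (4241960, 45, 0), (542009, 45, 1), (7903248, 46, 1), (1103886, 47, 1), (4726955, 48, 0), (5817604, 48, 1), (10525252, 49, 1), (8931660, 50, 0), (8989058, 51, 0), (1675812, 51, 1), (8407702, 52, 1), (2126890, 53, 0), (11046145, 53, 1), (2173253, 54, 0), (6820450, 54, 1), (6308804, 56, 0), (11551306,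 56, 1), (8421811, 57, 1), (1122713, 58, 0), (5780352, 58, 1), (1110320, 59, 0), (8922769, 59, 1), (1594898, 60, 0), (5350928, 61, 1), (99029, 62, 0), (555160, 63, 1), (2135601, 64, 1), (4196943, 65, 0), (4243818, 65, 1), (2702848, 66, 0), (2627629, 66, 1), (1647171, 67, 0), (4755660, 67, 1), (63108, 68, 1), (4253780, 69, 1), (2180760, 70, 1), (13631886, 72, 0), (1164162, 72, 1), (1589901, 73, 1), (8401364, 75, 0), (5286147, 76, 0), (4768432, 76, 1), (1063445, 77, 0), (3736597, 78, 0), (4301220, 79, 0), (4721045, 80, 1), (2147405, 81, 1), (1065303, 82, 0), (12624578, 82, 1), (3237906, 83, 0), (11055264, 83, 1), (115766, 84, 1), (8436754, 85, 0), (5275709, 86, 1), (12594948, 87, 1), (11548936, 88, 1), (6295992, 90, 0), (14682450, 91, 1), (10584520, 93, 0), (3216208, 93, 1), (126216, 94, 0), (8919856, 94, 1), (7345676, 95, 0), (8439632, 96, 1), (10021376, 97, 0), (5268006, 100, 0), (8963210, 100, 1), (608810, 102, 1), (6337856, 103, 0), (2687905, 104, 1), (39257, 105, 1), (628112, 107, 0), (9963547,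 108, 1), (6302745, 109, 0), (12075408, 110, 0), (8426796, 111, 0), (69395, 111, 1), (7397512, 112, 0), (9998658, 113, 1), (10560816, 114, 0), (9462812, 115, 0), (31554, 116, 0), (8946281, 116, 1), (6359604, 118, 1), (3182981, 119, 1), (6292775, 120, 0), (6344194, 120, 1), (602472, 121, 0), (530245, 121, 1), (7864649, 122, 0), (8414120, 123, 0), (7340691, 125, 0), (12584506, 126, 0), (2110153, 130, 1), (4220306, 131, 1), (1687640, 132, 1), (4203377, 133, 1), (5279, 137, 1), (5262104, 140, 0), (4261212, 141, 0), (4744776, 145, 1), (3246601, 147, 1), (2162811, 149, 0), (9543722, 153, 0), (8937586, 155, 0), (10537016, 163, 1), (1053483, 165, 1), (9474712, 168, 0), (8464984, 169, 0), (4229001, 175, 1)]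

/-- Orbit of the fourth member. -/
def edges3 : List (ℕ × ℕ × ℕ) := [(884962, 0, 0), (10650722, 0, 0), (1805314, 0, 1), (11831426, 1, 1)]

/-- How each basis row is a sum of members of `base` and all ones. -/
def rowCert : List ℕ := [2, 3726, 2661, 3235, 3949, 3720, 2769, 2783, 2626, 1380, 3448, 1023]

/-- The weight of a class modulo the all-ones word. -/
def typ (M : ℕ) : ℕ := min (wt M) (24 - wt M)

theorem wt_le (M : ℕ) : wt M ≤ 24 := by
  rw [← card_setOf24]
  exact (Finset.card_le_univ _).trans (by decide +kernel)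

theorem wt_compl (M : ℕ) : wt (M ^^^ 16777215) + wt M = 24 := by
  have h1 : wt (M ^^^ 16777215) + 2 * wt M = wt M + 24 := by
    rw [← card_setOf24, ← card_setOf24 M, setOf24_xor, setOf24_full]
    have := card_symmDiff_add (setOf24 M) Finset.univ
    rw [Finset.inter_univ, Finset.card_univ] at this
    exact this
  omega

theorem typ_compl (M : ℕ) : typ (M ^^^ 16777215) = typ M := by
  have := wt_compl M; have := wt_le M; simp only [typ]; omega

/-- Equality modulo the all-ones word. -/
def Eqv (a b : GolayPt → ZMod 2) : Prop := a = b ∨ a = b + 1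

theorem Eqv.add {a b c d : GolayPt → ZMod 2} (h : Eqv a b) (h' : Eqv c d) : Eqv (a + c) (b + d) := by
  rcases h with rfl | rfl <;> rcases h' with rfl | rfl
  · exact Or.inl rfl
  · exact Or.inr (by rw [add_assoc])
  · exact Or.inr (by abel)
  · left
    have h2 : (1 : GolayPt → ZMod 2) + 1 = 0 := funext fun _ => (by decide : (1 : ZMod 2) + 1 = 0)
    calc b + 1 + (d + 1) = b + d + (1 + 1) := by abel
      _ = b + d := by rw [h2, add_zero]

theorem eqv_symm {a b : GolayPt → ZMod 2} (h : Eqv a b) : Eqv b a := by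
  rcases h with rfl | rfl
  · exact Or.inl rfl
  · right; rw [add_assoc, show (1 : GolayPt → ZMod 2) + 1 = 0 from funext fun _ => (by decide : (1 : ZMod 2) + 1 = 0), add_zero]

theorem eqv_trans {a b c : GolayPt → ZMod 2} (h : Eqv a b) (h' : Eqv b c) : Eqv a c := by
  rcases h with rfl | rfl
  · exact h'
  · rcases h' with rfl | rfl
    · exact Or.inr rfl
    · left; rw [add_assoc, show (1 : GolayPt → ZMod 2) + 1 = 0 from funext fun _ => (by decide : (1 : ZMod 2) + 1 = 0), add_zero]

theorem eqv_act (σ : Equiv.Perm GolayPt) {a b : GolayPt → ZMod 2} (h : Eqv a b) :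
    Eqv (act σ a) (act σ b) := by
  rcases h with rfl | rfl
  · exact Or.inl rfl
  · exact Or.inr rfl

theorem typ_eqv {M N : ℕ} (hM : isCode M = true) (hN : isCode N = true)
    (h : Eqv (wordOf M) (wordOf N)) : typ M = typ N := by
  rcases h with h | h
  · rw [wordOf_eq_zero_or N (isCode_lt hM) (isCode_lt hN) h]
  · rw [one_eq, ← wordOf_xor] at h
    rw [wordOf_eq_zero_or _ (isCode_lt hM) (isCode_lt (isCode_xor hN isCode_full)) h, typ_compl]

/-- The candidates at level `k`. -/
def candidate (k q : ℕ) : Bool :=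
  wt q == 8 && (tests.getD k []).all fun m =>
    typ (q ^^^ xorSel (base.take k) m) == typ (base.getD k 0 ^^^ xorSel (base.take k) m)

/-- Edge check. -/
def edgesOK (start : ℕ) (ts : List ℕ) (es : List (ℕ × ℕ × ℕ)) : Bool :=
  ((es.getD 0 (0, 0, 0)).1 == start) && allBelow es.length fun i => i == 0 ||
    (Nat.blt (es.getD i (0, 0, 0)).2.1 i && Nat.blt (es.getD i (0, 0, 0)).2.2 ts.length &&
      push (ts.getD (es.getD i (0, 0, 0)).2.2 0) 24 (es.getD (es.getD i (0, 0, 0)).2.1 (0, 0, 0)).1
        == (es.getD i (0, 0, 0)).1)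

theorem orbit_of_edges {pre : List ℕ} {start : ℕ} {ts : List ℕ} {es : List (ℕ × ℕ × ℕ)}
    (hok : edgesOK start ts es = true)
    (hts : ts.all (fun t => tableIn t && pre.all fun P => push t 24 P == P) = true) :
    ∀ e ∈ es, ∃ σ ∈ M24, (∀ P ∈ pre, act σ (wordOf P) = wordOf P) ∧
      act σ (wordOf start) = wordOf e.1 := by
  simp only [edgesOK, Bool.and_eq_true, beq_iff_eq, allBelow_iff, Bool.or_eq_true, Nat.blt_eq] at hok
  obtain ⟨h0, hok⟩ := hok
  suffices key : ∀ i, i < es.length → ∃ σ ∈ M24, (∀ P ∈ pre, act σ (wordOf P) = wordOf P) ∧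
      act σ (wordOf start) = wordOf (es.getD i (0, 0, 0)).1 by
    intro e he
    obtain ⟨i, hi, rfl⟩ := List.getElem_of_mem he
    have := key i hi
    rwa [List.getD_eq_getElem _ _ hi] at this
  intro i
  induction i using Nat.strong_induction_on with
  | _ i ih =>
    intro hi
    rcases hok i hi with rfl | ⟨⟨hp, hg⟩, he⟩
    · exact ⟨1, one_mem _, fun _ _ => rfl, by rw [h0]; rfl⟩
    · obtain ⟨σ, hσ, h1, h2⟩ := ih _ hp (by omega)
      simp only [List.all_eq_true, Bool.and_eq_true, beq_iff_eq] at hts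
      have hmem : ts.getD (es.getD i (0, 0, 0)).2.2 0 ∈ ts := by
        rw [List.getD_eq_getElem _ _ hg]; exact List.getElem_mem hg
      obtain ⟨τ, hτ, hrep⟩ := exists_of_table (hts _ hmem).1
      refine ⟨τ * σ, mul_mem hτ hσ, fun P hP => ?_, ?_⟩
      · rw [act_mul, h1 P hP, act_wordOf hrep, (hts _ hmem).2 P hP]
      · rw [act_mul, h2, act_wordOf hrep, he]

theorem cand_high : allBelow 4096 (fun m => !(wt (codeMask m) == 8) ||
    allBelow 7 fun j => !candidate (j + 4) (codeMask m) || codeMask m == base.getD (j + 4) 0) = true := by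
  decide +kernel

theorem cand_two : allBelow 4096 (fun m => !candidate 2 (codeMask m) ||
    edges2.any fun e => e.1 == codeMask m) = true := by decide +kernel

theorem cand_three : allBelow 4096 (fun m => !candidate 3 (codeMask m) ||
    edges3.any fun e => e.1 == codeMask m) = true := by decide +kernel

theorem base_code : allBelow 11 (fun k =>
    isCode (base.getD k 0) && wt (base.getD k 0) == 8) = true := by decide +kernel

theorem base_take_code : ∀ k < 11, ∀ r ∈ base.take k, isCode r = true := by decide +kernel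

/-- Every candidate is reached by the stabiliser of the earlier members. -/
theorem reach_candidate (k : ℕ) (hk : k < 11) {q : ℕ} (hq : isCode q = true)
    (hc : candidate k q = true) :
    ∃ σ ∈ M24, (∀ P ∈ base.take k, act σ (wordOf P) = wordOf P) ∧
      act σ (wordOf (base.getD k 0)) = wordOf q := by
  have h8 : wt q = 8 := by
    simp only [candidate, Bool.and_eq_true, beq_iff_eq] at hc; exact hc.1
  obtain ⟨m, hm, rfl⟩ := exists_codeMask hq
  rcases (by omega : k = 0 ∨ k = 1 ∨ k = 2 ∨ k = 3 ∨ 4 ≤ k) with rfl | rfl | rfl | rfl | h4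
  · obtain ⟨σ, hσ, he⟩ := octad_move hq h8
    exact ⟨σ, hσ, by simp, he⟩
  · have hwt : wt (codeMask m &&& 1445088) = 2 := by
      simp only [candidate, Bool.and_eq_true, List.all_eq_true, beq_iff_eq] at hc
      have h := hc.2 1 (by decide)
      have e : xorSel (base.take 1) 1 = 1445088 := by decide +kernel
      have e' : typ (base.getD 1 0 ^^^ 1445088) = 12 := by decide +kernel
      rw [e, e', typ] at h
      have hsum := card_symmDiff_add (setOf24 (codeMask m)) (setOf24 1445088)
      have h8' : wt 1445088 = 8 := by decide +kernel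
      rw [← setOf24_xor, ← setOf24_and, card_setOf24, card_setOf24, card_setOf24, card_setOf24, h8,
        h8'] at hsum
      omega
    have hcm := allBelow_iff.1 meetTwo_complete m hm
    simp only [Bool.or_eq_true, bne_iff_ne, ne_eq, List.any_eq_true, beq_iff_eq] at hcm
    rcases hcm with (hcm | hcm) | ⟨e, he, hem⟩
    · exact absurd h8 hcm
    · exact absurd hwt hcm
    · obtain ⟨i, hi, rfl⟩ := List.getElem_of_mem he
      have hlen : meetTwo.length = 448 := by decide +kernel
      obtain ⟨σ, hσ, h1, h2⟩ := meetTwo_orbit i (hlen ▸ hi)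
      rw [List.getD_eq_getElem _ _ hi, hem] at h2
      refine ⟨σ, hσ, ?_, h2⟩
      intro P hP
      have : P = 1445088 := by simpa [base] using hP
      rw [this, h1]
  · have h := allBelow_iff.1 cand_two m hm
    simp only [hc, Bool.not_true, Bool.false_or, List.any_eq_true, beq_iff_eq] at h
    obtain ⟨e, he, hem⟩ := h
    obtain ⟨σ, hσ, h1, h2⟩ := orbit_of_edges (pre := base.take 2) (start := base.getD 2 0)
      (ts := tables2) (es := edges2) (by decide +kernel) (by decide +kernel) e he
    exact ⟨σ, hσ, h1, hem ▸ h2⟩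
  · have h := allBelow_iff.1 cand_three m hm
    simp only [hc, Bool.not_true, Bool.false_or, List.any_eq_true, beq_iff_eq] at h
    obtain ⟨e, he, hem⟩ := h
    obtain ⟨σ, hσ, h1, h2⟩ := orbit_of_edges (pre := base.take 3) (start := base.getD 3 0)
      (ts := tables3) (es := edges3) (by decide +kernel) (by decide +kernel) e he
    exact ⟨σ, hσ, h1, hem ▸ h2⟩
  · have h := allBelow_iff.1 cand_high m hm
    simp only [h8, beq_self_eq_true, Bool.not_true, Bool.false_or, allBelow_iff] at h
    have := h (k - 4) (by omega)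
    rw [Nat.sub_add_cancel h4] at this
    simp only [hc, Bool.not_true, Bool.false_or, beq_iff_eq] at this
    exact ⟨1, one_mem _, fun _ _ => rfl, by rw [act_one, this]⟩


/-- Let X be a group of linear automorphisms of the length-24 binary Golay code of the definitions that fix the all-ones word, containing the coordinate-permutation action of every element of the code's automorphism group (the Mathieu group of degree 24), and such that every element of X sends each codeword into its orbit under that Mathieu group up to adding the all-ones word (X has the same orbits as the Mathieu group on the code modulo the all-ones word). Then every element of X agrees, modulo the all-ones word, with the action of a single element of the Mathieu group: X induces exactly the Mathieu group on the code modulo the all-ones word. -/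
theorem result (X : Subgroup (↥Cfsg.golayCode ≃ₗ[ZMod 2] ↥Cfsg.golayCode)) (h1 : ∀ x ∈ X, ∀ e : ↥Cfsg.golayCode, (e : (Cfsg.GolayPt → ZMod 2)) = (fun _ => (1 : ZMod 2)) → x e = e) (hM : ∀ σ ∈ Cfsg.M24, ∃ x ∈ X, ∀ c : ↥Cfsg.golayCode, ((x c : ↥Cfsg.golayCode) : (Cfsg.GolayPt → ZMod 2)) = fun p => (c : (Cfsg.GolayPt → ZMod 2)) (σ.symm p)) (horb : ∀ x ∈ X, ∀ c : ↥Cfsg.golayCode, ∃ σ ∈ Cfsg.M24, ((x c : ↥Cfsg.golayCode) : (Cfsg.GolayPt → ZMod 2)) = (fun p => (c : (Cfsg.GolayPt → ZMod 2)) (σ.symm p)) ∨ ((x c : ↥Cfsg.golayCode) : (Cfsg.GolayPt → ZMod 2)) = (fun p => (c : (Cfsg.GolayPt → ZMod 2)) (σ.symm p)) + fun _ => (1 : ZMod 2)) (x : ↥Cfsg.golayCode ≃ₗ[ZMod 2] ↥Cfsg.golayCode) (hx : x ∈ X) : ∃ σ ∈ Cfsg.M24, ∀ c : ↥Cfsg.golayCode, ((x c : ↥Cfsg.golayCode) : (Cfsg.GolayPt → ZMod 2)) = (fun p => (c : (Cfsg.GolayPt → ZMod 2)) (σ.symm p)) ∨ ((x c : ↥Cfsg.golayCode) : (Cfsg.GolayPt → ZMod 2)) = (fun p => (c : (Cfsg.GolayPt → ZMod 2)) (σ.symm p)) + fun _ => (1 : ZMod 2) := by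
  classical
  have hone : (1 : Cfsg.GolayPt → ZMod 2) ∈ Cfsg.golayCode := Submodule.subset_span (Or.inr rfl)
  let V : (w : Cfsg.GolayPt → ZMod 2) → w ∈ Cfsg.golayCode → Cfsg.GolayPt → ZMod 2 := fun w hw =>
    ((x ⟨w, hw⟩ : ↥Cfsg.golayCode) : Cfsg.GolayPt → ZMod 2)
  have Vadd : ∀ v w (hv : v ∈ Cfsg.golayCode) (hw : w ∈ Cfsg.golayCode),
      V (v + w) (add_mem hv hw) = V v hv + V w hw := fun v w hv hw => by
    show ((x (⟨v, hv⟩ + ⟨w, hw⟩) : ↥Cfsg.golayCode) : Cfsg.GolayPt → ZMod 2) = _
    rw [map_add]; rfl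
  have Vxor : ∀ a b (ha : CfsgLib.Mathieu.isCode a = true) (hb : CfsgLib.Mathieu.isCode b = true)
      (hab : CfsgLib.Mathieu.wordOf (a ^^^ b) ∈ Cfsg.golayCode),
      V _ hab = V _ (CfsgLib.Mathieu.wordOf_mem_of_isCode ha)
        + V _ (CfsgLib.Mathieu.wordOf_mem_of_isCode hb) := fun a b ha hb hab => by
    rw [← Vadd]
    congr 1
    exact CfsgLib.Mathieu.wordOf_xor a b
  have Vtyp : ∀ M N, ∀ (hM : CfsgLib.Mathieu.isCode M = true),
      CfsgLib.Mathieu.isCode N = true →
      Eqv (V _ (CfsgLib.Mathieu.wordOf_mem_of_isCode hM)) (CfsgLib.Mathieu.wordOf N) →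
      typ N = typ M := by
    intro M N hM hN h
    obtain ⟨σ, hσ, hs⟩ := horb x hx ⟨_, CfsgLib.Mathieu.wordOf_mem_of_isCode hM⟩
    have hs' : Eqv (V _ (CfsgLib.Mathieu.wordOf_mem_of_isCode hM))
        (act σ (CfsgLib.Mathieu.wordOf M)) := hs
    obtain ⟨M', hM', hw', hact, -⟩ := act_wordOf_code hσ hM
    rw [hact] at hs'
    rw [typ_eqv hN hM' (eqv_trans (eqv_symm h) hs'), typ, typ, hw']
  have hbase : ∀ k < 11, CfsgLib.Mathieu.isCode (base.getD k 0) = true ∧
      CfsgLib.Mathieu.wt (base.getD k 0) = 8 := fun k hk => by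
    simpa using CfsgLib.Mathieu.allBelow_iff.1 base_code k hk
  -- the inductive step: agreement on the first k members
  have main : ∀ k ≤ 11, ∃ σ ∈ Cfsg.M24, ∀ P ∈ base.take k,
      ∃ hP : CfsgLib.Mathieu.isCode P = true,
        Eqv (V _ (CfsgLib.Mathieu.wordOf_mem_of_isCode hP)) (act σ (CfsgLib.Mathieu.wordOf P)) := by
    intro k
    induction k with
    | zero => exact fun _ => ⟨1, one_mem _, by simp⟩
    | succ k ih =>
      intro hk
      obtain ⟨σ, hσ, hagree⟩ := ih (by omega)
      obtain ⟨hO, hO8⟩ := hbase k (by omega)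
      -- the image, pulled back, as an octad mask
      obtain ⟨M, hM, hMe⟩ := CfsgLib.Mathieu.exists_isCode_of_mem
        (act_mem_code (inv_mem hσ) (x ⟨_, CfsgLib.Mathieu.wordOf_mem_of_isCode hO⟩).2)
      have hback : V _ (CfsgLib.Mathieu.wordOf_mem_of_isCode hO)
          = act σ (CfsgLib.Mathieu.wordOf M) := by rw [← hMe, act_act_inv]
      obtain ⟨M₁, hM₁, -, hM₁e, -⟩ := act_wordOf_code hσ hM
      have htyp : typ M = 8 := by
        obtain ⟨M₂, hM₂, hw₂, hM₂e, -⟩ := act_wordOf_code hσ hM
        have := Vtyp _ M₂ hO hM₂ (Or.inl (by rw [hback, hM₂e]))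
        have e8 : typ (base.getD k 0) = 8 := by rw [typ, hO8]; rfl
        rw [e8] at this
        rw [typ, ← hw₂]; exact this
      obtain ⟨q, hq, hq8, hqe⟩ : ∃ q, CfsgLib.Mathieu.isCode q = true ∧
          CfsgLib.Mathieu.wt q = 8 ∧ Eqv (CfsgLib.Mathieu.wordOf M) (CfsgLib.Mathieu.wordOf q) := by
        have := wt_compl M
        have := wt_le M
        simp only [typ] at htyp
        by_cases h : CfsgLib.Mathieu.wt M = 8
        · exact ⟨M, hM, h, Or.inl rfl⟩
        · refine ⟨M ^^^ 16777215, CfsgLib.Mathieu.isCode_xor hM CfsgLib.Mathieu.isCode_full,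
            by omega, Or.inr ?_⟩
          rw [CfsgLib.Mathieu.one_eq, ← CfsgLib.Mathieu.wordOf_xor, Nat.xor_assoc, Nat.xor_self,
            Nat.xor_zero]
      have hqV : Eqv (V _ (CfsgLib.Mathieu.wordOf_mem_of_isCode hO))
          (act σ (CfsgLib.Mathieu.wordOf q)) := by rw [hback]; exact eqv_act σ hqe
      have hspan : ∀ m, ∃ hs : CfsgLib.Mathieu.isCode (CfsgLib.Mathieu.xorSel (base.take k) m) = true,
          Eqv (V _ (CfsgLib.Mathieu.wordOf_mem_of_isCode hs))
            (act σ (CfsgLib.Mathieu.wordOf (CfsgLib.Mathieu.xorSel (base.take k) m))) := by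
        intro m
        refine CfsgLib.Mathieu.xorSel_induction (fun P => ∃ hs : CfsgLib.Mathieu.isCode P = true,
          Eqv (V _ (CfsgLib.Mathieu.wordOf_mem_of_isCode hs))
            (act σ (CfsgLib.Mathieu.wordOf P))) ?_ ?_ _ _ hagree
        · refine ⟨CfsgLib.Mathieu.isCode_zero, Or.inl ?_⟩
          have : (⟨_, CfsgLib.Mathieu.wordOf_mem_of_isCode CfsgLib.Mathieu.isCode_zero⟩ :
              ↥Cfsg.golayCode) = 0 := Subtype.ext CfsgLib.Mathieu.wordOf_zero
          show ((x ⟨_, _⟩ : ↥Cfsg.golayCode) : Cfsg.GolayPt → ZMod 2) = _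
          rw [this, map_zero, CfsgLib.Mathieu.wordOf_zero]; rfl
        · rintro a b ⟨ha, ea⟩ ⟨hb, eb⟩
          refine ⟨CfsgLib.Mathieu.isCode_xor ha hb, ?_⟩
          rw [Vxor a b ha hb, CfsgLib.Mathieu.wordOf_xor, act_add]
          exact ea.add eb
      have hc : candidate k q = true := by
        simp only [candidate, Bool.and_eq_true, List.all_eq_true, beq_iff_eq]
        refine ⟨hq8, fun m _ => ?_⟩
        obtain ⟨hs, es⟩ := hspan m
        obtain ⟨N, hN, hwN, hNe, -⟩ := act_wordOf_code hσ (CfsgLib.Mathieu.isCode_xor hq hs)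
        have e : Eqv (V _ (CfsgLib.Mathieu.wordOf_mem_of_isCode
            (CfsgLib.Mathieu.isCode_xor hO hs))) (CfsgLib.Mathieu.wordOf N) := by
          rw [← hNe, Vxor _ _ hO hs, CfsgLib.Mathieu.wordOf_xor, act_add]
          exact hqV.add es
        rw [← Vtyp _ N (CfsgLib.Mathieu.isCode_xor hO hs) hN e, typ, typ, hwN]
      obtain ⟨τ, hτ, hfixτ, hτq⟩ := reach_candidate k (by omega) hq hc
      refine ⟨σ * τ, mul_mem hσ hτ, fun P hP => ?_⟩
      have hlen : k < base.length := by simp [base]; omega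
      rw [List.take_succ, List.getElem?_eq_getElem hlen] at hP
      simp only [Option.toList_some, List.mem_append, List.mem_singleton] at hP
      rcases hP with hP | rfl
      · obtain ⟨hP', e⟩ := hagree P hP
        exact ⟨hP', by rw [act_mul, hfixτ P hP]; exact e⟩
      · have key : ∀ P, P = base.getD k 0 → ∃ hP : CfsgLib.Mathieu.isCode P = true,
            Eqv (V _ (CfsgLib.Mathieu.wordOf_mem_of_isCode hP))
              (act (σ * τ) (CfsgLib.Mathieu.wordOf P)) := by
          rintro P rfl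
          exact ⟨hO, by rw [act_mul, hτq]; exact hqV⟩
        exact key _ (List.getD_eq_getElem _ _ hlen).symm
  obtain ⟨σ, hσ, hall⟩ := main 11 le_rfl
  refine ⟨σ, hσ, fun c => ?_⟩
  have hgood : ∀ w, w ∈ Cfsg.golayCode → ∃ hw : w ∈ Cfsg.golayCode, Eqv (V w hw) (act σ w) := by
    intro w hw
    refine code_induction (fun w => ∃ hw : w ∈ Cfsg.golayCode, Eqv (V w hw) (act σ w)) ?_ ?_ ?_ hw
    · refine ⟨zero_mem _, Or.inl ?_⟩
      show ((x 0 : ↥Cfsg.golayCode) : Cfsg.GolayPt → ZMod 2) = _
      rw [map_zero]; rfl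
    · rintro a b ⟨ha, ea⟩ ⟨hb, eb⟩
      exact ⟨add_mem ha hb, by rw [Vadd a b ha hb, act_add]; exact ea.add eb⟩
    · intro r hr
      have hrc : ∀ r ∈ CfsgLib.Mathieu.codeRows,
          r ∈ rowCert.map (CfsgLib.Mathieu.xorSel (base ++ [16777215])) := by decide +kernel
      obtain ⟨m, -, rfl⟩ := List.mem_map.1 (hrc r hr)
      refine wordOf_xorSel (fun w => ∃ hw : w ∈ Cfsg.golayCode, Eqv (V w hw) (act σ w)) ?_ ?_ _ _ ?_
      · refine ⟨zero_mem _, Or.inl ?_⟩
        show ((x 0 : ↥Cfsg.golayCode) : Cfsg.GolayPt → ZMod 2) = _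
        rw [map_zero]; rfl
      · rintro a b ⟨ha, ea⟩ ⟨hb, eb⟩
        exact ⟨add_mem ha hb, by rw [Vadd a b ha hb, act_add]; exact ea.add eb⟩
      · intro P hP
        rcases List.mem_append.1 hP with hP | hP
        · obtain ⟨hP', e⟩ := hall P (by simpa [base] using hP)
          exact ⟨_, e⟩
        · rw [List.mem_singleton] at hP
          subst hP
          rw [← CfsgLib.Mathieu.one_eq]
          refine ⟨hone, Or.inl ?_⟩
          show ((x ⟨_, _⟩ : ↥Cfsg.golayCode) : Cfsg.GolayPt → ZMod 2) = _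
          rw [h1 x hx ⟨_, hone⟩ rfl, act_ones]
  obtain ⟨hw, e⟩ := hgood c.1 c.2
  exact e

end Cfsg.Agent.S5549
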