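import Cfsg.Statements.S5550
import Cfsg.Agent.GolayModule.Basic

set_option autoImplicit false
open Cfsg

namespace Cfsg.Agent.S5550

open CfsgLib.Mathieu CfsgLib.GolayModule

/-- `u` has a stabiliser moving every word outside the code modulo the code. -/
def Moves (u : GolayPt → ZMod 2) : Prop :=
  ∀ w, w ∉ golayCode → ∃ σ ∈ M24, act σ u = u ∧ act σ w - w ∉ golayCode

theorem moves_act {u : GolayPt → ZMod 2} (h : Moves u) {g : Equiv.Perm GolayPt} (hg : g ∈ M24) :
    Moves (act g u) := by
  intro w hw
  obtain ⟨σ, hσ, hu, hne⟩ := h (act g⁻¹ w) fun hh => hw (by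
    have := act_mem_code hg hh; rwa [act_act_inv] at this)
  refine ⟨g * σ * g⁻¹, mul_mem (mul_mem hg hσ) (inv_mem hg), ?_, fun hh => hne ?_⟩
  · rw [act_mul, act_mul, act_inv_act, hu]
  · have := act_mem_code (inv_mem hg) hh
    rwa [act_sub, ← act_mul, ← mul_assoc, ← mul_assoc, inv_mul_cancel, one_mul, act_mul] at this

theorem moves_add_one {u : GolayPt → ZMod 2} (h : Moves u) : Moves (u + 1) := fun w hw => by
  obtain ⟨σ, hσ, hu, hne⟩ := h w hw
  exact ⟨σ, hσ, by rw [act_add, hu, act_ones], hne⟩

/-- Sums `r + σ r`. -/
def diffs (ts : List ℕ) : List ℕ := ts.flatMap fun t => codeRows.map fun r => r ^^^ push t 24 r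

theorem moves_of_cert (M : ℕ) (ts cert : List ℕ) (hts : ts.all tableIn = true)
    (hfix : ts.all (fun t => push t 24 M == M) = true)
    (hc : codeRows = cert.map (xorSel (diffs ts))) : Moves (wordOf M) := by
  intro w hw
  by_contra h
  push Not at h
  apply hw
  simp only [List.all_eq_true, beq_iff_eq] at hts hfix
  have hd : ∀ d ∈ diffs ts, dot w (wordOf d) = 0 := by
    intro d hd
    simp only [diffs, List.mem_flatMap, List.mem_map] at hd
    obtain ⟨t, ht, r, hr, rfl⟩ := hd
    obtain ⟨σ, hσ, hrep⟩ := exists_of_table (hts t ht)
    have hmem := h σ hσ (by rw [act_wordOf hrep, hfix t ht])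
    have h0 := (mem_code_iff_orth _).1 hmem _ (act_mem_code hσ (wordOf_mem_of_row hr))
    rw [sub_eq_add_neg, CharTwo.neg_eq, add_dot, dot_act, act_wordOf hrep] at h0
    rw [wordOf_xor, dot_add, h0]
  rw [mem_code_iff_orth]
  intro c hc'
  refine code_induction (fun x => dot w x = 0) (dot_zero _)
    (fun a b ha hb => by rw [dot_add, ha, hb, add_zero]) (fun r hr => ?_) hc'
  rw [hc, List.mem_map] at hr
  obtain ⟨m, -, rfl⟩ := hr
  exact wordOf_xorSel (fun x => dot w x = 0) (dot_zero _)
    (fun a b ha hb => by rw [dot_add, ha, hb, add_zero]) _ _ hd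

/-- Tables of the three generators. -/
def genTables : List ℕ :=
  [563966621022008034872610010459283104912152472845665108481,
    100282430913604148406615130338594619360710202502092311,
    565306790265992222776667128068639878484303610033453011456]

theorem moves_zero : Moves 0 := by
  rw [← wordOf_zero]
  exact moves_of_cert 0 genTables
    [18298, 1, 18297, 7, 18293, 18277, 18245, 127, 255, 511, 17541, 16517]
    (by decide +kernel) (by decide +kernel) (by decide +kernel)

theorem moves_octad : Moves (wordOf 1445088) :=
  moves_of_cert 1445088 octTables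
    [9311, 273, 70, 1369, 9475, 42, 13386, 1373, 8535, 9243, 9297, 9427]
    (by decide +kernel) (by decide +kernel) (by decide +kernel)

theorem moves_dodecad : Moves (wordOf dodecadRep) :=
  moves_of_cert dodecadRep
    [343759044640545573234677579881206021608069361507949678356, 564536412178087745363336914147894312985279807217996401931]
    [5184, 1198, 4563, 4172, 9, 5325, 4534, 524421, 5607, 311, 1311, 315]
    (by decide +kernel) (by decide +kernel) (by decide +kernel)

theorem moves_code {M : ℕ} (hM : isCode M = true) : Moves (wordOf M) := by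
  have h16 : ∀ N, isCode N = true → wt N = 8 → Moves (wordOf N) := fun N hN h => by
    obtain ⟨σ, hσ, he⟩ := octad_move hN h
    exact he ▸ moves_act moves_octad hσ
  have hcompl : wt (M ^^^ 16777215) + wt M = 24 := by
    have h1 : wt (M ^^^ 16777215) + 2 * wt M = wt M + 24 := by
      rw [← card_setOf24, ← card_setOf24 M, setOf24_xor, setOf24_full]
      have := card_symmDiff_add (setOf24 M) Finset.univ
      rw [Finset.inter_univ, Finset.card_univ] at this
      exact this
    omega
  have hback : wordOf M = wordOf (M ^^^ 16777215) + 1 := by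
    rw [one_eq, ← wordOf_xor, Nat.xor_assoc, Nat.xor_self, Nat.xor_zero]
  rcases weight_cases hM with h | h | h | h | h
  · rw [wt_eq_zero hM h, wordOf_zero]; exact moves_zero
  · exact h16 M hM h
  · obtain ⟨σ, hσ, he⟩ := dodecad_transitive hM h
    exact he ▸ moves_act moves_dodecad hσ
  · rw [hback]; exact moves_add_one (h16 _ (isCode_xor hM isCode_full) (by omega))
  · rw [hback, wt_eq_zero (isCode_xor hM isCode_full) (by omega), wordOf_zero]
    exact moves_add_one moves_zero

/-- Let u be a word of the length-24 binary Golay code of the definitions (possibly zero or all-ones) and w any binary word of length 24 outside the code. Then some automorphism of the code (a coordinate permutation preserving it) fixes u but moves w to a word not congruent to w modulo the code: the stabilizer of a codeword fixes no non-zero element of the quotient of the space of all words by the code. -/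
theorem result (u : (Cfsg.GolayPt → ZMod 2)) (hu : u ∈ Cfsg.golayCode) (w : (Cfsg.GolayPt → ZMod 2)) (hw : w ∉ Cfsg.golayCode) : ∃ σ ∈ Cfsg.M24, (fun p => u (σ.symm p)) = u ∧ (fun p => w (σ.symm p)) - w ∉ Cfsg.golayCode := by
  obtain ⟨M, hM, rfl⟩ := CfsgLib.Mathieu.exists_isCode_of_mem hu
  exact moves_code hM w hw

end Cfsg.Agent.S5550
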