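import Cfsg.Statements.S5553
import Cfsg.Agent.Leech.LatticeBasis

set_option autoImplicit false
open Cfsg

namespace Cfsg.Agent.S5553

open CfsgLib.Leech Matrix

/-- A basis, modulo 2, of a totally singular subspace. -/
def uList : List (List ℤ) := [[0, 0, 1, 0, 0, 0, 0, 0, 0, 0, 0, 0, 0, 0, 0, 0, 0, 0, 1, 0, 0, 0, 0, 1], [1, 0, 0, 0, 0, 0, 0, 0, 0, 0, 0, 0, 0, 1, 1, 0, 1, 1, 1, 1, 0, 1, 0, 1], [0, 0, 0, 1, 0, 0, 0, 0, 0, 1, 0, 0, 0, 0, 1, 0, 0, 0, 1, 1, 0, 0, 0, 1], [0, 0, 0, 0, 1, 0, 0, 0, 0, 0, 0, 0, 0, 0, 1, 1, 0, 0, 1, 0, 0, 0, 1, 0], [0, 1, 0, 0, 0, 0, 0, 0, 0, 1, 0, 0, 0, 0, 1, 1, 0, 0, 0, 0, 1, 0, 1, 1], [0, 0, 0, 0, 0, 0, 1, 0, 0, 1, 0, 0, 0, 0, 1, 1, 1, 1, 0, 0, 0, 0, 1, 0], [0, 0, 0, 0, 0, 0, 0, 0, 0, 0, 1, 0, 0, 1, 1, 1, 1, 0, 0, 0, 0, 1, 1, 1], [0, 0, 0, 0, 0, 1, 0, 0, 0, 0, 0, 0, 0, 1, 0, 0, 0, 1, 1, 1, 1, 0, 1, 1], [0, 0, 0, 0, 0, 0, 0, 1, 0, 0, 0, 0, 0, 1, 1, 0, 1, 1, 1, 0, 1, 0, 1, 1], [0,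 0, 0, 0, 0, 0, 0, 0, 1, 1, 0, 0, 0, 1, 0, 0, 1, 1, 1, 0, 1, 0, 1, 0], [0, 0, 0, 0, 0, 0, 0, 0, 0, 0, 0, 0, 1, 1, 0, 1, 0, 1, 0, 1, 0, 0, 1, 0], [0, 0, 0, 0, 0, 0, 0, 0, 0, 0, 0, 1, 0, 1, 0, 1, 0, 1, 1, 0, 1, 0, 0, 1]]

/-- Its pivot positions. -/
def pivots : List (Fin 24) := [2, 0, 3, 4, 1, 6, 10, 5, 7, 8, 12, 11]

/-- The other positions. -/
def others : List (Fin 24) := [9, 13, 14, 15, 16, 17, 18, 19, 20, 21, 22, 23]

/-- The basis vectors. -/
def uVec (i : Fin 12) : Fin 24 → ℤ := coefOf (uList.getD i.val [])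

/-- The pivot of a basis vector. -/
def piv (i : Fin 12) : Fin 24 := pivots.getD i.val 0

/-- The other coordinates. -/
def oth (j : Fin 12) : Fin 24 := others.getD j.val 0

/-- The linear check whose kernel is the preimage of the subspace. -/
def check : (Fin 24 → ℤ) →+ (Fin 12 → ZMod 2) where
  toFun a := fun j => (a (oth j) : ZMod 2) + ∑ i, (a (piv i) : ZMod 2) * (uVec i (oth j) : ZMod 2)
  map_zero' := by funext j; simp
  map_add' a b := by
    funext j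
    simp only [Pi.add_apply, Int.cast_add, add_mul, Finset.sum_add_distrib]
    abel

theorem check_surjective : Function.Surjective check := by
  intro f
  refine ⟨fun k => ∑ j, if k = oth j then ((f j).val : ℤ) else 0, funext fun j => ?_⟩
  have hoo : ∀ j j', oth j = oth j' ↔ j = j' := by decide +kernel
  have hpo : ∀ i j, piv i ≠ oth j := by decide +kernel
  simp [check, hoo, hpo]

theorem exists_coeff {a : Fin 24 → ℤ} (h : check a = 0) :
    ∃ c : Fin 24 → ℤ, a = ∑ i, a (piv i) • uVec i + (2 : ℤ) • c := by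
  have key : ∀ k : Fin 24, (2 : ℤ) ∣ (a k - ∑ i, a (piv i) * uVec i k) := by
    intro k
    have hk : (∃ i, k = piv i) ∨ ∃ j, k = oth j := by revert k; decide +kernel
    have hd : ∀ i i', uVec i (piv i') = if i = i' then 1 else 0 := by decide +kernel
    rcases hk with ⟨i, rfl⟩ | ⟨j, rfl⟩
    · simp [hd]
    · apply (ZMod.intCast_zmod_eq_zero_iff_dvd (a (oth j) - ∑ i, a (piv i) * uVec i (oth j)) 2).1
      have := congrFun h j
      simp only [check, AddMonoidHom.coe_mk, ZeroHom.coe_mk, Pi.zero_apply] at this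
      push_cast
      rw [CharTwo.sub_eq_add]
      exact this
  choose c hc using key
  refine ⟨c, funext fun k => ?_⟩
  simp only [Pi.add_apply, Finset.sum_apply, Pi.smul_apply, smul_eq_mul]
  linarith [hc k]

theorem gsym (a b : Fin 24 → ℤ) :
    a ⬝ᵥ (CfsgLib.Leech.gram *ᵥ b) = b ⬝ᵥ (CfsgLib.Leech.gram *ᵥ a) := by
  have h1 := dotInt_linComb a b
  have h2 := dotInt_linComb b a
  have e : Cfsg.dotInt (linComb a) (linComb b) = Cfsg.dotInt (linComb b) (linComb a) :=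
    Finset.sum_congr rfl fun i _ => mul_comm _ _
  omega

theorem singular {a : Fin 24 → ℤ} (h : check a = 0) : (4 : ℤ) ∣ a ⬝ᵥ (CfsgLib.Leech.gram *ᵥ a) := by
  obtain ⟨c, hc⟩ := exists_coeff h
  generalize hs : (fun i => a (piv i)) = s at hc
  have hc' : a = ∑ i, s i • uVec i + (2 : ℤ) • c := by rw [← hs]; exact hc
  set v := ∑ i, s i • uVec i with hv
  have hcross : c ⬝ᵥ (CfsgLib.Leech.gram *ᵥ v) = v ⬝ᵥ (CfsgLib.Leech.gram *ᵥ c) := by
    exact gsym _ _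
  have e : a ⬝ᵥ (CfsgLib.Leech.gram *ᵥ a) = v ⬝ᵥ (CfsgLib.Leech.gram *ᵥ v) + 4 * (v ⬝ᵥ (CfsgLib.Leech.gram *ᵥ c)) + 4 * (c ⬝ᵥ (CfsgLib.Leech.gram *ᵥ c)) := by
    rw [hc']
    simp only [Matrix.mulVec_add, Matrix.mulVec_smul, dotProduct_add, add_dotProduct,
      smul_dotProduct, dotProduct_smul, smul_eq_mul, hcross]
    ring
  have hM : ∀ i j, (2 : ℤ) ∣ uVec i ⬝ᵥ (CfsgLib.Leech.gram *ᵥ uVec j) := by decide +kernel
  have hD : ∀ i, (4 : ℤ) ∣ uVec i ⬝ᵥ (CfsgLib.Leech.gram *ᵥ uVec i) := by decide +kernel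
  have hvv : ∀ S : Finset (Fin 12),
      (4 : ℤ) ∣ (∑ i ∈ S, s i • uVec i) ⬝ᵥ (CfsgLib.Leech.gram *ᵥ ∑ i ∈ S, s i • uVec i) := by
    intro S
    induction S using Finset.induction with
    | empty => simp
    | insert k S hk ih =>
      rw [Finset.sum_insert hk]
      set w := ∑ i ∈ S, s i • uVec i with hw
      have h2 : (2 : ℤ) ∣ uVec k ⬝ᵥ (CfsgLib.Leech.gram *ᵥ w) := by
        rw [hw, Matrix.mulVec_sum, dotProduct_sum]
        refine Finset.dvd_sum fun i _ => ?_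
        rw [Matrix.mulVec_smul, dotProduct_smul, smul_eq_mul]
        exact dvd_mul_of_dvd_right (hM k i) _
      have hwk : w ⬝ᵥ (CfsgLib.Leech.gram *ᵥ uVec k) = uVec k ⬝ᵥ (CfsgLib.Leech.gram *ᵥ w) := by
        exact gsym _ _
      have e' : (s k • uVec k + w) ⬝ᵥ (CfsgLib.Leech.gram *ᵥ (s k • uVec k + w))
          = s k * s k * (uVec k ⬝ᵥ (CfsgLib.Leech.gram *ᵥ uVec k)) + s k * (2 * (uVec k ⬝ᵥ (CfsgLib.Leech.gram *ᵥ w)))
            + w ⬝ᵥ (CfsgLib.Leech.gram *ᵥ w) := by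
        simp only [Matrix.mulVec_add, Matrix.mulVec_smul, dotProduct_add, add_dotProduct,
          smul_dotProduct, dotProduct_smul, smul_eq_mul, hwk]
        ring
      rw [e']
      refine dvd_add (dvd_add (dvd_mul_of_dvd_right (hD k) _) (dvd_mul_of_dvd_right ?_ _)) ih
      obtain ⟨m, hm⟩ := h2
      exact ⟨m, by rw [hm]; ring⟩
  rw [e]
  exact dvd_add (dvd_add (hvv _) (dvd_mul_right _ _)) (dvd_mul_right _ _)


/-- The Leech lattice of the definitions has an additive subgroup A containing twice the lattice, of index 2^12 in the lattice, all of whose vectors have squared length divisible by 32: the invariant quadratic form 'squared length over 16 modulo 2' on the lattice modulo twice the lattice (a 24-dimensional space over the field with two elements) vanishes on a 12-dimensional subspace, so it is of plus type. -/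
theorem result : ∃ A : AddSubgroup (Cfsg.GolayPt → ℤ), A ≤ Cfsg.leechLattice ∧ (∀ v ∈ Cfsg.leechLattice, (2 : ℤ) • v ∈ A) ∧ (A.addSubgroupOf Cfsg.leechLattice).index = 2 ^ 12 ∧ ∀ v ∈ A, (32 : ℤ) ∣ Cfsg.sqNorm v := by
  refine ⟨(check.ker).map CfsgLib.Leech.linComb, ?_, ?_, ?_, ?_⟩
  · rintro _ ⟨a, -, rfl⟩
    exact CfsgLib.Leech.linComb_mem a
  · intro v hv
    obtain ⟨a, rfl⟩ := CfsgLib.Leech.exists_linComb hv
    refine ⟨(2 : ℤ) • a, ?_, map_zsmul _ _ _⟩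
    show check ((2 : ℤ) • a) = 0
    rw [map_zsmul, two_zsmul]
    exact funext fun j => CharTwo.add_self_eq_zero _
  · let π : ↥Cfsg.leechLattice →+ (Fin 12 → ZMod 2) :=
      check.comp CfsgLib.Leech.coordEquiv.symm.toAddMonoidHom
    have e : ((check.ker).map CfsgLib.Leech.linComb).addSubgroupOf Cfsg.leechLattice = π.ker := by
      ext x
      constructor
      · rintro ⟨a, ha, he⟩
        have : CfsgLib.Leech.coordEquiv.symm x = a := by
          rw [AddEquiv.symm_apply_eq]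
          exact Subtype.ext (by rw [CfsgLib.Leech.coordEquiv_coe]; exact he.symm)
        show check (CfsgLib.Leech.coordEquiv.symm x) = 0
        rw [this]
        exact ha
      · intro hx
        refine ⟨CfsgLib.Leech.coordEquiv.symm x, hx, ?_⟩
        rw [← CfsgLib.Leech.coordEquiv_coe, AddEquiv.apply_symm_apply]
        rfl
    have hπ : Function.Surjective π := fun f => by
      obtain ⟨a, ha⟩ := check_surjective f
      exact ⟨CfsgLib.Leech.coordEquiv a, by simp [π, ha]⟩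
    rw [e, AddSubgroup.index_ker, AddMonoidHom.range_eq_top.2 hπ]
    simp [Nat.card_eq_fintype_card]
  · rintro _ ⟨a, ha, rfl⟩
    rw [CfsgLib.Leech.sqNorm_linComb]
    obtain ⟨m, hm⟩ := singular ha
    exact ⟨m, by rw [hm]; ring⟩

end Cfsg.Agent.S5553
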