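import Cfsg.Statements.S5555
import Cfsg.Agent.Transpositions.SUThreeTwo
import Cfsg.Agent.PLocal.Cores

set_option autoImplicit false
open Cfsg

namespace Cfsg.Agent.S5555

theorem card_sup_dvd {G : Type*} [Group G] [Finite G] (A S : Subgroup G)
    (h : S ≤ Subgroup.normalizer (A : Set G)) :
    Nat.card ↥(A ⊔ S) ∣ Nat.card A * Nat.card S := by
  have h1 : Nat.card A * A.relIndex (A ⊔ S) = Nat.card ↥(A ⊔ S) := by
    rw [← Subgroup.relIndex_bot_left, Subgroup.relIndex_mul_relIndex _ _ _ bot_le le_sup_left,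
      Subgroup.relIndex_bot_left]
  rw [← h1]
  refine mul_dvd_mul_left _ ?_
  have h2 : A.relIndex (A ⊔ S) = A.relIndex S := by
    have hA : A ≤ Subgroup.normalizer (A : Set G) := Subgroup.le_normalizer
    have hn : (A.subgroupOf (Subgroup.normalizer (A : Set G))).Normal :=
      Subgroup.normal_subgroupOf_of_le_normalizer le_rfl
    rw [sup_comm, ← Subgroup.relIndex_subgroupOf (sup_le h hA), ← Subgroup.relIndex_subgroupOf h,
      Subgroup.subgroupOf_sup h hA, Subgroup.relIndex_sup_right]
  rw [h2]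
  exact Subgroup.index_dvd_card _

theorem card_zpowers_dvd {G : Type*} [Group G] {x : G} {n : ℕ} (h : x ^ n = 1) :
    Nat.card ↥(Subgroup.zpowers x) ∣ n := by
  rw [Nat.card_zpowers]; exact orderOf_dvd_of_pow_eq_one h

theorem zpowers_le_normalizer {G : Type*} [Group G] [Finite G] {A : Subgroup G} {g : G}
    (S : Set G) (hA : A = Subgroup.closure S) (h : ∀ x ∈ S, g * x * g⁻¹ ∈ A) :
    Subgroup.zpowers g ≤ Subgroup.normalizer (A : Set G) := by
  rw [Subgroup.zpowers_le]
  have hle : A.map (MulAut.conj g).toMonoidHom ≤ A := by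
    rw [hA, MonoidHom.map_closure, Subgroup.closure_le]
    rintro _ ⟨x, hx, rfl⟩
    rw [← hA]; simpa using h x hx
  have heq : A.map (MulAut.conj g).toMonoidHom = A :=
    Subgroup.eq_of_le_of_card_ge hle
      (Subgroup.card_map_of_injective (MulAut.conj g).injective).ge
  rw [Subgroup.mem_normalizer_iff]
  intro x
  conv_rhs => rw [SetLike.mem_coe.symm, ← heq]
  simp [Subgroup.mem_map]

/-- Three involutions with braid relations and one further relation of order three generate a
group of order dividing 54. -/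
theorem card_closure_three {G : Type*} [Group G] [Finite G] {a b c : G}
    (ha : a * a = 1) (hb : b * b = 1) (hc : c * c = 1)
    (hab : b * a * b = a * b * a) (hac : c * a * c = a * c * a) (hbc : b * c * b = c * b * c)
    (hx : (a * (b * c * b)) ^ 3 = 1) :
    Nat.card ↥(Subgroup.closure ({a, b, c} : Set G)) ∣ 54 := by
  have ib : b⁻¹ = b := inv_eq_of_mul_eq_one_right hb
  have ic : c⁻¹ = c := inv_eq_of_mul_eq_one_right hc
  have ia : a⁻¹ = a := inv_eq_of_mul_eq_one_right ha
  have ca : ∀ t : G, a * (a * t) = t := fun t => by rw [← mul_assoc, ha, one_mul]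
  have cb : ∀ t : G, b * (b * t) = t := fun t => by rw [← mul_assoc, hb, one_mul]
  have cc : ∀ t : G, c * (c * t) = t := fun t => by rw [← mul_assoc, hc, one_mul]
  set x := a * (b * c * b) with hxdef
  set u := c * x * c⁻¹ with hu
  set v := b * x * b⁻¹ with hv
  have eu : u = c * a * c * b := by
    rw [hu, hxdef, ic, hbc]; simp [mul_assoc, hc]
  have ev : v = b * a * b * c := by
    rw [hv, hxdef, ib]; simp [mul_assoc, hb]
  have bu : b * u * b⁻¹ = u⁻¹ := by
    rw [eu]; simp [mul_inv_rev, ia, ib, ic, mul_assoc, hb]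
  have cv : c * v * c⁻¹ = v⁻¹ := by
    rw [ev]; simp [mul_inv_rev, ia, ib, ic, mul_assoc, hc]
  have bv : b * v * b⁻¹ = x := by rw [hv, ib]; simp [mul_assoc, cb, hb]
  have cu : c * u * c⁻¹ = x := by rw [hu, ic]; simp [mul_assoc, cc, hc]
  have uv : u * v = x := by
    calc u * v = (c * a * c) * (a * (b * c)) := by rw [eu, ev]; simp [mul_assoc, cb]
      _ = a * (c * b * c) := by rw [hac]; simp [mul_assoc, ca]
      _ = x := by rw [hxdef, hbc]
  have vu : v * u = x := by
    calc v * u = (b * a * b) * (a * (c * b)) := by rw [eu, ev]; simp [mul_assoc, cc]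
      _ = x := by rw [hab, hxdef]; simp [mul_assoc, ca]
  have u3 : u ^ 3 = 1 := by rw [hu, conj_pow, hx]; group
  have v3 : v ^ 3 = 1 := by rw [hv, conj_pow, hx]; group
  set A := Subgroup.zpowers u ⊔ Subgroup.zpowers v with hA
  have hAc : A = Subgroup.closure {u, v} := by
    rw [hA, Subgroup.zpowers_eq_closure, Subgroup.zpowers_eq_closure, ← Subgroup.closure_union]
    congr 1
  have huA : u ∈ A := Subgroup.mem_sup_left (Subgroup.mem_zpowers u)
  have hvA : v ∈ A := Subgroup.mem_sup_right (Subgroup.mem_zpowers v)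
  have hxA : x ∈ A := uv ▸ A.mul_mem huA hvA
  set S := Subgroup.zpowers (b * c) ⊔ Subgroup.zpowers b with hS
  have bc3 : (b * c) ^ 3 = 1 := by
    have : (b * c) ^ 3 = (b * c * b) * (c * b * c) := by simp [pow_succ, mul_assoc]
    rw [this, ← hbc]; simp [mul_assoc, hb, hc, cb, cc]
  have cardS : Nat.card ↥S ∣ 6 := by
    refine (card_sup_dvd _ _ ?_).trans (show _ ∣ 3 * 2 from mul_dvd_mul (card_zpowers_dvd bc3)
      (card_zpowers_dvd (by rw [pow_two, hb])))
    refine zpowers_le_normalizer {b * c} (Subgroup.zpowers_eq_closure _) ?_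
    intro t ht
    rw [Set.mem_singleton_iff] at ht
    subst ht
    have : b * (b * c) * b⁻¹ = (b * c)⁻¹ := by simp [mul_inv_rev, ib, ic, mul_assoc, cb]
    rw [this]
    exact inv_mem (Subgroup.mem_zpowers _)
  have cardA : Nat.card ↥A ∣ 9 := by
    refine (card_sup_dvd _ _ ?_).trans (show _ ∣ 3 * 3 from
      mul_dvd_mul (card_zpowers_dvd u3) (card_zpowers_dvd v3))
    refine zpowers_le_normalizer {u} (Subgroup.zpowers_eq_closure _) ?_
    intro t ht
    rw [Set.mem_singleton_iff] at ht
    subst ht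
    rw [vu, ← uv, mul_inv_cancel_right]
    exact Subgroup.mem_zpowers _
  have hbS : b ∈ S := Subgroup.mem_sup_right (Subgroup.mem_zpowers b)
  have hcS : c ∈ S := by
    have : c = b * (b * c) := (cb c).symm
    rw [this]
    exact S.mul_mem hbS (Subgroup.mem_sup_left (Subgroup.mem_zpowers _))
  have nb : Subgroup.zpowers b ≤ Subgroup.normalizer (A : Set G) := by
    refine zpowers_le_normalizer {u, v} hAc ?_
    rintro t (rfl | rfl)
    · rw [bu]; exact inv_mem huA
    · rw [bv]; exact hxA
  have nc : Subgroup.zpowers c ≤ Subgroup.normalizer (A : Set G) := by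
    refine zpowers_le_normalizer {u, v} hAc ?_
    rintro t (rfl | rfl)
    · rw [cu]; exact hxA
    · rw [cv]; exact inv_mem hvA
  have hSn : S ≤ Subgroup.normalizer (A : Set G) := by
    refine sup_le (Subgroup.zpowers_le.2 ?_) nb
    exact mul_mem (nb (Subgroup.mem_zpowers b)) (nc (Subgroup.mem_zpowers c))
  have hle : Subgroup.closure ({a, b, c} : Set G) ≤ A ⊔ S := by
    rw [Subgroup.closure_le]
    rintro t (rfl | rfl | rfl)
    · have : t = x * (b * c * b) := by rw [hxdef]; simp [mul_assoc, cb, cc, hb]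
      rw [SetLike.mem_coe, this]
      exact mul_mem (Subgroup.mem_sup_left hxA)
        (Subgroup.mem_sup_right (mul_mem (mul_mem hbS hcS) hbS))
    · exact Subgroup.mem_sup_right hbS
    · exact Subgroup.mem_sup_right hcS
  exact (Subgroup.card_dvd_of_le hle).trans
    ((card_sup_dvd _ _ hSn).trans (show _ ∣ 9 * 6 from mul_dvd_mul cardA cardS))

/-- Let G be a finite group generated by a conjugacy class D of 3-transpositions, with trivial centre and with generalized Fitting subgroup F*(G) = O₂(G) (so the Fitting subgroup is O₂(G) too). If G/O₂(G) is isomorphic to the derived group of SU₃(2) (the group of order 54 generated by nine 3-transpositions), then O₂(G) has a complement in G. -/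
theorem result {G : Type*} [Group G] [Finite G] {D : Set G} (hD : Cfsg.IsThreeTranspositionClass D)
    (hZ : Subgroup.center G = ⊥) (hF : Cfsg.generalizedFittingSubgroup G = Cfsg.pCore 2 G)
    (hq : ∃ (F : Type) (_ : Field F) (_ : Fintype F), Fintype.card F = 4 ∧ Nonempty (G ⧸ Cfsg.pCore 2 G ≃* ↥(commutator ↥(Cfsg.SU 3 F 2)))) :
    ∃ K : Subgroup G, (Cfsg.pCore 2 G).IsComplement' K := by
  obtain ⟨F, _, _, hF4, ⟨e⟩⟩ := hq
  obtain ⟨P, hP27, hPprod, x₀, hx₀, y₀, hy₀, hxy₀⟩ :=
    CfsgLib.Transpositions.SUThreeTwo.derived_structure (F := F) hF4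
  obtain ⟨⟨hord, h3⟩, ⟨d₀, hd₀, hDcl⟩, hgen⟩ := hD
  have hN : (Cfsg.pCore 2 G).Normal := inferInstance
  set N := Cfsg.pCore 2 G with hNdef
  let φ : G →* ↥(commutator ↥(Cfsg.SU 3 F 2)) := e.toMonoidHom.comp (QuotientGroup.mk' N)
  have hsurj : Function.Surjective φ := e.surjective.comp (QuotientGroup.mk'_surjective N)
  have hker : φ.ker = N := by
    ext g
    simp [φ, MonoidHom.mem_ker, MulEquiv.map_eq_one_iff]
  have hsq : ∀ d ∈ D, d * d = 1 := fun d hd => by
    rw [← pow_two, ← hord d hd, pow_orderOf_eq_one]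
  have hconj : ∀ d ∈ D, ∀ g : G, g * d * g⁻¹ ∈ D := by
    intro d hd g
    rw [hDcl] at hd ⊢
    exact IsConj.trans hd (isConj_iff.2 ⟨g, rfl⟩)
  have hPfin : Finite ↥P := Nat.finite_of_card_ne_zero (by rw [hP27]; norm_num)
  -- images of the transpositions lie outside P
  have hne1 : ∀ d ∈ D, φ d ≠ 1 := by
    intro d hd h
    have hall : D ⊆ φ.ker := by
      intro f hf
      rw [hDcl] at hd hf
      obtain ⟨g, rfl⟩ := isConj_iff.1 ((IsConj.symm hd).trans hf)
      simp [MonoidHom.mem_ker, h]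
    have htop : φ.ker = ⊤ := top_le_iff.1 (hgen ▸ (Subgroup.closure_le _).2 hall)
    obtain ⟨g, rfl⟩ := hsurj x₀
    exact hxy₀ (by rw [MonoidHom.mem_ker.1 (htop ▸ Subgroup.mem_top g)]; simp)
  have hout : ∀ d ∈ D, φ d ∉ P := by
    intro d hd h
    apply hne1 d hd
    have h2 : (⟨φ d, h⟩ : ↥P) ^ 2 = 1 := by
      ext : 1; simp [pow_two, ← map_mul, hsq d hd]
    have hdvd := Nat.dvd_gcd (orderOf_dvd_of_pow_eq_one h2) (orderOf_dvd_natCard (⟨φ d, h⟩ : ↥P))
    rw [hP27] at hdvd
    have : (⟨φ d, h⟩ : ↥P) = 1 := orderOf_eq_one_iff.1 (by simpa using hdvd)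
    simpa using congrArg Subtype.val this
  have hord3 : ∀ d ∈ D, ∀ f ∈ D, φ d ≠ φ f → (d * f) ^ 3 = 1 := by
    intro d hd f hf hne
    refine (h3 d hd f hf).resolve_left fun h => hne ?_
    have hin : φ d * φ f ∈ P := hPprod _ _ (hout d hd) (hout f hf)
    have h2 : (⟨φ d * φ f, hin⟩ : ↥P) ^ 2 = 1 := by
      ext : 1; simp [← map_mul, ← map_pow, h]
    have hdvd := Nat.dvd_gcd (orderOf_dvd_of_pow_eq_one h2)
      (orderOf_dvd_natCard (⟨φ d * φ f, hin⟩ : ↥P))
    rw [hP27] at hdvd
    have : (⟨φ d * φ f, hin⟩ : ↥P) = 1 := orderOf_eq_one_iff.1 (by simpa using hdvd)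
    have hmul : φ d * φ f = 1 := by simpa using congrArg Subtype.val this
    calc φ d = φ d * φ (f * f) := by rw [hsq f hf, map_one, mul_one]
      _ = φ f := by rw [map_mul, ← mul_assoc, hmul, one_mul]
  have hbraid : ∀ d ∈ D, ∀ f ∈ D, φ d ≠ φ f → f * d * f = d * f * d := by
    intro d hd f hf hne
    have := hord3 d hd f hf hne
    have e1 : d * f * d * (f * d * f) = 1 := by rw [← this]; simp [pow_succ, mul_assoc]
    have e2 : d * f * d * (d * f * d) = 1 := by
      simp only [mul_assoc]
      rw [← mul_assoc d d, hsq d hd, one_mul, ← mul_assoc f f, hsq f hf, one_mul, hsq d hd]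
    exact mul_left_cancel (e1.trans e2.symm)
  -- the subgroup generated by the quotients of transpositions with a fixed one
  obtain ⟨a, ha⟩ : ∃ a, a ∈ D := ⟨d₀, hd₀⟩
  have hphia : φ a * φ a = 1 := by rw [← map_mul, hsq a ha, map_one]
  let T : Set ↥(commutator ↥(Cfsg.SU 3 F 2)) := {q | ∃ b ∈ D, q = φ a * φ b}
  obtain ⟨s₁, ⟨b, hb, rfl⟩, s₂, ⟨c, hc, rfl⟩, hs⟩ :
      ∃ s₁ ∈ T, ∃ s₂ ∈ T, s₁ * s₂ ≠ s₂ * s₁ := by
    by_contra h
    push Not at h
    have hTP : T ⊆ P := by
      rintro _ ⟨b, hb, rfl⟩; exact hPprod _ _ (hout a ha) (hout b hb)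
    set H := Subgroup.closure T with hH
    have hHP : H ≤ P := (Subgroup.closure_le _).2 hTP
    have hTinv : ∀ q ∈ T, φ a * q * φ a = q⁻¹ := by
      rintro _ ⟨b, hb, rfl⟩
      have hbi : (φ b)⁻¹ = φ b := inv_eq_of_mul_eq_one_right (by
        rw [← map_mul, hsq b hb, map_one])
      rw [mul_inv_rev, inv_eq_of_mul_eq_one_right hphia, hbi, ← mul_assoc, hphia, one_mul]
    have hHa : ∀ q ∈ H, φ a * q * φ a ∈ H := by
      intro q hq
      induction hq using Subgroup.closure_induction with
      | mem x hx => rw [hTinv x hx]; exact inv_mem (Subgroup.subset_closure hx)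
      | one => simp [hphia]
      | mul x y _ _ hx hy =>
        have : φ a * (x * y) * φ a = (φ a * x * φ a) * (φ a * y * φ a) := by
          simp only [mul_assoc]; rw [← mul_assoc (φ a) (φ a), hphia, one_mul]
        rw [this]; exact mul_mem hx hy
      | inv x _ hx =>
        have : φ a * x⁻¹ * φ a = (φ a * x * φ a)⁻¹ := by
          simp [mul_inv_rev, inv_eq_of_mul_eq_one_right hphia, mul_assoc]
        rw [this]; exact inv_mem hx
    have hall : ∀ g : G, φ g ∈ H ∨ φ a * φ g ∈ H := by
      intro g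
      have hg : g ∈ Subgroup.closure D := hgen ▸ Subgroup.mem_top g
      induction hg using Subgroup.closure_induction_left with
      | one => left; rw [map_one]; exact one_mem _
      | mul_left d hd y _ ih =>
        have hT : φ a * φ d ∈ H := Subgroup.subset_closure ⟨d, hd, rfl⟩
        rcases ih with h' | h'
        · right; rw [map_mul, ← mul_assoc]; exact mul_mem hT h'
        · left
          have : φ (d * y) = (φ a * (φ a * φ d) * φ a) * (φ a * φ y) := by
            rw [map_mul]
            simp only [← mul_assoc, hphia, one_mul]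
            rw [mul_assoc (φ d) (φ a), hphia, mul_one]
          rw [this]; exact mul_mem (hHa _ hT) h'
      | inv_mul_cancel d hd y _ ih =>
        rw [inv_eq_of_mul_eq_one_right (hsq d hd)]
        have hT : φ a * φ d ∈ H := Subgroup.subset_closure ⟨d, hd, rfl⟩
        rcases ih with h' | h'
        · right; rw [map_mul, ← mul_assoc]; exact mul_mem hT h'
        · left
          have : φ (d * y) = (φ a * (φ a * φ d) * φ a) * (φ a * φ y) := by
            rw [map_mul]
            simp only [← mul_assoc, hphia, one_mul]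
            rw [mul_assoc (φ d) (φ a), hphia, mul_one]
          rw [this]; exact mul_mem (hHa _ hT) h'
    have hPH : P ≤ H := by
      intro p hp
      obtain ⟨g, rfl⟩ := hsurj p
      refine (hall g).resolve_right fun h' => hout a ha ?_
      have := P.mul_mem (hHP h') (inv_mem hp)
      rwa [mul_inv_cancel_right] at this
    have hcomm : ∀ p ∈ H, ∀ q ∈ H, p * q = q * p := fun p hp q hq =>
      congrArg Subtype.val ((Subgroup.isMulCommutative_closure
        (fun x hx y hy => h x hx y hy)).is_comm.comm ⟨p, hp⟩ ⟨q, hq⟩)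
    exact hxy₀ (hcomm _ (hPH hx₀) _ (hPH hy₀))
  have hab : φ a ≠ φ b := fun h => hs (by rw [← h, hphia]; simp)
  have hac : φ a ≠ φ c := fun h => hs (by rw [← h, hphia]; simp)
  have hbc : φ b ≠ φ c := fun h => hs (by rw [h])
  have hphib : φ b * φ b = 1 := by rw [← map_mul, hsq b hb, map_one]
  have hsD : b * c * b ∈ D := by
    simpa [inv_eq_of_mul_eq_one_right (hsq b hb)] using hconj c hc b
  have has : φ a ≠ φ (b * c * b) := by
    intro h
    apply hs
    rw [h]
    have cb' : ∀ t, φ b * (φ b * t) = t := fun t => by rw [← mul_assoc, hphib, one_mul]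
    simp only [map_mul, mul_assoc, cb', hphib, mul_one]
  have hK := card_closure_three (hsq a ha) (hsq b hb) (hsq c hc) (hbraid a ha b hb hab)
    (hbraid a ha c hc hac) (hbraid c hc b hb (Ne.symm hbc)) (hord3 a ha _ hsD has)
  set K := Subgroup.closure ({a, b, c} : Set G) with hKdef
  refine ⟨K, ?_⟩
  have haK : a ∈ K := Subgroup.subset_closure (by simp)
  have hbK : b ∈ K := Subgroup.subset_closure (by simp)
  have hcK : c ∈ K := Subgroup.subset_closure (by simp)
  -- the image of K is everything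
  set R := P ⊓ K.map φ with hR
  have h1R : φ a * φ b ∈ R :=
    ⟨hPprod _ _ (hout a ha) (hout b hb), ⟨a * b, mul_mem haK hbK, map_mul _ _ _⟩⟩
  have h2R : φ a * φ c ∈ R :=
    ⟨hPprod _ _ (hout a ha) (hout c hc), ⟨a * c, mul_mem haK hcK, map_mul _ _ _⟩⟩
  have hRfin : Finite ↥R := Finite.of_injective (Subgroup.inclusion inf_le_left)
    (Subgroup.inclusion_injective _)
  have hRP : R = P := by
    refine Subgroup.eq_of_le_of_card_ge inf_le_left ?_
    by_contra hlt
    have hdvd : Nat.card ↥R ∣ 27 := hP27 ▸ Subgroup.card_dvd_of_le inf_le_left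
    obtain ⟨k, hk, hRk⟩ := (Nat.dvd_prime_pow Nat.prime_three).1
      (show Nat.card ↥R ∣ 3 ^ 3 by simpa using hdvd)
    rw [hP27] at hlt
    have hk2 : k ≤ 2 := by
      by_contra h
      have : k = 3 := by omega
      subst this; norm_num at hRk; omega
    have : Fact (Nat.Prime 3) := ⟨Nat.prime_three⟩
    have hcomm : ∀ p q : ↥R, p * q = q * p := by
      interval_cases k
      · have := (Nat.card_eq_one_iff_unique.1 hRk).1
        exact fun p q => Subsingleton.elim _ _
      · have := isCyclic_of_prime_card (show Nat.card ↥R = 3 by simpa using hRk)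
        exact fun p q => IsCyclic.commGroup.mul_comm p q
      · exact IsPGroup.commutative_of_card_eq_prime_sq hRk
    exact hs (congrArg Subtype.val (hcomm ⟨_, h1R⟩ ⟨_, h2R⟩))
  have himg : ∀ q, q ∈ K.map φ := by
    intro q
    by_cases hqP : q ∈ P
    · rw [← hRP] at hqP; exact hqP.2
    · have h1 : φ a * q ∈ K.map φ := by
        have := hPprod _ _ (hout a ha) hqP
        rw [← hRP] at this; exact this.2
      have h2 := mul_mem (Subgroup.mem_map_of_mem φ haK) h1
      rwa [← mul_assoc, hphia, one_mul] at h2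
  -- intersection with the kernel
  let ψ : ↥K →* ↥(commutator ↥(Cfsg.SU 3 F 2)) := φ.comp K.subtype
  have hψ : Function.Surjective ψ := fun q => by
    obtain ⟨k, hk, rfl⟩ := himg q; exact ⟨⟨k, hk⟩, rfl⟩
  have hkerψ : ψ.ker = N.subgroupOf K := by
    rw [← hker]; rfl
  have hpN : IsPGroup 2 ↥N := CfsgLib.PLocal.isPGroup_pCore 2 G
  have hpK : IsPGroup 2 ↥(N.subgroupOf K) := hpN.comap_subtype
  have : Fact (Nat.Prime 2) := ⟨Nat.prime_two⟩
  obtain ⟨k, hk⟩ := IsPGroup.iff_card.1 hpK
  have heven : 2 ∣ Nat.card ↥(commutator ↥(Cfsg.SU 3 F 2)) := by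
    have : orderOf (φ a) = 2 := orderOf_eq_prime (by rw [pow_two, hphia]) (hne1 a ha)
    have h := orderOf_dvd_natCard (φ a)
    rwa [this] at h
  have hcardK : Nat.card ↥K = 2 ^ k * Nat.card ↥(commutator ↥(Cfsg.SU 3 F 2)) := by
    rw [← hk, ← hkerψ, ← Nat.card_congr (QuotientGroup.quotientKerEquivOfSurjective ψ hψ).toEquiv,
      mul_comm, ← Subgroup.card_eq_card_quotient_mul_card_subgroup]
  have hk0 : k = 0 := by
    by_contra h
    have : 2 * 2 ∣ Nat.card ↥K :=
      hcardK ▸ mul_dvd_mul (dvd_pow_self 2 h) heven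
    have := this.trans hK
    omega
  apply Subgroup.isComplement'_of_disjoint_and_mul_eq_univ
  · rw [disjoint_iff, Subgroup.eq_bot_iff_forall]
    intro g hg
    have : N.subgroupOf K = ⊥ := Subgroup.card_eq_one.1 (by rw [hk, hk0, pow_zero])
    have hm : (⟨g, hg.2⟩ : ↥K) ∈ N.subgroupOf K := hg.1
    rw [this, Subgroup.mem_bot] at hm
    exact congrArg Subtype.val hm
  · rw [Set.eq_univ_iff_forall]
    intro g
    obtain ⟨k', hk', he⟩ := himg (φ g)
    refine ⟨g * k'⁻¹, ?_, k', hk', by simp⟩
    rw [SetLike.mem_coe, ← hker, MonoidHom.mem_ker, map_mul, map_inv, he, mul_inv_cancel]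

end Cfsg.Agent.S5555
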