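import Cfsg.Statements.S5556
import Cfsg.Agent.Transpositions.UnitaryFiveFixed
import Cfsg.Agent.PLocal.Cores

set_option autoImplicit false
open Cfsg

namespace Cfsg.Agent.S5556

/-- Let G be a finite group generated by a conjugacy class D of 3-transpositions, with trivial centre and with generalized Fitting subgroup F*(G) = O₂(G) (so the Fitting subgroup is O₂(G) too). If G/O₂(G) is isomorphic to SU₅(2), then O₂(G) is elementary abelian and has a complement in G. -/
theorem result {G : Type*} [Group G] [Finite G] {D : Set G} (hD : Cfsg.IsThreeTranspositionClass D)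
    (hZ : Subgroup.center G = ⊥) (hF : Cfsg.generalizedFittingSubgroup G = Cfsg.pCore 2 G)
    (hq : ∃ (F : Type) (_ : Field F) (_ : Fintype F), Fintype.card F = 4 ∧ Nonempty (G ⧸ Cfsg.pCore 2 G ≃* ↥(Cfsg.SU 5 F 2))) :
    Cfsg.IsElementaryAbelian 2 (Cfsg.pCore 2 G) ∧ ∃ K : Subgroup G, (Cfsg.pCore 2 G).IsComplement' K := by
  classical
  obtain ⟨F, hF₁, hF₂, hF, ⟨e⟩⟩ := hq
  obtain ⟨C, hC⟩ := CfsgLib.RepBounds.Unit.exists_conjField (F := F) 2 (by rw [hF]; norm_num)
  have hsu : CfsgLib.RepBounds.Unit.suG C (Fin 5) = Cfsg.SU 5 F 2 :=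
    hC ▸ CfsgLib.RepBounds.Unit.suG_fin_eq C 5
  let e₁ : G ⧸ Cfsg.pCore 2 G ≃* ↥(CfsgLib.RepBounds.Unit.suG C (Fin 5)) :=
    e.trans (MulEquiv.subgroupCongr hsu.symm)
  let σ : Fin 5 ≃ CfsgLib.Transpositions.UnitaryFive.I5 :=
    (Fintype.equivFinOfCardEq (by simp)).symm
  let r := CfsgLib.RepBounds.Unit.reindexHom C σ
  have hr : Function.Bijective r := by
    refine Function.bijective_iff_has_inverse.2
      ⟨CfsgLib.RepBounds.Unit.reindexHom C σ.symm, fun g => ?_, fun g => ?_⟩ <;>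
      refine CfsgLib.RepBounds.Unit.suG_ext C fun x => ?_ <;>
      simp only [r, CfsgLib.RepBounds.Unit.app_reindexHom] <;> simp [Function.comp_def]
  let π : G →* CfsgLib.RepBounds.Unit.suG C CfsgLib.Transpositions.UnitaryFive.I5 :=
    r.comp (e₁.toMonoidHom.comp (QuotientGroup.mk' (Cfsg.pCore 2 G)))
  have hπ : Function.Surjective π :=
    hr.2.comp (e₁.surjective.comp (QuotientGroup.mk'_surjective _))
  have hker : π.ker = Cfsg.pCore 2 G := by
    ext g
    simp only [π, MonoidHom.mem_ker, MonoidHom.comp_apply, map_eq_one_iff _ hr.1]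
    simp
  have h2 : IsPGroup 2 π.ker := hker ▸ CfsgLib.PLocal.isPGroup_pCore 2 G
  rw [← hker]
  exact ⟨CfsgLib.Transpositions.UnitaryFive.elementaryAbelian_ker C hC hD hZ π hπ h2,
    CfsgLib.Transpositions.UnitaryFiveFixed.exists_complement_ker C hC hD hZ π hπ h2⟩

end Cfsg.Agent.S5556
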