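import Cfsg.Statements.S5558
import Cfsg.Agent.TwoTranspClasses.Module
-- import your own Cfsg.Agent.* helpers here

set_option autoImplicit false
open Cfsg

namespace Cfsg.Agent.S5558

/-- Let G be a finite group generated by a conjugacy class D of 3-transpositions, with trivial centre and with generalized Fitting subgroup F*(G) = O₂(G) (so the Fitting subgroup is O₂(G) too). If moreover O₂(G) is elementary abelian, then D is the only conjugacy class of 3-transpositions generating G. -/
theorem result {G : Type*} [Group G] [Finite G] {D : Set G} (hD : Cfsg.IsThreeTranspositionClass D)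
    (hZ : Subgroup.center G = ⊥) (hF : Cfsg.generalizedFittingSubgroup G = Cfsg.pCore 2 G)
    (hV : Cfsg.IsElementaryAbelian 2 (Cfsg.pCore 2 G)) :
    ∀ E : Set G, Cfsg.IsThreeTranspositionClass E → E = D := by
  intro E hE
  have h := CfsgLib.TwoTranspClasses.class_subset hD hE hZ hF hV
  obtain ⟨e, he, hEe⟩ := hE.2.1
  refine Set.Subset.antisymm h fun d hd => ?_
  obtain ⟨g, rfl⟩ := CfsgLib.Transpositions.exists_conj_of_class hD (h he) hd
  exact (CfsgLib.Transpositions.isThreeTranspositionGroup_of_class hE).2.1 g e he

end Cfsg.Agent.S5558
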