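import Cfsg.Statements.S5559
import Cfsg.Agent.S1265
import Cfsg.Agent.GLFourTwo.FrattiniAction
import Cfsg.Agent.Transpositions.Basic
import Cfsg.Agent.Transpositions.SUThreeTwoRels
-- import your own Cfsg.Agent.* helpers here

set_option autoImplicit false
open Cfsg

namespace Cfsg.Agent.S5559

/-- An element of order prime to 2 acting trivially on the Frattini quotient of a self-centralising
2-core is trivial. -/
theorem eq_one_of_frattAct {H : Type*} [Group H] [Finite H]
    (hC : Subgroup.centralizer (Cfsg.pCore 2 H : Set H) ≤ Cfsg.pCore 2 H)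
    (x : H) (hx : CfsgLib.GLFourTwo.frattAct H x = 1) (hcop : (orderOf x).Coprime 2) : x = 1 := by
  haveI : Fact (Nat.Prime 2) := ⟨Nat.prime_two⟩
  have hP : IsPGroup 2 (pCore 2 H) := CfsgLib.PLocal.isPGroup_pCore 2 H
  have hn : Subgroup.zpowers x ≤ Subgroup.normalizer (pCore 2 H : Set H) :=
    le_top.trans_eq (Subgroup.normalizer_eq_top (pCore 2 H)).symm
  have hcop' : (Nat.card (Subgroup.zpowers x)).Coprime (Nat.card (frattini ↥(pCore 2 H))) := by
    rw [Nat.card_zpowers]
    obtain ⟨n, hn⟩ := IsPGroup.iff_card.mp (hP.to_subgroup (frattini ↥(pCore 2 H)))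
    rw [hn]
    exact hcop.pow_right n
  have hsub : ⁅pCore 2 H, Subgroup.zpowers x⁆ ≤
      (frattini ↥(pCore 2 H)).map (pCore 2 H).subtype := by
    rw [Subgroup.commutator_le]
    intro k hk a ha
    have haker : a ∈ (CfsgLib.GLFourTwo.frattAct H).ker :=
      (Subgroup.zpowers_le.mpr (show x ∈ (CfsgLib.GLFourTwo.frattAct H).ker from hx)) ha
    have h1 := CfsgLib.GLFourTwo.frattAct_mk a (⟨k, hk⟩ : ↥(pCore 2 H))⁻¹
    rw [MonoidHom.mem_ker.mp haker, MulAut.one_apply] at h1
    refine ⟨⟨k, hk⟩ * MulAut.conjNormal a (⟨k, hk⟩ : ↥(pCore 2 H))⁻¹, ?_, ?_⟩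
    · rw [SetLike.mem_coe, ← QuotientGroup.eq_one_iff, QuotientGroup.mk_mul]
      erw [← h1]
      rw [QuotientGroup.mk_inv, mul_inv_cancel]
    · simp [commutatorElement_def, MulAut.conjNormal_apply, mul_assoc]
  have hxC := CfsgLib.Coprime.le_centralizer_of_commutator_le_frattini hn hcop' hsub
    (Subgroup.mem_zpowers x)
  obtain ⟨n, hn'⟩ := IsPGroup.iff_card.mp hP
  have hdvd : orderOf x ∣ 2 ^ n := hn' ▸ (pCore 2 H).orderOf_dvd_natCard (hC hxC)
  exact orderOf_eq_one_iff.mp (Nat.eq_one_of_dvd_coprimes (hcop.pow_right n) dvd_rfl hdvd)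

/-- Elements of the 2-core act trivially on its Frattini quotient. -/
theorem frattAct_pCore {H : Type*} [Group H] [Finite H] (x : H) (hx : x ∈ Cfsg.pCore 2 H) :
    CfsgLib.GLFourTwo.frattAct H x = 1 := by
  refine MulEquiv.ext fun q => ?_
  induction q using QuotientGroup.induction_on with
  | H k =>
  rw [CfsgLib.GLFourTwo.frattAct_mk, MulAut.one_apply]
  have : MulAut.conjNormal x k = (⟨x, hx⟩ : ↥(pCore 2 H)) * k * (⟨x, hx⟩ : ↥(pCore 2 H))⁻¹ :=
    Subtype.ext (by simp)
  rw [this, QuotientGroup.mk_mul, QuotientGroup.mk_mul, QuotientGroup.mk_inv,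
    CfsgLib.GLFourTwo.frattQuot_comm, inv_mul_cancel_left]

/-- A 2-group generated by a conjugacy class of an element of order dividing two has order at
most two. -/
theorem eq_one_or_eq {M : Type*} [Group M] [Finite M] (hM : IsPGroup 2 M) (m : M) (hm : m * m = 1)
    (hgen : Subgroup.closure (conjugatesOf m) = ⊤) : ∀ g : M, g = 1 ∨ g = m := by
  haveI : Fact (Nat.Prime 2) := ⟨Nat.prime_two⟩
  haveI := hM.isNilpotent
  have htop : Subgroup.zpowers m = ⊤ := by
    rcases eq_top_or_exists_le_coatom (Subgroup.zpowers m) with h | ⟨W, hW, hmW⟩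
    · exact h
    have hn : W.Normal := Subgroup.NormalizerCondition.normal_of_coatom W Group.normalizerCondition_of_isNilpotent hW
    refine absurd (eq_top_iff.2 (hgen ▸ (Subgroup.closure_le _).2 fun g hg => ?_)) hW.1
    obtain ⟨c, rfl⟩ := isConj_iff.1 (show IsConj m g from hg)
    exact hn.conj_mem m (Subgroup.zpowers_le.1 hmW) c
  intro g
  obtain ⟨i, rfl⟩ := Subgroup.mem_zpowers_iff.1 (htop ▸ Subgroup.mem_top g)
  rcases Int.even_or_odd i with ⟨j, rfl⟩ | ⟨j, rfl⟩
  · left; rw [← two_mul, zpow_mul, zpow_two, hm, one_zpow]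
  · right; rw [zpow_add, zpow_mul, zpow_two, hm, one_zpow, one_mul, zpow_one]

/-- Let H be a finite group generated by a conjugacy class E of 3-transpositions with at least two members, with F*(H) = O₂(H), and such that H/O₂(H) has a normal Sylow 3-subgroup of 2-power index (that is, H = O_{2,3,2}(H)). Then H/O₂(H) is isomorphic to the symmetric group of degree 3 or to the derived group of SU₃(2) (of order 54). -/
theorem result {H : Type*} [Group H] [Finite H] {E : Set H} (hE : Cfsg.IsThreeTranspositionClass E)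
    (hE2 : ∃ a ∈ E, ∃ b ∈ E, a ≠ b) (hF : Cfsg.generalizedFittingSubgroup H = Cfsg.pCore 2 H)
    (h232 : ∃ P : Sylow 3 (H ⧸ Cfsg.pCore 2 H), (P : Subgroup (H ⧸ Cfsg.pCore 2 H)).Normal ∧
      ∃ k : ℕ, (P : Subgroup (H ⧸ Cfsg.pCore 2 H)).index = 2 ^ k) :
    Nonempty (H ⧸ Cfsg.pCore 2 H ≃* Equiv.Perm (Fin 3)) ∨
      ∃ (F : Type) (_ : Field F) (_ : Fintype F), Fintype.card F = 4 ∧
        Nonempty (H ⧸ Cfsg.pCore 2 H ≃* ↥(commutator ↥(Cfsg.SU 3 F 2))) := by
  classical
  haveI : Fact (Nat.Prime 2) := ⟨Nat.prime_two⟩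
  haveI : Fact (Nat.Prime 3) := ⟨Nat.prime_three⟩
  obtain ⟨hD, ⟨d, hd, hEd⟩, hgen⟩ := hE
  obtain ⟨Ps, hPn, k, hk⟩ := h232
  set Q := Cfsg.pCore 2 H with hQdef
  have hQp : IsPGroup 2 Q := CfsgLib.PLocal.isPGroup_pCore 2 H
  have hC : Subgroup.centralizer (Q : Set H) ≤ Q := by
    have := @Cfsg.Agent.S1265.result H _ _
    rwa [hF] at this
  set π := QuotientGroup.mk' Q with hπ
  have πs : Function.Surjective π := QuotientGroup.mk'_surjective Q
  set P : Subgroup (H ⧸ Q) := (Ps : Subgroup (H ⧸ Q)) with hPdef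
  haveI : P.Normal := hPn
  have hP3 : IsPGroup 3 P := Ps.isPGroup'
  have hclass : ∀ e ∈ E, ∀ g : H, g * e * g⁻¹ ∈ E := fun e he g => by
    rw [hEd] at he ⊢
    exact IsConj.trans he (isConj_iff.2 ⟨g, rfl⟩)
  set t := π d with ht
  have htt : t * t = 1 := by rw [ht, ← map_mul, CfsgLib.Transpositions.sq hD hd, map_one]
  have hconj : ∀ e ∈ E, IsConj t (π e) := fun e he => by
    rw [hEd] at he; exact π.map_isConj he
  have hgenK : Subgroup.closure (π '' E) = ⊤ := by
    rw [← MonoidHom.map_closure, hgen, Subgroup.map_top_of_surjective π πs]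
  -- the quotient by `P` has order two
  have hM : IsPGroup 2 ((H ⧸ Q) ⧸ P) := IsPGroup.of_card (n := k) hk
  set σ := QuotientGroup.mk' P with hσ
  have σs : Function.Surjective σ := QuotientGroup.mk'_surjective P
  have hgenM : Subgroup.closure (conjugatesOf (σ t)) = ⊤ := by
    refine eq_top_iff.2 ?_
    rw [← Subgroup.map_top_of_surjective σ σs, ← hgenK, MonoidHom.map_closure]
    refine (Subgroup.closure_le _).2 ?_
    rintro _ ⟨_, ⟨e, he, rfl⟩, rfl⟩
    exact Subgroup.subset_closure (σ.map_isConj (hconj e he))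
  have hMcases : ∀ g, g = 1 ∨ g = σ t :=
    eq_one_or_eq hM (σ t) (by rw [← map_mul, htt, map_one]) hgenM
  have htP : t ∉ P := by
    intro h
    obtain ⟨j, hj⟩ := hP3 ⟨t, h⟩
    have ht1 : t = 1 := (pow_eq_one_iff_of_coprime
      (Nat.Coprime.pow_right j (by norm_num : Nat.Coprime 2 3))).1
      ⟨by rw [pow_two]; exact htt, congrArg Subtype.val hj⟩
    have hall : E ⊆ Q := fun e he => (QuotientGroup.eq_one_iff e).1 (by
      obtain ⟨c, hc⟩ := isConj_iff.1 (hconj e he)
      show π e = 1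
      rw [← hc, ht1]; simp)
    have hH : IsPGroup 2 H := by
      have hQ : Q = ⊤ := eq_top_iff.2 (hgen ▸ (Subgroup.closure_le _).2 hall)
      rw [hQ] at hQp
      exact hQp.of_equiv Subgroup.topEquiv
    have hcases := eq_one_or_eq hH d (CfsgLib.Transpositions.sq hD hd) (hEd ▸ hgen)
    obtain ⟨a, ha, b, hb, hab⟩ := hE2
    exact hab (((hcases a).resolve_left (CfsgLib.Transpositions.ne_one hD ha)).trans
      ((hcases b).resolve_left (CfsgLib.Transpositions.ne_one hD hb)).symm)
  have hidx : P.index = 2 := by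
    refine Subgroup.index_eq_two_iff.2 ⟨t, fun b => ?_⟩
    rcases hMcases (σ b) with h | h
    · have hb : b ∈ P := (QuotientGroup.eq_one_iff b).1 h
      exact Or.inr ⟨hb, fun h' => htP ((P.mul_mem_cancel_left hb).1 h')⟩
    · refine Or.inl ⟨(QuotientGroup.eq_one_iff _).1 (?_ : σ (b * t) = 1), fun hb => htP ?_⟩
      · rw [map_mul, h, ← map_mul, htt, map_one]
      · exact (QuotientGroup.eq_one_iff t).1 (h.symm.trans ((QuotientGroup.eq_one_iff b).2 hb))
  have cover : ∀ g, g ∈ P ∨ t * g ∈ P := fun g => by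
    by_cases hg : g ∈ P
    · exact Or.inl hg
    · exact Or.inr ((Subgroup.mul_mem_iff_of_index_two hidx).2 ⟨fun h => absurd h htP, fun h => absurd h hg⟩)
  -- inverted elements of `P` are products of two transpositions
  have hrep : ∀ u ∈ P, t * u * t = u⁻¹ → ∃ e ∈ E, π (d * e) = u := by
    intro u hu iu
    obtain ⟨j, hj⟩ := hP3 ⟨u, hu⟩
    have hj' : u ^ 3 ^ j = 1 := congrArg Subtype.val hj
    obtain ⟨i, hi⟩ : Odd (3 ^ j) := Odd.pow (by decide)
    set r := u ^ (i + 1) with hr
    have hrr : r * r = u := by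
      rw [hr, ← pow_add, show i + 1 + (i + 1) = 3 ^ j + 1 by omega, pow_add, hj', one_mul, pow_one]
    have ir : r⁻¹ = t * r * t := by
      have tinv : t⁻¹ = t := inv_eq_of_mul_eq_one_right htt
      rw [hr, ← inv_pow, ← iu]
      conv_lhs => arg 1; arg 2; rw [← tinv]
      rw [conj_pow, tinv]
    obtain ⟨c, hc⟩ := πs r
    refine ⟨c⁻¹ * d * c, by simpa using hclass d hd c⁻¹, ?_⟩
    rw [map_mul, map_mul, map_mul, map_inv, hc, ← ht, ir]
    calc t * (t * r * t * t * r) = t * t * r * (t * t) * r := by simp [mul_assoc]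
      _ = u := by rw [htt, one_mul, mul_one, hrr]
  have hx3 : ∀ e ∈ E, π (d * e) ∈ P → π (d * e) ≠ 1 → (d * e) ^ 3 = 1 := by
    intro e he hP h1
    refine (hD.2 d hd e he).resolve_left fun h2 => ?_
    obtain ⟨j, hj⟩ := hP3 ⟨_, hP⟩
    exact h1 ((pow_eq_one_iff_of_coprime
      (Nat.Coprime.pow_right j (by norm_num : Nat.Coprime 2 3))).1
      ⟨by rw [← map_pow, h2, map_one], congrArg Subtype.val hj⟩)
  let ρ := QuotientGroup.lift Q (CfsgLib.GLFourTwo.frattAct H)
    (fun x hx => MonoidHom.mem_ker.2 (frattAct_pCore x hx))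
  have hρ : ∀ h : H, ρ (π h) = CfsgLib.GLFourTwo.frattAct H h := fun h => rfl
  have S : CfsgLib.Transpositions.ThreeQuotient.Setup P t ρ := by
    refine ⟨CfsgLib.GLFourTwo.frattQuot_comm, fun a => by
      rw [← pow_two]; exact CfsgLib.GLFourTwo.frattQuot_sq a, htt, hPn, cover, ?_, ?_, ?_, ?_⟩
    · -- generation
      set J := Subgroup.closure {u | u ∈ P ∧ t * u * t = u⁻¹} with hJ
      have key : ∀ g, (g ∈ P → g ∈ J) ∧ (g ∉ P → t * g ∈ J) := by
        intro g
        have hg : g ∈ Subgroup.closure (π '' E) := hgenK ▸ Subgroup.mem_top g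
        have step : ∀ e ∈ E, ∀ g, ((g ∈ P → g ∈ J) ∧ (g ∉ P → t * g ∈ J)) →
            ((π e * g ∈ P → π e * g ∈ J) ∧ (π e * g ∉ P → t * (π e * g) ∈ J)) := by
          intro e he g ⟨h1, h2⟩
          have heP : π e ∉ P := fun h => htP (by
            obtain ⟨c, hc⟩ := isConj_iff.1 (hconj e he)
            have := hPn.conj_mem _ h c⁻¹
            rwa [← hc, show c⁻¹ * (c * t * c⁻¹) * c⁻¹⁻¹ = t by group] at this)
          set u := t * π e with hu
          have uP : u ∈ P := (Subgroup.mul_mem_iff_of_index_two hidx).2 (iff_of_false htP heP)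
          have ee : π e * π e = 1 := by rw [← map_mul, CfsgLib.Transpositions.sq hD he, map_one]
          have iu : t * u * t = u⁻¹ := by
            refine eq_inv_of_mul_eq_one_left ?_
            calc t * u * t * u = t * t * π e * (t * t) * π e := by simp [hu, mul_assoc]
              _ = 1 := by rw [htt, one_mul, mul_one, ee]
          have uJ : u ∈ J := Subgroup.subset_closure ⟨uP, iu⟩
          refine ⟨fun hin => ?_, fun hout => ?_⟩
          · have hg' : g ∉ P := fun h => heP ((P.mul_mem_cancel_right h).1 hin)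
            have e2 : π e * g = u⁻¹ * (t * g) := by
              rw [← iu, hu]; simp [mul_assoc, ← mul_assoc t t, htt]
            rw [e2]; exact J.mul_mem (J.inv_mem uJ) (h2 hg')
          · have hg' : g ∈ P := by
              by_contra h
              exact hout ((Subgroup.mul_mem_iff_of_index_two hidx).2 (iff_of_false heP h))
            rw [← mul_assoc]; exact J.mul_mem uJ (h1 hg')
        induction hg using Subgroup.closure_induction_left with
        | one => exact ⟨fun _ => J.one_mem, fun h => absurd P.one_mem h⟩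
        | mul_left s hs g _ ih => obtain ⟨e, he, rfl⟩ := hs; exact step e he g ih
        | inv_mul_cancel s hs g _ ih =>
          obtain ⟨e, he, rfl⟩ := hs
          rw [← map_inv, CfsgLib.Transpositions.inv_eq hD he]; exact step e he g ih
      exact fun g hg => (key g).1 hg
    · intro u hu iu
      obtain ⟨e, he, rfl⟩ := hrep u hu iu
      by_cases h1 : π (d * e) = 1
      · rw [h1, one_pow]
      · rw [← map_pow, hx3 e he hu h1, map_one]
    · intro u hu iu u1 v hv
      obtain ⟨e, he, rfl⟩ := hrep u hu iu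
      have x3 := hx3 e he hu u1
      induction v using QuotientGroup.induction_on with
      | H q =>
      set x := d * e with hx
      set wH : H := (q : H) * d * (q : H)⁻¹ * d⁻¹ with hwH
      have wQ : wH ∈ Q := by
        rw [hwH, mul_assoc (q : H) d, mul_assoc (q : H)]
        exact Q.mul_mem q.2 ((inferInstance : Q.Normal).conj_mem _ (Q.inv_mem q.2) d)
      have hπw : π (wH * x) = π x := by
        rw [map_mul, show π wH = 1 from (QuotientGroup.eq_one_iff _).2 wQ, one_mul]
      have hde : (q : H) * d * (q : H)⁻¹ * e = wH * x := by simp [hwH, hx, mul_assoc]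
      have hd' := hclass d hd (q : H)
      have h3 : (wH * x) ^ 3 = 1 := by
        rw [← hde]
        refine (hD.2 _ hd' e he).resolve_left fun h2 => ?_
        obtain ⟨j, hj⟩ := hP3 ⟨_, hu⟩
        refine u1 ((pow_eq_one_iff_of_coprime
          (Nat.Coprime.pow_right j (by norm_num : Nat.Coprime 2 3))).1
          ⟨?_, congrArg Subtype.val hj⟩)
        rw [← hπw, ← hde, ← map_pow, h2, map_one]
      have hprod : wH * (x * wH * x⁻¹) * (x * (x * wH * x⁻¹) * x⁻¹) = 1 := by
        calc wH * (x * wH * x⁻¹) * (x * (x * wH * x⁻¹) * x⁻¹)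
            = (wH * x) ^ 3 * (x ^ 3)⁻¹ := by simp [pow_succ, mul_assoc]
          _ = 1 := by rw [h3, x3, inv_one, mul_one]
      set w : ↥Q := ⟨wH, wQ⟩ with hw
      have hW : (w : ↥Q ⧸ frattini ↥Q) * ρ (π x) w * ρ (π x) (ρ (π x) w) = 1 := by
        rw [hρ, CfsgLib.GLFourTwo.frattAct_mk, CfsgLib.GLFourTwo.frattAct_mk,
          ← QuotientGroup.mk_mul, ← QuotientGroup.mk_mul, ← QuotientGroup.mk_one]
        congr 1
        exact Subtype.ext hprod
      have hwv : (w : ↥Q ⧸ frattini ↥Q) = (q : ↥Q ⧸ frattini ↥Q) *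
          (ρ t (q : ↥Q ⧸ frattini ↥Q))⁻¹ := by
        rw [ht, hρ, CfsgLib.GLFourTwo.frattAct_mk, ← QuotientGroup.mk_inv, ← QuotientGroup.mk_mul]
        congr 1
        exact Subtype.ext (by simp [hw, hwH, mul_assoc])
      have hfix : ρ (π x) (ρ t (q : ↥Q ⧸ frattini ↥Q)) = ρ t (q : ↥Q ⧸ frattini ↥Q) := by
        have e2 : ρ (π x)⁻¹ (q : ↥Q ⧸ frattini ↥Q) = (q : ↥Q ⧸ frattini ↥Q) := by
          conv_lhs => arg 2; rw [← hv]
          rw [← MulAut.mul_apply, ← map_mul, inv_mul_cancel, map_one]; rfl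
        have e3 : π x * t = t * (π x)⁻¹ := by
          rw [← iu]; simp [mul_assoc, ← mul_assoc t t, htt]
        rw [← MulAut.mul_apply, ← map_mul, e3, map_mul, MulAut.mul_apply, e2]
      rw [hwv, map_mul, map_inv, hv, hfix, map_mul, map_inv, hv, hfix] at hW
      set a := (q : ↥Q ⧸ frattini ↥Q) * (ρ t (q : ↥Q ⧸ frattini ↥Q))⁻¹ with ha
      rw [← pow_two, CfsgLib.GLFourTwo.frattQuot_sq, one_mul] at hW
      exact (mul_inv_eq_one.1 hW).symm
    · intro u hu hu1
      obtain ⟨c, rfl⟩ := πs u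
      obtain ⟨j, hj⟩ := hP3 ⟨_, hu⟩
      have hj' : π c ^ 3 ^ j = 1 := congrArg Subtype.val hj
      -- pass to the part of `c` of order prime to two
      have hcQ : c ^ 3 ^ j ∈ Q := (QuotientGroup.eq_one_iff _).1 (by
        show π (c ^ 3 ^ j) = 1; rw [map_pow, hj'])
      obtain ⟨i, hi⟩ := hQp ⟨_, hcQ⟩
      have hi' : (c ^ 2 ^ i) ^ 3 ^ j = 1 := by
        rw [← pow_mul, mul_comm, pow_mul]; exact congrArg Subtype.val hi
      have hc1 : c ^ 2 ^ i = 1 := by
        refine eq_one_of_frattAct hC _ ?_ ?_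
        · rw [map_pow, ← hρ, hu1, one_pow]
        · exact Nat.Coprime.coprime_dvd_left (orderOf_dvd_of_pow_eq_one hi')
            (Nat.Coprime.pow_left _ (by norm_num))
      refine (pow_eq_one_iff_of_coprime (Nat.Coprime.pow i j
        (by norm_num : Nat.Coprime 2 3))).1 ⟨?_, hj'⟩
      rw [← map_pow, hc1, map_one]
  have hne : P ≠ ⊥ := by
    intro h
    have hK : IsPGroup 2 (H ⧸ Q) := by
      refine IsPGroup.of_card (n := 1) ?_
      rw [← P.card_mul_index, hidx, h, Subgroup.card_bot]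
      rfl
    -- the preimage of a 2-group quotient is the 2-core
    have hH : IsPGroup 2 H := by
      obtain ⟨a, ha⟩ := IsPGroup.iff_card.1 hQp
      obtain ⟨b, hb⟩ := IsPGroup.iff_card.1 hK
      exact IsPGroup.of_card (n := b + a) (by
        rw [Subgroup.card_eq_card_quotient_mul_card_subgroup Q, hb, ha, pow_add])
    apply htP
    have : d ∈ Q := CfsgLib.PLocal.le_pCore (N := (⊤ : Subgroup H))
      (hH.of_equiv Subgroup.topEquiv.symm) (Subgroup.mem_top d)
    have h1 : t = 1 := (QuotientGroup.eq_one_iff d).2 this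
    rw [h1]; exact P.one_mem
  have hKcard : Nat.card (H ⧸ Q) = Nat.card P * 2 := by rw [← P.card_mul_index, hidx]
  rcases S.structure hP3 hne with ⟨x, hx, ix, ox, cP⟩ | ⟨x, y, z, R, htop, cP⟩
  · left
    have ot : orderOf t = 2 :=
      orderOf_eq_prime (by rw [pow_two]; exact htt) fun h => htP (h ▸ P.one_mem)
    exact CfsgLib.FgsSix.nonempty_mulEquiv_perm_three (by rw [hKcard, cP]) ox ot
      (by rw [inv_eq_of_mul_eq_one_right htt]; exact ix)
  · right
    obtain ⟨F, _, _, hF4⟩ : ∃ (F : Type) (_ : Field F) (_ : Fintype F), Fintype.card F = 4 :=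
      ⟨GaloisField 2 2, inferInstance, Fintype.ofFinite _, by
        rw [@Fintype.card_eq_nat_card _ (Fintype.ofFinite _), GaloisField.card 2 2 (by norm_num)]
        norm_num⟩
    refine ⟨F, inferInstance, inferInstance, hF4, ?_⟩
    obtain ⟨t', x', y', z', R', htop', hc'⟩ :=
      CfsgLib.Transpositions.SUThreeTwoRels.exists_rels hF4
    haveI : Finite ↥(commutator ↥(Cfsg.SU 3 F 2)) := Nat.finite_of_card_ne_zero (by omega)
    exact R.nonempty_mulEquiv R' htop htop' (by rw [hKcard, cP]) hc'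

end Cfsg.Agent.S5559
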