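import Cfsg.Statements.S5562
-- import your own Cfsg.Agent.* helpers here

set_option autoImplicit false
open Cfsg

namespace Cfsg.Agent.S5562

variable {G : Type*} [Group G]

theorem conj_sq {d a : G} (hd : orderOf d = 2) (ha : a ∈ conjugatesOf d) : a * a = 1 := by
  obtain ⟨g, rfl⟩ := isConj_iff.mp (show IsConj d a from ha)
  have h : d * d = 1 := by rw [← pow_two, ← hd, pow_orderOf_eq_one]
  rw [show g * d * g⁻¹ * (g * d * g⁻¹) = g * (d * d) * g⁻¹ by group, h]; group

theorem conj_mem {d a : G} (ha : a ∈ conjugatesOf d) (g : G) : g * a * g⁻¹ ∈ conjugatesOf d :=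
  show IsConj d (g * a * g⁻¹) from (show IsConj d a from ha).trans (isConj_iff.mpr ⟨g, rfl⟩)

/-- Let G be a finite group, d an involution of G whose conjugates pairwise have products of odd order, and x any involution of G. Then the conjugacy class of d is the disjoint union, over the conjugates a of d commuting with x, of the sets of conjugates of d commuting with ax: every conjugate of d commutes with ax for exactly one conjugate a of d that commutes with x. -/
theorem result {G : Type*} [Group G] [Finite G] (d : G) (hd : orderOf d = 2)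
    (hodd : ∀ a ∈ conjugatesOf d, ∀ b ∈ conjugatesOf d, Odd (orderOf (a * b)))
    (x : G) (hx : orderOf x = 2) :
    ∀ e ∈ conjugatesOf d,
      ∃! a : G, a ∈ conjugatesOf d ∧ Commute a x ∧ Commute e (a * x) := by
  intro e he
  have hee : e * e = 1 := conj_sq hd he
  have hei : e⁻¹ = e := inv_eq_of_mul_eq_one_right hee
  have hxx : x * x = 1 := by rw [← pow_two, ← hx, pow_orderOf_eq_one]
  have hxi : x⁻¹ = x := inv_eq_of_mul_eq_one_right hxx
  let f := x * e * x
  have hf : f ∈ conjugatesOf d := by
    have := conj_mem he x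
    rwa [hxi] at this
  have hff : f * f = 1 := conj_sq hd hf
  let r := e * f
  obtain ⟨k, hk⟩ := hodd e he f hf
  have hn : r ^ (2 * k + 1) = 1 := by rw [← hk]; exact pow_orderOf_eq_one _
  have here : ∀ m : ℕ, e * r ^ m * e = (r ^ m)⁻¹ := by
    intro m
    have h1 : e * r * e⁻¹ = r⁻¹ := by
      apply eq_inv_of_mul_eq_one_left
      have hfi : f⁻¹ = f := inv_eq_of_mul_eq_one_right hff
      simp only [r, hei]
      calc e * (e * f) * e * (e * f) = (e * e) * f * (e * e) * f := by group
        _ = 1 := by rw [hee, one_mul, mul_one, hff]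
    have h2 := conj_pow (a := e) (b := r) (i := m)
    rw [h1, inv_pow, hei] at h2
    exact h2.symm
  have hrk : (r ^ k)⁻¹ = r ^ (k + 1) := by
    apply inv_eq_of_mul_eq_one_right
    rw [← pow_add, show k + (k + 1) = 2 * k + 1 by omega, hn]
  let a := r ^ k * e
  have hmove : ∀ m : ℕ, e * r ^ m = (r ^ m)⁻¹ * e := fun m => by
    rw [← here m, mul_assoc, hee, mul_one]
  have haD : a ∈ conjugatesOf d := by
    have := conj_mem he (r ^ (k * (k + 1)))
    have e1 : r ^ (k * (k + 1)) * e * (r ^ (k * (k + 1)))⁻¹ = a := by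
      rw [mul_assoc, show e * (r ^ (k * (k + 1)))⁻¹ = r ^ (k * (k + 1)) * e by
        rw [← here (k * (k + 1))]; simp [← mul_assoc, hee], ← mul_assoc, ← pow_add,
        show k * (k + 1) + k * (k + 1) = (2 * k + 1) * k + k by ring, pow_add, pow_mul, hn,
        one_pow, one_mul]
    rwa [e1] at this
  have hxr : x * r * x⁻¹ = r⁻¹ := by
    simp only [r, f, hxi, mul_inv_rev, hei, mul_assoc, hxx, mul_one]
  have hef : f = r⁻¹ * e := by
    simp only [r]; rw [mul_inv_rev, hei, inv_eq_of_mul_eq_one_right hff, mul_assoc, hee, mul_one]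
  have hxa : x * a * x⁻¹ = a := by
    have h2 := conj_pow (a := x) (b := r) (i := k)
    rw [hxr, inv_pow] at h2
    calc x * a * x⁻¹ = (x * r ^ k * x⁻¹) * (x * e * x⁻¹) := by simp only [a]; group
      _ = (r ^ k)⁻¹ * f := by rw [← h2, hxi]
      _ = a := by
        rw [hef, ← mul_assoc, ← mul_inv_rev, show r * r ^ k = r ^ (k + 1) by rw [pow_succ'], ← hrk,
          inv_inv]
  have hax : a * x = x * a := by
    conv_lhs => rw [← hxa]
    rw [inv_mul_cancel_right]
  have hfx : f * x = x * e := by simp only [f]; rw [mul_assoc, hxx, mul_one]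
  have hea : e * a = a * f := by
    have h1 : e * a = (r ^ k)⁻¹ := by simp only [a]; rw [← mul_assoc, here]
    rw [h1, hrk]; simp only [a]
    rw [mul_assoc, show e * f = r from rfl, pow_succ]
  refine ⟨a, ⟨haD, hax, ?_⟩, ?_⟩
  · show e * (a * x) = a * x * e
    rw [← mul_assoc, hea, mul_assoc, hfx, ← mul_assoc]
  · rintro b ⟨hbD, hbx, hbe⟩
    have haa : a * a = 1 := conj_sq hd haD
    have hbb : b * b = 1 := conj_sq hd hbD
    have hai : a⁻¹ = a := inv_eq_of_mul_eq_one_right haa
    have hbi : b⁻¹ = b := inv_eq_of_mul_eq_one_right hbb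
    have heb : e * b = b * f := by
      apply mul_right_cancel (b := x)
      rw [mul_assoc, hbe.eq, mul_assoc b f x, hfx, ← mul_assoc]
    have hs : e * (a * b) = a * b * e := by
      have h3 : b * e = f * b := by
        calc b * e = b * e * (b * b) := by rw [hbb, mul_one]
          _ = b * (e * b) * b := by simp only [mul_assoc]
          _ = (b * b) * f * b := by rw [heb]; simp only [mul_assoc]
          _ = f * b := by rw [hbb, one_mul]
      calc e * (a * b) = a * (f * b) := by rw [← mul_assoc, hea, mul_assoc]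
        _ = a * b * e := by rw [← h3]; exact (mul_assoc a b e).symm
    set s := a * b with hsdef
    have has : a * s * a⁻¹ = s⁻¹ := by
      rw [hsdef, ← mul_assoc, haa, one_mul, hai, mul_inv_rev, hbi, hai]
    have hes : e * s * e⁻¹ = s := by rw [hs, mul_inv_cancel_right]
    have hc : (e * a) * s * (e * a)⁻¹ = s⁻¹ := by
      calc (e * a) * s * (e * a)⁻¹ = e * (a * s * a⁻¹) * e⁻¹ := by group
        _ = (e * s * e⁻¹)⁻¹ := by rw [has]; group
        _ = s⁻¹ := by rw [hes]
    have hpow : ∀ m : ℕ, (e * a) ^ (2 * m + 1) * s * ((e * a) ^ (2 * m + 1))⁻¹ = s⁻¹ := by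
      intro m
      induction m with
      | zero => simpa using hc
      | succ m ih =>
        rw [show 2 * (m + 1) + 1 = (2 * m + 1) + 2 by omega, pow_add _ (2 * m + 1) 2]
        generalize (e * a) ^ (2 * m + 1) = u at ih
        have hc2 : (e * a) ^ 2 * s * ((e * a) ^ 2)⁻¹ = s := by
          calc (e * a) ^ 2 * s * ((e * a) ^ 2)⁻¹
              = (e * a) * ((e * a) * s * (e * a)⁻¹) * (e * a)⁻¹ := by
                rw [pow_two, mul_inv_rev]; simp only [mul_assoc]
            _ = ((e * a) * s * (e * a)⁻¹)⁻¹ := by rw [conj_inv]; rw [hc]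
            _ = s := by rw [hc, inv_inv]
        calc u * (e * a) ^ 2 * s * (u * (e * a) ^ 2)⁻¹
            = u * ((e * a) ^ 2 * s * ((e * a) ^ 2)⁻¹) * u⁻¹ := by group
          _ = s⁻¹ := by rw [hc2, ih]
    obtain ⟨m, hm⟩ := hodd e he a haD
    have h2 := hpow m
    rw [← hm, pow_orderOf_eq_one, one_mul, inv_one, mul_one] at h2
    have hs2 : s ^ 2 = 1 := by rw [pow_two]; nth_rw 1 [h2]; exact inv_mul_cancel s
    have h12 : orderOf s ∣ 2 := orderOf_dvd_of_pow_eq_one hs2
    have hso : Odd (orderOf s) := hodd a haD b hbD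
    rcases (Nat.dvd_prime Nat.prime_two).mp h12 with h | h
    · have : a * b = 1 := orderOf_eq_one_iff.mp h
      rw [← inv_eq_of_mul_eq_one_right this, hai]
    · rw [h] at hso; exact absurd hso (by decide)

end Cfsg.Agent.S5562
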