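import Cfsg.Statements.S5588
import Cfsg.Agent.Y555Spider.Quot

set_option autoImplicit false
set_option maxRecDepth 100000
open Cfsg

namespace Cfsg.Agent.S5588

open CfsgLib.CosetEnum CfsgLib.Y555Spider

theorem arm1 : g 5 * (prodw g Z12)⁻¹ = 1 ∧ g 5 * (prodw g Z13)⁻¹ = 1 := by
  rw [Z13_eq_Z12, f1_eq]
  exact ⟨mul_inv_cancel z1, mul_inv_cancel z1⟩

theorem armPair (σ : G16 →* G16) (s : ℕ → ℕ)
    (hσ : ∀ w : List ℕ, (∀ x ∈ w, x < 16) → σ (prodw g w) = prodw g (w.map s)) :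
    g (s 5) * (prodw g (Z12.map s))⁻¹ = 1 ∧ g (s 5) * (prodw g (Z13.map s))⁻¹ = 1 := by
  have h5 : σ (g 5) = g (s 5) := by
    have h := hσ [5] (by simp)
    simpa [prodw] using h
  constructor
  · rw [← h5, ← hσ Z12 Z12_lt, ← map_inv, ← map_mul, arm1.1, map_one]
  · rw [← h5, ← hσ Z13 (by decide +kernel), ← map_inv, ← map_mul, arm1.2, map_one]

theorem mk_word (p : List ℕ) (w : FreeGroup Cfsg.Spor.Bimonster.Gen)
    (hw : w = (p.map fun x => FreeGroup.of (CfsgLib.Y555Spider.en x)).prod) (x : ℕ) :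
    PresentedGroup.mk (Cfsg.Spor.coxRelators Cfsg.Spor.Bimonster.edges ∪ {r' | r' ∈ CfsgLib.Y555Spider.extra})
      (FreeGroup.of (CfsgLib.Y555Spider.en x) * (w ^ 9)⁻¹) =
      g x * (prodw g (List.replicate 9 p).flatten)⁻¹ := by
  rw [prodw_replicate, map_mul, map_inv, map_pow, hw, map_list_prod, List.map_map]
  rfl

/-- In the group presented by the sixteen involutions of the Y₅₅₅ Coxeter diagram subject only to the Coxeter relations and the single spider relation (a b₁ c₁ a b₂ c₂ a b₃ c₃)^10 = 1, each of the further relators used in the definitions' presentation of the Bimonster (each end node equals the ninth power of the Coxeter element of a sub-diagram of type E₇) already holds. Equivalently, the Y₅₅₅ diagram with the spider relation alone presents the Bimonster. -/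
theorem result :
    ∀ r ∈ Cfsg.Spor.Bimonster.extra,
      (PresentedGroup.mk (Cfsg.Spor.coxRelators Cfsg.Spor.Bimonster.edges ∪ {r' | r' ∈ [(Cfsg.Spor.Bimonster.a * Cfsg.Spor.Bimonster.b1 * Cfsg.Spor.Bimonster.c1 * Cfsg.Spor.Bimonster.a * Cfsg.Spor.Bimonster.b2 * Cfsg.Spor.Bimonster.c2 * Cfsg.Spor.Bimonster.a * Cfsg.Spor.Bimonster.b3 * Cfsg.Spor.Bimonster.c3) ^ 10]}) r) = 1 := by
  obtain ⟨r1, hr1⟩ := exists_rot
  obtain ⟨t2, ht2⟩ := exists_tau
  have A1 := arm1
  have A2 := armPair r1 sg hr1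
  have A3 := armPair t2 (fun x => sg (sg x)) ht2
  intro r hr
  simp only [Cfsg.Spor.Bimonster.extra, List.mem_cons, List.not_mem_nil, or_false] at hr
  rcases hr with rfl | rfl | rfl | rfl | rfl | rfl | rfl
  · exact PresentedGroup.one_of_mem (Or.inr (List.mem_singleton.mpr rfl))
  · exact (mk_word [0, 1, 6, 11, 2, 7, 3] _ (by simp [CfsgLib.Y555Spider.en, mul_assoc]) 5).trans A1.1
  · exact (mk_word [0, 1, 11, 6, 2, 12, 3] _ (by simp [CfsgLib.Y555Spider.en, mul_assoc]) 5).trans A1.2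
  · exact (mk_word [0, 6, 1, 11, 7, 2, 8] _ (by simp [CfsgLib.Y555Spider.en, mul_assoc]) 10).trans A2.2
  · exact (mk_word [0, 6, 11, 1, 7, 12, 8] _ (by simp [CfsgLib.Y555Spider.en, mul_assoc]) 10).trans A2.1
  · exact (mk_word [0, 11, 1, 6, 12, 2, 13] _ (by simp [CfsgLib.Y555Spider.en, mul_assoc]) 15).trans A3.1
  · exact (mk_word [0, 11, 6, 1, 12, 7, 13] _ (by simp [CfsgLib.Y555Spider.en, mul_assoc]) 15).trans A3.2

end Cfsg.Agent.S5588
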