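import Cfsg.Statements.S5596
import Cfsg.Agent.LargeExtraspecial.Singular
-- import your own Cfsg.Agent.* helpers here

set_option autoImplicit false
open Cfsg

namespace Cfsg.Agent.S5596

/-- Setting: `z` is an involution of the finite group `G`; for each element `x`, `Q x` is the largest normal 2-subgroup of the centralizer of `x`; `Q z` is extraspecial and contains its own centralizer in `G`. A subgroup `U` is singular when it is elementary abelian, every non-identity element of `U` is conjugate to `z`, and any two non-identity elements `u`, `v` of `U` are orthogonal (`v ∈ Q u`). Write `QU` for the intersection of the `Q u` and `LU` for the join of the `Q u` over the non-identity `u` in `U`. If `U` is singular of order `2 ^ n` with `n ≥ 2`, then `U ≤ QU ≤ LU`, `LU` normalizes `U`, and `LU` induces on `U` its full automorphism group (the general linear group of dimension `n` over the field with two elements): every automorphism of `U` is conjugation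 by some element of `LU`. -/
theorem result {G : Type*} [Group G] [Finite G]
    (Q : G → Subgroup G)
    (hQ : ∀ x : G, Q x = (Cfsg.pCore 2 ↥(Subgroup.centralizer ({x} : Set G))).map (Subgroup.centralizer ({x} : Set G)).subtype)
    (z : G) (hz : orderOf z = 2) (hE : Cfsg.IsExtraspecial 2 ↥(Q z))
    (hC : Subgroup.centralizer ((Q z : Subgroup G) : Set G) ≤ Q z)
    (U : Subgroup G) (hU2 : ∀ u ∈ U, u * u = 1)
    (hS : ∀ u ∈ U, u ≠ 1 → ∃ g : G, g * z * g⁻¹ = u)
    (hO : ∀ u ∈ U, ∀ v ∈ U, u ≠ 1 → v ≠ 1 → v ∈ Q u)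
    (QU LU : Subgroup G) (hQU : QU = ⨅ u ∈ ((U : Set G) \ {1}), Q u) (hLU : LU = ⨆ u ∈ ((U : Set G) \ {1}), Q u)
    (n : ℕ) (hn : 2 ≤ n) (hcard : Nat.card ↥U = 2 ^ n) :
    U ≤ QU ∧ QU ≤ LU ∧ LU ≤ Subgroup.normalizer (U : Set G) ∧
      ∀ φ : ↥U ≃* ↥U, ∃ g ∈ LU, ∀ u : ↥U, g * (u : G) * g⁻¹ = ((φ u : ↥U) : G) := by
  have hL : ∀ u ∈ U, u ≠ 1 → CfsgLib.Singular.Large Q u :=
    fun u hu hne => CfsgLib.Singular.large_of_singular hQ hz hE hC hS hu hne
  have hUQ : ∀ u ∈ U, ∀ v ∈ U, u ≠ 1 → v ∈ Q u := by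
    intro u hu v hv hne
    by_cases hv1 : v = 1
    · subst hv1; exact (Q u).one_mem
    · exact hO u hu v hv hne hv1
  have hmemU : ∀ {u}, u ∈ ((U : Set G) \ {1}) ↔ u ∈ U ∧ u ≠ 1 := fun {u} => by
    simp [Set.mem_sdiff]
  subst hQU hLU
  have hle : ∀ u ∈ U, u ≠ 1 → Q u ≤ ⨆ u ∈ ((U : Set G) \ {1}), Q u := fun u hu hne =>
    le_iSup₂ (f := fun u _ => Q u) u (hmemU.mpr ⟨hu, hne⟩)
  obtain ⟨u0, hu0, hu0ne⟩ : ∃ u ∈ U, u ≠ 1 := by
    by_contra h
    push Not at h
    have : U = ⊥ := (Subgroup.eq_bot_iff_forall _).mpr h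
    rw [this, Subgroup.card_bot] at hcard
    exact absurd hcard (Nat.one_lt_two_pow (by omega)).ne
  have hnorm : (⨆ u ∈ ((U : Set G) \ {1}), Q u) ≤ Subgroup.normalizer (U : Set G) := by
    refine iSup₂_le fun u hu a ha => ?_
    obtain ⟨huU, hune⟩ := hmemU.mp hu
    have hLu := hL u huU hune
    have hconj : ∀ b ∈ Q u, ∀ v ∈ U, b * v * b⁻¹ ∈ U := by
      intro b hb v hv
      by_cases h : b * v = v * b
      · rwa [h, mul_inv_cancel_right]
      · rw [hLu.comm_inv hb (hUQ u huU v hv hune) h]; exact U.mul_mem hv huU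
    refine Subgroup.mem_normalizer_iff.mpr fun v => ⟨hconj a ha v, fun hv => ?_⟩
    have := hconj a⁻¹ ((Q u).inv_mem ha) _ hv
    rwa [show a⁻¹ * (a * v * a⁻¹) * a⁻¹⁻¹ = v by group] at this
  refine ⟨le_iInf₂ fun u hu v hv => hUQ u (hmemU.mp hu).1 v hv (hmemU.mp hu).2,
    (iInf₂_le (f := fun u _ => Q u) u0 (hmemU.mpr ⟨hu0, hu0ne⟩)).trans (hle u0 hu0 hu0ne),
    hnorm, ?_⟩
  intro φ
  -- subgroups on which `φ` is realised
  let Good : Subgroup ↥U → Prop := fun K =>
    ∃ g ∈ ⨆ u ∈ ((U : Set G) \ {1}), Q u, ∀ k ∈ K, g * (k : G) * g⁻¹ = ((φ k : ↥U) : G)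
  obtain ⟨K, ⟨g, hg, hgK⟩, hmax⟩ := (Set.toFinite {K : Subgroup ↥U | Good K}).exists_maximal
    ⟨⊥, 1, one_mem _, fun k hk => by rw [Subgroup.mem_bot.mp hk]; simp⟩
  refine ⟨g, hg, fun a => hgK a ?_⟩
  by_contra haK
  have hgn := hnorm hg
  have ha' : g * (a : G) * g⁻¹ ∈ U := (Subgroup.mem_normalizer_iff.mp hgn _).mp a.2
  -- the image of `K`
  let P : Subgroup G := K.map (U.subtype.comp φ.toMonoidHom)
  have hPU : P ≤ U := by
    rintro _ ⟨k, -, rfl⟩
    exact (φ k).2
  have haP : g * (a : G) * g⁻¹ ∉ P := by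
    rintro ⟨k, hk, e⟩
    have e' : ((φ k : ↥U) : G) = g * (a : G) * g⁻¹ := e
    rw [← hgK k hk] at e'
    exact haK (Subtype.ext (mul_left_cancel (mul_right_cancel e')) ▸ hk)
  have hbP : ((φ a : ↥U) : G) ∉ P := by
    rintro ⟨k, hk, e⟩
    exact haK (φ.injective (Subtype.ext e : φ k = φ a) ▸ hk)
  set a' := g * (a : G) * g⁻¹ with ha'def
  set b := ((φ a : ↥U) : G)
  obtain ⟨h, hh, hhP, hha⟩ : ∃ h ∈ ⨆ u ∈ ((U : Set G) \ {1}), Q u,
      (∀ p ∈ P, h * p * h⁻¹ = p) ∧ h * a' * h⁻¹ = b := by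
    by_cases hab : a' = b
    · exact ⟨1, one_mem _, fun p _ => by simp, by simpa using hab⟩
    set u := a' * b with hudef
    have huU : u ∈ U := U.mul_mem ha' (φ a).2
    have hbb : b * b = 1 := hU2 b (φ a).2
    have hcom : ∀ v ∈ U, ∀ w ∈ U, v * w = w * v := fun v hv w hw => by
      rw [← inv_eq_of_mul_eq_one_right (hU2 _ (U.mul_mem hw hv)), mul_inv_rev,
        inv_eq_of_mul_eq_one_right (hU2 v hv), inv_eq_of_mul_eq_one_right (hU2 w hw)]
    have hune : u ≠ 1 := fun e => hab (by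
      calc a' = a' * b * b := by rw [mul_assoc, hbb, mul_one]
        _ = b := by rw [← hudef, e, one_mul])
    -- `H` is `P ∪ P u`
    let H : Subgroup G :=
      { carrier := {v | v ∈ U ∧ (v ∈ P ∨ v * u ∈ P)}
        one_mem' := ⟨U.one_mem, Or.inl P.one_mem⟩
        mul_mem' := by
          rintro v w ⟨hv, hv'⟩ ⟨hw, hw'⟩
          refine ⟨U.mul_mem hv hw, ?_⟩
          rcases hv' with h1 | h1 <;> rcases hw' with h2 | h2
          · exact Or.inl (P.mul_mem h1 h2)
          · exact Or.inr (by rw [mul_assoc]; exact P.mul_mem h1 h2)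
          · refine Or.inr ?_
            rw [mul_assoc, hcom w hw u huU, ← mul_assoc]; exact P.mul_mem h1 h2
          · refine Or.inl ?_
            have := P.mul_mem h1 h2
            rwa [mul_assoc v u, ← mul_assoc u w, hcom u huU w hw, mul_assoc w, hU2 u huU,
              mul_one] at this
        inv_mem' := by
          rintro v ⟨hv, hv'⟩
          rw [inv_eq_of_mul_eq_one_right (hU2 v hv)]
          exact ⟨hv, hv'⟩ }
    have huH : u ∈ H := ⟨huU, Or.inr (by rw [hU2 u huU]; exact P.one_mem)⟩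
    have haH : a' ∉ H := by
      rintro ⟨-, h1 | h1⟩
      · exact haP h1
      · exact hbP (by
          rwa [hudef, ← mul_assoc, hU2 a' ha', one_mul] at h1)
    obtain ⟨h, hh, hhH, hha⟩ := CfsgLib.Singular.exists_transvection (hL u huU hune) H huH
      (fun v hv => hUQ u huU v hv.1 hune) (hUQ u huU a' ha' hune) haH
    refine ⟨h, hle u huU hune hh, fun p hp => ?_, ?_⟩
    · rw [hhH p ⟨hPU hp, Or.inl hp⟩, mul_inv_cancel_right]
    · rw [hha, hudef, ← mul_assoc, hU2 a' ha', one_mul]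
  -- the agreement subgroup of `h g` and `φ`
  let K' : Subgroup ↥U := MonoidHom.eqLocus
    ((MulAut.conj (h * g)).toMonoidHom.comp U.subtype) (U.subtype.comp φ.toMonoidHom)
  have hle' : K ≤ K' := fun k hk => by
    show h * g * (k : G) * (h * g)⁻¹ = ((φ k : ↥U) : G)
    rw [show h * g * (k : G) * (h * g)⁻¹ = h * (g * (k : G) * g⁻¹) * h⁻¹ by group, hgK k hk]
    exact hhP _ ⟨k, hk, rfl⟩
  have haK' : a ∈ K' := by
    show h * g * (a : G) * (h * g)⁻¹ = b
    rw [← hha, ha'def]; group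
  exact haK (hmax ⟨h * g, mul_mem hh hg, fun k hk => hk⟩ hle' haK')

end Cfsg.Agent.S5596
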