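import Cfsg.Statements.S5597
import Cfsg.Agent.LargeExtraspecial.Singular
-- import your own Cfsg.Agent.* helpers here

set_option autoImplicit false
open Cfsg

namespace Cfsg.Agent.S5597

/-- Setting: `z` is an involution of the finite group `G`; for each element `x`, `Q x` is the largest normal 2-subgroup of the centralizer of `x`; `Q z` is extraspecial and contains its own centralizer in `G`. A subgroup `U` is singular when it is elementary abelian, every non-identity element of `U` is conjugate to `z`, and any two non-identity elements `u`, `v` of `U` are orthogonal (`v ∈ Q u`). Write `QU` for the intersection of the `Q u` and `LU` for the join of the `Q u` over the non-identity `u` in `U`. If `U` is a non-trivial singular subgroup, then `LU` acts trivially on `QU / U` (every commutator of an element of `LU` with an element of `QU` lies in `U`), and for every `x` in `QU` outside `U` the centralizer of `U` in `LU` permutes the coset `x U`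 transitively: each `x u` with `u ∈ U` is a conjugate of `x` by an element of `LU` centralizing `U`. -/
theorem result {G : Type*} [Group G] [Finite G]
    (Q : G → Subgroup G)
    (hQ : ∀ x : G, Q x = (Cfsg.pCore 2 ↥(Subgroup.centralizer ({x} : Set G))).map (Subgroup.centralizer ({x} : Set G)).subtype)
    (z : G) (hz : orderOf z = 2) (hE : Cfsg.IsExtraspecial 2 ↥(Q z))
    (hC : Subgroup.centralizer ((Q z : Subgroup G) : Set G) ≤ Q z)
    (U : Subgroup G) (hU2 : ∀ u ∈ U, u * u = 1)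
    (hS : ∀ u ∈ U, u ≠ 1 → ∃ g : G, g * z * g⁻¹ = u)
    (hO : ∀ u ∈ U, ∀ v ∈ U, u ≠ 1 → v ≠ 1 → v ∈ Q u)
    (QU LU : Subgroup G) (hQU : QU = ⨅ u ∈ ((U : Set G) \ {1}), Q u) (hLU : LU = ⨆ u ∈ ((U : Set G) \ {1}), Q u)
    (hU : U ≠ ⊥) :
    (∀ g ∈ LU, ∀ x ∈ QU, g * x * g⁻¹ * x⁻¹ ∈ U) ∧
      ∀ x ∈ QU, x ∉ U → ∀ u ∈ U, ∃ g ∈ LU ⊓ Subgroup.centralizer (U : Set G), g * x * g⁻¹ = x * u := by
  have hL : ∀ u ∈ U, u ≠ 1 → CfsgLib.Singular.Large Q u :=
    fun u hu hne => CfsgLib.Singular.large_of_singular hQ hz hE hC hS hu hne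
  have hUQ : ∀ u ∈ U, ∀ v ∈ U, u ≠ 1 → v ∈ Q u := by
    intro u hu v hv hne
    by_cases hv1 : v = 1
    · subst hv1; exact (Q u).one_mem
    · exact hO u hu v hv hne hv1
  have hmemU : ∀ {u}, u ∈ ((U : Set G) \ {1}) ↔ u ∈ U ∧ u ≠ 1 := fun {u} => by
    simp [Set.mem_sdiff]
  subst hQU hLU
  have hUQU : U ≤ ⨅ u ∈ ((U : Set G) \ {1}), Q u :=
    le_iInf₂ fun u hu v hv => hUQ u (hmemU.mp hu).1 v hv (hmemU.mp hu).2
  refine ⟨?_, ?_⟩
  · intro g hg
    let S : Subgroup G :=
      { carrier := {g | (∀ v, v ∈ U ↔ g * v * g⁻¹ ∈ U) ∧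
          ∀ x ∈ ⨅ u ∈ ((U : Set G) \ {1}), Q u, g * x * g⁻¹ * x⁻¹ ∈ U}
        one_mem' := ⟨fun v => by simp, fun x _ => by simp⟩
        mul_mem' := by
          rintro a b ⟨ha, ha'⟩ ⟨hb, hb'⟩
          refine ⟨fun v => ?_, fun x hx => ?_⟩
          · rw [hb v, ha (b * v * b⁻¹)]; simp [mul_assoc]
          · have := U.mul_mem ((ha _).mp (hb' x hx)) (ha' x hx)
            rwa [show a * (b * x * b⁻¹ * x⁻¹) * a⁻¹ * (a * x * a⁻¹ * x⁻¹)
              = a * b * x * (a * b)⁻¹ * x⁻¹ by group] at this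
        inv_mem' := by
          rintro a ⟨ha, ha'⟩
          refine ⟨fun v => ?_, fun x hx => ?_⟩
          · rw [ha (a⁻¹ * v * a⁻¹⁻¹)]; simp [mul_assoc]
          · have := U.inv_mem (ha' x hx)
            rw [ha]
            rwa [show a * (a⁻¹ * x * a⁻¹⁻¹ * x⁻¹) * a⁻¹ = (a * x * a⁻¹ * x⁻¹)⁻¹ by group] }
    suffices hle : (⨆ u ∈ ((U : Set G) \ {1}), Q u) ≤ S from (hle hg).2
    refine iSup₂_le fun u hu a ha => ?_
    obtain ⟨huU, hune⟩ := hmemU.mp hu
    have hLu := hL u huU hune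
    have key : ∀ b ∈ Q u, ∀ q ∈ Q u, b * q * b⁻¹ * q⁻¹ ∈ U := by
      intro b hb q hq
      by_cases h : b * q = q * b
      · rw [h]; simp
      · rw [hLu.comm_inv hb hq h, hLu.central q hq]; simpa using huU
    have hconj : ∀ b ∈ Q u, ∀ v ∈ U, b * v * b⁻¹ ∈ U := by
      intro b hb v hv
      have := U.mul_mem (key b hb v (hUQ u huU v hv hune)) hv
      rwa [inv_mul_cancel_right] at this
    refine ⟨fun v => ⟨hconj a ha v, fun hv => ?_⟩, fun x hx => key a ha x ?_⟩
    · have := hconj a⁻¹ ((Q u).inv_mem ha) _ hv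
      rwa [show a⁻¹ * (a * v * a⁻¹) * a⁻¹⁻¹ = v by group] at this
    · exact (iInf₂_le (f := fun u _ => Q u) u hu : _ ≤ Q u) hx
  · intro x hx hxU u hu
    by_cases hne : u = 1
    · subst hne
      exact ⟨1, one_mem _, by simp⟩
    have hxu : x ∈ Q u := (iInf₂_le (f := fun u _ => Q u) u (hmemU.mpr ⟨hu, hne⟩) : _ ≤ Q u) hx
    obtain ⟨g, hg, hgU, hgx⟩ := CfsgLib.Singular.exists_transvection (hL u hu hne) U hu
      (fun v hv => hUQ u hu v hv hne) hxu hxU
    refine ⟨g, ⟨?_, Subgroup.mem_centralizer_iff.mpr fun v hv => (hgU v hv).symm⟩, hgx⟩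
    exact (le_iSup₂ (f := fun u _ => Q u) u (hmemU.mpr ⟨hu, hne⟩) : Q u ≤ _) hg

end Cfsg.Agent.S5597
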