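import Cfsg.Statements.S5598
import Cfsg.Agent.LargeExtraspecial.Singular
-- import your own Cfsg.Agent.* helpers here

set_option autoImplicit false
open Cfsg

namespace Cfsg.Agent.S5598

/-- Setting: `z` is an involution of the finite group `G`; for each element `x`, `Q x` is the largest normal 2-subgroup of the centralizer of `x`; `Q z` is extraspecial and contains its own centralizer in `G`. A subgroup `U` is singular when it is elementary abelian, every non-identity element of `U` is conjugate to `z`, and any two non-identity elements `u`, `v` of `U` are orthogonal (`v ∈ Q u`). Write `QU` for the intersection of the `Q u` and `LU` for the join of the `Q u` over the non-identity `u` in `U`. If the singular subgroup `U` is generated by a set `T` of non-identity elements, then `QU` is already the intersection of the `Q t` over `t ∈ T`. -/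
theorem result {G : Type*} [Group G] [Finite G]
    (Q : G → Subgroup G)
    (hQ : ∀ x : G, Q x = (Cfsg.pCore 2 ↥(Subgroup.centralizer ({x} : Set G))).map (Subgroup.centralizer ({x} : Set G)).subtype)
    (z : G) (hz : orderOf z = 2) (hE : Cfsg.IsExtraspecial 2 ↥(Q z))
    (hC : Subgroup.centralizer ((Q z : Subgroup G) : Set G) ≤ Q z)
    (U : Subgroup G) (hU2 : ∀ u ∈ U, u * u = 1)
    (hS : ∀ u ∈ U, u ≠ 1 → ∃ g : G, g * z * g⁻¹ = u)
    (hO : ∀ u ∈ U, ∀ v ∈ U, u ≠ 1 → v ≠ 1 → v ∈ Q u)
    (QU LU : Subgroup G) (hQU : QU = ⨅ u ∈ ((U : Set G) \ {1}), Q u) (hLU : LU = ⨆ u ∈ ((U : Set G) \ {1}), Q u)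
    (T : Set G) (hT : Subgroup.closure T = U) (hT1 : (1 : G) ∉ T) :
    QU = ⨅ t ∈ T, Q t := by
  have hL : ∀ u ∈ U, u ≠ 1 → CfsgLib.Singular.Large Q u :=
    fun u hu hne => CfsgLib.Singular.large_of_singular hQ hz hE hC hS hu hne
  have hUQ : ∀ u ∈ U, ∀ v ∈ U, u ≠ 1 → v ∈ Q u := by
    intro u hu v hv hne
    by_cases hv1 : v = 1
    · subst hv1; exact (Q u).one_mem
    · exact hO u hu v hv hne hv1
  have hmemU : ∀ {u}, u ∈ ((U : Set G) \ {1}) ↔ u ∈ U ∧ u ≠ 1 := fun {u} => by
    simp [Set.mem_sdiff]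
  subst hQU
  refine le_antisymm (le_iInf₂ fun t ht => iInf₂_le t (hmemU.mpr
    ⟨hT ▸ Subgroup.subset_closure ht, fun e => hT1 (e ▸ ht)⟩)) ?_
  refine le_iInf₂ fun u hu => ?_
  intro q hq
  simp only [Subgroup.mem_iInf] at hq
  obtain ⟨huU, hune⟩ := hmemU.mp hu
  let S : Subgroup G :=
    { carrier := {y | y ∈ U ∧ (y ≠ 1 → q ∈ Q y)}
      one_mem' := ⟨U.one_mem, fun h => absurd rfl h⟩
      mul_mem' := by
        rintro a b ⟨ha, ha'⟩ ⟨hb, hb'⟩
        refine ⟨U.mul_mem ha hb, fun hne => ?_⟩
        by_cases h1 : a = 1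
        · subst h1; rw [one_mul] at hne ⊢; exact hb' hne
        by_cases h2 : b = 1
        · subst h2; rw [mul_one] at hne ⊢; exact ha' hne
        have hab : a ≠ b := fun e => hne (by rw [← e]; exact hU2 a ha)
        have hLa := hL a ha h1
        have hbQ := hUQ a ha b hb h1
        obtain ⟨t, ht, htb⟩ : ∃ t ∈ Q a, t * b ≠ b * t := by
          by_contra h
          push Not at h
          rcases hLa.cent b (fun t ht => (h t ht).symm) with e | e
          · exact h2 e
          · exact hab e.symm
        have := CfsgLib.Singular.inter_le hQ hLa (hUQ b hb a ha h2) ht (ha' h1) (hb' h2)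
        rwa [hLa.comm_inv ht hbQ htb, hLa.central b hbQ] at this
      inv_mem' := by
        rintro a ⟨ha, ha'⟩
        rw [inv_eq_of_mul_eq_one_right (hU2 a ha)]
        exact ⟨ha, ha'⟩ }
  have hle : U ≤ S := by
    rw [← hT]
    exact (Subgroup.closure_le _).mpr fun t ht => ⟨hT ▸ Subgroup.subset_closure ht, fun _ => hq t ht⟩
  exact (hle huU).2 hune

end Cfsg.Agent.S5598
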