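import Cfsg.Statements.S5601
import Cfsg.Agent.M24Classes.Classes
-- import your own Cfsg.Agent.* helpers here

set_option autoImplicit false
open scoped Pointwise
open Cfsg

namespace Cfsg.Agent.S5601

open CfsgLib.M24Classes
open scoped Pointwise

theorem exists_gen (X : Subgroup ↥Cfsg.M24) (hX : Nat.card X = 3) :
    ∃ g : ↥Cfsg.M24, orderOf g = 3 ∧ X = Subgroup.zpowers g := by
  haveI := Fact.mk Nat.prime_three
  haveI : IsCyclic X := isCyclic_of_prime_card hX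
  obtain ⟨g, hg⟩ := Subgroup.isCyclic_iff_exists_zpowers_eq_top X |>.mp inferInstance
  exact ⟨g, by rw [← Nat.card_zpowers, hg, hX], hg.symm⟩

theorem ncard_fixed (g : ↥Cfsg.M24) :
    {p : Cfsg.GolayPt | ∀ x ∈ Subgroup.zpowers g, ((x : ↥Cfsg.M24) : Equiv.Perm Cfsg.GolayPt) p = p}.ncard =
      fixCount (g : Equiv.Perm Cfsg.GolayPt) := by
  rw [fixCount, ← Set.ncard_coe_finset]
  congr 1
  ext p
  simp only [Set.mem_ofPred_eq, Finset.coe_filter, Finset.mem_univ, true_and]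
  refine ⟨fun h => h g (Subgroup.mem_zpowers g), fun h x hx => ?_⟩
  have : Subgroup.zpowers g ≤ MulAction.stabilizer ↥Cfsg.M24 p := Subgroup.zpowers_le.mpr h
  exact this hx

/-- The group of the length-24 code has exactly two conjugacy classes of subgroups of order 3: a subgroup of order 3 fixes either exactly 6 of the 24 points or none of them, both cases occur, and two subgroups of order 3 with the same number of fixed points are conjugate. -/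
theorem result : (∀ X : Subgroup ↥Cfsg.M24, Nat.card X = 3 → {p : Cfsg.GolayPt | ∀ x ∈ X, ((x : ↥Cfsg.M24) : Equiv.Perm Cfsg.GolayPt) p = p}.ncard = 6 ∨ {p : Cfsg.GolayPt | ∀ x ∈ X, ((x : ↥Cfsg.M24) : Equiv.Perm Cfsg.GolayPt) p = p}.ncard = 0) ∧ (∃ X : Subgroup ↥Cfsg.M24, Nat.card X = 3 ∧ {p : Cfsg.GolayPt | ∀ x ∈ X, ((x : ↥Cfsg.M24) : Equiv.Perm Cfsg.GolayPt) p = p}.ncard = 6) ∧ (∃ X : Subgroup ↥Cfsg.M24, Nat.card X = 3 ∧ {p : Cfsg.GolayPt | ∀ x ∈ X, ((x : ↥Cfsg.M24) : Equiv.Perm Cfsg.GolayPt) p = p}.ncard = 0) ∧ ∀ X Y : Subgroup ↥Cfsg.M24, Nat.card X = 3 → Nat.card Y = 3 → {p : Cfsg.GolayPt | ∀ x ∈ X, ((x : ↥Cfsg.M24) : Equiv.Perm Cfsg.GolayPt) p = p}.ncard = {p : Cfsg.GolayPt | ∀ x ∈ Y, ((x : ↥Cfsg.M24) : Equiv.Perm Cfsg.GolayPt) p = p}.ncard → ∃ k : ↥Cfsg.M24, MulAut.conj k • X = Y := by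
  refine ⟨?_, ?_, ?_, ?_⟩
  · intro X hX
    obtain ⟨g, hg, rfl⟩ := exists_gen X hX
    rw [ncard_fixed]
    rcases conj_ord3_of_fix g.2 (by rw [Subgroup.orderOf_coe, hg]) with ⟨h, -⟩ | ⟨h, -⟩
    · exact Or.inr h
    · exact Or.inl h
  · refine ⟨Subgroup.zpowers ⟨ord3Six, ord3Six_mem⟩, ?_, ?_⟩
    · rw [Nat.card_zpowers, ← Subgroup.orderOf_coe]; exact orderOf_reps.2.2.2.1
    · rw [ncard_fixed]; exact fixCount_reps.2.2.2
  · refine ⟨Subgroup.zpowers ⟨ord3Free, ord3Free_mem⟩, ?_, ?_⟩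
    · rw [Nat.card_zpowers, ← Subgroup.orderOf_coe]; exact orderOf_reps.2.2.1
    · rw [ncard_fixed]; exact fixCount_reps.2.2.1
  · intro X Y hX hY he
    obtain ⟨g, hg, rfl⟩ := exists_gen X hX
    obtain ⟨k, hk, rfl⟩ := exists_gen Y hY
    rw [ncard_fixed, ncard_fixed] at he
    obtain ⟨a, ha, hag⟩ : ∃ a ∈ Cfsg.M24, a * (g : Equiv.Perm Cfsg.GolayPt) * a⁻¹ = k := by
      rcases conj_ord3_of_fix g.2 (by rw [Subgroup.orderOf_coe, hg]) with ⟨h1, a, ha, e⟩ | ⟨h1, a, ha, e⟩ <;>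
        rcases conj_ord3_of_fix k.2 (by rw [Subgroup.orderOf_coe, hk]) with ⟨h2, c, hc, f⟩ | ⟨h2, c, hc, f⟩
      all_goals first
        | (rw [h1, h2] at he; omega)
        | (refine ⟨c * a⁻¹, mul_mem hc (inv_mem ha), ?_⟩
           rw [← e, ← f]; group)
    refine ⟨⟨a, ha⟩, ?_⟩
    rw [show MulAut.conj (⟨a, ha⟩ : ↥Cfsg.M24) • Subgroup.zpowers g =
      (Subgroup.zpowers g).map (MulAut.conj (⟨a, ha⟩ : ↥Cfsg.M24)).toMonoidHom from rfl, MonoidHom.map_zpowers]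
    exact congrArg Subgroup.zpowers (Subtype.ext hag)

end Cfsg.Agent.S5601
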