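import Cfsg.Statements.S5602
import Cfsg.Agent.M24Classes.FixedCounts
-- import your own Cfsg.Agent.* helpers here

set_option autoImplicit false
open scoped Pointwise
open Cfsg

namespace Cfsg.Agent.S5602

/-- An element of order 3 of the group of the length-24 code having exactly 6 fixed points maps to themselves exactly 21 octads, exactly 15 trios, exactly 16 sextets and exactly 20 dodecads. -/
theorem result (g : Equiv.Perm Cfsg.GolayPt) (hg : g ∈ Cfsg.M24) (h₃ : orderOf g = 3) (h₆ : (Finset.univ.filter fun p => g p = p).card = 6) : {o : Finset Cfsg.GolayPt | o ∈ Cfsg.octads ∧ g • o = o}.ncard = 21 ∧ {T : Finset (Finset Cfsg.GolayPt) | T ∈ Cfsg.trios ∧ g • T = T}.ncard = 15 ∧ {S : Finset (Finset Cfsg.GolayPt) | S ∈ Cfsg.sextets ∧ g • S = S}.ncard = 16 ∧ {d : Finset Cfsg.GolayPt | d ∈ Cfsg.dodecads ∧ g • d = d}.ncard = 20 := by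
  have hk : CfsgLib.M24Classes.fixCount g = 6 := h₆
  rcases CfsgLib.M24Classes.conj_ord3_of_fix hg h₃ with ⟨h0, h, hh, rfl⟩ | ⟨h0, h, hh, rfl⟩
  · omega
  · obtain ⟨c1, c2, c3, c4⟩ := CfsgLib.M24Classes.counts_conj CfsgLib.M24Classes.ord3Six hh
    obtain ⟨r1, r2, r3, r4⟩ := CfsgLib.M24Classes.fixed_counts CfsgLib.M24Classes.ord3Six_rep CfsgLib.M24Classes.bytes_ok.2.2.2
    exact ⟨(c1.trans r1).trans CfsgLib.M24Classes.counts3Six.1, (c3.trans r3).trans CfsgLib.M24Classes.counts3Six.2.2.1, (c4.trans r4).trans CfsgLib.M24Classes.counts3Six.2.2.2, (c2.trans r2).trans CfsgLib.M24Classes.counts3Six.2.1⟩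

end Cfsg.Agent.S5602
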