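import Cfsg.Statements.S5605
import Cfsg.Agent.M24Classes.FixedCounts
-- import your own Cfsg.Agent.* helpers here

set_option autoImplicit false
open scoped Pointwise
open Cfsg

namespace Cfsg.Agent.S5605

/-- An involution of the group of the length-24 code with exactly 8 fixed points maps to themselves exactly 71 octads, exactly 99 trios and exactly 91 sextets. -/
theorem result (g : Equiv.Perm Cfsg.GolayPt) (hg : g ∈ Cfsg.M24) (h₂ : orderOf g = 2) (h₈ : (Finset.univ.filter fun p => g p = p).card = 8) : {o : Finset Cfsg.GolayPt | o ∈ Cfsg.octads ∧ g • o = o}.ncard = 71 ∧ {T : Finset (Finset Cfsg.GolayPt) | T ∈ Cfsg.trios ∧ g • T = T}.ncard = 99 ∧ {S : Finset (Finset Cfsg.GolayPt) | S ∈ Cfsg.sextets ∧ g • S = S}.ncard = 91 := by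
  have hk : CfsgLib.M24Classes.fixCount g = 8 := h₈
  rcases CfsgLib.M24Classes.conj_inv2_of_fix hg h₂ with ⟨h0, h, hh, rfl⟩ | ⟨h0, h, hh, rfl⟩
  · omega
  · obtain ⟨c1, c2, c3, c4⟩ := CfsgLib.M24Classes.counts_conj CfsgLib.M24Classes.inv2Oct hh
    obtain ⟨r1, r2, r3, r4⟩ := CfsgLib.M24Classes.fixed_counts CfsgLib.M24Classes.inv2Oct_rep CfsgLib.M24Classes.bytes_ok.2.1
    exact ⟨(c1.trans r1).trans CfsgLib.M24Classes.counts2Oct.1, (c3.trans r3).trans CfsgLib.M24Classes.counts2Oct.2.1, (c4.trans r4).trans CfsgLib.M24Classes.counts2Oct.2.2⟩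

end Cfsg.Agent.S5605
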