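import Cfsg.Statements.S5606
import Cfsg.Agent.M24Classes.FixedCounts
-- import your own Cfsg.Agent.* helpers here

set_option autoImplicit false
open scoped Pointwise
open Cfsg

namespace Cfsg.Agent.S5606

/-- A fixed-point-free involution of the group of the length-24 code maps to themselves exactly 15 octads, exactly 75 trios and exactly 51 sextets. -/
theorem result (g : Equiv.Perm Cfsg.GolayPt) (hg : g ∈ Cfsg.M24) (h₂ : orderOf g = 2) (h₀ : ∀ p, g p ≠ p) : {o : Finset Cfsg.GolayPt | o ∈ Cfsg.octads ∧ g • o = o}.ncard = 15 ∧ {T : Finset (Finset Cfsg.GolayPt) | T ∈ Cfsg.trios ∧ g • T = T}.ncard = 75 ∧ {S : Finset (Finset Cfsg.GolayPt) | S ∈ Cfsg.sextets ∧ g • S = S}.ncard = 51 := by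
  have hk : CfsgLib.M24Classes.fixCount g = 0 := by
    rw [CfsgLib.M24Classes.fixCount, Finset.card_eq_zero, Finset.filter_eq_empty_iff]
    exact fun p _ => h₀ p
  rcases CfsgLib.M24Classes.conj_inv2_of_fix hg h₂ with ⟨h0, h, hh, rfl⟩ | ⟨h0, h, hh, rfl⟩
  · obtain ⟨c1, c2, c3, c4⟩ := CfsgLib.M24Classes.counts_conj CfsgLib.M24Classes.inv2Free hh
    obtain ⟨r1, r2, r3, r4⟩ := CfsgLib.M24Classes.fixed_counts CfsgLib.M24Classes.inv2Free_rep CfsgLib.M24Classes.bytes_ok.1
    exact ⟨(c1.trans r1).trans CfsgLib.M24Classes.counts2Free.1, (c3.trans r3).trans CfsgLib.M24Classes.counts2Free.2.1, (c4.trans r4).trans CfsgLib.M24Classes.counts2Free.2.2⟩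
  · omega

end Cfsg.Agent.S5606
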