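import Cfsg.Statements.S5615
import Cfsg.Agent.M24Classes.OctadTrios
-- import your own Cfsg.Agent.* helpers here

set_option autoImplicit false
open scoped Pointwise
open Cfsg

namespace Cfsg.Agent.S5615

/-- An octad of the length-24 code lies in exactly 15 trios; the stabiliser of the octad in the code's group acts doubly transitively on these 15 trios, and the kernel of this action is the pointwise stabiliser of the octad. -/
theorem result (o : Finset Cfsg.GolayPt) (ho : o ∈ Cfsg.octads) : {T : Finset (Finset Cfsg.GolayPt) | T ∈ Cfsg.trios ∧ o ∈ T}.ncard = 15 ∧ (∀ T₁ T₂ T₁' T₂' : Finset (Finset Cfsg.GolayPt), T₁ ∈ Cfsg.trios → T₂ ∈ Cfsg.trios → T₁' ∈ Cfsg.trios → T₂' ∈ Cfsg.trios → o ∈ T₁ → o ∈ T₂ → o ∈ T₁' → o ∈ T₂' → T₁ ≠ T₂ → T₁' ≠ T₂' → ∃ g ∈ Cfsg.M24, g • o = o ∧ g • T₁ = T₁' ∧ g • T₂ = T₂') ∧ ∀ g ∈ Cfsg.M24, g • o = o → ((∀ T ∈ Cfsg.trios, o ∈ T → g • T = T) ↔ ∀ p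 ∈ o, g p = p) := by
  obtain ⟨a, ha, hao⟩ := CfsgLib.M24Classes.exists_base_octad ho
  obtain ⟨-, -, -, hc, hl, -⟩ := CfsgLib.M24Classes.baseTrio_checks
  have hT : a • CfsgLib.M24Classes.famSet CfsgLib.M24Classes.baseTrio ∈ Cfsg.trios :=
    CfsgLib.M24Classes.smul_mem_trios ha
      (CfsgLib.M24Classes.trios_eq_image ▸ ⟨_, List.contains_iff_mem.mp hl, rfl⟩)
  have hoT : o ∈ a • CfsgLib.M24Classes.famSet CfsgLib.M24Classes.baseTrio :=
    hao ▸ Finset.smul_mem_smul_finset (CfsgLib.M24Classes.mem_famSet.mpr ⟨_, List.contains_iff_mem.mp hc, rfl⟩)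
  refine ⟨(CfsgLib.M24Classes.octad_trios_orbit ho hT hoT).2, ?_, fun g hg hgo => CfsgLib.M24Classes.octad_trios_kernel ho hg hgo⟩
  intro T₁ T₂ T₁' T₂' h₁ h₂ h₁' h₂' o₁ o₂ o₁' o₂' n n'
  exact CfsgLib.M24Classes.octad_trios_doubly ho h₁ h₂ h₁' h₂' o₁ o₂ o₁' o₂' n n'

end Cfsg.Agent.S5615
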