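import Cfsg.Statements.S5616
import Cfsg.Agent.M24Classes.TripleMeet
-- import your own Cfsg.Agent.* helpers here

set_option autoImplicit false
open scoped Pointwise
open Cfsg

namespace Cfsg.Agent.S5616

/-- Let Y be a set of 3 of the 24 points. The sextets of the length-24 code whose tetrads meeting Y number 1, 2 or 3 are respectively 21, 630 and 1120 in number, and two sextets with the same number of tetrads meeting Y are conjugate under the setwise stabiliser of Y in the code's group. -/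
theorem result (Y : Finset Cfsg.GolayPt) (hY : Y.card = 3) : {S : Finset (Finset Cfsg.GolayPt) | S ∈ Cfsg.sextets ∧ (S.filter fun t => (t ∩ Y).Nonempty).card = 1}.ncard = 21 ∧ {S : Finset (Finset Cfsg.GolayPt) | S ∈ Cfsg.sextets ∧ (S.filter fun t => (t ∩ Y).Nonempty).card = 2}.ncard = 630 ∧ {S : Finset (Finset Cfsg.GolayPt) | S ∈ Cfsg.sextets ∧ (S.filter fun t => (t ∩ Y).Nonempty).card = 3}.ncard = 1120 ∧ ∀ S S' : Finset (Finset Cfsg.GolayPt), S ∈ Cfsg.sextets → S' ∈ Cfsg.sextets → (S.filter fun t => (t ∩ Y).Nonempty).card = (S'.filter fun t => (t ∩ Y).Nonempty).card → ∃ g ∈ Cfsg.M24, g • Y = Y ∧ g • S = S' := by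
  obtain ⟨g, hg, hgY⟩ := CfsgLib.M24Classes.exists_map_subset (by norm_num)
    (show (CfsgLib.Mathieu.setOf24 (CfsgLib.M24Classes.cfgTriple.headD 0)).card = 3 by decide +kernel) hY
  have hc := CfsgLib.M24Classes.triple_classes hg hgY
  obtain ⟨X1, -, c1, e1⟩ := hc 1 21 (Or.inl ⟨rfl, rfl⟩)
  obtain ⟨X2, -, c2, e2⟩ := hc 2 630 (Or.inr (Or.inl ⟨rfl, rfl⟩))
  obtain ⟨X3, -, c3, e3⟩ := hc 3 1120 (Or.inr (Or.inr ⟨rfl, rfl⟩))
  rw [e1] at c1; rw [e2] at c2; rw [e3] at c3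
  refine ⟨c1, c2, c3, fun S S' hS hS' he => ?_⟩
  have key : ∀ (v : ℕ) (X : Finset (Finset Cfsg.GolayPt)),
      MulAction.orbit ↥(MulAction.stabilizer Cfsg.M24 Y) X =
        {b | b ∈ Cfsg.sextets ∧ CfsgLib.M24Classes.meetCount b Y = v} →
      CfsgLib.M24Classes.meetCount S Y = v → CfsgLib.M24Classes.meetCount S' Y = v →
      ∃ g ∈ Cfsg.M24, g • Y = Y ∧ g • S = S' := by
    intro v X hX h h'
    have h1 : S ∈ MulAction.orbit ↥(MulAction.stabilizer Cfsg.M24 Y) X := hX ▸ ⟨hS, h⟩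
    have h2 : S' ∈ MulAction.orbit ↥(MulAction.stabilizer Cfsg.M24 Y) X := hX ▸ ⟨hS', h'⟩
    rw [← MulAction.orbit_eq_iff.mpr h1] at h2
    obtain ⟨⟨⟨k, hk⟩, hkY⟩, hkS⟩ := h2
    exact ⟨k, hk, hkY, hkS⟩
  have hmem := CfsgLib.M24Classes.triple_meet_cases hg hgY S hS
  have he' : CfsgLib.M24Classes.meetCount S Y = CfsgLib.M24Classes.meetCount S' Y := he
  simp only [List.mem_cons, List.not_mem_nil, or_false] at hmem
  rcases hmem with h | h | h
  · exact key 1 X1 e1 h (he' ▸ h)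
  · exact key 2 X2 e2 h (he' ▸ h)
  · exact key 3 X3 e3 h (he' ▸ h)

end Cfsg.Agent.S5616
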