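import Cfsg.Statements.S5617
import Cfsg.Agent.M24Classes.AtDodecadsOrbits
import Cfsg.Agent.Mathieu.General
-- import your own Cfsg.Agent.* helpers here

set_option autoImplicit false
open scoped Pointwise
open Cfsg

namespace Cfsg.Agent.S5617

/-- The setwise stabiliser, in the group of the length-24 code, of a complementary pair of dodecads has exactly three orbits on the 1771 sextets, of sizes 396, 495 and 880. -/
theorem result (d : Finset Cfsg.GolayPt) (hd : d ∈ Cfsg.dodecads) : ∃ X₁ ∈ Cfsg.sextets, ∃ X₂ ∈ Cfsg.sextets, ∃ X₃ ∈ Cfsg.sextets, (MulAction.orbit ↥(MulAction.stabilizer Cfsg.M24 ({d, Finset.univ \ d} : Finset (Finset Cfsg.GolayPt))) X₁).ncard = 396 ∧ (MulAction.orbit ↥(MulAction.stabilizer Cfsg.M24 ({d, Finset.univ \ d} : Finset (Finset Cfsg.GolayPt))) X₂).ncard = 495 ∧ (MulAction.orbit ↥(MulAction.stabilizer Cfsg.M24 ({d, Finset.univ \ d} : Finset (Finset Cfsg.GolayPt))) X₃).ncard = 880 ∧ Cfsg.sextets = MulAction.orbit ↥(MulAction.stabilizer Cfsg.M24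 ({d, Finset.univ \ d} : Finset (Finset Cfsg.GolayPt))) X₁ ∪ MulAction.orbit ↥(MulAction.stabilizer Cfsg.M24 ({d, Finset.univ \ d} : Finset (Finset Cfsg.GolayPt))) X₂ ∪ MulAction.orbit ↥(MulAction.stabilizer Cfsg.M24 ({d, Finset.univ \ d} : Finset (Finset Cfsg.GolayPt))) X₃ := by
  obtain ⟨g, hg, hgd⟩ := CfsgLib.Mathieu.M24_dodecad_transitive'
    (show CfsgLib.Mathieu.setOf24 (CfsgLib.M24Classes.cfgDodecads.headD 0) ∈ Cfsg.dodecads from
      CfsgLib.Mathieu.setOf24_mem_wordsOfWeight (by decide +kernel) (by decide +kernel)) hd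
  refine CfsgLib.M24Classes.dodecadsSextet_orbits hg ?_
  have e : CfsgLib.M24Classes.famSet CfsgLib.M24Classes.cfgDodecads =
      {CfsgLib.Mathieu.setOf24 (CfsgLib.M24Classes.cfgDodecads.headD 0),
        Finset.univ \ CfsgLib.Mathieu.setOf24 (CfsgLib.M24Classes.cfgDodecads.headD 0)} := by decide +kernel
  rw [e, Finset.smul_finset_insert, Finset.smul_finset_singleton, CfsgLib.M24Classes.smul_set_eq_image,
    CfsgLib.M24Classes.smul_set_eq_image, Finset.image_sdiff _ _ g.injective,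
    Finset.image_univ_of_surjective g.surjective, hgd]

end Cfsg.Agent.S5617
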