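import Cfsg.Statements.S5625
import Cfsg.Agent.Design.SteinerCount
-- import your own Cfsg.Agent.* helpers here

set_option autoImplicit false
open Cfsg

namespace Cfsg.Agent.S5625

/-- In any Steiner system S(5, 8, 24) and for any set Y of three points, the blocks meeting Y in exactly 3, 2, 1 and 0 points number 21, 168, 360 and 210 respectively (so there are 759 blocks in all). -/
theorem result (α : Type*) [Fintype α] [DecidableEq α] (hα : Fintype.card α = 24) (B : Set (Finset α)) (hB : Cfsg.IsSteinerSystem 5 8 B) (Y : Finset α) (hY : Y.card = 3) : {b : Finset α | b ∈ B ∧ (b ∩ Y).card = 3}.ncard = 21 ∧ {b : Finset α | b ∈ B ∧ (b ∩ Y).card = 2}.ncard = 168 ∧ {b : Finset α | b ∈ B ∧ (b ∩ Y).card = 1}.ncard = 360 ∧ {b : Finset α | b ∈ B ∧ (b ∩ Y).card = 0}.ncard = 210 := by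
  classical
  open CfsgLib.Design in
  rw [ncard_eq_card_filter, ncard_eq_card_filter, ncard_eq_card_filter, ncard_eq_card_filter]
  set F := CfsgLib.Design.blocksFinset B
  have hl : ∀ j l, j ≤ 5 → l * (8 - j).choose (5 - j) = (24 - j).choose (5 - j) →
      (8 - j).choose (5 - j) ≠ 0 →
      ∑ b ∈ F, (b ∩ Y).card.choose j = (3 : ℕ).choose j * l := by
    intro j l hj hval hne
    rw [← hY]
    refine CfsgLib.Design.sum_choose_inter Y j l fun A hA => ?_
    have h := CfsgLib.Design.steiner_lambda hB A (by omega)
    rw [hA, hα, ← hval] at h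
    exact mul_right_cancel₀ hne h
  have hsum : ∀ j, ∑ b ∈ F, (b ∩ Y).card.choose j
      = ∑ i ∈ Finset.range 4, (F.filter fun b => (b ∩ Y).card = i).card * i.choose j := by
    intro j
    rw [← Finset.sum_fiberwise_of_maps_to (g := fun b : Finset α => (b ∩ Y).card)
      (t := Finset.range 4) (fun b _ => Finset.mem_range.mpr
        (by have := Finset.card_le_card (Finset.inter_subset_right (s₁ := b) (s₂ := Y)); omega))]
    refine Finset.sum_congr rfl fun i _ => ?_
    rw [Finset.sum_congr rfl (g := fun _ => i.choose j) fun b hb => by rw [(Finset.mem_filter.mp hb).2],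
      Finset.sum_const, smul_eq_mul]
  have h0 := (hsum 0).symm.trans (hl 0 759 (by norm_num) (by decide) (by decide))
  have h1 := (hsum 1).symm.trans (hl 1 253 (by norm_num) (by decide) (by decide))
  have h2 := (hsum 2).symm.trans (hl 2 77 (by norm_num) (by decide) (by decide))
  have h3 := (hsum 3).symm.trans (hl 3 21 (by norm_num) (by decide) (by decide))
  simp [Finset.sum_range_succ, Nat.choose] at h0 h1 h2 h3
  simp only [Finset.card_eq_zero] at *
  omega

end Cfsg.Agent.S5625
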