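import Cfsg.Statements.S5628
import Cfsg.Agent.PlaneFour.Oval
-- import your own Cfsg.Agent.* helpers here

set_option autoImplicit false
open Cfsg
open scoped Pointwise

namespace Cfsg.Agent.S5628

open Finset CfsgLib.PlaneFour

theorem mem_aut {α : Type*} [DecidableEq α] {L : Set (Finset α)} {g : Equiv.Perm α} :
    g ∈ Cfsg.setSystemAut L ↔ (fun s : Finset α => s.image g) '' L = L := Iff.rfl

/-- In a projective plane of order 4 (a Steiner system S(2, 5, 21)), every permutation of the six points of a hyperoval (a 6-set met by no line in more than two points) is the restriction of exactly one automorphism of the plane. In particular the stabiliser of a hyperoval in the automorphism group is isomorphic to the symmetric group of degree 6 acting faithfully on the hyperoval. -/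
theorem result {α : Type*} [Fintype α] [DecidableEq α] (hα : Fintype.card α = 21) (L : Set (Finset α)) (hL : Cfsg.IsSteinerSystem 2 5 L) (H : Finset α) (hH : (H.card = 6 ∧ ∀ l ∈ L, (l ∩ H).card ≤ 2)) (σ : Equiv.Perm ↥H) : ∃! g : Equiv.Perm α, g ∈ Cfsg.setSystemAut L ∧ ∀ p : ↥H, g p = σ p := by
  classical
  obtain ⟨a, b, c, e, x, y, hH6⟩ : ∃ a b c e x y : ↥H,
      [a, b, c, e, x, y].Nodup := by
    have f := Fintype.equivFinOfCardEq (show Fintype.card ↥H = 6 by rw [Fintype.card_coe, hH.1])
    refine ⟨f.symm 0, f.symm 1, f.symm 2, f.symm 3, f.symm 4, f.symm 5, ?_⟩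
    have : [(0 : Fin 6), 1, 2, 3, 4, 5].Nodup := by decide
    exact this.map f.symm.injective
  simp only [List.nodup_cons, List.mem_cons, not_or, List.not_mem_nil, not_false_eq_true,
    List.nodup_nil, and_true] at hH6
  obtain ⟨⟨hab, hac, hae, -, -⟩, ⟨hbc, hbe, -, -⟩, ⟨hce, -, -⟩, -, -⟩ := hH6
  have hne : ∀ {u v : ↥H}, u ≠ v → (u : α) ≠ v := fun h h' => h (Subtype.ext h')
  have hne' : ∀ {u v : ↥H}, u ≠ v → (σ u : α) ≠ σ v := fun h h' =>
    h (σ.injective (Subtype.ext h'))
  obtain ⟨φ, hφ, f1, f2, f3, f4⟩ := frame_of_indep hL hα hH.2 (hne hab) (hne hac) (hne hae)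
    (hne hbc) (hne hbe) (hne hce) a.2 b.2 c.2 e.2
  obtain ⟨ψ, hψ, g1, g2, g3, g4⟩ := frame_of_indep hL hα hH.2 (hne' hab) (hne' hac) (hne' hae)
    (hne' hbc) (hne' hbe) (hne' hce) (σ a).2 (σ b).2 (σ c).2 (σ e).2
  -- both coordinate systems carry the standard oval onto `H`
  have hoval : ∀ (θ : Fin 21 ≃ α), L = (fun s : Finset (Fin 21) => s.image θ) '' Set.range line →
      (∀ k ∈ quad, θ k ∈ H) → oval.image θ = H := by
    intro θ hθ hq
    have h4 : (quad.image θ).card = 4 := by
      rw [card_image_of_injective _ θ.injective]; rfl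
    have hq' : quad.image θ ⊆ H := image_subset_iff.2 hq
    have hi : ∀ l ∈ L, (l ∩ quad.image θ).card ≤ 2 := fun l hl =>
      (card_le_card (inter_subset_inter_left hq')).trans (hH.2 l hl)
    exact (existsUnique_oval hL hα h4 hi).unique
      ⟨⟨(card_image_of_injective _ θ.injective).trans rfl, (indep_image hθ oval).2 indep_oval⟩,
        image_subset_image (by decide)⟩ ⟨hH, hq'⟩
  have hφH : oval.image φ = H := hoval φ hφ (by
    simp only [quad, mem_insert, mem_singleton, forall_eq_or_imp, forall_eq, f1, f2, f3, f4]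
    exact ⟨a.2, b.2, c.2, e.2⟩)
  have hψH : oval.image ψ = H := hoval ψ hψ (by
    simp only [quad, mem_insert, mem_singleton, forall_eq_or_imp, forall_eq, g1, g2, g3, g4]
    exact ⟨(σ a).2, (σ b).2, (σ c).2, (σ e).2⟩)
  obtain ⟨e1, e2, e3, e4, e5, e6⟩ := frob_oval
  -- the automorphisms agreeing with `σ` on four points
  have haut : ∀ τ : Equiv.Perm (Fin 21), (∀ k, ∃ k', (line k).image τ = line k') →
      (φ.symm.trans τ).trans ψ ∈ Cfsg.setSystemAut L := by
    intro τ hτ
    rw [mem_aut]
    have hfin : (univ.image fun k => (line k).image τ) = univ.image line := by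
      refine eq_of_subset_of_card_le ?_ ?_
      · intro l hl
        obtain ⟨k, -, rfl⟩ := mem_image.1 hl
        obtain ⟨k', hk'⟩ := hτ k
        exact mem_image.2 ⟨k', mem_univ _, hk'.symm⟩
      · rw [card_image_of_injective _ line_injective, card_image_of_injective _
          (show Function.Injective fun k => (line k).image τ from
            (image_injective τ.injective).comp line_injective)]
    conv_lhs => rw [hφ]
    conv_rhs => rw [hψ]
    rw [Set.image_image]
    ext l
    simp only [Set.mem_image, Set.mem_range, exists_exists_eq_and, image_image]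
    constructor
    · rintro ⟨k, rfl⟩
      obtain ⟨k', hk'⟩ := hτ k
      refine ⟨k', ?_⟩
      rw [← hk', image_image]
      exact image_congr fun z _ => by simp
    · rintro ⟨k, rfl⟩
      have : line k ∈ univ.image fun j => (line j).image τ := by
        rw [hfin]; exact mem_image_of_mem _ (mem_univ k)
      obtain ⟨j, -, hj⟩ := mem_image.1 this
      refine ⟨j, ?_⟩
      rw [← hj, image_image]
      exact image_congr fun z _ => by simp
  have hmemφ : ∀ p : ↥H, ∃ k ∈ oval, φ k = p := fun p => mem_image.1 (hφH.symm ▸ p.2)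
  have hσk : ∀ k (hk : k ∈ oval), φ k ∈ H := fun k hk => hφH ▸ mem_image_of_mem _ hk
  -- the image of the fifth point
  obtain ⟨k, hk, hk5⟩ := mem_image.1
    (show (σ ⟨φ 11, hσk 11 (by decide)⟩ : α) ∈ oval.image ψ by rw [hψH]; exact Subtype.property _)
  obtain ⟨τ, hτ, t1, t2, t3, t4, t5, t6⟩ : ∃ τ : Equiv.Perm (Fin 21),
      (∀ j, ∃ j', (line j).image τ = line j') ∧
        τ 16 = 16 ∧ τ 17 = 17 ∧ τ 0 = 0 ∧ τ 5 = 5 ∧ τ 11 = k ∧ τ 14 ∈ oval := by
    have hk' : k = 11 ∨ k = 14 := by
      have hne5 : ∀ (j : Fin 21) (p : ↥H), φ j = p → (ψ k : α) = σ p → j = 11 := by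
        intro j p hp hp'
        rw [hk5] at hp'
        have := σ.injective (Subtype.ext hp')
        exact φ.injective (hp.trans (congrArg Subtype.val this).symm)
      simp only [oval, mem_insert, mem_singleton] at hk
      rcases hk with rfl | rfl | rfl | rfl | h | h
      · exact absurd (hne5 16 a f1 g1) (by decide)
      · exact absurd (hne5 17 b f2 g2) (by decide)
      · exact absurd (hne5 0 c f3 g3) (by decide)
      · exact absurd (hne5 5 e f4 g4) (by decide)
      · exact Or.inl h
      · exact Or.inr h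
    rcases hk' with rfl | rfl
    · exact ⟨1, fun j => ⟨j, by simp⟩, rfl, rfl, rfl, rfl, rfl, by decide⟩
    · exact ⟨frob, frob_line, e1, e2, e3, e4, e5, by rw [e6]; decide⟩
  set g : Equiv.Perm α := (φ.symm.trans τ).trans ψ with hg
  have hgφ : ∀ j, g (φ j) = ψ (τ j) := fun j => by simp [hg]
  have h5 : ∀ p : ↥H, (p : α) ≠ φ 14 → g p = σ p := by
    intro p hp
    obtain ⟨j, hj, hjp⟩ := hmemφ p
    rw [← hjp, hgφ]
    simp only [oval, mem_insert, mem_singleton] at hj
    rcases hj with rfl | rfl | rfl | rfl | rfl | rfl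
    · rw [t1, g1, show p = a from Subtype.ext (hjp.symm.trans f1)]
    · rw [t2, g2, show p = b from Subtype.ext (hjp.symm.trans f2)]
    · rw [t3, g3, show p = c from Subtype.ext (hjp.symm.trans f3)]
    · rw [t4, g4, show p = e from Subtype.ext (hjp.symm.trans f4)]
    · rw [t5, hk5]; exact congrArg (fun q => (σ q : α)) (Subtype.ext hjp)
    · exact absurd hjp.symm hp
  have hgH : ∀ p : ↥H, g p = σ p := by
    intro p
    by_cases hp : (p : α) = φ 14
    swap
    · exact h5 p hp
    -- the last point is forced: `g` maps `H` into `H`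
    obtain ⟨j, hj, hjp⟩ := mem_image.1
      (show (σ p : α) ∈ oval.image ψ by rw [hψH]; exact Subtype.property _)
    have hτj : ∀ j ∈ oval, ∃ i ∈ oval, τ i = j := by
      have himg : oval.image τ = oval := by
        refine eq_of_subset_of_card_le ?_ (by rw [card_image_of_injective _ τ.injective])
        intro z hz
        obtain ⟨i, hi, rfl⟩ := mem_image.1 hz
        have hcase : ∀ i ∈ oval, τ i ∈ oval := by
          intro i hi
          by_contra hout
          simp only [oval, mem_insert, mem_singleton] at hi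
          rcases hi with rfl | rfl | rfl | rfl | rfl | rfl
          · exact hout (by rw [t1]; decide)
          · exact hout (by rw [t2]; decide)
          · exact hout (by rw [t3]; decide)
          · exact hout (by rw [t4]; decide)
          · exact hout (by rw [t5]; exact hk)
          · exact hout t6
        exact hcase i hi
      intro j hj
      exact mem_image.1 (himg.symm ▸ hj)
    obtain ⟨i, hi, rfl⟩ := hτj j hj
    by_cases hi14 : i = 14
    · rw [hp, hgφ, ← hi14, hjp]
    · have h := h5 ⟨φ i, hσk i hi⟩ (fun h => hi14 (φ.injective h))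
      rw [show g (⟨φ i, hσk i hi⟩ : ↥H) = ψ (τ i) from hgφ i, hjp] at h
      exact absurd (congrArg Subtype.val (σ.injective (Subtype.ext h))) fun h' =>
        hi14 (φ.injective (h'.symm.trans hp))
  refine ⟨g, ⟨haut τ hτ, hgH⟩, ?_⟩
  rintro g' ⟨hg', hg'H⟩
  -- `u` fixes the oval and hence every point
  have hu : g⁻¹ * g' ∈ Cfsg.setSystemAut L := mul_mem (inv_mem (haut τ hτ)) hg'
  have hufix : ∀ j ∈ oval, (g⁻¹ * g') (φ j) = φ j := fun j hj => by
    have h1 := hg'H ⟨φ j, hσk j hj⟩
    rw [← hgH ⟨φ j, hσk j hj⟩] at h1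
    simp only at h1
    rw [Equiv.Perm.mul_apply, h1, Equiv.Perm.coe_inv, Equiv.symm_apply_apply]
  have hlines : ∀ j, (line j ∩ oval).card = 2 → ∀ z ∈ line j,
      (g⁻¹ * g') (φ z) ∈ (line j).image φ := by
    intro j hj z hz
    obtain ⟨z1, z2, hz12, he⟩ := card_eq_two.1 hj
    have hm1 : z1 ∈ line j ∧ z1 ∈ oval := mem_inter.1 (he ▸ mem_insert_self _ _)
    have hm2 : z2 ∈ line j ∧ z2 ∈ oval :=
      mem_inter.1 (he ▸ mem_insert_of_mem (mem_singleton_self _))
    have hjL : (line j).image φ ∈ L := hφ ▸ ⟨_, ⟨j, rfl⟩, rfl⟩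
    have himgL : ((line j).image φ).image (g⁻¹ * g') ∈ L := by
      rw [← mem_aut.1 hu]; exact ⟨_, hjL, rfl⟩
    have : ((line j).image φ).image (g⁻¹ * g') = (line j).image φ :=
      eq_of_two hL himgL hjL (fun h => hz12 (φ.injective h))
        (mem_image.2 ⟨φ z1, mem_image_of_mem _ hm1.1, hufix _ hm1.2⟩)
        (mem_image.2 ⟨φ z2, mem_image_of_mem _ hm2.1, hufix _ hm2.2⟩)
        (mem_image_of_mem _ hm1.1) (mem_image_of_mem _ hm2.1)
    exact this ▸ mem_image_of_mem _ (mem_image_of_mem _ hz)
  have hall : g⁻¹ * g' = 1 := by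
    ext1 p
    obtain ⟨z, rfl⟩ := φ.surjective p
    by_cases hz : z ∈ oval
    · exact hufix z hz
    obtain ⟨j, j', hj, hj', hjj⟩ := secants z hz
    have hzm : z ∈ line j ∩ line j' := hjj ▸ mem_singleton_self z
    obtain ⟨hz1, hz2⟩ := mem_inter.1 hzm
    have := mem_inter.2 ⟨hlines j hj z hz1, hlines j' hj' z hz2⟩
    rw [← image_inter _ _ φ.injective, hjj, image_singleton, mem_singleton] at this
    exact this
  exact (inv_mul_eq_one.1 hall).symm

end Cfsg.Agent.S5628
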