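import Cfsg.Statements.S5632
import Cfsg.Agent.MaxSub.Subspace

set_option autoImplicit false
open Cfsg Matrix

namespace Cfsg.Agent.S5632

/-- For a finite field F and subspaces 0 < W < U of F^n with dim W + dim U = n, the elements of SL_n(F) stabilising both W and U form a subgroup that is not maximal in SL_n(F): some subgroup lies strictly between it and SL_n(F). -/
theorem result {F : Type*} [Field F] [Fintype F] (n : ℕ) (W U : Submodule F (Fin n → F)) (hW0 : W ≠ ⊥) (hWU : W < U) (hdim : Module.finrank F W + Module.finrank F U = n) : ∃ K : Subgroup (Matrix.GeneralLinearGroup (Fin n) F), Cfsg.Geo.subspaceStabilizer W ⊓ Cfsg.Geo.subspaceStabilizer U ⊓ Cfsg.Geo.specialLinear (Fin n) F < K ∧ K < Cfsg.Geo.specialLinear (Fin n) F := by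
  have hU1 : U ≠ ⊤ := by
    rintro rfl
    rw [finrank_top, Module.finrank_fin_fun] at hdim
    have h0 : Module.finrank F W = 0 := by omega
    exact hW0 (Submodule.finrank_eq_zero.mp h0)
  have hW1 : W ≠ ⊤ := fun h => not_top_lt (h ▸ hWU : (⊤ : Submodule F (Fin n → F)) < U)
  obtain ⟨u, huU, huW⟩ := SetLike.exists_of_lt hWU
  obtain ⟨v, -, hv⟩ := SetLike.exists_of_lt (lt_top_iff_ne_top.mpr hU1)
  -- an axis vanishing on `W` and `v` but not on `u`
  have hu : u ∉ W ⊔ Submodule.span F {v} := by
    rw [Submodule.mem_sup]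
    rintro ⟨w, hw, z, hz, rfl⟩
    obtain ⟨c, rfl⟩ := Submodule.mem_span_singleton.mp hz
    rcases eq_or_ne c 0 with rfl | hc
    · exact huW (by simpa using hw)
    · apply hv
      rw [← inv_smul_smul₀ hc v]
      refine U.smul_mem _ ?_
      simpa using U.sub_mem huU (hWU.le hw)
  obtain ⟨a, ha, hau⟩ := CfsgLib.MaxSub.exists_dot_of_notMem _ hu
  have hav : a ⬝ᵥ v = 0 :=
    ha v (Submodule.mem_sup_right (Submodule.mem_span_singleton_self v))
  refine CfsgLib.MaxSub.not_maximal_pair hW0 hW1
    (CfsgLib.MaxSub.tv_mem_stabilizer_of_axis hav fun w hw => ha w (Submodule.mem_sup_left hw))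
    fun h => hv ?_
  have := (CfsgLib.MaxSub.mem_subspaceStabilizer_iff.mp h u).mp huU
  rw [CfsgLib.MaxSub.tv_mulVec hav, hau, one_smul] at this
  simpa using U.sub_mem this huU

end Cfsg.Agent.S5632
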