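import Cfsg.Statements.S5633
import Cfsg.Agent.MaxSub.Subspace

set_option autoImplicit false
open Cfsg Matrix

namespace Cfsg.Agent.S5633

/-- For a finite field F and complementary non-zero subspaces W ⊕ U = F^n with dim W < dim U, the elements of SL_n(F) stabilising both W and U form a subgroup that is not maximal in SL_n(F): some subgroup lies strictly between it and SL_n(F). -/
theorem result {F : Type*} [Field F] [Fintype F] (n : ℕ) (W U : Submodule F (Fin n → F)) (hW0 : W ≠ ⊥) (hWU : W ⊓ U = ⊥) (hWU' : W ⊔ U = ⊤) (hdim : Module.finrank F W < Module.finrank F U) : ∃ K : Subgroup (Matrix.GeneralLinearGroup (Fin n) F), Cfsg.Geo.subspaceStabilizer W ⊓ Cfsg.Geo.subspaceStabilizer U ⊓ Cfsg.Geo.specialLinear (Fin n) F < K ∧ K < Cfsg.Geo.specialLinear (Fin n) F := by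
  have hU0 : U ≠ ⊥ := by rintro rfl; simp at hdim
  have hW1 : W ≠ ⊤ := by
    rintro rfl
    exact hU0 (by simpa using hWU)
  obtain ⟨w, hwW, hw0⟩ := Submodule.exists_mem_ne_zero_of_ne_bot hW0
  obtain ⟨u, huU, hu0⟩ := Submodule.exists_mem_ne_zero_of_ne_bot hU0
  have hwU : w ∉ U := fun h => hw0 (by simpa [hWU] using (Submodule.mem_inf.mpr ⟨hwW, h⟩ : w ∈ W ⊓ U))
  have hne : ∀ c : F, c • w ≠ u := by
    intro c hc
    have huW : u ∈ W := hc ▸ W.smul_mem c hwW
    exact hu0 (by simpa [hWU] using (Submodule.mem_inf.mpr ⟨huW, huU⟩ : u ∈ W ⊓ U))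
  obtain ⟨a, haw, hau⟩ := CfsgLib.MaxSub.exists_axis hne
  refine CfsgLib.MaxSub.not_maximal_pair hW0 hW1
    (CfsgLib.MaxSub.tv_mem_stabilizer_of_centre haw hwW) fun h => hwU ?_
  have := (CfsgLib.MaxSub.mem_subspaceStabilizer_iff.mp h u).mp huU
  rw [CfsgLib.MaxSub.tv_mulVec haw, hau, one_smul] at this
  simpa using U.sub_mem this huU

end Cfsg.Agent.S5633
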