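import Cfsg.Statements.S5651
import Cfsg.Agent.SympPow.Sp
import Cfsg.Agent.SympPow.Dim

set_option autoImplicit false
open Cfsg

namespace Cfsg.Agent.S5651

/-- Let p be an odd prime, F the field with p elements, and m ≥ 7. Let R be a 2-subgroup of GL_2m(F) of exponent 4 in which every characteristic abelian subgroup is cyclic, of order 2^(1+2k) with centre of order 2 and with no elementary abelian subgroup of order 2^(k+1) (minus type), acting absolutely irreducibly on F^(2m) and consisting of isometries of the standard alternating form. Then the elements of Sp_2m(F) normalising R form a maximal subgroup of Sp_2m(F). -/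
theorem result {F : Type*} [Field F] [Fintype F] (m : ℕ) (hm : 7 ≤ m) (p k : ℕ) (hp : p.Prime) (hpo : Odd p) (hF : Fintype.card F = p) (R : Subgroup (Matrix.GeneralLinearGroup (Fin m ⊕ Fin m) F)) (hR : Cfsg.Geo.IsSymplecticTypeGroup 2 R) (hirr : Cfsg.Geo.ActsAbsolutelyIrreducibly (Cfsg.Geo.matrixSet R)) (hRD : R ≤ Cfsg.spGL m F) (hcard : Nat.card R = 2 ^ (1 + 2 * k)) (hZ : Nat.card (Subgroup.center R) = 2) (hminus : Cfsg.Geo.IsOfMinusType k R) : Cfsg.Geo.IsMaximalIn (Cfsg.spGL m F) (Cfsg.Geo.subgroupNormalizer R ⊓ Cfsg.spGL m F) := by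
  have h2 : (2 : F) ≠ 0 := CfsgLib.MaxSub.two_ne_zero_of_odd (hF ▸ hpo)
  haveI : Nonempty (Fin m ⊕ Fin m) := ⟨Sum.inl ⟨0, by omega⟩⟩
  have D := CfsgLib.SympType.Data.of_symplecticType h2 hR hirr
  have h := CfsgLib.SympPow.card_eq D
  rw [hcard, hZ, Fintype.card_sum, Fintype.card_fin, pow_add, pow_one, mul_comm 2 k, pow_mul] at h
  have hmk : 2 ^ k = m + m :=
    Nat.pow_left_injective two_ne_zero (Nat.eq_of_mul_eq_mul_left two_pos h : (2 ^ k) ^ 2 = (m + m) ^ 2)
  have hk : 4 ≤ k := by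
    by_contra hlt
    have : (2 : ℕ) ^ k ≤ 2 ^ 3 := Nat.pow_le_pow_right (by norm_num) (by omega)
    omega
  obtain ⟨j, rfl⟩ : ∃ j, k = j + 3 := ⟨k - 3, by omega⟩
  obtain rfl : m = 2 ^ (j + 2) := by rw [pow_succ] at hmk; omega
  exact CfsgLib.SympPow.isMaximalIn_sp_pow hp hpo hF j R D hRD hcard hminus

end Cfsg.Agent.S5651
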