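import Cfsg.Statements.S5666
import Cfsg.Agent.TensorSympOrth.Main

set_option autoImplicit false
open Cfsg

namespace Cfsg.Agent.S5666

/-- For a finite field F of odd order q and m ≥ 7, suppose the standard alternating form on F^(2m) is similar, through a change of basis P and a bijection of index sets e, to the tensor product of a non-degenerate symplectic form f₁ on F^(n₁) and a non-degenerate symmetric bilinear form f₂ on F^(n₂) with n₂ ≥ 3. Unless q = 3 and n₂ = 3, the elements of Sp_2m(F) in the stabiliser of this tensor decomposition (the conjugate by P of the Kronecker-product subgroup transported along e) form a maximal subgroup of Sp_2m(F). -/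
theorem result {F : Type*} [Field F] [Fintype F] (m : ℕ) (hm : 7 ≤ m) (hodd : Odd (Fintype.card F)) (n₁ n₂ : ℕ) (hn₂ : 3 ≤ n₂) (hex : ¬ (Fintype.card F = 3 ∧ n₂ = 3)) (e : (Fin m ⊕ Fin m) ≃ Fin n₁ × Fin n₂) (P : Matrix.GeneralLinearGroup (Fin m ⊕ Fin m) F) (f₁ : (Fin n₁ → F) → (Fin n₁ → F) → F) (f₂ : (Fin n₂ → F) → (Fin n₂ → F) → F) (hf₁ : Cfsg.Geo.IsSymplecticForm f₁) (hf₂ : Cfsg.Geo.IsSymmetricForm f₂) (hT : Cfsg.Geo.IsTensorFormStructure id (Cfsg.sympForm m F) f₁ f₂ e P) : Cfsg.Geo.IsMaximalIn (Cfsg.spGL m F) (Cfsg.Geo.tensorProductSubgroup n₁ n₂ e P ⊓ Cfsg.spGL m F) := by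
  have h2 : (2 : F) ≠ 0 := fun h => by
    have hc : ringChar F = 2 := (Nat.prime_dvd_prime_iff_eq (CharP.char_is_prime F _) Nat.prime_two).mp
      ((ringChar.spec F 2).mp h)
    exact Nat.not_even_iff_odd.mpr hodd
      (Nat.even_iff.mpr (FiniteField.even_card_iff_char_two.mp hc))
  have hcard := Fintype.card_congr e
  simp only [Fintype.card_sum, Fintype.card_fin, Fintype.card_prod] at hcard
  have ha : 2 ≤ n₁ := by
    rcases Nat.lt_or_ge n₁ 2 with h | h
    · interval_cases n₁
      · simp at hcard; omega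
      · have e1 := hf₁.alternating
        obtain ⟨⟨x, hx⟩, -⟩ := hf₁.nondegenerate (fun _ => (1 : F)) (fun h => one_ne_zero (congrFun h 0))
        refine absurd ?_ hx
        have hxe : x = x 0 • (fun _ => (1 : F)) := funext fun i => by
          rw [Subsingleton.elim i 0]; simp
        rw [hxe, hf₁.bilinear.smul_left, e1, mul_zero]
    · exact h
  refine CfsgLib.TensorSympOrth.isMaximalIn_tensorSympOrth h2 ha hn₂ ?_ e P hf₁ hf₂ hT
  rcases Nat.lt_or_ge n₂ 5 with h5 | h5
  swap
  · exact Or.inl h5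
  refine Or.inr ⟨?_, ?_⟩
  · by_contra h4
    interval_cases n₁ <;> omega
  · rcases Nat.lt_or_ge n₂ 4 with h4 | h4
    · refine Or.inr ?_
      have h1 := Fintype.one_lt_card (α := F)
      have h3 : Fintype.card F ≠ 3 := fun h => hex ⟨h, by omega⟩
      obtain ⟨r, hr⟩ := hodd
      omega
    · exact Or.inl (by omega)

end Cfsg.Agent.S5666
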