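import Cfsg.Statements.S5670
import Cfsg.Agent.TensorUnitary.Main

set_option autoImplicit false
open Cfsg

namespace Cfsg.Agent.S5670

/-- Stabilisers of tensor decompositions are maximal in the special unitary group. -/
theorem result {F : Type*} [Field F] [Fintype F] (n q : ℕ) (hF : Fintype.card F = q ^ 2) (hn : 13 ≤ n) (n₁ n₂ : ℕ) (h1 : 2 ≤ n₁) (h12 : n₁ < n₂) (hex : ¬ (n₁ = 2 ∧ q = 2)) (e : Fin n ≃ Fin n₁ × Fin n₂) (P : Matrix.GeneralLinearGroup (Fin n) F) (f₁ : (Fin n₁ → F) → (Fin n₁ → F) → F) (f₂ : (Fin n₂ → F) → (Fin n₂ → F) → F) (hf₁ : Cfsg.Geo.IsUnitaryFormPow q f₁) (hf₂ : Cfsg.Geo.IsUnitaryFormPow q f₂) (hT : Cfsg.Geo.IsTensorFormStructure (fun x : F => x ^ q) (Cfsg.hermForm n F q) f₁ f₂ e P) : Cfsg.Geo.IsMaximalIn (Cfsg.GU n F q ⊓ Cfsg.Geo.specialLinear (Fin n) F) (Cfsg.Geo.tensorProductSubgroup n₁ n₂ e P ⊓ (Cfsg.GU n F q ⊓ Cfsg.Geo.specialLinear (Fin n) F))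 := by
  obtain ⟨σ, hne, hinv, hσ⟩ := CfsgLib.MaxSub.exists_conjEquiv hF
  have hmul : n = n₁ * n₂ := by simpa using Fintype.card_congr e
  have hb : 5 ≤ n₂ := by
    by_contra h
    have h2 : n₁ ≤ 3 := by omega
    have h3 : n₂ ≤ 4 := by omega
    have := Nat.mul_le_mul h2 h3
    omega
  refine CfsgLib.TensorUnitary.isMaximalIn_tensor hF hσ (by omega) h1 h12 hb ?_ e P
    ⟨hne, hinv, hf₁.add_left, hf₁.smul_left, fun v w => by rw [hσ]; exact hf₁.herm v w, hf₁.nondegenerate⟩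
    ⟨hne, hinv, hf₂.add_left, hf₂.smul_left, fun v w => by rw [hσ]; exact hf₂.herm v w, hf₂.nondegenerate⟩ hT
  rcases Nat.lt_or_ge 2 n₁ with h | h
  · exact Or.inl h
  refine Or.inr (CfsgLib.TensorUnitary.exists_fixed_ne hF hσ ?_)
  intro hq
  exact hex ⟨by omega, hq⟩

end Cfsg.Agent.S5670
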