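import Cfsg.Statements.S5677
import Cfsg.Agent.OrthMax.DecompMax
import Cfsg.Agent.OrthMax.Models

set_option autoImplicit false
open Cfsg

namespace Cfsg.Agent.S5677

/-- Let F be a finite field of odd order q, m ≥ 6, Q the standard quadratic form on F^(2m+1) and Ω the commutator subgroup of its isometry group. Let D be a decomposition of F^(2m+1) into t ≥ 2 pairwise orthogonal, pairwise Q-isometric subspaces of equal dimension k > 1 on which the polar form is non-degenerate. Unless q = 3 and k = 3, the elements of Ω permuting the members of D form a maximal subgroup of Ω. -/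
theorem result {F : Type*} [Field F] [Fintype F] (hodd : Odd (Fintype.card F)) (m : ℕ) (hm : 6 ≤ m) {t : ℕ} (k : ℕ) (hk : 1 < k) (D : Fin t → Submodule F (Unit ⊕ (Fin m ⊕ Fin m) → F)) (hD : Cfsg.Geo.IsOrthogonalMDecomposition (Cfsg.quadFormOdd m F) k D) (hex : ¬ (Fintype.card F = 3 ∧ k = 3)) : Cfsg.Geo.IsMaximalIn (Cfsg.Geo.omegaGL (Cfsg.quadFormOdd m F)) (Cfsg.Geo.decompositionStabilizer D ⊓ Cfsg.Geo.omegaGL (Cfsg.quadFormOdd m F)) := by
  have hodd' : (2 : F) ≠ 0 := fun h2 => by
    haveI : CharP F 2 := CharTwo.of_one_ne_zero_of_two_eq_zero one_ne_zero h2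
    exact Nat.not_even_iff_odd.2 hodd (Nat.even_iff.2 (FiniteField.even_card_of_char_two (ringChar.eq F 2)))
  have hQ := CfsgLib.OrthMax.quadFormOdd_isNondeg (F := F) hodd m
  have h := CfsgLib.OrthMax.dsys_of_decomp hQ hD
  have htk : t * k = 2 * m + 1 := by
    rw [CfsgLib.OrthMax.mdecomp_card hD.decomp.decomp, CfsgLib.OrthMax.card_odd_index]
  have hk3 : 3 ≤ k := by
    by_contra hlt
    obtain rfl : k = 2 := by omega
    omega
  have h3 : k = 3 → 3 < Fintype.card F := fun hk => by
    have h1 := Fintype.one_lt_card (α := F)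
    obtain ⟨r, hr⟩ := hodd
    have : Fintype.card F ≠ 3 := fun h => hex ⟨h, hk⟩
    omega
  have hline : CfsgLib.OrthMax.NoLine (CfsgLib.AschbacherQuad.quadForm hQ) k D := fun h4 => by
    subst h4
    omega
  have := CfsgLib.OrthMax.isMaximalIn_decomp h (by rw [CfsgLib.OrthMax.card_odd_index]; omega) hk3 (fun _ => hodd')
    h3 hline
  rw [CfsgLib.AschbacherQuad.coe_quadForm] at this
  exact this

end Cfsg.Agent.S5677
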