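import Cfsg.Statements.S5680
import Cfsg.Agent.OrthExtGen.Subalgebra
import Cfsg.Agent.OrthMono.MaximalOdd

set_option autoImplicit false
open Cfsg

namespace Cfsg.Agent.S5680

/-- Let F be a finite field of odd order, m ≥ 6, Q the standard quadratic form on F^(2m+1) and Ω the commutator subgroup of its isometry group. Let K be a subfield of the algebra of (2m+1) × (2m+1) matrices over F containing the scalars, of prime degree r over F with r ≠ 2m + 1, whose elements are self-adjoint for the polar form of Q. Then the elements of Ω normalising K form a maximal subgroup of Ω. -/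
theorem result {F : Type*} [Field F] [Fintype F] (hodd : Odd (Fintype.card F)) (m : ℕ) (hm : 6 ≤ m) (r : ℕ) (hr : r.Prime) (hrn : 2 * m + 1 ≠ r) (K : Subalgebra F (Matrix (Unit ⊕ (Fin m ⊕ Fin m)) (Unit ⊕ (Fin m ⊕ Fin m)) F)) (hK : Cfsg.Geo.IsFieldSubalgebra r K) (hsa : Cfsg.Geo.IsSelfAdjointFor (QuadraticMap.polar (Cfsg.quadFormOdd m F)) K) : Cfsg.Geo.IsMaximalIn (Cfsg.Geo.omegaGL (Cfsg.quadFormOdd m F)) (Cfsg.Geo.subalgebraNormalizer K ⊓ Cfsg.Geo.omegaGL (Cfsg.quadFormOdd m F)) := by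
  have hQ := CfsgLib.OrthMax.quadFormOdd_isNondeg (F := F) hodd m
  have hc : Fintype.card (Unit ⊕ (Fin m ⊕ Fin m)) = 2 * m + 1 := CfsgLib.OrthMax.card_odd_index m
  obtain ⟨N, hN⟩ : r ∣ 2 * m + 1 := hc ▸ CfsgLib.OrthExtGen.dvd_card hK
  have hr2 : r ≠ 2 := by rintro rfl; omega
  have h3 : 3 ≤ N := by
    rcases (show N = 0 ∨ N = 1 ∨ N = 2 ∨ 3 ≤ N by omega) with rfl | rfl | rfl | h <;> omega
  have : r * 3 ≤ r * N := Nat.mul_le_mul_left r h3
  exact CfsgLib.OrthExtGen.isMaximalIn_selfAdjoint_prime hQ hodd hr hr2 (by omega) (fun _ => by omega) hK hsa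

end Cfsg.Agent.S5680
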