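import Cfsg.Statements.S5699
import Cfsg.Agent.OrthMax.NondegenerateWrap
open CfsgLib.OrthMax CfsgLib.OmegaOrbits CfsgLib.Spinor

set_option autoImplicit false
open Cfsg

namespace Cfsg.Agent.S5699

/-- Let F be a finite field with q elements, n ≥ 13 even, Q a non-degenerate quadratic form on F^n (of either type), and Ω the commutator subgroup of the isometry group of Q, viewed inside GL_n(F). Let D be a decomposition of F^n into two orthogonal subspaces of odd dimension n/2 on which the polar form is non-degenerate and which are not Q-isometric to each other. Then the elements of Ω permuting (necessarily fixing) the two subspaces form a maximal subgroup of Ω. -/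
theorem result {F : Type*} [Field F] [Fintype F] {n : ℕ} (hn : 13 ≤ n) (heven : Even n) (Q : (Fin n → F) → F) (hQ : Cfsg.Geo.IsNondegenerateQuadraticForm Q) (k : ℕ) (hk : 2 * k = n) (hko : Odd k) (D : Fin 2 → Submodule F (Fin n → F)) (hD : Cfsg.Geo.IsNondegenerateMDecomposition (QuadraticMap.polar Q) k D) (hni : ¬ Cfsg.Geo.AreIsometricFor Q (D 0) (D 1)) : Cfsg.Geo.IsMaximalIn (Cfsg.Geo.omegaGL Q) (Cfsg.Geo.decompositionStabilizer D ⊓ Cfsg.Geo.omegaGL Q) := by
  set q := CfsgLib.AschbacherQuad.quadForm hQ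
  have hq := CfsgLib.AschbacherQuad.quadForm_nondegenerate hQ
  have hk0 : Module.finrank F (D 0) = k := hD.decomp.finrank_eq 0
  have hk1 : Module.finrank F (D 1) = k := hD.decomp.finrank_eq 1
  have hn0 : Nd q (D 0) := nd_of_isNondegenerateOn (hD.nondegenerate 0)
  have hperp : D 1 = qperp q (D 0) := Submodule.eq_of_le_of_finrank_eq
    (fun x hx => mem_qperp.2 fun w hw => hD.orthogonal 0 1 (by decide) w hw x hx)
    (by rw [finrank_qperp hq, hk0, hk1, Fintype.card_fin]; omega)
  have hswap : ∀ g : Isom q, gmap g (D 1) ≠ D 0 := fun g h => by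
    let e : D 1 ≃ₗ[F] D 0 :=
      (Submodule.equivMapOfInjective _ (mulVec_injective g) (D 1)).trans (LinearEquiv.ofEq _ _ h)
    refine hni ⟨e.symm, fun w => ?_⟩
    obtain ⟨v, rfl⟩ := e.surjective w
    rw [LinearEquiv.symm_apply_apply]
    show q (v : Fin n → F) = q (Matrix.mulVec (mat q g) (v : Fin n → F))
    rw [quad_mulVec]
  have hmax := isMaximalIn_nd hq hn0 (fun h => by rw [h, finrank_bot] at hk0; omega)
    (by rw [← hperp]; omega) (by rw [← hperp]; omega) (fun g _ => by rw [← hperp]; exact hswap g)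
    (fun h => by rw [hk0] at h; omega)
  show Geo.IsMaximalIn (Geo.omegaGL ⇑q) (Geo.decompositionStabilizer D ⊓ Geo.omegaGL ⇑q)
  suffices Geo.decompositionStabilizer D ⊓ Geo.omegaGL ⇑q = Geo.subspaceStabilizer (D 0) ⊓ Geo.omegaGL ⇑q by
    rw [this]; exact hmax
  ext x
  constructor
  · rintro ⟨⟨σ, hσ⟩, hx⟩
    refine ⟨?_, hx⟩
    have h1 : σ 1 = 1 := by
      obtain ⟨g, -, rfl⟩ := hx
      have h := hσ 1
      rcases Fin.exists_fin_two.1 ⟨σ 1, rfl⟩ with h0 | h1
      · rw [h0] at h
        exact absurd h (hswap g)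
      · exact h1
    have h0 : σ 0 = 0 := by
      by_contra hne
      exact absurd (σ.injective ((Fin.eq_one_of_ne_zero _ hne).trans h1.symm)) (by decide)
    have h := hσ 0
    rw [h0] at h
    exact CfsgLib.MaxSub.mem_subspaceStabilizer_of_le fun u hu => h ▸ Submodule.mem_map_of_mem hu
  · rintro ⟨hs, hx⟩
    obtain ⟨g, hg, rfl⟩ := hx
    have hW : gmap g (D 0) = D 0 := gmap_eq_of_le g fun u hu => (CfsgLib.MaxSub.mem_subspaceStabilizer_iff.1 hs u).1 hu
    refine ⟨⟨1, fun i => ?_⟩, g, hg, rfl⟩
    fin_cases i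
    · exact hW
    · have := gmap_qperp hq hW
      rw [← hperp] at this
      exact this

end Cfsg.Agent.S5699
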