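import Cfsg.Statements.S5703
import Cfsg.Agent.OrthPow.Main
import Cfsg.Agent.OrthPow.Transport
import Cfsg.Agent.SympPow.Dim

set_option autoImplicit false
open Cfsg

namespace Cfsg.Agent.S5703

/-- Let p be an odd prime, F the field with p elements, n ≥ 13 even, Q a non-degenerate quadratic form on F^n of plus type and Ω the commutator subgroup of its isometry group. Let R be a 2-subgroup of GL_n(F) of exponent 4 in which every characteristic abelian subgroup is cyclic, of order 2^(1+2k) with centre of order 2 and containing an elementary abelian subgroup of order 2^(k+1) (plus type), acting absolutely irreducibly and consisting of isometries of Q. Then the elements of Ω normalising R form a maximal subgroup of Ω. -/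
theorem result {F : Type*} [Field F] [Fintype F] {n : ℕ} (hn : 13 ≤ n) (heven : Even n) (Q : (Fin n → F) → F) (hQ : Cfsg.Geo.IsNondegenerateQuadraticForm Q) (hplus : Cfsg.Geo.IsPlusTypeOn Q ⊤) (p k : ℕ) (hp : p.Prime) (hpo : Odd p) (hF : Fintype.card F = p) (R : Subgroup (Matrix.GeneralLinearGroup (Fin n) F)) (hR : Cfsg.Geo.IsSymplecticTypeGroup 2 R) (hirr : Cfsg.Geo.ActsAbsolutelyIrreducibly (Cfsg.Geo.matrixSet R)) (hRD : R ≤ Cfsg.isometryGroup F Q) (hcard : Nat.card R = 2 ^ (1 + 2 * k)) (hZ : Nat.card (Subgroup.center R) = 2) (hpt : Cfsg.Geo.IsOfPlusType k R) : Cfsg.Geo.IsMaximalIn (Cfsg.Geo.omegaGL Q) (Cfsg.Geo.subgroupNormalizer R ⊓ Cfsg.Geo.omegaGL Q) := by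
  have h2 : (2 : F) ≠ 0 := CfsgLib.MaxSub.two_ne_zero_of_odd (hF ▸ hpo)
  haveI : Nonempty (Fin n) := ⟨⟨0, by omega⟩⟩
  have D := CfsgLib.SympType.Data.of_symplecticType h2 hR hirr
  have h := CfsgLib.SympPow.card_eq D
  rw [hcard, hZ, Fintype.card_fin, pow_add, pow_one, mul_comm 2 k, pow_mul] at h
  have hnk : 2 ^ k = n :=
    Nat.pow_left_injective two_ne_zero (Nat.eq_of_mul_eq_mul_left two_pos h : (2 ^ k) ^ 2 = n ^ 2)
  have hk : 4 ≤ k := by
    by_contra hlt
    have : (2 : ℕ) ^ k ≤ 2 ^ 3 := Nat.pow_le_pow_right (by norm_num) (by omega)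
    omega
  obtain ⟨j, rfl⟩ : ∃ j, k = j + 4 := ⟨k - 4, by omega⟩
  obtain ⟨m, hm⟩ : ∃ m, m = 2 ^ (j + 3) := ⟨_, rfl⟩
  have hml : m = 2 ^ (j + 2) + 2 ^ (j + 2) := by rw [hm]; ring
  have hm8 : 8 ≤ m := by
    have : (2 : ℕ) ^ 3 ≤ 2 ^ (j + 3) := Nat.pow_le_pow_right (by norm_num) (by omega)
    omega
  have hnm : n = m + m := by rw [← hnk, hm]; ring
  have h8 : 8 ≤ Fintype.card (Fin n) := by rw [Fintype.card_fin]; omega
  obtain ⟨y, hy, hyns⟩ := D.exists_nonscalar (by rw [Fintype.card_fin]; omega)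
  obtain ⟨x, hx, hx2, -, -⟩ := D.exists_root_comm h8 hy hyns
  obtain ⟨M, N, hMN, hNM, hO, hΩ⟩ :=
    CfsgLib.OrthPow.exists_transport h2 (m := m) (by rw [Fintype.card_fin]; exact hnm) hQ (hRD hx) hx2
  refine CfsgLib.SympType.isMaximalIn_of_comap (CfsgLib.SympType.coordEquiv M N hMN hNM) ?_
  rw [Subgroup.comap_inf, CfsgLib.SympType.normalizer_comap, hΩ]
  haveI : Nonempty (Fin m ⊕ Fin m) := ⟨Sum.inl ⟨0, by omega⟩⟩
  have D' := D.comap (M := M) (N := N) (hMN := hMN) (hNM := hNM)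
  have hR' : R.comap (CfsgLib.SympType.coordEquiv M N hMN hNM).toMonoidHom ≤
      CfsgLib.OrthPow.orth (Fin m ⊕ Fin m) F := hO ▸ Subgroup.comap_mono hRD
  have hcard' : Nat.card (R.comap (CfsgLib.SympType.coordEquiv M N hMN hNM).toMonoidHom) = 2 ^ (1 + 2 * (j + 4)) := by
    rw [← hcard]
    exact Nat.card_congr ((CfsgLib.SympType.coordEquiv M N hMN hNM).toEquiv.subtypeEquiv fun g => Iff.rfl)
  have hFp : (Fintype.card F).Prime := hF ▸ hp
  have hl2 : 2 ∣ 2 ^ (j + 2) := dvd_pow_self 2 (by omega)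
  haveI : Fact p.Prime := ⟨hp⟩
  by_cases hp4 : p % 4 = 3
  · letI : Fintype (GaloisField p 2) := Fintype.ofFinite _
    have hL : Fintype.card (GaloisField p 2) = p ^ 2 := by
      rw [← Nat.card_eq_fintype_card, GaloisField.card p 2 two_ne_zero]
    obtain ⟨ψ⟩ := CfsgLib.FieldEmb.exists_ringHom (by norm_num : 1 ≤ 2) hF hL
    obtain ⟨c, hc⟩ : IsSquare (-1 : GaloisField p 2) := FiniteField.isSquare_neg_one_iff.2 (by
      rw [hL, Nat.pow_mod, hp4]; norm_num)
    exact CfsgLib.OrthPow.isMaximalIn_omega_pow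
      (CfsgLib.SympPow.thetaBase_unitary (ψ := ψ) hp hF hp4 hL hc.symm hm (by omega))
      (CfsgLib.OrthPow.kerDet_le_commutator_unitary hp hF hp4 hL hc.symm (by omega)) hml hl2 hm8 D' hR' hcard'
  · obtain ⟨c, hc⟩ : IsSquare (-1 : F) := FiniteField.isSquare_neg_one_iff.2 (by rw [hF]; exact hp4)
    exact CfsgLib.OrthPow.isMaximalIn_omega_pow
      (CfsgLib.SympPow.thetaBase_linear hFp h2 hc.symm hm (by omega))
      (CfsgLib.OrthPow.kerDet_le_commutator_linear hc.symm h2 (by omega)) hml hl2 hm8 D' hR' hcard'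

end Cfsg.Agent.S5703
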