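import Cfsg.Statements.S5704
import Cfsg.Agent.TensorOrth.Symplectic
import Cfsg.Agent.TensorOrth.Structure

set_option autoImplicit false
open Cfsg

namespace Cfsg.Agent.S5704

/-- Let F be a finite field with q elements, n ≥ 13 even, Q a non-degenerate quadratic form on F^n of plus type (some subspace of dimension n/2 is totally singular), and Ω the commutator subgroup of the isometry group of Q, viewed inside GL_n(F). Suppose that, through a change of basis P and a bijection of index sets e, the polar form of Q is similar to the tensor product of non-degenerate symplectic forms f₁ on F^(n₁) and f₂ on F^(n₂) with n₁ < n₂, and Q vanishes on the images of all pure tensors. Unless q = 2 and n₁ = 2, the elements of Ω in the stabiliser of this tensor decomposition form a maximal subgroup of Ω. -/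
theorem result {F : Type*} [Field F] [Fintype F] {n : ℕ} (hn : 13 ≤ n) (heven : Even n) (Q : (Fin n → F) → F) (hQ : Cfsg.Geo.IsNondegenerateQuadraticForm Q) (hplus : Cfsg.Geo.IsPlusTypeOn Q ⊤) (n₁ n₂ : ℕ) (h12 : n₁ < n₂) (hex : ¬ (Fintype.card F = 2 ∧ n₁ = 2)) (e : (Fin n) ≃ Fin n₁ × Fin n₂) (P : Matrix.GeneralLinearGroup (Fin n) F) (f₁ : (Fin n₁ → F) → (Fin n₁ → F) → F) (f₂ : (Fin n₂ → F) → (Fin n₂ → F) → F) (hf₁ : Cfsg.Geo.IsSymplecticForm f₁) (hf₂ : Cfsg.Geo.IsSymplecticForm f₂) (hT : Cfsg.Geo.IsTensorFormStructure id (QuadraticMap.polar Q) f₁ f₂ e P) (hpure : (∀ (x₁ : Fin n₁ → F) (x₂ : Fin n₂ → F), Q (Matrix.mulVec (P : Matrix (Fin n) (Fin n) F) ((fun a : Fin n₁ × Fin n₂ => x₁ a.1 * x₂ a.2) ∘ e)) = 0)) : Cfsg.Geo.IsMaximalIn (Cfsg.Geo.omegaGL Q) (Cfsg.Geo.tensorProductSubgroup n₁ n₂ e P ⊓ Cfsg.Geo.omegaGL Q) := by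
  obtain ⟨c, hc0, hT⟩ := hT
  set q := CfsgLib.AschbacherQuad.quadForm hQ
  set J := CfsgLib.AschbacherForms.coords e P
  set q' := CfsgLib.TensorOrth.coordQuad q e P
  set B₁ := CfsgLib.TensorOrth.bilinOf hf₁.bilinear c
  set B₂ := CfsgLib.TensorOrth.bilinOf hf₂.bilinear 1
  have hS : CfsgLib.TensorOrth.TSet q' B₁ B₂ (-1) := by
    refine ⟨CfsgLib.TensorOrth.coordQuad_nondeg (CfsgLib.AschbacherQuad.quadForm_nondegenerate hQ) e P,
      CfsgLib.TensorOrth.fac_of_symplectic hf₁ hc0, CfsgLib.TensorOrth.fac_of_symplectic hf₂ one_ne_zero,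
      fun x x' y y' => ?_, fun x y _ => hpure x y⟩
    rw [CfsgLib.TensorOrth.polar_coordQuad, CfsgLib.TensorOrth.bilinOf_apply,
      CfsgLib.TensorOrth.bilinOf_apply, one_mul, mul_assoc,
      ← CfsgLib.TensorOrth.formOfGram_kron_ten hf₁.bilinear hf₂.bilinear]
    exact hT _ _
  have hcard : n = n₁ * n₂ := by simpa using Fintype.card_congr e
  have ha : 2 ≤ n₁ := by
    by_contra h
    rcases (by omega : n₁ = 0 ∨ n₁ = 1) with rfl | rfl
    · simp at hcard; omega
    · obtain ⟨⟨x, hx⟩, -⟩ := hf₁.nondegenerate (fun _ => (1 : F))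
        (fun h => one_ne_zero (congrFun h 0))
      refine hx ?_
      rw [show x = x 0 • (fun _ => (1 : F)) from funext fun i => by rw [Subsingleton.elim i 0]; simp,
        hf₁.bilinear.smul_left, hf₁.alternating, mul_zero]
  have hb : 5 ≤ n₂ := by
    by_contra h
    have : n₁ * n₂ ≤ 3 * 4 := Nat.mul_le_mul (by omega) (by omega)
    omega
  have hex' : Nat.card F ≠ 2 ∨ 3 ≤ n₁ := by
    rw [Nat.card_eq_fintype_card]
    by_contra h
    push Not at h
    exact hex ⟨h.1, by omega⟩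
  have halt : ∀ x, B₁ x x = 0 := fun x => by
    rw [CfsgLib.TensorOrth.bilinOf_apply, hf₁.alternating, mul_zero]
  have h5 : 5 ≤ n₁ * n₂ := by omega
  refine CfsgLib.TensorOrth.isMaximalIn_of_coord q e P
    (CfsgLib.OrthMax.isMaximalIn_omega (Q := q') _ ?_ fun M hM g hgM hgΩ hgK =>
      hS.omega_le_of_alt halt ha hb h12 hex' hM hgM hgΩ hgK)
  have halt₂ : ∀ y, B₂ y y = 0 := fun y => by
    rw [CfsgLib.TensorOrth.bilinOf_apply, hf₂.alternating, mul_zero]
  exact hS.exists_omega_notMem h5 (by omega) (γ := Pi.single ⟨0, by omega⟩ 1) (by simp) (halt _)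
    (c := Pi.single ⟨0, by omega⟩ 1) (by simp) (halt₂ _)

end Cfsg.Agent.S5704
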