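import Cfsg.Statements.S5705
import Cfsg.Agent.TensorNonmax.Basic
-- import your own Cfsg.Agent.* helpers here

set_option autoImplicit false
open Cfsg

namespace Cfsg.Agent.S5705

open CfsgLib.TensorNonmax
open scoped Matrix Kronecker

variable {F : Type*} [Field F] [Fintype F]

lemma eq_zero_or_one (hq : Fintype.card F = 2) (x : F) : x = 0 ∨ x = 1 := by
  classical
  by_contra h
  push Not at h
  have h3 : ({0, 1, x} : Finset F).card ≤ 2 := hq ▸ Finset.card_le_univ _
  rw [Finset.card_insert_of_notMem (by simp [Ne.symm h.1]), Finset.card_pair (Ne.symm h.2)] at h3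
  omega

lemma two_zero (hq : Fintype.card F = 2) : (2 : F) = 0 := by
  have h : ((Fintype.card F : ℕ) : F) = 0 := Nat.cast_card_eq_zero F
  rw [hq] at h; exact_mod_cast h

/-- The order-three matrix. -/
def omega3 : Matrix (Fin 2) (Fin 2) F := !![0, 1; 1, 1]

/-- Its square. -/
def omega3Sq : Matrix (Fin 2) (Fin 2) F := !![1, 1; 1, 0]

lemma omega3_facts (hq : Fintype.card F = 2) :
    omega3 * omega3Sq = (1 : Matrix (Fin 2) (Fin 2) F) ∧ omega3Sq * omega3 = (1 : Matrix (Fin 2) (Fin 2) F) ∧
      omega3 * omega3 = (omega3Sq : Matrix (Fin 2) (Fin 2) F) := by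
  have h2 := two_zero hq
  refine ⟨?_, ?_, ?_⟩ <;>
    (ext i j; fin_cases i <;> fin_cases j <;> simp [omega3, omega3Sq, Matrix.mul_apply, Fin.sum_univ_two] <;>
      linear_combination h2)

/-- Every invertible matrix of size two over two elements normalises the group of order three. -/
lemma normalises_omega3 (hq : Fintype.card F = 2) (a : GL (Fin 2) F) :
    (a : Matrix (Fin 2) (Fin 2) F) * omega3 = omega3 * (a : Matrix (Fin 2) (Fin 2) F) ∨
      (a : Matrix (Fin 2) (Fin 2) F) * omega3 = omega3Sq * (a : Matrix (Fin 2) (Fin 2) F) := by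
  have h2 := two_zero hq
  have hdet : (a : Matrix (Fin 2) (Fin 2) F).det ≠ 0 := ((Matrix.isUnit_iff_isUnit_det _).mp a.isUnit).ne_zero
  rw [Matrix.det_fin_two] at hdet
  have h11 : (1 + 1 : F) = 0 := by linear_combination h2
  rcases eq_zero_or_one hq ((a : Matrix (Fin 2) (Fin 2) F) 0 0) with h | h <;>
  rcases eq_zero_or_one hq ((a : Matrix (Fin 2) (Fin 2) F) 0 1) with h' | h' <;>
  rcases eq_zero_or_one hq ((a : Matrix (Fin 2) (Fin 2) F) 1 0) with k | k <;>
  rcases eq_zero_or_one hq ((a : Matrix (Fin 2) (Fin 2) F) 1 1) with k' | k' <;>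
  rw [h, h', k, k'] at hdet <;>
  first
    | (exfalso; exact hdet (by ring1))
    | (left; ext i j; fin_cases i <;> fin_cases j <;>
        simp [omega3, Matrix.mul_apply, Fin.sum_univ_two, h, h', k, k', h11]; done)
    | (right; ext i j; fin_cases i <;> fin_cases j <;>
        simp [omega3, omega3Sq, Matrix.mul_apply, Fin.sum_univ_two, h, h', k, k', h11]; done)

/-- A symplectic form in dimension at least four has two orthogonal hyperbolic pairs. -/
lemma two_pairs (hq : Fintype.card F = 2) {m : ℕ} (hm : 3 ≤ m) {f : (Fin m → F) → (Fin m → F) → F}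
    (hf : Geo.IsSymplecticForm f) :
    ∃ p q r s : Fin m → F, f p q = 1 ∧ f r s = 1 ∧ f p r = 0 ∧ f p s = 0 ∧ f q r = 0 ∧ f q s = 0 := by
  have hb := hf.bilinear
  let B : LinearMap.BilinForm F (Fin m → F) :=
    LinearMap.mk₂ F f (fun a b c => hb.add_left a b c) (fun a b c => hb.smul_left a b c)
      (fun a b c => hb.add_right a b c) (fun a b c => hb.smul_right a b c)
  have one : ∀ u, u ≠ 0 → ∃ w, f u w = 1 := by
    intro u hu
    obtain ⟨w, hw⟩ := (hf.nondegenerate u hu).2
    exact ⟨w, (eq_zero_or_one hq _).resolve_left hw⟩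
  obtain ⟨i⟩ : Nonempty (Fin m) := ⟨⟨0, by omega⟩⟩
  obtain ⟨q, hpq⟩ := one (Pi.single i (1 : F)) (by simp)
  set p : Fin m → F := Pi.single i 1 with hp
  have hsym : ∀ u w, f u w = f w u := fun u w => by
    rw [hf.skew]; linear_combination (-(f w u)) * two_zero hq
  have hqp : f q p = 1 := by rw [hsym]; exact hpq
  -- the projection to the orthogonal complement of the pair
  have proj : ∀ z, f p (z + (f z q • p + f z p • q)) = 0 ∧ f q (z + (f z q • p + f z p • q)) = 0 := by
    intro z
    simp only [hb.add_right, hb.smul_right, hf.alternating, hpq, hqp, mul_zero, mul_one, add_zero, zero_add]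
    exact ⟨by rw [hsym p z]; linear_combination (f z p) * two_zero hq,
      by rw [hsym q z]; linear_combination (f z q) * two_zero hq⟩
  obtain ⟨r, hr, hpr, hqr⟩ : ∃ r, r ≠ 0 ∧ f p r = 0 ∧ f q r = 0 := by
    have hker : 0 < Module.finrank F (LinearMap.ker ((B p).prod (B q))) := by
      have h := ((B p).prod (B q)).finrank_range_add_finrank_ker
      have hr : Module.finrank F (LinearMap.range ((B p).prod (B q))) ≤ 2 :=
        (Submodule.finrank_le _).trans (by simp)
      rw [Module.finrank_pi, Fintype.card_fin] at h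
      omega
    obtain ⟨⟨r, hr⟩, hr0⟩ := Module.finrank_pos_iff_exists_ne_zero.mp hker
    have h' := LinearMap.mem_ker.mp hr
    exact ⟨r, fun h => hr0 (Subtype.ext h), congrArg Prod.fst h', congrArg Prod.snd h'⟩
  obtain ⟨s', hs'⟩ := one r hr
  refine ⟨p, q, r, s' + (f s' q • p + f s' p • q), hpq, ?_, hpr, (proj s').1, hqr, (proj s').2⟩
  rw [hb.add_right, hb.add_right, hb.smul_right, hb.smul_right, hs', hsym r p, hsym r q, hpr, hqr]
  ring

/-- A reflection in a vector of value one. -/
lemma refl_one {ι : Type} [Fintype ι] [DecidableEq ι] {Q : (ι → F) → F} (hQ : Geo.IsNondegenerateQuadraticForm Q)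
    (hq : Fintype.card F = 2) {u : ι → F} (hu : Q u = 1) (x : ι → F) :
    ((reflGL hQ u : GL ι F) : Matrix ι ι F) *ᵥ x = x + QuadraticMap.polar Q x u • u := by
  rw [refl_mulVec hQ (by rw [hu]; exact one_ne_zero), hu, div_one, sub_eq_add_neg, ← neg_smul]
  congr 2
  linear_combination (-(QuadraticMap.polar Q x u)) * two_zero hq

/-- Let F be the field with 2 elements, n = 2 n₂ ≥ 13 even, Q a non-degenerate quadratic form on F^n of plus type and Ω the commutator subgroup of its isometry group. Suppose that, through P and e, the polar form of Q is similar to the tensor product of non-degenerate symplectic forms f₁ on F^2 and f₂ on F^(n₂), and Q vanishes on the images of all pure tensors. Then the elements of Ω in the stabiliser of this tensor decomposition form a subgroup that is not maximal: some subgroup lies strictly between it and Ω. -/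
theorem result {F : Type*} [Field F] [Fintype F] {n : ℕ} (hn : 13 ≤ n) (heven : Even n) (Q : (Fin n → F) → F) (hQ : Cfsg.Geo.IsNondegenerateQuadraticForm Q) (hplus : Cfsg.Geo.IsPlusTypeOn Q ⊤) (hq : Fintype.card F = 2) (n₂ : ℕ) (h2 : 2 < n₂) (e : (Fin n) ≃ Fin 2 × Fin n₂) (P : Matrix.GeneralLinearGroup (Fin n) F) (f₁ : (Fin 2 → F) → (Fin 2 → F) → F) (f₂ : (Fin n₂ → F) → (Fin n₂ → F) → F) (hf₁ : Cfsg.Geo.IsSymplecticForm f₁) (hf₂ : Cfsg.Geo.IsSymplecticForm f₂) (hT : Cfsg.Geo.IsTensorFormStructure id (QuadraticMap.polar Q) f₁ f₂ e P) (hpure : (∀ (x₁ : Fin 2 → F) (x₂ : Fin n₂ → F), Q (Matrix.mulVec (P : Matrix (Fin n) (Fin n) F) ((fun a : Fin 2 × Fin n₂ => x₁ a.1 * x₂ a.2) ∘ e)) = 0)) : ∃ K : Subgroup (Matrix.GeneralLinearGroup (Fin n) F), Cfsg.Geo.tensorProductSubgroup 2 n₂ e P ⊓ Cfsg.Geo.omegaGL Q < K ∧ K < Cfsg.Geo.omegaGL Q := by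
  classical
  have hqq := two_zero hq
  have addself : ∀ x : Fin n → F, x + x = 0 := fun x => by
    rw [← two_smul F x, hqq, zero_smul]
  obtain ⟨hw12, hw21, hw11⟩ := omega3_facts (F := F) hq
  -- the element of order three of the first factor
  let m : GL (Fin 2 × Fin n₂) F :=
    { val := omega3 ⊗ₖ (1 : Matrix (Fin n₂) (Fin n₂) F)
      inv := omega3Sq ⊗ₖ (1 : Matrix (Fin n₂) (Fin n₂) F)
      val_inv := by rw [← Matrix.mul_kronecker_mul, hw12, mul_one, Matrix.one_kronecker_one]
      inv_val := by rw [← Matrix.mul_kronecker_mul, hw21, mul_one, Matrix.one_kronecker_one] }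
  set W : GL (Fin n) F := MulAut.conj P (Geo.glReindex e.symm m) with hWdef
  let τ := tmul e P
  have hW : ∀ x y, (W : Matrix (Fin n) (Fin n) F) *ᵥ τ x y = τ (omega3 *ᵥ x) y := by
    intro x y
    rw [tmul_apply, tmul_apply, hWdef, conj_reindex_cvec]
    congr 1
    funext ⟨i, j⟩
    simp [m, Matrix.mulVec, dotProduct, Fintype.sum_prod_type, Matrix.one_apply]
    ring
  have hspan : ∀ g h : GL (Fin n) F, (∀ x y, (g : Matrix (Fin n) (Fin n) F) *ᵥ τ x y =
      (h : Matrix (Fin n) (Fin n) F) *ᵥ τ x y) → g = h := by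
    intro g h H
    apply ext_mulVec
    intro v
    have hl : Matrix.toLin' (g : Matrix (Fin n) (Fin n) F) = Matrix.toLin' (h : Matrix (Fin n) (Fin n) F) :=
      LinearMap.ext_on (span_tmul e P) fun v hv => by
        obtain ⟨x, y, rfl⟩ := hv
        simpa using H x y
    simpa using LinearMap.congr_fun hl v
  have hW2 : ∀ x y, ((W * W : GL (Fin n) F) : Matrix (Fin n) (Fin n) F) *ᵥ τ x y = τ (omega3Sq *ᵥ x) y := by
    intro x y
    rw [Units.val_mul, ← Matrix.mulVec_mulVec, hW, hW, Matrix.mulVec_mulVec, hw11]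
  have hW3 : W ^ 3 = 1 := by
    apply hspan
    intro x y
    rw [pow_three, Units.val_mul, ← Matrix.mulVec_mulVec, hW2, hW, Matrix.mulVec_mulVec, hw12,
      Units.val_one, Matrix.one_mulVec, Matrix.one_mulVec]
  set N := Geo.subgroupNormalizer (Subgroup.zpowers W) with hN
  have hmemN : ∀ g, g * W = W * g ∨ g * W = W * W * g → g ∈ N := by
    intro g hg
    rw [hN, Geo.subgroupNormalizer, Subgroup.mem_normalizer_iff_map_conj_eq, MonoidHom.map_zpowers]
    rcases hg with hg | hg
    · congr 1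
      change g * W * g⁻¹ = W
      rw [hg, mul_inv_cancel_right]
    · have he : g * W * g⁻¹ = W * W := by rw [hg, mul_inv_cancel_right]
      change Subgroup.zpowers (g * W * g⁻¹) = _
      rw [he]
      apply le_antisymm <;> rw [Subgroup.zpowers_le]
      · exact mul_mem (Subgroup.mem_zpowers W) (Subgroup.mem_zpowers W)
      · refine ⟨2, ?_⟩
        change (W * W) ^ (2 : ℤ) = W
        rw [zpow_two, show W * W * (W * W) = W * W ^ 3 by simp [pow_succ, mul_assoc], hW3, mul_one]
  have hNmem : ∀ g, g ∈ N → g * W = W * g ∨ g * W = W * W * g ∨ g * W = g := by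
    intro g hg
    rw [hN, Geo.subgroupNormalizer, Subgroup.mem_normalizer_iff] at hg
    obtain ⟨k, hk⟩ := (hg W).mp (Subgroup.mem_zpowers W)
    have hk' : W ^ (k % 3) = g * W * g⁻¹ := by
      rw [← hk]
      change W ^ (k % 3) = W ^ k
      conv_rhs => rw [← Int.mul_ediv_add_emod k 3, zpow_add, zpow_mul]
      rw [show W ^ (3 : ℤ) = 1 by rw [zpow_ofNat, hW3], one_zpow, one_mul]
    have h0 : 0 ≤ k % 3 := Int.emod_nonneg _ (by norm_num)
    have h3 : k % 3 < 3 := Int.emod_lt_of_pos _ (by norm_num)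
    have hc : k % 3 = 0 ∨ k % 3 = 1 ∨ k % 3 = 2 := by omega
    rcases hc with h | h | h
    · rw [h, zpow_zero] at hk'
      exact Or.inr (Or.inr (mul_inv_eq_one.mp hk'.symm))
    · rw [h, zpow_one] at hk'
      exact Or.inl (mul_inv_eq_iff_eq_mul.mp hk'.symm)
    · rw [h, zpow_two] at hk'
      exact Or.inr (Or.inl (mul_inv_eq_iff_eq_mul.mp hk'.symm))
  set T := Geo.tensorProductSubgroup 2 n₂ e P
  have hTN : T ≤ N := by
    intro g hg
    obtain ⟨A, B, hAB⟩ := mem_tensorProductSubgroup hg
    refine hmemN g ?_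
    rcases normalises_omega3 hq A with h | h
    · left
      apply hspan
      intro x y
      rw [Units.val_mul, ← Matrix.mulVec_mulVec, hW, hAB, Units.val_mul, ← Matrix.mulVec_mulVec, hAB, hW,
        Matrix.mulVec_mulVec, h, Matrix.mulVec_mulVec]
    · right
      apply hspan
      intro x y
      rw [Units.val_mul, ← Matrix.mulVec_mulVec, hW, hAB, Units.val_mul, ← Matrix.mulVec_mulVec, hAB, hW2,
        Matrix.mulVec_mulVec, h, Matrix.mulVec_mulVec]
  -- coordinates
  obtain ⟨c, hc, hτc⟩ := form_tmul hf₁.bilinear hf₂.bilinear hT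
  have hc1 : c = 1 := (eq_zero_or_one hq c).resolve_left hc
  have hτ : ∀ x x' y y', QuadraticMap.polar Q (τ x y) (τ x' y') = f₁ x x' * f₂ y y' := fun x x' y y' => by
    rw [hτc, hc1, one_mul]
  let e0 : Fin 2 → F := ![1, 0]
  let e1 : Fin 2 → F := ![0, 1]
  have hw0 : omega3 *ᵥ e0 = e1 := by
    funext i; fin_cases i <;> simp [omega3, e0, e1, Matrix.mulVec, dotProduct, Fin.sum_univ_two]
  have hw1 : omega3 *ᵥ e1 = e0 + e1 := by
    funext i; fin_cases i <;> simp [omega3, e0, e1, Matrix.mulVec, dotProduct, Fin.sum_univ_two]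
  have hb1 := hf₁.bilinear
  have hb2 := hf₂.bilinear
  have hsplit : ∀ x : Fin 2 → F, x = x 0 • e0 + x 1 • e1 := fun x => by
    funext i; fin_cases i <;> simp [e0, e1]
  have h01 : f₁ e0 e1 = 1 := by
    refine (eq_zero_or_one hq _).resolve_left fun h => ?_
    have h10 : f₁ e1 e0 = 0 := by rw [hf₁.skew, h, neg_zero]
    obtain ⟨x, hx⟩ := (hf₁.nondegenerate e0 (by
      intro h0; simpa [e0] using congrFun h0 0)).1
    rw [hsplit x, hb1.add_left, hb1.smul_left, hb1.smul_left, hf₁.alternating, h10] at hx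
    exact hx (by ring)
  have hm1 : (-1 : F) = 1 := by linear_combination (-1 : F) * hqq
  have h10 : f₁ e1 e0 = 1 := by rw [hf₁.skew, h01, hm1]
  have h00 := hf₁.alternating e0
  have h11 := hf₁.alternating e1
  obtain ⟨p, q, r, s, hpq, hrs, hpr, hps, hqr, hqs⟩ := two_pairs hq h2 hf₂
  have sym2 : ∀ u w, f₂ u w = f₂ w u := fun u w => by
    rw [hf₂.skew]; linear_combination (-(f₂ w u)) * hqq
  have hqp : f₂ q p = 1 := by rw [sym2, hpq]
  have hrp : f₂ r p = 0 := by rw [sym2, hpr]
  have hsp : f₂ s p = 0 := by rw [sym2, hps]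
  have hrq : f₂ r q = 0 := by rw [sym2, hqr]
  have hsq : f₂ s q = 0 := by rw [sym2, hqs]
  have hB := hQ.polar_bilinear
  have hQτ : ∀ x y, Q (τ x y) = 0 := fun x y => hpure x y
  have hQadd : ∀ u w, Q (u + w) = Q u + Q w + QuadraticMap.polar Q u w := fun u w => by
    rw [QuadraticMap.polar]; ring
  -- the vectors
  set v := τ e0 p + τ e1 q with hv
  set w := τ e1 p + τ (e0 + e1) q with hw
  set b := τ e0 r + τ e1 (s + q) with hb
  have Qv : Q v = 1 := by
    rw [hv, hQadd, hQτ, hQτ, hτ, h01, hpq]; ring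
  have Qw : Q w = 1 := by
    rw [hw, hQadd, hQτ, hQτ, hτ, hb1.add_right, h10, h11, hpq]; ring
  have Qb : Q b = 1 := by
    rw [hb, hQadd, hQτ, hQτ, hτ, h01, hb2.add_right, hrs, hrq]; ring
  have Bvw : QuadraticMap.polar Q v w = 1 := by
    simp only [hv, hw, hB.add_left, hB.add_right, hτ, hb1.add_right, h00, h01, h10, h11, hpq, hqp,
      hf₂.alternating]
    ring
  have Bwv : QuadraticMap.polar Q w v = 1 := by rw [QuadraticMap.polar_comm, Bvw]
  have Bvb : QuadraticMap.polar Q v b = 1 := by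
    simp only [hv, hb, hB.add_left, hB.add_right, hτ, hb2.add_right, h00, h01, h10, h11, hpq, hpr, hps, hqr,
      hqs, hf₂.alternating]
    ring
  have Bbv : QuadraticMap.polar Q b v = 1 := by rw [QuadraticMap.polar_comm, Bvb]
  have selfz : ∀ x, QuadraticMap.polar Q x x = 0 := fun x => by rw [polar_self hQ, hqq, zero_mul]
  have Qne : ∀ {u}, Q u = 1 → Q u ≠ 0 := fun h => by rw [h]; exact one_ne_zero
  obtain ⟨g, hg⟩ : ∃ g, g = reflGL hQ v * reflGL hQ w * (reflGL hQ v)⁻¹ * (reflGL hQ w)⁻¹ := ⟨_, rfl⟩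
  obtain ⟨h, hh⟩ : ∃ h, h = reflGL hQ v * reflGL hQ b * (reflGL hQ v)⁻¹ * (reflGL hQ b)⁻¹ := ⟨_, rfl⟩
  have hgO : g ∈ Geo.omegaGL Q := hg ▸ commutator_mem_omegaGL (refl_mem hQ (Qne Qv)) (refl_mem hQ (Qne Qw))
  have hhO : h ∈ Geo.omegaGL Q := hh ▸ commutator_mem_omegaGL (refl_mem hQ (Qne Qv)) (refl_mem hQ (Qne Qb))
  -- the action of the commutator of two reflections in a plane
  have act : ∀ (a : Fin n → F), Q a = 1 → QuadraticMap.polar Q v a = 1 → ∀ x,
      ((reflGL hQ v * reflGL hQ a * (reflGL hQ v)⁻¹ * (reflGL hQ a)⁻¹ : GL (Fin n) F) :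
        Matrix (Fin n) (Fin n) F) *ᵥ x =
      x + QuadraticMap.polar Q x v • v + (QuadraticMap.polar Q x v + QuadraticMap.polar Q x a) • a := by
    intro a Qa Bva x
    have Bav : QuadraticMap.polar Q a v = 1 := by rw [QuadraticMap.polar_comm, Bva]
    rw [refl_inv hQ (Qne Qv), refl_inv hQ (Qne Qa)]
    simp only [Units.val_mul, ← Matrix.mulVec_mulVec, refl_one hQ hq Qv, refl_one hQ hq Qa,
      hB.add_left, hB.smul_left, Bva, Bav, selfz, mul_zero, mul_one, add_zero, zero_add]
    linear_combination (norm := module)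
      (QuadraticMap.polar Q x v + 2 * QuadraticMap.polar Q x a) • addself v +
      (QuadraticMap.polar Q x a) • addself a
  -- `g` centralises `W`
  have hWv : (W : Matrix (Fin n) (Fin n) F) *ᵥ v = w := by
    rw [hv, Matrix.mulVec_add, hW, hW, hw0, hw1, hw]
  have hWw : (W : Matrix (Fin n) (Fin n) F) *ᵥ w = v + w := by
    rw [hw, Matrix.mulVec_add, hW, hW, hw1, Matrix.mulVec_add, hw0, hw1, hv]
    simp only [map_add, LinearMap.add_apply]
    linear_combination (norm := module) (-(1 : F)) • addself (τ e1 q) + addself (τ e1 q)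
  have hWiso : ∀ x y : Fin n → F, QuadraticMap.polar Q ((W : Matrix (Fin n) (Fin n) F) *ᵥ x)
      ((W : Matrix (Fin n) (Fin n) F) *ᵥ y) = QuadraticMap.polar Q x y := by
    have h0 : ∀ x y x' y', QuadraticMap.polar Q ((W : Matrix (Fin n) (Fin n) F) *ᵥ τ x y)
        ((W : Matrix (Fin n) (Fin n) F) *ᵥ τ x' y') = QuadraticMap.polar Q (τ x y) (τ x' y') := by
      intro x y x' y'
      rw [hW, hW, hτ, hτ]
      congr 1
      rw [hsplit x, hsplit x']
      simp only [Matrix.mulVec_add, Matrix.mulVec_smul, hw0, hw1, hb1.add_left, hb1.add_right, hb1.smul_left,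
        hb1.smul_right, h00, h01, h10, h11]
      linear_combination (x 1 * x' 1) * hqq
    let B2 : LinearMap.BilinForm F (Fin n → F) :=
      LinearMap.mk₂ F (QuadraticMap.polar Q) (fun a b c => hB.add_left a b c) (fun a b c => hB.smul_left a b c)
        (fun a b c => hB.add_right a b c) (fun a b c => hB.smul_right a b c)
    have hl : B2.compl₁₂ (Matrix.toLin' (W : Matrix (Fin n) (Fin n) F))
        (Matrix.toLin' (W : Matrix (Fin n) (Fin n) F)) = B2 := by
      refine LinearMap.ext_on (span_tmul e P) fun u hu => ?_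
      obtain ⟨x, y, rfl⟩ := hu
      refine LinearMap.ext_on (span_tmul e P) fun u hu => ?_
      obtain ⟨x', y', rfl⟩ := hu
      simpa [B2] using h0 x y x' y'
    intro x y
    simpa [B2] using LinearMap.congr_fun (LinearMap.congr_fun hl x) y
  have hWinv : ∀ x, QuadraticMap.polar Q ((W : Matrix (Fin n) (Fin n) F) *ᵥ x) v =
      QuadraticMap.polar Q x v + QuadraticMap.polar Q x w := by
    intro x
    have h1 := hWiso x w
    rw [hWw, hB.add_right] at h1
    have h2' := hWiso x v
    rw [hWv] at h2'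
    linear_combination h1 - h2' - (QuadraticMap.polar Q x v) * hqq
  have hgW : g * W = W * g := by
    apply ext_mulVec
    intro x
    rw [Units.val_mul, Units.val_mul, ← Matrix.mulVec_mulVec, ← Matrix.mulVec_mulVec, hg, act w Qw Bvw,
      act w Qw Bvw, Matrix.mulVec_add, Matrix.mulVec_add, Matrix.mulVec_smul, Matrix.mulVec_smul, hWv, hWw, hWinv,
      show QuadraticMap.polar Q ((W : Matrix (Fin n) (Fin n) F) *ᵥ x) w = QuadraticMap.polar Q x v by
        rw [← hWv]; exact hWiso x v]
    module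
  refine ⟨N ⊓ Geo.omegaGL Q, lt_of_le_of_ne (fun k hk => ⟨hTN hk.1, hk.2⟩) ?_,
    lt_of_le_of_ne inf_le_right ?_⟩
  · intro heq
    have hgT : g ∈ T := by
      have : g ∈ T ⊓ Geo.omegaGL Q := by rw [heq]; exact ⟨hmemN g (Or.inl hgW), hgO⟩
      exact this.1
    obtain ⟨A, B, hAB⟩ := mem_tensorProductSubgroup hgT
    -- `g` fixes every `τ x r`
    have hfix : ∀ x, (g : Matrix (Fin n) (Fin n) F) *ᵥ τ x r = τ x r := by
      intro x
      rw [hg, act w Qw Bvw]
      simp only [hv, hw, hB.add_right, hτ, hb1.add_right, hrp, hrq, mul_zero, add_zero, zero_smul]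
    have hr0 : r ≠ 0 := by
      intro h0
      have hz : f₂ r s = 0 := by rw [h0]; simpa using hb2.smul_left 0 0 s
      exact one_ne_zero (hrs ▸ hz)
    have hAe0 : (A : Matrix (Fin 2) (Fin 2) F) *ᵥ e0 = e0 := by
      have h1 := (hAB e0 r).symm.trans (hfix e0)
      have h1' := cvec_injective e P ((tmul_apply e P _ _).symm.trans (h1.trans (tmul_apply e P _ _)))
      obtain ⟨j, hj⟩ := Function.ne_iff.mp hr0
      simp only [Pi.zero_apply] at hj
      have hrj := (eq_zero_or_one hq _).resolve_left hj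
      funext i
      have hij := congrFun h1' (i, j)
      simp only [hrj, mul_one] at hij
      have hB1 : ((B : Matrix (Fin n₂) (Fin n₂) F) *ᵥ r) j = 1 := by
        refine (eq_zero_or_one hq _).resolve_left fun h0 => ?_
        have h00' := congrFun h1' (0, j)
        simp [h0, hrj, e0] at h00'
      rwa [hB1, mul_one] at hij
    have h1 : (g : Matrix (Fin n) (Fin n) F) *ᵥ τ e0 p = τ e1 q := by
      rw [hg, act w Qw Bvw]
      simp only [hv, hw, hB.add_right, hτ, hb1.add_right, h00, h01, hpq, hf₂.alternating, mul_zero, add_zero,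
        zero_add, mul_one]
      linear_combination (norm := module) addself (τ e0 p) + addself (τ e1 p) + addself (τ (e0 + e1) q)
    rw [hAB, hAe0] at h1
    have h1' := cvec_injective e P ((tmul_apply e P _ _).symm.trans (h1.trans (tmul_apply e P _ _)))
    have hq0 : q ≠ 0 := by
      intro h0
      have hz : f₂ p q = 0 := by rw [h0]; simpa using hb2.smul_right 0 p 0
      exact one_ne_zero (hpq ▸ hz)
    obtain ⟨j, hj⟩ := Function.ne_iff.mp hq0
    exact hj (by simpa [e0, e1] using (congrFun h1' (1, j)).symm)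
  · intro heq
    have hhN : h ∈ N := by
      have : h ∈ N ⊓ Geo.omegaGL Q := by rw [heq]; exact hhO
      exact this.1
    set y := τ e0 q with hy
    have hWy : (W : Matrix (Fin n) (Fin n) F) *ᵥ y = τ e1 q := by rw [hy, hW, hw0]
    have hy0 : (h : Matrix (Fin n) (Fin n) F) *ᵥ y = y := by
      rw [hh, act b Qb Bvb]
      simp only [hy, hv, hb, hB.add_right, hτ, hb2.add_right, h00, h01, hqs, hf₂.alternating, mul_zero,
        zero_mul, add_zero, zero_smul]
    have hy1 : (h : Matrix (Fin n) (Fin n) F) *ᵥ τ e1 q = τ e1 q + v + b := by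
      rw [hh, act b Qb Bvb]
      simp only [hv, hb, hB.add_right, hτ, hb2.add_right, h10, h11, hqp, hqr, mul_zero,
        zero_mul, add_zero, mul_one, one_smul]
    have hvb : ∀ z, v + b = z → QuadraticMap.polar Q z v = 0 → False := by
      rintro z rfl hz
      rw [hB.add_left, selfz, Bbv, zero_add] at hz
      exact one_ne_zero hz
    have hpv : QuadraticMap.polar Q y v = 0 := by
      simp only [hy, hv, hB.add_right, hτ, h00, h01, hf₂.alternating, mul_zero, zero_mul, add_zero]
    rcases hNmem h hhN with h3 | h3 | h3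
    · have h4 := congrArg (fun k : GL (Fin n) F => (k : Matrix (Fin n) (Fin n) F) *ᵥ y) h3
      simp only [Units.val_mul, ← Matrix.mulVec_mulVec, hWy, hy0, hy1] at h4
      refine hvb 0 ?_ (by rw [← zero_smul F v, hB.smul_left]; ring)
      linear_combination (norm := module) h4
    · have h4 := congrArg (fun k : GL (Fin n) F => (k : Matrix (Fin n) (Fin n) F) *ᵥ y) h3
      simp only [Units.val_mul, ← Matrix.mulVec_mulVec, hWy, hy0, hy1, hW, hw1, map_add, LinearMap.add_apply] at h4
      refine hvb y ?_ hpv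
      linear_combination (norm := module) h4
    · have h4 := congrArg (fun k : GL (Fin n) F => (k : Matrix (Fin n) (Fin n) F) *ᵥ y) h3
      simp only [Units.val_mul, ← Matrix.mulVec_mulVec, hWy, hy0, hy1] at h4
      refine hvb (y + τ e1 q) ?_ ?_
      · linear_combination (norm := module) h4 - addself (τ e1 q)
      · exfalso
        have h5 := congrArg (fun z => QuadraticMap.polar Q z b) h4
        simp only [hy, hv, hb, hB.add_left, hB.add_right, hτ, hb2.add_left, hb2.add_right, h00, h01, h10, h11,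
          hpq, hqp, hpr, hps, hrp, hrq, hsp, hsq, hqr, hqs, hrs, hf₂.alternating] at h5
        have hsr : f₂ s r = 1 := by rw [sym2, hrs]
        simp only [hsr] at h5
        exact one_ne_zero (α := F) (by linear_combination h5 - hqq)

end Cfsg.Agent.S5705
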