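import Cfsg.Statements.S5707
import Cfsg.Agent.TensorNonmax.SpinFactor
import Cfsg.Agent.TensorNonmax.Power
-- import your own Cfsg.Agent.* helpers here

set_option autoImplicit false
open Cfsg

namespace Cfsg.Agent.S5707

open CfsgLib.TensorNonmax
open scoped Matrix

variable {ι : Type} [Fintype ι] [DecidableEq ι] {F : Type*} [Field F]

/-- The normaliser of a space of matrices. -/
def spaceNormalizer (U : Submodule F (Matrix ι ι F)) : Subgroup (GL ι F) where
  carrier := {g | ∀ u, u ∈ U ↔ (g : Matrix ι ι F) * u * ((g⁻¹ : GL ι F) : Matrix ι ι F) ∈ U}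
  mul_mem' {a b} ha hb := by
    intro u
    rw [hb u, ha, mul_inv_rev, Units.val_mul, Units.val_mul]
    simp only [mul_assoc]
  one_mem' := by intro u; simp
  inv_mem' {a} ha := by
    intro u
    rw [inv_inv, ha (((a⁻¹ : GL ι F) : Matrix ι ι F) * u * (a : Matrix ι ι F))]
    simp only [← mul_assoc, ← Units.val_mul, mul_inv_cancel, Units.val_one, one_mul]
    rw [mul_assoc, ← Units.val_mul, mul_inv_cancel, Units.val_one, mul_one]

lemma mem_spaceNormalizer {U : Submodule F (Matrix ι ι F)} {g : GL ι F}
    (h1 : ∀ u ∈ U, (g : Matrix ι ι F) * u * ((g⁻¹ : GL ι F) : Matrix ι ι F) ∈ U)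
    (h2 : ∀ u ∈ U, ((g⁻¹ : GL ι F) : Matrix ι ι F) * u * (g : Matrix ι ι F) ∈ U) : g ∈ spaceNormalizer U := by
  intro u
  refine ⟨h1 u, fun h => ?_⟩
  have := h2 _ h
  simp only [← mul_assoc, ← Units.val_mul, inv_mul_cancel, Units.val_one, one_mul] at this
  rwa [mul_assoc, ← Units.val_mul, inv_mul_cancel, Units.val_one, mul_one] at this

/-- Let F be a finite field with q elements, n ≥ 13 even, Q a non-degenerate quadratic form on F^n of plus type (some subspace of dimension n/2 is totally singular), and Ω the commutator subgroup of the isometry group of Q, viewed inside GL_n(F). Suppose q is even and that, through P and e, the polar form of Q is similar to the t-fold tensor power (t ≥ 2) of a non-degenerate symplectic form f₁ on F^k with k ≤ 4 and (q, k) ≠ (2, 2), Q vanishing on the images of all pure tensors. Then the elements of Ω in the stabiliser of this decomposition form a subgroup that is not maximal: some subgroup lies strictly between it and Ω. -/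
theorem result {F : Type*} [Field F] [Fintype F] {n : ℕ} (hn : 13 ≤ n) (heven : Even n) (Q : (Fin n → F) → F) (hQ : Cfsg.Geo.IsNondegenerateQuadraticForm Q) (hplus : Cfsg.Geo.IsPlusTypeOn Q ⊤) (hchar : ¬ Odd (Fintype.card F)) (k t : ℕ) (ht : 2 ≤ t) (hk : k ≤ 4) (hex1 : ¬ (Fintype.card F = 2 ∧ k = 2)) (e : (Fin n) ≃ (Fin t → Fin k)) (P : Matrix.GeneralLinearGroup (Fin n) F) (f₁ : (Fin k → F) → (Fin k → F) → F) (hf₁ : Cfsg.Geo.IsSymplecticForm f₁) (hT : Cfsg.Geo.IsTensorPowerFormStructure id (QuadraticMap.polar Q) f₁ e P) (hpure : (∀ xs : Fin t → (Fin k → F), Q (Matrix.mulVec (P : Matrix (Fin n) (Fin n) F) ((fun a : Fin t → Fin k => ∏ i, xs i (a i)) ∘ e)) = 0)) : ∃ K : Subgroup (Matrix.GeneralLinearGroup (Fin n) F), Cfsg.Geo.tensorWreathSubgroup k t e P ⊓ Cfsg.Geo.omegaGL Q < K ∧ K < Cfsg.Geo.omegaGL Q := by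
  classical
  have h2 : (2 : F) = 0 := by
    have hc : ringChar F = 2 := FiniteField.even_card_iff_char_two.mpr (Nat.not_odd_iff.mp hchar)
    have : CharP F 2 := hc ▸ ringChar.charP F
    exact CharTwo.two_eq_zero
  have addself : ∀ x : Fin n → F, x + x = 0 := fun x => by rw [← two_smul F x, h2, zero_smul]
  have hkn : n = k ^ t := by simpa using Fintype.card_congr e
  have hk0 : 0 < k := by
    rcases Nat.eq_zero_or_pos k with h | h
    · subst h; rw [zero_pow (by omega)] at hkn; omega
    · exact h
  obtain ⟨hkk, hS⟩ := exists_spinFacts h2 hf₁ hk0 hk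
  have ht4 : t = 2 → k = 4 := by
    rintro rfl
    rcases hkk with rfl | rfl
    · norm_num at hkn; omega
    · rfl
  have : Nonempty (Fin k) := ⟨⟨0, hk0⟩⟩
  set i0 : Fin t := ⟨0, by omega⟩ with hi0
  set i1 : Fin t := ⟨1, by omega⟩ with hi1
  have h01 : i0 ≠ i1 := by simp [hi0, hi1]
  obtain ⟨c, hc, hform⟩ := form_ptmul e P hf₁.bilinear hT
  let τ := ptmul e P
  have hQτ : ∀ xs, Q (τ xs) = 0 := fun xs => hpure xs
  have hB := hQ.polar_bilinear
  have hb1 := hf₁.bilinear
  have hsym : ∀ x y, f₁ x y = f₁ y x := fun x y => by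
    rw [hf₁.skew]; linear_combination (-(f₁ y x)) * h2
  obtain ⟨p, q, hpq⟩ : ∃ p q, f₁ p q = 1 := by
    have hne : (Pi.single ⟨0, hk0⟩ (1 : F) : Fin k → F) ≠ 0 := by simp
    obtain ⟨y, hy⟩ := (hf₁.nondegenerate _ hne).2
    exact ⟨_, (f₁ (Pi.single ⟨0, hk0⟩ 1) y)⁻¹ • y, by rw [hb1.smul_right, inv_mul_cancel₀ hy]⟩
  have hprod0 : ∀ (xs ys : Fin t → (Fin k → F)) (j : Fin t), f₁ (xs j) (ys j) = 0 →
      QuadraticMap.polar Q (τ xs) (τ ys) = 0 := fun xs ys j hj => by
    rw [hform, Finset.prod_eq_zero (Finset.mem_univ j) hj, mul_zero]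
  -- the space of Clifford generators
  let L := slotOp e P
  let U : Submodule F (Matrix (Fin n) (Fin n) F) :=
    Submodule.span F {X | ∃ i, ∃ M ∈ spinSet f₁, L i M = X}
  have hgen : ∀ i, ∀ M ∈ spinSet f₁, L i M ∈ U := fun i M hM => Submodule.subset_span ⟨i, M, hM, rfl⟩
  have h1U : (1 : Matrix (Fin n) (Fin n) F) ∈ U := by
    have := hgen i0 1 hS.one
    rwa [map_one] at this
  have hanti0 : ∀ X ∈ {X | ∃ i, ∃ M ∈ spinSet f₁, L i M = X}, ∀ Y ∈ {X | ∃ i, ∃ M ∈ spinSet f₁, L i M = X},
      ∃ s : F, X * Y + Y * X = s • (1 : Matrix (Fin n) (Fin n) F) := by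
    rintro _ ⟨i, M, hM, rfl⟩ _ ⟨j, N, hN, rfl⟩
    by_cases hij : i = j
    · subst hij
      obtain ⟨s, hs⟩ := hS.anticomm M hM N hN
      exact ⟨s, by rw [← map_mul, ← map_mul, ← map_add, hs, map_smul, map_one]⟩
    · refine ⟨0, ?_⟩
      rw [slotOp_comm e P hij, ← two_smul F, h2, zero_smul, zero_smul]
  have hanti : ∀ X ∈ U, ∀ Y ∈ U, ∃ s : F, X * Y + Y * X = s • (1 : Matrix (Fin n) (Fin n) F) := by
    intro X hX Y hY
    induction hX using Submodule.span_induction with
    | mem X hX =>
      induction hY using Submodule.span_induction with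
      | mem Y hY => exact hanti0 X hX Y hY
      | zero => exact ⟨0, by simp⟩
      | add Y Z _ _ hy hz =>
        obtain ⟨a, ha⟩ := hy
        obtain ⟨b, hb⟩ := hz
        exact ⟨a + b, by rw [mul_add, add_mul, add_smul, ← ha, ← hb]; abel⟩
      | smul r Y _ hy =>
        obtain ⟨a, ha⟩ := hy
        exact ⟨r * a, by rw [Matrix.mul_smul, Matrix.smul_mul, ← smul_add, ha, smul_smul]⟩
    | zero => exact ⟨0, by simp⟩
    | add X Z _ _ hx hz =>
      obtain ⟨a, ha⟩ := hx
      obtain ⟨b, hb⟩ := hz
      exact ⟨a + b, by rw [mul_add, add_mul, add_smul, ← ha, ← hb]; abel⟩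
    | smul r X _ hx =>
      obtain ⟨a, ha⟩ := hx
      exact ⟨r * a, by rw [Matrix.mul_smul, Matrix.smul_mul, ← smul_add, ha, smul_smul]⟩
  have hsq : ∀ X ∈ U, ∃ s : F, X * X = s • (1 : Matrix (Fin n) (Fin n) F) := by
    intro X hX
    induction hX using Submodule.span_induction with
    | mem X hX =>
      obtain ⟨i, M, hM, rfl⟩ := hX
      obtain ⟨s, hs⟩ := hM.2.2
      exact ⟨s, by rw [← map_mul, hs, map_smul, map_one]⟩
    | zero => exact ⟨0, by simp⟩
    | add X Z hX' hZ' hx hz =>
      obtain ⟨a, ha⟩ := hx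
      obtain ⟨b, hb⟩ := hz
      obtain ⟨d, hd⟩ := hanti X hX' Z hZ'
      refine ⟨a + b + d, ?_⟩
      rw [add_smul, add_smul, ← ha, ← hb, ← hd, mul_add, add_mul, add_mul]; abel
    | smul r X _ hx =>
      obtain ⟨a, ha⟩ := hx
      exact ⟨r * r * a, by rw [Matrix.mul_smul, Matrix.smul_mul, ha, smul_smul, smul_smul, mul_assoc]⟩
  have hadj : ∀ X ∈ U, ∀ x y, QuadraticMap.polar Q (X *ᵥ x) y = QuadraticMap.polar Q x (X *ᵥ y) := by
    let B2 : LinearMap.BilinForm F (Fin n → F) :=
      LinearMap.mk₂ F (QuadraticMap.polar Q) (fun a b c => hB.add_left a b c) (fun a b c => hB.smul_left a b c)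
        (fun a b c => hB.add_right a b c) (fun a b c => hB.smul_right a b c)
    intro X hX
    suffices h : B2.compl₁₂ (Matrix.toLin' X) LinearMap.id = B2.compl₁₂ LinearMap.id (Matrix.toLin' X) by
      intro x y; simpa [B2] using LinearMap.congr_fun (LinearMap.congr_fun h x) y
    induction hX using Submodule.span_induction with
    | mem X hX =>
      obtain ⟨i, M, hM, rfl⟩ := hX
      refine LinearMap.ext_on (span_ptmul e P) fun u hu => ?_
      obtain ⟨xs, rfl⟩ := hu
      refine LinearMap.ext_on (span_ptmul e P) fun u hu => ?_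
      obtain ⟨ys, rfl⟩ := hu
      simp only [B2, LinearMap.compl₁₂_apply, LinearMap.mk₂_apply, LinearMap.id_apply, Matrix.toLin'_apply, L,
        slotOp_ptmul, hform]
      congr 1
      refine Finset.prod_congr rfl fun j _ => ?_
      by_cases hj : j = i
      · subst hj; rw [Function.update_self, Function.update_self]; exact hM.1 _ _
      · rw [Function.update_of_ne hj, Function.update_of_ne hj]
    | zero => ext; simp [B2, hB.smul_left, quad_zero hQ, QuadraticMap.polar]
    | add X Z _ _ hx hz =>
      apply LinearMap.ext; intro x; apply LinearMap.ext; intro y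
      have ex := LinearMap.congr_fun (LinearMap.congr_fun hx x) y
      have ez := LinearMap.congr_fun (LinearMap.congr_fun hz x) y
      simp only [B2, LinearMap.compl₁₂_apply, LinearMap.mk₂_apply, LinearMap.id_apply, Matrix.toLin'_apply] at ex ez ⊢
      rw [Matrix.add_mulVec, Matrix.add_mulVec, hB.add_left, hB.add_right, ex, ez]
    | smul r X _ hx =>
      apply LinearMap.ext; intro x; apply LinearMap.ext; intro y
      have ex := LinearMap.congr_fun (LinearMap.congr_fun hx x) y
      simp only [B2, LinearMap.compl₁₂_apply, LinearMap.mk₂_apply, LinearMap.id_apply, Matrix.toLin'_apply] at ex ⊢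
      rw [Matrix.smul_mulVec, Matrix.smul_mulVec, hB.smul_left, hB.smul_right, ex]
  set N := spaceNormalizer U with hNdef
  have hconj : ∀ g : GL (Fin n) F,
      (∀ i, ∀ M ∈ spinSet f₁, (g : Matrix (Fin n) (Fin n) F) * L i M * ((g⁻¹ : GL (Fin n) F) : Matrix _ _ F) ∈ U) →
      ∀ u ∈ U, (g : Matrix (Fin n) (Fin n) F) * u * ((g⁻¹ : GL (Fin n) F) : Matrix _ _ F) ∈ U := by
    intro g hg u hu
    induction hu using Submodule.span_induction with
    | mem X hX => obtain ⟨i, M, hM, rfl⟩ := hX; exact hg i M hM
    | zero => simp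
    | add X Z _ _ hx hz => rw [mul_add, add_mul]; exact add_mem hx hz
    | smul r X _ hx => rw [Matrix.mul_smul, Matrix.smul_mul]; exact U.smul_mem r hx
  -- involutions inside the space are isometries and normalise it
  have hinv : ∀ w ∈ U, (hw : w * w = 1) → (∀ xs, Q (w *ᵥ τ xs) = 0) →
      (⟨w, w, hw, hw⟩ : GL (Fin n) F) ∈ isometryGroup F Q ∧ (⟨w, w, hw, hw⟩ : GL (Fin n) F) ∈ N := by
    intro w hwU hw hwQ
    constructor
    · rw [mem_isometryGroup]
      have hpol : ∀ x y, QuadraticMap.polar Q (w *ᵥ x) (w *ᵥ y) = QuadraticMap.polar Q x y := fun x y => by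
        rw [hadj w hwU, Matrix.mulVec_mulVec, hw, Matrix.one_mulVec]
      intro x
      change Q (w *ᵥ x) = Q x
      have hx : x ∈ Submodule.span F (Set.range (ptmul e P)) := by rw [span_ptmul]; exact Submodule.mem_top
      induction hx using Submodule.span_induction with
      | mem x hx => obtain ⟨xs, rfl⟩ := hx; rw [hwQ xs, hQτ xs]
      | zero => rw [Matrix.mulVec_zero]
      | add x y _ _ hx hy =>
        have h := hpol x y
        rw [QuadraticMap.polar, QuadraticMap.polar, hx, hy, ← Matrix.mulVec_add] at h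
        linear_combination h
      | smul r x _ hx => rw [Matrix.mulVec_smul, hQ.smul, hQ.smul, hx]
    · have key : ∀ u ∈ U, w * u * w ∈ U := by
        intro u hu
        obtain ⟨s, hs⟩ := hanti w hwU u hu
        have : w * u * w = u + s • w + (-2 : F) • u := by
          have h : w * u = s • (1 : Matrix (Fin n) (Fin n) F) - u * w := by rw [← hs]; abel
          rw [h, sub_mul, Matrix.smul_mul, one_mul, mul_assoc, hw, mul_one]
          module
        rw [this]
        exact add_mem (add_mem hu (U.smul_mem s hwU)) (U.smul_mem _ hu)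
      exact mem_spaceNormalizer key key
  set T := Geo.tensorWreathSubgroup k t e P
  have hTN : ∀ g ∈ T, g ∈ isometryGroup F Q → g ∈ N := by
    have one : ∀ g ∈ T, g ∈ isometryGroup F Q →
        ∀ u ∈ U, (g : Matrix (Fin n) (Fin n) F) * u * ((g⁻¹ : GL (Fin n) F) : Matrix _ _ F) ∈ U := by
      intro g hg hiso
      refine hconj g fun j M hM => ?_
      obtain ⟨σ, as, hgs⟩ := mem_tensorWreathSubgroup e P hg
      obtain ⟨i, rfl⟩ := σ.surjective j
      obtain ⟨l, hl⟩ : ∃ l : F, ∀ x y, f₁ ((as i : Matrix (Fin k) (Fin k) F) *ᵥ x)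
          ((as i : Matrix (Fin k) (Fin k) F) *ᵥ y) = l * f₁ x y := by
        have hp : ∀ x y, f₁ x y = f₁ ((as i : Matrix (Fin k) (Fin k) F) *ᵥ x)
            ((as i : Matrix (Fin k) (Fin k) F) *ᵥ y) * ∏ j ∈ Finset.univ.erase i,
              f₁ ((as j : Matrix (Fin k) (Fin k) F) *ᵥ p) ((as j : Matrix (Fin k) (Fin k) F) *ᵥ q) := by
          intro x y
          have h := polar_isometry hiso (τ (Function.update (fun _ => p) (σ i) x))
            (τ (Function.update (fun _ => q) (σ i) y))
          rw [hgs, hgs, hform, hform] at h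
          have h' := mul_left_cancel₀ hc h
          rw [← Finset.mul_prod_erase Finset.univ _ (Finset.mem_univ i),
            ← Finset.mul_prod_erase Finset.univ (fun j => f₁ (Function.update (fun _ => p) (σ i) x j) _)
              (Finset.mem_univ (σ i)),
            Function.update_self, Function.update_self] at h'
          rw [Finset.prod_eq_one (s := Finset.univ.erase (σ i)) (fun j hj => by
            rw [Function.update_of_ne (Finset.mem_erase.mp hj).1, Function.update_of_ne (Finset.mem_erase.mp hj).1,
              hpq]), mul_one] at h'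
          rw [← h']
          congr 1
          refine Finset.prod_congr rfl fun j hj => ?_
          have hne : σ j ≠ σ i := σ.injective.ne (Finset.mem_erase.mp hj).1
          rw [Function.update_of_ne hne, Function.update_of_ne hne]
        have hK : ∏ j ∈ Finset.univ.erase i,
            f₁ ((as j : Matrix (Fin k) (Fin k) F) *ᵥ p) ((as j : Matrix (Fin k) (Fin k) F) *ᵥ q) ≠ 0 := by
          intro h0
          have h := hp p q
          rw [h0, mul_zero, hpq] at h
          exact one_ne_zero h
        exact ⟨(∏ j ∈ Finset.univ.erase i,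
            f₁ ((as j : Matrix (Fin k) (Fin k) F) *ᵥ p) ((as j : Matrix (Fin k) (Fin k) F) *ᵥ q))⁻¹,
          fun x y => by rw [hp x y]; field_simp⟩
      have hM' := spinSet_transfer (as i) hl hM
      have heq : (g : Matrix (Fin n) (Fin n) F) * L (σ i) M = L i ((as i : Matrix (Fin k) (Fin k) F) * M *
          (((as i)⁻¹ : GL (Fin k) F) : Matrix (Fin k) (Fin k) F)) * (g : Matrix (Fin n) (Fin n) F) := by
        refine ext_ptmul e P fun xs => ?_
        simp only [L]
        rw [← Matrix.mulVec_mulVec, ← Matrix.mulVec_mulVec, slotOp_ptmul, hgs, hgs, slotOp_ptmul]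
        congr 1
        funext j
        by_cases hj : j = i
        · subst hj
          rw [Function.update_self, Function.update_self, Matrix.mulVec_mulVec, Matrix.mulVec_mulVec,
            mul_assoc _ _ (as j : Matrix (Fin k) (Fin k) F), ← Units.val_mul, inv_mul_cancel, Units.val_one, mul_one]
        · rw [Function.update_of_ne hj, Function.update_of_ne (σ.injective.ne hj)]
      rw [heq, mul_assoc, ← Units.val_mul, mul_inv_cancel, Units.val_one, mul_one]
      exact hgen i _ hM'
    intro g hg hiso
    have h' := one g⁻¹ (inv_mem hg) (inv_mem hiso)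
    rw [inv_inv] at h'
    exact mem_spaceNormalizer (one g hg hiso) h'
  obtain ⟨E, hE, G, hG, hEE, hGG, hEG⟩ := hS.pair
  refine ⟨N ⊓ Geo.omegaGL Q,
    lt_of_le_of_ne (fun g hg => ⟨hTN g hg.1 (omegaGL_le Q hg.2), hg.2⟩) ?_, lt_of_le_of_ne inf_le_right ?_⟩
  · -- the commutator of two such involutions
    intro heq
    set v := 1 + L i0 E + L i1 E with hv
    set a := 1 + L i0 G with ha
    have hmm : ∀ X : Matrix (Fin n) (Fin n) F, X + X = 0 := fun X => by rw [← two_smul F X, h2, zero_smul]
    have hX2 : ∀ i, L i E * L i E = 0 := fun i => by rw [← map_mul, hEE, map_zero]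
    have hvv : v * v = 1 := by
      have hc' : L i0 E * L i1 E = L i1 E * L i0 E := slotOp_comm e P h01 E E
      calc v * v = 1 + (L i0 E + L i0 E) + (L i1 E + L i1 E) + L i0 E * L i0 E + L i1 E * L i1 E +
            (L i0 E * L i1 E + L i1 E * L i0 E) := by
            rw [hv]; simp only [mul_add, add_mul, one_mul, mul_one]; abel
        _ = 1 := by rw [hmm, hmm, hX2, hX2, hc', hmm]; simp
    have haa : a * a = 1 := by
      calc a * a = 1 + (L i0 G + L i0 G) + L i0 G * L i0 G := by
            rw [ha]; simp only [mul_add, add_mul, one_mul, mul_one]; abel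
        _ = 1 := by rw [hmm, ← map_mul, hGG, map_zero]; simp
    have hvQ : ∀ xs, Q (v *ᵥ τ xs) = 0 := by
      intro xs
      simp only [hv, L, Matrix.add_mulVec, Matrix.one_mulVec, τ, slotOp_ptmul]
      have hQadd : ∀ u w, Q (u + w) = Q u + Q w + QuadraticMap.polar Q u w := fun u w => by
        rw [QuadraticMap.polar]; ring
      have e1 : QuadraticMap.polar Q (τ xs) (τ (Function.update xs i0 (E *ᵥ xs i0))) = 0 :=
        hprod0 _ _ i1 (by rw [Function.update_of_ne h01.symm]; exact hf₁.alternating _)
      have e2 : QuadraticMap.polar Q (τ xs) (τ (Function.update xs i1 (E *ᵥ xs i1))) = 0 :=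
        hprod0 _ _ i0 (by rw [Function.update_of_ne h01]; exact hf₁.alternating _)
      have e3 : QuadraticMap.polar Q (τ (Function.update xs i0 (E *ᵥ xs i0)))
          (τ (Function.update xs i1 (E *ᵥ xs i1))) = 0 := by
        by_cases ht2 : t = 2
        · refine hprod0 _ _ i0 ?_
          rw [Function.update_self, Function.update_of_ne h01]
          exact hE.2.1 (ht4 ht2) _
        · refine hprod0 _ _ ⟨2, by omega⟩ ?_
          rw [Function.update_of_ne (by simp [hi0]), Function.update_of_ne (by simp [hi1])]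
          exact hf₁.alternating _
      have z0 := hQτ xs
      have z1 := hQτ (Function.update xs i0 (E *ᵥ xs i0))
      have z2 := hQτ (Function.update xs i1 (E *ᵥ xs i1))
      simp only [τ] at e1 e2 e3 z0 z1 z2 ⊢
      rw [hQadd, hQadd, hB.add_left, e1, e2, e3, z0, z1, z2]
      ring
    have haQ : ∀ xs, Q (a *ᵥ τ xs) = 0 := by
      intro xs
      simp only [ha, L, Matrix.add_mulVec, Matrix.one_mulVec, τ, slotOp_ptmul]
      have e1 : QuadraticMap.polar Q (τ xs) (τ (Function.update xs i0 (G *ᵥ xs i0))) = 0 :=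
        hprod0 _ _ i1 (by rw [Function.update_of_ne h01.symm]; exact hf₁.alternating _)
      have z0 := hQτ xs
      have z1 := hQτ (Function.update xs i0 (G *ᵥ xs i0))
      rw [QuadraticMap.polar, z0, z1] at e1
      simpa [τ] using e1
    obtain ⟨hvI, hvN⟩ := hinv v (add_mem (add_mem h1U (hgen _ _ hE)) (hgen _ _ hE)) hvv hvQ
    obtain ⟨haI, haN⟩ := hinv a (add_mem h1U (hgen _ _ hG)) haa haQ
    set gv : GL (Fin n) F := ⟨v, v, hvv, hvv⟩
    set ga : GL (Fin n) F := ⟨a, a, haa, haa⟩
    have hgT : gv * ga * gv⁻¹ * ga⁻¹ ∈ T := by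
      have : gv * ga * gv⁻¹ * ga⁻¹ ∈ T ⊓ Geo.omegaGL Q := by
        rw [heq]
        exact ⟨N.mul_mem (N.mul_mem (N.mul_mem hvN haN) (N.inv_mem hvN)) (N.inv_mem haN), commutator_mem_omegaGL hvI haI⟩
      exact this.1
    obtain ⟨σ, as, hgs⟩ := mem_tensorWreathSubgroup e P hgT
    obtain ⟨u, hu⟩ : ∃ u, G *ᵥ u ≠ 0 := by
      by_contra hcon
      push Not at hcon
      have hG0 : G = 0 := Matrix.ext_of_mulVec_single fun i => by rw [hcon, Matrix.zero_mulVec]
      rw [hG0, mul_zero, zero_mul, add_zero] at hEG
      exact zero_ne_one hEG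
    set w := G *ᵥ u with hw
    have hGw : G *ᵥ w = 0 := by rw [hw, Matrix.mulVec_mulVec, hGG, Matrix.zero_mulVec]
    have hGEw : G *ᵥ (E *ᵥ w) = w := by
      have h := congrArg (fun X => X *ᵥ w) hEG
      simp only [Matrix.add_mulVec, ← Matrix.mulVec_mulVec, hGw, Matrix.mulVec_zero, zero_add,
        Matrix.one_mulVec] at h
      exact h
    have hEEw : E *ᵥ (E *ᵥ w) = 0 := by rw [Matrix.mulVec_mulVec, hEE, Matrix.zero_mulVec]
    let W : Fin t → (Fin k → F) := fun _ => w
    let τ2 : (Fin k → F) → (Fin k → F) → (Fin n → F) := fun x z =>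
      τ (Function.update (Function.update W i0 x) i1 z)
    have hz0 : ∀ z, τ2 0 z = 0 := fun z => by
      simp only [τ2, Function.update_comm h01]
      exact ptmul_update_zero e P _ i0
    have hz1 : ∀ x, τ2 x 0 = 0 := fun x => ptmul_update_zero e P _ i1
    have L0 : ∀ M x z, L i0 M *ᵥ τ2 x z = τ2 (M *ᵥ x) z := by
      intro M x z
      simp only [τ2, τ, L, slotOp_ptmul, Function.update_of_ne h01, Function.update_self]
      congr 1
      rw [Function.update_comm h01.symm, Function.update_idem]
    have L1 : ∀ M x z, L i1 M *ᵥ τ2 x z = τ2 x (M *ᵥ z) := by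
      intro M x z
      simp only [τ2, τ, L, slotOp_ptmul, Function.update_self, Function.update_idem]
    have va : ∀ x z, a *ᵥ τ2 x z = τ2 x z + τ2 (G *ᵥ x) z := fun x z => by
      rw [ha, Matrix.add_mulVec, Matrix.one_mulVec, L0]
    have vv : ∀ x z, v *ᵥ τ2 x z = τ2 x z + τ2 (E *ᵥ x) z + τ2 x (E *ᵥ z) := fun x z => by
      rw [hv, Matrix.add_mulVec, Matrix.add_mulVec, Matrix.one_mulVec, L0, L1]
    have hval : ((gv * ga * gv⁻¹ * ga⁻¹ : GL (Fin n) F) : Matrix (Fin n) (Fin n) F) *ᵥ τ2 w w =
        τ2 (E *ᵥ w) w + τ2 w (E *ᵥ w) := by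
      change (v * a * v * a) *ᵥ τ2 w w = _
      simp only [← Matrix.mulVec_mulVec, va, vv, Matrix.mulVec_add, hGw, hGEw, hEEw, hz0, hz1, add_zero, zero_add,
        Matrix.mulVec_zero]
      linear_combination (norm := module) addself (τ2 w w) + addself (τ2 (E *ᵥ w) w) + addself (τ2 w (E *ᵥ w))
        + addself (τ2 (E *ᵥ w) (E *ᵥ w))
    have hWW : τ2 w w = τ W := by
      simp only [τ2]
      congr 1
      funext j
      simp only [W, Function.update_apply]
      split_ifs <;> rfl
    rw [hWW, hgs] at hval
    set Z := fun i => (as i : Matrix (Fin k) (Fin k) F) *ᵥ W (σ i)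
    have hcoord := cvec_injective e P (hval.trans (map_add _ _ _).symm)
    obtain ⟨j0, hj0⟩ := Function.ne_iff.mp hu
    simp only [Pi.zero_apply] at hj0
    let A : Fin k → Fin k → (Fin t → Fin k) := fun x y =>
      Function.update (Function.update (fun _ => j0) i0 x) i1 y
    set R := ∏ j ∈ (Finset.univ.erase i1).erase i0, W j j0 with hR
    have hR0 : R ≠ 0 := Finset.prod_ne_zero_iff.mpr fun j _ => hj0
    have hev : ∀ (x z : Fin k → F) r r',
        ∏ j, Function.update (Function.update W i0 x) i1 z j (A r r' j) = x r * z r' * R := by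
      intro x z r r'
      rw [prod_update_apply, ← Finset.mul_prod_erase (Finset.univ.erase i1) _
        (Finset.mem_erase.mpr ⟨h01, Finset.mem_univ i0⟩), Function.update_self]
      have hA1 : A r r' i1 = r' := by simp [A]
      have hA0 : A r r' i0 = r := by simp [A, h01]
      have hAj : ∏ j ∈ (Finset.univ.erase i1).erase i0, Function.update W i0 x j (A r r' j) = R := by
        refine Finset.prod_congr rfl fun j hj => ?_
        have h1 := (Finset.mem_erase.mp hj).1
        have h2' := (Finset.mem_erase.mp (Finset.mem_erase.mp hj).2).1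
        simp [A, Function.update_of_ne h1, Function.update_of_ne h2']
      rw [hA1, hA0, hAj]; ring
    have hevZ : ∀ r r', ∏ j, Z j (A r r' j) =
        Z i0 r * Z i1 r' * ∏ j ∈ (Finset.univ.erase i1).erase i0, Z j j0 := by
      intro r r'
      rw [← Finset.mul_prod_erase Finset.univ _ (Finset.mem_univ i1), ← Finset.mul_prod_erase (Finset.univ.erase i1) _
        (Finset.mem_erase.mpr ⟨h01, Finset.mem_univ i0⟩)]
      have hAj : ∏ j ∈ (Finset.univ.erase i1).erase i0, Z j (A r r' j) =
          ∏ j ∈ (Finset.univ.erase i1).erase i0, Z j j0 := by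
        refine Finset.prod_congr rfl fun j hj => ?_
        have h1 := (Finset.mem_erase.mp hj).1
        have h2' := (Finset.mem_erase.mp (Finset.mem_erase.mp hj).2).1
        simp [A, Function.update_of_ne h1, Function.update_of_ne h2']
      rw [hAj]
      simp [A, h01]
      ring
    have hsum : ∀ r r', ((E *ᵥ w) r * w r' + w r * (E *ᵥ w) r') * R =
        Z i0 r * Z i1 r' * ∏ j ∈ (Finset.univ.erase i1).erase i0, Z j j0 := by
      intro r r'
      have h := congrFun hcoord (A r r')
      simp only [Pi.add_apply, hev, hevZ] at h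
      linear_combination -h
    have hzero : ∀ r r', (E *ᵥ w) r * w r' + w r * (E *ᵥ w) r' = 0 := by
      intro r r'
      have h1 := hsum r r
      have h3 := hsum r r'
      have h5 := hsum r' r
      have h6 := hsum r' r'
      have hrr : ∀ x : F, x + x = 0 := fun x => by linear_combination x * h2
      rw [mul_comm (w r) ((E *ᵥ w) r), hrr, zero_mul] at h1
      set K := ∏ j ∈ (Finset.univ.erase i1).erase i0, Z j j0
      have h7 : (((E *ᵥ w) r * w r' + w r * (E *ᵥ w) r') * R) * (((E *ᵥ w) r * w r' + w r * (E *ᵥ w) r') * R) = 0 := by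
        calc _ = (((E *ᵥ w) r * w r' + w r * (E *ᵥ w) r') * R) *
              (((E *ᵥ w) r' * w r + w r' * (E *ᵥ w) r) * R) := by ring
          _ = (Z i0 r * Z i1 r' * K) * (Z i0 r' * Z i1 r * K) := by rw [h3, h5]
          _ = (Z i0 r * Z i1 r * K) * (Z i0 r' * Z i1 r' * K) := by ring
          _ = 0 := by rw [← h1, zero_mul]
      exact (mul_eq_zero.mp (mul_self_eq_zero.mp h7)).resolve_right hR0
    set l := (E *ᵥ w) j0 / w j0
    have hdep : E *ᵥ w = l • w := by
      funext r
      have h := hzero r j0
      rw [Pi.smul_apply, smul_eq_mul]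
      simp only [l]
      field_simp
      linear_combination h - (w r * (E *ᵥ w) j0) * h2
    have hl : l • l • w = 0 := by rw [← hdep, ← Matrix.mulVec_smul, ← hdep, hEEw]
    have hl0 : l = 0 := by
      rw [smul_smul] at hl
      exact mul_self_eq_zero.mp ((smul_eq_zero.mp hl).resolve_right hu)
    rw [hdep, hl0, zero_smul, Matrix.mulVec_zero] at hGEw
    exact hu hGEw.symm
  · -- `Ω` does not normalise the space
    intro heq
    let P' : Fin t → (Fin k → F) := fun _ => p
    let Q' : Fin t → (Fin k → F) := fun _ => q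
    set t1 := τ P' with ht1
    set t2 := τ Q' with ht2
    set t3 := τ (Function.update P' i0 q) with ht3
    set t4 := τ (Function.update Q' i0 p) with ht4'
    have hqp : f₁ q p = 1 := by rw [hsym]; exact hpq
    have b11 : QuadraticMap.polar Q t1 t1 = 0 := hprod0 _ _ i0 (hf₁.alternating _)
    have b22 : QuadraticMap.polar Q t2 t2 = 0 := hprod0 _ _ i0 (hf₁.alternating _)
    have b13 : QuadraticMap.polar Q t1 t3 = 0 :=
      hprod0 _ _ i1 (by rw [Function.update_of_ne h01.symm]; exact hf₁.alternating _)
    have b14 : QuadraticMap.polar Q t1 t4 = 0 :=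
      hprod0 _ _ i0 (by rw [Function.update_self]; exact hf₁.alternating _)
    have b23 : QuadraticMap.polar Q t2 t3 = 0 :=
      hprod0 _ _ i0 (by rw [Function.update_self]; exact hf₁.alternating _)
    have b24 : QuadraticMap.polar Q t2 t4 = 0 :=
      hprod0 _ _ i1 (by rw [Function.update_of_ne h01.symm]; exact hf₁.alternating _)
    have b12 : QuadraticMap.polar Q t1 t2 = c := by
      simp [ht1, ht2, τ, hform, P', Q', hpq]
    have b34 : QuadraticMap.polar Q t3 t4 = c := by
      rw [ht3, ht4', hform, Finset.prod_eq_one, mul_one]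
      intro j _
      by_cases hj : j = i0
      · subst hj; rw [Function.update_self, Function.update_self, hqp]
      · rw [Function.update_of_ne hj, Function.update_of_ne hj]; exact hpq
    have hQadd : ∀ u w, Q (u + w) = Q u + Q w + QuadraticMap.polar Q u w := fun u w => by
      rw [QuadraticMap.polar]; ring
    set a := t1 + t2 with ha
    set b := t1 + (t3 + t4) with hb
    have hQa : Q a = c := by rw [ha, hQadd, hQτ, hQτ, b12]; ring
    have hQb : Q b = c := by
      rw [hb, hQadd, hQadd, hQτ, hQτ, hQτ, b34, hB.add_right, b13, b14]; ring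
    have bab : QuadraticMap.polar Q a b = c := by
      rw [ha, hb, hB.add_left, hB.add_right, hB.add_right, hB.add_right, hB.add_right, b11, b13, b14, b23, b24,
        QuadraticMap.polar_comm Q t2 t1, b12]
      ring
    have bba : QuadraticMap.polar Q b a = c := by rw [QuadraticMap.polar_comm, bab]
    have self0 : ∀ x, QuadraticMap.polar Q x x = 0 := fun x => by rw [polar_self hQ, h2, zero_mul]
    have ha0 : Q a ≠ 0 := by rw [hQa]; exact hc
    have hb0 : Q b ≠ 0 := by rw [hQb]; exact hc
    obtain ⟨h, hh⟩ : ∃ h, h = reflGL hQ a * reflGL hQ b * (reflGL hQ a)⁻¹ * (reflGL hQ b)⁻¹ := ⟨_, rfl⟩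
    have hO : h ∈ Geo.omegaGL Q := hh ▸ commutator_mem_omegaGL (refl_mem hQ ha0) (refl_mem hQ hb0)
    have hhN : h ∈ N := by
      have : h ∈ N ⊓ Geo.omegaGL Q := by rw [heq]; exact hO
      exact this.1
    have ra : ∀ x, ((reflGL hQ a : GL (Fin n) F) : Matrix (Fin n) (Fin n) F) *ᵥ x =
        x + (QuadraticMap.polar Q x a / c) • a := fun x => by
      rw [refl_mulVec hQ ha0, hQa]
      linear_combination (norm := module) -((QuadraticMap.polar Q x a / c) • addself a)
    have rb : ∀ x, ((reflGL hQ b : GL (Fin n) F) : Matrix (Fin n) (Fin n) F) *ᵥ x =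
        x + (QuadraticMap.polar Q x b / c) • b := fun x => by
      rw [refl_mulVec hQ hb0, hQb]
      linear_combination (norm := module) -((QuadraticMap.polar Q x b / c) • addself b)
    have hfix : ∀ x, QuadraticMap.polar Q x a = 0 → QuadraticMap.polar Q x b = 0 →
        (h : Matrix (Fin n) (Fin n) F) *ᵥ x = x := by
      intro x hxa hxb
      have e1 : ((reflGL hQ a : GL (Fin n) F) : Matrix (Fin n) (Fin n) F) *ᵥ x = x := by
        rw [ra, hxa, zero_div, zero_smul, add_zero]
      have e2 : ((reflGL hQ b : GL (Fin n) F) : Matrix (Fin n) (Fin n) F) *ᵥ x = x := by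
        rw [rb, hxb, zero_div, zero_smul, add_zero]
      rw [hh, refl_inv hQ ha0, refl_inv hQ hb0]
      simp only [Units.val_mul, ← Matrix.mulVec_mulVec, e1, e2]
    have hha : (h : Matrix (Fin n) (Fin n) F) *ᵥ a = b + a := by
      rw [hh, refl_inv hQ ha0, refl_inv hQ hb0]
      simp only [Units.val_mul, ← Matrix.mulVec_mulVec]
      rw [rb a, bab, div_self hc, one_smul, ra (a + b), hB.add_left, self0, bba, zero_add, div_self hc, one_smul,
        show a + b + a = b by linear_combination (norm := module) addself a, rb b, self0, zero_div, zero_smul,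
        add_zero, ra b, bba, div_self hc, one_smul]
    -- a test subspace
    have hcomm : ∀ i M, slotOp e P i M * (h : Matrix (Fin n) (Fin n) F) =
        (h : Matrix (Fin n) (Fin n) F) * slotOp e P i M := by
      have hgenc : ∀ i, ∀ M ∈ spinSet f₁, L i M * (h : Matrix (Fin n) (Fin n) F) =
          (h : Matrix (Fin n) (Fin n) F) * L i M := by
        intro i M hM
        set X := L i M with hX
        set d := (h : Matrix (Fin n) (Fin n) F) * X * ((h⁻¹ : GL (Fin n) F) : Matrix _ _ F) - X with hd
        have hdU : d ∈ U := sub_mem ((hhN X).mp (hgen i M hM)) (hgen i M hM)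
        let Φ : (Fin n → F) →ₗ[F] (Fin 4 → F) :=
          { toFun := fun x => ![QuadraticMap.polar Q x a, QuadraticMap.polar Q x b,
              QuadraticMap.polar Q (X *ᵥ x) a, QuadraticMap.polar Q (X *ᵥ x) b]
            map_add' := fun x y => by
              funext j; fin_cases j <;> simp [Matrix.mulVec_add, hB.add_left]
            map_smul' := fun r x => by
              funext j; fin_cases j <;> simp [Matrix.mulVec_smul, hB.smul_left] }
        have hker : n ≤ Module.finrank F (LinearMap.ker (Matrix.toLin' d)) + 4 := by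
          have h1 := Φ.finrank_range_add_finrank_ker
          have hr : Module.finrank F (LinearMap.range Φ) ≤ 4 := (Submodule.finrank_le _).trans (by simp)
          have hle : LinearMap.ker Φ ≤ LinearMap.ker (Matrix.toLin' d) := by
            intro x hx
            have hx' := LinearMap.mem_ker.mp hx
            have q0 := congrFun hx' 0
            have q1 := congrFun hx' 1
            have q2 := congrFun hx' 2
            have q3 := congrFun hx' 3
            simp [Φ] at q0 q1 q2 q3
            have hinvx : ((h⁻¹ : GL (Fin n) F) : Matrix _ _ F) *ᵥ x = x := by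
              conv_lhs => rw [← hfix x q0 q1]
              rw [Matrix.mulVec_mulVec, ← Units.val_mul, inv_mul_cancel, Units.val_one, Matrix.one_mulVec]
            rw [LinearMap.mem_ker, Matrix.toLin'_apply, hd, Matrix.sub_mulVec, ← Matrix.mulVec_mulVec,
              ← Matrix.mulVec_mulVec, hinvx, hfix _ q2 q3, sub_self]
          have := Submodule.finrank_mono hle
          rw [Module.finrank_pi, Fintype.card_fin] at h1
          omega
        obtain ⟨x0, hx0, hx00⟩ := Submodule.exists_mem_ne_zero_of_ne_bot
          (p := LinearMap.ker (Matrix.toLin' d)) (by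
            intro hbot; rw [hbot, finrank_bot] at hker; omega)
        rw [LinearMap.mem_ker, Matrix.toLin'_apply] at hx0
        -- it commutes with all generators
        have hdc : ∀ j, ∀ N' ∈ spinSet f₁, L j N' * d = d * L j N' := by
          intro j N' hN'
          obtain ⟨s, hs⟩ := hanti d hdU _ (hgen j N' hN')
          by_cases hs0 : s = 0
          · rw [hs0, zero_smul] at hs
            have h3 : d * L j N' + (d * L j N' + L j N' * d) = d * L j N' := by rw [hs, add_zero]
            calc L j N' * d = (d * L j N' + d * L j N') + L j N' * d := by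
                  rw [← two_smul F (d * L j N'), h2, zero_smul, zero_add]
              _ = _ := by rw [add_assoc]; exact h3
          · exfalso
            have hle : LinearMap.ker (Matrix.toLin' d) ≤ LinearMap.range (Matrix.toLin' d) := by
              intro x hx
              rw [LinearMap.mem_ker, Matrix.toLin'_apply] at hx
              refine ⟨s⁻¹ • (L j N' *ᵥ x), ?_⟩
              have h4 := congrArg (fun Y => Y *ᵥ x) hs
              simp only [Matrix.add_mulVec, ← Matrix.mulVec_mulVec, hx, Matrix.mulVec_zero, add_zero,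
                Matrix.smul_mulVec, Matrix.one_mulVec] at h4
              rw [map_smul, Matrix.toLin'_apply, h4, smul_smul, inv_mul_cancel₀ hs0, one_smul]
            have h5 := Submodule.finrank_mono hle
            have h6 := (Matrix.toLin' d).finrank_range_add_finrank_ker
            rw [Module.finrank_pi, Fintype.card_fin] at h6
            omega
        obtain ⟨r, hr⟩ := eq_smul_one_of_commute_slotOp e P (A := d) fun j N' => by
          have htop := hS.generates ((Subalgebra.centralizer F {d}).comap (slotOp e P j)) fun N'' hN'' => by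
            simpa [Set.mem_centralizer_iff] using (hdc j N'' hN'').symm
          have hm : N' ∈ (Subalgebra.centralizer F {d}).comap (slotOp e P j) := htop ▸ Algebra.mem_top
          exact ((Subalgebra.mem_centralizer_iff F).mp hm d rfl).symm
        have hd0 : d = 0 := by
          rw [hr, Matrix.smul_mulVec, Matrix.one_mulVec] at hx0
          rw [hr, (smul_eq_zero.mp hx0).resolve_right hx00, zero_smul]
        rw [hd, sub_eq_zero] at hd0
        conv_lhs => rw [← hd0]
        rw [mul_assoc, ← Units.val_mul, inv_mul_cancel, Units.val_one, mul_one]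
      intro i M
      have htop := hS.generates ((Subalgebra.centralizer F {(h : Matrix (Fin n) (Fin n) F)}).comap (slotOp e P i))
        fun N'' hN'' => by simpa [Set.mem_centralizer_iff] using (hgenc i N'' hN'').symm
      have hm : M ∈ (Subalgebra.centralizer F {(h : Matrix (Fin n) (Fin n) F)}).comap (slotOp e P i) :=
        htop ▸ Algebra.mem_top
      exact ((Subalgebra.mem_centralizer_iff F).mp hm _ rfl).symm
    obtain ⟨r, hr⟩ := eq_smul_one_of_commute_slotOp e P hcomm
    let Ψ : (Fin n → F) →ₗ[F] (Fin 2 → F) :=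
      { toFun := fun x => ![QuadraticMap.polar Q x a, QuadraticMap.polar Q x b]
        map_add' := fun x y => by funext j; fin_cases j <;> simp [hB.add_left]
        map_smul' := fun r x => by funext j; fin_cases j <;> simp [hB.smul_left] }
    obtain ⟨x, hx, hx0⟩ := Submodule.exists_mem_ne_zero_of_ne_bot (p := LinearMap.ker Ψ) (by
      intro hbot
      have h1 := Ψ.finrank_range_add_finrank_ker
      have hr : Module.finrank F (LinearMap.range Ψ) ≤ 2 := (Submodule.finrank_le _).trans (by simp)
      rw [hbot, finrank_bot, Module.finrank_pi, Fintype.card_fin] at h1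
      omega)
    have hx' := LinearMap.mem_ker.mp hx
    have q0 := congrFun hx' 0
    have q1 := congrFun hx' 1
    simp [Ψ] at q0 q1
    have h1 := hfix x q0 q1
    rw [hr, Matrix.smul_mulVec, Matrix.one_mulVec] at h1
    have hr1 : r = 1 := by
      have : (r - 1) • x = 0 := by rw [sub_smul, one_smul, h1, sub_self]
      exact sub_eq_zero.mp ((smul_eq_zero.mp this).resolve_right hx0)
    rw [hr, hr1, one_smul, Matrix.one_mulVec] at hha
    have hbz : b = 0 := by linear_combination (norm := module) -hha
    exact hb0 (by rw [hbz]; exact quad_zero hQ)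

end Cfsg.Agent.S5707
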