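import Cfsg.Statements.S5709
import Cfsg.Agent.TensorOrthSlice.Main

set_option autoImplicit false
open Cfsg

namespace Cfsg.Agent.S5709

/-- Let F be a finite field with q elements, n ≥ 13 even, Q a non-degenerate quadratic form on F^n of minus type (no subspace of dimension n/2 is totally singular), and Ω the commutator subgroup of the isometry group of Q, viewed inside GL_n(F). Suppose q is odd and that, through a change of basis P and a bijection of index sets e, the polar form of Q is similar to the tensor product of non-degenerate symmetric bilinear forms f₁ on F^(n₁), n₁ odd and at least 3, and f₂ on F^(n₂), n₂ even and at least 4 with no totally isotropic subspace of dimension n₂/2 (minus type). Unless q = 3 and n₁ = 3, the elements of Ω in the stabiliser of this tensor decomposition form a maximal subgroup of Ω. -/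
theorem result {F : Type*} [Field F] [Fintype F] {n : ℕ} (hn : 13 ≤ n) (heven : Even n) (Q : (Fin n → F) → F) (hQ : Cfsg.Geo.IsNondegenerateQuadraticForm Q) (hminus : ¬ Cfsg.Geo.IsPlusTypeOn Q ⊤) (hodd : Odd (Fintype.card F)) (n₁ n₂ : ℕ) (h1 : 3 ≤ n₁) (h1o : Odd n₁) (h2 : 4 ≤ n₂) (h2e : Even n₂) (hex : ¬ (Fintype.card F = 3 ∧ n₁ = 3)) (e : (Fin n) ≃ Fin n₁ × Fin n₂) (P : Matrix.GeneralLinearGroup (Fin n) F) (f₁ : (Fin n₁ → F) → (Fin n₁ → F) → F) (f₂ : (Fin n₂ → F) → (Fin n₂ → F) → F) (hf₁ : Cfsg.Geo.IsSymmetricForm f₁) (hf₂ : Cfsg.Geo.IsSymmetricForm f₂) (hf₂m : ¬ Cfsg.Geo.IsPlusTypeOn (fun v : Fin n₂ → F => f₂ v v) ⊤) (hT : Cfsg.Geo.IsTensorFormStructure id (QuadraticMap.polar Q) f₁ f₂ e P) : Cfsg.Geo.IsMaximalIn (Cfsg.Geo.omegaGL Q) (Cfsg.Geo.tensorProductSubgroup n₁ n₂ e P ⊓ Cfsg.Geo.omegaGL Q) := by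
  have h2' := CfsgLib.TensorSlice.two_ne_of_odd hodd
  have hcard : n = n₁ * n₂ := by simpa using Fintype.card_congr e
  obtain ⟨c, hc, hs⟩ := CfsgLib.TensorSlice.aset_of_structure (Q := CfsgLib.AschbacherQuad.quadForm hQ) h2'
    (by omega) (by omega) (CfsgLib.AschbacherQuad.quadForm_nondegenerate hQ) e P hf₁ hf₂ hT
  refine CfsgLib.TensorOrth.isMaximalIn_of_coord (CfsgLib.AschbacherQuad.quadForm hQ) e P
    (CfsgLib.OrthMax.isMaximalIn_omega _ (hs.exists_omega_out h1 (by omega)) fun M hM g hg _ hgK => ?_)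
  rcases Nat.lt_or_ge n₁ 5 with h5 | h5
  · have h3 : n₁ = 3 := by obtain ⟨k, hk⟩ := h1o; omega
    subst h3
    have hb : 6 ≤ n₂ := by obtain ⟨k, hk⟩ := h2e; omega
    exact hs.omega_le_of_three rfl hb h2e (fun h => hex ⟨h, rfl⟩) hM hg hgK
  have hN : n₂ = 4 → CfsgLib.TensorOrth.NoPlane (CfsgLib.TensorOrth.bilinOf hf₂.bilinear 1) := by
    intro h4 x y hx hxx hyy hxy
    by_contra hcon
    push Not at hcon
    simp only [CfsgLib.TensorOrth.bilinOf_apply, one_mul] at hxx hyy hxy
    refine hf₂m ⟨Submodule.span F {x, y}, le_top, fun v hv => ?_, ?_⟩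
    · obtain ⟨s, t, rfl⟩ := Submodule.mem_span_pair.1 hv
      have hb := hf₂.bilinear
      show f₂ (s • x + t • y) (s • x + t • y) = 0
      simp only [hb.add_left, hb.add_right, hb.smul_left, hb.smul_right, hxx, hyy, hxy, hf₂.symm y x, mul_zero,
        add_zero]
    · rw [finrank_top, Module.finrank_fin_fun]
      have hli : LinearIndependent F ![x, y] := by
        rw [LinearIndependent.pair_iff' hx]
        exact hcon
      have h := finrank_span_eq_card hli
      rw [Matrix.range_cons, Matrix.range_cons, Matrix.range_empty, Set.union_empty, Set.singleton_union,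
        Fintype.card_fin] at h
      omega
  refine hs.of_swap (fun M' hM' g' hg' hgK' => ?_) hM hg hgK
  refine hs.swap.omega_le_of_odd (by omega) h5 h1o (fun h => ?_) (fun _ => ?_) ?_ (fun h => ?_) hM' hg' hgK'
  · exact (Nat.not_even_iff_odd.2 h1o) (h ▸ h2e)
  · rcases Nat.lt_or_ge n₂ 5 with h | h
    · exact Or.inr ⟨by omega, hN (by omega)⟩
    · exact Or.inl h
  · rcases Nat.lt_or_ge n₂ 5 with h | h
    · exact Or.inr (Or.inr (hN (by omega)))
    · exact Or.inl h
  · exact absurd h2e (Nat.not_even_iff_odd.2 h)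

end Cfsg.Agent.S5709
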