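import Cfsg.Statements.S5710
import Cfsg.Agent.Forms.Diagonal
import Cfsg.Agent.TensorNonmax.Basic
-- import your own Cfsg.Agent.* helpers here

set_option autoImplicit false
open Cfsg

namespace Cfsg.Agent.S5710

open CfsgLib.TensorNonmax
open scoped Matrix

variable {F : Type*} [Field F] [Fintype F]

lemma three_eq_zero (hq : Fintype.card F = 3) : (3 : F) = 0 := by
  have h : ((Fintype.card F : ℕ) : F) = 0 := Nat.cast_card_eq_zero F
  rw [hq] at h; exact_mod_cast h

lemma two_eq_neg_one (hq : Fintype.card F = 3) : (2 : F) = -1 := by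
  linear_combination three_eq_zero hq

lemma sq_eq_one (hq : Fintype.card F = 3) {x : F} (hx : x ≠ 0) : x * x = 1 := by
  have h := FiniteField.pow_card_sub_one_eq_one x hx
  rw [hq] at h
  rw [← h]; ring

/-- A diagonal basis, all but the last vector of norm one. -/
lemma exists_diag (hq : Fintype.card F = 3) {n : ℕ} {f : (Fin (n + 1) → F) → (Fin (n + 1) → F) → F}
    (hf : Geo.IsSymmetricForm f) :
    ∃ b : Module.Basis (Fin (n + 1)) F (Fin (n + 1) → F), (∀ i j, i ≠ j → f (b i) (b j) = 0) ∧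
      (∀ i, i ≠ Fin.last n → f (b i) (b i) = 1) ∧
      (f (b (Fin.last n)) (b (Fin.last n)) = 1 ∨ f (b (Fin.last n)) (b (Fin.last n)) = -1) := by
  let B : LinearMap.BilinForm F (Fin (n + 1) → F) :=
    LinearMap.mk₂ F f (fun a b c => hf.bilinear.add_left a b c) (fun a b c => hf.bilinear.smul_left a b c)
      (fun a b c => hf.bilinear.add_right a b c) (fun a b c => hf.bilinear.smul_right a b c)
  refine CfsgLib.Forms.exists_diagonal_basis_symm (α := (-1 : F)) ?_ B ⟨hf.symm⟩ ?_ ?_ (by simp)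
  · rw [two_eq_neg_one hq]; exact neg_ne_zero.mpr one_ne_zero
  · intro x hx
    by_contra hne
    obtain ⟨y, hy⟩ := (hf.nondegenerate x hne).2
    exact hy (hx y)
  · rintro ⟨r, hr⟩
    have hr0 : r ≠ 0 := by rintro rfl; simp at hr
    rw [sq_eq_one hq hr0] at hr
    have h3 := three_eq_zero hq
    exact one_ne_zero (by linear_combination h3 + hr : (1 : F) = 0)

/-- An orthogonal frame of three vectors of equal norm. -/
lemma exists_frame (hq : Fintype.card F = 3) {f : (Fin 3 → F) → (Fin 3 → F) → F} (hf : Geo.IsSymmetricForm f) :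
    ∃ (ε : Fin 3 → (Fin 3 → F)) (α : F), α ≠ 0 ∧ ∀ i j, f (ε i) (ε j) = if i = j then α else 0 := by
  obtain ⟨b, ho, h1, hl⟩ := exists_diag hq (n := 2) hf
  have hb := hf.bilinear
  rcases hl with hl | hl
  · refine ⟨b, 1, one_ne_zero, fun i j => ?_⟩
    split_ifs with h
    · subst h
      by_cases hi : i = Fin.last 2
      · rw [hi, hl]
      · exact h1 i hi
    · exact ho i j h
  · have h00 := h1 0 (by decide)
    have h11 := h1 1 (by decide)
    have hl2 : f (b 2) (b 2) = -1 := hl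
    have h01 := ho 0 1 (by decide)
    have h02 := ho 0 2 (by decide)
    have h12 := ho 1 2 (by decide)
    have h10 := ho 1 0 (by decide)
    have h20 := ho 2 0 (by decide)
    have h21 := ho 2 1 (by decide)
    obtain ⟨c, hc⟩ : ∃ c : F, c = -1 := ⟨_, rfl⟩
    refine ⟨![b 0 + b 1, b 0 + c • b 1, b 2], -1, neg_ne_zero.mpr one_ne_zero, fun i j => ?_⟩
    fin_cases i <;> fin_cases j <;>
      simp [hb.add_left, hb.add_right, hb.smul_left, hb.smul_right, h00, h11, hl2, h01, h02, h12, h10, h20, h21] <;>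
      first
        | (rw [hc]; ring1)
        | (rw [hc]; linear_combination three_eq_zero hq)
        | linear_combination three_eq_zero hq

/-- A similarity of a form with such a frame permutes the frame up to signs. -/
lemma frame_perm (hq : Fintype.card F = 3) {f : (Fin 3 → F) → (Fin 3 → F) → F} (hf : Geo.IsSymmetricForm f)
    {ε : Fin 3 → (Fin 3 → F)} {α : F} (hα : α ≠ 0) (hε : ∀ i j, f (ε i) (ε j) = if i = j then α else 0)
    (a : (Fin 3 → F) →ₗ[F] (Fin 3 → F)) {l : F} (hl : l ≠ 0) (ha : ∀ x x', f (a x) (a x') = l * f x x') :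
    ∃ (σ : Equiv.Perm (Fin 3)) (s : Fin 3 → F), ∀ i, s i ≠ 0 ∧ a (ε i) = s i • ε (σ i) := by
  have hb := hf.bilinear
  have hzero : ∀ v, f 0 v = 0 := fun v => by simpa using hb.smul_left 0 0 v
  let B : LinearMap.BilinForm F (Fin 3 → F) :=
    LinearMap.mk₂ F f (fun a b c => hb.add_left a b c) (fun a b c => hb.smul_left a b c)
      (fun a b c => hb.add_right a b c) (fun a b c => hb.smul_right a b c)
  have hB : ∀ u v, B u v = f u v := fun u v => rfl
  have hind : LinearIndependent F ε := by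
    rw [Fintype.linearIndependent_iff]
    intro g hg i
    have h := congrArg (fun v => B v (ε i)) hg
    simp only [map_sum, map_smul, LinearMap.coe_sum, Finset.sum_apply, LinearMap.smul_apply, hB, hε,
      smul_eq_mul, mul_ite, mul_zero, map_zero, LinearMap.zero_apply, Finset.sum_ite_eq', Finset.mem_univ,
      if_true] at h
    exact (mul_eq_zero.mp h).resolve_right hα
  let b := basisOfLinearIndependentOfCardEqFinrank hind (by simp)
  have hbε : ∀ i, b i = ε i := fun i => by simp [b]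
  have hexp : ∀ v, v = ∑ j, (f v (ε j) / α) • ε j := by
    intro v
    have h := b.sum_repr v
    have hc : ∀ j, f v (ε j) / α = b.repr v j := by
      intro j
      have h' := congrArg (fun w => B w (ε j)) h
      simp only [hbε, map_sum, map_smul, LinearMap.coe_sum, Finset.sum_apply, LinearMap.smul_apply, hB, hε,
        smul_eq_mul, mul_ite, mul_zero, Finset.sum_ite_eq', Finset.mem_univ, if_true] at h'
      rw [← h']; field_simp
    calc v = ∑ j, b.repr v j • b j := h.symm
      _ = _ := Finset.sum_congr rfl fun j _ => by rw [hc, hbε]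
  let C : Matrix (Fin 3) (Fin 3) F := Matrix.of fun i j => f (a (ε i)) (ε j) / α
  have hC : C * C.transpose = l • (1 : Matrix (Fin 3) (Fin 3) F) := by
    ext i k
    have h : B (a (ε i)) (a (ε k)) = ∑ j, C i j * C k j * α := by
      conv_lhs => rw [hexp (a (ε i)), hexp (a (ε k))]
      simp only [map_sum, map_smul, LinearMap.coe_sum, Finset.sum_apply, LinearMap.smul_apply, hB, hε, smul_eq_mul,
        mul_ite, mul_zero, Finset.sum_ite_eq, Finset.mem_univ, if_true]
      exact Finset.sum_congr rfl fun j _ => by simp [C]; ring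
    rw [hB, ha, hε, ← Finset.sum_mul] at h
    rw [Matrix.mul_apply, Matrix.smul_apply, Matrix.one_apply, smul_eq_mul]
    simp only [Matrix.transpose_apply]
    apply mul_right_cancel₀ hα
    rw [← h]
    split_ifs <;> ring
  have hl1 : l = 1 := by
    have h := congrArg Matrix.det hC
    rw [Matrix.det_mul, Matrix.det_transpose, Matrix.det_smul, Matrix.det_one, mul_one, Fintype.card_fin] at h
    have hd : C.det ≠ 0 := by
      intro h0; rw [h0, mul_zero] at h; exact pow_ne_zero 3 hl h.symm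
    rw [sq_eq_one hq hd] at h
    rw [pow_succ, pow_two, sq_eq_one hq hl, one_mul] at h
    exact h.symm
  -- each row of `C` has exactly one non-zero entry
  have hrow : ∀ i, ∃ j, C i j ≠ 0 ∧ ∀ k, k ≠ j → C i k = 0 := by
    intro i
    have h := congrFun (congrFun hC i) i
    rw [Matrix.mul_apply, Matrix.smul_apply, Matrix.one_apply_eq, smul_eq_mul, mul_one, hl1] at h
    simp only [Matrix.transpose_apply, Fin.sum_univ_three] at h
    have h3 := three_eq_zero hq
    by_cases h0 : C i 0 = 0 <;> by_cases h1 : C i 1 = 0 <;> by_cases h2 : C i 2 = 0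
    · simp [h0, h1, h2] at h
    · exact ⟨2, h2, fun k hk => by fin_cases k <;> first | exact h0 | exact h1 | exact absurd rfl hk⟩
    · exact ⟨1, h1, fun k hk => by fin_cases k <;> first | exact h0 | exact h2 | exact absurd rfl hk⟩
    · rw [h0, sq_eq_one hq h1, sq_eq_one hq h2] at h
      exact absurd (by linear_combination h : (1 : F) = 0) one_ne_zero
    · exact ⟨0, h0, fun k hk => by fin_cases k <;> first | exact h1 | exact h2 | exact absurd rfl hk⟩
    · rw [h1, sq_eq_one hq h0, sq_eq_one hq h2] at h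
      exact absurd (by linear_combination h : (1 : F) = 0) one_ne_zero
    · rw [h2, sq_eq_one hq h0, sq_eq_one hq h1] at h
      exact absurd (by linear_combination h : (1 : F) = 0) one_ne_zero
    · rw [sq_eq_one hq h0, sq_eq_one hq h1, sq_eq_one hq h2] at h
      exact absurd (by linear_combination h3 - h : (1 : F) = 0) one_ne_zero
  choose σ hσ hσ0 using hrow
  have hεσ : ∀ i, a (ε i) = C i (σ i) • ε (σ i) := by
    intro i
    conv_lhs => rw [hexp (a (ε i))]
    rw [Finset.sum_eq_single (σ i)]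
    · rfl
    · intro k _ hk
      have := hσ0 i k hk
      simp only [C, Matrix.of_apply] at this
      rw [this, zero_smul]
    · intro h; exact absurd (Finset.mem_univ _) h
  have hinj : Function.Injective σ := by
    intro i k h
    by_contra hne
    have h1 := ha (ε i) (ε k)
    rw [hε, if_neg hne, mul_zero, hεσ, hεσ, hb.smul_left, hb.smul_right, hε, if_pos h] at h1
    exact mul_ne_zero (hσ i) (mul_ne_zero (hσ k) hα) h1
  exact ⟨Equiv.ofBijective σ (Finite.injective_iff_bijective.mp hinj), fun i => C i (σ i),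
    fun i => ⟨hσ i, hεσ i⟩⟩

/-- A reflection, with its coefficient written through the polar form. -/
lemma refl_eq {ι : Type} [Fintype ι] [DecidableEq ι] {Q : (ι → F) → F} (hQ : Geo.IsNondegenerateQuadraticForm Q)
    (hq : Fintype.card F = 3) {u : ι → F} (hu : QuadraticMap.polar Q u u ≠ 0) :
    Q u ≠ 0 ∧ ∀ x, ((reflGL hQ u : GL ι F) : Matrix ι ι F) *ᵥ x =
      x + (QuadraticMap.polar Q x u / QuadraticMap.polar Q u u) • u := by
  have h := polar_self hQ u
  rw [two_eq_neg_one hq, neg_one_mul] at h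
  have hu' : Q u ≠ 0 := by intro h0; rw [h0, neg_zero] at h; exact hu h
  refine ⟨hu', fun x => ?_⟩
  rw [refl_mulVec hQ hu', h, div_neg, neg_smul, sub_eq_add_neg]

/-- Let F be the field with 3 elements, n = 3 n₂ ≥ 13 even, Q a non-degenerate quadratic form on F^n of minus type and Ω the commutator subgroup of its isometry group. Suppose that, through P and e, the polar form of Q is similar to the tensor product of non-degenerate symmetric bilinear forms f₁ on F^3 and f₂ on F^(n₂), n₂ even and at least 4, of minus type. Then the elements of Ω in the stabiliser of this tensor decomposition form a subgroup that is not maximal: some subgroup lies strictly between it and Ω. -/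
theorem result {F : Type*} [Field F] [Fintype F] {n : ℕ} (hn : 13 ≤ n) (heven : Even n) (Q : (Fin n → F) → F) (hQ : Cfsg.Geo.IsNondegenerateQuadraticForm Q) (hminus : ¬ Cfsg.Geo.IsPlusTypeOn Q ⊤) (hq : Fintype.card F = 3) (n₂ : ℕ) (h2 : 4 ≤ n₂) (h2e : Even n₂) (e : (Fin n) ≃ Fin 3 × Fin n₂) (P : Matrix.GeneralLinearGroup (Fin n) F) (f₁ : (Fin 3 → F) → (Fin 3 → F) → F) (f₂ : (Fin n₂ → F) → (Fin n₂ → F) → F) (hf₁ : Cfsg.Geo.IsSymmetricForm f₁) (hf₂ : Cfsg.Geo.IsSymmetricForm f₂) (hf₂m : ¬ Cfsg.Geo.IsPlusTypeOn (fun v : Fin n₂ → F => f₂ v v) ⊤) (hT : Cfsg.Geo.IsTensorFormStructure id (QuadraticMap.polar Q) f₁ f₂ e P) : ∃ K : Subgroup (Matrix.GeneralLinearGroup (Fin n) F), Cfsg.Geo.tensorProductSubgroup 3 n₂ e P ⊓ Cfsg.Geo.omegaGL Q < K ∧ K < Cfsg.Geo.omegaGL Q := by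
  classical
  obtain ⟨ε, α, hα, hε⟩ := exists_frame hq hf₁
  obtain ⟨c, hc, hτ⟩ := form_tmul hf₁.bilinear hf₂.bilinear hT
  obtain ⟨m, rfl⟩ : ∃ m, n₂ = m + 1 := ⟨n₂ - 1, by omega⟩
  obtain ⟨b, hbo, hb1, -⟩ := exists_diag hq hf₂
  have hne : ∀ (k : ℕ) (hk : k < 3), (⟨k, by omega⟩ : Fin (m + 1)) ≠ Fin.last m := by
    intro k hk h
    have := congrArg Fin.val h
    simp at this; omega
  set d := b ⟨0, by omega⟩
  set d' := b ⟨1, by omega⟩
  set d'' := b ⟨2, by omega⟩
  have fdd : f₂ d d = 1 := hb1 _ (hne 0 (by omega))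
  have fdd' : f₂ d d' = 0 := hbo _ _ (by simp)
  have fd'd : f₂ d' d = 0 := hbo _ _ (by simp)
  have fd'd' : f₂ d' d' = 1 := hb1 _ (hne 1 (by omega))
  have fd''d : f₂ d'' d = 0 := hbo _ _ (by simp)
  have fdd'' : f₂ d d'' = 0 := hbo _ _ (by simp)
  have fd''d' : f₂ d'' d' = 0 := hbo _ _ (by simp)
  have fd''d'' : f₂ d'' d'' = 1 := hb1 _ (hne 2 (by omega))
  have h2F : (2 : F) ≠ 0 := by rw [two_eq_neg_one hq]; exact neg_ne_zero.mpr one_ne_zero
  have hd0 : d ≠ 0 := b.ne_zero _
  have hd''0 : d'' ≠ 0 := b.ne_zero _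
  let τ := tmul e P
  have hB := hQ.polar_bilinear
  have hcα : c * α ≠ 0 := mul_ne_zero hc hα
  -- polar form on the frame
  have hττ : ∀ i j y y', QuadraticMap.polar Q (τ (ε i) y) (τ (ε j) y') =
      if i = j then c * α * f₂ y y' else 0 := by
    intro i j y y'
    rw [hτ, hε]
    split_ifs <;> ring
  have hfne : ∀ i, ε i ≠ 0 := by
    intro i h
    have h1 := hε i i
    rw [if_pos rfl, h] at h1
    have h0 : f₁ (0 : Fin 3 → F) 0 = 0 := by simpa using hf₁.bilinear.smul_left 0 0 0
    exact hα (h1 ▸ h0)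
  -- the decomposition
  let D : Fin 3 → Submodule F (Fin n → F) := fun i => LinearMap.range (τ (ε i))
  set T := Geo.tensorProductSubgroup 3 (m + 1) e P
  have hTK : ∀ g ∈ T ⊓ Geo.omegaGL Q, g ∈ Geo.decompositionStabilizer D := by
    rintro g ⟨hgT, hgO⟩
    obtain ⟨A, B, hAB⟩ := mem_tensorProductSubgroup hgT
    have hiso := omegaGL_le Q hgO
    have hsim : ∀ x x' y y', f₁ ((A : Matrix (Fin 3) (Fin 3) F) *ᵥ x) ((A : Matrix (Fin 3) (Fin 3) F) *ᵥ x') *
        f₂ ((B : Matrix _ _ F) *ᵥ y) ((B : Matrix _ _ F) *ᵥ y') = f₁ x x' * f₂ y y' := by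
      intro x x' y y'
      have h := polar_isometry hiso (τ x y) (τ x' y')
      rw [hAB, hAB, hτ, hτ] at h
      exact mul_left_cancel₀ hc h
    obtain ⟨l, hl, ha⟩ : ∃ l : F, l ≠ 0 ∧ ∀ x x', f₁ ((A : Matrix (Fin 3) (Fin 3) F) *ᵥ x)
        ((A : Matrix (Fin 3) (Fin 3) F) *ᵥ x') = l * f₁ x x' := by
      have hk : f₂ ((B : Matrix _ _ F) *ᵥ d) ((B : Matrix _ _ F) *ᵥ d) ≠ 0 := by
        intro h0
        have h := hsim (ε 0) (ε 0) d d
        rw [h0, mul_zero, fdd, mul_one, hε, if_pos rfl] at h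
        exact hα h.symm
      refine ⟨(f₂ ((B : Matrix _ _ F) *ᵥ d) ((B : Matrix _ _ F) *ᵥ d))⁻¹, inv_ne_zero hk, fun x x' => ?_⟩
      have h := hsim x x' d d
      rw [fdd, mul_one] at h
      rw [← h]; field_simp
    obtain ⟨σ, s, hs⟩ := frame_perm hq hf₁ hα hε (Matrix.toLin' (A : Matrix (Fin 3) (Fin 3) F)) hl
      (fun x x' => by simpa using ha x x')
    refine ⟨σ, fun i => ?_⟩
    have hAe : (A : Matrix (Fin 3) (Fin 3) F) *ᵥ ε i = s i • ε (σ i) := by simpa using (hs i).2
    ext v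
    simp only [D, Submodule.mem_map, LinearMap.mem_range, Matrix.toLin'_apply]
    constructor
    · rintro ⟨_, ⟨y, rfl⟩, rfl⟩
      refine ⟨s i • ((B : Matrix _ _ F) *ᵥ y), ?_⟩
      rw [hAB, hAe, map_smul, map_smul, LinearMap.smul_apply]
    · rintro ⟨y, rfl⟩
      refine ⟨_, ⟨(s i)⁻¹ • (((B⁻¹ : GL (Fin (m + 1)) F) : Matrix _ _ F) *ᵥ y), rfl⟩, ?_⟩
      rw [hAB, hAe, Matrix.mulVec_smul, Matrix.mulVec_mulVec, ← Units.val_mul, mul_inv_cancel, Units.val_one,
        Matrix.one_mulVec, map_smul, map_smul, LinearMap.smul_apply, smul_smul, inv_mul_cancel₀ (hs i).1, one_smul]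
  refine ⟨Geo.decompositionStabilizer D ⊓ Geo.omegaGL Q,
    lt_of_le_of_ne (fun g hg => ⟨hTK g hg, hg.2⟩) ?_, lt_of_le_of_ne inf_le_right ?_⟩
  · -- an element acting on one member only
    intro heq
    set U := τ (ε 0) d with hU
    set V := τ (ε 0) (d + d') with hV
    have hUU : QuadraticMap.polar Q U U = c * α := by rw [hU, hττ, if_pos rfl, fdd, mul_one]
    have hVV : QuadraticMap.polar Q V V = c * α * 2 := by
      rw [hV, hττ, if_pos rfl, hf₂.bilinear.add_left, hf₂.bilinear.add_right, hf₂.bilinear.add_right,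
        fdd, fdd', fd'd, fd'd']
      ring
    obtain ⟨hU0, hRU⟩ := refl_eq hQ hq (u := U) (by rw [hUU]; exact hcα)
    obtain ⟨hV0, hRV⟩ := refl_eq hQ hq (u := V) (by rw [hVV]; exact mul_ne_zero hcα h2F)
    set g := reflGL hQ U * reflGL hQ V * (reflGL hQ U)⁻¹ * (reflGL hQ V)⁻¹ with hg
    have hgO : g ∈ Geo.omegaGL Q := commutator_mem_omegaGL (refl_mem hQ hU0) (refl_mem hQ hV0)
    have hgv : ∀ v, (g : Matrix (Fin n) (Fin n) F) *ᵥ v = ((reflGL hQ U : GL (Fin n) F) : Matrix (Fin n) (Fin n) F) *ᵥ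
        (((reflGL hQ V : GL (Fin n) F) : Matrix (Fin n) (Fin n) F) *ᵥ (((reflGL hQ U : GL (Fin n) F) : Matrix (Fin n) (Fin n) F) *ᵥ
        (((reflGL hQ V : GL (Fin n) F) : Matrix (Fin n) (Fin n) F) *ᵥ v))) := by
      intro v
      rw [hg, refl_inv hQ hU0, refl_inv hQ hV0]
      simp only [Units.val_mul, Matrix.mulVec_mulVec, mul_assoc]
    have hfix : ∀ (w : Fin n → F), QuadraticMap.polar Q w U = 0 → QuadraticMap.polar Q w V = 0 →
        (g : Matrix (Fin n) (Fin n) F) *ᵥ w = w := by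
      intro w h1 h2
      have e1 : ((reflGL hQ V : GL (Fin n) F) : Matrix (Fin n) (Fin n) F) *ᵥ w = w := by
        rw [hRV, h2, zero_div, zero_smul, add_zero]
      have e2 : ((reflGL hQ U : GL (Fin n) F) : Matrix (Fin n) (Fin n) F) *ᵥ w = w := by
        rw [hRU, h1, zero_div, zero_smul, add_zero]
      rw [hgv, e1, e2, e1, e2]
    have hoth : ∀ i, i ≠ 0 → ∀ y, (g : Matrix (Fin n) (Fin n) F) *ᵥ τ (ε i) y = τ (ε i) y := by
      intro i hi y
      exact hfix _ (by rw [hU, hττ, if_neg hi]) (by rw [hV, hττ, if_neg hi])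
    have hd'' : (g : Matrix (Fin n) (Fin n) F) *ᵥ τ (ε 0) d'' = τ (ε 0) d'' :=
      hfix _ (by rw [hU, hττ, if_pos rfl, fd''d, mul_zero])
        (by rw [hV, hττ, if_pos rfl, hf₂.bilinear.add_right, fd''d, fd''d', add_zero, mul_zero])
    have hzero : ∀ y', f₂ 0 y' = 0 := fun y' => by simpa using hf₂.bilinear.smul_left 0 0 y'
    set E := τ (ε 0) d' with hE
    have hVsum : V = U + E := by rw [hV, hU, hE, map_add]
    have pUV : QuadraticMap.polar Q U V = c * α := by
      rw [hU, hV, hττ, if_pos rfl, hf₂.bilinear.add_right, fdd, fdd', add_zero, mul_one]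
    have pEV : QuadraticMap.polar Q E V = c * α := by
      rw [hE, hV, hττ, if_pos rfl, hf₂.bilinear.add_right, fd'd, fd'd', zero_add, mul_one]
    have pEU : QuadraticMap.polar Q E U = 0 := by rw [hE, hU, hττ, if_pos rfl, fd'd, mul_zero]
    have h2 := two_eq_neg_one hq
    have hdiv : c * α / (c * α * 2) = -1 := by rw [h2]; field_simp
    have rVU : ((reflGL hQ V : GL (Fin n) F) : Matrix (Fin n) (Fin n) F) *ᵥ U = -E := by
      rw [hRV, pUV, hVV, hdiv, hVsum, neg_smul, one_smul]; abel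
    have rVE : ((reflGL hQ V : GL (Fin n) F) : Matrix (Fin n) (Fin n) F) *ᵥ E = -U := by
      rw [hRV, pEV, hVV, hdiv, hVsum, neg_smul, one_smul]; abel
    have rUU : ((reflGL hQ U : GL (Fin n) F) : Matrix (Fin n) (Fin n) F) *ᵥ U = -U := by
      rw [hRU, hUU, div_self hcα, one_smul]
      have h3 := three_eq_zero hq
      calc U + U = ((2 : F)) • U := (two_smul F U).symm
        _ = -U := by rw [h2, neg_smul, one_smul]
    have rUE : ((reflGL hQ U : GL (Fin n) F) : Matrix (Fin n) (Fin n) F) *ᵥ E = E := by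
      rw [hRU, pEU, zero_div, zero_smul, add_zero]
    have hgU : (g : Matrix (Fin n) (Fin n) F) *ᵥ U = -U := by
      rw [hgv, rVU, Matrix.mulVec_neg, rUE, Matrix.mulVec_neg, rVE, neg_neg, rUU]
    have hgE : (g : Matrix (Fin n) (Fin n) F) *ᵥ E = -E := by
      rw [hgv, rVE, Matrix.mulVec_neg, rUU, neg_neg, rVU, Matrix.mulVec_neg, rUE]
    -- it stabilises the decomposition
    have hgK : g ∈ Geo.decompositionStabilizer D := by
      refine ⟨1, fun i => ?_⟩
      rw [Equiv.Perm.one_apply]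
      refine Submodule.eq_of_le_of_finrank_eq ?_ ?_
      · rintro _ ⟨_, ⟨y, rfl⟩, rfl⟩
        rw [Matrix.toLin'_apply]
        by_cases hi : i = 0
        · subst hi
          have step : ∀ (w u : Fin n → F) (k : F), w ∈ D 0 → u ∈ D 0 → w + k • u ∈ D 0 :=
            fun w u k hw hu => add_mem hw (Submodule.smul_mem _ _ hu)
          have hUm : U ∈ D 0 := ⟨d, rfl⟩
          have hVm : V ∈ D 0 := ⟨d + d', rfl⟩
          rw [hgv, hRU, hRV, hRU, hRV]
          exact step _ _ _ (step _ _ _ (step _ _ _ (step _ _ _ ⟨y, rfl⟩ hVm) hUm) hVm) hUm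
        · exact ⟨y, (hoth i hi y).symm⟩
      · exact (Submodule.equivMapOfInjective _ (fun u w h => Matrix.mulVec_injective_of_isUnit g.isUnit
          (by simpa using h)) (D i)).finrank_eq.symm
    -- but it is not in the tensor stabiliser
    have hgT : g ∈ T := (heq.symm ▸ (⟨hgK, hgO⟩ : g ∈ Geo.decompositionStabilizer D ⊓ Geo.omegaGL Q) :
      g ∈ T ⊓ Geo.omegaGL Q).1
    obtain ⟨A, B, hAB⟩ := mem_tensorProductSubgroup hgT
    have key : ∀ y : Fin (m + 1) → F, y ≠ 0 → ∃ k : F, (B : Matrix _ _ F) *ᵥ y = k • y := by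
      intro y hy
      have h := (hAB (ε 1) y).symm.trans (hoth 1 (by decide) y)
      rw [tmul_apply] at h
      have h' := cvec_injective e P (h.trans (tmul_apply e P _ _))
      have hA0 : (A : Matrix (Fin 3) (Fin 3) F) *ᵥ ε 1 ≠ 0 := fun h0 =>
        hfne 1 ((Matrix.mulVec_injective_of_isUnit A.isUnit) (h0.trans (Matrix.mulVec_zero _).symm))
      obtain ⟨i, hi⟩ := Function.ne_iff.mp hA0
      refine ⟨ε 1 i / ((A : Matrix (Fin 3) (Fin 3) F) *ᵥ ε 1) i, funext fun j => ?_⟩
      have hij := congrFun h' (i, j)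
      simp only at hij
      simp only [Pi.zero_apply] at hi
      rw [Pi.smul_apply, smul_eq_mul]
      field_simp
      linear_combination hij
    have hsum : d + d'' ≠ 0 := fun h => by
      have h1 := congrArg (fun y => f₂ y d) h
      simp only [hf₂.bilinear.add_left, fdd, fd''d, add_zero, hzero] at h1
      exact one_ne_zero h1
    obtain ⟨k, hk⟩ := key (d + d'') hsum
    have hgs : (g : Matrix (Fin n) (Fin n) F) *ᵥ τ (ε 0) (d + d'') = τ (ε 0) ((-1 : F) • d + d'') := by
      rw [map_add, Matrix.mulVec_add, ← hU, hgU, hd'', map_add, map_smul, neg_smul, one_smul]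
    rw [hAB, hk] at hgs
    have hv := cvec_injective e P ((tmul_apply e P _ _).symm.trans (hgs.trans (tmul_apply e P _ _)))
    obtain ⟨i, hi⟩ := Function.ne_iff.mp (hfne 0)
    simp only [Pi.zero_apply] at hi
    have hlin : ((-1 : F) • d + d'') =
        ((((A : Matrix (Fin 3) (Fin 3) F) *ᵥ ε 0) i * k) / ε 0 i) • (d + d'') := by
      funext j
      have hij := congrFun hv (i, j)
      simp only [Pi.smul_apply, smul_eq_mul, Pi.add_apply] at hij ⊢
      field_simp
      linear_combination -hij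
    have e1 := congrArg (fun y => f₂ y d) hlin
    have e2 := congrArg (fun y => f₂ y d'') hlin
    simp only [hf₂.bilinear.add_left, hf₂.bilinear.smul_left, fdd, fd''d, fdd'', fd''d'', add_zero, zero_add,
      mul_one, mul_zero] at e1 e2
    exact h2F (by linear_combination e2 - e1)
  · -- Ω is not contained in the decomposition stabiliser
    intro heq
    set E0 := τ (ε 0) d with hE0
    set E1 := τ (ε 1) d with hE1
    set E2 := τ (ε 2) d with hE2
    set X := E0 + (-1 : F) • E1 with hX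
    set Y := E1 + (-1 : F) • E2 with hY
    have p : ∀ i j, QuadraticMap.polar Q (τ (ε i) d) (τ (ε j) d) = if i = j then c * α else 0 := by
      intro i j; rw [hττ, fdd]; simp
    have hXX : QuadraticMap.polar Q X X = c * α * 2 := by
      simp only [hX, hE0, hE1, hB.add_left, hB.add_right, hB.smul_left, hB.smul_right, p, Fin.reduceEq, if_true, if_false]; ring
    have hYY : QuadraticMap.polar Q Y Y = c * α * 2 := by
      simp only [hY, hE1, hE2, hB.add_left, hB.add_right, hB.smul_left, hB.smul_right, p, Fin.reduceEq, if_true, if_false]; ring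
    obtain ⟨hX0, hRX⟩ := refl_eq hQ hq (u := X) (by rw [hXX]; exact mul_ne_zero hcα h2F)
    obtain ⟨hY0, hRY⟩ := refl_eq hQ hq (u := Y) (by rw [hYY]; exact mul_ne_zero hcα h2F)
    set g := reflGL hQ X * reflGL hQ Y * (reflGL hQ X)⁻¹ * (reflGL hQ Y)⁻¹ with hg
    have hgO : g ∈ Geo.omegaGL Q := commutator_mem_omegaGL (refl_mem hQ hX0) (refl_mem hQ hY0)
    have hgv : ∀ v, (g : Matrix (Fin n) (Fin n) F) *ᵥ v = ((reflGL hQ X : GL (Fin n) F) : Matrix (Fin n) (Fin n) F) *ᵥ
        (((reflGL hQ Y : GL (Fin n) F) : Matrix (Fin n) (Fin n) F) *ᵥ (((reflGL hQ X : GL (Fin n) F) : Matrix (Fin n) (Fin n) F) *ᵥ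
        (((reflGL hQ Y : GL (Fin n) F) : Matrix (Fin n) (Fin n) F) *ᵥ v))) := by
      intro v
      rw [hg, refl_inv hQ hX0, refl_inv hQ hY0]
      simp only [Units.val_mul, Matrix.mulVec_mulVec, mul_assoc]
    have h2 := two_eq_neg_one hq
    have hdiv : c * α / (c * α * 2) = -1 := by rw [h2]; field_simp
    have hdiv' : -(c * α) / (c * α * 2) = 1 := by rw [neg_div, hdiv, neg_neg]
    have pX : ∀ i, QuadraticMap.polar Q (τ (ε i) d) X =
        (if i = 0 then c * α else 0) - (if i = 1 then c * α else 0) := by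
      intro i; simp only [hX, hE0, hE1, hB.add_right, hB.smul_right, p]; ring
    have pY : ∀ i, QuadraticMap.polar Q (τ (ε i) d) Y =
        (if i = 1 then c * α else 0) - (if i = 2 then c * α else 0) := by
      intro i; simp only [hY, hE1, hE2, hB.add_right, hB.smul_right, p]; ring
    have rY0 : ((reflGL hQ Y : GL (Fin n) F) : Matrix (Fin n) (Fin n) F) *ᵥ E0 = E0 := by
      rw [hRY, hE0, pY]; simp
    have rX0 : ((reflGL hQ X : GL (Fin n) F) : Matrix (Fin n) (Fin n) F) *ᵥ E0 = E1 := by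
      rw [hRX, hE0, pX, hXX, if_pos rfl, if_neg (by decide), sub_zero, hdiv, hX, hE0, hE1]
      simp
    have rY1 : ((reflGL hQ Y : GL (Fin n) F) : Matrix (Fin n) (Fin n) F) *ᵥ E1 = E2 := by
      rw [hRY, hE1, pY, hYY, if_pos rfl, if_neg (by decide), sub_zero, hdiv, hY, hE1, hE2]
      simp
    have rX2 : ((reflGL hQ X : GL (Fin n) F) : Matrix (Fin n) (Fin n) F) *ᵥ E2 = E2 := by
      rw [hRX, hE2, pX]; simp
    have hg0 : (g : Matrix (Fin n) (Fin n) F) *ᵥ E0 = E2 := by rw [hgv, rY0, rX0, rY1, rX2]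
    have hg'' : (g : Matrix (Fin n) (Fin n) F) *ᵥ τ (ε 0) d'' = τ (ε 0) d'' := by
      have q : ∀ i, QuadraticMap.polar Q (τ (ε 0) d'') (τ (ε i) d) = 0 := by
        intro i; rw [hττ, fd''d]; simp
      have qX : QuadraticMap.polar Q (τ (ε 0) d'') X = 0 := by
        simp only [hX, hE0, hE1, hB.add_right, hB.smul_right, q, mul_zero, add_zero]
      have qY : QuadraticMap.polar Q (τ (ε 0) d'') Y = 0 := by
        simp only [hY, hE1, hE2, hB.add_right, hB.smul_right, q, mul_zero, add_zero]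
      have e1 : ((reflGL hQ Y : GL (Fin n) F) : Matrix (Fin n) (Fin n) F) *ᵥ τ (ε 0) d'' = τ (ε 0) d'' := by
        rw [hRY, qY, zero_div, zero_smul, add_zero]
      have e2 : ((reflGL hQ X : GL (Fin n) F) : Matrix (Fin n) (Fin n) F) *ᵥ τ (ε 0) d'' = τ (ε 0) d'' := by
        rw [hRX, qX, zero_div, zero_smul, add_zero]
      rw [hgv, e1, e2, e1, e2]
    have hgK : g ∈ Geo.decompositionStabilizer D := by
      have : g ∈ Geo.decompositionStabilizer D ⊓ Geo.omegaGL Q := by rw [heq]; exact hgO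
      exact this.1
    obtain ⟨σ, hσ⟩ := hgK
    have hmem : ∀ y, (g : Matrix (Fin n) (Fin n) F) *ᵥ τ (ε 0) y ∈ D (σ 0) := fun y => by
      rw [← hσ 0]; exact ⟨τ (ε 0) y, ⟨y, rfl⟩, Matrix.toLin'_apply _ _⟩
    obtain ⟨y, hy⟩ := hmem d''
    obtain ⟨y', hy'⟩ := hmem d
    have h0 : σ 0 = 0 := by
      by_contra hne
      rw [hg''] at hy
      have := congrArg (fun v => QuadraticMap.polar Q v (τ (ε 0) d'')) hy
      simp only [hττ, if_neg hne, if_true, fd''d'', mul_one] at this
      exact hcα this.symm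
    rw [h0, ← hE0, hg0] at hy'
    have := congrArg (fun v => QuadraticMap.polar Q v E2) hy'
    simp only [hE2, hττ, Fin.reduceEq, if_false, if_true, fdd, mul_one] at this
    exact hcα this.symm

end Cfsg.Agent.S5710
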