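import Cfsg.Statements.S5712
import Cfsg.Agent.TransvComp.Main
import Cfsg.Agent.TransvComp.Six
import Cfsg.Agent.TransvComp.Siegel
import Cfsg.Agent.PLocal.Cores
import Cfsg.Agent.LocalStructure.Cores
import Cfsg.Agent.Forms.Symplectic
import Cfsg.Agent.S0247

set_option autoImplicit false
open Cfsg

namespace Cfsg.Agent.S5712

open CfsgLib.TransvComp

set_option maxHeartbeats 400000

theorem even_mul_of_odd {F V : Type*} [Field F] [CharP F 2] [Finite F] [AddCommGroup V] [Module F V]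
    [FiniteDimensional F V] (Q : QuadraticForm F V) (hnd : (QuadraticMap.polarBilin Q).Nondegenerate)
    (hdim : 2 < Module.finrank F V) {g h : V ≃ₗ[F] V} (hg : g ∈ CfsgLib.Dickson.orth Q)
    (hh : h ∈ CfsgLib.Dickson.orth Q) (og : ¬ Even (rk2 g)) (oh : ¬ Even (rk2 h)) :
    g * h ∈ CfsgLib.Dickson.orth Q ∧ Even (rk2 (g * h)) := by
  refine ⟨mul_mem hg hh, ?_⟩
  have one : ∀ y : CfsgLib.Dickson.orth Q, ¬ Even (rk2 (y : V ≃ₗ[F] V)) →
      CfsgLib.Dickson.parity y = 1 := fun y hne => by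
    have h0 : CfsgLib.Dickson.parity y ≠ 0 := fun e => hne ((rk2_parity y).1 e)
    revert h0
    generalize CfsgLib.Dickson.parity y = z
    revert z; decide
  obtain ⟨x, hx⟩ : ∃ x : CfsgLib.Dickson.orth Q, x = ⟨g, hg⟩ * ⟨h, hh⟩ := ⟨_, rfl⟩
  have h0 : CfsgLib.Dickson.parity x = 0 := by
    rw [hx, parity_mul_any Q hnd (by omega), one ⟨g, hg⟩ og, one ⟨h, hh⟩ oh]
    rfl
  have h1 := (rk2_parity x).1 h0
  have h2 : (x : V ≃ₗ[F] V) = g * h := congrArg Subtype.val hx
  rw [h2] at h1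
  exact h1

/-- Let F be a finite field of characteristic two, n ≥ 2, V = F^{2n} with the non-degenerate alternating form f(u, v) = Σ (u_i v_{n+i} + u_{n+i} v_i), and G the group of invertible matrices preserving f. Let a ≠ 0 be a vector, H its stabilizer in G, and X a subgroup of O₂(H) of order |F|^{2n−2} no element of which is a transvection (no element g has g − 1 of rank one). If L is a subgroup of G containing X that acts irreducibly on V (no proper non-zero L-invariant subspace), then L = G, or, for some quadratic form Q on V whose polar form is f, L is the isometry group of Q or its subgroup of the isometries g for which g − 1 has even rank, or |F| = 2, n = 2 and L is isomorphic to the alternating group of degree 6 or to the symmetric group of degree 5. -/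
theorem result {F : Type*} [Field F] [Fintype F] [CharP F 2] {n : ℕ} (hn : 2 ≤ n) (a : (Fin n ⊕ Fin n → F)) (ha : a ≠ 0)
    (X : Subgroup (GL (Fin n ⊕ Fin n) F)) (hXG : X ≤ Cfsg.preserving (Units.coeHom (Matrix (Fin n ⊕ Fin n) (Fin n ⊕ Fin n) F)) (fun u v : (Fin n ⊕ Fin n → F) => ∑ i : Fin n, (u (Sum.inl i) * v (Sum.inr i) + u (Sum.inr i) * v (Sum.inl i))))
    (hXO : ∀ H : Subgroup (GL (Fin n ⊕ Fin n) F),
      (∀ g : GL (Fin n ⊕ Fin n) F, g ∈ H ↔ (g ∈ Cfsg.preserving (Units.coeHom (Matrix (Fin n ⊕ Fin n) (Fin n ⊕ Fin n) F)) (fun u v : (Fin n ⊕ Fin n → F) => ∑ i : Fin n, (u (Sum.inl i) * v (Sum.inr i) + u (Sum.inr i) * v (Sum.inl i))) ∧ Matrix.mulVec (g : Matrix (Fin n ⊕ Fin n) (Fin n ⊕ Fin n) F) a = a)) →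
      X ≤ (Cfsg.pCore 2 ↥H).map H.subtype)
    (hcard : Nat.card ↥X = Fintype.card F ^ (2 * n - 2))
    (hntv : ∀ x ∈ X, ((x : Matrix (Fin n ⊕ Fin n) (Fin n ⊕ Fin n) F) - 1).rank ≠ 1)
    (L : Subgroup (GL (Fin n ⊕ Fin n) F)) (hXL : X ≤ L) (hLG : L ≤ Cfsg.preserving (Units.coeHom (Matrix (Fin n ⊕ Fin n) (Fin n ⊕ Fin n) F)) (fun u v : (Fin n ⊕ Fin n → F) => ∑ i : Fin n, (u (Sum.inl i) * v (Sum.inr i) + u (Sum.inr i) * v (Sum.inl i))))
    (hirr : ∀ W : Submodule F (Fin n ⊕ Fin n → F), (∀ g ∈ L, ∀ w ∈ W, Matrix.mulVec (g : Matrix (Fin n ⊕ Fin n) (Fin n ⊕ Fin n) F) w ∈ W) → W = ⊥ ∨ W = ⊤) :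
    L = Cfsg.preserving (Units.coeHom (Matrix (Fin n ⊕ Fin n) (Fin n ⊕ Fin n) F)) (fun u v : (Fin n ⊕ Fin n → F) => ∑ i : Fin n, (u (Sum.inl i) * v (Sum.inr i) + u (Sum.inr i) * v (Sum.inl i))) ∨
    (∃ Q : QuadraticForm F (Fin n ⊕ Fin n → F), (∀ u v, QuadraticMap.polar ⇑Q u v = (fun u v : (Fin n ⊕ Fin n → F) => ∑ i : Fin n, (u (Sum.inl i) * v (Sum.inr i) + u (Sum.inr i) * v (Sum.inl i))) u v) ∧
      (L = Cfsg.isometryGroup F ⇑Q ∨
        ∀ g : GL (Fin n ⊕ Fin n) F, g ∈ L ↔ (g ∈ Cfsg.isometryGroup F ⇑Q ∧ Even ((g : Matrix (Fin n ⊕ Fin n) (Fin n ⊕ Fin n) F) - 1).rank))) ∨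
    (Fintype.card F = 2 ∧ n = 2 ∧ (Nonempty (↥L ≃* ↥(alternatingGroup (Fin 6))) ∨ Nonempty (↥L ≃* Equiv.Perm (Fin 5)))) := by
  classical
  -- the form
  let f0 : (Fin n ⊕ Fin n → F) → (Fin n ⊕ Fin n → F) → F :=
    fun u v => ∑ i : Fin n, (u (Sum.inl i) * v (Sum.inr i) + u (Sum.inr i) * v (Sum.inl i))
  have e1 : ∀ u u' v, f0 (u + u') v = f0 u v + f0 u' v := fun u u' v => by
    simp only [f0, Pi.add_apply, ← Finset.sum_add_distrib]
    refine Finset.sum_congr rfl fun i _ => ?_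
    ring
  have e2 : ∀ (c : F) u v, f0 (c • u) v = c • f0 u v := fun c u v => by
    simp only [f0, Pi.smul_apply, smul_eq_mul, Finset.mul_sum]
    refine Finset.sum_congr rfl fun i _ => ?_
    ring
  have e3 : ∀ u v v', f0 u (v + v') = f0 u v + f0 u v' := fun u v v' => by
    simp only [f0, Pi.add_apply, ← Finset.sum_add_distrib]
    refine Finset.sum_congr rfl fun i _ => ?_
    ring
  have e4 : ∀ (c : F) u v, f0 u (c • v) = c • f0 u v := fun c u v => by
    simp only [f0, Pi.smul_apply, smul_eq_mul, Finset.mul_sum]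
    refine Finset.sum_congr rfl fun i _ => ?_
    ring
  let B : LinearMap.BilinForm F (Fin n ⊕ Fin n → F) := LinearMap.mk₂ F f0 e1 e2 e3 e4
  have hB : ∀ u v, B u v = ∑ i : Fin n, (u (Sum.inl i) * v (Sum.inr i) + u (Sum.inr i) * v (Sum.inl i)) :=
    fun u v => rfl
  have hS : Symp B := by
    refine ⟨fun v => ?_, fun u hu => ?_⟩
    · rw [hB]
      exact Finset.sum_eq_zero fun i _ => by rw [mul_comm, CharTwo.add_self_eq_zero]
    · funext x
      rcases x with i | i
      · have := hu (Pi.single (Sum.inr i) 1)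
        rw [hB, Finset.sum_eq_single i (fun j _ hj => by simp [hj]) (by simp)] at this
        simpa using this
      · have := hu (Pi.single (Sum.inl i) 1)
        rw [hB, Finset.sum_eq_single i (fun j _ hj => by simp [hj]) (by simp)] at this
        simpa using this
  have hfr : Module.finrank F (Fin n ⊕ Fin n → F) = 2 * n := by
    rw [Module.finrank_fintype_fun_eq_card, Fintype.card_sum, Fintype.card_fin]; ring
  have hdim : 2 < Module.finrank F (Fin n ⊕ Fin n → F) := by omega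
  -- linear automorphisms
  let φ : GL (Fin n ⊕ Fin n) F ≃* ((Fin n ⊕ Fin n → F) ≃ₗ[F] (Fin n ⊕ Fin n → F)) :=
    Matrix.GeneralLinearGroup.toLin.trans (LinearMap.GeneralLinearGroup.generalLinearEquiv F _)
  have hφ : ∀ (g : GL (Fin n ⊕ Fin n) F) v,
      φ g v = Matrix.mulVec (g : Matrix (Fin n ⊕ Fin n) (Fin n ⊕ Fin n) F) v := fun g v => rfl
  obtain ⟨G, hG⟩ : ∃ G, G = Cfsg.preserving (Units.coeHom (Matrix (Fin n ⊕ Fin n) (Fin n ⊕ Fin n) F))
      (fun u v : (Fin n ⊕ Fin n → F) => ∑ i : Fin n, (u (Sum.inl i) * v (Sum.inr i) + u (Sum.inr i) * v (Sum.inl i))) :=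
    ⟨_, rfl⟩
  rw [← hG] at hXG hXO hLG ⊢
  have hGS : ∀ g, g ∈ G ↔ φ g ∈ Sp B := fun g => by
    rw [hG]; rfl
  have hrk : ∀ g : GL (Fin n ⊕ Fin n) F,
      ((g : Matrix (Fin n ⊕ Fin n) (Fin n ⊕ Fin n) F) - 1).rank = rk2 (φ g) := by
    intro g
    have e : Matrix.toLin' ((g : Matrix (Fin n ⊕ Fin n) (Fin n ⊕ Fin n) F) - 1) =
        (φ g).toLinearMap + LinearMap.id := by
      refine LinearMap.ext fun v => ?_
      rw [Matrix.toLin'_apply, Matrix.sub_mulVec, Matrix.one_mulVec]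
      funext i
      exact CharTwo.sub_eq_add _ _
    unfold rk2
    rw [← e]; rfl
  obtain ⟨L', hL'⟩ : ∃ L', L' = L.map φ.toMonoidHom := ⟨_, rfl⟩
  have hmemL : ∀ g, φ g ∈ L' ↔ g ∈ L := fun g => by
    rw [hL']; exact Subgroup.mem_map_iff_mem φ.injective
  have hL'S : L' ≤ Sp B := by
    rw [hL']; rintro _ ⟨g, hg, rfl⟩; exact (hGS g).1 (hLG hg)
  -- the Siegel parameters of `X`
  obtain ⟨b, hba⟩ := exists_one hS ha
  have hab : B a b = 1 := by rw [comm hS]; exact hba
  let H : Subgroup (GL (Fin n ⊕ Fin n) F) :=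
    { carrier := {g | g ∈ G ∧ φ g a = a}
      one_mem' := ⟨one_mem _, by rw [map_one]; rfl⟩
      mul_mem' := fun {x y} hx hy => ⟨mul_mem hx.1 hy.1, by
        rw [map_mul, LinearEquiv.mul_apply, hy.2, hx.2]⟩
      inv_mem' := fun {x} hx => ⟨inv_mem hx.1, by
        nth_rw 1 [← hx.2]; rw [map_inv, inv_apply_self]⟩ }
  have hXP := hXO H (fun g => Iff.rfl)
  let P : Subgroup ((Fin n ⊕ Fin n → F) ≃ₗ[F] (Fin n ⊕ Fin n → F)) :=
    (Cfsg.pCore 2 ↥H).map (φ.toMonoidHom.comp H.subtype)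
  have hsieg := pgroup_is_siegel hS hdim hab P ((CfsgLib.PLocal.isPGroup_pCore 2 ↥H).map _)
    (by rintro _ ⟨x, -, rfl⟩; exact ⟨(hGS _).1 x.2.1, x.2.2⟩)
    (by
      rintro h hh hha _ ⟨x, hx, rfl⟩
      obtain ⟨h0, rfl⟩ := φ.surjective h
      have hH : h0 ∈ H := ⟨(hGS _).2 hh, hha⟩
      refine ⟨(⟨h0, hH⟩ : H)⁻¹ * x * ⟨h0, hH⟩, ?_, by simp⟩
      simpa using (CfsgLib.LocalStructure.pCore_normal (p := 2) (G := ↥H)).conj_mem _ hx (⟨h0, hH⟩ : H)⁻¹)
  have hXsx : ∀ x ∈ X, B a (φ x b + b) = 0 ∧ φ x = sx B a (φ x b + b) (B b (φ x b + b)) := by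
    intro x hx
    obtain ⟨y, hy, rfl⟩ := hXP hx
    exact hsieg _ ⟨y, hy, rfl⟩
  have hXinj : ∀ (x y : X) (w : Fin n ⊕ Fin n → F) (c c' : F), B a w = 0 →
      φ x = sx B a w c → φ y = sx B a w c' → x = y := by
    intro x y w c c' hw hx hy
    have hxy : φ ((x * y : X) : GL (Fin n ⊕ Fin n) F) = sx B a 0 (c + c') := by
      rw [Subgroup.coe_mul, map_mul, hx, hy, sx_mul hS hw hw, vadd_self (F := F), hS.self, add_zero]
    have hcc : c + c' = 0 := by
      by_contra hne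
      refine hntv _ (x * y).2 ?_
      rw [hrk, hxy, rk2_transvection hS ha hne]
    rw [CharTwo.add_eq_zero.1 hcc, ← hy] at hx
    exact Subtype.ext (φ.injective hx)
  have hsurj : ∀ w, B a w = 0 → ∃ c, ∃ x ∈ X, φ x = sx B a w c := by
    let Φ : ↥X × F → LinearMap.ker (B a) := fun p => ⟨φ p.1 b + b + p.2 • a, by
      rw [LinearMap.mem_ker, map_add, (hXsx _ p.1.2).1, map_smul, hS.self, smul_zero, add_zero]⟩
    have hΦ : Function.Injective Φ := by
      rintro ⟨x, t⟩ ⟨y, t'⟩ h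
      have h' : φ x b + b + t • a = φ y b + b + t' • a := congrArg Subtype.val h
      have hx := (hXsx _ x.2).2
      have hy := (hXsx _ y.2).2
      rw [← sx_add_centre hS (hXsx _ x.2).1 _ t] at hx
      rw [← sx_add_centre hS (hXsx _ y.2).1 _ t', ← h'] at hy
      have hxy := hXinj x y _ _ _ (by simp [(hXsx _ x.2).1, hS.self]) hx hy
      subst hxy
      rw [add_right_inj] at h'
      rw [smul_left_injective F ha h']
    have : Finite (Fin n ⊕ Fin n → F) := Module.finite_of_finite F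
    have hker : Module.finrank F (LinearMap.ker (B a)) = 2 * n - 1 := by
      have h1 := (B a).finrank_range_add_finrank_ker
      have h2 : LinearMap.range (B a) = ⊤ := LinearMap.range_eq_top.2 fun c => ⟨c • b, by simp [hab]⟩
      rw [h2, finrank_top, Module.finrank_self, hfr] at h1
      omega
    have hcard2 : Nat.card (↥X × F) = Nat.card (LinearMap.ker (B a)) := by
      rw [Nat.card_prod, hcard, Module.natCard_eq_pow_finrank (K := F) (V := LinearMap.ker (B a)), hker,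
        Nat.card_eq_fintype_card, ← pow_succ]
      congr 1; omega
    intro w hw
    obtain ⟨⟨x, t⟩, hxt⟩ := ((Nat.bijective_iff_injective_and_card Φ).2 ⟨hΦ, hcard2⟩).2 ⟨w, hw⟩
    refine ⟨B b (φ x b + b), x, x.2, ?_⟩
    have : φ x b + b + t • a = w := congrArg Subtype.val hxt
    rw [← this, sx_add_centre hS (hXsx _ x.2).1]
    exact (hXsx _ x.2).2
  let θ : (Fin n ⊕ Fin n → F) → F := fun w => if hw : B a w = 0 then (hsurj w hw).choose else 0
  have hθmem : ∀ w, B a w = 0 → ∃ x ∈ X, φ x = sx B a w (θ w) := fun w hw => by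
    simp only [θ, dif_pos hw]; exact (hsurj w hw).choose_spec
  have hθuniq : ∀ w c (x : GL (Fin n ⊕ Fin n) F), B a w = 0 → x ∈ X → φ x = sx B a w c → c = θ w := by
    intro w c x hw hx h
    obtain ⟨y, hy, h'⟩ := hθmem w hw
    have e : x = y := congrArg Subtype.val (hXinj ⟨x, hx⟩ ⟨y, hy⟩ w c (θ w) hw h h')
    subst e
    have h2 : sx B a w c b = sx B a w (θ w) b := by rw [← h, ← h']
    rw [sx_apply hS hw, sx_apply hS hw, add_right_inj, hba, mul_one, mul_one] at h2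
    exact smul_left_injective F ha h2
  have href : Refines B a θ := by
    refine ⟨fun w w' hw hw' => ?_, fun w t hw => ?_⟩
    · obtain ⟨x, hx, h⟩ := hθmem w hw
      obtain ⟨y, hy, h'⟩ := hθmem w' hw'
      exact (hθuniq _ _ (x * y) (by simp [hw, hw']) (mul_mem hx hy)
        (by rw [map_mul, h, h', sx_mul hS hw hw'])).symm
    · obtain ⟨x, hx, h⟩ := hθmem w hw
      exact (hθuniq _ _ x (by simp [hw, hS.self]) hx (by rw [sx_add_centre hS hw]; exact h)).symm
  have hX' : ∀ w, B a w = 0 → sx B a w (θ w) ∈ L' := fun w hw => by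
    obtain ⟨x, hx, h⟩ := hθmem w hw
    rw [← h, hmemL]; exact hXL hx
  have hirr' : ∀ W : Submodule F (Fin n ⊕ Fin n → F), (∀ g ∈ L', ∀ w ∈ W, g w ∈ W) → W = ⊥ ∨ W = ⊤ :=
    fun W hW => hirr W fun g hg w hw => hW (φ g) ((hmemL g).2 hg) w hw
  rcases classify hS hL'S hdim ha href hX' hirr' with h | ⟨Q, hQ, hQL, hQev⟩ | ⟨hq, h4, hno, h120⟩
  · left
    refine le_antisymm hLG fun g hg => (hmemL g).1 ?_
    exact mem_of_transvections hS h ((hGS g).1 hg)
  · right; left
    have hpol : ∀ u v, QuadraticMap.polar Q u v = B u v := fun u v => by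
      rw [QuadraticMap.polar, hQ.eq]; ring
    refine ⟨Q, hpol, ?_⟩
    have hiso : ∀ g : GL (Fin n ⊕ Fin n) F, g ∈ Cfsg.isometryGroup F ⇑Q ↔ φ g ∈ CfsgLib.Dickson.orth Q :=
      fun g => ⟨fun h v => h v v, fun h u v => h u⟩
    have hLO : ∀ g ∈ L, g ∈ Cfsg.isometryGroup F ⇑Q := fun g hg => (hiso g).2 (hQL _ ((hmemL g).2 hg))
    have hnd : (QuadraticMap.polarBilin Q).Nondegenerate := by
      refine ⟨fun x hx => hS.sep x fun y => ?_, fun x hx => hS.sep x fun y => ?_⟩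
      · rw [← hpol]; exact hx y
      · rw [comm hS, ← hpol]; exact hx y
    by_cases hodd : ∃ g ∈ L, ¬ Even ((g : Matrix (Fin n ⊕ Fin n) (Fin n ⊕ Fin n) F) - 1).rank
    · left
      obtain ⟨g, hg, hgo⟩ := hodd
      refine le_antisymm (fun x hx => hLO x hx) fun x hx => ?_
      by_cases hxe : Even ((x : Matrix (Fin n ⊕ Fin n) (Fin n ⊕ Fin n) F) - 1).rank
      · exact (hmemL x).1 (hQev _ ((hiso x).1 hx) (hrk x ▸ hxe))
      obtain ⟨hgx, hev⟩ := even_mul_of_odd Q hnd hdim (hQL _ ((hmemL g).2 hg)) ((hiso x).1 hx)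
        (hrk g ▸ hgo) (hrk x ▸ hxe)
      have h2 := hQev _ hgx hev
      rw [L'.mul_mem_cancel_left ((hmemL g).2 hg)] at h2
      exact (hmemL x).1 h2
    · right
      push Not at hodd
      exact fun g => ⟨fun hg => ⟨hLO g hg, hodd g hg⟩,
        fun hg => (hmemL g).1 (hQev _ ((hiso g).1 hg.1) (hrk g ▸ hg.2))⟩
  · right; right
    have hn2 : n = 2 := by omega
    subst hn2
    have hF : Fintype.card F = 2 := by
      rw [← Finset.card_univ, show (Finset.univ : Finset F) = {0, 1} by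
        ext x; simpa using (em (x = 0)).imp id (hq x)]
      simp
    refine ⟨hF, rfl, ?_⟩
    obtain ⟨e6⟩ := Cfsg.Agent.S0247.result (F := F) hF
    have hJ : ∀ u v, Cfsg.sympForm 2 F u v = B u v := fun u v => by
      rw [CfsgLib.Forms.sympForm_eq_sum, hB]
      exact Finset.sum_congr rfl fun i _ => by rw [CharTwo.sub_eq_add]; ring
    have hGsp : ∀ g : GL (Fin 2 ⊕ Fin 2) F, g ∈ G ↔ g.1 ∈ Matrix.symplecticGroup (Fin 2) F := fun g => by
      rw [hGS, CfsgLib.Forms.mem_symplecticGroup_iff_form]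
      exact ⟨fun h u v => by rw [hJ, hJ]; exact h u v,
        fun h u v => by have := h u v; rw [hJ, hJ] at this; exact this⟩
    let ι : ↥G →* Matrix.symplecticGroup (Fin 2) F :=
      { toFun := fun g => ⟨g.1.1, (hGsp _).1 g.2⟩
        map_one' := rfl
        map_mul' := fun _ _ => rfl }
    have hι : Function.Bijective ι := by
      refine ⟨fun x y h => Subtype.ext (Units.ext (congrArg Subtype.val h)), fun A => ?_⟩
      let u : GL (Fin 2 ⊕ Fin 2) F := ⟨A.1, (A⁻¹).1, congrArg Subtype.val (mul_inv_cancel A),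
        congrArg Subtype.val (inv_mul_cancel A)⟩
      exact ⟨⟨u, (hGsp u).2 A.2⟩, rfl⟩
    let e : ↥G ≃* Equiv.Perm (Fin 6) := (MulEquiv.ofBijective ι hι).trans e6
    let eL := (L.subgroupOf G).equivMapOfInjective e.toMonoidHom e.injective
    let eS := (Subgroup.subgroupOfEquivOfLe hLG).symm.trans eL
    have hne : (L.subgroupOf G).map e.toMonoidHom ≠ ⊤ := by
      intro htop
      have hall : L.subgroupOf G = ⊤ := by
        rw [← Subgroup.comap_map_eq_self_of_injective (f := e.toMonoidHom) e.injective (L.subgroupOf G),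
          htop, Subgroup.comap_top]
      rw [Subgroup.subgroupOf_eq_top] at hall
      obtain ⟨t, ht⟩ := φ.surjective (sx B a 0 1)
      exact hno (ht ▸ (hmemL t).2 (hall ((hGS t).2 (ht ▸ sx_mem hS (map_zero _) 1))))
    have hcardL : Nat.card L' = Nat.card L := by
      rw [hL']; exact (Nat.card_congr (L.equivMapOfInjective _ φ.injective).toEquiv).symm
    have h120' := h120 (by omega)
    rw [hcardL, Nat.card_congr eS.toEquiv] at h120'
    rcases six_subgroup _ hne h120' with hf | hf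
    · obtain ⟨f⟩ := hf
      exact Or.inl ⟨eS.trans f⟩
    · obtain ⟨f⟩ := hf
      exact Or.inr ⟨eS.trans f⟩

end Cfsg.Agent.S5712
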