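import Cfsg.Statements.S5713
-- import your own Cfsg.Agent.* helpers here

set_option autoImplicit false
open Cfsg

namespace Cfsg.Agent.S5713

open scoped Pointwise

section ball

variable {G Ω : Type*} [Group G] [MulAction G Ω] [Fintype Ω] [DecidableEq Ω]
variable (A : Ω → Ω → Prop) [DecidableRel A]

/-- Points within distance `r` in the graph `A`. -/
def ball : ℕ → Ω → Finset Ω
  | 0, a => {a}
  | r + 1, a => ball r a ∪ Finset.univ.filter (fun w => ∃ u ∈ ball r a, A u w)

lemma mem_ball_succ {r : ℕ} {a w : Ω} :
    w ∈ ball A (r + 1) a ↔ w ∈ ball A r a ∨ ∃ u ∈ ball A r a, A u w := by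
  simp [ball]

lemma smul_mem_ball (hA : ∀ (g : G) a b, A (g • a) (g • b) ↔ A a b) :
    ∀ (r : ℕ) (g : G) (a w : Ω), g • w ∈ ball A r (g • a) ↔ w ∈ ball A r a := by
  intro r
  induction r with
  | zero => intro g a w; simp [ball]
  | succ r ih =>
    intro g a w
    rw [mem_ball_succ, mem_ball_succ, ih]
    refine or_congr Iff.rfl ⟨?_, ?_⟩
    · rintro ⟨u, hu, huw⟩
      refine ⟨g⁻¹ • u, ?_, ?_⟩
      · rwa [← ih g, smul_inv_smul]
      · rwa [← hA g, smul_inv_smul]
    · rintro ⟨u, hu, huw⟩
      exact ⟨g • u, (ih g a u).mpr hu, (hA g u w).mpr huw⟩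

lemma mem_ball_one {a w : Ω} : w ∈ ball A 1 a ↔ w = a ∨ A a w := by
  simp [ball]

lemma reflTransGen_mem_ball {r : ℕ} {a : Ω} (h : ball A (r + 1) a ⊆ ball A r a) {w : Ω}
    (hw : Relation.ReflTransGen A a w) : w ∈ ball A r a := by
  induction hw with
  | refl =>
    induction r with
    | zero => simp [ball]
    | succ r _ =>
      have : ∀ k, a ∈ ball A k a := by
        intro k; induction k with
        | zero => simp [ball]
        | succ k ihk => exact (mem_ball_succ A).mpr (Or.inl ihk)
      exact this _
  | tail _ huw ih => exact h ((mem_ball_succ A).mpr (Or.inr ⟨_, ih, huw⟩))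

/-- In a primitive group a non-empty invariant graph is connected. -/
lemma connected (hprim : MulAction.IsPreprimitive G Ω) (hA : ∀ (g : G) a b, A (g • a) (g • b) ↔ A a b)
    (hsymm : ∀ a b, A a b → A b a) (hne : ∃ a b, A a b ∧ a ≠ b) (a w : Ω) :
    Relation.ReflTransGen A a w := by
  have hrev : ∀ a b, Relation.ReflTransGen A a b → Relation.ReflTransGen A b a := by
    intro a b h
    induction h with
    | refl => exact Relation.ReflTransGen.refl
    | tail _ huw ih => exact ih.head (hsymm _ _ huw)
  have hsmul : ∀ (g : G) a b, Relation.ReflTransGen A a b → Relation.ReflTransGen A (g • a) (g • b) :=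
    fun g a b h => h.lift (g • ·) fun x y => (hA g x y).mpr
  have key : ∀ x : Ω, {y | Relation.ReflTransGen A x y}.Subsingleton ∨
      {y | Relation.ReflTransGen A x y} = Set.univ := by
    intro x
    apply hprim.isTrivialBlock_of_isBlock
    rw [MulAction.isBlock_iff_smul_eq_or_disjoint]
    intro g
    by_cases h : Relation.ReflTransGen A x (g • x)
    · left
      ext y
      rw [Set.mem_smul_set_iff_inv_smul_mem, Set.mem_ofPred_eq, Set.mem_ofPred_eq]
      constructor
      · intro hy
        have := hsmul g _ _ hy
        rw [smul_inv_smul] at this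
        exact h.trans this
      · intro hy
        have := hsmul g⁻¹ _ _ ((hrev _ _ h).trans hy)
        rwa [inv_smul_smul] at this
    · right
      rw [Set.disjoint_left]
      intro y hy hy'
      rw [Set.mem_smul_set_iff_inv_smul_mem, Set.mem_ofPred_eq] at hy
      have := hsmul g _ _ hy
      rw [smul_inv_smul] at this
      exact h (hy'.trans (hrev _ _ this))
  obtain ⟨u, v, huv, hne'⟩ := hne
  rcases key u with h | h
  · exact absurd (h Relation.ReflTransGen.refl (Relation.ReflTransGen.single huv)) hne'
  · have ha : Relation.ReflTransGen A u a := Set.eq_univ_iff_forall.mp h a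
    have hw : Relation.ReflTransGen A u w := Set.eq_univ_iff_forall.mp h w
    exact (hrev _ _ ha).trans hw

end ball

section dist

variable (G : Type*) {Ω : Type*} [Group G] [MulAction G Ω]

/-- The orbital of a pair. -/
def col (a b : Ω) : Quotient (MulAction.orbitRel G (Ω × Ω)) := Quotient.mk _ (a, b)

lemma col_eq {a b c d : Ω} : col G a b = col G c d ↔ ∃ g : G, g • c = a ∧ g • d = b := by
  constructor
  · intro h
    obtain ⟨g, hg⟩ := Quotient.exact h
    exact ⟨g, congrArg Prod.fst hg, congrArg Prod.snd hg⟩
  · rintro ⟨g, rfl, rfl⟩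
    exact Quotient.sound ⟨g, rfl⟩

lemma col_smul (g : G) (a b : Ω) : col G (g • a) (g • b) = col G a b := (col_eq G).mpr ⟨g, rfl, rfl⟩

lemma col_swap {a b c d : Ω} (h : col G a b = col G c d) : col G b a = col G d c := by
  obtain ⟨g, h1, h2⟩ := (col_eq G).mp h
  exact (col_eq G).mpr ⟨g, h2, h1⟩

variable [Fintype Ω]

open Classical in
/-- The points distinguishing `x` from `y`. -/
noncomputable def dset (x y : Ω) : Finset Ω := Finset.univ.filter fun z => col G z x ≠ col G z y

lemma card_dset_comm (x y : Ω) : (dset G x y).card = (dset G y x).card := by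
  congr 1; ext z; simp [dset, ne_comm]

lemma dset_triangle (x y z : Ω) : (dset G x z).card ≤ (dset G x y).card + (dset G y z).card := by
  classical
  refine le_trans (Finset.card_le_card ?_) (Finset.card_union_le _ _)
  intro w
  simp only [dset, Finset.mem_filter, Finset.mem_univ, true_and, Finset.mem_union]
  intro h
  by_contra hc
  push Not at hc
  exact h (hc.1.trans hc.2)

lemma card_dset_eq_of_col_eq {x y x' y' : Ω} (h : col G x y = col G x' y') :
    (dset G x y).card = (dset G x' y').card := by
  classical
  obtain ⟨g, rfl, rfl⟩ := (col_eq G).mp h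
  refine (Finset.card_bij (fun z _ => g • z) ?_ ?_ ?_).symm
  · intro z hz
    simpa [dset, col_smul] using hz
  · intro a _ b _ hab; exact smul_left_cancel g hab
  · intro z hz
    refine ⟨g⁻¹ • z, ?_, smul_inv_smul g z⟩
    simp only [dset, Finset.mem_filter, Finset.mem_univ, true_and] at hz ⊢
    rwa [← col_smul G g (g⁻¹ • z) x', ← col_smul G g (g⁻¹ • z) y', smul_inv_smul]

/-- Distinguishing number bound for a primitive action which is not doubly transitive. -/
lemma le_sq_of_not_two_transitive (hprim : MulAction.IsPreprimitive G Ω)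
    (hnot : ∃ a b c d : Ω, a ≠ b ∧ c ≠ d ∧ col G a b ≠ col G c d) {x₀ y₀ : Ω} (h0 : x₀ ≠ y₀) :
    Fintype.card Ω ≤ (2 * (dset G x₀ y₀).card + 1) ^ 2 := by
  classical
  have hpre : MulAction.IsPretransitive G Ω := hprim.toIsPretransitive
  set D := (dset G x₀ y₀).card with hD
  set n := Fintype.card Ω with hn
  let A : Ω → Ω → Prop := fun a b => col G a b = col G x₀ y₀ ∨ col G b a = col G x₀ y₀
  have hA : ∀ (g : G) a b, A (g • a) (g • b) ↔ A a b := fun g a b => by simp [A, col_smul]
  have hAD : ∀ a b, A a b → (dset G a b).card = D := by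
    rintro a b (h | h)
    · exact card_dset_eq_of_col_eq G h
    · rw [card_dset_comm]; exact card_dset_eq_of_col_eq G h
  have hAsymm : ∀ a b, A a b → A b a := fun a b h => h.symm
  have hAcon := connected A hprim hA hAsymm ⟨x₀, y₀, Or.inl rfl, h0⟩
  let N : Ω → Finset Ω := fun a => Finset.univ.filter (A a)
  -- the neighbours of a point distinguish it from every other point
  have hKD : ∀ a, n ≤ (N a).card * D + 1 := by
    intro a
    have hsub : Finset.univ.erase a ⊆ (N a).biUnion (fun w => dset G a w) := by
      intro z hz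
      have hz' := (Finset.mem_erase.mp hz).1
      have hex' : ∀ b, Relation.ReflTransGen A z b → ∃ r, b ∈ ball A r z := by
        intro b h
        induction h with
        | refl => exact ⟨0, by simp [ball]⟩
        | tail _ huw ih =>
          obtain ⟨r, hr⟩ := ih
          exact ⟨r + 1, (mem_ball_succ A).mpr (Or.inr ⟨_, hr, huw⟩)⟩
      obtain ⟨r, hr⟩ : ∃ r, a ∈ ball A (r + 1) z ∧ a ∉ ball A r z := by
        obtain ⟨r, hr⟩ := hex' a (hAcon z a)
        induction r with
        | zero => simp [ball] at hr; exact absurd hr.symm hz'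
        | succ r ih =>
          by_cases h : a ∈ ball A r z
          · exact ih h
          · exact ⟨r, hr, h⟩
      obtain ⟨u, hu, hua⟩ := ((mem_ball_succ A).mp hr.1).resolve_left hr.2
      refine Finset.mem_biUnion.mpr ⟨u, Finset.mem_filter.mpr ⟨Finset.mem_univ _, hAsymm _ _ hua⟩, ?_⟩
      refine Finset.mem_filter.mpr ⟨Finset.mem_univ _, fun h => hr.2 ?_⟩
      obtain ⟨g, hgz, hgu⟩ := (col_eq G).mp h
      have := (smul_mem_ball A hA r g z u).mpr hu
      rwa [hgz, hgu] at this
    have h1 := (Finset.card_le_card hsub).trans Finset.card_biUnion_le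
    rw [Finset.card_erase_of_mem (Finset.mem_univ _), Finset.card_univ,
      Finset.sum_congr rfl (fun w hw => hAD a w (Finset.mem_filter.mp hw).2), Finset.sum_const, smul_eq_mul,
      ← hn] at h1
    have h1' : n - 1 ≤ (N a).card * D := h1
    omega
  by_cases hB : ∃ a b, b ∉ ball A 2 a
  · -- some pair is at distance three
    obtain ⟨a, b, hb⟩ := hB
    obtain ⟨w, hw3, hw2⟩ : ∃ w, w ∈ ball A 3 a ∧ w ∉ ball A 2 a := by
      by_contra hc
      push Not at hc
      exact hb (reflTransGen_mem_ball A (fun w hw => hc w hw) (hAcon a b))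
    obtain ⟨u, hu, huw⟩ := ((mem_ball_succ A).mp hw3).resolve_left hw2
    have htri : (dset G a w).card ≤ 3 * D := by
      have h1 := dset_triangle G a u w
      rw [hAD u w huw] at h1
      rcases (mem_ball_succ A).mp hu with hu1 | ⟨v, hv, hvu⟩
      · rcases (mem_ball_one A).mp hu1 with rfl | h
        · simp [dset] at h1 ⊢; omega
        · rw [hAD a u h] at h1; omega
      · have h2 := dset_triangle G a v u
        rw [hAD v u hvu] at h2
        rcases (mem_ball_one A).mp hv with rfl | h
        · simp [dset] at h1 h2 ⊢; omega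
        · rw [hAD a v h] at h2; omega
    have hdisj : Disjoint (N a) (N w) := by
      rw [Finset.disjoint_left]
      intro z hza hzw
      refine hw2 ((mem_ball_succ A).mpr (Or.inr ⟨z, (mem_ball_one A).mpr (Or.inr (Finset.mem_filter.mp hza).2), ?_⟩))
      exact hAsymm _ _ (Finset.mem_filter.mp hzw).2
    have hsub : N a ∪ N w ⊆ dset G a w := by
      intro z hz
      refine Finset.mem_filter.mpr ⟨Finset.mem_univ _, fun h => ?_⟩
      have hiff : A z a ↔ A z w := by
        have h' := col_swap G h
        simp only [A, h, h']
      rcases Finset.mem_union.mp hz with hz' | hz'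
      · exact Finset.disjoint_left.mp hdisj hz' (Finset.mem_filter.mpr ⟨Finset.mem_univ _,
          hAsymm _ _ (hiff.mp (hAsymm _ _ (Finset.mem_filter.mp hz').2))⟩)
      · exact Finset.disjoint_left.mp hdisj (Finset.mem_filter.mpr ⟨Finset.mem_univ _,
          hAsymm _ _ (hiff.mpr (hAsymm _ _ (Finset.mem_filter.mp hz').2))⟩) hz'
    have h2 := Finset.card_le_card hsub
    rw [Finset.card_union_of_disjoint hdisj] at h2
    rcases Nat.le_total (N a).card (N w).card with hle | hle
    · have h3 := hKD a
      nlinarith
    · have h3 := hKD w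
      nlinarith
  · push Not at hB
    have hall : ∀ a b : Ω, (dset G a b).card ≤ 2 * D := by
      intro a b
      rcases (mem_ball_succ A (r := 1)).mp (hB a b) with h | ⟨u, hu, hub⟩
      · rcases (mem_ball_one A).mp h with rfl | h
        · simp [dset]
        · rw [hAD a b h]; omega
      · have h1 := dset_triangle G a u b
        rw [hAD u b hub] at h1
        rcases (mem_ball_one A).mp hu with rfl | h
        · simp [dset] at h1 ⊢; omega
        · rw [hAD a u h] at h1; omega
    -- some pair has many distinguishing points
    have hsum : ∀ c : ℕ, (∀ z : Ω, c ≤ (Finset.univ.filter fun w => col G z x₀ ≠ col G z w).card) → c ≤ 2 * D := by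
      intro c hc
      by_contra hlt
      have h1 : ∑ w, (dset G x₀ w).card < ∑ _w : Ω, c :=
        Finset.sum_lt_sum_of_nonempty ⟨x₀, Finset.mem_univ _⟩ fun w _ => lt_of_le_of_lt (hall x₀ w) (not_le.mp hlt)
      have h2 : ∑ w, (dset G x₀ w).card =
          ∑ z, (Finset.univ.filter fun w => col G z x₀ ≠ col G z w).card := by
        simp only [dset, Finset.card_filter]
        exact Finset.sum_comm
      have h3 : ∑ _z : Ω, c ≤ ∑ z, (Finset.univ.filter fun w => col G z x₀ ≠ col G z w).card :=
        Finset.sum_le_sum fun z _ => hc z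
      omega
    by_cases hbig : ∃ z w : Ω, n < 2 * (Finset.univ.filter fun u : Ω => col G z u = col G z w).card
    · obtain ⟨z₀, w₀, hbig⟩ := hbig
      set c₀ := col G z₀ w₀ with hc₀
      set S := fun z => Finset.univ.filter fun u => col G z u = c₀ with hS
      have hout : ∀ z, (S z).card = (S z₀).card := by
        intro z
        obtain ⟨g, rfl⟩ := MulAction.exists_smul_eq G z₀ z
        refine (Finset.card_bij (fun u _ => g • u) ?_ (fun a _ b _ h => smul_left_cancel g h) ?_).symm
        · intro u hu; simpa [hS, col_smul] using hu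
        · intro u hu
          refine ⟨g⁻¹ • u, ?_, smul_inv_smul g u⟩
          simp only [hS, Finset.mem_filter, Finset.mem_univ, true_and] at hu ⊢
          rwa [← col_smul G g, smul_inv_smul]
      -- in-degree
      have hin : ∀ z, (Finset.univ.filter fun u => col G u z = c₀).card = (S z₀).card := by
        have hinc : ∀ z, (Finset.univ.filter fun u => col G u z = c₀).card =
            (Finset.univ.filter fun u => col G u z₀ = c₀).card := by
          intro z
          obtain ⟨g, rfl⟩ := MulAction.exists_smul_eq G z₀ z
          refine (Finset.card_bij (fun u _ => g • u) ?_ (fun a _ b _ h => smul_left_cancel g h) ?_).symm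
          · intro u hu; simpa [col_smul] using hu
          · intro u hu
            refine ⟨g⁻¹ • u, ?_, smul_inv_smul g u⟩
            simp only [Finset.mem_filter, Finset.mem_univ, true_and] at hu ⊢
            rwa [← col_smul G g, smul_inv_smul]
        have h : ∑ z, (S z).card = ∑ z, (Finset.univ.filter fun u => col G u z = c₀).card := by
          simp only [hS, Finset.card_filter]
          exact Finset.sum_comm
        rw [Finset.sum_congr rfl (fun z _ => hout z), Finset.sum_congr rfl (fun z _ => hinc z),
          Finset.sum_const, Finset.sum_const, Finset.card_univ, ← hn, smul_eq_mul, smul_eq_mul] at h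
        have hn0 : 0 < n := Fintype.card_pos_iff.mpr ⟨x₀⟩
        intro z
        rw [hinc z]
        exact (Nat.eq_of_mul_eq_mul_left hn0 h).symm
      have hself : ∀ a b, col G a b = c₀ → col G b a = c₀ := by
        obtain ⟨w, hw⟩ : ((S z₀) ∩ (Finset.univ.filter fun u => col G u z₀ = c₀)).Nonempty := by
          apply Finset.inter_nonempty_of_card_lt_card_add_card (Finset.subset_univ _) (Finset.subset_univ _)
          rw [Finset.card_univ, ← hn, hin z₀]
          simp only [hS]
          omega
        simp only [hS, Finset.mem_inter, Finset.mem_filter, Finset.mem_univ, true_and] at hw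
        intro a b hab
        exact (col_swap G (hab.trans hw.1.symm)).trans hw.2
      have hoff : ∀ a b, col G a b = c₀ → a ≠ b := by
        rintro a b hab rfl
        have hone : ∀ u, col G a u = c₀ → u = a := by
          intro u hu
          obtain ⟨g, h1, h2⟩ := (col_eq G).mp (hu.trans hab.symm)
          exact h2.symm.trans h1
        have h1 : (S a).card ≤ 1 := by
          refine Finset.card_le_one.mpr fun u hu v hv => ?_
          simp only [hS, Finset.mem_filter, Finset.mem_univ, true_and] at hu hv
          rw [hone u hu, hone v hv]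
        rw [hout a] at h1
        simp only [hS] at h1
        have : 2 ≤ n := Fintype.one_lt_card_iff.mpr ⟨x₀, y₀, h0⟩
        omega
      let C : Ω → Ω → Prop := fun a b => a ≠ b ∧ col G a b ≠ c₀
      have hC : ∀ (g : G) a b, C (g • a) (g • b) ↔ C a b := fun g a b => by simp [C, col_smul]
      have hCsymm : ∀ a b, C a b → C b a := fun a b h => ⟨h.1.symm, fun h' => h.2 (hself _ _ h')⟩
      have hCne : ∃ a b, C a b ∧ a ≠ b := by
        obtain ⟨a, b, c, d, hab, hcd, hne⟩ := hnot
        by_cases h : col G a b = c₀
        · exact ⟨c, d, ⟨hcd, fun h' => hne (h.trans h'.symm)⟩, hcd⟩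
        · exact ⟨a, b, ⟨hab, h⟩, hab⟩
      have hCcon := connected C hprim hC hCsymm hCne
      have hbound : n ≤ ((S z₀)ᶜ).card ^ 2 := by
        have hNc : ∀ a, (Finset.univ.filter (C a)).card + 1 = ((S z₀)ᶜ).card := by
          intro a
          rw [Finset.card_compl, ← hout a, ← Finset.card_compl,
            ← Finset.card_insert_of_notMem (a := a) (s := Finset.univ.filter (C a)) (by simp [C])]
          congr 1
          ext u
          simp only [hS, C, Finset.mem_compl, Finset.mem_insert, Finset.mem_filter, Finset.mem_univ, true_and]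
          constructor
          · rintro (rfl | ⟨-, h⟩)
            · exact fun h => hoff _ _ h rfl
            · exact h
          · intro h
            by_cases hu : u = a
            · exact Or.inl hu
            · exact Or.inr ⟨Ne.symm hu, h⟩
        obtain ⟨w, hw2, hw1⟩ : ∃ w, w ∈ ball C 2 z₀ ∧ w ∉ ball C 1 z₀ := by
          by_contra hc
          push Not at hc
          rcases (mem_ball_one C).mp (reflTransGen_mem_ball C (fun u hu => hc u hu) (hCcon z₀ w₀)) with h | h
          · exact hoff z₀ w₀ hc₀.symm h.symm
          · exact h.2 hc₀.symm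
        have hw : col G z₀ w = c₀ := by
          by_contra h
          exact hw1 ((mem_ball_one C).mpr (if hz : w = z₀ then Or.inl hz else Or.inr ⟨Ne.symm hz, h⟩))
        have huniv : ball C 2 z₀ = Finset.univ := by
          refine Finset.eq_univ_of_forall fun u => ?_
          by_cases hu : u ∈ ball C 1 z₀
          · exact (mem_ball_succ C).mpr (Or.inl hu)
          · have hcu : col G z₀ u = c₀ := by
              by_contra h
              exact hu ((mem_ball_one C).mpr (if hz : u = z₀ then Or.inl hz else Or.inr ⟨Ne.symm hz, h⟩))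
            obtain ⟨g, hg1, hg2⟩ := (col_eq G).mp (hcu.trans hw.symm)
            have := (smul_mem_ball C hC 2 g z₀ w).mpr hw2
            rwa [hg1, hg2] at this
        have hsub : (Finset.univ : Finset Ω) ⊆
            (insert z₀ (Finset.univ.filter (C z₀))).biUnion (fun u => insert u (Finset.univ.filter (C u))) := by
          intro x _
          rw [Finset.mem_biUnion]
          rcases (mem_ball_succ C).mp (huniv ▸ Finset.mem_univ x : x ∈ ball C 2 z₀) with h | ⟨u, hu, hux⟩
          · refine ⟨z₀, Finset.mem_insert_self _ _, ?_⟩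
            simpa [mem_ball_one] using h
          · refine ⟨u, ?_, by simp [hux]⟩
            simpa [mem_ball_one] using hu
        have h1 := (Finset.card_le_card hsub).trans Finset.card_biUnion_le
        rw [Finset.card_univ, ← hn] at h1
        refine h1.trans (le_trans (Finset.sum_le_card_nsmul _ _ ((S z₀)ᶜ).card fun u _ =>
          (Finset.card_insert_le _ _).trans (hNc u).le) ?_)
        rw [smul_eq_mul, sq]
        exact Nat.mul_le_mul_right _ ((Finset.card_insert_le _ _).trans (hNc z₀).le)
      have hrho : ((S z₀)ᶜ).card ≤ 2 * D := by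
        apply hsum
        intro z
        rw [Finset.card_compl, ← hout z, ← Finset.card_compl]
        by_cases h : col G z x₀ = c₀
        · refine le_of_eq (congrArg Finset.card ?_)
          ext u; simp [hS, h, eq_comm]
        · refine le_trans ?_ (Finset.card_le_card (s := S z) ?_)
          · have h1 := hout z
            rw [Finset.card_compl, h1, ← hn]
            simp only [hS]
            omega
          · intro u hu
            simp only [hS, Finset.mem_filter, Finset.mem_univ, true_and] at hu ⊢
            exact fun h' => h (h'.trans hu)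
      nlinarith
    · push Not at hbig
      have h2 : (n + 1) / 2 ≤ 2 * D := by
        apply hsum
        intro z
        have h1 := hbig z x₀
        have h3 := Finset.card_filter_add_card_filter_not (s := (Finset.univ : Finset Ω))
          (fun u => col G z u = col G z x₀)
        rw [Finset.card_univ, ← hn] at h3
        have h4 : (Finset.univ.filter fun w => col G z x₀ ≠ col G z w) =
            (Finset.univ.filter fun u => ¬ col G z u = col G z x₀) := by
          ext u; simp [ne_comm]
        rw [h4]
        omega
      have h5 : n ≤ 4 * D := by omega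
      nlinarith

end dist

section two

variable {Ω : Type*} [Fintype Ω] [DecidableEq Ω]

/-- Permutations with supports meeting in one point have a three-cycle as commutator. -/
lemma isThreeCycle_of_inter_singleton {g h : Equiv.Perm Ω} {a : Ω}
    (hga : g a ≠ a) (hha : h a ≠ a) (hint : ∀ x, g x ≠ x → h x ≠ x → x = a) :
    (g * h * g⁻¹ * h⁻¹).IsThreeCycle := by
  have hgb : g (g a) ≠ g a := fun e => hga (g.injective e)
  have hhb : h (h a) ≠ h a := fun e => hha (h.injective e)
  have hbfix : h (g a) = g a := by
    by_contra hne; exact hga (hint _ hgb hne)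
  have hcfix : g (h a) = h a := by
    by_contra hne; exact hha (hint _ hne hhb)
  have hbc : g a ≠ h a := fun e => hgb (by rw [e]; exact hcfix)
  have hgi : g (g⁻¹ a) = a := g.apply_symm_apply a
  have hhi : h (h⁻¹ a) = a := h.apply_symm_apply a
  have hd : g (h⁻¹ a) = h⁻¹ a := by
    by_contra hne
    have hm : h (h⁻¹ a) ≠ h⁻¹ a := fun e => hha (by rw [hhi] at e; rw [← e] at hhi; exact hhi)
    have he := hint _ hne hm
    rw [he] at hhi; exact hha hhi
  have he : h (g⁻¹ a) = g⁻¹ a := by
    by_contra hne
    have hm : g (g⁻¹ a) ≠ g⁻¹ a := fun e => hga (by rw [hgi] at e; rw [← e] at hgi; exact hgi)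
    have he := hint _ hm hne
    rw [he] at hgi; exact hga hgi
  have heq : g * h * g⁻¹ * h⁻¹ = Equiv.swap (g a) a * Equiv.swap (g a) (h a) := by
    apply Equiv.ext
    intro x
    obtain ⟨y, rfl⟩ : ∃ y, h y = x := ⟨h⁻¹ x, h.apply_symm_apply x⟩
    simp only [Equiv.Perm.mul_apply, Equiv.Perm.inv_def, Equiv.symm_apply_apply]
    by_cases hy : h y = a
    · -- the common point
      have : y = h⁻¹ a := (Equiv.eq_symm_apply h).mpr hy
      subst this
      rw [hy, Equiv.swap_apply_of_ne_of_ne hga.symm hha.symm, Equiv.swap_apply_right]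
      have h1 : g.symm (h⁻¹ a) = h⁻¹ a := (Equiv.symm_apply_eq g).mpr hd.symm
      rw [h1, hhi]
    by_cases hy2 : y = a
    · subst hy2
      rw [Equiv.swap_apply_right, Equiv.swap_apply_left]
      have : g.symm y = g⁻¹ y := rfl
      rw [this, he, hgi]
    by_cases hy3 : y = g a
    · subst hy3
      rw [hbfix, Equiv.swap_apply_left, Equiv.symm_apply_apply, hcfix,
        Equiv.swap_apply_of_ne_of_ne (Ne.symm hbc) hha]
    have hne1 : h y ≠ g a := fun e => hy3 (h.injective (e.trans hbfix.symm))
    have hne2 : h y ≠ h a := fun e => hy2 (h.injective e)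
    rw [Equiv.swap_apply_of_ne_of_ne hne1 hne2, Equiv.swap_apply_of_ne_of_ne hne1 hy]
    by_cases hgy : g y = y
    · have h1 : g.symm y = y := (Equiv.symm_apply_eq g).mpr hgy.symm
      rw [h1]
      by_contra hne
      have hm : h (h y) ≠ h y := by
        intro e; exact hne (by rw [h.injective e]; exact hgy)
      exact hy (hint _ hne hm)
    · have hhy : h y = y := by
        by_contra hne; exact hy2 (hint _ hgy hne)
      have hz : g (g.symm y) = y := g.apply_symm_apply y
      have hhz : h (g.symm y) = g.symm y := by
        by_contra hne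
        have hm : g (g.symm y) ≠ g.symm y := fun e => hgy (by rw [hz] at e; rw [← e] at hz; exact hz)
        have := hint _ hm hne
        rw [this] at hz
        exact hy3 hz.symm
      rw [hhz, hz, hhy]
  rw [heq]
  exact Equiv.Perm.isThreeCycle_swap_mul_swap_same hga hbc hha.symm

end two

/-- The doubly transitive case. -/
lemma le_sq_of_two_transitive {G Ω : Type*} [Group G] [Fintype G] [MulAction G Ω] [FaithfulSMul G Ω] [Fintype Ω]
    [DecidableEq Ω] (hprim : MulAction.IsPreprimitive G Ω)
    (hA : ¬ alternatingGroup Ω ≤ (MulAction.toPermHom G Ω).range)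
    (h2 : ∀ a b c d : Ω, a ≠ b → c ≠ d → ∃ g : G, g • a = c ∧ g • b = d) (g : G) (hg : g ≠ 1) :
    Fintype.card Ω ≤ (Finset.univ.filter fun x : Ω => g • x ≠ x).card ^ 2 + 1 := by
  classical
  set S := Finset.univ.filter fun x : Ω => g • x ≠ x with hS
  by_contra hlt
  push Not at hlt
  obtain ⟨x, hx⟩ : ∃ x : Ω, g • x ≠ x := by
    by_contra hc
    push Not at hc
    exact hg (eq_of_smul_eq_smul (α := Ω) fun w => by rw [hc w, one_smul])
  have hxS : x ∈ S := Finset.mem_filter.mpr ⟨Finset.mem_univ _, hx⟩
  -- the elements keeping `x` inside the support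
  let T := Finset.univ.filter fun k : G => k • x = x
  -- some element fixing `x` moves every other point of `S` out of `S`
  have hex : ∃ k : G, k • x = x ∧ ∀ y ∈ S, y ≠ x → k • y ∉ S := by
    by_contra hc
    push Not at hc
    have hsub : T ⊆ ((S.erase x) ×ˢ (S.erase x)).biUnion (fun q => T.filter fun k => k • q.1 = q.2) := by
      intro k hk
      obtain ⟨y, hy, hyx, hky⟩ := hc k (Finset.mem_filter.mp hk).2
      refine Finset.mem_biUnion.mpr ⟨(y, k • y), Finset.mem_product.mpr
        ⟨Finset.mem_erase.mpr ⟨hyx, hy⟩, Finset.mem_erase.mpr ⟨fun e => hyx ?_, hky⟩⟩,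
        Finset.mem_filter.mpr ⟨hk, rfl⟩⟩
      exact smul_left_cancel k (e.trans (Finset.mem_filter.mp hk).2.symm)
    -- all these fibres have the same size
    have hfib : ∀ a b, a ≠ x → b ≠ x →
        (T.filter fun k => k • a = b).card * (Fintype.card Ω - 1) = T.card := by
      intro a b ha hb
      have hT : T = (Finset.univ.erase x).biUnion (fun c => T.filter fun k => k • a = c) := by
        ext k
        simp only [Finset.mem_biUnion, Finset.mem_erase, Finset.mem_univ, and_true, Finset.mem_filter]
        refine ⟨fun hk => ⟨k • a, ⟨fun e => ha (smul_left_cancel k (e.trans (Finset.mem_filter.mp hk).2.symm)), hk, rfl⟩⟩, ?_⟩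
        rintro ⟨c, -, hk, -⟩
        exact hk
      have hconst : ∀ c, c ≠ x → (T.filter fun k => k • a = c).card = (T.filter fun k => k • a = b).card := by
        intro c hc'
        obtain ⟨h, hh1, hh2⟩ := h2 x b x c hb.symm hc'.symm
        refine (Finset.card_bij (fun k _ => h * k) ?_ (fun p _ q _ e => mul_left_cancel e) ?_).symm
        · intro k hk
          simp only [T, Finset.mem_filter, Finset.mem_univ, true_and] at hk ⊢
          rw [mul_smul, mul_smul, hk.1, hk.2]; exact ⟨hh1, hh2⟩
        · intro k hk
          simp only [T, Finset.mem_filter, Finset.mem_univ, true_and] at hk ⊢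
          refine ⟨h⁻¹ * k, ?_, mul_inv_cancel_left _ _⟩
          rw [mul_smul, mul_smul, hk.1, hk.2]
          exact ⟨inv_smul_eq_iff.mpr hh1.symm, inv_smul_eq_iff.mpr hh2.symm⟩
      conv_rhs => rw [hT]
      rw [Finset.card_biUnion]
      · rw [Finset.sum_congr rfl (fun c hc' => hconst c (Finset.mem_erase.mp hc').1), Finset.sum_const,
          Finset.card_erase_of_mem (Finset.mem_univ _), Finset.card_univ, smul_eq_mul, mul_comm]
      · intro c₁ _ c₂ _ hne
        rw [Function.onFun, Finset.disjoint_left]
        intro k h1 h2'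
        exact hne ((Finset.mem_filter.mp h1).2.symm.trans (Finset.mem_filter.mp h2').2)
    have h1 := (Finset.card_le_card hsub).trans Finset.card_biUnion_le
    have hTpos : 0 < T.card := Finset.card_pos.mpr ⟨1, by simp [T]⟩
    have h3 : T.card * (Fintype.card Ω - 1) ≤ ((S.erase x) ×ˢ (S.erase x)).card * T.card := by
      refine (Nat.mul_le_mul_right _ h1).trans ?_
      rw [Finset.sum_mul, Finset.sum_congr rfl (fun q hq => hfib q.1 q.2
        (Finset.mem_erase.mp (Finset.mem_product.mp hq).1).1 (Finset.mem_erase.mp (Finset.mem_product.mp hq).2).1),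
        Finset.sum_const, smul_eq_mul]
    rw [Finset.card_product, Finset.card_erase_of_mem hxS, mul_comm T.card] at h3
    have h4 := Nat.le_of_mul_le_mul_right h3 hTpos
    have h5 : (S.card - 1) * (S.card - 1) ≤ S.card * S.card := Nat.mul_le_mul (Nat.sub_le _ _) (Nat.sub_le _ _)
    rw [sq] at hlt
    omega
  obtain ⟨k, hkx, hk⟩ := hex
  have h3 := isThreeCycle_of_inter_singleton (g := MulAction.toPermHom G Ω g)
    (h := MulAction.toPermHom G Ω (k⁻¹ * g * k)) (a := x) hx
    (by
      change (k⁻¹ * g * k) • x ≠ x
      rw [mul_smul, mul_smul, hkx, ne_eq, inv_smul_eq_iff, hkx]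
      exact hx)
    (by
      intro y hy hy'
      by_contra hne
      refine hk y (Finset.mem_filter.mpr ⟨Finset.mem_univ _, hy⟩) hne (Finset.mem_filter.mpr ⟨Finset.mem_univ _, ?_⟩)
      intro e
      apply hy'
      change (k⁻¹ * g * k) • y = y
      rw [mul_smul, mul_smul, e, inv_smul_smul])
  have hP : MulAction.IsPreprimitive (MulAction.toPermHom G Ω).range Ω := by
    let φ : G → (MulAction.toPermHom G Ω).range := fun a => ⟨_, a, rfl⟩
    let f : Ω →ₑ[φ] Ω := { toFun := id, map_smul' := fun _ _ => rfl }
    exact MulAction.IsPreprimitive.of_surjective (f := f) Function.surjective_id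
  refine hA (Equiv.Perm.alternatingGroup_le_of_isPreprimitive_of_isThreeCycle_mem hP h3 ?_)
  exact mul_mem (mul_mem (mul_mem ⟨g, rfl⟩ ⟨_, rfl⟩) (inv_mem ⟨g, rfl⟩)) (inv_mem ⟨_, rfl⟩)

/-- A classification-free minimal-degree bound. Let G be a finite group acting faithfully and primitively on a finite set Ω with n elements, and suppose that the image of G in the symmetric group on Ω does not contain the alternating group on Ω. Then every non-identity element of G moves at least (√n − 1)/2 points of Ω, that is, it fixes at most n − (√n − 1)/2 points. -/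
theorem result {G Ω : Type*} [Group G] [Finite G] [MulAction G Ω] [FaithfulSMul G Ω] [Fintype Ω] [DecidableEq Ω]
    (hprim : MulAction.IsPreprimitive G Ω)
    (hA : ¬ alternatingGroup Ω ≤ (MulAction.toPermHom G Ω).range)
    (g : G) (hg : g ≠ 1) :
    (Real.sqrt (Fintype.card Ω) - 1) / 2 ≤ (Fintype.card Ω : ℝ) - Nat.card (MulAction.fixedBy Ω g) := by
  classical
  have := Fintype.ofFinite G
  set S := Finset.univ.filter fun x : Ω => g • x ≠ x with hS
  have hcard : (Nat.card (MulAction.fixedBy Ω g) : ℝ) = (Fintype.card Ω : ℝ) - S.card := by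
    have h := Finset.card_filter_add_card_filter_not (s := (Finset.univ : Finset Ω)) (fun x : Ω => g • x = x)
    have h' : Nat.card (MulAction.fixedBy Ω g) = (Finset.univ.filter fun x : Ω => g • x = x).card := by
      rw [Nat.card_eq_fintype_card, ← Fintype.card_subtype]
      rfl
    rw [Finset.card_univ] at h
    rw [← h, h', hS]
    push_cast
    ring
  have hsq : Fintype.card Ω ≤ (2 * S.card + 1) ^ 2 := by
    by_cases h2 : ∀ a b c d : Ω, a ≠ b → c ≠ d → col G a b = col G c d
    · have h := le_sq_of_two_transitive hprim hA (fun a b c d hab hcd =>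
        (col_eq G).mp (h2 c d a b hcd hab)) g hg
      rw [← hS] at h
      nlinarith [Nat.zero_le S.card]
    · push Not at h2
      obtain ⟨x, hx⟩ : ∃ x : Ω, g • x ≠ x := by
        by_contra hc
        push Not at hc
        exact hg (eq_of_smul_eq_smul (α := Ω) fun w => by rw [hc w, one_smul])
      refine (le_sq_of_not_two_transitive G hprim h2 (Ne.symm hx)).trans ?_
      refine Nat.pow_le_pow_left (Nat.add_le_add_right (Nat.mul_le_mul_left 2 (Finset.card_le_card ?_)) 1) 2
      intro z hz
      simp only [dset, hS, Finset.mem_filter, Finset.mem_univ, true_and] at hz ⊢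
      intro e
      exact hz ((col_eq G).mpr ⟨g⁻¹, inv_smul_eq_iff.mpr e.symm, inv_smul_smul g x⟩)
  rw [hcard, sub_sub_cancel]
  have : Real.sqrt (Fintype.card Ω) ≤ 2 * (S.card : ℝ) + 1 := by
    rw [Real.sqrt_le_left (by positivity)]
    exact_mod_cast hsq
  linarith

end Cfsg.Agent.S5713
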