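import Cfsg.Statements.S5720
import Cfsg.Agent.FixSixth.Main
import Cfsg.Agent.FixSixth.Cover
import Cfsg.Agent.GW.Classification

set_option autoImplicit false
open Cfsg

namespace Cfsg.Agent.S5720

/-- Let H be a finite group whose soluble radical (largest soluble normal subgroup) has index greater than 120. Then for every field K and every finite-dimensional K-linear representation of H on a space V there is a non-identity element h of H whose fixed-point subspace on V has dimension at least (dim V)/6. -/
theorem result {H : Type*} [Group H] [Finite H] (hR : 120 < (Cfsg.solvableRadical H).index)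
    {K V : Type*} [Field K] [AddCommGroup V] [Module K V] [FiniteDimensional K V] (ρ : Representation K H V) :
    ∃ h : H, h ≠ 1 ∧ (Module.finrank K V : ℚ) / 6 ≤ Module.finrank K (LinearMap.ker (ρ h - 1)) := by
  haveI : Nontrivial H := by
    by_contra hn
    rw [not_nontrivial_iff_subsingleton] at hn
    have := Nat.le_of_dvd Nat.card_pos (Subgroup.index_dvd_card (Cfsg.solvableRadical H))
    rw [Nat.card_unique] at this
    omega
  obtain ⟨h, hh, hle⟩ := CfsgLib.FixSixth.exists_large ρ fun k _ _ n σ hsmall =>
    CfsgLib.FixSixth.exists_cover CfsgLib.GW.simpleHyp hR σ hsmall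
  refine ⟨h, hh, ?_⟩
  have h2 : (Module.finrank K V : ℚ) ≤ 6 * Module.finrank K (LinearMap.ker (ρ h - 1)) := by
    exact_mod_cast hle
  linarith

end Cfsg.Agent.S5720
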