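import Cfsg.Statements.S5726
-- import your own Cfsg.Agent.* helpers here

set_option autoImplicit false
open Cfsg

namespace Cfsg.Agent.S5726

/-- If a finite group acts faithfully and transitively on a set with p^k elements, p a prime and k ≥ 1, then some element of order p fixes no point. -/
theorem result {G Ω : Type*} [Group G] [Finite G] [MulAction G Ω] [FaithfulSMul G Ω] [Fintype Ω] (htr : MulAction.IsPretransitive G Ω)
    (p k : ℕ) (hp : p.Prime) (hk : 1 ≤ k) (hΩ : Fintype.card Ω = p ^ k) :
    ∃ g : G, orderOf g = p ∧ ∀ ω : Ω, g • ω ≠ ω := by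
  have : Fact p.Prime := ⟨hp⟩
  classical
  obtain ⟨P⟩ : Nonempty (Sylow p G) := inferInstance
  have horb : ∀ ω : Ω, MulAction.orbit (P : Subgroup G) ω = Set.univ := by
    intro ω
    have hdvd : p ^ k ∣ (MulAction.stabilizer (P : Subgroup G) ω).index := by
      have h1 : (MulAction.stabilizer G ω).index = p ^ k := by
        rw [MulAction.index_stabilizer_of_transitive, Nat.card_eq_fintype_card, hΩ]
      have h2 : ((MulAction.stabilizer (P : Subgroup G) ω).map (P : Subgroup G).subtype).index =
          (MulAction.stabilizer (P : Subgroup G) ω).index * (P : Subgroup G).index :=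
        Subgroup.index_map_subtype _
      have h3 : (MulAction.stabilizer (P : Subgroup G) ω).map (P : Subgroup G).subtype ≤
          MulAction.stabilizer G ω := by
        rintro x ⟨y, hy, rfl⟩
        exact hy
      have h4 : p ^ k ∣ (MulAction.stabilizer (P : Subgroup G) ω).index * (P : Subgroup G).index := by
        rw [← h2, ← h1]; exact Subgroup.index_dvd_of_le h3
      exact ((hp.coprime_iff_not_dvd.mpr P.not_dvd_index).pow_left k).dvd_of_dvd_mul_right h4
    rw [MulAction.index_stabilizer] at hdvd
    apply Set.eq_of_subset_of_ncard_le (Set.subset_univ _)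
    rw [Set.ncard_univ, Nat.card_eq_fintype_card, hΩ]
    apply Nat.le_of_dvd _ hdvd
    exact (Set.ncard_pos (Set.toFinite _)).mpr ⟨ω, MulAction.mem_orbit_self ω⟩
  have hne : Nonempty Ω := Fintype.card_pos_iff.mp (hΩ ▸ pow_pos hp.pos k)
  have hPne : Nontrivial (P : Subgroup G) := by
    obtain ⟨a, b, hab⟩ := Fintype.one_lt_card_iff.mp (hΩ ▸ Nat.one_lt_pow (by omega) hp.one_lt :
      1 < Fintype.card Ω)
    obtain ⟨x, hx⟩ : a ∈ MulAction.orbit (P : Subgroup G) b := by rw [horb]; trivial
    refine ⟨x, 1, fun h => hab ?_⟩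
    subst h; simpa using hx.symm
  have hZ := P.2.center_nontrivial
  obtain ⟨z, hz⟩ := exists_prime_orderOf_dvd_card' p (G := Subgroup.center (P : Subgroup G)) (by
    obtain ⟨j, hj⟩ := IsPGroup.iff_card.mp (P.2.to_subgroup (Subgroup.center (P : Subgroup G)))
    rw [hj]
    apply dvd_pow_self
    rintro rfl
    exact absurd hj (Finite.one_lt_card (α := Subgroup.center (P : Subgroup G))).ne')
  refine ⟨((z : (P : Subgroup G)) : G), by rw [Subgroup.orderOf_coe, Subgroup.orderOf_coe, hz], fun ω hω => ?_⟩
  have h1 : ((z : (P : Subgroup G)) : G) = 1 := by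
    refine eq_of_smul_eq_smul (α := Ω) fun w => ?_
    obtain ⟨x, hx⟩ : w ∈ MulAction.orbit (P : Subgroup G) ω := by rw [horb]; trivial
    have hc := Subgroup.mem_center_iff.mp z.2 x
    change x • ω = w at hx
    rw [one_smul, ← hx]
    change (z : (P : Subgroup G)) • x • ω = x • ω
    rw [← mul_smul, ← hc, mul_smul]
    congr 1
  have h2 : z = 1 := by ext; simpa using h1
  rw [h2, orderOf_one] at hz
  exact hp.one_lt.ne hz

end Cfsg.Agent.S5726
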