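import Cfsg.Statements.S5727
import Cfsg.Agent.S5726
-- import your own Cfsg.Agent.* helpers here

set_option autoImplicit false
open Cfsg

namespace Cfsg.Agent.S5727

/-- If a finite group acts faithfully and transitively on a set with m·p elements, where p is a prime and 1 ≤ m ≤ p, then some element of order p fixes no point. -/
theorem result {G Ω : Type*} [Group G] [Finite G] [MulAction G Ω] [FaithfulSMul G Ω] [Fintype Ω] (htr : MulAction.IsPretransitive G Ω)
    (p m : ℕ) (hp : p.Prime) (hm : 1 ≤ m) (hmp : m ≤ p) (hΩ : Fintype.card Ω = m * p) :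
    ∃ g : G, orderOf g = p ∧ ∀ ω : Ω, g • ω ≠ ω := by
  have : Fact p.Prime := ⟨hp⟩
  classical
  rcases hmp.eq_or_lt with rfl | hlt
  · exact Cfsg.Agent.S5726.result htr m 2 hp (by norm_num) (by rw [hΩ, sq])
  obtain ⟨P⟩ : Nonempty (Sylow p G) := inferInstance
  -- every orbit of `P` has exactly `p` points
  have horb : ∀ ω : Ω, (MulAction.stabilizer (P : Subgroup G) ω).index = p := by
    intro ω
    have h1 : (MulAction.stabilizer G ω).index = m * p := by
      rw [MulAction.index_stabilizer_of_transitive, Nat.card_eq_fintype_card, hΩ]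
    have h3 : (MulAction.stabilizer (P : Subgroup G) ω).map (P : Subgroup G).subtype ≤
        MulAction.stabilizer G ω := by
      rintro x ⟨y, hy, rfl⟩
      exact hy
    have h4 : p ∣ (MulAction.stabilizer (P : Subgroup G) ω).index * (P : Subgroup G).index := by
      rw [← Subgroup.index_map_subtype]
      exact (dvd_mul_left p m).trans (h1 ▸ Subgroup.index_dvd_of_le h3)
    obtain ⟨j, hj⟩ := P.2.index (MulAction.stabilizer (P : Subgroup G) ω)
    have hle : p ^ j ≤ m * p := by
      rw [← hj, MulAction.index_stabilizer, ← hΩ, ← Nat.card_eq_fintype_card, ← Set.ncard_univ]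
      exact Set.ncard_le_ncard (Set.subset_univ _)
    rcases hp.dvd_mul.mp h4 with h | h
    · rcases j with _ | _ | j
      · rw [hj, pow_zero] at h; exact absurd (Nat.le_of_dvd one_pos h) (not_le.mpr hp.one_lt)
      · rwa [zero_add, pow_one] at hj
      · exfalso
        have hge : p * p ≤ p ^ (j + 1 + 1) := by
          rw [← sq]; exact Nat.pow_le_pow_right hp.pos (by omega)
        have : m * p < p * p := Nat.mul_lt_mul_of_pos_right hlt hp.pos
        omega
    · exact absurd h P.not_dvd_index
  have hne : Nonempty Ω := Fintype.card_pos_iff.mp (hΩ ▸ Nat.mul_pos hm hp.pos)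
  have hnorm : ∀ ω : Ω, (MulAction.stabilizer (P : Subgroup G) ω).Normal := by
    intro ω
    apply Subgroup.normal_of_index_eq_minFac_card
    obtain ⟨a, ha⟩ := IsPGroup.iff_card.mp P.2
    have hdvd : p ∣ p ^ a := by
      rw [← ha]
      simpa only [horb ω] using (MulAction.stabilizer (P : Subgroup G) ω).index_dvd_card
    rw [horb ω, ha, Nat.pow_minFac (by rintro rfl; exact hp.not_dvd_one (by simpa using hdvd)),
      hp.minFac_eq]
  have := Fintype.ofFinite (P : Subgroup G)
  -- the distinct point stabilisers in `P`: at most `m` of them, each of index `p`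
  let S : Finset (Subgroup (P : Subgroup G)) :=
    Finset.univ.image (fun ω : Ω => MulAction.stabilizer (P : Subgroup G) ω)
  have hS : S.card ≤ m := by
    have h := Finset.mul_card_image_le_card (f := fun ω : Ω => MulAction.stabilizer (P : Subgroup G) ω)
      Finset.univ p ?_
    · rw [Finset.card_univ, hΩ, mul_comm m p] at h
      exact Nat.le_of_mul_le_mul_left h hp.pos
    intro H hH
    obtain ⟨ω, -, rfl⟩ := Finset.mem_image.mp hH
    refine le_trans (le_of_eq ((horb ω).symm.trans ((MulAction.index_stabilizer (G := (P : Subgroup G)) ω).trans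
      (Set.ncard_eq_toFinset_card' _)))) ?_
    apply Finset.card_le_card
    intro w hw
    rw [Set.mem_toFinset] at hw
    obtain ⟨x, rfl⟩ := hw
    simp only [Finset.mem_filter, Finset.mem_univ, true_and]
    have := hnorm ω
    change MulAction.stabilizer (P : Subgroup G) (x • ω) = _
    rw [MulAction.stabilizer_smul_eq_stabilizer_map_conj]
    exact Subgroup.Normal.map_conj_eq _ x
  -- they do not cover `P`
  have hex : ∃ g : (P : Subgroup G), ∀ ω : Ω, g • ω ≠ ω := by
    by_contra hcon
    push Not at hcon
    have hsub : (Finset.univ : Finset (P : Subgroup G)).erase 1 ⊆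
        S.biUnion (fun H => (Finset.univ.filter (· ∈ H)).erase 1) := by
      intro g hg
      obtain ⟨ω, hω⟩ := hcon g
      exact Finset.mem_biUnion.mpr ⟨MulAction.stabilizer (P : Subgroup G) ω,
        Finset.mem_image.mpr ⟨ω, Finset.mem_univ _, rfl⟩,
        Finset.mem_erase.mpr ⟨(Finset.mem_erase.mp hg).1, Finset.mem_filter.mpr ⟨Finset.mem_univ _, hω⟩⟩⟩
    obtain ⟨ω⟩ := hne
    have hidx := Subgroup.card_mul_index (MulAction.stabilizer (P : Subgroup G) ω)
    rw [horb ω] at hidx
    obtain ⟨c, hc⟩ : ∃ c, Nat.card (MulAction.stabilizer (P : Subgroup G) ω) = c + 1 :=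
      ⟨_, (Nat.succ_pred_eq_of_pos Nat.card_pos).symm⟩
    have hcard : ∀ H ∈ S, ((Finset.univ.filter (· ∈ H)).erase 1).card = c := by
      intro H hH
      obtain ⟨w, -, rfl⟩ := Finset.mem_image.mp hH
      have h1 := Subgroup.card_mul_index (MulAction.stabilizer (P : Subgroup G) w)
      rw [horb w, ← hidx] at h1
      have h2 := Nat.eq_of_mul_eq_mul_right hp.pos h1
      rw [Finset.card_erase_of_mem (by simp), ← Fintype.card_subtype, ← Nat.card_eq_fintype_card, h2, hc,
        Nat.add_sub_cancel]
    have h2 := (Finset.card_le_card hsub).trans Finset.card_biUnion_le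
    rw [Finset.sum_congr rfl hcard, Finset.sum_const, smul_eq_mul, Finset.card_erase_of_mem (Finset.mem_univ _),
      Finset.card_univ, ← Nat.card_eq_fintype_card, ← hidx, hc] at h2
    have h3 : (c + 1) * p ≤ m * c + 1 := by
      have := Nat.mul_le_mul_right c hS
      omega
    have h4 : m * c ≤ p * c := Nat.mul_le_mul_right c hmp
    have h5 : 2 ≤ p := hp.two_le
    nlinarith
  obtain ⟨g, hg⟩ := hex
  obtain ⟨ω⟩ := hne
  refine ⟨(g : G), ?_, hg⟩
  rw [Subgroup.orderOf_coe]
  apply orderOf_eq_prime
  · apply Subtype.ext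
    refine eq_of_smul_eq_smul (α := Ω) fun w => ?_
    have := hnorm w
    have h := Subgroup.pow_index_mem (MulAction.stabilizer (P : Subgroup G) w) g
    rw [horb w] at h
    rw [OneMemClass.coe_one, one_smul]
    exact h
  · rintro rfl
    exact hg ω (one_smul _ ω)

end Cfsg.Agent.S5727
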