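import Cfsg.Statements.S5728
-- import your own Cfsg.Agent.* helpers here

set_option autoImplicit false
open Cfsg

namespace Cfsg.Agent.S5728

/-- An elusive transitive action. Let p = 2^s − 1 be a prime and let F be the field with p² elements. Inside the group of affine maps x ↦ a·x + b of F (a ≠ 0), consider the subgroup of maps with both coefficients in the prime field. Then every element of prime order of the affine group is conjugate, within the affine group, to an element of that subgroup; equivalently, in the transitive action of the affine group on the cosets of that subgroup (of degree p(p + 1)) every element of prime order fixes a point. -/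
theorem result (p s : ℕ) [Fact p.Prime] (hs : p = 2 ^ s - 1)
    (g : Equiv.Perm (GaloisField p 2)) (hg : g ∈ Cfsg.affineGroup (GaloisField p 2)) (hord : (orderOf g).Prime) :
    ∃ x ∈ Cfsg.affineGroup (GaloisField p 2), ∃ a b : ZMod p, a ≠ 0 ∧
      ∀ y : GaloisField p 2, (x * g * x⁻¹) y = algebraMap (ZMod p) (GaloisField p 2) a * y + algebraMap (ZMod p) (GaloisField p 2) b := by
  obtain ⟨a, b, hg⟩ := hg
  have hp : p.Prime := Fact.out
  by_cases ha : (a : GaloisField p 2) = 1
  · -- a translation: scale it to translation by one
    have hb : b ≠ 0 := by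
      rintro rfl
      refine hord.ne_one (orderOf_eq_one_iff.mpr (Equiv.ext fun y => ?_))
      rw [hg y, ha]; simp
    let x : Equiv.Perm (GaloisField p 2) := Equiv.mulLeft₀ b⁻¹ (inv_ne_zero hb)
    refine ⟨x, ⟨(Units.mk0 b hb)⁻¹, 0, fun y => by simp [x]⟩, 1, 1, one_ne_zero, fun y => ?_⟩
    have hx : x⁻¹ y = b * y := by
      rw [Equiv.Perm.inv_def]; simp [x, Equiv.symm_apply_eq, ← mul_assoc, inv_mul_cancel₀ hb]
    rw [Equiv.Perm.mul_apply, Equiv.Perm.mul_apply, hx, hg, ha, one_mul, map_one, one_mul]
    simp [x, mul_add, ← mul_assoc, inv_mul_cancel₀ hb]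
  · -- a map with a fixed point: move the fixed point to zero
    have h1a : (1 : GaloisField p 2) - a ≠ 0 := sub_ne_zero.mpr (Ne.symm ha)
    let c : GaloisField p 2 := b / (1 - a)
    let x : Equiv.Perm (GaloisField p 2) := Equiv.addRight (-c)
    have hpow : ∀ (k : ℕ) (y : GaloisField p 2), (g ^ k) y - c = (a : GaloisField p 2) ^ k * (y - c) := by
      intro k
      induction k with
      | zero => intro y; simp
      | succ k ih =>
        intro y
        rw [pow_succ, Equiv.Perm.mul_apply, ih, hg, pow_succ, mul_assoc]
        congr 1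
        simp only [c]
        field_simp
        ring
    have har : (a : GaloisField p 2) ^ orderOf g = 1 := by
      have h := hpow (orderOf g) (c + 1)
      rw [pow_orderOf_eq_one, Equiv.Perm.one_apply, add_sub_cancel_left, mul_one] at h
      exact h.symm
    have hoa : orderOf (a : GaloisField p 2) = orderOf g := by
      rcases hord.eq_one_or_self_of_dvd _ (orderOf_dvd_of_pow_eq_one har) with h | h
      · exact absurd (orderOf_eq_one_iff.mp h) ha
      · exact h
    have hdvd : orderOf g ∣ (p - 1) * 2 ^ s := by
      have h1 : orderOf a ∣ Nat.card (GaloisField p 2)ˣ := orderOf_dvd_natCard a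
      rw [← orderOf_units, hoa, Nat.card_units, GaloisField.card p 2 two_ne_zero] at h1
      have h2 : p + 1 = 2 ^ s := by
        have := Nat.one_le_two_pow (n := s)
        omega
      rwa [show p ^ 2 - 1 = (p - 1) * 2 ^ s by
        rw [← h2, mul_comm, ← Nat.sq_sub_sq, one_pow]] at h1
    have hdvd' : orderOf g ∣ p - 1 := by
      rcases hord.dvd_mul.mp hdvd with h | h
      · exact h
      · rw [(Nat.prime_dvd_prime_iff_eq hord Nat.prime_two).mp (hord.dvd_of_dvd_pow h)]
        have hodd : p % 2 = 1 := by
          rcases hp.eq_two_or_odd with h2 | h2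
          · exfalso
            rcases s with _ | s
            · simp at hs; omega
            · have := pow_succ 2 s; omega
          · exact h2
        omega
    have hbot : (a : GaloisField p 2) ∈ (⊥ : Subfield (GaloisField p 2)) := by
      rw [Subfield.mem_bot_iff_pow_eq_self (GaloisField p 2) p]
      calc (a : GaloisField p 2) ^ p = (a : GaloisField p 2) ^ ((p - 1) + 1) := by
            rw [Nat.sub_add_cancel hp.pos]
        _ = a := by
            rw [pow_succ, orderOf_dvd_iff_pow_eq_one.mp (hoa ▸ hdvd'), one_mul]
    obtain ⟨t, ht⟩ : ∃ t : ZMod p, algebraMap (ZMod p) (GaloisField p 2) t = a :=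
      RingHom.mem_fieldRange.mp ((bot_le : (⊥ : Subfield (GaloisField p 2)) ≤
        (algebraMap (ZMod p) (GaloisField p 2)).fieldRange) hbot)
    refine ⟨x, ⟨1, -c, fun y => by simp [x]⟩, t, 0, fun h => a.ne_zero (by rw [← ht, h, map_zero]), fun y => ?_⟩
    have hx : x⁻¹ y = y + c := by rw [Equiv.Perm.inv_def]; simp [x, Equiv.symm_apply_eq]
    rw [Equiv.Perm.mul_apply, Equiv.Perm.mul_apply, hx, ht, map_zero, add_zero]
    have h := hpow 1 (y + c)
    rw [pow_one, pow_one, add_sub_cancel_right] at h
    simpa [x, sub_eq_add_neg] using h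

end Cfsg.Agent.S5728
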