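import Cfsg.Statements.S5729
-- import your own Cfsg.Agent.* helpers here

set_option autoImplicit false
open Cfsg

namespace Cfsg.Agent.S5729

/-- The fixed point count. -/
noncomputable def fixCount {G : Type*} [Group G] (Ω : Type*) [MulAction G Ω] (g : G) : ℤ :=
  Nat.card (MulAction.fixedBy Ω g)

/-- With `r` orbits on pairs: `n * #derangements = (r - 1) * |G| + ∑ (π - 1) * (n - π)` over the other elements. -/
lemma derangement_identity {G Ω : Type*} [Group G] [Fintype G] [MulAction G Ω] [Fintype Ω] [DecidableEq Ω]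
    (htr : MulAction.IsPretransitive G Ω) (hn : 0 < Fintype.card Ω) :
    (Fintype.card Ω : ℤ) * Nat.card {g : G // ∀ ω : Ω, g • ω ≠ ω} =
      ((Nat.card (Quotient (MulAction.orbitRel G (Ω × Ω))) : ℤ) - 1) * Nat.card G +
      ∑ g ∈ Finset.univ.filter (fun g : G => ∃ ω : Ω, g • ω = ω),
        (fixCount Ω g - 1) * ((Fintype.card Ω : ℤ) - fixCount Ω g) := by
  classical
  have := htr
  have hΩ : Nonempty Ω := Fintype.card_pos_iff.mp hn
  have e1 : ∑ g : G, fixCount Ω g = Nat.card G := by
    have h := MulAction.sum_card_fixedBy_eq_card_orbits_mul_card_group G Ω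
    have hu : Fintype.card (Quotient (MulAction.orbitRel G Ω)) = 1 := by
      have hs : Subsingleton (Quotient (MulAction.orbitRel G Ω)) :=
        (MulAction.pretransitive_iff_subsingleton_quotient G Ω).mp htr
      exact Fintype.card_eq_one_iff.mpr ⟨Quotient.mk _ hΩ.some, fun x => Subsingleton.elim _ _⟩
    rw [hu, one_mul] at h
    simp only [fixCount, Nat.card_eq_fintype_card]
    exact_mod_cast h
  have e2 : ∑ g : G, fixCount Ω g * fixCount Ω g =
      (Nat.card (Quotient (MulAction.orbitRel G (Ω × Ω))) : ℤ) * Nat.card G := by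
    have h := MulAction.sum_card_fixedBy_eq_card_orbits_mul_card_group G (Ω × Ω)
    have hfix : ∀ g : G, Nat.card (MulAction.fixedBy (Ω × Ω) g) =
        Nat.card (MulAction.fixedBy Ω g) * Nat.card (MulAction.fixedBy Ω g) := by
      intro g
      rw [← Nat.card_prod]
      refine Nat.card_congr ((Equiv.setCongr ?_).trans (Equiv.Set.prod _ _))
      ext ⟨a, b⟩
      simp [MulAction.fixedBy]
    simp only [← Nat.card_eq_fintype_card, hfix] at h
    simp only [fixCount]
    exact_mod_cast h
  have e3 : ∑ g : G, (fixCount Ω g - 1) * ((Fintype.card Ω : ℤ) - fixCount Ω g) =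
      (1 - (Nat.card (Quotient (MulAction.orbitRel G (Ω × Ω))) : ℤ)) * Nat.card G := by
    have : ∀ g : G, (fixCount Ω g - 1) * ((Fintype.card Ω : ℤ) - fixCount Ω g) =
        ((Fintype.card Ω : ℤ) + 1) * fixCount Ω g - fixCount Ω g * fixCount Ω g - Fintype.card Ω := by
      intro g; ring
    rw [Finset.sum_congr rfl (fun g _ => this g), Finset.sum_sub_distrib, Finset.sum_sub_distrib,
      ← Finset.mul_sum, e1, e2, Finset.sum_const, Finset.card_univ, Nat.card_eq_fintype_card, nsmul_eq_mul]
    ring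
  rw [← Finset.sum_filter_add_sum_filter_not Finset.univ (fun g : G => ∃ ω : Ω, g • ω = ω)] at e3
  have e4 : ∀ g ∈ Finset.univ.filter (fun g : G => ¬ ∃ ω : Ω, g • ω = ω),
      (fixCount Ω g - 1) * ((Fintype.card Ω : ℤ) - fixCount Ω g) = -(Fintype.card Ω : ℤ) := by
    intro g hg
    rw [Finset.mem_filter] at hg
    have h0 : fixCount Ω g = 0 := by
      rw [fixCount, Nat.cast_eq_zero, Nat.card_eq_zero]
      left
      exact ⟨fun x => hg.2 ⟨x.1, x.2⟩⟩
    rw [h0]; ring
  rw [Finset.sum_congr rfl e4, Finset.sum_const, nsmul_eq_mul] at e3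
  have hD : ((Finset.univ.filter (fun g : G => ¬ ∃ ω : Ω, g • ω = ω)).card : ℤ) =
      Nat.card {g : G // ∀ ω : Ω, g • ω ≠ ω} := by
    rw [Nat.card_eq_fintype_card, Fintype.card_subtype]
    congr 2
    ext g; simp
  rw [hD] at e3
  linarith

lemma two_le_pair_orbits {G Ω : Type*} [Group G] [MulAction G Ω] [Fintype Ω] (hn : 2 ≤ Fintype.card Ω) :
    2 ≤ Nat.card (Quotient (MulAction.orbitRel G (Ω × Ω))) := by
  obtain ⟨a, b, hab⟩ := Fintype.one_lt_card_iff.mp hn
  have : Nontrivial (Quotient (MulAction.orbitRel G (Ω × Ω))) := by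
    refine ⟨Quotient.mk _ (a, a), Quotient.mk _ (a, b), fun h => hab ?_⟩
    obtain ⟨g, hg⟩ := Quotient.exact h
    have h1 := congrArg Prod.fst hg
    have h2 := congrArg Prod.snd hg
    exact smul_left_cancel g (h1.trans h2.symm)
  exact Finite.one_lt_card

lemma fixCount_bounds {G Ω : Type*} [Group G] [MulAction G Ω] [Fintype Ω] (g : G) (ω : Ω) (h : g • ω = ω) :
    1 ≤ fixCount Ω g ∧ fixCount Ω g ≤ (Fintype.card Ω : ℤ) := by
  classical
  rw [fixCount, Nat.card_eq_fintype_card]
  have : Nonempty (MulAction.fixedBy Ω g) := ⟨⟨ω, h⟩⟩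
  exact ⟨by exact_mod_cast Fintype.card_pos, by exact_mod_cast set_fintype_card_le_univ _⟩

/-- Let a finite group G act faithfully and transitively on a set with n ≥ 3 points. Then either G is a Frobenius permutation group (Frobenius as a permutation group: transitive, some non-identity element fixes a point, and no non-identity element fixes two points) of order n(n − 1) and exactly |G|/n of its elements are derangements (fix no point), or the number of derangements is greater than |G|/n. -/
theorem result {G Ω : Type*} [Group G] [Finite G] [MulAction G Ω] [FaithfulSMul G Ω] [Fintype Ω] (htr : MulAction.IsPretransitive G Ω) (hn : 3 ≤ Fintype.card Ω) :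
    ((MulAction.IsPretransitive G Ω ∧ (∃ g : G, g ≠ 1 ∧ ∃ ω : Ω, g • ω = ω) ∧ ∀ g : G, g ≠ 1 → Nat.card (MulAction.fixedBy Ω g) ≤ 1) ∧ Nat.card G = Fintype.card Ω * (Fintype.card Ω - 1) ∧ Fintype.card Ω * Nat.card {g : G // ∀ ω : Ω, g • ω ≠ ω} = Nat.card G) ∨
    Nat.card G < Fintype.card Ω * Nat.card {g : G // ∀ ω : Ω, g • ω ≠ ω} := by
  classical
  have := Fintype.ofFinite G
  have hid := derangement_identity htr (G := G) (Ω := Ω) (by omega)
  have hr : (2 : ℤ) ≤ Nat.card (Quotient (MulAction.orbitRel G (Ω × Ω))) := by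
    exact_mod_cast two_le_pair_orbits (G := G) (Ω := Ω) (by omega)
  have hG : (0 : ℤ) < Nat.card G := by exact_mod_cast Nat.card_pos
  have hterm : ∀ g ∈ Finset.univ.filter (fun g : G => ∃ ω : Ω, g • ω = ω),
      0 ≤ (fixCount Ω g - 1) * ((Fintype.card Ω : ℤ) - fixCount Ω g) := by
    intro g hg
    obtain ⟨ω, hω⟩ := (Finset.mem_filter.mp hg).2
    obtain ⟨h1, h2⟩ := fixCount_bounds g ω hω
    exact mul_nonneg (by linarith) (by linarith)
  by_cases hlt : Nat.card G < Fintype.card Ω * Nat.card {g : G // ∀ ω : Ω, g • ω ≠ ω}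
  · exact Or.inr hlt
  left
  have hle : (Fintype.card Ω : ℤ) * Nat.card {g : G // ∀ ω : Ω, g • ω ≠ ω} ≤ Nat.card G := by
    exact_mod_cast not_lt.mp hlt
  have hsum := Finset.sum_nonneg hterm
  have hprod : (1 : ℤ) * Nat.card G ≤
      ((Nat.card (Quotient (MulAction.orbitRel G (Ω × Ω))) : ℤ) - 1) * Nat.card G :=
    mul_le_mul_of_nonneg_right (by linarith) hG.le
  have hzero := (Finset.sum_eq_zero_iff_of_nonneg hterm).mp (by linarith)
  have heq : (Fintype.card Ω : ℤ) * Nat.card {g : G // ∀ ω : Ω, g • ω ≠ ω} = Nat.card G := by linarith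
  have hfix : ∀ g : G, g ≠ 1 → Nat.card (MulAction.fixedBy Ω g) ≤ 1 := by
    intro g hg
    by_contra hc
    have hne : Nonempty (MulAction.fixedBy Ω g) := (Nat.card_ne_zero.mp (by omega)).1
    obtain ⟨⟨ω, hω⟩⟩ := hne
    rcases mul_eq_zero.mp (hzero g (Finset.mem_filter.mpr ⟨Finset.mem_univ _, ω, hω⟩)) with h | h
    · rw [fixCount] at h; omega
    · rw [fixCount, Nat.card_eq_fintype_card] at h
      have hall : MulAction.fixedBy Ω g = Set.univ := by
        rw [← Set.toFinset_inj, Set.toFinset_univ, ← Finset.card_eq_iff_eq_univ, Set.toFinset_card]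
        omega
      refine hg (eq_of_smul_eq_smul (α := Ω) fun w => ?_)
      rw [one_smul]
      exact (Set.eq_univ_iff_forall.mp hall w : g • w = w)
  -- the order of `G`
  have hsum1 := MulAction.sum_card_fixedBy_eq_card_orbits_mul_card_group G Ω
  have hu : Fintype.card (Quotient (MulAction.orbitRel G Ω)) = 1 := by
    have hs : Subsingleton (Quotient (MulAction.orbitRel G Ω)) :=
      (MulAction.pretransitive_iff_subsingleton_quotient G Ω).mp htr
    have hΩ : Nonempty Ω := Fintype.card_pos_iff.mp (by omega)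
    exact Fintype.card_eq_one_iff.mpr ⟨Quotient.mk _ hΩ.some, fun x => Subsingleton.elim _ _⟩
  rw [hu, one_mul] at hsum1
  -- every element fixes `n`, one or no points
  have hval : ∀ g : G, Fintype.card (MulAction.fixedBy Ω g) =
      (if g = 1 then Fintype.card Ω - 1 else 0) + (if ∃ ω : Ω, g • ω = ω then 1 else 0) := by
    intro g
    by_cases hg : g = 1
    · subst hg
      have hΩ : Nonempty Ω := Fintype.card_pos_iff.mp (by omega)
      rw [if_pos rfl, if_pos ⟨hΩ.some, one_smul _ _⟩]
      have hall : Fintype.card (MulAction.fixedBy Ω (1 : G)) = Fintype.card Ω :=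
        Fintype.card_congr (Equiv.subtypeUnivEquiv (fun x => one_smul G x))
      omega
    · rw [if_neg hg, zero_add]
      have h := hfix g hg
      rw [Nat.card_eq_fintype_card] at h
      split_ifs with hex
      · obtain ⟨ω, hω⟩ := hex
        exact le_antisymm h (Fintype.card_pos_iff.mpr ⟨⟨ω, hω⟩⟩)
      · exact Fintype.card_eq_zero_iff.mpr ⟨fun x => hex ⟨x.1, x.2⟩⟩
  rw [Finset.sum_congr rfl (fun g _ => hval g), Finset.sum_add_distrib, Finset.sum_ite_eq' Finset.univ (1 : G),
    if_pos (Finset.mem_univ _), ← Finset.card_filter, ← Fintype.card_subtype] at hsum1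
  have hcompl := Fintype.card_subtype_compl (fun g : G => ∃ ω : Ω, g • ω = ω)
  have hD : Nat.card {g : G // ∀ ω : Ω, g • ω ≠ ω} = Fintype.card Ω - 1 := by
    rw [Nat.card_eq_fintype_card]
    have : Fintype.card {g : G // ∀ ω : Ω, g • ω ≠ ω} = Fintype.card {g : G // ¬ ∃ ω : Ω, g • ω = ω} :=
      Fintype.card_congr (Equiv.subtypeEquivRight (by simp))
    rw [this, hcompl]
    omega
  have hcard : Nat.card G = Fintype.card Ω * (Fintype.card Ω - 1) := by
    rw [← hD]; exact_mod_cast heq.symm
  refine ⟨⟨htr, ?_, hfix⟩, hcard, by exact_mod_cast heq⟩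
  -- a point stabiliser is non-trivial
  by_contra hno
  push Not at hno
  have hΩ : Nonempty Ω := Fintype.card_pos_iff.mp (by omega)
  obtain ⟨ω⟩ := hΩ
  have hst : MulAction.stabilizer G ω = ⊥ := by
    rw [Subgroup.eq_bot_iff_forall]
    intro g hg
    by_contra hg1
    exact hno g hg1 ω hg
  have h := MulAction.index_stabilizer_of_transitive G ω
  rw [hst, Subgroup.index_bot, Nat.card_eq_fintype_card (α := Ω), hcard] at h
  have h5 : Fintype.card Ω * 2 ≤ Fintype.card Ω * (Fintype.card Ω - 1) := Nat.mul_le_mul_left _ (by omega)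
  omega

end Cfsg.Agent.S5729
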