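import Cfsg.Statements.S5732
import Cfsg.Agent.DerangedIndex.Main
import Cfsg.Agent.Derangement.Subgroup

set_option autoImplicit false
set_option linter.style.haveILetI false
open Cfsg

namespace Cfsg.Agent.S5732

/-- There is a bound N such that for every finite group G acting faithfully and transitively on a set with n ≥ N points, either G is primitive and a Frobenius permutation group (Frobenius as a permutation group: transitive, some non-identity element fixes a point, and no non-identity element fixes two points), or the subgroup generated by the derangements of G has index at most √n − 1 in G. -/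
theorem result : ∃ N : ℕ, ∀ (G Ω : Type*) [Group G] [Finite G] [MulAction G Ω] [FaithfulSMul G Ω] [Fintype Ω],
      MulAction.IsPretransitive G Ω → N ≤ Fintype.card Ω →
      (MulAction.IsPreprimitive G Ω ∧ (MulAction.IsPretransitive G Ω ∧ (∃ g : G, g ≠ 1 ∧ ∃ ω : Ω, g • ω = ω) ∧ ∀ g : G, g ≠ 1 → Nat.card (MulAction.fixedBy Ω g) ≤ 1)) ∨
      ((Subgroup.closure {g : G | ∀ ω : Ω, g • ω ≠ ω}).index : ℝ) ≤ Real.sqrt (Fintype.card Ω) - 1 := by
  refine ⟨2 ^ 256, fun G Ω _ _ _ _ _ htr hN => ?_⟩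
  classical
  haveI := htr
  set D := Subgroup.closure {g : G | ∀ ω : Ω, g • ω ≠ ω} with hD
  haveI : D.Normal := CfsgLib.Derangement.closure_normal G Ω
  have hn : 2 ^ 256 ≤ Nat.card Ω := by rw [Nat.card_eq_fintype_card]; exact hN
  haveI : Nonempty Ω := Nat.card_ne_zero.1 (by omega) |>.1
  obtain ⟨htD, hone⟩ := CfsgLib.Derangement.transitive_and_fix_eq_one (Ω := Ω) D
    fun g hg => CfsgLib.Derangement.mem_closure hg
  have h : CfsgLib.DerangedIndex.Hyp Ω D := by
    refine ⟨fun a b => ?_, fun g hg => ?_, fun g hg a b ha hb => ?_⟩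
    · obtain ⟨⟨d, hd⟩, e⟩ := htD.exists_smul_eq a b
      exact ⟨d, hd, e⟩
    · obtain ⟨⟨a, ha⟩⟩ := (Nat.card_ne_zero.1 (by rw [hone g hg]; omega :
        Nat.card (MulAction.fixedBy Ω g) ≠ 0)).1
      exact ⟨a, ha⟩
    · haveI := (Nat.card_eq_one_iff_unique.1 (hone g hg)).1
      exact congrArg Subtype.val (Subsingleton.elim (⟨a, ha⟩ : MulAction.fixedBy Ω g) ⟨b, hb⟩)
  suffices key : (MulAction.IsPreprimitive G Ω ∧ (MulAction.IsPretransitive G Ω ∧
      (∃ g : G, g ≠ 1 ∧ ∃ ω : Ω, g • ω = ω) ∧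
      ∀ g : G, g ≠ 1 → Nat.card (MulAction.fixedBy Ω g) ≤ 1)) ∨
      (D.index + 1) ^ 2 ≤ Nat.card Ω by
    refine key.imp id fun hle => ?_
    rw [Nat.card_eq_fintype_card] at hle
    have h1 : ((D.index : ℝ) + 1) ^ 2 ≤ (Fintype.card Ω : ℝ) := by exact_mod_cast hle
    linarith [Real.le_sqrt_of_sq_le h1]
  by_cases hk : D = ⊤
  · right
    rw [hk, Subgroup.index_top]
    omega
  by_cases hprim : MulAction.IsPreprimitive G Ω
  · by_cases hfr : ∀ g : G, g ≠ 1 → Nat.card (MulAction.fixedBy Ω g) ≤ 1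
    · refine Or.inl ⟨hprim, htr, ?_, hfr⟩
      by_contra hh
      push Not at hh
      refine hk (top_le_iff.1 fun g _ => ?_)
      by_cases hg : g = 1
      · exact hg ▸ one_mem D
      · exact CfsgLib.Derangement.mem_closure fun ω => hh g hg ω
    · push Not at hfr
      obtain ⟨y, hy, hy2⟩ := hfr
      right
      obtain ⟨⟨a, ha⟩, ⟨b, hb⟩, hab⟩ := Finite.one_lt_card_iff_nontrivial.1 hy2 |>.exists_pair_ne
      exact h.sq_le hk hn hy ha hb fun e => hab (Subtype.ext e)
  · exact Or.inr (h.sq_le_of_imprimitive hprim)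

end Cfsg.Agent.S5732
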