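import Cfsg.Statements.S5738
-- import your own Cfsg.Agent.* helpers here

set_option autoImplicit false
open Cfsg

namespace Cfsg.Agent.S5738

/-- An element normalising the algebra of multiplications is a multiplication after an automorphism. -/
lemma semilinear_of_normalizes {F K : Type*} [Field F] [Field K] [Finite K] [Algebra F K] (g : (Module.End F K)ˣ)
    (h : ∀ x : K, ∃ y : K, (g : Module.End F K) * Algebra.lmul F K x = Algebra.lmul F K y * (g : Module.End F K)) :
    ∃ σ : K ≃ₐ[F] K, ∀ x : K, (g : Module.End F K) x = σ x * (g : Module.End F K) 1 := by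
  choose ψ hψ using h
  have happ : ∀ x z : K, (g : Module.End F K) (x * z) = ψ x * (g : Module.End F K) z :=
    fun x z => LinearMap.congr_fun (hψ x) z
  have hinj : Function.Injective (g : Module.End F K) := ((Module.End.isUnit_iff _).mp g.isUnit).1
  have hg1 : (g : Module.End F K) 1 ≠ 0 := fun h0 => one_ne_zero (hinj (h0.trans (map_zero _).symm))
  have hval : ∀ x, (g : Module.End F K) x = ψ x * (g : Module.End F K) 1 := fun x => by
    simpa using happ x 1
  have hone : ψ 1 = 1 := mul_right_cancel₀ hg1 ((hval 1).symm.trans (one_mul _).symm)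
  have hmul : ∀ x y, ψ (x * y) = ψ x * ψ y := fun x y => by
    apply mul_right_cancel₀ hg1
    rw [← hval, happ, hval y, mul_assoc]
  have hadd : ∀ x y, ψ (x + y) = ψ x + ψ y := fun x y => by
    apply mul_right_cancel₀ hg1
    rw [← hval, map_add, add_mul, ← hval, ← hval]
  have hcomm : ∀ c : F, ψ (algebraMap F K c) = algebraMap F K c := fun c => by
    apply mul_right_cancel₀ hg1
    rw [← hval, Algebra.algebraMap_eq_smul_one, map_smul, smul_mul_assoc, one_mul]
  let φ : K →ₐ[F] K :=
    { toFun := ψ
      map_one' := hone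
      map_mul' := hmul
      map_zero' := by simpa using hcomm 0
      map_add' := hadd
      commutes' := hcomm }
  exact ⟨AlgEquiv.ofBijective φ (Finite.injective_iff_bijective.mp φ.toRingHom.injective), hval⟩

/-- Let F ⊆ K be finite fields with |F| = q and [K : F] = n ≥ 2, so |K| = q^n. Regard K as an n-dimensional F-vector space; the multiplications by non-zero elements of K form a cyclic subgroup of GL_F(K) of order q^n − 1 acting regularly on the non-zero vectors (a Singer group). Its normaliser in GL_F(K) has order n·(q^n − 1). -/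
theorem result {F K : Type*} [Field F] [Fintype F] [Field K] [Fintype K] [Algebra F K] (n : ℕ) (hn : 2 ≤ n) (hdim : Module.finrank F K = n) :
    Nat.card (Subgroup.normalizer (((Units.map ((Algebra.lmul F K : K →ₐ[F] Module.End F K) : K →* Module.End F K)).range : Subgroup (Module.End F K)ˣ) : Set (Module.End F K)ˣ)) = n * (Fintype.card K - 1) := by
  classical
  set L : Kˣ →* (Module.End F K)ˣ := Units.map ((Algebra.lmul F K : K →ₐ[F] Module.End F K) : K →* Module.End F K)
  set N := Subgroup.normalizer ((L.range : Subgroup (Module.End F K)ˣ) : Set (Module.End F K)ˣ)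
  let S : (K ≃ₐ[F] K) → (Module.End F K)ˣ := fun σ =>
    { val := σ.toLinearEquiv.toLinearMap
      inv := σ.symm.toLinearEquiv.toLinearMap
      val_inv := by ext x; simp
      inv_val := by ext x; simp }
  have hS : ∀ (σ : K ≃ₐ[F] K) (a : Kˣ), S σ * L a = L (Units.map (σ : K →* K) a) * S σ := by
    intro σ a; apply Units.ext; ext x
    simp [S, L]
  have hmem : ∀ p : Kˣ × (K ≃ₐ[F] K), L p.1 * S p.2 ∈ N := by
    rintro ⟨a, σ⟩
    rw [Subgroup.mem_normalizer_iff]
    intro x
    have hconj : ∀ b : Kˣ, L a * S σ * L b * (L a * S σ)⁻¹ = L (Units.map (σ : K →* K) b) := by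
      intro b
      rw [mul_inv_rev, mul_assoc (L a), hS, ← mul_assoc, ← mul_assoc, mul_inv_cancel_right,
        ← map_mul, ← map_inv, ← map_mul, mul_right_comm, mul_inv_cancel, one_mul]
    constructor
    · rintro ⟨b, rfl⟩
      exact ⟨_, (hconj b).symm⟩
    · rintro ⟨b, hb⟩
      refine ⟨Units.map (σ.symm : K →* K) b, ?_⟩
      have hc := hconj (Units.map (σ.symm : K →* K) b)
      have hid : Units.map (σ : K →* K) (Units.map (σ.symm : K →* K) b) = b := by ext; simp
      rw [hid, hb] at hc
      exact mul_left_cancel (mul_right_cancel hc)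
  have hbij : Function.Bijective (fun p => (⟨_, hmem p⟩ : N)) := by
    constructor
    · rintro ⟨a, σ⟩ ⟨b, τ⟩ h
      have h' : ∀ x : K, (a : K) * σ x = (b : K) * τ x := fun x =>
        LinearMap.congr_fun (congrArg (fun u : N => ((u : (Module.End F K)ˣ) : Module.End F K)) h) x
      have hab : (a : K) = b := by simpa using h' 1
      refine Prod.ext (Units.ext hab) (AlgEquiv.ext fun x => mul_left_cancel₀ a.ne_zero ?_)
      rw [h' x, hab]
    · rintro ⟨g, hg⟩
      obtain ⟨σ, hσ⟩ := semilinear_of_normalizes g (fun x => by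
        by_cases hx : x = 0
        · exact ⟨0, by subst hx; simp⟩
        obtain ⟨b, hb⟩ := (Subgroup.mem_normalizer_iff.mp hg (L (Units.mk0 x hx))).mp ⟨_, rfl⟩
        refine ⟨(b : K), ?_⟩
        have h2 := congrArg Units.val (eq_mul_inv_iff_mul_eq.mp hb)
        exact h2.symm)
      have hg1 : (g : Module.End F K) 1 ≠ 0 := fun h0 =>
        one_ne_zero (((Module.End.isUnit_iff _).mp g.isUnit).1 (h0.trans (map_zero _).symm))
      refine ⟨(Units.mk0 _ hg1, σ), Subtype.ext (Units.ext (LinearMap.ext fun x => ?_))⟩
      rw [hσ x]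
      exact mul_comm _ _
  rw [← Nat.card_eq_of_bijective _ hbij, Nat.card_prod, Nat.card_units, IsGalois.card_aut_eq_finrank, hdim,
    Nat.card_eq_fintype_card, mul_comm]

end Cfsg.Agent.S5738
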