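import Cfsg.Statements.S5739
-- import your own Cfsg.Agent.* helpers here

set_option autoImplicit false
open Cfsg

namespace Cfsg.Agent.S5739

/-- Let F ⊆ K be finite fields with |F| = q and [K : F] = n ≥ 2, and let M ≤ GL_F(K) be the Singer group of multiplications by non-zero elements of K. If g ∈ GL_F(K) does not normalise M, then the order of M ∩ gMg⁻¹ divides q^r − 1 for some proper divisor r of n. In particular, when n is prime, that order divides q − 1. -/
theorem result {F K : Type*} [Field F] [Fintype F] [Field K] [Fintype K] [Algebra F K] (n : ℕ) (hn : 2 ≤ n) (hdim : Module.finrank F K = n)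
    (g : (Module.End F K)ˣ) (hg : ((Units.map ((Algebra.lmul F K : K →ₐ[F] Module.End F K) : K →* Module.End F K)).range).map (MulAut.conj g).toMonoidHom ≠ (Units.map ((Algebra.lmul F K : K →ₐ[F] Module.End F K) : K →* Module.End F K)).range) :
    ∃ r : ℕ, 1 ≤ r ∧ r ∣ n ∧ r < n ∧ Nat.card ↥(((Units.map ((Algebra.lmul F K : K →ₐ[F] Module.End F K) : K →* Module.End F K)).range).map (MulAut.conj g).toMonoidHom ⊓ (Units.map ((Algebra.lmul F K : K →ₐ[F] Module.End F K) : K →* Module.End F K)).range) ∣ Fintype.card F ^ r - 1 := by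
  classical
  set L : Kˣ →* (Module.End F K)ˣ := Units.map ((Algebra.lmul F K : K →ₐ[F] Module.End F K) : K →* Module.End F K)
  have hL : Function.Injective L := fun a b h =>
    Units.ext (Algebra.lmul_injective (R := F) (A := K) (congrArg Units.val h))
  -- the elements of `K` whose multiplication lies in the conjugate algebra form a subfield `E`
  let c : Module.End F K →ₐ[F] Module.End F K :=
    { toFun := fun T => (g : Module.End F K) * T * ((g⁻¹ : (Module.End F K)ˣ) : Module.End F K)
      map_one' := by simp
      map_mul' := fun S T => by simp [mul_assoc]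
      map_zero' := by simp
      map_add' := fun S T => by simp [mul_add, add_mul]
      commutes' := fun r => by
        rw [Algebra.commutes r (g : Module.End F K) |>.symm, mul_assoc, Units.mul_inv, mul_one] }
  let A : Subalgebra F K := ((c.comp (Algebra.lmul F K)).range).comap (Algebra.lmul F K)
  have hA : IsField A := Finite.isField_of_domain A
  let E : IntermediateField F K := A.toIntermediateField' hA
  have hmemE : ∀ x : K, x ∈ E ↔ ∃ y : K,
      (g : Module.End F K) * Algebra.lmul F K y * ((g⁻¹ : (Module.End F K)ˣ) : Module.End F K) =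
        Algebra.lmul F K x := fun x => Iff.rfl
  have hint : ∀ a : Kˣ, L a ∈ L.range.map (MulAut.conj g).toMonoidHom ↔ (a : K) ∈ E := by
    intro a
    rw [hmemE]
    constructor
    · rintro ⟨_, ⟨b, rfl⟩, hb⟩
      exact ⟨b, congrArg Units.val hb⟩
    · rintro ⟨y, hy⟩
      have hy0 : y ≠ 0 := by
        rintro rfl
        rw [map_zero, mul_zero, zero_mul] at hy
        exact a.ne_zero (Algebra.lmul_injective (R := F) (A := K) (hy.symm.trans (map_zero _).symm))
      exact ⟨L (Units.mk0 y hy0), ⟨_, rfl⟩, Units.ext hy⟩
  have hcard : Nat.card ↥(L.range.map (MulAut.conj g).toMonoidHom ⊓ L.range) =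
      Fintype.card F ^ Module.finrank F E - 1 := by
    have hE : Nat.card E = Fintype.card F ^ Module.finrank F E := by
      rw [Module.natCard_eq_pow_finrank (K := F), Nat.card_eq_fintype_card]
    rw [← hE, ← Nat.card_units]
    refine (Nat.card_eq_of_bijective (fun u : Eˣ =>
      (⟨L (Units.map (algebraMap E K : E →* K) u), (hint _).mpr (u : E).2, ⟨_, rfl⟩⟩ :
        ↥(L.range.map (MulAut.conj g).toMonoidHom ⊓ L.range))) ⟨?_, ?_⟩).symm
    · intro u v h
      have h2 := congrArg Units.val (hL (congrArg Subtype.val h))
      exact Units.ext (Subtype.ext h2)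
    · rintro ⟨_, h1, a, rfl⟩
      have ha := (hint a).mp h1
      have hne : (⟨(a : K), ha⟩ : E) ≠ 0 := fun h0 => a.ne_zero (congrArg Subtype.val h0)
      exact ⟨Units.mk0 _ hne, Subtype.ext (congrArg L (Units.ext rfl))⟩
  refine ⟨Module.finrank F E, Module.finrank_pos,
    ⟨_, hdim.symm.trans (Module.finrank_mul_finrank F E K).symm⟩, ?_, hcard ▸ dvd_rfl⟩
  refine lt_of_le_of_ne (hdim ▸ E.toSubalgebra.toSubmodule.finrank_le) fun heq => hg ?_
  have htop : ∀ x : K, x ∈ E := by
    have h := Submodule.eq_top_of_finrank_eq (S := E.toSubalgebra.toSubmodule) (by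
      change Module.finrank F E = _; rw [heq, hdim])
    exact fun x => (Submodule.eq_top_iff'.mp h x : _)
  symm
  have : Finite (Module.End F K) := Module.finite_of_finite F
  apply Subgroup.eq_of_le_of_card_ge
  · rintro _ ⟨a, rfl⟩
    exact (hint a).mpr (htop _)
  · exact (Subgroup.card_map_of_injective (MulAut.conj g).injective).le

end Cfsg.Agent.S5739
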