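import Cfsg.Statements.S5742
import Cfsg.Agent.E6Fi22.Twist
import Cfsg.Agent.Fi22Out.Out

set_option autoImplicit false
open Cfsg

namespace Cfsg.Agent.S5742

/-- The simple group ²E₆(2) (the twisted group of type E₆ over the field with 4 elements) contains at least three pairwise non-conjugate subgroups isomorphic to the Fischer group Fi₂₂. -/
theorem result {K : Type*} [Field K] [Fintype K] (hK : Fintype.card K = 4) :
    ∃ H : Fin 3 → Subgroup (Cfsg.Lie.twistedE6 K 2),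
      (∀ i, Cfsg.Spor.IsoFi22 (H i)) ∧
      (∀ i j, i ≠ j → ∀ g : (Cfsg.Lie.twistedE6 K 2), (H i).map (MulAut.conj g).toMonoidHom ≠ H j) := by
  obtain ⟨w, hc, hw⟩ := CfsgLib.E6Fi22.exists_w hK
  have hW : CfsgLib.Chevalley.GoodWeyl Cfsg.Lie.chevE6 := CfsgLib.Chevalley.goodWeyl_of_mem (by simp)
  refine CfsgLib.E6Fi22.exists_three hK CfsgLib.Fi22Out.card_out_Fi22 (CfsgLib.E6Fi22.hom w hw hW)
    (CfsgLib.E6Fi22.hom_injective w hw hW) (CfsgLib.E6Fi22.hom_range_le w hw hW) fun z hz => ?_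
  refine CfsgLib.E6Fi22.scalar_of_commute_gens hw hW z fun a _ => ?_
  rw [← CfsgLib.E6Fi22.hom_of w hw hW]
  exact hz _

end Cfsg.Agent.S5742
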