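import Cfsg.Statements.S5743
import Cfsg.Agent.E6Fold.Triple

set_option autoImplicit false
open Cfsg

namespace Cfsg.Agent.S5743

open Cfsg.Lie CfsgLib CfsgLib.Chevalley CfsgLib.E6Fold
open scoped MatrixGroups

theorem simple_inj : ∀ a b : Fin 6, chevE6.simple a = chevE6.simple b → a = b := by decide +kernel

theorem zmod_two_cases : ∀ t : ZMod 2, t = 0 ∨ t = 1 := by decide

/-- The simple group ²E₆(2) (the twisted group of type E₆ over the field with 4 elements) contains at least three pairwise non-conjugate subgroups isomorphic to the Chevalley group F₄(2). -/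
theorem result {K : Type*} [Field K] [Fintype K] (hK : Fintype.card K = 4) :
    ∃ H : Fin 3 → Subgroup (Cfsg.Lie.twistedE6 K 2),
      (∀ i, Nonempty ((H i) ≃* Cfsg.Lie.chevF4.group (ZMod 2))) ∧
      (∀ i j, i ≠ j → ∀ g : (Cfsg.Lie.twistedE6 K 2), (H i).map (MulAut.conj g).toMonoidHom ≠ H j) := by
  classical
  have : Fact (Nat.Prime 2) := ⟨Nat.prime_two⟩
  have : CharP K 2 := charP_of_card_eq_prime_pow (f := 2) (by rw [hK]; norm_num)
  have hW : GoodWeyl chevE6 := goodWeyl_of_mem (by simp)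
  have hWE : GoodWeyl chevF4 := goodWeyl_of_mem (by simp)
  obtain ⟨C, M, R, h⟩ := ChevSubfield.exists_rootGood (D := chevE6) (by simp)
  obtain ⟨w, hw⟩ := IsCyclic.exists_ofOrder_eq_natCard (α := Kˣ)
  rw [Nat.card_units, Nat.card_eq_fintype_card, hK] at hw
  have hw3 : w ^ 3 = 1 := by
    have := pow_orderOf_eq_one w
    rwa [hw] at this
  set δ := tripDelta w
  have hδ : δ ^ 3 = 1 := tripDelta_pow_three w hw3
  set φ : GL chevE6.Idx (ZMod 2) →* GL chevE6.Idx K := primeMap K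
  have hφ : Function.Injective φ := fun a b e => by
    apply Units.ext
    have := congrArg Units.val e
    exact Matrix.map_injective (ZMod.castHom dvd_rfl K).injective this
  let H0 : Fin 3 → Subgroup (GL chevE6.Idx K) := fun i =>
    (sFix e6_valid hW (ZMod 2)).map ((MulAut.conj (δ ^ (i : ℕ))).toMonoidHom.comp φ)
  have hle : ∀ i, H0 i ≤ twistedE6 K 2 := by
    rintro i _ ⟨x, hx, rfl⟩
    exact tripDelta_twisted hW w hw3 _ (sFix_map_le_twisted hW ⟨x, hx, rfl⟩)
  refine ⟨fun i => (H0 i).subgroupOf (twistedE6 K 2), fun i => ?_, fun i j hij g heq => hij ?_⟩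
  · obtain ⟨e⟩ := nonempty_foldEquiv (F := ZMod 2) e6_valid hW hWE h
    exact ⟨((Subgroup.subgroupOfEquivOfLe (hle i)).trans
      (Subgroup.equivMapOfInjective _ _
        ((MulAut.conj (δ ^ (i : ℕ))).injective.comp hφ)).symm).trans e⟩
  -- the regular element
  let P : Root chevE6 → GL chevE6.Idx (ZMod 2) := fun r => orbEl e6_valid hW r 1
  let n0 : Fin 6 → Fin chevE6.rank := fun a => a
  set y0 : GL chevE6.Idx (ZMod 2) :=
    P (pRoot hW (n0 0)) * P (pRoot hW (n0 2)) * P (pRoot hW (n0 3)) * P (pRoot hW (n0 1))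
  have hy0 : y0 ∈ sFix e6_valid hW (ZMod 2) :=
    mul_mem (mul_mem (mul_mem (orbEl_mem _ _ _ _) (orbEl_mem _ _ _ _)) (orbEl_mem _ _ _ _))
      (orbEl_mem _ _ _ _)
  set m := (i : ℕ) + 2 * (j : ℕ) with hm
  suffices h3 : 3 ∣ m by
    apply Fin.ext
    have := i.isLt; have := j.isLt
    omega
  have hmem : δ ^ (i : ℕ) * φ y0 * (δ ^ (i : ℕ))⁻¹ ∈ H0 i := ⟨y0, hy0, rfl⟩
  obtain ⟨x, hx, hxe⟩ : (g : GL chevE6.Idx K) * (δ ^ (i : ℕ) * φ y0 * (δ ^ (i : ℕ))⁻¹) *
      (g : GL chevE6.Idx K)⁻¹ ∈ H0 j := by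
    have h1 : MulAut.conj g ⟨_, hle i hmem⟩ ∈
        ((H0 i).subgroupOf (twistedE6 K 2)).map (MulAut.conj g).toMonoidHom := ⟨_, hmem, rfl⟩
    rw [heq] at h1
    exact h1
  have hgG : (g : GL chevE6.Idx K) ∈ chevE6.group K := by
    refine (Subgroup.closure_le _).2 ?_ g.2
    rintro z ⟨l, hl, hz⟩
    have : ∀ l : List (ℕ × K), ∃ u ∈ chevE6.group K,
        (u : Matrix chevE6.Idx chevE6.Idx K) = chevE6.wordMat K l := by
      intro l
      induction l with
      | nil => exact ⟨1, one_mem _, by simp [ChevalleyDatum.wordMat]⟩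
      | cons p l ih =>
        obtain ⟨u, hu, e⟩ := ih
        by_cases hp : p.1 < chevE6.nroots
        · refine ⟨X hW.good ⟨p.1, hp⟩ p.2 * u, mul_mem (X_mem_group _ _ _) hu, ?_⟩
          rw [Units.val_mul, e, coe_X, ← x_eq_xR hW.good]
          simp [ChevalleyDatum.wordMat]
        · refine ⟨u, hu, ?_⟩
          rw [e]
          simp [ChevalleyDatum.wordMat, ChevalleyDatum.x, hp]
    obtain ⟨u, hu, e⟩ := this l
    rwa [show z = u from Units.ext (hz.trans e.symm)]
  -- `x` is conjugate in `E6(2)` to an element of `U`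
  have hxG : x ∈ chevE6.group (ZMod 2) := sFix_le_group e6_valid hW hx
  have hy0U : y0 ∈ chevE6.posUnipotent (ZMod 2) := by
    have : ∀ a, P (pRoot hW a) ∈ chevE6.posUnipotent (ZMod 2) := fun a => by
      show orbEl e6_valid hW _ 1 ∈ _
      rw [orbEl]
      split_ifs
      · exact Chevalley.X_mem_pos hW.good (pRoot_pos hW a) _
      · exact mul_mem (Chevalley.X_mem_pos hW.good (pRoot_pos hW a) _)
          (Chevalley.X_mem_pos hW.good ((rootP_pos e6_valid _).2 (pRoot_pos hW a)) _)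
    exact mul_mem (mul_mem (mul_mem (this _) (this _)) (this _)) (this _)
  have hmap : ∀ v ∈ chevE6.posUnipotent (ZMod 2), φ v ∈ chevE6.posUnipotent K := by
    intro v hv
    rw [posUnipotent_eq_closure hW.good] at hv
    induction hv using Subgroup.closure_induction with
    | mem z hz =>
      obtain ⟨r, hr, t, rfl⟩ := hz
      show Matrix.GeneralLinearGroup.map _ _ ∈ _
      rw [X_map]
      exact Chevalley.X_mem_pos hW.good hr _
    | one => simp
    | mul a b _ _ ha hb => rw [map_mul]; exact mul_mem ha hb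
    | inv a _ ha => rw [map_inv]; exact inv_mem ha
  have hmapG : ∀ v ∈ chevE6.group (ZMod 2), φ v ∈ chevE6.group K := by
    intro v hv
    rw [group_eq_closure hW.good] at hv
    induction hv using Subgroup.closure_induction with
    | mem z hz =>
      obtain ⟨r, t, rfl⟩ := hz
      show Matrix.GeneralLinearGroup.map _ _ ∈ _
      rw [X_map]
      exact X_mem_group _ _ _
    | one => simp
    | mul a b _ _ ha hb => rw [map_mul]; exact mul_mem ha hb
    | inv a _ ha => rw [map_inv]; exact inv_mem ha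
  set g' := (δ ^ (j : ℕ))⁻¹ * (g : GL chevE6.Idx K) * δ ^ (j : ℕ) with hg'
  have hgj : g' ∈ chevE6.group K := by
    have := tripDelta_group hW w hw3 (2 * (j : ℕ)) hgG
    have e : δ ^ (2 * (j : ℕ)) = (δ ^ (j : ℕ))⁻¹ := eq_inv_of_mul_eq_one_left (by
      rw [← pow_add, show 2 * (j : ℕ) + j = 3 * j by ring, pow_mul, hδ, one_pow])
    rwa [e, inv_inv] at this
  have hxφ : φ x = g' * (δ ^ m * φ y0 * (δ ^ m)⁻¹) * g'⁻¹ := by
    have e : δ ^ m = (δ ^ (j : ℕ))⁻¹ * δ ^ (i : ℕ) := by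
      rw [eq_inv_mul_iff_mul_eq, ← pow_add, hm, show (j : ℕ) + ((i : ℕ) + 2 * j) = i + 3 * j by ring,
        pow_add, pow_mul, hδ, one_pow, mul_one]
    have hxe' : δ ^ (j : ℕ) * φ x * (δ ^ (j : ℕ))⁻¹ = _ := hxe
    rw [e, hg', show φ x = (δ ^ (j : ℕ))⁻¹ * (δ ^ (j : ℕ) * φ x * (δ ^ (j : ℕ))⁻¹) * δ ^ (j : ℕ)
      by group, hxe']
    group
  obtain ⟨k, hk⟩ : ∃ k, y0 ^ 2 ^ k = 1 := by
    have h1 := orderOf_dvd_natCard (⟨y0, hy0U⟩ : ↥(chevE6.posUnipotent (ZMod 2)))
    rw [Subgroup.orderOf_mk, posUnipotent_eq hW.good, natCard_uGe hW.toGoodUni, Nat.card_zmod] at h1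
    exact ⟨_, orderOf_dvd_iff_pow_eq_one.1 h1⟩
  have hx2 : x ^ 2 ^ k = 1 := by
    apply hφ
    rw [map_pow, hxφ, map_one, conj_pow, conj_pow, ← map_pow, hk, map_one, mul_one,
      mul_inv_cancel, mul_one, mul_inv_cancel]
  obtain ⟨a, ha, hax⟩ := ChevParabolic.exists_conj_mem_pos hW h 2 hxG hx2
  refine no_conj_regular hK hW hw m (g := φ a * g') (y := δ ^ m * φ y0 * (δ ^ m)⁻¹)
    (mul_mem (hmapG a ha) hgj) ?_ ?_ ?_ ?_
  · have hconj : ∀ v ∈ chevE6.posUnipotent K, δ ^ m * v * (δ ^ m)⁻¹ ∈ chevE6.posUnipotent K := by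
      intro v hv
      rw [posUnipotent_eq_closure hW.good] at hv
      induction hv using Subgroup.closure_induction with
      | mem z hz =>
        obtain ⟨r, hr, t, rfl⟩ := hz
        rw [tripDelta_conj hW w hw3]
        exact Chevalley.X_mem_pos hW.good hr _
      | one => simp
      | mul a b _ _ ha hb =>
        rw [show δ ^ m * (a * b) * (δ ^ m)⁻¹ =
          (δ ^ m * a * (δ ^ m)⁻¹) * (δ ^ m * b * (δ ^ m)⁻¹) by group]
        exact mul_mem ha hb
      | inv a _ ha =>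
        rw [show δ ^ m * a⁻¹ * (δ ^ m)⁻¹ = (δ ^ m * a * (δ ^ m)⁻¹)⁻¹ by group]
        exact inv_mem ha
    exact hconj _ (hmap _ hy0U)
  · intro i
    have hp : ∀ a : Fin 6, rootP e6_valid (pRoot hW (n0 a)) =
        pRoot hW (n0 (![5, 1, 4, 3, 2, 0] a)) := fun a => by
      rw [rootP_pRoot e6_valid hW]
      congr 1
      apply Fin.ext
      revert a
      decide
    have hne : ∀ a b : Fin 6, a ≠ b → pRoot hW (n0 a) ≠ pRoot hW (n0 b) := fun a b hab e =>
      hab (simple_inj a b (congrArg Fin.val e))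
    have hy : δ ^ m * φ y0 * (δ ^ m)⁻¹ = (List.map (fun a : Fin 6 => X hW.good (pRoot hW (n0 a))
        (((tripChi w (pRoot hW (n0 a)) : Kˣ) : K) ^ m)) [0, 5, 2, 4, 3, 1]).prod := by
      simp only [y0, P, orbEl, hp, hne 5 0 (by decide), hne 4 2 (by decide), Matrix.cons_val,
        if_false, if_true, map_mul, φ, primeMap, X_map, map_one, List.map_cons, List.map_nil,
        List.prod_cons, List.prod_nil, mul_one]
      rw [show ∀ d a b c e f g : GL chevE6.Idx K, d * (a * b * (c * e) * f * g) * d⁻¹ =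
        (d * a * d⁻¹) * ((d * b * d⁻¹) * ((d * c * d⁻¹) * ((d * e * d⁻¹) * ((d * f * d⁻¹) *
          (d * g * d⁻¹))))) from fun d a b c e f g => by group]
      simp only [δ, tripDelta_conj hW w hw3, mul_one]
    have hsum : ∀ l : List (Fin 6), ∀ c : Fin 6 → K,
        (l.map fun a => X hW.good (pRoot hW (n0 a)) (c a)).prod ∈ chevE6.posUnipotent K ∧
        coord hW i (l.map fun a => X hW.good (pRoot hW (n0 a)) (c a)).prod i =
          (l.map fun a => if n0 a = i then c a else 0).sum := by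
      intro l c
      induction l with
      | nil => exact ⟨one_mem _, by simp [coord, Matrix.one_apply]⟩
      | cons a l ih =>
        rw [List.map_cons, List.prod_cons, List.map_cons, List.sum_cons]
        have hX := Chevalley.X_mem_pos hW.good (pRoot_pos hW (n0 a)) (c a)
        exact ⟨mul_mem hX ih.1, by rw [coord_mul hW i hX ih.1, ih.2, coord_X]⟩
    rw [hy, (hsum _ _).2]
    obtain ⟨a, rfl⟩ : ∃ a : Fin 6, n0 a = i := ⟨i, rfl⟩
    have hiff : ∀ b : Fin 6, n0 b = n0 a ↔ b = a := fun b => Iff.rfl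
    simp only [hiff, List.map_cons, List.map_nil, List.sum_cons, List.sum_nil]
    fin_cases a <;> simp [Fin.ext_iff]
  · rw [show φ a * g' * (δ ^ m * φ y0 * (δ ^ m)⁻¹) * (φ a * g')⁻¹ =
      φ a * (g' * (δ ^ m * φ y0 * (δ ^ m)⁻¹) * g'⁻¹) * (φ a)⁻¹ by group, ← hxφ, ← map_inv,
      ← map_mul, ← map_mul]
    exact hmap _ hax
  · intro l
    rw [show φ a * g' * (δ ^ m * φ y0 * (δ ^ m)⁻¹) * (φ a * g')⁻¹ =
      φ a * (g' * (δ ^ m * φ y0 * (δ ^ m)⁻¹) * g'⁻¹) * (φ a)⁻¹ by group, ← hxφ, ← map_inv,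
      ← map_mul, ← map_mul]
    show (ZMod.castHom dvd_rfl K) ((a * x * a⁻¹ : GL chevE6.Idx (ZMod 2)) (Sum.inl l)
      (Sum.inr (pRoot hW l).rev)) = 0 ∨ (ZMod.castHom dvd_rfl K) _ = 1
    rcases zmod_two_cases ((a * x * a⁻¹ : GL chevE6.Idx (ZMod 2)) (Sum.inl l)
      (Sum.inr (pRoot hW l).rev)) with e | e <;> rw [e]
    · exact Or.inl (map_zero _)
    · exact Or.inr (map_one _)

end Cfsg.Agent.S5743
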