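import Cfsg.Statements.S5744
import Cfsg.Agent.E6Fi22.Twist
import Cfsg.Agent.Fi22O7.Main
import Cfsg.Agent.S2604
import Cfsg.Agent.Forms4.POmegaOrders

set_option autoImplicit false
open Cfsg

namespace Cfsg.Agent.S5744

/-- The simple group ²E₆(2) (the twisted group of type E₆ over the field with 4 elements) contains at least three pairwise non-conjugate subgroups isomorphic to the orthogonal group Ω₇(3) (the commutator subgroup of the isometry group of x₀² + x₁y₁ + x₂y₂ + x₃y₃ over the field with 3 elements). -/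
theorem result {K : Type*} [Field K] [Fintype K] (hK : Fintype.card K = 4) :
    ∃ H : Fin 3 → Subgroup (Cfsg.Lie.twistedE6 K 2),
      (∀ i, Nonempty ((H i) ≃* Cfsg.Omega (ZMod 3) (Cfsg.quadFormOdd 3 (ZMod 3)))) ∧
      (∀ i j, i ≠ j → ∀ g : (Cfsg.Lie.twistedE6 K 2), (H i).map (MulAut.conj g).toMonoidHom ≠ H j) := by
  obtain ⟨w, hc, hw⟩ := CfsgLib.E6Fi22.exists_w hK
  have hW : CfsgLib.Chevalley.GoodWeyl Cfsg.Lie.chevE6 := CfsgLib.Chevalley.goodWeyl_of_mem (by simp)
  have hOut : Nat.card (Cfsg.Out (Cfsg.POmega (ZMod 3) (Cfsg.quadFormOdd 3 (ZMod 3)))) = 2 := by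
    obtain ⟨e⟩ := Cfsg.Agent.S2604.result (F := ZMod 3) (p := 3) (f := 1) (m := 3) le_rfl (by simp) (by norm_num)
      le_rfl
    rw [Nat.card_congr e.toEquiv, Nat.card_congr Multiplicative.toAdd, Nat.card_prod, Nat.card_zmod, Nat.card_zmod]
  have hbot : Subgroup.center ↥(Cfsg.Omega (ZMod 3) (Cfsg.quadFormOdd 3 (ZMod 3))) = ⊥ := by
    have h2 : (2 : ZMod 3) ≠ 0 := by decide
    rw [← CfsgLib.StdForms.coe_oddQ, ← Subgroup.card_eq_one]
    refine CfsgLib.Forms4.card_center_omega_one (CfsgLib.StdForms.oddQ_nondegenerate h2 3) (by simp)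
      (CfsgLib.Forms4.oddPairs 3 (by norm_num)) fun g hg hgv => ?_
    exfalso
    have h1 := (CfsgLib.Forms.mem_special_iff g).1 (CfsgLib.Forms.omega_le_special hg)
    rw [hgv, Matrix.det_neg, Matrix.det_one, mul_one] at h1
    revert h1
    simp
    decide
  obtain ⟨e⟩ := CfsgLib.Fi22O7.nonempty_equiv_sub
  let ψ := ((CfsgLib.E6Fi22.hom w hw hW).comp (Subgroup.subtype _)).comp e.symm.toMonoidHom
  have hψ : Function.Injective ψ :=
    ((CfsgLib.E6Fi22.hom_injective w hw hW).comp Subtype.coe_injective).comp e.symm.injective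
  obtain ⟨H, h1, h2⟩ := CfsgLib.E6Fi22.exists_three hK hOut ψ hψ (by
    rintro _ ⟨x, rfl⟩
    exact CfsgLib.E6Fi22.hom_range_le w hw hW ⟨_, rfl⟩) fun z hz => by
    refine CfsgLib.E6Fi22.scalar_of_commute_gens hw hW z fun a ha => ?_
    rw [← CfsgLib.E6Fi22.hom_of w hw hW]
    have hmem : (PresentedGroup.of a : Cfsg.Spor.Fi22) ∈
        (Subgroup.closure ({Spor.Fi22.b, Spor.Fi22.c, Spor.Fi22.d, Spor.Fi22.e, Spor.Fi22.f, Spor.Fi22.g,
          Spor.Fi22.h, Spor.Fi22.i} : Set (FreeGroup Spor.Fi22.Gen))).map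
          (PresentedGroup.mk (Spor.coxRelators Spor.Fi22.edges ∪ {r | r ∈ Spor.Fi22.extra})) := by
      refine ⟨FreeGroup.of a, Subgroup.subset_closure ?_, rfl⟩
      cases a <;> first | exact absurd rfl ha | simp
    have := hz (e ⟨_, hmem⟩)
    simpa [ψ] using this
  refine ⟨H, fun i => ?_, h2⟩
  obtain ⟨E⟩ := h1 i
  exact ⟨E.trans ((QuotientGroup.quotientMulEquivOfEq hbot).trans QuotientGroup.quotientBot)⟩

end Cfsg.Agent.S5744
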