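import Cfsg.Statements.S5747
-- import your own Cfsg.Agent.* helpers here

set_option autoImplicit false
open Cfsg

namespace Cfsg.Agent.S5747

section

variable (G : Type*) {Ω : Type*} [Group G] [MulAction G Ω]

/-- The pointwise stabiliser of `S` is trivial. -/
def IsBaseSet (S : Set Ω) : Prop := ∀ g : G, (∀ x ∈ S, g • x = x) → g = 1

/-- A base none of whose points can be omitted. -/
def IsMinBase (S : Set Ω) : Prop := IsBaseSet G S ∧ ∀ x ∈ S, ¬ IsBaseSet G (S \ {x})

/-- Irredundant base as a sequence. -/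
def IsIrr {t : ℕ} (f : Fin t → Ω) : Prop :=
  (∀ g : G, (∀ i : Fin t, g • f i = f i) → g = 1) ∧
    ∀ i : Fin t, ∃ g : G, (∀ j : Fin t, j < i → g • f j = f j) ∧ g • f i ≠ f i

variable {G}

lemma IsIrr.injective {t : ℕ} {f : Fin t → Ω} (h : IsIrr G f) : Function.Injective f := by
  intro a b hab
  by_contra hne
  rcases lt_or_gt_of_ne hne with hl | hl
  · obtain ⟨g, hg, hgb⟩ := h.2 b
    exact hgb (by rw [← hab]; exact hg a hl)
  · obtain ⟨g, hg, hga⟩ := h.2 a
    exact hga (by rw [hab]; exact hg b hl)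

lemma IsIrr.ncard_range {t : ℕ} {f : Fin t → Ω} (h : IsIrr G f) : (Set.range f).ncard = t := by
  rw [← Nat.card_coe_set_eq, Nat.card_range_of_injective h.injective, Nat.card_fin]

/-- Under reordering invariance, the range of an irredundant base is a minimal base. -/
lemma IsIrr.minBase (hre : ∀ (t : ℕ) (f : Fin t → Ω) (σ : Equiv.Perm (Fin t)), IsIrr G f → IsIrr G (f ∘ σ))
    {t : ℕ} {f : Fin t → Ω} (h : IsIrr G f) : IsMinBase G (Set.range f) := by
  refine ⟨fun g hg => h.1 g (fun i => hg _ ⟨i, rfl⟩), ?_⟩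
  rintro _ ⟨i, rfl⟩ hb
  cases t with
  | zero => exact i.elim0
  | succ t =>
    obtain ⟨g, hg, hgi⟩ := (hre _ f (Equiv.swap i (Fin.last t)) h).2 (Fin.last t)
    refine hgi ?_
    have : g = 1 := by
      refine hb g ?_
      rintro _ ⟨⟨j, rfl⟩, hj⟩
      have hji : j ≠ i := fun e => hj (by rw [Set.mem_singleton_iff, e])
      have hne : Equiv.swap i (Fin.last t) j ≠ Fin.last t := by
        intro e
        have := congrArg (Equiv.swap i (Fin.last t)) e
        rw [Equiv.swap_apply_self, Equiv.swap_apply_right] at this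
        exact hji this
      have h2 := hg (Equiv.swap i (Fin.last t) j) (lt_of_le_of_ne (Fin.le_last _) hne)
      simpa using h2
    rw [this, one_smul]

/-- A minimal base, enumerated in any order, is irredundant. -/
lemma IsMinBase.irr {t : ℕ} {f : Fin t → Ω} (hf : Function.Injective f) (h : IsMinBase G (Set.range f)) :
    IsIrr G f := by
  refine ⟨fun g hg => h.1 g (by rintro _ ⟨i, rfl⟩; exact hg i), fun i => ?_⟩
  obtain ⟨g, hg, hg1⟩ : ∃ g : G, (∀ x ∈ Set.range f \ {f i}, g • x = x) ∧ g ≠ 1 := by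
    simpa [IsBaseSet] using h.2 (f i) ⟨i, rfl⟩
  refine ⟨g, fun j hj => hg _ ⟨⟨j, rfl⟩, fun e => hj.ne (hf e)⟩, fun e => hg1 (h.1 g ?_)⟩
  intro x hx
  by_cases hxi : x = f i
  · rw [hxi, e]
  · exact hg x ⟨hx, hxi⟩

/-- Exchange: the number of points of two minimal bases is the same. -/
lemma minBase_ncard_eq [Finite Ω]
    (hre : ∀ (t : ℕ) (f : Fin t → Ω) (σ : Equiv.Perm (Fin t)), IsIrr G f → IsIrr G (f ∘ σ)) :
    ∀ (k : ℕ) (B B' : Set Ω), IsMinBase G B → IsMinBase G B' → (B \ B').ncard = k → B.ncard = B'.ncard := by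
  intro k
  induction k using Nat.strong_induction_on with
  | _ k ih =>
    intro B B' hB hB' hk
    classical
    rcases Set.eq_empty_or_nonempty (B \ B') with he | ⟨x, hxB, hxB'⟩
    · have hsub : B ⊆ B' := Set.sdiff_eq_empty.mp he
      have : B = B' := by
        refine hsub.antisymm fun z hz => ?_
        by_contra hzB
        exact hB'.2 z hz fun g hg => hB.1 g fun w hw => hg w ⟨hsub hw, fun e => hzB (e ▸ hw)⟩
      rw [this]
    obtain ⟨h, hh, hh1⟩ : ∃ h : G, (∀ w ∈ B \ {x}, h • w = w) ∧ h ≠ 1 := by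
      simpa [IsBaseSet] using hB.2 x hxB
    obtain ⟨y, hyB', hy⟩ : ∃ y ∈ B', h • y ≠ y := by
      by_contra hc
      push Not at hc
      exact hh1 (hB'.1 h hc)
    have hyb : y ∉ B \ {x} := fun hm => hy (hh y hm)
    have hyx : y ≠ x := fun e => hxB' (e ▸ hyB')
    have hyB : y ∉ B := fun hm => hyb ⟨hm, hyx⟩
    -- enumerate `B \ {x}`
    have hfin : Fintype ↥(B \ {x}) := Fintype.ofFinite _
    let f₀ : Fin (Fintype.card ↥(B \ {x})) → Ω := fun i => ((Fintype.equivFin ↥(B \ {x})).symm i : Ω)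
    have hf₀ : Function.Injective f₀ := Subtype.val_injective.comp (Equiv.injective _)
    have hrange : Set.range f₀ = B \ {x} := by
      simp only [f₀]
      rw [← Function.comp_def, Set.range_comp, Equiv.range_eq_univ, Set.image_univ, Subtype.range_coe_subtype]
      rfl
    have hpre : ∀ i, ∃ g : G, (∀ w ∈ B \ {x}, w ≠ f₀ i → g • w = w) ∧ g • x = x ∧ g • f₀ i ≠ f₀ i := by
      intro i
      have hi : f₀ i ∈ B \ {x} := hrange ▸ ⟨i, rfl⟩
      obtain ⟨g, hg, hg1⟩ : ∃ g : G, (∀ w ∈ B \ {f₀ i}, g • w = w) ∧ g ≠ 1 := by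
        simpa [IsBaseSet] using hB.2 (f₀ i) hi.1
      refine ⟨g, fun w hw hne => hg w ⟨hw.1, hne⟩, hg x ⟨hxB, fun e => hi.2 e.symm⟩, fun e => hg1 (hB.1 g ?_)⟩
      intro w hw
      by_cases hwi : w = f₀ i
      · rw [hwi, e]
      · exact hg w ⟨hw, hwi⟩
    let f₁ : Fin (Fintype.card ↥(B \ {x}) + 1) → Ω := Fin.snoc f₀ y
    have hr1 : Set.range f₁ = insert y (B \ {x}) := by rw [Fin.range_snoc, hrange]
    have hbase : IsBaseSet G (insert y (B \ {x})) := by
      intro g hg
      by_contra hg1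
      -- otherwise appending `x` gives an irredundant base with a superfluous point
      let f₂ : Fin (Fintype.card ↥(B \ {x}) + 1 + 1) → Ω := Fin.snoc f₁ x
      have hr2 : Set.range f₂ = insert x (insert y (B \ {x})) := by rw [Fin.range_snoc, hr1]
      have hirr : IsIrr G f₂ := by
        refine ⟨fun k hk => hB.1 k fun w hw => ?_, ?_⟩
        · have : w ∈ Set.range f₂ := by
            rw [hr2]
            by_cases hwx : w = x
            · exact Or.inl hwx
            · exact Or.inr (Or.inr ⟨hw, hwx⟩)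
          obtain ⟨i, rfl⟩ := this
          exact hk i
        · intro i
          induction i using Fin.lastCases with
          | last =>
            refine ⟨g, fun j hj => ?_, fun e => hg1 ?_⟩
            · obtain ⟨j', rfl⟩ : ∃ j', Fin.castSucc j' = j := ⟨j.castPred hj.ne, Fin.castSucc_castPred _ _⟩
              simp only [f₂, Fin.snoc_castSucc]
              exact hg _ (hr1 ▸ ⟨j', rfl⟩)
            · refine hB.1 g fun w hw => ?_
              by_cases hwx : w = x
              · rw [hwx]; simpa [f₂] using e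
              · exact hg w (Or.inr ⟨hw, hwx⟩)
          | cast i =>
            induction i using Fin.lastCases with
            | last =>
              refine ⟨h, fun j hj => ?_, by simpa [f₂, f₁] using hy⟩
              obtain ⟨j', rfl⟩ : ∃ j', Fin.castSucc j' = j :=
                ⟨j.castPred (hj.trans_le (Fin.le_last _)).ne, Fin.castSucc_castPred _ _⟩
              rw [Fin.castSucc_lt_castSucc_iff] at hj
              obtain ⟨j'', rfl⟩ : ∃ j'', Fin.castSucc j'' = j' := ⟨j'.castPred hj.ne, Fin.castSucc_castPred _ _⟩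
              simp only [f₂, f₁, Fin.snoc_castSucc]
              exact hh _ (hrange ▸ ⟨j'', rfl⟩)
            | cast i =>
              obtain ⟨k, hk, hkx, hki⟩ := hpre i
              refine ⟨k, fun j hj => ?_, by simpa [f₂, f₁] using hki⟩
              obtain ⟨j', rfl⟩ : ∃ j', Fin.castSucc j' = j :=
                ⟨j.castPred (hj.trans_le (Fin.le_last _)).ne, Fin.castSucc_castPred _ _⟩
              rw [Fin.castSucc_lt_castSucc_iff] at hj
              obtain ⟨j'', rfl⟩ : ∃ j'', Fin.castSucc j'' = j' :=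
                ⟨j'.castPred (hj.trans_le (Fin.le_last _)).ne, Fin.castSucc_castPred _ _⟩
              rw [Fin.castSucc_lt_castSucc_iff] at hj
              simp only [f₂, f₁, Fin.snoc_castSucc]
              exact hk _ (hrange ▸ ⟨j'', rfl⟩) (fun e => hj.ne (hf₀ e))
      have hmin := hirr.minBase hre
      rw [hr2] at hmin
      refine hmin.2 y (Or.inr (Or.inl rfl)) fun k hk => hB.1 k fun w hw => hk w ⟨?_, fun e => hyB (e ▸ hw)⟩
      by_cases hwx : w = x
      · exact Or.inl hwx
      · exact Or.inr (Or.inr ⟨hw, hwx⟩)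
    have hirr1 : IsIrr G f₁ := by
      refine ⟨fun k hk => hbase k fun w hw => ?_, ?_⟩
      · rw [← hr1] at hw
        obtain ⟨i, rfl⟩ := hw
        exact hk i
      · intro i
        induction i using Fin.lastCases with
        | last =>
          refine ⟨h, fun j hj => ?_, by simpa [f₁] using hy⟩
          obtain ⟨j', rfl⟩ : ∃ j', Fin.castSucc j' = j := ⟨j.castPred hj.ne, Fin.castSucc_castPred _ _⟩
          simp only [f₁, Fin.snoc_castSucc]
          exact hh _ (hrange ▸ ⟨j', rfl⟩)
        | cast i =>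
          obtain ⟨k, hk, hkx, hki⟩ := hpre i
          refine ⟨k, fun j hj => ?_, by simpa [f₁] using hki⟩
          obtain ⟨j', rfl⟩ : ∃ j', Fin.castSucc j' = j :=
            ⟨j.castPred (hj.trans_le (Fin.le_last _)).ne, Fin.castSucc_castPred _ _⟩
          rw [Fin.castSucc_lt_castSucc_iff] at hj
          simp only [f₁, Fin.snoc_castSucc]
          exact hk _ (hrange ▸ ⟨j', rfl⟩) (fun e => hj.ne (hf₀ e))
    have hnew := hirr1.minBase hre
    rw [hr1] at hnew
    have hlt : ((insert y (B \ {x})) \ B').ncard < k := by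
      rw [← hk]
      refine Set.ncard_lt_ncard ?_
      refine ⟨fun w hw => ?_, fun hsub => (hsub ⟨hxB, hxB'⟩).1.elim (fun e => hyx e.symm) (fun e => e.2 rfl)⟩
      rcases hw.1 with e | e
      · exact absurd (e ▸ hyB') hw.2
      · exact ⟨e.1, hw.2⟩
    rw [← ih _ hlt _ _ hnew hB' rfl, Set.ncard_insert_of_notMem hyb,
      Set.ncard_sdiff_singleton_add_one hxB]

end

/-- Let a finite group G act on a finite set Ω. An irredundant base is a sequence of points ω₁, …, ω_t whose pointwise stabiliser is trivial and in which each ω_i is moved by some element fixing ω₁, …, ω_{i−1}. Then all irredundant bases have the same length if and only if every reordering of an irredundant base is again an irredundant base. -/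
theorem result {G Ω : Type*} [Group G] [Finite G] [MulAction G Ω] [Fintype Ω] :
    (∀ (t t' : ℕ) (f : Fin t → Ω) (f' : Fin t' → Ω), ((∀ g : G, (∀ i : Fin t, g • f i = f i) → g = 1) ∧ ∀ i : Fin t, ∃ g : G, (∀ j : Fin t, j < i → g • f j = f j) ∧ g • f i ≠ f i) → ((∀ g : G, (∀ i : Fin t', g • f' i = f' i) → g = 1) ∧ ∀ i : Fin t', ∃ g : G, (∀ j : Fin t', j < i → g • f' j = f' j) ∧ g • f' i ≠ f' i) → t = t') ↔
    (∀ (t : ℕ) (f : Fin t → Ω) (σ : Equiv.Perm (Fin t)), ((∀ g : G, (∀ i : Fin t, g • f i = f i) → g = 1) ∧ ∀ i : Fin t, ∃ g : G, (∀ j : Fin t, j < i → g • f j = f j) ∧ g • f i ≠ f i) → ((∀ g : G, (∀ i : Fin t, g • (f ∘ σ) i = (f ∘ σ) i) → g = 1) ∧ ∀ i : Fin t, ∃ g : G, (∀ j : Fin t, j < i → g • (f ∘ σ) j = (f ∘ σ) j) ∧ g • (f ∘ σ) i ≠ (f ∘ σ) i)) := by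
  classical
  constructor
  · intro hsame t f σ hf
    have hbase : ∀ g : G, (∀ i : Fin t, g • (f ∘ σ) i = (f ∘ σ) i) → g = 1 := fun g hg =>
      hf.1 g fun i => by simpa using hg (σ.symm i)
    refine ⟨hbase, ?_⟩
    -- the positions that are not redundant form an irredundant base
    let S : Finset (Fin t) := Finset.univ.filter fun i =>
      ∃ g : G, (∀ j : Fin t, j < i → g • (f ∘ σ) j = (f ∘ σ) j) ∧ g • (f ∘ σ) i ≠ (f ∘ σ) i
    let e : Fin S.card ↪o Fin t := S.orderEmbOfFin rfl
    have hkey : ∀ (g : G) (i : Fin t), (∀ k : Fin S.card, e k < i → g • (f ∘ σ) (e k) = (f ∘ σ) (e k)) →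
        ∀ j : Fin t, j < i → g • (f ∘ σ) j = (f ∘ σ) j := by
      intro g i hg j
      induction j using WellFoundedLT.induction with
      | _ j ih =>
        intro hj
        by_cases hjS : j ∈ S
        · obtain ⟨k, rfl⟩ : j ∈ Set.range e := by
            rw [Finset.range_orderEmbOfFin]; exact hjS
          exact hg k hj
        · by_contra hne
          exact hjS (Finset.mem_filter.mpr ⟨Finset.mem_univ _, g, fun l hl => ih l hl (hl.trans hj), hne⟩)
    have hirr : (∀ g : G, (∀ k : Fin S.card, g • (f ∘ σ) (e k) = (f ∘ σ) (e k)) → g = 1) ∧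
        ∀ k : Fin S.card, ∃ g : G, (∀ l : Fin S.card, l < k → g • (f ∘ σ) (e l) = (f ∘ σ) (e l)) ∧
          g • (f ∘ σ) (e k) ≠ (f ∘ σ) (e k) := by
      refine ⟨fun g hg => hbase g fun j => ?_, fun k => ?_⟩
      · by_contra hne
        by_cases hjS : j ∈ S
        · obtain ⟨k, rfl⟩ : j ∈ Set.range e := by rw [Finset.range_orderEmbOfFin]; exact hjS
          exact hne (hg k)
        · exact hjS (Finset.mem_filter.mpr ⟨Finset.mem_univ _, g, hkey g j fun k _ => hg k, hne⟩)
      · obtain ⟨g, hg, hgk⟩ := (Finset.mem_filter.mp (Finset.orderEmbOfFin_mem S rfl k)).2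
        exact ⟨g, fun l hl => hg _ (e.lt_iff_lt.mpr hl), hgk⟩
    have hS : S = Finset.univ := by
      rw [← Finset.card_eq_iff_eq_univ, Fintype.card_fin]
      exact (hsame t S.card f ((f ∘ σ) ∘ e) hf hirr).symm
    intro i
    exact (Finset.mem_filter.mp (show i ∈ S by rw [hS]; exact Finset.mem_univ i)).2
  · intro hre t t' f f' hf hf'
    have hre' : ∀ (t : ℕ) (f : Fin t → Ω) (σ : Equiv.Perm (Fin t)), IsIrr G f → IsIrr G (f ∘ σ) := hre
    have h := minBase_ncard_eq hre' _ _ _ (IsIrr.minBase hre' (f := f) hf) (IsIrr.minBase hre' (f := f') hf') rfl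
    rwa [IsIrr.ncard_range (f := f) hf, IsIrr.ncard_range (f := f') hf'] at h

end Cfsg.Agent.S5747
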