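import Cfsg.Statements.S5752
import Cfsg.Agent.ThompsonWielandt.Basic
-- import your own Cfsg.Agent.* helpers here

set_option autoImplicit false
open Cfsg

namespace Cfsg.Agent.S5752

/-- A form of the Thompson–Wielandt Theorem on primitive permutation groups. Let G be a finite group and M₁, M₂ two distinct conjugate maximal subgroups of G with trivial core in G; define two descending sequences of subgroups by A₀ = M₁, B₀ = M₂ and, for every i, A_{i+1} = the core in M₁ of A_i ∩ B_i and B_{i+1} = the core in M₂ of A_i ∩ B_i (the core in M of a subgroup Y ≤ M is the largest normal subgroup of M contained in Y). If A₂ and B₂ are both non-trivial, then for some prime p the subgroup generated by A₂ and B₂ is a p-group, and for each j the generalized Fitting subgroups of M_j and of its first core (A₁, resp. B₁) are their largest normal p-subgroups. -/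
theorem result {G : Type*} [Group G] [Finite G] (M₁ M₂ : Subgroup G) (hmax : IsCoatom M₁) (g : G)
    (hconj : M₂ = M₁.map (MulAut.conj g).toMonoidHom) (hne : M₁ ≠ M₂) (hcore : M₁.normalCore = ⊥)
    (A B : ℕ → Subgroup G) (hA0 : A 0 = M₁) (hB0 : B 0 = M₂)
    (hA : ∀ i, A (i + 1) = ((A i ⊓ B i).subgroupOf M₁).normalCore.map M₁.subtype)
    (hB : ∀ i, B (i + 1) = ((A i ⊓ B i).subgroupOf M₂).normalCore.map M₂.subtype) (hA2 : A 2 ≠ ⊥) (hB2 : B 2 ≠ ⊥) :
    ∃ p : ℕ, p.Prime ∧ IsPGroup p ↥(A 2 ⊔ B 2) ∧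
      Cfsg.generalizedFittingSubgroup ↥M₁ = Cfsg.pCore p ↥M₁ ∧ Cfsg.generalizedFittingSubgroup ↥(A 1) = Cfsg.pCore p ↥(A 1) ∧
      Cfsg.generalizedFittingSubgroup ↥M₂ = Cfsg.pCore p ↥M₂ ∧ Cfsg.generalizedFittingSubgroup ↥(B 1) = Cfsg.pCore p ↥(B 1) := by
  subst hconj
  set M₂ := M₁.map (MulAut.conj g).toMonoidHom with hM₂
  have hG : ∀ K : Subgroup G, K ≤ M₁ → K ≠ ⊥ → M₁ ≤ Subgroup.normalizer (K : Set G) →
      Subgroup.normalizer (K : Set G) ≤ M₁ := by
    intro K hK hK1 hn
    refine (hmax.le_iff.1 hn).elim (fun htop => absurd ?_ hK1) le_of_eq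
    haveI : K.Normal := Subgroup.normalizer_eq_top_iff.1 htop
    exact le_bot_iff.1 (hcore ▸ Subgroup.normal_le_normalCore.2 hK)
  have hG' : ∀ K : Subgroup G, K ≤ M₂ → K ≠ ⊥ → M₂ ≤ Subgroup.normalizer (K : Set G) →
      Subgroup.normalizer (K : Set G) ≤ M₂ := by
    intro K hK hK1 hn x hx
    have hmap : ∀ S : Subgroup G, (S.map (MulAut.conj g⁻¹).toMonoidHom).map (MulAut.conj g).toMonoidHom = S := by
      intro S; ext z; simp [Subgroup.mem_map, mul_assoc]
    have hK' : K.map (MulAut.conj g⁻¹).toMonoidHom ≤ M₁ := by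
      refine (Subgroup.map_mono hK).trans ?_
      rw [hM₂, Subgroup.map_map]
      intro z hz
      obtain ⟨m, hm, rfl⟩ := Subgroup.mem_map.1 hz
      simpa [mul_assoc] using hm
    have h1 := hG _ hK' (fun hb => hK1 (by rw [← hmap K, hb, Subgroup.map_bot])) ?_
      (Subgroup.le_normalizer_map _ ⟨x, hx, rfl⟩)
    · exact ⟨_, h1, by simp [mul_assoc]⟩
    · intro z hz
      exact Subgroup.le_normalizer_map _ ⟨g * z * g⁻¹, hn ⟨z, hz, rfl⟩, by simp [mul_assoc]⟩
  have hle : ∀ (M Y : Subgroup G), (Y.subgroupOf M).normalCore.map M.subtype ≤ Y ⊓ M := fun M Y =>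
    le_inf ((Subgroup.map_mono (Subgroup.normalCore_le _)).trans (Subgroup.map_comap_le _ _))
      (Subgroup.map_subtype_le _)
  have hnorm : ∀ (M Y : Subgroup G),
      M ≤ Subgroup.normalizer (((Y.subgroupOf M).normalCore.map M.subtype : Subgroup G) : Set G) :=
    fun M Y => by
      refine le_trans (le_of_eq ?_) (Subgroup.le_normalizer_map _)
      rw [Subgroup.normalizer_eq_top, ← MonoidHom.range_eq_map, Subgroup.range_subtype]
  have hmaxc : ∀ (M Y : Subgroup G) (x : G) (hx : x ∈ M), (∀ n ∈ M, n * x * n⁻¹ ∈ Y) →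
      x ∈ (Y.subgroupOf M).normalCore.map M.subtype := fun M Y x hx h =>
    ⟨⟨x, hx⟩, fun n => h n n.2, rfl⟩
  have hA1 : A 1 ≤ M₁ ⊓ M₂ := by
    rw [hA 0]; exact (hle _ _).trans (by rw [hA0, hB0]; exact inf_le_left)
  have hB1 : B 1 ≤ M₁ ⊓ M₂ := by
    rw [hB 0]; exact (hle _ _).trans (by rw [hA0, hB0]; exact inf_le_left)
  have h : CfsgLib.ThompsonWielandt.Half M₁ M₂ (A 2) (B 1) :=
    { normalizer_le := hG
      A_norm := by rw [hA 1]; exact hnorm _ _
      A_ne := hA2
      A_le := by rw [hA 1]; exact (hle _ _).trans (inf_le_left.trans inf_le_right)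
      B_le := hB1
      B_norm := by rw [hB 0]; exact hnorm _ _
      B_max := fun x hx hn => by
        rw [hB 0]; refine hmaxc _ _ x hx fun n hnN => ?_
        rw [hA0, hB0]; exact ⟨hn n hnN, Subgroup.mul_mem _ (Subgroup.mul_mem _ hnN hx) (Subgroup.inv_mem _ hnN)⟩ }
  have h' : CfsgLib.ThompsonWielandt.Half M₂ M₁ (B 2) (A 1) :=
    { normalizer_le := hG'
      A_norm := by rw [hB 1]; exact hnorm _ _
      A_ne := hB2
      A_le := by rw [hB 1]; exact (hle _ _).trans (inf_le_left.trans inf_le_left)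
      B_le := hA1.trans (le_of_eq (inf_comm _ _))
      B_norm := by rw [hA 0]; exact hnorm _ _
      B_max := fun x hx hn => by
        rw [hA 0]; refine hmaxc _ _ x hx fun n hnN => ?_
        rw [hA0, hB0]; exact ⟨Subgroup.mul_mem _ (Subgroup.mul_mem _ hnN hx) (Subgroup.inv_mem _ hnN), hn n hnN⟩ }
  exact CfsgLib.ThompsonWielandt.main h h' hne
    (M₁.equivMapOfInjective (MulAut.conj g).toMonoidHom (MulAut.conj g).injective)


end Cfsg.Agent.S5752
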