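import Cfsg.Statements.S5754
-- import your own Cfsg.Agent.* helpers here

set_option autoImplicit false
open Cfsg

namespace Cfsg.Agent.S5754

/-- The reflection in a vector of non-zero value. -/
noncomputable def reflection {F V : Type*} [Field F] [AddCommGroup V] [Module F V]
    (Q : QuadraticForm F V) (a : V) (ha : Q a ≠ 0) : Q.IsometryEquiv Q where
  toFun x := x - (QuadraticMap.polar Q x a / Q a) • a
  map_add' x y := by
    rw [QuadraticMap.polar_add_left, add_div, add_smul]; abel
  map_smul' c x := by
    rw [QuadraticMap.polar_smul_left, RingHom.id_apply, smul_eq_mul, mul_div_assoc, smul_sub, smul_smul]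
  invFun x := x - (QuadraticMap.polar Q x a / Q a) • a
  left_inv x := by
    simp only [QuadraticMap.polar_sub_left, QuadraticMap.polar_smul_left, QuadraticMap.polar_self, smul_eq_mul,
      two_nsmul]
    rw [sub_sub, ← add_smul]
    convert sub_zero x using 2
    have : QuadraticMap.polar Q x a / Q a + (QuadraticMap.polar Q x a -
        QuadraticMap.polar Q x a / Q a * (Q a + Q a)) / Q a = 0 := by field_simp; ring
    rw [this, zero_smul]
  right_inv x := by
    simp only [QuadraticMap.polar_sub_left, QuadraticMap.polar_smul_left, QuadraticMap.polar_self, smul_eq_mul,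
      two_nsmul]
    rw [sub_sub, ← add_smul]
    convert sub_zero x using 2
    have : QuadraticMap.polar Q x a / Q a + (QuadraticMap.polar Q x a -
        QuadraticMap.polar Q x a / Q a * (Q a + Q a)) / Q a = 0 := by field_simp; ring
    rw [this, zero_smul]
  map_app' x := by
    change Q (x - (QuadraticMap.polar Q x a / Q a) • a) = Q x
    rw [sub_eq_add_neg, ← neg_smul, QuadraticMap.map_add Q, QuadraticMap.map_smul,
      QuadraticMap.polar_smul_right]
    simp only [smul_eq_mul]
    field_simp
    ring

lemma reflection_apply {F V : Type*} [Field F] [AddCommGroup V] [Module F V]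
    (Q : QuadraticForm F V) (a : V) (ha : Q a ≠ 0) (x : V) :
    reflection Q a ha x = x - (QuadraticMap.polar Q x a / Q a) • a := rfl

lemma polar_of_sub {F V : Type*} [Field F] [AddCommGroup V] [Module F V] (Q : QuadraticForm F V) (x y : V) :
    QuadraticMap.polar Q x y = Q x + Q y - Q (x - y) := by
  have h := QuadraticMap.map_add Q x (-y)
  rw [← sub_eq_add_neg, QuadraticMap.map_neg, QuadraticMap.polar_neg_right] at h
  rw [h]; ring

lemma isom_polar {F V : Type*} [Field F] [AddCommGroup V] [Module F V] (Q : QuadraticForm F V)
    (φ : Q.IsometryEquiv Q) (x y : V) : QuadraticMap.polar Q (φ x) (φ y) = QuadraticMap.polar Q x y := by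
  rw [polar_of_sub Q, polar_of_sub Q, φ.map_app, φ.map_app]
  congr 1
  have : φ x - φ y = φ (x - y) := (map_sub φ.toLinearEquiv x y).symm
  rw [this, φ.map_app]

/-- Let V be a finite-dimensional vector space over a finite field F carrying an anisotropic quadratic form Q (Q(v) = 0 only for v = 0). Then the group of all maps v ↦ φ(v) + c, with φ an isometry of Q and c ∈ V, acts on V as a binary permutation group: given n ≥ 2 and two n-tuples u, u' of vectors such that every pair of corresponding entries of u is carried to that of u' by such a map, one such map carries u to u'. -/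
theorem result {F V : Type*} [Field F] [Finite F] [AddCommGroup V] [Module F V] [Module.Finite F V]
    (Q : QuadraticForm F V) (hQ : Q.Anisotropic) (n : ℕ) (hn : 2 ≤ n) (u u' : Fin n → V)
    (h2 : ∀ i j : Fin n, i ≠ j → ∃ (φ : Q.IsometryEquiv Q) (c : V), φ (u i) + c = u' i ∧ φ (u j) + c = u' j) :
    ∃ (φ : Q.IsometryEquiv Q) (c : V), ∀ i, φ (u i) + c = u' i := by
  classical
  let z : Fin n := ⟨0, by omega⟩
  let v : Fin n → V := fun i => u i - u z
  let w : Fin n → V := fun i => u' i - u' z
  have hsub : ∀ i j, Q (u i - u j) = Q (u' i - u' j) := by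
    intro i j
    by_cases hij : i = j
    · subst hij; simp
    · obtain ⟨φ, c, h1, h2'⟩ := h2 i j hij
      rw [← h1, ← h2', add_sub_add_right_eq_sub]
      have : φ (u i) - φ (u j) = φ (u i - u j) := (map_sub φ.toLinearEquiv _ _).symm
      rw [this, φ.map_app]
  have hQ' : ∀ i, Q (v i) = Q (w i) := fun i => hsub i z
  have hP : ∀ i j, QuadraticMap.polar Q (v i) (v j) = QuadraticMap.polar Q (w i) (w j) := by
    intro i j
    rw [polar_of_sub Q, polar_of_sub Q, hQ', hQ']
    congr 1
    simp only [v, w, sub_sub_sub_cancel_right]
    exact hsub i j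
  have hex : ∀ s : Finset (Fin n), ∃ φ : Q.IsometryEquiv Q, ∀ i ∈ s, φ (v i) = w i := by
    intro s
    induction s using Finset.induction_on with
    | empty => exact ⟨QuadraticMap.IsometryEquiv.refl Q, by simp⟩
    | @insert j s hj ih =>
      obtain ⟨φ, hφ⟩ := ih
      by_cases ha : φ (v j) - w j = 0
      · refine ⟨φ, fun i hi => ?_⟩
        rcases Finset.mem_insert.mp hi with rfl | hi
        · exact sub_eq_zero.mp ha
        · exact hφ i hi
      have hQa : Q (φ (v j) - w j) ≠ 0 := fun h => ha (hQ _ h)
      refine ⟨φ.trans (reflection Q _ hQa), fun i hi => ?_⟩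
      change reflection Q _ hQa (φ (v i)) = w i
      rw [reflection_apply]
      rcases Finset.mem_insert.mp hi with rfl | hi
      · have : QuadraticMap.polar Q (φ (v i)) (φ (v i) - w i) = Q (φ (v i) - w i) := by
          have h := polar_of_sub Q (φ (v i)) (w i)
          rw [QuadraticMap.polar_sub_right, QuadraticMap.polar_self, φ.map_app, hQ', two_nsmul]
          rw [φ.map_app, hQ'] at h
          linear_combination -h
        rw [this, div_self hQa, one_smul, sub_sub_cancel]
      · have : QuadraticMap.polar Q (φ (v i)) (φ (v j) - w j) = 0 := by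
          rw [QuadraticMap.polar_sub_right, isom_polar, hφ i hi, hP, sub_self]
        rw [this, zero_div, zero_smul, sub_zero, hφ i hi]
  obtain ⟨φ, hφ⟩ := hex Finset.univ
  refine ⟨φ, u' z - φ (u z), fun i => ?_⟩
  have h := hφ i (Finset.mem_univ i)
  have hm : φ (u i - u z) = φ (u i) - φ (u z) := map_sub φ.toLinearEquiv _ _
  simp only [v, w] at h
  rw [hm] at h
  calc φ (u i) + (u' z - φ (u z)) = (φ (u i) - φ (u z)) + u' z := by abel
    _ = u' i := by rw [h, sub_add_cancel]

end Cfsg.Agent.S5754
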