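import Cfsg.Statements.S5769
import Cfsg.Agent.ESevenOrders.SixtyFive
import Cfsg.Agent.LinearOrders.Projective
import Cfsg.Agent.SympOrders.Witness
import Cfsg.Agent.UnitOrders.Elements
import Cfsg.Agent.AutPSp.CharTwo

set_option autoImplicit false
set_option linter.style.haveILetI false
open Cfsg

namespace Cfsg.Agent.S5769

theorem exists_order_sixty_five_of_dvd {G : Type*} [Group G] {x : G} (h : 65 ∣ orderOf x)
    (hx : 0 < orderOf x) : ∃ y : G, orderOf y = 65 := by
  refine ⟨x ^ (orderOf x / 65), ?_⟩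
  obtain ⟨k, hk⟩ := h
  have hk0 : 0 < k := by rw [hk] at hx; omega
  rw [orderOf_pow' _ (by rw [hk, Nat.mul_div_cancel_left _ (by norm_num)]; omega), hk,
    Nat.mul_div_cancel_left _ (by norm_num), Nat.gcd_mul_left_left, Nat.mul_div_cancel _ hk0]

theorem charTwo_of_card {F : Type*} [Field F] [Fintype F] {k : ℕ} (h : Fintype.card F = 2 ^ k) :
    CharP F 2 := by
  obtain ⟨p, hp⟩ := CharP.exists F
  obtain ⟨n, hpr, hn⟩ := FiniteField.card F p
  have h2 : p = 2 := by
    have h1 : p ∣ 2 ^ k := h ▸ hn ▸ dvd_pow_self p n.pos.ne'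
    exact (Nat.prime_dvd_prime_iff_eq hpr Nat.prime_two).1 (hpr.dvd_of_dvd_pow h1)
  exact h2 ▸ hp

theorem exists_psl {F : Type*} [Field F] [Fintype F] {n : ℕ} (hn : 1 ≤ n)
    (hd : 65 ∣ CfsgLib.LinearOrders.singerM (Fintype.card F) n) :
    ∃ y : Matrix.ProjectiveSpecialLinearGroup (Fin n) F, orderOf y = 65 := by
  obtain ⟨p, hp⟩ := CharP.exists F
  obtain ⟨k, hpr, -⟩ := FiniteField.card F p
  haveI : Fact p.Prime := ⟨hpr⟩
  obtain ⟨x, hx⟩ := CfsgLib.LinearOrders.exists_singer (F := F) hn (p := p)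
  exact exists_order_sixty_five_of_dvd (hd.trans hx) (orderOf_pos x)

theorem exists_psp {F : Type*} [Field F] [Fintype F] (h8 : Fintype.card F = 8) {m : ℕ}
    (hm : m = 2 ∨ m = 3) : ∃ y : Cfsg.PSp m F, orderOf y = 65 := by
  haveI : CharP F 2 := charTwo_of_card (k := 3) h8
  obtain ⟨z, hz⟩ := CfsgLib.SympOrders.exists_torus_plus (F := F) (j := 2) (by norm_num) (p := 2)
  rw [h8] at hz
  rcases hm with rfl | rfl
  · exact ⟨CfsgLib.AutPSp.mkEquiv (by norm_num) z, by rw [MulEquiv.orderOf_eq]; exact hz⟩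
  · have hinj : Function.Injective fun x : Matrix.symplecticGroup (Fin 2) F =>
        CfsgLib.SympOrders.spSum 2 1 (x, (1 : Matrix.symplecticGroup (Fin 1) F)) := by
      intro x y e
      have e' := congrArg Subtype.val e
      change CfsgLib.SympOrders.spSumMat _ _ = CfsgLib.SympOrders.spSumMat _ _ at e'
      exact Subtype.ext (Matrix.fromBlocks_inj.1 ((Matrix.reindexAlgEquiv F F _).injective e')).1
    let f : Matrix.symplecticGroup (Fin 2) F →* Matrix.symplecticGroup (Fin 3) F :=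
      (CfsgLib.SympOrders.spSum 2 1).comp (MonoidHom.inl _ _)
    exact ⟨CfsgLib.AutPSp.mkEquiv (by norm_num) (f z),
      by rw [MulEquiv.orderOf_eq, orderOf_injective f hinj]; exact hz⟩

theorem exists_psu {F : Type*} [Field F] [Fintype F] (h64 : Fintype.card F = 64) :
    ∃ y : Cfsg.PSU 4 F 8, orderOf y = 65 := by
  haveI : CharP F 2 := charTwo_of_card (k := 6) h64
  haveI : Fact (Nat.Prime 2) := ⟨Nat.prime_two⟩
  have hτ : ∀ x : F, iterateFrobenius F 2 3 x = x ^ 8 := fun x => iterateFrobenius_def 2 3 x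
  have hττ : ∀ x : F, iterateFrobenius F 2 3 (iterateFrobenius F 2 3 x) = x := fun x => by
    rw [hτ, hτ, ← pow_mul, show 8 * 8 = Fintype.card F by rw [h64], FiniteField.pow_card]
  have hne : iterateFrobenius F 2 3 ≠ RingHom.id F := by
    intro e
    obtain ⟨g, hg⟩ := IsCyclic.exists_ofOrder_eq_natCard (α := Fˣ)
    have h7 : g ^ 7 = 1 := by
      have h1 : (g : F) ^ 8 = g := by
        have := RingHom.congr_fun e (g : F)
        rwa [hτ] at this
      have h2 : g ^ 8 = g := Units.ext (by simpa using h1)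
      rwa [pow_succ, mul_eq_right] at h2
    have h3 := orderOf_dvd_of_pow_eq_one h7
    rw [hg, Nat.card_units, Nat.card_eq_fintype_card, h64] at h3
    norm_num at h3
  obtain ⟨g, hg⟩ := CfsgLib.UnitOrders.exists_singer_even (F := F) (n := 4) (q := 8) (p := 2)
    (a := 3) hτ hττ hne (by rw [h64]; norm_num) (by norm_num) (by norm_num) (by norm_num)
    (by decide)
  refine exists_order_sixty_five_of_dvd (dvd_trans ?_ hg) (orderOf_pos _)
  simp [CfsgLib.UnitOrders.singerM, CfsgLib.UnitOrders.geomU, show Even 4 from by decide]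

/-- A subgroup of E7(2) is not isomorphic to a group with an element of order 65. -/
theorem isEmpty_equiv {G : Type*} [Group G] (hG : ∃ y : G, orderOf y = 65)
    (H : Subgroup ↥(Cfsg.Lie.chevE7.group (ZMod 2))) : IsEmpty (↥H ≃* G) := by
  refine ⟨fun e => ?_⟩
  obtain ⟨y, hy⟩ := hG
  refine CfsgLib.ESevenOrders.orderOf_ne_sixty_five (e.symm y : ↥(Cfsg.Lie.chevE7.group (ZMod 2))) ?_
  rw [Subgroup.orderOf_coe, MulEquiv.orderOf_eq, hy]


/-- The Chevalley group of type E₇ over the field with two elements (generated by its root elements in the adjoint representation) has no subgroup isomorphic to any of PSL₂(64), PSp₄(8), PSL₄(8), PSU₄(8) or PSp₆(8). Here F₈ and F₆₄ denote fields with 8 and 64 elements. -/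
theorem result {F₈ F₆₄ : Type*} [Field F₈] [Fintype F₈] (h8 : Fintype.card F₈ = 8) [Field F₆₄] [Fintype F₆₄] (h64 : Fintype.card F₆₄ = 64)
    (H : Subgroup ↥(Cfsg.Lie.chevE7.group (ZMod 2))) :
    IsEmpty (↥H ≃* Matrix.ProjectiveSpecialLinearGroup (Fin 2) F₆₄) ∧ IsEmpty (↥H ≃* Cfsg.PSp 2 F₈) ∧
    IsEmpty (↥H ≃* Matrix.ProjectiveSpecialLinearGroup (Fin 4) F₈) ∧ IsEmpty (↥H ≃* Cfsg.PSU 4 F₆₄ 8) ∧ IsEmpty (↥H ≃* Cfsg.PSp 3 F₈) := by
  refine ⟨isEmpty_equiv (exists_psl (by norm_num) ?_) H, isEmpty_equiv (exists_psp h8 (Or.inl rfl)) H,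
    isEmpty_equiv (exists_psl (by norm_num) ?_) H, isEmpty_equiv (exists_psu h64) H,
    isEmpty_equiv (exists_psp h8 (Or.inr rfl)) H⟩
  · rw [h64]; decide +kernel
  · rw [h8]; decide +kernel

end Cfsg.Agent.S5769
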