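import Cfsg.Statements.S5775
import Cfsg.Agent.Aschbacher.LinearPrime
import Cfsg.Agent.Aschbacher.SingerFour

set_option autoImplicit false
open Cfsg

namespace Cfsg.Agent.S5775

theorem residue (x : ZMod 3) (e : ℕ) (h : orderOf x = e) (he : Odd e) : e = 1 ∧ x = 1 := by
  haveI : Fact (Nat.Prime 3) := ⟨by norm_num⟩
  have hpow : x ^ e = 1 := h ▸ pow_orderOf_eq_one x
  have hx : x ≠ 0 := by
    rintro rfl
    rw [zero_pow (Nat.ne_of_gt he.pos)] at hpow
    exact zero_ne_one hpow
  have hd : e ∣ 2 := h ▸ orderOf_dvd_of_pow_eq_one (ZMod.pow_card_sub_one_eq_one hx)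
  rcases (Nat.dvd_prime Nat.prime_two).1 hd with rfl | rfl
  · exact ⟨rfl, orderOf_eq_one_iff.1 h⟩
  · exact absurd he (by decide)


/-- Every maximal subgroup of SL_3(q) is of one of the listed geometric types or lies in the residual class. Let F be a finite field with q elements and H a maximal subgroup of SL_3(F) (viewed inside GL_3(F)). Then H is the intersection with SL_3(F) of one of: the stabiliser of a proper non-zero subspace; for q ≥ 5, the stabiliser of a decomposition of F^3 into three independent lines; for q ≠ 4, the normaliser of a degree-3 subfield of the matrix algebra; a subfield group for a subfield F₀ with |F| = |F₀|^r, r prime; for q = p ≡ 1 mod 3 prime, the normaliser of an absolutely irreducible 3-subgroup R of exponent 3 with centre of order 3, all of whose characteristic abelian subgroups are cyclic, of order 3^(1+2m) for some m ≥ 1, with F the smallest field of characteristic p containing the cube roots of unity (so R is extraspecial of order 27); for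 q odd, the similarity group of a non-degenerate quadratic form; the similarity group of a non-degenerate unitary form — or else H lies in the residual class of the linear case (modulo scalars H is almost simple, with absolutely irreducible perfect socle preimage realisable over no proper subfield and fixing no non-degenerate quadratic, symplectic or unitary form). -/
theorem result {F : Type*} [Field F] [Fintype F] (H : Subgroup (Matrix.GeneralLinearGroup (Fin 3) F)) (hH : Cfsg.Geo.IsMaximalIn (Cfsg.Geo.specialLinear (Fin 3) F) H) :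
    (∃ W : Submodule F (Fin 3 → F), W ≠ ⊥ ∧ W ≠ ⊤ ∧ H = Cfsg.Geo.subspaceStabilizer W ⊓ Cfsg.Geo.specialLinear (Fin 3) F) ∨
    (5 ≤ Fintype.card F ∧ ∃ D : Fin 3 → Submodule F (Fin 3 → F), Cfsg.Geo.IsMDecomposition 1 D ∧ H = Cfsg.Geo.decompositionStabilizer D ⊓ Cfsg.Geo.specialLinear (Fin 3) F) ∨
    (Fintype.card F ≠ 4 ∧ ∃ K : Subalgebra F (Matrix (Fin 3) (Fin 3) F), Cfsg.Geo.IsFieldSubalgebra 3 K ∧ H = Cfsg.Geo.subalgebraNormalizer K ⊓ Cfsg.Geo.specialLinear (Fin 3) F) ∨
    (∃ (F₀ : Subfield F) (r : ℕ) (P : Matrix.GeneralLinearGroup (Fin 3) F), r.Prime ∧ Fintype.card F = Nat.card F₀ ^ r ∧ H = Cfsg.Geo.subfieldSubgroup F₀ P ⊓ Cfsg.Geo.specialLinear (Fin 3) F) ∨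
    (∃ (p : ℕ) (R : Subgroup (Matrix.GeneralLinearGroup (Fin 3) F)), p.Prime ∧ Fintype.card F = p ∧ p % 3 = 1 ∧ Cfsg.Geo.IsLinearSymplecticTypeData 3 R ∧ H = Cfsg.Geo.subgroupNormalizer R ⊓ Cfsg.Geo.specialLinear (Fin 3) F) ∨
    (Odd (Fintype.card F) ∧ ∃ Q : (Fin 3 → F) → F, Cfsg.Geo.IsNondegenerateQuadraticForm Q ∧ H = Cfsg.Geo.quadSimilarityGroup Q ⊓ Cfsg.Geo.specialLinear (Fin 3) F) ∨
    (∃ (σ : F ≃+* F) (f : (Fin 3 → F) → (Fin 3 → F) → F), Cfsg.Geo.IsUnitaryForm σ f ∧ H = Cfsg.Geo.similarityGroup f ⊓ Cfsg.Geo.specialLinear (Fin 3) F) ∨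
    Cfsg.Geo.InLinearResidualClass H := by
  rcases CfsgLib.Aschbacher.linear_prime_cases (ι := Fin 3) (by norm_num) (by norm_num) hH with
    h | h | ⟨K, hK, hEq⟩ | h | ⟨p, e, R, hp, hchar, hcard, hord, he, hdata, hEq⟩ | h | h | h
  · exact Or.inl h
  · exact Or.inr (Or.inl h)
  · by_cases h4 : Fintype.card F = 4
    · obtain ⟨F₀, r, P, hr, hc, hle⟩ :=
        CfsgLib.Aschbacher.singer_four_le_subfield (ι := Fin 3) (by norm_num) h4 hK
      refine Or.inr (Or.inr (Or.inr (Or.inl ⟨F₀, r, P, hr, hc, ?_⟩)))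
      refine CfsgLib.Aschbacher.eq_inf_of_maximal hH (hEq.le.trans hle) ?_
      refine CfsgLib.Aschbacher.not_le_subfieldSubgroup (by norm_num) (fun htop => ?_) P
      subst htop
      have h1 : Nat.card (⊤ : Subfield F) = 4 := by
        rw [Nat.card_congr (Subfield.topEquiv (K := F)).toEquiv, Nat.card_eq_fintype_card, h4]
      rw [h1, h4] at hc
      have h2 : 4 ^ 1 < 4 ^ r := Nat.pow_lt_pow_right (by norm_num) hr.one_lt
      omega
    · exact Or.inr (Or.inr (Or.inl ⟨h4, K, hK, hEq⟩))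
  · exact Or.inr (Or.inr (Or.inr (Or.inl h)))
  · have hord : orderOf (p : ZMod 3) = e := hord
    obtain ⟨he1, hp1⟩ := residue (p : ZMod 3) e hord he
    refine Or.inr (Or.inr (Or.inr (Or.inr (Or.inl ⟨p, R, hp, ?_, ?_, hdata, hEq⟩))))
    · rw [hcard, he1, pow_one]
    · rw [← ZMod.val_natCast, hp1]; rfl
  · exact Or.inr (Or.inr (Or.inr (Or.inr (Or.inr (Or.inl h)))))
  · exact Or.inr (Or.inr (Or.inr (Or.inr (Or.inr (Or.inr (Or.inl h))))))
  · exact Or.inr (Or.inr (Or.inr (Or.inr (Or.inr (Or.inr (Or.inr h))))))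

end Cfsg.Agent.S5775
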