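import Cfsg.Statements.S5778
import Cfsg.Agent.AschbacherUnitary.Three
import Cfsg.Agent.AschbacherUnitary.ThreeSmall

set_option autoImplicit false
open Cfsg

namespace Cfsg.Agent.S5778

open CfsgLib.Aschbacher CfsgLib.AschbacherUnitary CfsgLib.AschbacherUnitary.ThreeSmall
open scoped commutatorElement

/-- Every maximal subgroup of SU_3(q), q ≥ 3, is of one of the listed geometric types or lies in the residual class. Let F be the field with q² elements, f the standard unitary form Σ u_i v_i^q on F^3, and H a maximal subgroup of SU_3(q) (the determinant-one isometries of f, inside GL_3(F)). Then H is the intersection with SU_3(q) of one of: the stabiliser of a non-zero subspace on which f vanishes; the stabiliser of a non-degenerate 1-space; for q ≠ 5, the stabiliser of a decomposition into three mutually orthogonal non-degenerate 1-spaces; for q ≠ 3, 5, the normaliser of an adjoint-closed degree-3 subfield of the matrix algebra;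 a subfield group of odd prime index whose F₀-structure carries f; for q odd, q ≥ 7, a subfield group of index 2 whose F₀-structure carries f; for q = p ≡ 2 mod 3 prime with p ≥ 11, the normaliser of an absolutely irreducible subgroup of order 27 with centre of order 3, exponent 3 and all characteristic abelian subgroups cyclic, contained in the similarity group of f — or else H lies in the residual class of the unitary case. -/
theorem result {F : Type*} [Field F] [Fintype F] (q : ℕ) (hF : Fintype.card F = q ^ 2) (hq : 3 ≤ q) (H : Subgroup (Matrix.GeneralLinearGroup (Fin 3) F)) (hH : Cfsg.Geo.IsMaximalIn (Cfsg.GU 3 F q ⊓ Cfsg.Geo.specialLinear (Fin 3) F) H) :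
    (∃ W : Submodule F (Fin 3 → F), W ≠ ⊥ ∧ Cfsg.Geo.IsTotallySingularFor (Cfsg.hermForm 3 F q) W ∧ H = Cfsg.Geo.subspaceStabilizer W ⊓ (Cfsg.GU 3 F q ⊓ Cfsg.Geo.specialLinear (Fin 3) F)) ∨
    (∃ W : Submodule F (Fin 3 → F), W ≠ ⊥ ∧ Cfsg.Geo.IsNondegenerateOn (Cfsg.hermForm 3 F q) W ∧ 2 * Module.finrank F W < 3 ∧ H = Cfsg.Geo.subspaceStabilizer W ⊓ (Cfsg.GU 3 F q ⊓ Cfsg.Geo.specialLinear (Fin 3) F)) ∨
    (q ≠ 5 ∧ ∃ D : Fin 3 → Submodule F (Fin 3 → F), Cfsg.Geo.IsNondegenerateMDecomposition (Cfsg.hermForm 3 F q) 1 D ∧ H = Cfsg.Geo.decompositionStabilizer D ⊓ (Cfsg.GU 3 F q ⊓ Cfsg.Geo.specialLinear (Fin 3) F)) ∨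
    (q ≠ 3 ∧ q ≠ 5 ∧ ∃ K : Subalgebra F (Matrix (Fin 3) (Fin 3) F), Cfsg.Geo.IsFieldSubalgebra 3 K ∧ Cfsg.Geo.IsAdjointClosedFor (Cfsg.hermForm 3 F q) K ∧ H = Cfsg.Geo.subalgebraNormalizer K ⊓ (Cfsg.GU 3 F q ⊓ Cfsg.Geo.specialLinear (Fin 3) F)) ∨
    (∃ (F₀ : Subfield F) (r : ℕ) (P : Matrix.GeneralLinearGroup (Fin 3) F), r.Prime ∧ Odd r ∧ Fintype.card F = Nat.card F₀ ^ r ∧ Cfsg.Geo.IsFormRationalStructure (Cfsg.hermForm 3 F q) F₀ 1 P ∧ H = Cfsg.Geo.subfieldSubgroup F₀ P ⊓ (Cfsg.GU 3 F q ⊓ Cfsg.Geo.specialLinear (Fin 3) F)) ∨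
    (Odd q ∧ 7 ≤ q ∧ ∃ (F₀ : Subfield F) (P : Matrix.GeneralLinearGroup (Fin 3) F), Fintype.card F = Nat.card F₀ ^ 2 ∧ Cfsg.Geo.IsFormRationalStructure (Cfsg.hermForm 3 F q) F₀ 1 P ∧ H = Cfsg.Geo.subfieldSubgroup F₀ P ⊓ (Cfsg.GU 3 F q ⊓ Cfsg.Geo.specialLinear (Fin 3) F)) ∨
    (∃ (p : ℕ) (R : Subgroup (Matrix.GeneralLinearGroup (Fin 3) F)), p.Prime ∧ q = p ∧ p % 3 = 2 ∧ 11 ≤ p ∧ Cfsg.Geo.IsSymplecticTypeGroup 3 R ∧ Cfsg.Geo.ActsAbsolutelyIrreducibly (Cfsg.Geo.matrixSet R) ∧ R ≤ Cfsg.Geo.similarityGroup (Cfsg.hermForm 3 F q) ∧ Nat.card R = 27 ∧ Nat.card (Subgroup.center R) = 3 ∧ H = Cfsg.Geo.subgroupNormalizer R ⊓ (Cfsg.GU 3 F q ⊓ Cfsg.Geo.specialLinear (Fin 3) F)) ∨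
    Cfsg.Geo.InUnitaryResidualClass H := by
  classical
  obtain ⟨σ, h⟩ := CfsgLib.AschbacherUnitary.exists_isConj (F := F) hF
  have hlines : ∀ {D : Fin 3 → Submodule F (Fin 3 → F)},
      Cfsg.Geo.IsNondegenerateMDecomposition (Cfsg.hermForm 3 F q) 1 D →
      H ≤ Cfsg.Geo.decompositionStabilizer D → q ≠ 5 ∧ H = Cfsg.Geo.decompositionStabilizer D ⊓
        (Cfsg.GU 3 F q ⊓ Cfsg.Geo.specialLinear (Fin 3) F) := fun {D} hD hle => by
    refine ⟨fun h5 => ?_, eq_inf_of_maximal hH hle (not_le_lines_three hF h hq hD)⟩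
    subst h5
    exact lines_five hF h hH hD hle
  rcases three_cases hF hq hH with h1 | h1 | ⟨D, hD, he⟩ | ⟨K, hK, hadj, he⟩ | h1 |
    ⟨hodd, F₀, P, hc, hP, he⟩ | ⟨p, j, R, hp, -, hqp, hord, hR, habs, hRU, hcard, hcen, hcomm, he⟩ | h1
  · exact Or.inl h1
  · exact Or.inr (Or.inl h1)
  · obtain ⟨h5, he'⟩ := hlines hD (he.le.trans inf_le_left)
    exact Or.inr (Or.inr (Or.inl ⟨h5, D, hD, he'⟩))
  · refine Or.inr (Or.inr (Or.inr (Or.inl ⟨fun h3 => ?_, fun h5 => ?_, K, hK, hadj, he⟩)))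
    · subst h3
      exact field_three hF h hH hK hadj (he.le.trans inf_le_left)
    · subst h5
      exact field_five hF h hH hK hadj (he.le.trans inf_le_left)
  · exact Or.inr (Or.inr (Or.inr (Or.inr (Or.inl h1))))
  · have h5 : q ≠ 5 := fun h5 => by
      subst h5
      exact orth_five hF h hH hc hP (he.le.trans inf_le_left)
    by_cases h3 : q = 3
    · subst h3
      obtain ⟨D, hD, hle⟩ := orth_three hF h hH.1.le hc hP (he.le.trans inf_le_left)
      obtain ⟨h5', he'⟩ := hlines hD hle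
      exact Or.inr (Or.inr (Or.inl ⟨h5', D, hD, he'⟩))
    · obtain ⟨k, rfl⟩ := hodd
      exact Or.inr (Or.inr (Or.inr (Or.inr (Or.inr (Or.inl ⟨⟨k, rfl⟩, by omega, F₀, P, hc, hP, he⟩)))))
  · have hj : j ≠ 0 := fun hj => by
      rw [hj, pow_zero] at hqp
      omega
    have hp3 : p % 3 = 2 ∧ j = 1 := by
      rw [show (p : ZMod 3) = ((p % 3 : ℕ) : ZMod 3) from (ZMod.natCast_mod p 3).symm] at hord
      have h2 := Nat.mod_lt p (show 3 > 0 by norm_num)
      interval_cases hm : p % 3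
      · rw [Nat.cast_zero, orderOf_zero] at hord
        omega
      · rw [Nat.cast_one, orderOf_one] at hord
        omega
      · rw [Nat.cast_ofNat, orderOf_eq_prime (p := 2) (by decide) (by decide)] at hord
        omega
    obtain ⟨hp3, rfl⟩ := hp3
    rw [pow_one] at hqp
    subst hqp
    have h5 : q ≠ 5 := fun h5 => by
      subst h5
      exact ext_five hF h hH hR habs hRU hcomm (he.le.trans inf_le_left)
    have h11 : 11 ≤ q := by
      rcases Nat.lt_or_ge q 11 with h11 | h11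
      · interval_cases q <;> first | omega | norm_num at hp
      · exact h11
    refine Or.inr (Or.inr (Or.inr (Or.inr (Or.inr (Or.inr (Or.inl ⟨q, R, hp, rfl, hp3, h11, hR, habs,
      fun g hg => ?_, hcard, hcen, he⟩))))))
    exact ⟨1, fun u v => by rw [Units.val_one, one_mul]; exact CfsgLib.MaxSub.mem_GU_iff_forall.1 (hRU hg) u v⟩
  · exact Or.inr (Or.inr (Or.inr (Or.inr (Or.inr (Or.inr (Or.inr h1))))))

end Cfsg.Agent.S5778
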