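import Cfsg.Statements.S5779
import Cfsg.Agent.PGLThree.Cases
import Cfsg.Agent.PGLThree.FiveSeven

set_option autoImplicit false
open Cfsg

namespace Cfsg.Agent.S5779

/-- The maximal subgroups of SU_3(q), q ≥ 3, in the residual class. Let F be the field with q² elements and H a maximal subgroup of SU_3(q) (determinant-one isometries of the standard unitary form on F^3) lying in the residual class of the unitary case. Then q = p is prime and the perfect socle preimage P of H satisfies one of: P modulo scalars is isomorphic to the simple group of order 168 (written PSL_3(2)) and p ≡ 3, 5 or 6 mod 7 with p ≠ 5; or P modulo scalars is isomorphic to A_6 and either p ≡ 11 or 14 mod 15 or p = 5; or P modulo scalars is isomorphic to A_7 and p = 5. -/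
theorem result {F : Type*} [Field F] [Fintype F] (q : ℕ) (hF : Fintype.card F = q ^ 2) (hq : 3 ≤ q) (H : Subgroup (Matrix.GeneralLinearGroup (Fin 3) F)) (hH : Cfsg.Geo.IsMaximalIn (Cfsg.GU 3 F q ⊓ Cfsg.Geo.specialLinear (Fin 3) F) H) (hS : Cfsg.Geo.InUnitaryResidualClass H) :
    ∃ P : Subgroup (Matrix.GeneralLinearGroup (Fin 3) F), Cfsg.Geo.IsResidualCore H P ∧ q.Prime ∧
    ((Nonempty ((P ⧸ (Cfsg.Geo.scalars (Fin 3) F).subgroupOf P) ≃* Matrix.ProjectiveSpecialLinearGroup (Fin 3) (ZMod 2)) ∧ q ≠ 5 ∧ (q % 7 = 3 ∨ q % 7 = 5 ∨ q % 7 = 6)) ∨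
     (Nonempty ((P ⧸ (Cfsg.Geo.scalars (Fin 3) F).subgroupOf P) ≃* alternatingGroup (Fin 6)) ∧ (q % 15 = 11 ∨ q % 15 = 14 ∨ q = 5)) ∨
     (Nonempty ((P ⧸ (Cfsg.Geo.scalars (Fin 3) F).subgroupOf P) ≃* alternatingGroup (Fin 7)) ∧ q = 5)) := by
  classical
  obtain ⟨P, hR, hQ, -⟩ := hS
  obtain ⟨p, hpF⟩ := CharP.exists F
  haveI : Fact p.Prime := ⟨CharP.char_is_prime F p⟩
  have hc := CfsgLib.PGLThree.ctx_unitary hH hR hQ
  have hsq : Fintype.card F = p ^ 2 → q = p := fun h =>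
    Nat.pow_left_injective two_ne_zero (hF.symm.trans h)
  have hprime : Fintype.card F = p → False := fun h => by
    have := (Fact.out : p.Prime)
    rw [← h, hF] at this
    exact Nat.Prime.not_prime_pow le_rfl this
  refine ⟨P, hR, ?_⟩
  rcases CfsgLib.PGLThree.classify p hc
      (fun v a h => CfsgLib.PGLThree.double_of_unitary hF hq hH hR p hc h) with
    ⟨⟨e⟩, hZ⟩ | ⟨⟨e⟩, hZ, hp3⟩ | ⟨⟨e⟩, hp5⟩
  · obtain ⟨-, ⟨-, -, hF'⟩ | ⟨h, hF', -⟩⟩ := CfsgLib.PGLThree.endgame_seven p hc hZ e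
    · exact (hprime hF').elim
    · obtain rfl := hsq hF'
      refine ⟨Fact.out, Or.inl ⟨⟨e⟩, fun h5 => ?_, h⟩⟩
      subst h5
      exact CfsgLib.PGLThree.not_maximal_five (by rw [hF]; norm_num) hH hR ⟨e⟩
  · rcases CfsgLib.PGLThree.endgame_six p hc hZ hp3 e with ⟨-, hF'⟩ | ⟨h, hF', -⟩ | ⟨-, hF', hno⟩
    · exact (hprime hF').elim
    · obtain rfl := hsq hF'
      exact ⟨Fact.out, Or.inr (Or.inl ⟨⟨e⟩, h⟩)⟩
    · obtain rfl := hsq hF'
      obtain ⟨σ, hconj⟩ := CfsgLib.AschbacherUnitary.exists_isConj (F := F) hF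
      exact absurd (fun g hg => CfsgLib.PGLThree.pow_trace_of_gu hconj ((hR.le.trans hH.1.le) hg).1) hno
  · obtain rfl := hsq (CfsgLib.PGLThree.endgame_alt_seven p hc hp5 e).1
    exact ⟨Fact.out, Or.inr (Or.inr ⟨⟨e⟩, hp5⟩)⟩

end Cfsg.Agent.S5779
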