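import Cfsg.Statements.S5781
import Cfsg.Agent.Aschbacher.FourFive
import Cfsg.Agent.Aschbacher.FourPairs

set_option autoImplicit false
open Cfsg

namespace Cfsg.Agent.S5781

/-- Every maximal subgroup of SL_4(q) is of one of the listed geometric types or lies in the residual class. Let F be a finite field with q elements and H a maximal subgroup of SL_4(F) (inside GL_4(F)). Then H is the intersection with SL_4(F) of one of: the stabiliser of a proper non-zero subspace; for q ≥ 7, the stabiliser of a decomposition into four independent lines; for q ≥ 4, the stabiliser of a decomposition into two independent planes; the normaliser of a degree-2 subfield of the matrix algebra; a subfield group for a subfield F₀ with |F| = |F₀|^r, r prime; for q = p ≡ 1 mod 4 prime, the normaliser of an absolutely irreducible 2-subgroup R of exponent 4 with centre of order 4, all of whose characteristic abelian subgroups are cyclic, of order 2^(2+2m) for some m (here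 |R| = 64), with 4 dividing p − 1; for q odd, the similarity group of a non-degenerate quadratic form; the similarity group of a non-degenerate symplectic form; the similarity group of a non-degenerate unitary form — or else H lies in the residual class of the linear case. -/
theorem result {F : Type*} [Field F] [Fintype F] (H : Subgroup (Matrix.GeneralLinearGroup (Fin 4) F)) (hH : Cfsg.Geo.IsMaximalIn (Cfsg.Geo.specialLinear (Fin 4) F) H) :
    (∃ W : Submodule F (Fin 4 → F), W ≠ ⊥ ∧ W ≠ ⊤ ∧ H = Cfsg.Geo.subspaceStabilizer W ⊓ Cfsg.Geo.specialLinear (Fin 4) F) ∨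
    (7 ≤ Fintype.card F ∧ ∃ D : Fin 4 → Submodule F (Fin 4 → F), Cfsg.Geo.IsMDecomposition 1 D ∧ H = Cfsg.Geo.decompositionStabilizer D ⊓ Cfsg.Geo.specialLinear (Fin 4) F) ∨
    (4 ≤ Fintype.card F ∧ ∃ D : Fin 2 → Submodule F (Fin 4 → F), Cfsg.Geo.IsMDecomposition 2 D ∧ H = Cfsg.Geo.decompositionStabilizer D ⊓ Cfsg.Geo.specialLinear (Fin 4) F) ∨
    (∃ K : Subalgebra F (Matrix (Fin 4) (Fin 4) F), Cfsg.Geo.IsFieldSubalgebra 2 K ∧ H = Cfsg.Geo.subalgebraNormalizer K ⊓ Cfsg.Geo.specialLinear (Fin 4) F) ∨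
    (∃ (F₀ : Subfield F) (r : ℕ) (P : Matrix.GeneralLinearGroup (Fin 4) F), r.Prime ∧ Fintype.card F = Nat.card F₀ ^ r ∧ H = Cfsg.Geo.subfieldSubgroup F₀ P ⊓ Cfsg.Geo.specialLinear (Fin 4) F) ∨
    (∃ (p : ℕ) (R : Subgroup (Matrix.GeneralLinearGroup (Fin 4) F)), p.Prime ∧ Fintype.card F = p ∧ p % 4 = 1 ∧ Cfsg.Geo.IsLinearSymplecticTypeData 2 R ∧ H = Cfsg.Geo.subgroupNormalizer R ⊓ Cfsg.Geo.specialLinear (Fin 4) F) ∨
    (Odd (Fintype.card F) ∧ ∃ Q : (Fin 4 → F) → F, Cfsg.Geo.IsNondegenerateQuadraticForm Q ∧ H = Cfsg.Geo.quadSimilarityGroup Q ⊓ Cfsg.Geo.specialLinear (Fin 4) F) ∨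
    (∃ f : (Fin 4 → F) → (Fin 4 → F) → F, Cfsg.Geo.IsSymplecticForm f ∧ H = Cfsg.Geo.similarityGroup f ⊓ Cfsg.Geo.specialLinear (Fin 4) F) ∨
    (∃ (σ : F ≃+* F) (f : (Fin 4 → F) → (Fin 4 → F) → F), Cfsg.Geo.IsUnitaryForm σ f ∧ H = Cfsg.Geo.similarityGroup f ⊓ Cfsg.Geo.specialLinear (Fin 4) F) ∨
    Cfsg.Geo.InLinearResidualClass H := by
  classical
  rcases CfsgLib.Aschbacher.linear_structure_cases (by norm_num) hH with
    h | ⟨t, m, D, htm, hD, h1, h2, hEq⟩ | ⟨r, K, hr, hrd, hK, hEq⟩ | ⟨k, d, e, P, hk, hkd, hmul, -, -⟩ |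
    h | ⟨r, m, R, hm, hR, hEq⟩ | ⟨d, t, e, P, hd, ht, hdt, -⟩ | h | h | h | h
  · exact Or.inl h
  · have hm := hD.pos
    have ht := hD.two_le
    have htle : t ≤ 4 := htm ▸ Nat.le_mul_of_pos_right t hm
    interval_cases t
    · obtain rfl : m = 2 := by omega
      by_cases hq : 4 ≤ Fintype.card F
      · exact Or.inr (Or.inr (Or.inl (⟨hq, D, hD, hEq⟩)))
      obtain ⟨f, hf, hle⟩ := CfsgLib.Aschbacher.pairs_three (by have := h2 rfl; omega) hD
      exact Or.inr (Or.inr (Or.inr (Or.inr (Or.inr (Or.inr (Or.inr (Or.inl (⟨f, hf, CfsgLib.Aschbacher.eq_inf_of_maximal hH (hEq.le.trans hle) (CfsgLib.Aschbacher.not_le_similarityGroup (by simp) (CfsgLib.Aschbacher.isSesq_of_bilinear hf.bilinear) hf.nondegenerate)⟩))))))))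
    · exfalso; omega
    · obtain rfl : m = 1 := by omega
      have h5 := h1 rfl
      by_cases hq : 7 ≤ Fintype.card F
      · exact Or.inr (Or.inl (⟨hq, D, hD, hEq⟩))
      have hq5 : Fintype.card F = 5 := by
        obtain ⟨p, hp⟩ := CharP.exists F
        obtain ⟨a, hpp, ha⟩ := FiniteField.card F p
        have hpow : IsPrimePow (Fintype.card F) := ⟨p, a, hpp.prime, a.pos, ha.symm⟩
        by_contra hne
        have h6 : Fintype.card F = 6 := by omega
        rw [h6] at hpow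
        revert hpow
        rw [isPrimePow_nat_iff_bounded]
        decide
      rcases CfsgLib.Aschbacher.FourFive.lines_five hq5 hD with ⟨m, R, -, hR, hcomm, hle⟩ | ⟨f, hf, hle⟩ | ⟨ho, Q, hQ, hle⟩
      · exact Or.inr (Or.inr (Or.inr (Or.inr (Or.inr (Or.inl (⟨5, R, by norm_num, hq5, rfl, hR, CfsgLib.Aschbacher.eq_inf_of_maximal hH (hEq.le.trans hle) (CfsgLib.Aschbacher.not_normalizes_specialLinear (by simp) hR.absIrred hcomm)⟩))))))
      · exact Or.inr (Or.inr (Or.inr (Or.inr (Or.inr (Or.inr (Or.inr (Or.inl (⟨f, hf, CfsgLib.Aschbacher.eq_inf_of_maximal hH (hEq.le.trans hle) (CfsgLib.Aschbacher.not_le_similarityGroup (by simp) (CfsgLib.Aschbacher.isSesq_of_bilinear hf.bilinear) hf.nondegenerate)⟩))))))))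
      · exact Or.inr (Or.inr (Or.inr (Or.inr (Or.inr (Or.inr (Or.inl (⟨ho, Q, hQ, CfsgLib.Aschbacher.eq_inf_of_maximal hH (hEq.le.trans hle) (CfsgLib.Aschbacher.not_le_quadSimilarityGroup (by simp) hQ)⟩)))))))
  · have := Nat.le_of_dvd (by norm_num) hrd
    have := hr.two_le
    obtain rfl : r = 2 := by
      interval_cases r
      · rfl
      · exfalso; omega
      · exfalso; revert hr; norm_num
    exact Or.inr (Or.inr (Or.inr (Or.inl (⟨K, hK, hEq⟩))))
  · exfalso; nlinarith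
  · exact Or.inr (Or.inr (Or.inr (Or.inr (Or.inl (h)))))
  · obtain ⟨p, q, hq, hne, hkind⟩ : ∃ p q : ℕ, (p.Prime ∧ Fintype.card F = p ∧ p % 4 = 1) ∧ r = 2 ∧ q = 0 := by
      obtain rfl : r = 2 := by
        have hrp := hR.symplecticType.prime
        have h4 : r ∣ 2 ^ 2 := by
          rw [show (2 : ℕ) ^ 2 = r ^ m by rw [← hm]; norm_num]
          exact dvd_pow_self r fun h0 => by rw [h0] at hm; simp at hm
        exact (Nat.prime_dvd_prime_iff_eq hrp Nat.prime_two).1 (hrp.dvd_of_dvd_pow h4)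
      obtain ⟨p, e, -, ⟨hp, hchar, hcard, hz, -⟩, hkind⟩ := hR.field
      rcases hkind with ⟨ho, -⟩ | ⟨-, he, hc, -⟩ | ⟨-, -, hn, -⟩
      · exact absurd ho (by decide)
      · rw [hc, he, pow_one] at hz
        rw [he, pow_one] at hcard
        exact ⟨p, 0, ⟨hp, hcard, by have := hp.two_le; omega⟩, rfl, rfl⟩
      · simp at hn
    subst hne
    exact Or.inr (Or.inr (Or.inr (Or.inr (Or.inr (Or.inl (⟨p, R, hq.1, hq.2.1, hq.2.2, hR, hEq⟩))))))
  · exfalso
    have := Nat.pow_le_pow_left hd t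
    have := Nat.pow_le_pow_right (n := 3) (by norm_num) ht
    omega
  · exact Or.inr (Or.inr (Or.inr (Or.inr (Or.inr (Or.inr (Or.inl (h)))))))
  · exact Or.inr (Or.inr (Or.inr (Or.inr (Or.inr (Or.inr (Or.inr (Or.inl (h))))))))
  · exact Or.inr (Or.inr (Or.inr (Or.inr (Or.inr (Or.inr (Or.inr (Or.inr (Or.inl (h)))))))))
  · exact Or.inr (Or.inr (Or.inr (Or.inr (Or.inr (Or.inr (Or.inr (Or.inr (Or.inr (h)))))))))

end Cfsg.Agent.S5781
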