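import Cfsg.Statements.S5784
import Cfsg.Agent.AschbacherUnitary.Cases
import Cfsg.Agent.AschbacherUnitary.NotLeFour
import Cfsg.Agent.AschbacherUnitary.FourThree
import Cfsg.Agent.AschbacherUnitary.FourSmall

set_option autoImplicit false
open Cfsg

namespace Cfsg.Agent.S5784

attribute [-simp] RingEquiv.coe_refl

open Matrix Cfsg.Geo CfsgLib CfsgLib.TensorNonmax CfsgLib.Aschbacher CfsgLib.AschbacherForms CfsgLib.MaxSub
  CfsgLib.AschbacherUnitary

/-- The listed possibilities for a maximal subgroup. -/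
abbrev Four {F : Type*} [Field F] [Fintype F] (q : ℕ) (H : Subgroup (Matrix.GeneralLinearGroup (Fin 4) F)) : Prop :=
    (∃ W : Submodule F (Fin 4 → F), W ≠ ⊥ ∧ Cfsg.Geo.IsTotallySingularFor (Cfsg.hermForm 4 F q) W ∧ H = Cfsg.Geo.subspaceStabilizer W ⊓ (Cfsg.GU 4 F q ⊓ Cfsg.Geo.specialLinear (Fin 4) F)) ∨
    (∃ W : Submodule F (Fin 4 → F), W ≠ ⊥ ∧ Cfsg.Geo.IsNondegenerateOn (Cfsg.hermForm 4 F q) W ∧ 2 * Module.finrank F W < 4 ∧ H = Cfsg.Geo.subspaceStabilizer W ⊓ (Cfsg.GU 4 F q ⊓ Cfsg.Geo.specialLinear (Fin 4) F)) ∨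
    (q ≠ 3 ∧ ∃ D : Fin 4 → Submodule F (Fin 4 → F), Cfsg.Geo.IsNondegenerateMDecomposition (Cfsg.hermForm 4 F q) 1 D ∧ H = Cfsg.Geo.decompositionStabilizer D ⊓ (Cfsg.GU 4 F q ⊓ Cfsg.Geo.specialLinear (Fin 4) F)) ∨
    (3 ≤ q ∧ ∃ D : Fin 2 → Submodule F (Fin 4 → F), Cfsg.Geo.IsNondegenerateMDecomposition (Cfsg.hermForm 4 F q) 2 D ∧ H = Cfsg.Geo.decompositionStabilizer D ⊓ (Cfsg.GU 4 F q ⊓ Cfsg.Geo.specialLinear (Fin 4) F)) ∨
    (4 ≤ q ∧ ∃ D : Fin 2 → Submodule F (Fin 4 → F), Cfsg.Geo.IsMDecomposition 2 D ∧ (∀ i, Cfsg.Geo.IsTotallySingularFor (Cfsg.hermForm 4 F q) (D i)) ∧ H = Cfsg.Geo.decompositionStabilizer D ⊓ (Cfsg.GU 4 F q ⊓ Cfsg.Geo.specialLinear (Fin 4) F)) ∨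
    (∃ (F₀ : Subfield F) (r : ℕ) (P : Matrix.GeneralLinearGroup (Fin 4) F), r.Prime ∧ Odd r ∧ Fintype.card F = Nat.card F₀ ^ r ∧ Cfsg.Geo.IsFormRationalStructure (Cfsg.hermForm 4 F q) F₀ 1 P ∧ H = Cfsg.Geo.subfieldSubgroup F₀ P ⊓ (Cfsg.GU 4 F q ⊓ Cfsg.Geo.specialLinear (Fin 4) F)) ∨
    (∃ (F₀ : Subfield F) (P : Matrix.GeneralLinearGroup (Fin 4) F) (ζ : F), Fintype.card F = Nat.card F₀ ^ 2 ∧ ζ ≠ 0 ∧ ζ + ζ ^ q = 0 ∧ Cfsg.Geo.IsFormRationalStructure (Cfsg.hermForm 4 F q) F₀ ζ P ∧ (∀ u : Fin 4 → F, (∀ i, u i ∈ F₀) → (Cfsg.hermForm 4 F q) (Matrix.mulVec (P : Matrix (Fin 4) (Fin 4) F) u) (Matrix.mulVec (P : Matrix (Fin 4) (Fin 4) F) u) = 0) ∧ H = Cfsg.Geo.subfieldSubgroup F₀ P ⊓ (Cfsg.GU 4 F q ⊓ Cfsg.Geo.specialLinear (Fin 4) F)) ∨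
    (Odd q ∧ ∃ (F₀ : Subfield F) (P : Matrix.GeneralLinearGroup (Fin 4) F), Fintype.card F = Nat.card F₀ ^ 2 ∧ Cfsg.Geo.IsFormRationalStructure (Cfsg.hermForm 4 F q) F₀ 1 P ∧ H = Cfsg.Geo.subfieldSubgroup F₀ P ⊓ (Cfsg.GU 4 F q ⊓ Cfsg.Geo.specialLinear (Fin 4) F)) ∨
    (∃ (p : ℕ) (R : Subgroup (Matrix.GeneralLinearGroup (Fin 4) F)), p.Prime ∧ q = p ∧ p % 4 = 3 ∧ Cfsg.Geo.IsSymplecticTypeGroup 2 R ∧ Cfsg.Geo.ActsAbsolutelyIrreducibly (Cfsg.Geo.matrixSet R) ∧ R ≤ Cfsg.Geo.similarityGroup (Cfsg.hermForm 4 F q) ∧ Nat.card R = 64 ∧ Nat.card (Subgroup.center R) = 4 ∧ H = Cfsg.Geo.subgroupNormalizer R ⊓ (Cfsg.GU 4 F q ⊓ Cfsg.Geo.specialLinear (Fin 4) F)) ∨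
    Cfsg.Geo.InUnitaryResidualClass H

set_option maxHeartbeats 1000000 in
/-- Every maximal subgroup of SU_4(q) is of one of the listed geometric types or lies in the residual class. Let F be the field with q² elements, f the standard unitary form Σ u_i v_i^q on F^4, and H a maximal subgroup of SU_4(q) (inside GL_4(F)). Then H is the intersection with SU_4(q) of one of: the stabiliser of a non-zero subspace on which f vanishes; the stabiliser of a non-degenerate 1-space; for q ≠ 3, the stabiliser of a decomposition into four mutually orthogonal non-degenerate 1-spaces; for q ≥ 3, of a decomposition into two orthogonal non-degenerate 2-spaces; for q ≥ 4, of a decomposition into two totally isotropic 2-spaces; a subfield group of odd prime index whose F₀-structure carries f; a subfield group of index 2 whose F₀-structure carries ζ f, vanishing on pairs (u, u), for some non-zero ζ with ζ + ζ^q = 0; for q odd, a subfield group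 of index 2 whose F₀-structure carries f; for q = p ≡ 3 mod 4 prime, the normaliser of an absolutely irreducible symplectic-type 2-group of exponent 4, order 64 and centre of order 4 inside the similarity group of f — or else H lies in the residual class of the unitary case. -/
theorem result {F : Type*} [Field F] [Fintype F] (q : ℕ) (hF : Fintype.card F = q ^ 2) (H : Subgroup (Matrix.GeneralLinearGroup (Fin 4) F)) (hH : Cfsg.Geo.IsMaximalIn (Cfsg.GU 4 F q ⊓ Cfsg.Geo.specialLinear (Fin 4) F) H) :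
    (∃ W : Submodule F (Fin 4 → F), W ≠ ⊥ ∧ Cfsg.Geo.IsTotallySingularFor (Cfsg.hermForm 4 F q) W ∧ H = Cfsg.Geo.subspaceStabilizer W ⊓ (Cfsg.GU 4 F q ⊓ Cfsg.Geo.specialLinear (Fin 4) F)) ∨
    (∃ W : Submodule F (Fin 4 → F), W ≠ ⊥ ∧ Cfsg.Geo.IsNondegenerateOn (Cfsg.hermForm 4 F q) W ∧ 2 * Module.finrank F W < 4 ∧ H = Cfsg.Geo.subspaceStabilizer W ⊓ (Cfsg.GU 4 F q ⊓ Cfsg.Geo.specialLinear (Fin 4) F)) ∨
    (q ≠ 3 ∧ ∃ D : Fin 4 → Submodule F (Fin 4 → F), Cfsg.Geo.IsNondegenerateMDecomposition (Cfsg.hermForm 4 F q) 1 D ∧ H = Cfsg.Geo.decompositionStabilizer D ⊓ (Cfsg.GU 4 F q ⊓ Cfsg.Geo.specialLinear (Fin 4) F)) ∨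
    (3 ≤ q ∧ ∃ D : Fin 2 → Submodule F (Fin 4 → F), Cfsg.Geo.IsNondegenerateMDecomposition (Cfsg.hermForm 4 F q) 2 D ∧ H = Cfsg.Geo.decompositionStabilizer D ⊓ (Cfsg.GU 4 F q ⊓ Cfsg.Geo.specialLinear (Fin 4) F)) ∨
    (4 ≤ q ∧ ∃ D : Fin 2 → Submodule F (Fin 4 → F), Cfsg.Geo.IsMDecomposition 2 D ∧ (∀ i, Cfsg.Geo.IsTotallySingularFor (Cfsg.hermForm 4 F q) (D i)) ∧ H = Cfsg.Geo.decompositionStabilizer D ⊓ (Cfsg.GU 4 F q ⊓ Cfsg.Geo.specialLinear (Fin 4) F)) ∨
    (∃ (F₀ : Subfield F) (r : ℕ) (P : Matrix.GeneralLinearGroup (Fin 4) F), r.Prime ∧ Odd r ∧ Fintype.card F = Nat.card F₀ ^ r ∧ Cfsg.Geo.IsFormRationalStructure (Cfsg.hermForm 4 F q) F₀ 1 P ∧ H = Cfsg.Geo.subfieldSubgroup F₀ P ⊓ (Cfsg.GU 4 F q ⊓ Cfsg.Geo.specialLinear (Fin 4) F)) ∨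
    (∃ (F₀ : Subfield F) (P : Matrix.GeneralLinearGroup (Fin 4) F) (ζ : F), Fintype.card F = Nat.card F₀ ^ 2 ∧ ζ ≠ 0 ∧ ζ + ζ ^ q = 0 ∧ Cfsg.Geo.IsFormRationalStructure (Cfsg.hermForm 4 F q) F₀ ζ P ∧ (∀ u : Fin 4 → F, (∀ i, u i ∈ F₀) → (Cfsg.hermForm 4 F q) (Matrix.mulVec (P : Matrix (Fin 4) (Fin 4) F) u) (Matrix.mulVec (P : Matrix (Fin 4) (Fin 4) F) u) = 0) ∧ H = Cfsg.Geo.subfieldSubgroup F₀ P ⊓ (Cfsg.GU 4 F q ⊓ Cfsg.Geo.specialLinear (Fin 4) F)) ∨
    (Odd q ∧ ∃ (F₀ : Subfield F) (P : Matrix.GeneralLinearGroup (Fin 4) F), Fintype.card F = Nat.card F₀ ^ 2 ∧ Cfsg.Geo.IsFormRationalStructure (Cfsg.hermForm 4 F q) F₀ 1 P ∧ H = Cfsg.Geo.subfieldSubgroup F₀ P ⊓ (Cfsg.GU 4 F q ⊓ Cfsg.Geo.specialLinear (Fin 4) F)) ∨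
    (∃ (p : ℕ) (R : Subgroup (Matrix.GeneralLinearGroup (Fin 4) F)), p.Prime ∧ q = p ∧ p % 4 = 3 ∧ Cfsg.Geo.IsSymplecticTypeGroup 2 R ∧ Cfsg.Geo.ActsAbsolutelyIrreducibly (Cfsg.Geo.matrixSet R) ∧ R ≤ Cfsg.Geo.similarityGroup (Cfsg.hermForm 4 F q) ∧ Nat.card R = 64 ∧ Nat.card (Subgroup.center R) = 4 ∧ H = Cfsg.Geo.subgroupNormalizer R ⊓ (Cfsg.GU 4 F q ⊓ Cfsg.Geo.specialLinear (Fin 4) F)) ∨
    Cfsg.Geo.InUnitaryResidualClass H := by
  classical
  have hG : H ≤ SUn 4 F q := hH.1.le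
  have hGU : H ≤ Cfsg.GU 4 F q := hG.trans inf_le_left
  obtain ⟨σ, h⟩ := AschbacherUnitary.exists_isConj (F := F) hF
  have hu := h.unitary (n := 4)
  have hf := isReflexive_unitary hu
  have hfix : FixesForm (matrixSet H) (Cfsg.hermForm 4 F q) :=
    fixesForm_iff.2 fun g hg => MaxSub.mem_GU_iff_forall.1 (hGU hg)
  have hσq : (⇑σ : F → F) = fun x => x ^ q := funext h.eq_pow
  have hq1 := h.one_lt
  have h2odd : Odd q → (2 : F) ≠ 0 := fun ho =>
    CfsgLib.MaxSub.two_ne_zero_of_odd (by rw [hF]; exact ho.pow)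
  have h2even : ¬ Odd q → (2 : F) = 0 := by
    intro ho
    by_contra h2
    refine ho ?_
    have h1 : Odd (Fintype.card F) := Nat.odd_iff.2 (FiniteField.odd_card_of_char_ne_two fun hc => h2 (by
      have := ringChar.of_eq hc
      exact CharTwo.two_eq_zero))
    rw [hF] at h1
    exact (Nat.odd_pow_iff two_ne_zero).1 h1
  have heq : ∀ {X : Subgroup (GL (Fin 4) F)}, H ≤ X → ¬ SUn 4 F q ≤ X → H = X ⊓ SUn 4 F q :=
    fun hle hne => eq_inf_of_maximal hH hle hne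
  -- subfield groups
  have hfixedF : ∀ {F₁ : Subfield F}, Fintype.card F = Nat.card F₁ ^ 2 → ∀ x ∈ F₁, σ x = x := by
    intro F₁ hcard x hx
    have hq1' : Nat.card F₁ = q := Nat.pow_left_injective two_ne_zero (hcard.symm.trans hF)
    have : Fintype F₁ := Fintype.ofFinite _
    rw [h.eq_pow, ← hq1', Nat.card_eq_fintype_card]
    exact congrArg Subtype.val (FiniteField.pow_card (⟨x, hx⟩ : F₁))
  have hAlt : ∀ {F₁ : Subfield F} {P : GL (Fin 4) F} {ζ : F}, Fintype.card F = Nat.card F₁ ^ 2 →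
      ζ ≠ 0 → ζ + ζ ^ q = 0 → IsFormRationalStructure (Cfsg.hermForm 4 F q) F₁ ζ P →
      (∀ u : Fin 4 → F, (∀ i, u i ∈ F₁) → Cfsg.hermForm 4 F q (mat P *ᵥ u) (mat P *ᵥ u) = 0) →
      H ≤ subfieldSubgroup F₁ P → Four q H := fun {F₁ P ζ} hcard hζ hζq hrat hd hle =>
    Or.inr (Or.inr (Or.inr (Or.inr (Or.inr (Or.inr (Or.inl ⟨F₁, P, ζ, hcard, hζ, hζq, hrat, hd,
      heq hle (not_le_subfield_four hF h le_rfl Nat.prime_two hcard P)⟩))))))
  have hOne : ∀ {F₁ : Subfield F} {P : GL (Fin 4) F}, Odd q → Fintype.card F = Nat.card F₁ ^ 2 →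
      IsFormRationalStructure (Cfsg.hermForm 4 F q) F₁ 1 P → H ≤ subfieldSubgroup F₁ P → Four q H :=
    fun {F₁ P} hodd hcard hrat hle =>
    Or.inr (Or.inr (Or.inr (Or.inr (Or.inr (Or.inr (Or.inr (Or.inl ⟨hodd, F₁, P, hcard, hrat,
      heq hle (not_le_subfield_four hF h le_rfl Nat.prime_two hcard P)⟩)))))))
  have hSub : ∀ {F₁ : Subfield F} {r : ℕ} {P : GL (Fin 4) F} {ζ : F}, r.Prime →
      Fintype.card F = Nat.card F₁ ^ r → ζ ≠ 0 →
      IsFormRationalStructure (Cfsg.hermForm 4 F q) F₁ ζ P → H ≤ subfieldSubgroup F₁ P →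
      ActsIrreducibly (matrixSet H) → Four q H := by
    intro F₁ r B ζ hr hcard hζ hrat hle hirr
    rcases hr.eq_two_or_odd' with rfl | hodd
    · have hσ := hfixedF hcard
      have hq1' : Nat.card F₁ = q := Nat.pow_left_injective two_ne_zero (hcard.symm.trans hF)
      have hlt : Fintype.card F < Nat.card F₁ ^ Fintype.card (Fin 4) := by
        rw [hcard, Fintype.card_fin, hq1']
        exact Nat.pow_lt_pow_right hq1 (by omega)
      rcases rational_multiplier hu hζ hrat with ⟨B', hrat', hB'⟩ | ⟨-, hneg⟩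
      · rw [← hB'] at hle
        by_cases hodd : Odd q
        · exact hOne hodd hcard hrat' hle
        · have h2 := h2even hodd
          exact hAlt hcard one_ne_zero (by rw [one_pow]; linear_combination h2) hrat'
            (fun u hu' => diag_zero_of_two hu h2 one_ne_zero hσ (map_one σ) hlt hrat' hfix hirr hle hu') hle
      · refine hAlt hcard hζ (by rw [← h.eq_pow, hneg, add_neg_cancel]) hrat (fun u hu' => ?_) hle
        by_cases hodd : Odd q
        · exact diag_zero_of_neg hu (h2odd hodd) hζ hσ hneg hrat hu'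
        · have h2 := h2even hodd
          exact diag_zero_of_two hu h2 hζ hσ (by rw [hneg]; linear_combination -ζ * h2) hlt hrat hfix hirr hle hu'
    · rcases rational_multiplier hu hζ hrat with ⟨B', hrat', hB'⟩ | ⟨hall, -⟩
      · rw [← hB'] at hle
        exact Or.inr (Or.inr (Or.inr (Or.inr (Or.inr (Or.inl ⟨F₁, r, B', hr, hodd, hcard, hrat',
          heq hle (not_le_subfield_four hF h le_rfl hr hcard B')⟩)))))
      · obtain ⟨w, hw, hwσ⟩ := exists_moved_of_odd hF h hodd hcard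
        exact absurd (hall w hw) hwσ
  -- a bilinear form fixed up to scalars
  have hIndex : ∀ {b : (Fin 4 → F) → (Fin 4 → F) → F} {J : (Fin 4 → F) → (Fin 4 → F)} {δ l : F},
      IsBilinearForm b → IsNondegenerateForm b → (∀ u v, b v u = δ * b u v) → (δ = 1 ∨ δ = -1) →
      ((2 : F) = 0 → ∀ v, b v v = 0) → H ≤ similarityGroup b → IsCompare σ (Cfsg.hermForm 4 F q) b J →
      (∀ v, J (J v) = l • v) → Four q H := by
    intro b J δ l hb hbn hδ hδ1 h2b hsim hJ hJJ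
    obtain ⟨F₀, P, -, hcard, hmem, hle, hval, halt, -⟩ :=
      exists_index_two hf h.ne_refl hb hbn hδ hfix hsim hJ hJJ
    by_cases hd : δ = 1
    · have hrat : IsFormRationalStructure (Cfsg.hermForm 4 F q) F₀ 1 P := fun u v hu hv => by
        rw [one_mul, hmem]
        exact (hval u v hu hv).trans (by rw [hd, one_mul])
      by_cases hodd : Odd q
      · exact hOne hodd hcard hrat hle
      · exact hAlt hcard one_ne_zero (by rw [one_pow]; linear_combination h2even hodd) hrat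
          (halt (h2b (h2even hodd))) hle
    · obtain rfl := hδ1.resolve_left hd
      have h2 : (2 : F) ≠ 0 := fun h2 => hd (by linear_combination -h2)
      obtain ⟨z, hz0, hz⟩ := exists_traceZero h.ne_refl h.involutive
      have hzσ : σ z = -z := by linear_combination hz
      refine hAlt hcard hz0 (by rw [← h.eq_pow, hzσ, add_neg_cancel]) (fun u v hu hv => ?_)
        (halt fun v => (mul_eq_zero.1 (by linear_combination hδ v v :
          (2 : F) * b v v = 0)).resolve_left h2) hle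
      rw [hmem, map_mul, hzσ, hval u v hu hv]
      ring
  by_cases hirr : ActsIrreducibly (matrixSet H)
  swap
  · rcases reducible_subspace hf hfix hirr with ⟨W, h0, hts, hle⟩ | ⟨W, h0, h1, hnd, hle, hlep⟩
    · refine Or.inl ⟨W, h0, hts, heq hle (not_le_subspace_four hF h (by norm_num) h0 fun e => ?_)⟩
      subst e
      obtain ⟨⟨x, hx⟩, -⟩ := hf.nondegenerate (Pi.single 0 1) (by simp)
      exact hx (hts x trivial _ trivial)
    have hdim := hf.finrank_perp W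
    rw [Fintype.card_fin] at hdim
    rcases lt_trichotomy (2 * Module.finrank F W) 4 with hlt | heq' | hgt
    · refine Or.inr (Or.inl ⟨W, h0, hnd, hlt, heq hle (not_le_subspace_four hF h (by norm_num) h0 h1)⟩)
    · obtain ⟨D, hD, hle'⟩ := exists_halves hf h0 hnd (by rw [Fintype.card_fin]; exact heq') hle hlep
      rw [show Module.finrank F W = 2 by omega] at hD
      rcases (show q = 2 ∨ 3 ≤ q by omega) with rfl | h3
      · obtain ⟨D', hD', hle''⟩ := planes_two hF h hGU hD hle'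
        exact Or.inr (Or.inr (Or.inl ⟨by norm_num, D', hD', heq hle'' (not_le_lines_four h le_rfl hD')⟩))
      · exact Or.inr (Or.inr (Or.inr (Or.inl ⟨h3, D, hD,
          heq hle' (CfsgLib.AschbacherTwelve.not_le_orthDecomposition h le_rfl hD)⟩)))
    · have hp0 : hf.perp W ≠ ⊥ := fun hb => h1 (by
        rw [← hf.perp_perp W, hb]
        exact eq_top_iff.2 fun x _ w hw => by rw [(Submodule.mem_bot F).1 hw, hf.zero_right])
      refine Or.inr (Or.inl ⟨hf.perp W, hp0, hf.isNondegenerateOn_perp hnd, by omega,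
        heq hlep (not_le_subspace_four hF h (by norm_num) hp0 fun hb => ?_)⟩)
      rw [hb, finrank_top, Module.finrank_fin_fun] at hdim
      omega
  have hSub' : ∀ {F₁ : Subfield F} {r : ℕ} {P : GL (Fin 4) F} {ζ : F}, r.Prime →
      Fintype.card F = Nat.card F₁ ^ r → ζ ≠ 0 →
      IsFormRationalStructure (Cfsg.hermForm 4 F q) F₁ ζ P → H ≤ subfieldSubgroup F₁ P → Four q H :=
    fun {F₁ r P ζ} h1 h2 h3 h4 h5 => hSub h1 h2 h3 h4 h5 hirr
  -- socles abelian modulo scalars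
  have hSoc : ∀ {K : Subgroup (GL (Fin 4) F)}, HasAbelianSocle K → K ≤ Cfsg.GU 4 F q → H ≤ K → Four q H := by
    intro K hab hK hle
    have hfixK : FixesForm (matrixSet K) (Cfsg.hermForm 4 F q) :=
      fixesForm_iff.2 fun g hg => MaxSub.mem_GU_iff_forall.1 (hK hg)
    rcases unitary_socle (by rw [Fintype.card_fin]; norm_num) hF h.eq_pow hf hfixK hab with
      ⟨F₁, s, P, c, hs, hc, hc0, hP, hle'⟩ | ⟨r, R, p, e, k, h1, h2, h3, hrp, h5, h6, h7, h8, hle'⟩
    · exact hSub' hs hc hc0 hP (hle.trans hle')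
    rw [Fintype.card_fin] at h7
    have hr2 : 2 ∣ r := Nat.prime_two.dvd_of_dvd_pow (h7 ▸ by norm_num : 2 ∣ r ^ k)
    rcases h6 with ⟨hodd, -⟩ | ⟨rfl, rfl, hz, hcardR⟩
    · exact absurd hr2 hodd.not_two_dvd_nat
    obtain ⟨hp, -, hcardF, -, hmin⟩ := h5
    rw [hz] at hmin
    obtain rfl : k = 2 := Nat.pow_right_injective le_rfl (h7.symm.trans (by norm_num : 4 = 2 ^ 2))
    obtain rfl : q = p := Nat.pow_left_injective two_ne_zero (hF.symm.trans hcardF)
    have hp4 : q % 4 = 3 := by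
      have h1' := hmin 1 one_pos (by norm_num)
      rw [pow_one, Nat.dvd_iff_mod_eq_zero] at h1'
      have h2' := hp.mod_two_eq_one_iff_ne_two.2 (Ne.symm hrp)
      omega
    exact Or.inr (Or.inr (Or.inr (Or.inr (Or.inr (Or.inr (Or.inr (Or.inr (Or.inl ⟨q, R, hp, rfl, hp4, h1, h2, h3,
      hcardR, hz, heq (hle.trans hle') fun hsu => not_normalizes_four h le_rfl h2 h8
        fun g hg x hx => (hsu hg x).1 hx⟩))))))))
  have hLines : ∀ {D : Fin 4 → Submodule F (Fin 4 → F)},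
      IsNondegenerateMDecomposition (Cfsg.hermForm 4 F q) 1 D → H ≤ decompositionStabilizer D → Four q H := by
    intro D hD hle
    rcases eq_or_ne q 3 with rfl | h3
    · obtain ⟨K, hab, hK, hDK⟩ := CfsgLib.AschbacherUnitary.FourThree.lines_three hF h hD
      exact hSoc hab hK ((le_inf hle hG).trans hDK)
    · exact Or.inr (Or.inr (Or.inl ⟨h3, D, hD, heq hle (not_le_lines_four h le_rfl hD)⟩))
  rcases star_reduction_spanned (by rw [Fintype.card_fin]; norm_num) hf hfix hirr with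
    ⟨t, k, D, hD, -, hle⟩ | ⟨k, D, hD, hk, hts, hle, -⟩ | ⟨r, K, hr, hrd, hK, hle, hadj⟩ |
    ⟨k, d, e, P, S, T, hk, hd, hkd, hS, hT, hle, hform⟩ | hab | hsp | ⟨P, hP⟩
  · have htk : t * k = 4 := by
      have hint := DirectSum.isInternal_submodule_of_iSupIndep_of_iSup_eq_top hD.decomp.indep hD.decomp.iSup_eq_top
      have h1 := (LinearEquiv.ofBijective (DirectSum.coeLinearMap D) hint).finrank_eq
      rw [Module.finrank_directSum, Module.finrank_fintype_fun_eq_card] at h1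
      simpa [hD.decomp.finrank_eq] using h1
    have ht := hD.decomp.two_le
    rcases (show k = 1 ∨ k = 2 by have := hD.decomp.pos; rcases Nat.lt_or_ge 2 k with h' | h' <;> [nlinarith; omega]) with
      rfl | rfl
    · obtain rfl : t = 4 := by omega
      exact hLines hD hle
    · obtain rfl : t = 2 := by omega
      rcases (show q = 2 ∨ 3 ≤ q by omega) with rfl | h3
      · obtain ⟨D', hD', hle'⟩ := planes_two hF h hGU hD hle
        exact hLines hD' hle'
      · exact Or.inr (Or.inr (Or.inr (Or.inl ⟨h3, D, hD,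
          heq hle (CfsgLib.AschbacherTwelve.not_le_orthDecomposition h le_rfl hD)⟩)))
  · rw [Fintype.card_fin] at hk
    obtain rfl : k = 2 := by omega
    rcases (show q ≤ 3 ∨ 4 ≤ q by omega) with h3 | h4
    · obtain ⟨b, J, hb, hbn, hbs, hbd, hsim, hJ, hJJ⟩ := pair_small h3 h hG hD hts hle
      exact hIndex hb hbn hbs (Or.inr rfl) (fun _ => hbd) hsim hJ hJJ
    · exact Or.inr (Or.inr (Or.inr (Or.inr (Or.inl ⟨h4, D, hD, hts,
        heq hle (CfsgLib.AschbacherTwelve.not_le_singularPair h le_rfl hD hts)⟩))))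
  · have hodd := (closedField_involution hf hK hadj).2 h.ne_refl
    rw [Fintype.card_fin] at hrd
    exact absurd (Nat.prime_two.dvd_of_dvd_pow (n := 1) (by
      have := (Nat.dvd_prime_pow Nat.prime_two).1 (show r ∣ 2 ^ 2 from hrd)
      obtain ⟨i, -, rfl⟩ := this
      rcases i with _ | i
      · exact absurd hr (by norm_num)
      · rw [pow_one]; exact dvd_pow_self 2 (Nat.succ_ne_zero i))) hodd.not_two_dvd_nat
  · -- tensor decompositions
    obtain ⟨S', T', c, hS', hT', hc, hSh, hTh, -, hform'⟩ :=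
      CfsgLib.AschbacherTwelve.exists_hermitian_factors h (by norm_num) hS hT hform
    rw [Fintype.card_fin] at hkd
    obtain rfl : k = 2 := by nlinarith
    obtain rfl : d = 2 := by omega
    obtain ⟨P', hle', hstd⟩ :=
      exists_standard_factors h.ne_refl h.involutive hS' hT' hSh hTh hle hform'
    obtain ⟨b, J, hb, hbn, hbs, h2b, hsim, hJ, hJJ⟩ := exists_bilinear_two_two hf hc hle' hstd
    exact hIndex (δ := 1) hb hbn (fun u v => by rw [one_mul]; exact hbs u v) (Or.inl rfl) h2b hsim hJ hJJ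
  · exact hSoc hab hGU le_rfl
  · -- tensor powers
    obtain ⟨d, t, e, P, B₀, hd, ht, hdt, hB₀⟩ := exists_slotPower hf hfix hsp
    obtain ⟨B, hB, hBu⟩ := exists_hermitian_slot h.ne_refl h.involutive hB₀
    rw [Fintype.card_fin] at hdt
    obtain rfl : d = 2 := by
      by_contra hne
      have := Nat.pow_le_pow_left (show 3 ≤ d by omega) t
      have := Nat.pow_le_pow_right (show 0 < 3 by norm_num) ht
      omega
    obtain ⟨b, J, hb, hbn, hbs, h2b, hsim, hJ, hJJ⟩ :=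
      exists_bilinear_power h.ne_refl h.involutive ht hf hB hBu
    exact hIndex hb hbn hbs (neg_one_pow_eq_or F t) h2b hsim hJ hJJ
  · -- almost simple groups
    have hPfix : FixesForm (matrixSet P) (Cfsg.hermForm 4 F q) :=
      fun s hs => hfix s (Set.image_mono hP.le hs)
    by_cases hreal : ∃ F₀ : Subfield F, F₀ ≠ ⊤ ∧ RealisableOver F₀ (matrixSet P)
    · obtain ⟨F₀, h0, hreal⟩ := hreal
      obtain ⟨F₁, r, B, ζ, hr, hc, hζ, hrat, hle⟩ :=
        AschbacherForms.exists_form_subfield hf h0 hP.normal hP.absIrred hPfix hreal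
      exact hSub' hr hc hζ hrat hle
    refine Or.inr (Or.inr (Or.inr (Or.inr (Or.inr (Or.inr (Or.inr (Or.inr (Or.inr
      ⟨P, hP.toResidualCore fun F₀ h0 hr => hreal ⟨F₀, h0, hr⟩, ?_, ?_⟩))))))))
    · rintro ⟨Q, hQ, hQP⟩
      have hpolfix : FixesForm (matrixSet P) (QuadraticMap.polar Q) := fun s hs u v => by
        simp only [QuadraticMap.polar, ← Matrix.mulVec_add, hQP s hs]
      exact hreal (AschbacherForms.realisable_of_two_forms (isReflexive_polar hQ) hu hP.absIrred hpolfix hPfix)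
    · rintro ⟨f, hf', hfP⟩
      exact hreal (AschbacherForms.realisable_of_two_forms (isReflexive_symplectic hf') hu hP.absIrred hfP hPfix)

end Cfsg.Agent.S5784
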