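import Cfsg.Statements.S5796
import Cfsg.Agent.AschbacherUnitary.Prime
import Cfsg.Agent.AschbacherUnitary.FiveTwoField

set_option autoImplicit false
open Cfsg

namespace Cfsg.Agent.S5796

theorem residueTable : ∀ x : ZMod 5, x ^ 4 = 1 →
    (x ^ 2 = 1 → x = 1 ∨ x = 4) ∧ (x ^ 2 ≠ 1 → x = 2 ∨ x = 3) := by decide

theorem residue (x : ZMod 5) (j : ℕ) (h : orderOf x = 2 * j) (hj : 0 < j) :
    (j = 1 ∧ x = 4) ∨ (j = 2 ∧ (x = 2 ∨ x = 3)) := by
  haveI : Fact (Nat.Prime 5) := ⟨by norm_num⟩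
  have hpow : x ^ (2 * j) = 1 := h ▸ pow_orderOf_eq_one x
  have hx : x ≠ 0 := by
    rintro rfl
    rw [zero_pow (by omega)] at hpow
    exact zero_ne_one hpow
  have hF : x ^ 4 = 1 := ZMod.pow_card_sub_one_eq_one hx
  have hd : j ∣ 2 := by
    have e := orderOf_dvd_of_pow_eq_one hF
    rw [h] at e
    exact Nat.dvd_of_mul_dvd_mul_left (k := 2) two_pos e
  rcases (Nat.dvd_prime (by norm_num)).1 hd with rfl | rfl
  · refine Or.inl ⟨rfl, ((residueTable x hF).1 hpow).resolve_left fun h1 => ?_⟩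
    simp [h1] at h
  · refine Or.inr ⟨rfl, (residueTable x hF).2 fun h1 => ?_⟩
    have e := orderOf_dvd_of_pow_eq_one h1
    rw [h] at e
    exact absurd e (by decide)

/-- Every maximal subgroup of SU_5(q) is of one of the listed geometric types or lies in the residual class. Let F be the field with q² elements (characteristic p), f the standard unitary form Σ u_i v_i^q on F^5, and H a maximal subgroup of SU_5(q) (inside GL_5(F)). Then H is the intersection with SU_5(q) of one of: the stabiliser of a non-zero totally isotropic subspace; the stabiliser of a non-degenerate 1-space or 2-space; the stabiliser of a decomposition into five mutually orthogonal non-degenerate 1-spaces; for q ≥ 3, the normaliser of an adjoint-closed degree-5 subfield of the matrix algebra; a subfield group of odd prime index whose F₀-structure carries f; for q odd, a subfield group of index 2 whose F₀-structure carries f; for q = p ≡ 4 mod 5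 or q = p² with p ≡ 2, 3 mod 5, the normaliser of an absolutely irreducible 5-group of exponent 5, order 125 and centre of order 5 with all characteristic abelian subgroups cyclic inside the similarity group of f — or else H lies in the residual class of the unitary case. -/
theorem result {F : Type*} [Field F] [Fintype F] (q : ℕ) (hF : Fintype.card F = q ^ 2) (H : Subgroup (Matrix.GeneralLinearGroup (Fin 5) F)) (hH : Cfsg.Geo.IsMaximalIn (Cfsg.GU 5 F q ⊓ Cfsg.Geo.specialLinear (Fin 5) F) H) :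
    (∃ W : Submodule F (Fin 5 → F), W ≠ ⊥ ∧ Cfsg.Geo.IsTotallySingularFor (Cfsg.hermForm 5 F q) W ∧ H = Cfsg.Geo.subspaceStabilizer W ⊓ (Cfsg.GU 5 F q ⊓ Cfsg.Geo.specialLinear (Fin 5) F)) ∨
    (∃ W : Submodule F (Fin 5 → F), W ≠ ⊥ ∧ Cfsg.Geo.IsNondegenerateOn (Cfsg.hermForm 5 F q) W ∧ 2 * Module.finrank F W < 5 ∧ H = Cfsg.Geo.subspaceStabilizer W ⊓ (Cfsg.GU 5 F q ⊓ Cfsg.Geo.specialLinear (Fin 5) F)) ∨
    (∃ D : Fin 5 → Submodule F (Fin 5 → F), Cfsg.Geo.IsNondegenerateMDecomposition (Cfsg.hermForm 5 F q) 1 D ∧ H = Cfsg.Geo.decompositionStabilizer D ⊓ (Cfsg.GU 5 F q ⊓ Cfsg.Geo.specialLinear (Fin 5) F)) ∨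
    (3 ≤ q ∧ ∃ K : Subalgebra F (Matrix (Fin 5) (Fin 5) F), Cfsg.Geo.IsFieldSubalgebra 5 K ∧ Cfsg.Geo.IsAdjointClosedFor (Cfsg.hermForm 5 F q) K ∧ H = Cfsg.Geo.subalgebraNormalizer K ⊓ (Cfsg.GU 5 F q ⊓ Cfsg.Geo.specialLinear (Fin 5) F)) ∨
    (∃ (F₀ : Subfield F) (r : ℕ) (P : Matrix.GeneralLinearGroup (Fin 5) F), r.Prime ∧ Odd r ∧ Fintype.card F = Nat.card F₀ ^ r ∧ Cfsg.Geo.IsFormRationalStructure (Cfsg.hermForm 5 F q) F₀ 1 P ∧ H = Cfsg.Geo.subfieldSubgroup F₀ P ⊓ (Cfsg.GU 5 F q ⊓ Cfsg.Geo.specialLinear (Fin 5) F)) ∨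
    (Odd q ∧ ∃ (F₀ : Subfield F) (P : Matrix.GeneralLinearGroup (Fin 5) F), Fintype.card F = Nat.card F₀ ^ 2 ∧ Cfsg.Geo.IsFormRationalStructure (Cfsg.hermForm 5 F q) F₀ 1 P ∧ H = Cfsg.Geo.subfieldSubgroup F₀ P ⊓ (Cfsg.GU 5 F q ⊓ Cfsg.Geo.specialLinear (Fin 5) F)) ∨
    (∃ (p : ℕ) (R : Subgroup (Matrix.GeneralLinearGroup (Fin 5) F)), p.Prime ∧ CharP F p ∧ ((q = p ∧ p % 5 = 4) ∨ (q = p ^ 2 ∧ (p % 5 = 2 ∨ p % 5 = 3))) ∧ Cfsg.Geo.IsSymplecticTypeGroup 5 R ∧ Cfsg.Geo.ActsAbsolutelyIrreducibly (Cfsg.Geo.matrixSet R) ∧ R ≤ Cfsg.Geo.similarityGroup (Cfsg.hermForm 5 F q) ∧ Nat.card R = 125 ∧ Nat.card (Subgroup.center R) = 5 ∧ H = Cfsg.Geo.subgroupNormalizer R ⊓ (Cfsg.GU 5 F q ⊓ Cfsg.Geo.specialLinear (Fin 5) F)) ∨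
    Cfsg.Geo.InUnitaryResidualClass H := by
  rcases CfsgLib.AschbacherUnitary.unitary_prime_cases hF (by norm_num) (by norm_num) hH with
    h | h | h | ⟨K, hK, hadj, hEq⟩ | h | h | ⟨p, j, R, hp, hchar, hq, hord, hR, habs, hRU, hc, hz, hEq⟩ | h
  · exact Or.inl h
  · exact Or.inr (Or.inl h)
  · exact Or.inr (Or.inr (Or.inl h))
  · refine Or.inr (Or.inr (Or.inr (Or.inl ⟨?_, K, hK, hadj, hEq⟩)))
    have h0 : 1 < Fintype.card F := Fintype.one_lt_card
    rw [hF] at h0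
    by_contra hlt
    have hq2 : q = 2 := by
      rcases q with - | - | - | q
      · simp at h0
      · simp at h0
      · rfl
      · omega
    subst hq2
    exact CfsgLib.AschbacherUnitary.FiveTwo.not_maximal (hF.trans (by norm_num)) hK hadj (hEq ▸ hH)
  · exact Or.inr (Or.inr (Or.inr (Or.inr (Or.inl h))))
  · exact Or.inr (Or.inr (Or.inr (Or.inr (Or.inr (Or.inl h)))))
  · refine Or.inr (Or.inr (Or.inr (Or.inr (Or.inr (Or.inr (Or.inl ⟨p, R, hp, hchar, ?_, hR, habs,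
      fun g hg => ⟨1, fun u v => by rw [Units.val_one, one_mul]; exact CfsgLib.MaxSub.mem_GU_iff_forall.1 (hRU hg) u v⟩,
      hc, hz, hEq⟩))))))
    have hj : 0 < j := by
      rcases Nat.eq_zero_or_pos j with rfl | hj
      · have h0 : 1 < Fintype.card F := Fintype.one_lt_card
        rw [hF, hq] at h0; simp at h0
      · exact hj
    have hord : orderOf (p : ZMod 5) = 2 * j := hord
    rcases residue (p : ZMod 5) j hord hj with ⟨rfl, hp1⟩ | ⟨rfl, hp1⟩
    · refine Or.inl ⟨by rw [hq, pow_one], ?_⟩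
      rw [← ZMod.val_natCast, hp1]; rfl
    · refine Or.inr ⟨hq, ?_⟩
      rw [← ZMod.val_natCast]
      rcases hp1 with h | h <;> simp [h] <;> decide
  · exact Or.inr (Or.inr (Or.inr (Or.inr (Or.inr (Or.inr (Or.inr h))))))

end Cfsg.Agent.S5796
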