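import Cfsg.Statements.S5801
import Cfsg.Agent.MaxSub.UnitarySubspace
import Cfsg.Agent.MaxSub.UnitaryDecomposition
import Cfsg.Agent.MaxSub.UnitaryDecompositionOne
import Cfsg.Agent.MaxSub.LagrangianPairMax
import Cfsg.Agent.ExtField.UOddMaximal
import Cfsg.Agent.TensorUnitary.Main
import Cfsg.Agent.FormSubfield.Maximal
import Cfsg.Agent.FormSubfield.OrthMaximal
-- import your own Cfsg.Agent.* helpers here

set_option autoImplicit false
open Cfsg

namespace Cfsg.Agent.S5801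

/-- Maximal subgroups of SU_6(q) of geometric type (any prime power q). Let F be the field with q² elements, f the standard unitary form Σ u_i v_i^q on F^6 and SU_6(q) its determinant-one isometry group inside GL_6(F). Each of the following, intersected with SU_6(q), is a maximal subgroup of SU_6(q): (1) the stabiliser of any non-zero subspace on which f vanishes identically (totally isotropic 1-, 2- and 3-spaces); (2) the stabiliser of any non-degenerate 1-space or 2-space; (3) for q ≥ 3, the stabiliser of any decomposition into six mutually orthogonal non-degenerate 1-spaces; (4) for q ≥ 3, the stabiliser of any decomposition into three mutually orthogonal non-degenerate 2-spaces; (5) the stabiliser of any decomposition into two mutually orthogonal non-degenerate 3-spaces; (6) the stabiliser of any decomposition into two totally isotropic 3-spaces; (7) for q ≥ 3, the normaliser of any degree-3 subfield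 of the matrix algebra closed under adjoints for f; (8) for q ≥ 3, the stabiliser of any tensor decomposition of f as (unitary form on F^2) ⊗ (unitary form on F^3) up to a scalar; (9) every subfield group for a subfield F₀ of odd prime index in F whose F₀-structure carries f; (10) every subfield group for the subfield F₀ of index 2 whose F₀-structure carries ζ f, vanishing on pairs (u, u), for a non-zero ζ with ζ + ζ^q = 0 (symplectic type); (11) for q odd, every subfield group for the subfield F₀ of index 2 whose F₀-structure carries f (orthogonal types, either sign). -/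
theorem result {F : Type*} [Field F] [Fintype F] (q : ℕ) (hF : Fintype.card F = q ^ 2) :
    (∀ W : Submodule F (Fin 6 → F), W ≠ ⊥ → Cfsg.Geo.IsTotallySingularFor (Cfsg.hermForm 6 F q) W → Cfsg.Geo.IsMaximalIn (Cfsg.GU 6 F q ⊓ Cfsg.Geo.specialLinear (Fin 6) F) (Cfsg.Geo.subspaceStabilizer W ⊓ (Cfsg.GU 6 F q ⊓ Cfsg.Geo.specialLinear (Fin 6) F))) ∧
    (∀ W : Submodule F (Fin 6 → F), W ≠ ⊥ → Cfsg.Geo.IsNondegenerateOn (Cfsg.hermForm 6 F q) W → 2 * Module.finrank F W < 6 → Cfsg.Geo.IsMaximalIn (Cfsg.GU 6 F q ⊓ Cfsg.Geo.specialLinear (Fin 6) F) (Cfsg.Geo.subspaceStabilizer W ⊓ (Cfsg.GU 6 F q ⊓ Cfsg.Geo.specialLinear (Fin 6) F))) ∧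
    (3 ≤ q → ∀ D : Fin 6 → Submodule F (Fin 6 → F), Cfsg.Geo.IsNondegenerateMDecomposition (Cfsg.hermForm 6 F q) 1 D → Cfsg.Geo.IsMaximalIn (Cfsg.GU 6 F q ⊓ Cfsg.Geo.specialLinear (Fin 6) F) (Cfsg.Geo.decompositionStabilizer D ⊓ (Cfsg.GU 6 F q ⊓ Cfsg.Geo.specialLinear (Fin 6) F))) ∧
    (3 ≤ q → ∀ D : Fin 3 → Submodule F (Fin 6 → F), Cfsg.Geo.IsNondegenerateMDecomposition (Cfsg.hermForm 6 F q) 2 D → Cfsg.Geo.IsMaximalIn (Cfsg.GU 6 F q ⊓ Cfsg.Geo.specialLinear (Fin 6) F) (Cfsg.Geo.decompositionStabilizer D ⊓ (Cfsg.GU 6 F q ⊓ Cfsg.Geo.specialLinear (Fin 6) F))) ∧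
    (∀ D : Fin 2 → Submodule F (Fin 6 → F), Cfsg.Geo.IsNondegenerateMDecomposition (Cfsg.hermForm 6 F q) 3 D → Cfsg.Geo.IsMaximalIn (Cfsg.GU 6 F q ⊓ Cfsg.Geo.specialLinear (Fin 6) F) (Cfsg.Geo.decompositionStabilizer D ⊓ (Cfsg.GU 6 F q ⊓ Cfsg.Geo.specialLinear (Fin 6) F))) ∧
    (∀ D : Fin 2 → Submodule F (Fin 6 → F), Cfsg.Geo.IsMDecomposition 3 D → (∀ i, Cfsg.Geo.IsTotallySingularFor (Cfsg.hermForm 6 F q) (D i)) → Cfsg.Geo.IsMaximalIn (Cfsg.GU 6 F q ⊓ Cfsg.Geo.specialLinear (Fin 6) F) (Cfsg.Geo.decompositionStabilizer D ⊓ (Cfsg.GU 6 F q ⊓ Cfsg.Geo.specialLinear (Fin 6) F))) ∧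
    (3 ≤ q → ∀ K : Subalgebra F (Matrix (Fin 6) (Fin 6) F), Cfsg.Geo.IsFieldSubalgebra 3 K → Cfsg.Geo.IsAdjointClosedFor (Cfsg.hermForm 6 F q) K → Cfsg.Geo.IsMaximalIn (Cfsg.GU 6 F q ⊓ Cfsg.Geo.specialLinear (Fin 6) F) (Cfsg.Geo.subalgebraNormalizer K ⊓ (Cfsg.GU 6 F q ⊓ Cfsg.Geo.specialLinear (Fin 6) F))) ∧
    (3 ≤ q → ∀ (e : Fin 6 ≃ Fin 2 × Fin 3) (P : Matrix.GeneralLinearGroup (Fin 6) F) (f₁ : (Fin 2 → F) → (Fin 2 → F) → F) (f₂ : (Fin 3 → F) → (Fin 3 → F) → F), Cfsg.Geo.IsUnitaryFormPow q f₁ → Cfsg.Geo.IsUnitaryFormPow q f₂ → Cfsg.Geo.IsTensorFormStructure (fun x : F => x ^ q) (Cfsg.hermForm 6 F q) f₁ f₂ e P → Cfsg.Geo.IsMaximalIn (Cfsg.GU 6 F q ⊓ Cfsg.Geo.specialLinear (Fin 6) F) (Cfsg.Geo.tensorProductSubgroup 2 3 e P ⊓ (Cfsg.GU 6 F q ⊓ Cfsg.Geo.specialLinear (Fin 6) F))) ∧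
    (∀ (F₀ : Subfield F) (r : ℕ) (P : Matrix.GeneralLinearGroup (Fin 6) F), r.Prime → Odd r → Fintype.card F = Nat.card F₀ ^ r → Cfsg.Geo.IsFormRationalStructure (Cfsg.hermForm 6 F q) F₀ 1 P → Cfsg.Geo.IsMaximalIn (Cfsg.GU 6 F q ⊓ Cfsg.Geo.specialLinear (Fin 6) F) (Cfsg.Geo.subfieldSubgroup F₀ P ⊓ (Cfsg.GU 6 F q ⊓ Cfsg.Geo.specialLinear (Fin 6) F))) ∧
    (∀ (F₀ : Subfield F) (P : Matrix.GeneralLinearGroup (Fin 6) F) (ζ : F), Fintype.card F = Nat.card F₀ ^ 2 → ζ ≠ 0 → ζ + ζ ^ q = 0 → Cfsg.Geo.IsFormRationalStructure (Cfsg.hermForm 6 F q) F₀ ζ P → (∀ u : Fin 6 → F, (∀ i, u i ∈ F₀) → (Cfsg.hermForm 6 F q) (Matrix.mulVec (P : Matrix (Fin 6) (Fin 6) F) u) (Matrix.mulVec (P : Matrix (Fin 6) (Fin 6) F) u) = 0) → Cfsg.Geo.IsMaximalIn (Cfsg.GU 6 F q ⊓ Cfsg.Geo.specialLinear (Fin 6) F) (Cfsg.Geo.subfieldSubgroup F₀ P ⊓ (Cfsg.GU 6 F q ⊓ Cfsg.Geo.specialLinear (Fin 6) F))) ∧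
    (Odd q → ∀ (F₀ : Subfield F) (P : Matrix.GeneralLinearGroup (Fin 6) F), Fintype.card F = Nat.card F₀ ^ 2 → Cfsg.Geo.IsFormRationalStructure (Cfsg.hermForm 6 F q) F₀ 1 P → Cfsg.Geo.IsMaximalIn (Cfsg.GU 6 F q ⊓ Cfsg.Geo.specialLinear (Fin 6) F) (Cfsg.Geo.subfieldSubgroup F₀ P ⊓ (Cfsg.GU 6 F q ⊓ Cfsg.Geo.specialLinear (Fin 6) F))) := by
  obtain ⟨σ, hne, hinv, hσ⟩ := CfsgLib.MaxSub.exists_conjEquiv hF
  have hf := CfsgLib.MaxSub.isUnitaryForm_hermForm (n := 6) hne hinv hσ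
  have hb : CfsgLib.MaxSub.Circle.IsBar q σ := ⟨hσ, hF, hne, hinv⟩
  have h2 : 3 ≤ q → ((2 : F) ≠ 0 ∨ ∃ ζ ∈ CfsgLib.MaxSub.Circle.normOne σ, ζ ^ 6 ≠ 1) := by
    intro hq3
    by_cases h2 : (2 : F) = 0
    swap
    · exact Or.inl h2
    refine Or.inr ?_
    obtain ⟨ζ, hζ, hord⟩ := CfsgLib.MaxSub.Circle.exists_order hb
    refine ⟨ζ, hζ, ?_⟩
    have hc := FiniteField.cast_card_eq_zero (K := F)
    rw [hF] at hc
    by_cases hq6 : 6 ≤ q
    · exact hord 6 hq6 (by norm_num)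
    interval_cases q
    · push_cast at hc
      exact absurd (show (1 : F) = 0 by linear_combination hc - 4 * h2) one_ne_zero
    · intro h6
      have h5 : ζ * σ ζ = 1 := (CfsgLib.MaxSub.Circle.mem_normOne hb).mp hζ
      rw [hσ, ← pow_succ'] at h5
      refine hord 1 (by norm_num) (by norm_num) ?_
      rw [pow_one]
      have h6' : ζ ^ (4 + 1) * ζ = 1 := by rw [← pow_succ]; exact h6
      rwa [h5, one_mul] at h6'
    · push_cast at hc
      exact absurd (show (1 : F) = 0 by linear_combination hc - 12 * h2) one_ne_zero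
  exact ⟨fun W hW0 hW => CfsgLib.MaxSub.UC.isMaximalIn_uSingular hf hσ hF (by norm_num) hW0 hW,
    fun W hW0 hW hdim => CfsgLib.MaxSub.UC.isMaximalIn_uNondeg hf hσ hF (by norm_num) hW0 hW hdim,
    fun hq3 D hD => CfsgLib.MaxSub.UMono.isMaximalIn_uDecomposition_one_small hf hb
      (by norm_num) hq3 (h2 hq3) hD,
    fun hq3 D hD => CfsgLib.MaxSub.UC.isMaximalIn_uDecomposition hf hσ hF (by norm_num) hD
      (by norm_num) (by omega),
    fun D hD => CfsgLib.MaxSub.UC.isMaximalIn_uDecomposition hf hσ hF (by norm_num) hD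
      (by norm_num) (by omega),
    fun D hD hts => CfsgLib.MaxSub.LPair.isMaximalIn_suPair hF (by norm_num) (by norm_num) hD hts,
    fun hq3 K hK hac => CfsgLib.ExtField.isMaximalIn_suGL hF (by norm_num) Nat.prime_three (by decide)
      (by norm_num) (by norm_num) (Or.inl (by
        have h9 : 9 ≤ q ^ 2 := le_trans (by norm_num) (Nat.pow_le_pow_left hq3 2)
        have h3 : 9 * q ≤ q ^ 3 := (Nat.mul_le_mul_right q h9).trans (by rw [← pow_succ])
        omega)) hK hac,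
    fun hq3 e P f₁ f₂ hf₁ hf₂ hT => CfsgLib.TensorUnitary.isMaximalIn_tensor_small hF hσ (by norm_num)
      (Or.inl ⟨rfl, rfl, by omega⟩)
      e P ⟨hne, hinv, hf₁.add_left, hf₁.smul_left, fun v w => by rw [hσ]; exact hf₁.herm v w,
        hf₁.nondegenerate⟩
      ⟨hne, hinv, hf₂.add_left, hf₂.smul_left, fun v w => by rw [hσ]; exact hf₂.herm v w,
        hf₂.nondegenerate⟩ hT,
    fun F₀ r P hr hro hcard hP => CfsgLib.FormSubfield.isMaximalIn_suSubfield_odd 6 q hF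
      (by norm_num) F₀ r hr hro hcard P hP,
    fun F₀ P ζ hcard hζ0 hζ hP hP0 => CfsgLib.FormSubfield.isMaximalIn_suSubfield_symp 6 q hF
      (by norm_num) F₀ hcard ζ hζ0 hζ P hP hP0,
    fun hodd F₀ P hcard hP => CfsgLib.FormSubfield.isMaximalIn_suSubfield_orth 6 q hF
      (by norm_num) hodd F₀ hcard P hP⟩

end Cfsg.Agent.S5801
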