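import Cfsg.Statements.S5811
import Cfsg.Agent.AschbacherUnitary.Prime

set_option autoImplicit false
open Cfsg

namespace Cfsg.Agent.S5811

theorem residueTable : ∀ x : ZMod 7, x ^ 6 = 1 →
    (x ^ 2 = 1 → x = 1 ∨ (x = 6)) ∧ ((x ^ 2 ≠ 1 ∧ x ^ 3 ≠ 1) → x = 3 ∨ x = 5) := by decide

theorem residue (x : ZMod 7) (j : ℕ) (h : orderOf x = 2 * j) (hj : 0 < j) :
    (j = 1 ∧ (x = 6)) ∨ (j = 3 ∧ (x = 3 ∨ x = 5)) := by
  haveI : Fact (Nat.Prime 7) := ⟨by norm_num⟩
  have hpow : x ^ (2 * j) = 1 := h ▸ pow_orderOf_eq_one x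
  have hx : x ≠ 0 := by
    rintro rfl
    rw [zero_pow (by omega)] at hpow
    exact zero_ne_one hpow
  have hF : x ^ 6 = 1 := ZMod.pow_card_sub_one_eq_one hx
  have hd : j ∣ 3 := by
    have e := orderOf_dvd_of_pow_eq_one hF
    rw [h] at e
    exact Nat.dvd_of_mul_dvd_mul_left (k := 2) two_pos e
  rcases (Nat.dvd_prime (by norm_num)).1 hd with rfl | rfl
  · refine Or.inl ⟨rfl, ((residueTable x hF).1 hpow).resolve_left fun h1 => ?_⟩
    simp [h1] at h
  · refine Or.inr ⟨rfl, (residueTable x hF).2 ⟨fun h1 => ?_, fun h1 => ?_⟩⟩ <;>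
    · have e := orderOf_dvd_of_pow_eq_one h1
      rw [h] at e
      exact absurd e (by decide)

/-- Every maximal subgroup of SU_7(q) is of one of the listed geometric types or lies in the residual class. Let F be the field with q² elements (characteristic p), f the standard unitary form Σ u_i v_i^q on F^7, and H a maximal subgroup of SU_7(q) (inside GL_7(F)). Then H is the intersection with SU_7(q) of one of: the stabiliser of a non-zero totally isotropic subspace; the stabiliser of a non-degenerate 1-, 2- or 3-space; the stabiliser of a decomposition into seven mutually orthogonal non-degenerate 1-spaces; the normaliser of an adjoint-closed degree-7 subfield of the matrix algebra; a subfield group of odd prime index whose F₀-structure carries f; for q odd, a subfield group of index 2 whose F₀-structure carries f; for q = p prime with p ≡ 6 mod 7, or q = p³ with p ≡ 3 or 5 mod 7, the normaliser of an absolutely irreducible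 7-group R of exponent 7, order 343 and centre of order 7, all of whose characteristic abelian subgroups are cyclic, contained in the similarity group of f — or else H lies in the residual class of the unitary case (modulo scalars H is almost simple, with absolutely irreducible perfect socle preimage realisable over no proper subfield and fixing no non-degenerate quadratic or symplectic form). -/
theorem result {F : Type*} [Field F] [Fintype F] (q : ℕ) (hF : Fintype.card F = q ^ 2) (H : Subgroup (Matrix.GeneralLinearGroup (Fin 7) F)) (hH : Cfsg.Geo.IsMaximalIn (Cfsg.GU 7 F q ⊓ Cfsg.Geo.specialLinear (Fin 7) F) H) :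
    (∃ W : Submodule F (Fin 7 → F), W ≠ ⊥ ∧ Cfsg.Geo.IsTotallySingularFor (Cfsg.hermForm 7 F q) W ∧ H = Cfsg.Geo.subspaceStabilizer W ⊓ (Cfsg.GU 7 F q ⊓ Cfsg.Geo.specialLinear (Fin 7) F)) ∨
    (∃ W : Submodule F (Fin 7 → F), W ≠ ⊥ ∧ Cfsg.Geo.IsNondegenerateOn (Cfsg.hermForm 7 F q) W ∧ 2 * Module.finrank F W < 7 ∧ H = Cfsg.Geo.subspaceStabilizer W ⊓ (Cfsg.GU 7 F q ⊓ Cfsg.Geo.specialLinear (Fin 7) F)) ∨
    (∃ D : Fin 7 → Submodule F (Fin 7 → F), Cfsg.Geo.IsNondegenerateMDecomposition (Cfsg.hermForm 7 F q) 1 D ∧ H = Cfsg.Geo.decompositionStabilizer D ⊓ (Cfsg.GU 7 F q ⊓ Cfsg.Geo.specialLinear (Fin 7) F)) ∨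
    (∃ K : Subalgebra F (Matrix (Fin 7) (Fin 7) F), Cfsg.Geo.IsFieldSubalgebra 7 K ∧ Cfsg.Geo.IsAdjointClosedFor (Cfsg.hermForm 7 F q) K ∧ H = Cfsg.Geo.subalgebraNormalizer K ⊓ (Cfsg.GU 7 F q ⊓ Cfsg.Geo.specialLinear (Fin 7) F)) ∨
    (∃ (F₀ : Subfield F) (r : ℕ) (P : Matrix.GeneralLinearGroup (Fin 7) F), r.Prime ∧ Odd r ∧ Fintype.card F = Nat.card F₀ ^ r ∧ Cfsg.Geo.IsFormRationalStructure (Cfsg.hermForm 7 F q) F₀ 1 P ∧ H = Cfsg.Geo.subfieldSubgroup F₀ P ⊓ (Cfsg.GU 7 F q ⊓ Cfsg.Geo.specialLinear (Fin 7) F)) ∨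
    (Odd q ∧ ∃ (F₀ : Subfield F) (P : Matrix.GeneralLinearGroup (Fin 7) F), Fintype.card F = Nat.card F₀ ^ 2 ∧ Cfsg.Geo.IsFormRationalStructure (Cfsg.hermForm 7 F q) F₀ 1 P ∧ H = Cfsg.Geo.subfieldSubgroup F₀ P ⊓ (Cfsg.GU 7 F q ⊓ Cfsg.Geo.specialLinear (Fin 7) F)) ∨
    (∃ (p : ℕ) (R : Subgroup (Matrix.GeneralLinearGroup (Fin 7) F)), p.Prime ∧ CharP F p ∧ ((q = p ∧ p % 7 = 6) ∨ (q = p ^ 3 ∧ (p % 7 = 3 ∨ p % 7 = 5))) ∧ Cfsg.Geo.IsSymplecticTypeGroup 7 R ∧ Cfsg.Geo.ActsAbsolutelyIrreducibly (Cfsg.Geo.matrixSet R) ∧ R ≤ Cfsg.Geo.similarityGroup (Cfsg.hermForm 7 F q) ∧ Nat.card R = 343 ∧ Nat.card (Subgroup.center R) = 7 ∧ H = Cfsg.Geo.subgroupNormalizer R ⊓ (Cfsg.GU 7 F q ⊓ Cfsg.Geo.specialLinear (Fin 7) F)) ∨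
    Cfsg.Geo.InUnitaryResidualClass H := by
  rcases CfsgLib.AschbacherUnitary.unitary_prime_cases hF (by norm_num) (by norm_num) hH with
    h | h | h | h | h | h | ⟨p, j, R, hp, hchar, hq, hord, hR, habs, hRU, hc, hz, hEq⟩ | h
  · exact Or.inl h
  · exact Or.inr (Or.inl h)
  · exact Or.inr (Or.inr (Or.inl h))
  · exact Or.inr (Or.inr (Or.inr (Or.inl h)))
  · exact Or.inr (Or.inr (Or.inr (Or.inr (Or.inl h))))
  · exact Or.inr (Or.inr (Or.inr (Or.inr (Or.inr (Or.inl h)))))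
  · refine Or.inr (Or.inr (Or.inr (Or.inr (Or.inr (Or.inr (Or.inl ⟨p, R, hp, hchar, ?_, hR, habs,
      fun g hg => ⟨1, fun u v => by rw [Units.val_one, one_mul]; exact CfsgLib.MaxSub.mem_GU_iff_forall.1 (hRU hg) u v⟩, hc, hz, hEq⟩))))))
    have hj : 0 < j := by
      rcases Nat.eq_zero_or_pos j with rfl | hj
      · have h0 : 1 < Fintype.card F := Fintype.one_lt_card
        rw [hF, hq] at h0; simp at h0
      · exact hj
    have hord : orderOf (p : ZMod 7) = 2 * j := hord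
    rcases residue (p : ZMod 7) j hord hj with ⟨rfl, hp1⟩ | ⟨rfl, hp1⟩
    · refine Or.inl ⟨by rw [hq, pow_one], ?_⟩
      rw [← ZMod.val_natCast, hp1]; rfl
    · refine Or.inr ⟨hq, ?_⟩
      rw [← ZMod.val_natCast]
      rcases hp1 with h | h <;> simp [h] <;> decide
  · exact Or.inr (Or.inr (Or.inr (Or.inr (Or.inr (Or.inr (Or.inr h))))))

end Cfsg.Agent.S5811
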