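import Cfsg.Statements.S5820
import Cfsg.Agent.AschbacherUnitary.Cases
import Cfsg.Agent.MaxSub.UnitaryExceptional

set_option autoImplicit false
open Cfsg

namespace Cfsg.Agent.S5820

/-- Every maximal subgroup of SU_8(q) is of one of the listed geometric types or lies in the residual class. Let F be the field with q² elements, f the standard unitary form Σ u_i v_i^q on F^8, and H a maximal subgroup of SU_8(q) (inside GL_8(F)). Then H is the intersection with SU_8(q) of one of: the stabiliser of a non-zero totally isotropic subspace; the stabiliser of a non-degenerate 1-, 2- or 3-space; the stabiliser of a decomposition into eight mutually orthogonal non-degenerate 1-spaces; for q ≥ 3, of a decomposition into four mutually orthogonal non-degenerate 2-spaces; of a decomposition into two orthogonal non-degenerate 4-spaces; of a decomposition into two totally isotropic 4-spaces; for q ≥ 3, the stabiliser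 of a tensor decomposition of f into unitary forms on F^2 and F^4; a subfield group of odd prime index whose F₀-structure carries f; a subfield group of index 2 and symplectic type; for q odd, a subfield group of index 2 and orthogonal type; for q = p ≡ 3 mod 4 prime, the normaliser of an absolutely irreducible symplectic-type 2-group of order 2^8 with centre of order 4 inside the similarity group of f — or else H lies in the residual class of the unitary case. -/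
theorem result {F : Type*} [Field F] [Fintype F] (q : ℕ) (hF : Fintype.card F = q ^ 2) (H : Subgroup (Matrix.GeneralLinearGroup (Fin 8) F)) (hH : Cfsg.Geo.IsMaximalIn (Cfsg.GU 8 F q ⊓ Cfsg.Geo.specialLinear (Fin 8) F) H) :
    (∃ W : Submodule F (Fin 8 → F), W ≠ ⊥ ∧ Cfsg.Geo.IsTotallySingularFor (Cfsg.hermForm 8 F q) W ∧ H = Cfsg.Geo.subspaceStabilizer W ⊓ (Cfsg.GU 8 F q ⊓ Cfsg.Geo.specialLinear (Fin 8) F)) ∨
    (∃ W : Submodule F (Fin 8 → F), W ≠ ⊥ ∧ Cfsg.Geo.IsNondegenerateOn (Cfsg.hermForm 8 F q) W ∧ 2 * Module.finrank F W < 8 ∧ H = Cfsg.Geo.subspaceStabilizer W ⊓ (Cfsg.GU 8 F q ⊓ Cfsg.Geo.specialLinear (Fin 8) F)) ∨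
    (∃ D : Fin 8 → Submodule F (Fin 8 → F), Cfsg.Geo.IsNondegenerateMDecomposition (Cfsg.hermForm 8 F q) 1 D ∧ H = Cfsg.Geo.decompositionStabilizer D ⊓ (Cfsg.GU 8 F q ⊓ Cfsg.Geo.specialLinear (Fin 8) F)) ∨
    (3 ≤ q ∧ ∃ D : Fin 4 → Submodule F (Fin 8 → F), Cfsg.Geo.IsNondegenerateMDecomposition (Cfsg.hermForm 8 F q) 2 D ∧ H = Cfsg.Geo.decompositionStabilizer D ⊓ (Cfsg.GU 8 F q ⊓ Cfsg.Geo.specialLinear (Fin 8) F)) ∨
    (∃ D : Fin 2 → Submodule F (Fin 8 → F), Cfsg.Geo.IsNondegenerateMDecomposition (Cfsg.hermForm 8 F q) 4 D ∧ H = Cfsg.Geo.decompositionStabilizer D ⊓ (Cfsg.GU 8 F q ⊓ Cfsg.Geo.specialLinear (Fin 8) F)) ∨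
    (∃ D : Fin 2 → Submodule F (Fin 8 → F), Cfsg.Geo.IsMDecomposition 4 D ∧ (∀ i, Cfsg.Geo.IsTotallySingularFor (Cfsg.hermForm 8 F q) (D i)) ∧ H = Cfsg.Geo.decompositionStabilizer D ⊓ (Cfsg.GU 8 F q ⊓ Cfsg.Geo.specialLinear (Fin 8) F)) ∨
    (3 ≤ q ∧ ∃ (e : Fin 8 ≃ Fin 2 × Fin 4) (P : Matrix.GeneralLinearGroup (Fin 8) F) (f₁ : (Fin 2 → F) → (Fin 2 → F) → F) (f₂ : (Fin 4 → F) → (Fin 4 → F) → F), Cfsg.Geo.IsUnitaryFormPow q f₁ ∧ Cfsg.Geo.IsUnitaryFormPow q f₂ ∧ Cfsg.Geo.IsTensorFormStructure (fun x : F => x ^ q) (Cfsg.hermForm 8 F q) f₁ f₂ e P ∧ H = Cfsg.Geo.tensorProductSubgroup 2 4 e P ⊓ (Cfsg.GU 8 F q ⊓ Cfsg.Geo.specialLinear (Fin 8) F)) ∨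
    (∃ (F₀ : Subfield F) (r : ℕ) (P : Matrix.GeneralLinearGroup (Fin 8) F), r.Prime ∧ Odd r ∧ Fintype.card F = Nat.card F₀ ^ r ∧ Cfsg.Geo.IsFormRationalStructure (Cfsg.hermForm 8 F q) F₀ 1 P ∧ H = Cfsg.Geo.subfieldSubgroup F₀ P ⊓ (Cfsg.GU 8 F q ⊓ Cfsg.Geo.specialLinear (Fin 8) F)) ∨
    (∃ (F₀ : Subfield F) (P : Matrix.GeneralLinearGroup (Fin 8) F) (ζ : F), Fintype.card F = Nat.card F₀ ^ 2 ∧ ζ ≠ 0 ∧ ζ + ζ ^ q = 0 ∧ Cfsg.Geo.IsFormRationalStructure (Cfsg.hermForm 8 F q) F₀ ζ P ∧ (∀ u : Fin 8 → F, (∀ i, u i ∈ F₀) → (Cfsg.hermForm 8 F q) (Matrix.mulVec (P : Matrix (Fin 8) (Fin 8) F) u) (Matrix.mulVec (P : Matrix (Fin 8) (Fin 8) F) u) = 0) ∧ H = Cfsg.Geo.subfieldSubgroup F₀ P ⊓ (Cfsg.GU 8 F q ⊓ Cfsg.Geo.specialLinear (Fin 8) F)) ∨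
    (Odd q ∧ ∃ (F₀ : Subfield F) (P : Matrix.GeneralLinearGroup (Fin 8) F), Fintype.card F = Nat.card F₀ ^ 2 ∧ Cfsg.Geo.IsFormRationalStructure (Cfsg.hermForm 8 F q) F₀ 1 P ∧ H = Cfsg.Geo.subfieldSubgroup F₀ P ⊓ (Cfsg.GU 8 F q ⊓ Cfsg.Geo.specialLinear (Fin 8) F)) ∨
    (∃ (p : ℕ) (R : Subgroup (Matrix.GeneralLinearGroup (Fin 8) F)), p.Prime ∧ q = p ∧ p % 4 = 3 ∧ Cfsg.Geo.IsSymplecticTypeGroup 2 R ∧ Cfsg.Geo.ActsAbsolutelyIrreducibly (Cfsg.Geo.matrixSet R) ∧ R ≤ Cfsg.Geo.similarityGroup (Cfsg.hermForm 8 F q) ∧ Nat.card R = 256 ∧ Nat.card (Subgroup.center R) = 4 ∧ H = Cfsg.Geo.subgroupNormalizer R ⊓ (Cfsg.GU 8 F q ⊓ Cfsg.Geo.specialLinear (Fin 8) F)) ∨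
    Cfsg.Geo.InUnitaryResidualClass H := by
  classical
  obtain ⟨σ, hσ⟩ := CfsgLib.AschbacherUnitary.exists_isConj hF
  have hq1 := hσ.one_lt
  have hu := hσ.unitary (n := 8)
  rcases CfsgLib.AschbacherUnitary.maximal_cases hF (by norm_num) hH with
    h | h | ⟨t, k, D, hD, htk, hEq⟩ | ⟨k, D, hk, hD, hts, hEq⟩ | h | h | h |
    ⟨r, R, p, e, k, hR, habs, hsim, -, hmin, hdata, hn, hEq⟩ | ⟨r, K, hr, hodd, hrd, -⟩ |
    ⟨n₁, n₂, e, P, f₁, f₂, h1, h12, hnn, hf₁, hf₂, hstr, hEq⟩ | ⟨d, t, e, P, f₁, hd, ht, -, hdt, -⟩ | h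
  · exact Or.inl h
  · exact Or.inr (Or.inl h)
  · have ht := hD.decomp.two_le
    have hdv : t ∣ 8 := ⟨k, htk.symm⟩
    have htl := Nat.le_of_dvd (by norm_num) hdv
    interval_cases t <;> try omega
    · obtain rfl : k = 4 := by omega
      exact Or.inr (Or.inr (Or.inr (Or.inr (Or.inl ⟨D, hD, hEq⟩))))
    · obtain rfl : k = 2 := by omega
      refine Or.inr (Or.inr (Or.inr (Or.inl ⟨?_, D, hD, hEq⟩)))
      by_contra hlt
      obtain rfl : q = 2 := by omega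
      obtain ⟨L, hL1, hL2⟩ := CfsgLib.MaxSub.not_maximal_unitaryPlanes (n := 8) le_rfl (by rw [hF]; norm_num) hD
      rw [← hEq] at hL1
      rcases hH.2 L hL1.le hL2.le with e | e
      · exact hL1.ne e.symm
      · exact hL2.ne e
    · obtain rfl : k = 1 := by omega
      exact Or.inr (Or.inr (Or.inl ⟨D, hD, hEq⟩))
  · obtain rfl : k = 4 := by omega
    exact Or.inr (Or.inr (Or.inr (Or.inr (Or.inr (Or.inl ⟨D, hD, hts, hEq⟩)))))
  · exact Or.inr (Or.inr (Or.inr (Or.inr (Or.inr (Or.inr (Or.inr (Or.inl h)))))))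
  · exact Or.inr (Or.inr (Or.inr (Or.inr (Or.inr (Or.inr (Or.inr (Or.inr (Or.inr (Or.inl h)))))))))
  · exact Or.inr (Or.inr (Or.inr (Or.inr (Or.inr (Or.inr (Or.inr (Or.inr (Or.inl h))))))))
  · have hrp := hR.prime
    have hr2 : r = 2 := by
      refine (Nat.prime_dvd_prime_iff_eq Nat.prime_two hrp).1 (Nat.prime_two.dvd_of_dvd_pow (n := k) ?_) |>.symm
      rw [← hn]; norm_num
    subst hr2
    obtain rfl : k = 3 := Nat.pow_right_injective le_rfl (hn.symm.trans (by norm_num))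
    rcases hdata with ⟨ho, -⟩ | ⟨-, rfl, hz, hc⟩
    · exact absurd ho (by decide)
    obtain ⟨hp, -, hcF, hdv, hmin'⟩ := hmin
    rw [hz] at hdv
    obtain rfl : q = p := Nat.pow_left_injective two_ne_zero (hF.symm.trans hcF)
    have hp4 : q % 4 = 3 := by
      rcases hp.eq_two_or_odd with h2 | h2
      · subst h2; norm_num at hdv
      have : q % 4 ≠ 1 := fun h0 => hmin' 1 one_pos (by norm_num) (by rw [hz, pow_one]; omega)
      omega
    exact Or.inr (Or.inr (Or.inr (Or.inr (Or.inr (Or.inr (Or.inr (Or.inr (Or.inr (Or.inr (Or.inl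
      ⟨q, R, hp, rfl, hp4, hR, habs, hsim, hc, hz, hEq⟩))))))))))
  · exfalso
    obtain rfl := (Nat.prime_dvd_prime_iff_eq hr Nat.prime_two).1 (hr.dvd_of_dvd_pow (n := 3) (by norm_num; exact hrd))
    exact (by decide : ¬ Odd 2) hodd
  · obtain ⟨rfl, rfl⟩ : n₁ = 2 ∧ n₂ = 4 := by
      have hl : n₁ ≤ 2 := by nlinarith
      constructor <;> nlinarith
    by_cases hq : q = 2
    · subst hq
      have hu₁ : Cfsg.Geo.IsUnitaryForm σ f₁ := ⟨hσ.ne_refl, hσ.involutive, hf₁.add_left, hf₁.smul_left,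
        fun v w => by rw [hσ.eq_pow]; exact hf₁.herm v w, hf₁.nondegenerate⟩
      have hu₂ : Cfsg.Geo.IsUnitaryForm σ f₂ := ⟨hσ.ne_refl, hσ.involutive, hf₂.add_left, hf₂.smul_left,
        fun v w => by rw [hσ.eq_pow]; exact hf₂.herm v w, hf₂.nondegenerate⟩
      obtain ⟨c, hc, hform⟩ := hstr
      rw [show (fun x : F => x ^ 2) = ⇑σ from funext fun a => (hσ.eq_pow a).symm] at hform
      have hle : H ≤ Geo.tensorProductSubgroup 2 4 e P := hEq.le.trans inf_le_left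
      obtain ⟨D, hD, hle'⟩ := CfsgLib.AschbacherTwelve.frame_decomposition_two hσ (by rw [hF]; rfl) (by norm_num)
        (CfsgLib.AschbacherForms.fixesForm_iff.2 fun g hg => CfsgLib.MaxSub.mem_GU_iff_forall.1 (hH.1.le hg).1)
        hc ((Matrix.isUnit_iff_isUnit_det _).2 (CfsgLib.AschbacherForms.isReflexive_unitary hu₁).gram_det_unit)
        ((Matrix.isUnit_iff_isUnit_det _).2 (CfsgLib.AschbacherForms.isReflexive_unitary hu₂).gram_det_unit)
        (Matrix.ext fun a b => (hu₁.herm _ _).symm) hle hform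
      exact Or.inr (Or.inr (Or.inr (Or.inr (Or.inl ⟨D, hD, CfsgLib.Aschbacher.eq_inf_of_maximal hH hle'
        (CfsgLib.AschbacherTwelve.not_le_orthDecomposition hσ (by norm_num) hD)⟩))))
    · exact Or.inr (Or.inr (Or.inr (Or.inr (Or.inr (Or.inr (Or.inl
        ⟨by omega, e, P, f₁, f₂, hf₁, hf₂, hstr, hEq⟩))))))
  · exfalso
    have h8 : 3 ^ t ≤ 8 := hdt ▸ Nat.pow_le_pow_left hd t
    have := Nat.pow_le_pow_right (show 1 ≤ 3 by norm_num) ht
    omega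
  · exact Or.inr (Or.inr (Or.inr (Or.inr (Or.inr (Or.inr (Or.inr (Or.inr (Or.inr (Or.inr (Or.inr h))))))))))

end Cfsg.Agent.S5820
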