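import Cfsg.Statements.S5825
import Cfsg.Agent.OrthMax.TotallySingular
import Cfsg.Agent.OrthMax.NonsingularVector
import Cfsg.Agent.OrthMax.NondegenerateTwo
import Cfsg.Agent.OrthSubfield.Maximal
import Cfsg.Agent.OrthExtFour.Main

set_option autoImplicit false
set_option maxHeartbeats 1000000
open Cfsg

namespace Cfsg.Agent.S5825

/-- Maximal subgroups of Ω_8^-(q) of geometric type (any q). Let F be a finite field with q elements, Q a non-degenerate quadratic form on F^8 (non-degenerate polar form) of minus type (Witt index 3: no totally singular 4-space), and Ω = Ω_8^-(q) the commutator subgroup of the isometry group of Q, inside GL_8(F). Each of the following, intersected with Ω, is a maximal subgroup of Ω: (1) the stabiliser of any non-zero subspace on which Q vanishes identically (totally singular 1-, 2- and 3-spaces); (2) for q odd, the stabiliser of any proper subspace of odd dimension (1, 3, 5 or 7) on which the polar form of Q is non-degenerate; (3) the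 stabiliser of any non-degenerate 2-space of minus type (containing no non-zero singular vector); (4) for q ≥ 4, the stabiliser of any non-degenerate 2-space of plus type (containing a non-zero singular vector); (5) the stabiliser of any non-degenerate 4-space (its orthogonal complement is then a non-degenerate 4-space of the opposite type); (6) for q even, the stabiliser of the 1-space spanned by any non-singular vector v (Q(v) ≠ 0); (7) for q odd, the normaliser of any degree-2 subfield K of the matrix algebra whose elements are self-adjoint for the polar form of Q (Q is then the trace of a quadratic form over K); (8) every subfield group for a subfield F₀ of odd prime index r in F whose F₀-structure carries a non-zero scalar multiple of Q. -/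
theorem result {F : Type*} [Field F] [Fintype F] (Q : (Fin 8 → F) → F) (hQ : Cfsg.Geo.IsNondegenerateQuadraticForm Q) (hminus : ¬ Cfsg.Geo.IsPlusTypeOn Q ⊤) :
    (∀ W : Submodule F (Fin 8 → F), W ≠ ⊥ → Cfsg.Geo.IsTotallySingularQuad Q W → Cfsg.Geo.IsMaximalIn (Cfsg.Geo.omegaGL Q) (Cfsg.Geo.subspaceStabilizer W ⊓ Cfsg.Geo.omegaGL Q)) ∧
    (Odd (Fintype.card F) → ∀ W : Submodule F (Fin 8 → F), W ≠ ⊥ → W ≠ ⊤ → Odd (Module.finrank F W) → Cfsg.Geo.IsNondegenerateOn (QuadraticMap.polar Q) W → Cfsg.Geo.IsMaximalIn (Cfsg.Geo.omegaGL Q) (Cfsg.Geo.subspaceStabilizer W ⊓ Cfsg.Geo.omegaGL Q)) ∧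
    (∀ W : Submodule F (Fin 8 → F), Module.finrank F W = 2 → Cfsg.Geo.IsNondegenerateOn (QuadraticMap.polar Q) W → ¬ Cfsg.Geo.IsPlusTypeOn Q W → Cfsg.Geo.IsMaximalIn (Cfsg.Geo.omegaGL Q) (Cfsg.Geo.subspaceStabilizer W ⊓ Cfsg.Geo.omegaGL Q)) ∧
    (4 ≤ Fintype.card F → ∀ W : Submodule F (Fin 8 → F), Module.finrank F W = 2 → Cfsg.Geo.IsNondegenerateOn (QuadraticMap.polar Q) W → Cfsg.Geo.IsPlusTypeOn Q W → Cfsg.Geo.IsMaximalIn (Cfsg.Geo.omegaGL Q) (Cfsg.Geo.subspaceStabilizer W ⊓ Cfsg.Geo.omegaGL Q)) ∧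
    (∀ W : Submodule F (Fin 8 → F), Module.finrank F W = 4 → Cfsg.Geo.IsNondegenerateOn (QuadraticMap.polar Q) W → Cfsg.Geo.IsMaximalIn (Cfsg.Geo.omegaGL Q) (Cfsg.Geo.subspaceStabilizer W ⊓ Cfsg.Geo.omegaGL Q)) ∧
    (¬ Odd (Fintype.card F) → ∀ v : (Fin 8 → F), Q v ≠ 0 → Cfsg.Geo.IsMaximalIn (Cfsg.Geo.omegaGL Q) (Cfsg.Geo.subspaceStabilizer (Submodule.span F {v}) ⊓ Cfsg.Geo.omegaGL Q)) ∧
    (Odd (Fintype.card F) → ∀ K : Subalgebra F (Matrix (Fin 8) (Fin 8) F), Cfsg.Geo.IsFieldSubalgebra 2 K → Cfsg.Geo.IsSelfAdjointFor (QuadraticMap.polar Q) K → Cfsg.Geo.IsMaximalIn (Cfsg.Geo.omegaGL Q) (Cfsg.Geo.subalgebraNormalizer K ⊓ Cfsg.Geo.omegaGL Q)) ∧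
    (∀ (F₀ : Subfield F) (r : ℕ) (P : Matrix.GeneralLinearGroup (Fin 8) F) (ζ : F), r.Prime → Odd r → Fintype.card F = Nat.card F₀ ^ r → ζ ≠ 0 → Cfsg.Geo.IsQuadFormRationalStructure (fun v : Fin 8 → F => ζ * Q v) F₀ P → Cfsg.Geo.IsMaximalIn (Cfsg.Geo.omegaGL Q) (Cfsg.Geo.subfieldSubgroup F₀ P ⊓ Cfsg.Geo.omegaGL Q)) := by
  have h8 : Fintype.card (Fin 8) = 8 := Fintype.card_fin 8
  set q := CfsgLib.AschbacherQuad.quadForm hQ
  have hq : (QuadraticMap.polarBilin q).Nondegenerate := CfsgLib.AschbacherQuad.quadForm_nondegenerate hQ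
  have hodd2 : Odd (Fintype.card F) → (2 : F) ≠ 0 := CfsgLib.MaxSub.two_ne_zero_of_odd
  have heven2 : ¬ Odd (Fintype.card F) → (2 : F) = 0 := fun h => by
    by_contra h2
    exact h (Nat.odd_iff.2 (FiniteField.odd_card_of_char_ne_two fun hr => h2 (by
      have := ringChar.of_eq hr
      exact CharTwo.two_eq_zero)))
  -- a singular vector in a plane makes it plus
  have hplane : ∀ {W : Submodule F (Fin 8 → F)}, Module.finrank F W = 2 →
      (∃ s ∈ W, s ≠ 0 ∧ q s = 0) → Cfsg.Geo.IsPlusTypeOn Q W := fun h2 ⟨s, hs, hs0, hsq⟩ =>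
    ⟨Submodule.span F {s}, (Submodule.span_singleton_le_iff_mem _ _).2 hs, fun x hx => by
      obtain ⟨c, rfl⟩ := Submodule.mem_span_singleton.1 hx
      show q (c • s) = 0
      rw [QuadraticMap.map_smul, hsq, smul_zero], by rw [finrank_span_singleton hs0, h2]⟩
  have htwo : ∀ W : Submodule F (Fin 8 → F), Module.finrank F W = 2 →
      Cfsg.Geo.IsNondegenerateOn (QuadraticMap.polar Q) W →
      (Fintype.card F ≤ 3 → ¬ Cfsg.Geo.IsPlusTypeOn Q W) →
      Cfsg.Geo.IsMaximalIn (Cfsg.Geo.omegaGL Q) (Cfsg.Geo.subspaceStabilizer W ⊓ Cfsg.Geo.omegaGL Q) := by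
    intro W hW2 hW hno
    have hd : Module.finrank F (CfsgLib.OrthMax.qperp q W) = 8 - Module.finrank F W :=
      (CfsgLib.OrthMax.finrank_qperp hq W).trans (by rw [h8])
    show Cfsg.Geo.IsMaximalIn (Cfsg.Geo.omegaGL ⇑q) (Cfsg.Geo.subspaceStabilizer W ⊓ Cfsg.Geo.omegaGL ⇑q)
    refine CfsgLib.OrthMax.isMaximalIn_nd (Q := q) (W := W) hq (CfsgLib.OrthMax.nd_of_isNondegenerateOn hW)
      (fun h => by rw [h, finrank_bot] at hW2; omega) (by omega) (by omega) (fun g _ h => ?_)
      (fun h => hno h.1 (hplane hW2 h.2.2))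
    have h1 := congrArg (fun X : Submodule F (Fin 8 → F) => Module.finrank F X) h
    simp only [CfsgLib.OmegaOrbits.finrank_gmap] at h1
    omega
  refine ⟨fun W h0 hW => ?_, fun ho W h0 h1 hWo hW => ?_, fun W hW2 hW hm => htwo W hW2 hW fun _ => hm,
    fun h4 W hW2 hW _ => htwo W hW2 hW fun h => absurd h (by omega), fun W hW4 hW => ?_,
    fun he v hv => ?_, fun ho K hK hsa => ?_, fun F₀ r P ζ hr ho hcard hζ hP => ?_⟩
  · exact CfsgLib.OrthMax.isMaximalIn_singular_fun hQ (by omega) h0 hW fun h => absurd h hminus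
  · have hd : Module.finrank F (CfsgLib.OrthMax.qperp q W) = 8 - Module.finrank F W :=
      (CfsgLib.OrthMax.finrank_qperp hq W).trans (by rw [h8])
    have hlt := Submodule.finrank_lt h1
    rw [Module.finrank_pi, h8] at hlt
    have hW' := CfsgLib.OrthMax.nd_of_isNondegenerateOn (Q := q) hW
    obtain ⟨j, hj⟩ := hWo
    by_cases hs : Module.finrank F W ≤ 3
    · show Cfsg.Geo.IsMaximalIn (Cfsg.Geo.omegaGL ⇑q) (Cfsg.Geo.subspaceStabilizer W ⊓ Cfsg.Geo.omegaGL ⇑q)
      refine CfsgLib.OrthMax.isMaximalIn_nd_small (hodd2 ho) hq (by omega) hW' h0 (by omega) (by omega)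
        (fun g _ h => ?_) (fun h => by omega)
      have h1 := congrArg (fun X : Submodule F (Fin 8 → F) => Module.finrank F X) h
      simp only [CfsgLib.OmegaOrbits.finrank_gmap] at h1
      omega
    · show Cfsg.Geo.IsMaximalIn (Cfsg.Geo.omegaGL ⇑q) (Cfsg.Geo.subspaceStabilizer W ⊓ Cfsg.Geo.omegaGL ⇑q)
      rw [CfsgLib.OrthMax.stab_inf_qperp hq W]
      have hpp : Module.finrank F (CfsgLib.OrthMax.qperp q (CfsgLib.OrthMax.qperp q W)) = Module.finrank F W := by
        rw [CfsgLib.OrthMax.qperp_qperp hq W]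
      refine CfsgLib.OrthMax.isMaximalIn_nd_small (hodd2 ho) hq (by omega) (hW'.qperp' hq)
        (fun h => by rw [h, finrank_bot] at hd; omega) (by omega) (by omega)
        (fun g _ h => ?_) (fun h => by omega)
      have h1 := congrArg (fun X : Submodule F (Fin 8 → F) => Module.finrank F X) h
      simp only [CfsgLib.OmegaOrbits.finrank_gmap] at h1
      omega
  · by_cases h2 : (2 : F) = 0
    · exact CfsgLib.OrthMax.isMaximalIn_nd_four_fun h2 hQ h8 hminus hW hW4
    · have hd : Module.finrank F (CfsgLib.OrthMax.qperp q W) = 8 - Module.finrank F W :=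
        (CfsgLib.OrthMax.finrank_qperp hq W).trans (by rw [h8])
      have hW' := CfsgLib.OrthMax.nd_of_isNondegenerateOn (Q := q) hW
      show Cfsg.Geo.IsMaximalIn (Cfsg.Geo.omegaGL ⇑q) (Cfsg.Geo.subspaceStabilizer W ⊓ Cfsg.Geo.omegaGL ⇑q)
      refine CfsgLib.OrthMax.isMaximalIn_nd_small h2 hq (by omega) hW'
        (fun h => by rw [h, finrank_bot] at hW4; omega) (by omega) (by omega)
        (fun g _ hg => ?_) (fun h => by omega)
      obtain ⟨T, hT, hTd⟩ := CfsgLib.OrthMax.exists_lag_of_isometric_halves (Q := q) (hW'.qperp' hq) g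
        (by rw [hg, inf_comm]; exact hW'.inf_qperp)
        (fun u hu v hv => by
          rw [QuadraticMap.polar_comm]
          exact CfsgLib.OrthMax.mem_qperp.1 hu _ (hg ▸ Submodule.mem_map_of_mem
            (f := Matrix.mulVecLin (CfsgLib.Spinor.mat q g)) hv))
        (by rw [hd, hW4]; decide)
      exact hminus ⟨T, le_top, hT, by rw [finrank_top, Module.finrank_pi]; omega⟩
  · exact CfsgLib.OrthMax.isMaximalIn_nonsingular_fun hQ (by omega) (heven2 he) hv
  · exact CfsgLib.OrthExtFour.isMaximalIn_orth_ext_four (Q := q) ho hq hminus hK hsa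
  · exact CfsgLib.OrthSubfield.isMaximalIn_subfield_of_eight hQ hr (Or.inl ⟨h8, ho⟩) hcard hζ hP

end Cfsg.Agent.S5825
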