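import Cfsg.Statements.S5829
import Cfsg.Agent.Aschbacher.LinearPrimePower

set_option autoImplicit false
open Cfsg

namespace Cfsg.Agent.S5829

/-- Every maximal subgroup of SL_9(q) is of one of the listed geometric types or lies in the residual class. Let F be a finite field with q elements (p its characteristic) and H a maximal subgroup of SL_9(F) (inside GL_9(F)). Then H is the intersection with SL_9(F) of one of: the stabiliser of a proper non-zero subspace; for q ≥ 5, the stabiliser of a decomposition into 9 independent 1-spaces; the stabiliser of a decomposition into 3 independent 3-spaces; the normaliser of a degree-3 subfield of the matrix algebra; a subfield group for a subfield F₀ with |F| = |F₀|^r, r prime; for q = p prime with p ≡ 1 mod 3, the normaliser of an absolutely irreducible 3-subgroup R of exponent 3 and order 3^(1+2m) with centre of order 3, all of whose characteristic abelian subgroups are cyclic, F being the smallest field of characteristic p containing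 the cube roots of unity (here R is extraspecial of order 3^5); the stabiliser of a tensor decomposition into 2 factors of dimension 3; for q odd, the similarity group of a non-degenerate quadratic form; the similarity group of a non-degenerate unitary form — or else H lies in the residual class of the linear case (modulo scalars H is almost simple, with absolutely irreducible perfect socle preimage realisable over no proper subfield and fixing no non-degenerate quadratic, symplectic or unitary form). -/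
theorem result {F : Type*} [Field F] [Fintype F] (H : Subgroup (Matrix.GeneralLinearGroup (Fin 9) F)) (hH : Cfsg.Geo.IsMaximalIn (Cfsg.Geo.specialLinear (Fin 9) F) H) :
    (∃ W : Submodule F (Fin 9 → F), W ≠ ⊥ ∧ W ≠ ⊤ ∧ H = Cfsg.Geo.subspaceStabilizer W ⊓ Cfsg.Geo.specialLinear (Fin 9) F) ∨
    (5 ≤ Fintype.card F ∧ ∃ D : Fin 9 → Submodule F (Fin 9 → F), Cfsg.Geo.IsMDecomposition 1 D ∧ H = Cfsg.Geo.decompositionStabilizer D ⊓ Cfsg.Geo.specialLinear (Fin 9) F) ∨
    (∃ D : Fin 3 → Submodule F (Fin 9 → F), Cfsg.Geo.IsMDecomposition 3 D ∧ H = Cfsg.Geo.decompositionStabilizer D ⊓ Cfsg.Geo.specialLinear (Fin 9) F) ∨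
    (∃ K : Subalgebra F (Matrix (Fin 9) (Fin 9) F), Cfsg.Geo.IsFieldSubalgebra 3 K ∧ H = Cfsg.Geo.subalgebraNormalizer K ⊓ Cfsg.Geo.specialLinear (Fin 9) F) ∨
    (∃ (F₀ : Subfield F) (r : ℕ) (P : Matrix.GeneralLinearGroup (Fin 9) F), r.Prime ∧ Fintype.card F = Nat.card F₀ ^ r ∧ H = Cfsg.Geo.subfieldSubgroup F₀ P ⊓ Cfsg.Geo.specialLinear (Fin 9) F) ∨
    ((∃ p : ℕ, p.Prime ∧ Fintype.card F = p ∧ (p % 3 = 1)) ∧ ∃ R : Subgroup (Matrix.GeneralLinearGroup (Fin 9) F), Cfsg.Geo.IsLinearSymplecticTypeData 3 R ∧ H = Cfsg.Geo.subgroupNormalizer R ⊓ Cfsg.Geo.specialLinear (Fin 9) F) ∨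
    (∃ (e : Fin 9 ≃ (Fin 2 → Fin 3)) (P : Matrix.GeneralLinearGroup (Fin 9) F), H = Cfsg.Geo.tensorWreathSubgroup 3 2 e P ⊓ Cfsg.Geo.specialLinear (Fin 9) F) ∨
    (Odd (Fintype.card F) ∧ ∃ Q : (Fin 9 → F) → F, Cfsg.Geo.IsNondegenerateQuadraticForm Q ∧ H = Cfsg.Geo.quadSimilarityGroup Q ⊓ Cfsg.Geo.specialLinear (Fin 9) F) ∨
    (∃ (σ : F ≃+* F) (f : (Fin 9 → F) → (Fin 9 → F) → F), Cfsg.Geo.IsUnitaryForm σ f ∧ H = Cfsg.Geo.similarityGroup f ⊓ Cfsg.Geo.specialLinear (Fin 9) F) ∨
    Cfsg.Geo.InLinearResidualClass H := by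
  rcases CfsgLib.Aschbacher.linear_structure_cases (by norm_num) hH with
    h | ⟨t, m, D, htm, hD, h1, -, hEq⟩ | ⟨r, K, hr, hrd, hK, hEq⟩ | ⟨k, d, e, P, hk, hkd, hmul, -, -⟩ |
    h | ⟨r, m, R, hm, hR, hEq⟩ | ⟨d, t, e, P, hd, ht, hdt, hEq⟩ | h | ⟨f, hf, -⟩ | h | h
  · exact Or.inl h
  · have hm := hD.pos
    have ht := hD.two_le
    have htle : t ≤ 9 := htm ▸ Nat.le_mul_of_pos_right t hm
    interval_cases t
    · exfalso; omega
    · obtain rfl : m = 3 := by omega
      exact Or.inr (Or.inr (Or.inl (⟨D, hD, hEq⟩)))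
    all_goals try (exfalso; omega)
    obtain rfl : m = 1 := by omega
    exact Or.inr (Or.inl (⟨h1 rfl, D, hD, hEq⟩))
  · obtain rfl : r = 3 := (Nat.prime_dvd_prime_iff_eq hr Nat.prime_three).1 (hr.dvd_of_dvd_pow (show r ∣ 3 ^ 2 from hrd))
    exact Or.inr (Or.inr (Or.inr (Or.inl (⟨K, hK, hEq⟩))))
  · exfalso
    have : k ≤ 2 := by nlinarith
    have : k = 2 := by omega
    subst this
    omega
  · exact Or.inr (Or.inr (Or.inr (Or.inr (Or.inl (h)))))
  · obtain rfl : r = 3 := by
      have hrp := hR.symplecticType.prime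
      have h4 : r ∣ 3 ^ 2 := by
        rw [show (3 : ℕ) ^ 2 = r ^ m by rw [← hm]; norm_num]
        exact dvd_pow_self r fun h0 => by rw [h0] at hm; simp at hm
      exact (Nat.prime_dvd_prime_iff_eq hrp (by norm_num)).1 (hrp.dvd_of_dvd_pow h4)
    obtain ⟨p, e, -, ⟨hp, hchar, hcard, hz, hmin⟩, hkind⟩ := hR.field
    rcases hkind with ⟨-, he, hc, -⟩ | ⟨h32, -⟩ | ⟨h32, -⟩
    · rw [hc] at hz hmin
      have he1 : e = 1 := by
        by_contra hne
        have he3 : 2 < e := by rcases he with ⟨a, ha⟩; omega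
        have hp3 : ¬ 3 ∣ p := fun hd => by
          have h3 : 3 ∣ p ^ e := dvd_pow hd (by omega)
          have := hp.pos
          have : 1 ≤ p ^ e := Nat.one_le_pow _ _ hp.pos
          omega
        refine hmin 2 two_pos he3 ?_
        have hp0 : (p : ZMod 3) ≠ 0 := by rwa [Ne, ZMod.natCast_eq_zero_iff]
        have h2 : (p : ZMod 3) ^ 2 = 1 := ZMod.pow_card_sub_one_eq_one hp0
        rw [← ZMod.natCast_eq_zero_iff, Nat.cast_sub (Nat.one_le_pow _ _ hp.pos), Nat.cast_pow, h2, Nat.cast_one, sub_self]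
      subst he1
      rw [pow_one] at hz hcard
      exact Or.inr (Or.inr (Or.inr (Or.inr (Or.inr (Or.inl (⟨⟨p, hp, hcard, by have := hp.two_le; omega⟩, R, hR, hEq⟩))))))
    · exact absurd h32 (by norm_num)
    · exact absurd h32 (by norm_num)
  · have ht2 : t = 2 := by
      by_contra hne
      have h9 := Nat.pow_le_pow_left hd t
      have := Nat.pow_le_pow_right (n := 3) (by norm_num) (show 3 ≤ t by omega)
      omega
    subst ht2
    obtain rfl : d = 3 := by nlinarith
    exact Or.inr (Or.inr (Or.inr (Or.inr (Or.inr (Or.inr (Or.inl (⟨e, P, hEq⟩)))))))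
  · exact Or.inr (Or.inr (Or.inr (Or.inr (Or.inr (Or.inr (Or.inr (Or.inl (h))))))))
  · exact (CfsgLib.Aschbacher.no_symplectic_of_odd hf (by simp; decide)).elim
  · exact Or.inr (Or.inr (Or.inr (Or.inr (Or.inr (Or.inr (Or.inr (Or.inr (Or.inl (h)))))))))
  · exact Or.inr (Or.inr (Or.inr (Or.inr (Or.inr (Or.inr (Or.inr (Or.inr (Or.inr (h)))))))))

end Cfsg.Agent.S5829
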