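import Cfsg.Statements.S5832
import Cfsg.Agent.AschbacherUnitary.Cases

set_option autoImplicit false
open Cfsg

namespace Cfsg.Agent.S5832

/-- Every maximal subgroup of SU_9(q) is of one of the listed geometric types or lies in the residual class. Let F be the field with q² elements, f the standard unitary form Σ u_i v_i^q on F^9, and H a maximal subgroup of SU_9(q) (inside GL_9(F)). Then H is the intersection with SU_9(q) of one of: the stabiliser of a non-zero totally isotropic subspace; the stabiliser of a non-degenerate 1-, 2-, 3- or 4-space; the stabiliser of a decomposition into nine mutually orthogonal non-degenerate 1-spaces; of a decomposition into three mutually orthogonal non-degenerate 3-spaces; the normaliser of an adjoint-closed degree-3 subfield of the matrix algebra; a subfield group of odd prime index whose F₀-structure carries f; for q odd, a subfield group of index 2 whose F₀-structure carries f; for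 q = p ≡ 2 mod 3 prime, the normaliser of an absolutely irreducible extraspecial group 3_+^(1+4) of exponent 3 inside the similarity group of f; for q ≥ 3, the stabiliser of a tensor decomposition of f as a tensor square of a unitary form on F^3 — or else H lies in the residual class of the unitary case. -/
theorem result {F : Type*} [Field F] [Fintype F] (q : ℕ) (hF : Fintype.card F = q ^ 2) (H : Subgroup (Matrix.GeneralLinearGroup (Fin 9) F)) (hH : Cfsg.Geo.IsMaximalIn (Cfsg.GU 9 F q ⊓ Cfsg.Geo.specialLinear (Fin 9) F) H) :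
    (∃ W : Submodule F (Fin 9 → F), W ≠ ⊥ ∧ Cfsg.Geo.IsTotallySingularFor (Cfsg.hermForm 9 F q) W ∧ H = Cfsg.Geo.subspaceStabilizer W ⊓ (Cfsg.GU 9 F q ⊓ Cfsg.Geo.specialLinear (Fin 9) F)) ∨
    (∃ W : Submodule F (Fin 9 → F), W ≠ ⊥ ∧ Cfsg.Geo.IsNondegenerateOn (Cfsg.hermForm 9 F q) W ∧ 2 * Module.finrank F W < 9 ∧ H = Cfsg.Geo.subspaceStabilizer W ⊓ (Cfsg.GU 9 F q ⊓ Cfsg.Geo.specialLinear (Fin 9) F)) ∨
    (∃ D : Fin 9 → Submodule F (Fin 9 → F), Cfsg.Geo.IsNondegenerateMDecomposition (Cfsg.hermForm 9 F q) 1 D ∧ H = Cfsg.Geo.decompositionStabilizer D ⊓ (Cfsg.GU 9 F q ⊓ Cfsg.Geo.specialLinear (Fin 9) F)) ∨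
    (∃ D : Fin 3 → Submodule F (Fin 9 → F), Cfsg.Geo.IsNondegenerateMDecomposition (Cfsg.hermForm 9 F q) 3 D ∧ H = Cfsg.Geo.decompositionStabilizer D ⊓ (Cfsg.GU 9 F q ⊓ Cfsg.Geo.specialLinear (Fin 9) F)) ∨
    (∃ K : Subalgebra F (Matrix (Fin 9) (Fin 9) F), Cfsg.Geo.IsFieldSubalgebra 3 K ∧ Cfsg.Geo.IsAdjointClosedFor (Cfsg.hermForm 9 F q) K ∧ H = Cfsg.Geo.subalgebraNormalizer K ⊓ (Cfsg.GU 9 F q ⊓ Cfsg.Geo.specialLinear (Fin 9) F)) ∨
    (∃ (F₀ : Subfield F) (r : ℕ) (P : Matrix.GeneralLinearGroup (Fin 9) F), r.Prime ∧ Odd r ∧ Fintype.card F = Nat.card F₀ ^ r ∧ Cfsg.Geo.IsFormRationalStructure (Cfsg.hermForm 9 F q) F₀ 1 P ∧ H = Cfsg.Geo.subfieldSubgroup F₀ P ⊓ (Cfsg.GU 9 F q ⊓ Cfsg.Geo.specialLinear (Fin 9) F)) ∨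
    (Odd q ∧ ∃ (F₀ : Subfield F) (P : Matrix.GeneralLinearGroup (Fin 9) F), Fintype.card F = Nat.card F₀ ^ 2 ∧ Cfsg.Geo.IsFormRationalStructure (Cfsg.hermForm 9 F q) F₀ 1 P ∧ H = Cfsg.Geo.subfieldSubgroup F₀ P ⊓ (Cfsg.GU 9 F q ⊓ Cfsg.Geo.specialLinear (Fin 9) F)) ∨
    (∃ (p : ℕ) (R : Subgroup (Matrix.GeneralLinearGroup (Fin 9) F)), p.Prime ∧ q = p ∧ p % 3 = 2 ∧ Cfsg.Geo.IsSymplecticTypeGroup 3 R ∧ Cfsg.Geo.ActsAbsolutelyIrreducibly (Cfsg.Geo.matrixSet R) ∧ R ≤ Cfsg.Geo.similarityGroup (Cfsg.hermForm 9 F q) ∧ Nat.card R = 243 ∧ Nat.card (Subgroup.center R) = 3 ∧ H = Cfsg.Geo.subgroupNormalizer R ⊓ (Cfsg.GU 9 F q ⊓ Cfsg.Geo.specialLinear (Fin 9) F)) ∨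
    (3 ≤ q ∧ ∃ (e : Fin 9 ≃ (Fin 2 → Fin 3)) (P : Matrix.GeneralLinearGroup (Fin 9) F) (f₁ : (Fin 3 → F) → (Fin 3 → F) → F), Cfsg.Geo.IsUnitaryFormPow q f₁ ∧ Cfsg.Geo.IsTensorPowerFormStructure (fun x : F => x ^ q) (Cfsg.hermForm 9 F q) f₁ e P ∧ H = Cfsg.Geo.tensorWreathSubgroup 3 2 e P ⊓ (Cfsg.GU 9 F q ⊓ Cfsg.Geo.specialLinear (Fin 9) F)) ∨
    Cfsg.Geo.InUnitaryResidualClass H := by
  classical
  obtain ⟨σ, hσ⟩ := CfsgLib.AschbacherUnitary.exists_isConj hF
  have hq1 := hσ.one_lt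
  rcases CfsgLib.AschbacherUnitary.maximal_cases hF (by norm_num) hH with
    h | h | ⟨t, k, D, hD, htk, hEq⟩ | ⟨k, D, hk, -⟩ | h | h | ⟨F₀, P, ζ, -, -, -, -, hd, -⟩ |
    ⟨r, R, p, e, k, hR, habs, hsim, -, hmin, hdata, hn, hEq⟩ | ⟨r, K, hr, -, hrd, hK, hadj, hEq⟩ |
    ⟨n₁, n₂, e, P, f₁, f₂, h1, h12, hnn, -⟩ | ⟨d, t, e, P, f₁, hd, ht, hex, hdt, hf₁, hstr, hEq⟩ | h
  · exact Or.inl h
  · exact Or.inr (Or.inl h)
  · have ht := hD.decomp.two_le
    have hdv : t ∣ 9 := ⟨k, htk.symm⟩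
    have htl := Nat.le_of_dvd (by norm_num) hdv
    interval_cases t <;> try omega
    · obtain rfl : k = 3 := by omega
      exact Or.inr (Or.inr (Or.inr (Or.inl ⟨D, hD, hEq⟩)))
    · obtain rfl : k = 1 := by omega
      exact Or.inr (Or.inr (Or.inl ⟨D, hD, hEq⟩))
  · omega
  · exact Or.inr (Or.inr (Or.inr (Or.inr (Or.inr (Or.inl h)))))
  · exact Or.inr (Or.inr (Or.inr (Or.inr (Or.inr (Or.inr (Or.inl h))))))
  · exfalso
    have hev := CfsgLib.MaxSub.even_of_diag_zero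
      (CfsgLib.AschbacherForms.isReflexive_unitary (hσ.unitary (n := 9))) hd
    rw [Fintype.card_fin] at hev
    exact (by decide : ¬ Even 9) hev
  · have hrp := hR.prime
    have hr3 : r = 3 := by
      refine (Nat.prime_dvd_prime_iff_eq Nat.prime_three hrp).1 (Nat.prime_three.dvd_of_dvd_pow (n := k) ?_) |>.symm
      rw [← hn]; norm_num
    subst hr3
    have hk : k = 2 := Nat.pow_right_injective (le_refl 2 |>.trans (by norm_num : 2 ≤ 3)) (hn.symm.trans (by norm_num))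
    subst hk
    obtain ⟨hz, hc⟩ : Nat.card (Subgroup.center R) = 3 ∧ Nat.card R = 3 ^ (1 + 2 * 2) := by
      rcases hdata with ⟨-, hz, -, hc⟩ | ⟨h2, -⟩
      · exact ⟨hz, hc⟩
      · exact absurd h2 (by norm_num)
    obtain ⟨hp, -, hcF, hdv, hmin'⟩ := hmin
    rw [hz] at hdv
    have he2 : e ≤ 2 := by
      by_contra hlt
      refine hmin' 2 two_pos (by omega) ?_
      rw [hz, ← Nat.modEq_iff_dvd' (Nat.one_le_pow _ _ hp.pos)]
      have hp3 : p % 3 ≠ 0 := fun h0 => by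
        obtain rfl := (Nat.prime_dvd_prime_iff_eq Nat.prime_three hp).1 (Nat.dvd_of_mod_eq_zero h0)
        have h1 : 3 ∣ 3 ^ e := dvd_pow_self 3 (by omega)
        have h2 := Nat.dvd_sub h1 hdv
        have h3 : 1 ≤ 3 ^ e := Nat.one_le_pow _ _ (by norm_num)
        rw [Nat.sub_sub_self h3] at h2
        norm_num at h2
      unfold Nat.ModEq
      rw [Nat.pow_mod]
      have := Nat.mod_lt p (show 3 > 0 by norm_num)
      interval_cases h : p % 3 <;> simp_all
    have hqe : q ^ 2 = p ^ e := hF.symm.trans hcF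
    rcases (show e = 0 ∨ e = 1 ∨ e = 2 by omega) with rfl | rfl | rfl
    · rw [pow_zero] at hqe
      nlinarith
    · rw [pow_one] at hqe
      rw [← hqe] at hp
      exact absurd hp (by rw [pow_two]; exact Nat.not_prime_mul (by omega) (by omega))
    · obtain rfl : q = p := Nat.pow_left_injective two_ne_zero hqe
      have hp2 : q % 3 = 2 := by
        have hm := Nat.mod_lt q (show 3 > 0 by norm_num)
        interval_cases h : q % 3
        · exfalso
          obtain rfl := (Nat.prime_dvd_prime_iff_eq Nat.prime_three hp).1 (Nat.dvd_of_mod_eq_zero h)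
          norm_num at hdv
        · exfalso
          refine hmin' 1 one_pos (by norm_num) ?_
          rw [hz, pow_one]
          omega
        · rfl
      exact Or.inr (Or.inr (Or.inr (Or.inr (Or.inr (Or.inr (Or.inr (Or.inl
        ⟨q, R, hp, rfl, hp2, hR, habs, hsim, hc, hz, hEq⟩)))))))
  · obtain rfl : r = 3 := by
      refine (Nat.prime_dvd_prime_iff_eq hr Nat.prime_three).1 (hr.dvd_of_dvd_pow (n := 2) ?_)
      norm_num; exact hrd
    exact Or.inr (Or.inr (Or.inr (Or.inr (Or.inl ⟨K, hK, hadj, hEq⟩))))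
  · have hl : n₁ ≤ 3 := by nlinarith
    interval_cases n₁ <;> omega
  · obtain ⟨rfl, rfl⟩ : d = 3 ∧ t = 2 := by
      have ht3 : 3 ^ t ≤ 9 := hdt ▸ Nat.pow_le_pow_left hd t
      have ht' : t ≤ 2 := by
        by_contra hlt
        have := Nat.pow_le_pow_right (show 1 ≤ 3 by norm_num) (show 3 ≤ t by omega)
        omega
      obtain rfl : t = 2 := by omega
      exact ⟨Nat.pow_left_injective two_ne_zero (hdt.trans (by norm_num : 9 = 3 ^ 2)), rfl⟩
    exact Or.inr (Or.inr (Or.inr (Or.inr (Or.inr (Or.inr (Or.inr (Or.inr (Or.inl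
      ⟨by have := hq1; by_contra hq; exact hex ⟨by omega, rfl⟩, e, P, f₁, hf₁, hstr, hEq⟩))))))))
  · exact Or.inr (Or.inr (Or.inr (Or.inr (Or.inr (Or.inr (Or.inr (Or.inr (Or.inr h))))))))

end Cfsg.Agent.S5832
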