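import Cfsg.Statements.S5849
import Cfsg.Agent.OrthMax.TotallySingular
import Cfsg.Agent.OrthMax.NonsingularVector
import Cfsg.Agent.OrthMax.NondegenerateWrap
import Cfsg.Agent.OrthMax.DecompWrap
import Cfsg.Agent.OrthMax.UnitaryField
import Cfsg.Agent.OrthMono.Maximal
import Cfsg.Agent.OrthSubfield.Maximal
import Cfsg.Agent.OrthExtTwo.Maximal

set_option autoImplicit false
set_option maxHeartbeats 1000000
open Cfsg

namespace Cfsg.Agent.S5849

open Module Matrix CfsgLib.OrthMax in
/-- Singular points in every plane of an orthogonal decomposition span a maximal totally singular subspace. -/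
theorem plus_top_of_all {F : Type*} [Field F] {ι : Type} [Fintype ι] [DecidableEq ι]
    {Q : QuadraticForm F (ι → F)} {t : ℕ} {D : Fin t → Submodule F (ι → F)} (h : DSys Q 2 D)
    (ht : Fintype.card ι = t * 2) (hall : ∀ i, Cfsg.Geo.IsPlusTypeOn (⇑Q) (D i)) :
    Cfsg.Geo.IsPlusTypeOn (⇑Q) ⊤ := by
  have hs : ∀ i, ∃ s ∈ D i, s ≠ 0 ∧ Q s = 0 := fun i => by
    obtain ⟨U, hU, hUq, hUd⟩ := hall i
    rw [h.dim] at hUd
    obtain ⟨s, hs, hs0⟩ := Submodule.exists_mem_ne_zero_of_ne_bot (p := U) (fun e => by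
      rw [e, finrank_bot] at hUd; omega)
    exact ⟨s, hU hs, hs0, hUq s hs⟩
  choose s hsD hs0 hsq using hs
  let L : (Fin t → F) →ₗ[F] (ι → F) := Fintype.linearCombination F s
  have hL : ∀ c, L c = ∑ i, c i • s i := fun c => Fintype.linearCombination_apply F s c
  have hinj : Function.Injective L := LinearMap.ker_eq_bot.1 ((Submodule.eq_bot_iff _).2 fun c hc => by
    funext i
    obtain ⟨x, hx, hx1⟩ := (h.nd i).exists_polar_one (hsD i) (hs0 i)
    have h1 := h.polar_comp (fun j => (D j).smul_mem (c j) (hsD j)) hx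
    rw [← hL, LinearMap.mem_ker.1 hc, QuadraticMap.polar_zero_right, QuadraticMap.polar_smul_right,
      QuadraticMap.polar_comm (⇑Q) x, hx1, smul_eq_mul, mul_one] at h1
    exact h1.symm)
  refine ⟨LinearMap.range L, le_top, ?_, ?_⟩
  · rintro _ ⟨c, rfl⟩
    show Q (L c) = 0
    rw [hL, h.quad_comp (fun j => (D j).smul_mem (c j) (hsD j))]
    exact Finset.sum_eq_zero fun j _ => by rw [QuadraticMap.map_smul, hsq, smul_zero]
  · rw [LinearMap.finrank_range_of_inj hinj, Module.finrank_pi, finrank_top, Module.finrank_pi, ht,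
      Fintype.card_fin, mul_comm]

/-- Maximal subgroups of Ω_10^-(q) of geometric type (any q). Let F be a finite field with q elements (characteristic p), Q a non-degenerate quadratic form on F^10 (non-degenerate polar form) of minus type (Witt index 4: no totally singular 5-space), and Ω = Ω_10^-(q) the commutator subgroup of the isometry group of Q, inside GL_10(F). Each of the following, intersected with Ω, is a maximal subgroup of Ω: (1) the stabiliser of any non-zero subspace on which Q vanishes identically (totally singular subspaces, dimensions 1 to 4); (2) for q odd, the stabiliser of any proper subspace of odd dimension other than 5 on which the polar form of Q is non-degenerate; (3) the stabiliser of any non-degenerate 2-space of minus type (containing no non-zero singular vector); (4) for q ≥ 4, the stabiliser of any non-degenerate 2-space of plus type (containing a non-zero singular vector); (5) the stabiliser of any non-degenerate 4-space (either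 type); (6) for q even, the stabiliser of the 1-space spanned by any non-singular vector v (Q(v) ≠ 0); (7) for q = p prime with p ≡ 3 mod 4, the stabiliser of any decomposition of F^10 into 10 pairwise orthogonal, pairwise Q-isometric non-degenerate 1-spaces; (8) for q ≠ 3, the stabiliser of any decomposition of F^10 into 5 pairwise orthogonal, pairwise Q-isometric non-degenerate 2-spaces; (9) for q ≡ 3 mod 4, the stabiliser of any decomposition of F^10 into 2 pairwise orthogonal, pairwise Q-isometric non-degenerate 5-spaces; (10) for q ≡ 1 mod 4, the stabiliser of any decomposition of F^10 into two orthogonal non-degenerate 5-spaces that are not Q-isometric; (11) for q odd, the normaliser of any degree-2 subfield K of the matrix algebra whose elements are self-adjoint for the polar form of Q (Q is then the trace of a quadratic form over K); (12) the normaliser of any degree-2 subfield K of the matrix algebra, closed under adjoints for the polar form but not self-adjoint,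 whose elements act as similarities of Q (so F^10 becomes a 5-dimensional space over K with a hermitian form, and the subgroup is of the type of the unitary group GU_5(q)); (13) every subfield group for a subfield F₀ with |F| = |F₀|^r, r an odd prime, whose F₀-structure carries a non-zero scalar multiple of Q. -/
theorem result {F : Type*} [Field F] [Fintype F] (Q : (Fin 10 → F) → F) (hQ : Cfsg.Geo.IsNondegenerateQuadraticForm Q) (hminus : ¬ Cfsg.Geo.IsPlusTypeOn Q ⊤) :
    (∀ W : Submodule F (Fin 10 → F), W ≠ ⊥ → Cfsg.Geo.IsTotallySingularQuad Q W → Cfsg.Geo.IsMaximalIn (Cfsg.Geo.omegaGL Q) (Cfsg.Geo.subspaceStabilizer W ⊓ Cfsg.Geo.omegaGL Q)) ∧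
    (Odd (Fintype.card F) → ∀ W : Submodule F (Fin 10 → F), W ≠ ⊥ → W ≠ ⊤ → Odd (Module.finrank F W) → 2 * Module.finrank F W ≠ 10 → Cfsg.Geo.IsNondegenerateOn (QuadraticMap.polar Q) W → Cfsg.Geo.IsMaximalIn (Cfsg.Geo.omegaGL Q) (Cfsg.Geo.subspaceStabilizer W ⊓ Cfsg.Geo.omegaGL Q)) ∧
    (∀ W : Submodule F (Fin 10 → F), Module.finrank F W = 2 → Cfsg.Geo.IsNondegenerateOn (QuadraticMap.polar Q) W → ¬ Cfsg.Geo.IsPlusTypeOn Q W → Cfsg.Geo.IsMaximalIn (Cfsg.Geo.omegaGL Q) (Cfsg.Geo.subspaceStabilizer W ⊓ Cfsg.Geo.omegaGL Q)) ∧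
    (4 ≤ Fintype.card F → ∀ W : Submodule F (Fin 10 → F), Module.finrank F W = 2 → Cfsg.Geo.IsNondegenerateOn (QuadraticMap.polar Q) W → Cfsg.Geo.IsPlusTypeOn Q W → Cfsg.Geo.IsMaximalIn (Cfsg.Geo.omegaGL Q) (Cfsg.Geo.subspaceStabilizer W ⊓ Cfsg.Geo.omegaGL Q)) ∧
    (∀ W : Submodule F (Fin 10 → F), Module.finrank F W = 4 → Cfsg.Geo.IsNondegenerateOn (QuadraticMap.polar Q) W → Cfsg.Geo.IsMaximalIn (Cfsg.Geo.omegaGL Q) (Cfsg.Geo.subspaceStabilizer W ⊓ Cfsg.Geo.omegaGL Q)) ∧
    (¬ Odd (Fintype.card F) → ∀ v : (Fin 10 → F), Q v ≠ 0 → Cfsg.Geo.IsMaximalIn (Cfsg.Geo.omegaGL Q) (Cfsg.Geo.subspaceStabilizer (Submodule.span F {v}) ⊓ Cfsg.Geo.omegaGL Q)) ∧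
    ((∃ p : ℕ, p.Prime ∧ Fintype.card F = p ∧ (p % 4 = 3)) → ∀ D : Fin 10 → Submodule F (Fin 10 → F), Cfsg.Geo.IsOrthogonalMDecomposition Q 1 D → Cfsg.Geo.IsMaximalIn (Cfsg.Geo.omegaGL Q) (Cfsg.Geo.decompositionStabilizer D ⊓ Cfsg.Geo.omegaGL Q)) ∧
    (Fintype.card F ≠ 3 → ∀ D : Fin 5 → Submodule F (Fin 10 → F), Cfsg.Geo.IsOrthogonalMDecomposition Q 2 D → Cfsg.Geo.IsMaximalIn (Cfsg.Geo.omegaGL Q) (Cfsg.Geo.decompositionStabilizer D ⊓ Cfsg.Geo.omegaGL Q)) ∧
    (Fintype.card F % 4 = 3 → ∀ D : Fin 2 → Submodule F (Fin 10 → F), Cfsg.Geo.IsOrthogonalMDecomposition Q 5 D → Cfsg.Geo.IsMaximalIn (Cfsg.Geo.omegaGL Q) (Cfsg.Geo.decompositionStabilizer D ⊓ Cfsg.Geo.omegaGL Q)) ∧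
    (Fintype.card F % 4 = 1 → ∀ D : Fin 2 → Submodule F (Fin 10 → F), Cfsg.Geo.IsNondegenerateMDecomposition (QuadraticMap.polar Q) 5 D → ¬ Cfsg.Geo.AreIsometricFor Q (D 0) (D 1) → Cfsg.Geo.IsMaximalIn (Cfsg.Geo.omegaGL Q) (Cfsg.Geo.decompositionStabilizer D ⊓ Cfsg.Geo.omegaGL Q)) ∧
    (Odd (Fintype.card F) → ∀ K : Subalgebra F (Matrix (Fin 10) (Fin 10) F), Cfsg.Geo.IsFieldSubalgebra 2 K → Cfsg.Geo.IsSelfAdjointFor (QuadraticMap.polar Q) K → Cfsg.Geo.IsMaximalIn (Cfsg.Geo.omegaGL Q) (Cfsg.Geo.subalgebraNormalizer K ⊓ Cfsg.Geo.omegaGL Q)) ∧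
    (∀ K : Subalgebra F (Matrix (Fin 10) (Fin 10) F), Cfsg.Geo.IsFieldSubalgebra 2 K → Cfsg.Geo.IsAdjointClosedFor (QuadraticMap.polar Q) K → ¬ Cfsg.Geo.IsSelfAdjointFor (QuadraticMap.polar Q) K → (∀ k ∈ K, ∃ c : F, ∀ v : (Fin 10 → F), Q (Matrix.mulVec k v) = c * Q v) → Cfsg.Geo.IsMaximalIn (Cfsg.Geo.omegaGL Q) (Cfsg.Geo.subalgebraNormalizer K ⊓ Cfsg.Geo.omegaGL Q)) ∧
    (∀ (F₀ : Subfield F) (r : ℕ) (P : Matrix.GeneralLinearGroup (Fin 10) F) (ζ : F), r.Prime → Odd r → Fintype.card F = Nat.card F₀ ^ r → ζ ≠ 0 → Cfsg.Geo.IsQuadFormRationalStructure (fun v : Fin 10 → F => ζ * Q v) F₀ P → Cfsg.Geo.IsMaximalIn (Cfsg.Geo.omegaGL Q) (Cfsg.Geo.subfieldSubgroup F₀ P ⊓ Cfsg.Geo.omegaGL Q)) := by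
  have hn : Fintype.card (Fin 10) = 10 := Fintype.card_fin 10
  have hodd2 : Odd (Fintype.card F) → (2 : F) ≠ 0 := CfsgLib.MaxSub.two_ne_zero_of_odd
  have heven2 : ¬ Odd (Fintype.card F) → (2 : F) = 0 := fun h => by
    by_contra h2
    exact h (Nat.odd_iff.2 (FiniteField.odd_card_of_char_ne_two fun hr => h2 (by
      have := ringChar.of_eq hr
      exact CharTwo.two_eq_zero)))
  have hnd : ∀ W : Submodule F (Fin 10 → F), W ≠ ⊥ → W ≠ ⊤ →
      Cfsg.Geo.IsNondegenerateOn (QuadraticMap.polar Q) W →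
      (2 * Module.finrank F W = 10 → Even (Module.finrank F W)) →
      (Fintype.card F ≤ 3 → Module.finrank F W = 2 → ¬ Cfsg.Geo.IsPlusTypeOn Q W) →
      (Fintype.card F ≤ 3 → Module.finrank F W ≠ 8) →
      Cfsg.Geo.IsMaximalIn (Cfsg.Geo.omegaGL Q) (Cfsg.Geo.subspaceStabilizer W ⊓ Cfsg.Geo.omegaGL Q) :=
    fun W h0 h1 hW hhalf hP hP' => CfsgLib.OrthMax.isMaximalIn_nd_fun hQ (by omega) hW h0 h1
      (fun h => ⟨hhalf (by omega), hminus⟩) (by
        rintro ⟨h3, U, hU2, hUn, hUp, rfl | ⟨-, hsum⟩⟩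
        · exact hP h3 hU2 hUp
        · exact hP' h3 (by omega))
  have hsmall : ∀ W : Submodule F (Fin 10 → F), ∀ d, Module.finrank F W = d → 1 ≤ d → d < 10 →
      W ≠ ⊥ ∧ W ≠ ⊤ := fun W d hd h1 h2 =>
    ⟨fun h => by rw [h, finrank_bot] at hd; omega, fun h => by
      rw [h, finrank_top, Module.finrank_pi] at hd; omega⟩
  refine ⟨fun W h0 hW => CfsgLib.OrthMax.isMaximalIn_singular_fun hQ (by omega) h0 hW
      fun h => absurd h hminus,
    fun ho W h0 h1 hWo hne hW => hnd W h0 h1 hW (fun h => absurd h hne)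
      (fun _ h => by rw [h] at hWo; exact absurd hWo (by decide))
      (fun _ h => by rw [h] at hWo; exact absurd hWo (by decide)),
    fun W hW2 hW hm => hnd W (hsmall W 2 hW2 (by omega) (by omega)).1 (hsmall W 2 hW2 (by omega) (by omega)).2 hW
      (fun h => by omega) (fun _ _ => hm) (fun _ h => by omega),
    fun h4 W hW2 hW _ => hnd W (hsmall W 2 hW2 (by omega) (by omega)).1 (hsmall W 2 hW2 (by omega) (by omega)).2 hW
      (fun h => by omega) (fun h => absurd h (by omega)) (fun _ h => by omega),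
    fun W hW4 hW => hnd W (hsmall W 4 hW4 (by omega) (by omega)).1 (hsmall W 4 hW4 (by omega) (by omega)).2 hW
      (fun h => by omega) (fun _ h => by omega) (fun _ h => by omega),
    fun he v hv => CfsgLib.OrthMax.isMaximalIn_nonsingular_fun hQ (by omega) (heven2 he) hv,
    fun ⟨p, hp, hcard, hp4⟩ D hD => ?_, fun hq3 D hD => ?_, fun hq4 D hD => ?_, fun hq4 D hD hni => ?_,
    fun ho K hK hsa => ?_, fun K hK hac hnsa hsc => CfsgLib.OrthMax.isMaximalIn_unitary_field
      (Q := CfsgLib.AschbacherQuad.quadForm hQ) (CfsgLib.AschbacherQuad.quadForm_nondegenerate hQ)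
      (by omega) hK hac hnsa hsc,
    fun F₀ r P ζ hr _ hcard hζ hP => CfsgLib.OrthSubfield.isMaximalIn_subfield hQ (by omega) hr hcard hζ hP⟩
  · have h := CfsgLib.OrthMax.dsys_of_decomp hQ hD
    have := CfsgLib.OrthMono.isMaximalIn_frame h (by omega) (by omega) (by rw [hcard]; exact hp)
      (hodd2 (Nat.odd_iff.2 (by omega)))
    rw [CfsgLib.AschbacherQuad.coe_quadForm] at this
    exact this
  · have h := CfsgLib.OrthMax.dsys_of_decomp hQ hD
    have := CfsgLib.OrthMax.isMaximalIn_decomp_even h (by omega) (by omega) (le_refl 2)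
      (fun h => absurd h (by decide)) (fun _ => hq3) (fun hall => absurd (plus_top_of_all h rfl hall) hminus)
    rw [CfsgLib.AschbacherQuad.coe_quadForm] at this
    exact this
  · have h := CfsgLib.OrthMax.dsys_of_decomp hQ hD
    have := CfsgLib.OrthMax.isMaximalIn_decomp h (by omega) (by omega)
      (fun _ => hodd2 (Nat.odd_iff.2 (by omega))) (fun h => absurd h (by omega)) (fun h => absurd h (by omega))
    rw [CfsgLib.AschbacherQuad.coe_quadForm] at this
    exact this
  · set q := CfsgLib.AschbacherQuad.quadForm hQ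
    have hq : (QuadraticMap.polarBilin q).Nondegenerate := CfsgLib.AschbacherQuad.quadForm_nondegenerate hQ
    have hk0 : Module.finrank F (D 0) = 5 := hD.decomp.finrank_eq 0
    have hk1 : Module.finrank F (D 1) = 5 := hD.decomp.finrank_eq 1
    have hn0 : CfsgLib.OrthMax.Nd q (D 0) := CfsgLib.OrthMax.nd_of_isNondegenerateOn (hD.nondegenerate 0)
    have hperp : D 1 = CfsgLib.OrthMax.qperp q (D 0) := Submodule.eq_of_le_of_finrank_eq
      (fun x hx => CfsgLib.OrthMax.mem_qperp.2 fun w hw => hD.orthogonal 0 1 (by decide) w hw x hx)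
      (by rw [CfsgLib.OrthMax.finrank_qperp hq, hk0, hk1, hn])
    have hswap : ∀ g : CfsgLib.OrthMax.Isom q, CfsgLib.OmegaOrbits.gmap g (D 1) ≠ D 0 := fun g h => by
      let e : D 1 ≃ₗ[F] D 0 :=
        (Submodule.equivMapOfInjective _ (CfsgLib.OmegaOrbits.mulVec_injective g) (D 1)).trans (LinearEquiv.ofEq _ _ h)
      refine hni ⟨e.symm, fun w => ?_⟩
      obtain ⟨v, rfl⟩ := e.surjective w
      rw [LinearEquiv.symm_apply_apply]
      show q (v : Fin 10 → F) = q (Matrix.mulVec (CfsgLib.Spinor.mat q g) (v : Fin 10 → F))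
      rw [CfsgLib.Spinor.quad_mulVec]
    show Cfsg.Geo.IsMaximalIn (Cfsg.Geo.omegaGL ⇑q) (Cfsg.Geo.decompositionStabilizer D ⊓ Cfsg.Geo.omegaGL ⇑q)
    suffices Cfsg.Geo.decompositionStabilizer D ⊓ Cfsg.Geo.omegaGL ⇑q
        = Cfsg.Geo.subspaceStabilizer (D 0) ⊓ Cfsg.Geo.omegaGL ⇑q by
      rw [this]
      exact CfsgLib.OrthMax.isMaximalIn_nd_sym hq (by omega) (fun _ _ => hodd2 (Nat.odd_iff.2 (by omega))) hn0
        (fun e => by rw [e, finrank_bot] at hk0; omega)
        (fun e => by rw [e, finrank_top, Module.finrank_pi] at hk0; omega)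
        (fun _ g _ => by rw [← hperp]; exact hswap g) (by
          rintro ⟨-, P, rfl | rfl, hP2, -⟩
          · omega
          · rw [← hperp] at hP2; omega)
    ext x
    constructor
    · rintro ⟨⟨σ, hσ⟩, hx⟩
      refine ⟨?_, hx⟩
      have h1 : σ 1 = 1 := by
        obtain ⟨g, -, rfl⟩ := hx
        have h := hσ 1
        rcases Fin.exists_fin_two.1 ⟨σ 1, rfl⟩ with h0 | h1
        · rw [h0] at h
          exact absurd h (hswap g)
        · exact h1
      have h0 : σ 0 = 0 := by
        by_contra hne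
        exact absurd (σ.injective ((Fin.eq_one_of_ne_zero _ hne).trans h1.symm)) (by decide)
      have h := hσ 0
      rw [h0] at h
      exact CfsgLib.MaxSub.mem_subspaceStabilizer_of_le fun u hu => h ▸ Submodule.mem_map_of_mem hu
    · rintro ⟨hs, hx⟩
      obtain ⟨g, hg, rfl⟩ := hx
      have hW : CfsgLib.OmegaOrbits.gmap g (D 0) = D 0 := CfsgLib.OmegaOrbits.gmap_eq_of_le g
        fun u hu => (CfsgLib.MaxSub.mem_subspaceStabilizer_iff.1 hs u).1 hu
      refine ⟨⟨1, fun i => ?_⟩, g, hg, rfl⟩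
      fin_cases i
      · exact hW
      · have := CfsgLib.OrthMax.gmap_qperp hq hW
        rw [← hperp] at this
        exact this
  · exact CfsgLib.OrthExtTwo.isMaximalIn_selfAdjoint_two (Q := CfsgLib.AschbacherQuad.quadForm hQ)
      (CfsgLib.AschbacherQuad.quadForm_nondegenerate hQ) (by omega) ho hK hsa

end Cfsg.Agent.S5849
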