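import Cfsg.Statements.S5862
import Cfsg.Agent.AschbacherTwelve.Basic
import Cfsg.Agent.MaxSub.NotMaximalLinear
import Cfsg.Agent.MaxSub.TensorExceptional

set_option autoImplicit false
open Cfsg

namespace Cfsg.Agent.S5862

open CfsgLib.Aschbacher CfsgLib.AschbacherTwelve

theorem result {F : Type*} [Field F] [Fintype F] (H : Subgroup (Matrix.GeneralLinearGroup (Fin 12) F)) (hH : Cfsg.Geo.IsMaximalIn (Cfsg.Geo.specialLinear (Fin 12) F) H) :
    (∃ W : Submodule F (Fin 12 → F), W ≠ ⊥ ∧ W ≠ ⊤ ∧ H = Cfsg.Geo.subspaceStabilizer W ⊓ Cfsg.Geo.specialLinear (Fin 12) F) ∨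
    (5 ≤ Fintype.card F ∧ ∃ D : Fin 12 → Submodule F (Fin 12 → F), Cfsg.Geo.IsMDecomposition 1 D ∧ H = Cfsg.Geo.decompositionStabilizer D ⊓ Cfsg.Geo.specialLinear (Fin 12) F) ∨
    (3 ≤ Fintype.card F ∧ ∃ D : Fin 6 → Submodule F (Fin 12 → F), Cfsg.Geo.IsMDecomposition 2 D ∧ H = Cfsg.Geo.decompositionStabilizer D ⊓ Cfsg.Geo.specialLinear (Fin 12) F) ∨
    (∃ D : Fin 4 → Submodule F (Fin 12 → F), Cfsg.Geo.IsMDecomposition 3 D ∧ H = Cfsg.Geo.decompositionStabilizer D ⊓ Cfsg.Geo.specialLinear (Fin 12) F) ∨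
    (∃ D : Fin 3 → Submodule F (Fin 12 → F), Cfsg.Geo.IsMDecomposition 4 D ∧ H = Cfsg.Geo.decompositionStabilizer D ⊓ Cfsg.Geo.specialLinear (Fin 12) F) ∨
    (∃ D : Fin 2 → Submodule F (Fin 12 → F), Cfsg.Geo.IsMDecomposition 6 D ∧ H = Cfsg.Geo.decompositionStabilizer D ⊓ Cfsg.Geo.specialLinear (Fin 12) F) ∨
    (∃ K : Subalgebra F (Matrix (Fin 12) (Fin 12) F), Cfsg.Geo.IsFieldSubalgebra 2 K ∧ H = Cfsg.Geo.subalgebraNormalizer K ⊓ Cfsg.Geo.specialLinear (Fin 12) F) ∨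
    (∃ K : Subalgebra F (Matrix (Fin 12) (Fin 12) F), Cfsg.Geo.IsFieldSubalgebra 3 K ∧ H = Cfsg.Geo.subalgebraNormalizer K ⊓ Cfsg.Geo.specialLinear (Fin 12) F) ∨
    (3 ≤ Fintype.card F ∧ ∃ (e : Fin 12 ≃ Fin 2 × Fin 6) (P : Matrix.GeneralLinearGroup (Fin 12) F), H = Cfsg.Geo.tensorProductSubgroup 2 6 e P ⊓ Cfsg.Geo.specialLinear (Fin 12) F) ∨
    (∃ (e : Fin 12 ≃ Fin 3 × Fin 4) (P : Matrix.GeneralLinearGroup (Fin 12) F), H = Cfsg.Geo.tensorProductSubgroup 3 4 e P ⊓ Cfsg.Geo.specialLinear (Fin 12) F) ∨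
    (∃ (F₀ : Subfield F) (r : ℕ) (P : Matrix.GeneralLinearGroup (Fin 12) F), r.Prime ∧ Fintype.card F = Nat.card F₀ ^ r ∧ H = Cfsg.Geo.subfieldSubgroup F₀ P ⊓ Cfsg.Geo.specialLinear (Fin 12) F) ∨
    (Odd (Fintype.card F) ∧ ∃ Q : (Fin 12 → F) → F, Cfsg.Geo.IsNondegenerateQuadraticForm Q ∧ H = Cfsg.Geo.quadSimilarityGroup Q ⊓ Cfsg.Geo.specialLinear (Fin 12) F) ∨
    (∃ f : (Fin 12 → F) → (Fin 12 → F) → F, Cfsg.Geo.IsSymplecticForm f ∧ H = Cfsg.Geo.similarityGroup f ⊓ Cfsg.Geo.specialLinear (Fin 12) F) ∨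
    (∃ (σ : F ≃+* F) (f : (Fin 12 → F) → (Fin 12 → F) → F), Cfsg.Geo.IsUnitaryForm σ f ∧ H = Cfsg.Geo.similarityGroup f ⊓ Cfsg.Geo.specialLinear (Fin 12) F) ∨
    Cfsg.Geo.InLinearResidualClass H := by
  have h12 : Fintype.card (Fin 12) = 12 := Fintype.card_fin 12
  have h3 : 3 ≤ Fintype.card (Fin 12) := by omega
  have hq2 : 2 ≤ Fintype.card F := Fintype.one_lt_card
  by_cases hirr : Cfsg.Geo.ActsIrreducibly (Cfsg.Geo.matrixSet H)
  swap
  · rw [actsIrreducibly_iff] at hirr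
    push Not at hirr
    obtain ⟨W, hW, h0, h1⟩ := hirr
    exact Or.inl ⟨W, h0, h1, eq_inf_of_maximal hH hW (not_le_subspaceStabilizer h0 h1)⟩
  right
  have hdec : ∀ {t m : ℕ} {D : Fin t → Submodule F (Fin 12 → F)}, Cfsg.Geo.IsMDecomposition m D →
      H ≤ Cfsg.Geo.decompositionStabilizer D →
      H = Cfsg.Geo.decompositionStabilizer D ⊓ Cfsg.Geo.specialLinear (Fin 12) F ∧
        ¬ ((m = 1 ∧ Fintype.card F ≤ 4) ∨ (m = 2 ∧ Fintype.card F = 2)) := by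
    intro t m D hD hle
    obtain ⟨he, hno⟩ := eq_inf_or_absurd hH hle (not_le_decompositionStabilizer h3 hD)
    refine ⟨he, fun hbad => ?_⟩
    obtain ⟨K, hK1, hK2⟩ := CfsgLib.MaxSub.not_maximal_decomposition (by omega) hD hbad
    exact hno K hK1 hK2
  rcases reduction_twelve h12 hirr with ⟨t, m, D, hD, hcases, hle⟩ | ⟨r, K, hr, hK, hle⟩ |
    (⟨e, P, hle⟩ | ⟨e, P, hle⟩) | ⟨P, hP⟩
  · obtain ⟨he, hnb⟩ := hdec hD hle
    rcases hcases with ⟨rfl, rfl⟩ | ⟨rfl, rfl⟩ | ⟨rfl, rfl⟩ | ⟨rfl, rfl⟩ | ⟨rfl, rfl⟩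
    · exact Or.inl ⟨by by_contra h; exact hnb (Or.inl ⟨rfl, by omega⟩), D, hD, he⟩
    · exact Or.inr (Or.inl ⟨by by_contra h; exact hnb (Or.inr ⟨rfl, by omega⟩), D, hD, he⟩)
    · exact Or.inr (Or.inr (Or.inl ⟨D, hD, he⟩))
    · exact Or.inr (Or.inr (Or.inr (Or.inl ⟨D, hD, he⟩)))
    · exact Or.inr (Or.inr (Or.inr (Or.inr (Or.inl ⟨D, hD, he⟩))))
  · right; right; right; right; right
    rcases hr with rfl | rfl
    · exact Or.inl ⟨K, hK, eq_inf_of_maximal hH hle (not_le_subalgebraNormalizer h3 (by omega) hK)⟩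
    · exact Or.inr (Or.inl ⟨K, hK, eq_inf_of_maximal hH hle (not_le_subalgebraNormalizer h3 (by omega) hK)⟩)
  · right; right; right; right; right; right; right
    obtain ⟨he, hno⟩ := eq_inf_or_absurd hH hle (not_le_tensorProductSubgroup le_rfl (by omega) e P)
    refine Or.inl ⟨?_, e, P, he⟩
    by_contra h
    obtain ⟨K, hK1, hK2⟩ := CfsgLib.MaxSub.not_maximal_tensor (F := F) (by omega) (by omega) e P
    exact hno K hK1 hK2
  · right; right; right; right; right; right; right; right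
    exact Or.inl ⟨e, P, eq_inf_of_maximal hH hle (not_le_tensorProductSubgroup (by omega) (by omega) e P)⟩
  · right; right; right; right; right; right; right; right; right
    by_cases hF : ∃ F₀ : Subfield F, F₀ ≠ ⊤ ∧ Cfsg.Geo.RealisableOver F₀ (Cfsg.Geo.matrixSet P)
    · obtain ⟨F₀, h0, hreal⟩ := hF
      obtain ⟨F₁, r, B, hr, hcard, hle⟩ := exists_subfieldSubgroup h0 hP.absIrred hreal hP.normal
      refine Or.inl ⟨F₁, r, B, hr, hcard, eq_inf_of_maximal hH hle (not_le_subfieldSubgroup h3 (fun htop => ?_) B)⟩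
      subst htop
      rw [Nat.card_congr (Subfield.topEquiv (K := F)).toEquiv, Nat.card_eq_fintype_card] at hcard
      have h4 := Nat.pow_lt_pow_right (Fintype.one_lt_card (α := F)) hr.one_lt
      rw [pow_one] at h4
      omega
    right
    by_cases hQ : ∃ Q : (Fin 12 → F) → F, Cfsg.Geo.IsNondegenerateQuadraticForm Q ∧
        Cfsg.Geo.FixesQuadForm (Cfsg.Geo.matrixSet P) Q
    · obtain ⟨Q, hQ, hfix⟩ := hQ
      have hle := normalizer_le_quadSimilarityGroup (by omega) hQ hP.absIrred hfix hP.normal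
      by_cases hodd : Odd (Fintype.card F)
      · exact Or.inl ⟨hodd, Q, hQ, eq_inf_of_maximal hH hle (not_le_quadSimilarityGroup h3 hQ)⟩
      · have h2 : (2 : F) = 0 := by
          haveI : CharP F 2 := ringChar.of_eq (FiniteField.even_card_iff_char_two.2
            (Nat.even_iff.1 (Nat.not_odd_iff_even.1 hodd)))
          exact CharTwo.two_eq_zero
        exact Or.inr (Or.inl ⟨_, isSymplecticForm_polar hQ h2, eq_inf_of_maximal hH
          (hle.trans (quadSimilarityGroup_le Q))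
          (not_le_similarityGroup h3 (isSesq_of_bilinear hQ.polar_bilinear) hQ.nondegenerate)⟩)
    right
    by_cases hS : ∃ f : (Fin 12 → F) → (Fin 12 → F) → F, Cfsg.Geo.IsSymplecticForm f ∧
        Cfsg.Geo.FixesForm (Cfsg.Geo.matrixSet P) f
    · obtain ⟨f, hf, hfix⟩ := hS
      exact Or.inl ⟨f, hf, eq_inf_of_maximal hH
        (normalizer_le_similarityGroup (isSesq_of_bilinear hf.bilinear) hf.nondegenerate hP.absIrred hfix hP.normal)
        (not_le_similarityGroup h3 (isSesq_of_bilinear hf.bilinear) hf.nondegenerate)⟩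
    right
    by_cases hU : ∃ (σ : F ≃+* F) (f : (Fin 12 → F) → (Fin 12 → F) → F), Cfsg.Geo.IsUnitaryForm σ f ∧
        Cfsg.Geo.FixesForm (Cfsg.Geo.matrixSet P) f
    · obtain ⟨σ, f, hf, hfix⟩ := hU
      exact Or.inl ⟨σ, f, hf, eq_inf_of_maximal hH
        (normalizer_le_similarityGroup (isSesq_of_unitary hf) hf.nondegenerate hP.absIrred hfix hP.normal)
        (not_le_similarityGroup h3 (isSesq_of_unitary hf) hf.nondegenerate)⟩
    exact Or.inr ⟨P, hP.toResidualCore fun F₀ h0 hr => hF ⟨F₀, h0, hr⟩, hQ, hS, hU⟩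

end Cfsg.Agent.S5862
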