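import Cfsg.Statements.S5865
import Cfsg.Agent.AschbacherTwelve.Unitary
import Cfsg.Agent.AschbacherUnitary.Descent
import Cfsg.Agent.MaxSub.QuadraticBasic
-- import your own Cfsg.Agent.* helpers here

set_option autoImplicit false
set_option maxHeartbeats 1000000
open Cfsg

namespace Cfsg.Agent.S5865

open Matrix CfsgLib.Aschbacher CfsgLib.AschbacherForms CfsgLib.AschbacherUnitary
open scoped Kronecker
attribute [-simp] RingEquiv.coe_refl

/-- Every maximal subgroup of SU_12(q) is of one of the listed geometric types or lies in the residual class. Let F be the field with q² elements (characteristic p), f the standard unitary form Σ u_i v_i^q on F^12, and H a maximal subgroup of SU_12(q) (inside GL_12(F)). Then H is the intersection with SU_12(q) of one of: the stabiliser of a non-zero totally isotropic subspace; the stabiliser of a non-zero non-degenerate subspace W with 2 dim W < 12; the stabiliser of a decomposition into 12 mutually orthogonal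 non-degenerate 1-spaces; for q ≥ 3, the stabiliser of a decomposition into 6 mutually orthogonal non-degenerate 2-spaces; the stabiliser of a decomposition into 4 mutually orthogonal non-degenerate 3-spaces; the stabiliser of a decomposition into 3 mutually orthogonal non-degenerate 4-spaces; the stabiliser of a decomposition into 2 mutually orthogonal non-degenerate 6-spaces; of a decomposition into two totally isotropic 6-spaces; the normaliser of an adjoint-closed degree-3 subfield of the matrix algebra; for q ≥ 3, the stabiliser of a tensor decomposition of f into unitary forms on F^2 and F^6; the stabiliser of a tensor decomposition of f into unitary forms on F^3 and F^4; a subfield group of odd prime index whose F₀-structure carries f; a subfield group of index 2 and symplectic type; for q odd, a subfield group of index 2 whose F₀-structure carries f — or else H lies in the residual class of the unitary case (modulo scalars H is almost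 simple, with absolutely irreducible perfect socle preimage realisable over no proper subfield and fixing no non-degenerate quadratic or symplectic form). -/
theorem result {F : Type*} [Field F] [Fintype F] (q : ℕ) (hF : Fintype.card F = q ^ 2) (H : Subgroup (Matrix.GeneralLinearGroup (Fin 12) F)) (hH : Cfsg.Geo.IsMaximalIn (Cfsg.GU 12 F q ⊓ Cfsg.Geo.specialLinear (Fin 12) F) H) :
    (∃ W : Submodule F (Fin 12 → F), W ≠ ⊥ ∧ Cfsg.Geo.IsTotallySingularFor (Cfsg.hermForm 12 F q) W ∧ H = Cfsg.Geo.subspaceStabilizer W ⊓ (Cfsg.GU 12 F q ⊓ Cfsg.Geo.specialLinear (Fin 12) F)) ∨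
    (∃ W : Submodule F (Fin 12 → F), W ≠ ⊥ ∧ Cfsg.Geo.IsNondegenerateOn (Cfsg.hermForm 12 F q) W ∧ 2 * Module.finrank F W < 12 ∧ H = Cfsg.Geo.subspaceStabilizer W ⊓ (Cfsg.GU 12 F q ⊓ Cfsg.Geo.specialLinear (Fin 12) F)) ∨
    (∃ D : Fin 12 → Submodule F (Fin 12 → F), Cfsg.Geo.IsNondegenerateMDecomposition (Cfsg.hermForm 12 F q) 1 D ∧ H = Cfsg.Geo.decompositionStabilizer D ⊓ (Cfsg.GU 12 F q ⊓ Cfsg.Geo.specialLinear (Fin 12) F)) ∨
    (3 ≤ q ∧ ∃ D : Fin 6 → Submodule F (Fin 12 → F), Cfsg.Geo.IsNondegenerateMDecomposition (Cfsg.hermForm 12 F q) 2 D ∧ H = Cfsg.Geo.decompositionStabilizer D ⊓ (Cfsg.GU 12 F q ⊓ Cfsg.Geo.specialLinear (Fin 12) F)) ∨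
    (∃ D : Fin 4 → Submodule F (Fin 12 → F), Cfsg.Geo.IsNondegenerateMDecomposition (Cfsg.hermForm 12 F q) 3 D ∧ H = Cfsg.Geo.decompositionStabilizer D ⊓ (Cfsg.GU 12 F q ⊓ Cfsg.Geo.specialLinear (Fin 12) F)) ∨
    (∃ D : Fin 3 → Submodule F (Fin 12 → F), Cfsg.Geo.IsNondegenerateMDecomposition (Cfsg.hermForm 12 F q) 4 D ∧ H = Cfsg.Geo.decompositionStabilizer D ⊓ (Cfsg.GU 12 F q ⊓ Cfsg.Geo.specialLinear (Fin 12) F)) ∨
    (∃ D : Fin 2 → Submodule F (Fin 12 → F), Cfsg.Geo.IsNondegenerateMDecomposition (Cfsg.hermForm 12 F q) 6 D ∧ H = Cfsg.Geo.decompositionStabilizer D ⊓ (Cfsg.GU 12 F q ⊓ Cfsg.Geo.specialLinear (Fin 12) F)) ∨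
    (∃ D : Fin 2 → Submodule F (Fin 12 → F), Cfsg.Geo.IsMDecomposition 6 D ∧ (∀ i, Cfsg.Geo.IsTotallySingularFor (Cfsg.hermForm 12 F q) (D i)) ∧ H = Cfsg.Geo.decompositionStabilizer D ⊓ (Cfsg.GU 12 F q ⊓ Cfsg.Geo.specialLinear (Fin 12) F)) ∨
    (∃ K : Subalgebra F (Matrix (Fin 12) (Fin 12) F), Cfsg.Geo.IsFieldSubalgebra 3 K ∧ Cfsg.Geo.IsAdjointClosedFor (Cfsg.hermForm 12 F q) K ∧ H = Cfsg.Geo.subalgebraNormalizer K ⊓ (Cfsg.GU 12 F q ⊓ Cfsg.Geo.specialLinear (Fin 12) F)) ∨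
    (3 ≤ q ∧ ∃ (e : Fin 12 ≃ Fin 2 × Fin 6) (P : Matrix.GeneralLinearGroup (Fin 12) F) (f₁ : (Fin 2 → F) → (Fin 2 → F) → F) (f₂ : (Fin 6 → F) → (Fin 6 → F) → F), Cfsg.Geo.IsUnitaryFormPow q f₁ ∧ Cfsg.Geo.IsUnitaryFormPow q f₂ ∧ Cfsg.Geo.IsTensorFormStructure (fun x : F => x ^ q) (Cfsg.hermForm 12 F q) f₁ f₂ e P ∧ H = Cfsg.Geo.tensorProductSubgroup 2 6 e P ⊓ (Cfsg.GU 12 F q ⊓ Cfsg.Geo.specialLinear (Fin 12) F)) ∨
    (∃ (e : Fin 12 ≃ Fin 3 × Fin 4) (P : Matrix.GeneralLinearGroup (Fin 12) F) (f₁ : (Fin 3 → F) → (Fin 3 → F) → F) (f₂ : (Fin 4 → F) → (Fin 4 → F) → F), Cfsg.Geo.IsUnitaryFormPow q f₁ ∧ Cfsg.Geo.IsUnitaryFormPow q f₂ ∧ Cfsg.Geo.IsTensorFormStructure (fun x : F => x ^ q) (Cfsg.hermForm 12 F q) f₁ f₂ e P ∧ H = Cfsg.Geo.tensorProductSubgroup 3 4 e P ⊓ (Cfsg.GU 12 F q ⊓ Cfsg.Geo.specialLinear (Fin 12) F)) ∨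
    (∃ (F₀ : Subfield F) (r : ℕ) (P : Matrix.GeneralLinearGroup (Fin 12) F), r.Prime ∧ Odd r ∧ Fintype.card F = Nat.card F₀ ^ r ∧ Cfsg.Geo.IsFormRationalStructure (Cfsg.hermForm 12 F q) F₀ 1 P ∧ H = Cfsg.Geo.subfieldSubgroup F₀ P ⊓ (Cfsg.GU 12 F q ⊓ Cfsg.Geo.specialLinear (Fin 12) F)) ∨
    (∃ (F₀ : Subfield F) (P : Matrix.GeneralLinearGroup (Fin 12) F) (ζ : F), Fintype.card F = Nat.card F₀ ^ 2 ∧ ζ ≠ 0 ∧ ζ + ζ ^ q = 0 ∧ Cfsg.Geo.IsFormRationalStructure (Cfsg.hermForm 12 F q) F₀ ζ P ∧ (∀ u : Fin 12 → F, (∀ i, u i ∈ F₀) → (Cfsg.hermForm 12 F q) (Matrix.mulVec (P : Matrix (Fin 12) (Fin 12) F) u) (Matrix.mulVec (P : Matrix (Fin 12) (Fin 12) F) u) = 0) ∧ H = Cfsg.Geo.subfieldSubgroup F₀ P ⊓ (Cfsg.GU 12 F q ⊓ Cfsg.Geo.specialLinear (Fin 12) F)) ∨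
    (Odd q ∧ ∃ (F₀ : Subfield F) (P : Matrix.GeneralLinearGroup (Fin 12) F), Fintype.card F = Nat.card F₀ ^ 2 ∧ Cfsg.Geo.IsFormRationalStructure (Cfsg.hermForm 12 F q) F₀ 1 P ∧ H = Cfsg.Geo.subfieldSubgroup F₀ P ⊓ (Cfsg.GU 12 F q ⊓ Cfsg.Geo.specialLinear (Fin 12) F)) ∨
    Cfsg.Geo.InUnitaryResidualClass H := by
  classical
  obtain ⟨σ, h⟩ := exists_isConj hF
  have hu := h.unitary (n := 12)
  have hf := isReflexive_unitary hu
  have hn5 : 5 ≤ 12 := by norm_num
  have h12 : Fintype.card (Fin 12) = 12 := Fintype.card_fin 12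
  have hHS : H ≤ SUn 12 F q := hH.1.le
  have hiso : ∀ g ∈ H, ∀ u v, Cfsg.hermForm 12 F q (mat g *ᵥ u) (mat g *ᵥ v) = Cfsg.hermForm 12 F q u v :=
    fun g hg => CfsgLib.MaxSub.mem_GU_iff_forall.1 (Subgroup.mem_inf.1 (hHS hg)).1
  have hfix : Cfsg.Geo.FixesForm (Cfsg.Geo.matrixSet H) (Cfsg.hermForm 12 F q) := fixesForm_iff.2 hiso
  have heq : ∀ {X : Subgroup (Matrix.GeneralLinearGroup (Fin 12) F)}, H ≤ X →
      ¬ SUn 12 F q ≤ X → H = X ⊓ SUn 12 F q := fun hle hne => eq_inf_of_maximal hH hle hne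
  have hq1 := h.one_lt
  have h2odd : Odd q → (2 : F) ≠ 0 := fun ho =>
    CfsgLib.MaxSub.two_ne_zero_of_odd (by rw [hF]; exact ho.pow)
  have h2even : ¬ Odd q → (2 : F) = 0 := by
    intro ho
    by_contra h2
    refine ho ?_
    have h1 : Odd (Fintype.card F) := Nat.odd_iff.2 (FiniteField.odd_card_of_char_ne_two fun hc => h2 (by
      have := ringChar.of_eq hc
      exact CharTwo.two_eq_zero))
    rw [hF] at h1
    exact (Nat.odd_pow_iff two_ne_zero).1 h1
  by_cases hirr : Cfsg.Geo.ActsIrreducibly (Cfsg.Geo.matrixSet H)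
  swap
  · -- reducible groups
    rw [actsIrreducibly_iff] at hirr
    push Not at hirr
    obtain ⟨W, hW, hW0, hW1⟩ := hirr
    have hWp : H ≤ Cfsg.Geo.subspaceStabilizer (hf.perp W) := fun g hg =>
      hf.stabilizer_perp (hiso g hg) (hW hg)
    by_cases hrad : W ⊓ hf.perp W = ⊥
    swap
    · refine Or.inl ⟨W ⊓ hf.perp W, hrad, fun u hu v hv => hu.2 v hv.1,
        heq ?_ (not_le_subspaceStabilizer hF h hn5 hrad ?_)⟩
      · intro g hg
        exact mem_subspaceStabilizer_iff.2 fun w hw =>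
          ⟨mem_subspaceStabilizer_iff.1 (hW hg) w hw.1, mem_subspaceStabilizer_iff.1 (hWp hg) w hw.2⟩
      · exact fun h' => hW1 (eq_top_iff.2 (h' ▸ inf_le_left))
    have hnd := hf.isNondegenerateOn_iff.2 hrad
    have hdim := hf.finrank_perp W
    rw [h12] at hdim
    rcases lt_trichotomy (2 * Module.finrank F W) 12 with hlt | heq6 | hgt
    · exact Or.inr (Or.inl ⟨W, hW0, hnd, hlt, heq hW (not_le_subspaceStabilizer hF h hn5 hW0 hW1)⟩)
    · have hc : IsCompl W (hf.perp W) := IsCompl.of_eq hrad (hf.sup_perp hnd)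
      have hD := decomposition_pair (m := 6) (by norm_num) hc (by omega) (by omega)
      have hD' : Cfsg.Geo.IsNondegenerateMDecomposition (Cfsg.hermForm 12 F q) 6 ![W, hf.perp W] := by
        refine ⟨hD, ?_, ?_⟩
        · intro i
          fin_cases i
          · exact hnd
          · exact hf.isNondegenerateOn_perp hnd
        · intro i j hij u hu v hv
          fin_cases i <;> fin_cases j
          · exact absurd rfl hij
          · exact hf.orth_comm (hv u hu)
          · exact hu v hv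
          · exact absurd rfl hij
      refine Or.inr (Or.inr (Or.inr (Or.inr (Or.inr (Or.inr (Or.inl ⟨![W, hf.perp W], hD', heq (fun g hg => ?_) (CfsgLib.AschbacherTwelve.not_le_orthDecomposition h (by norm_num) hD')⟩))))))
      refine mem_decompositionStabilizer_of hD fun i => ⟨i, ?_⟩
      fin_cases i
      · exact mem_subspaceStabilizer_iff.1 (hW hg)
      · exact mem_subspaceStabilizer_iff.1 (hWp hg)
    · have hP0 : hf.perp W ≠ ⊥ := fun h' => hW1 (by
        rw [← hf.perp_perp W, h']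
        exact eq_top_iff.2 fun x _ w hw => by rw [(Submodule.mem_bot F).1 hw, hf.zero_right])
      refine Or.inr (Or.inl ⟨hf.perp W, hP0, hf.isNondegenerateOn_perp hnd, by omega, heq hWp (not_le_subspaceStabilizer hF h hn5 hP0 fun h' => ?_)⟩)
      rw [h', inf_top_eq] at hrad
      exact hW0 hrad
  rcases star_reduction_twelve h12 hf hfix hirr with ⟨t, k, D, hD, htk, hle⟩ | ⟨D, hD, hts, hle, -⟩ |
    ⟨r, K, hr, hK, hle, hadj⟩ | htensor | ⟨P, hP⟩
  · -- orthogonal decompositions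
    rcases htk with ⟨rfl, rfl⟩ | ⟨rfl, rfl⟩ | ⟨rfl, rfl⟩ | ⟨rfl, rfl⟩ | ⟨rfl, rfl⟩
    · exact Or.inr (Or.inr (Or.inl ⟨D, hD, heq hle (CfsgLib.AschbacherUnitary.not_le_decompositionStabilizer h hn5 hD)⟩))
    · have hne := CfsgLib.AschbacherTwelve.not_le_orthDecomposition h le_rfl hD
      by_cases hq : q = 2
      · exfalso
        subst hq
        obtain ⟨-, hno⟩ := CfsgLib.AschbacherTwelve.eq_inf_or_absurd hH hle hne
        obtain ⟨L, hL1, hL2⟩ := CfsgLib.MaxSub.not_maximal_unitaryPlanes (n := 12) (by norm_num) (by rw [hF]; rfl) hD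
        exact hno L hL1 hL2
      · exact Or.inr (Or.inr (Or.inr (Or.inl ⟨by omega, D, hD, heq hle hne⟩)))
    · exact Or.inr (Or.inr (Or.inr (Or.inr (Or.inl ⟨D, hD, heq hle (CfsgLib.AschbacherTwelve.not_le_orthDecomposition h (by norm_num) hD)⟩))))
    · exact Or.inr (Or.inr (Or.inr (Or.inr (Or.inr (Or.inl ⟨D, hD, heq hle (CfsgLib.AschbacherTwelve.not_le_orthDecomposition h (by norm_num) hD)⟩)))))
    · exact Or.inr (Or.inr (Or.inr (Or.inr (Or.inr (Or.inr (Or.inl ⟨D, hD, heq hle (CfsgLib.AschbacherTwelve.not_le_orthDecomposition h (by norm_num) hD)⟩))))))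
  · -- pairs of totally singular subspaces
    exact Or.inr (Or.inr (Or.inr (Or.inr (Or.inr (Or.inr (Or.inr (Or.inl ⟨D, hD, hts, heq hle (CfsgLib.AschbacherTwelve.not_le_singularPair h (by norm_num) hD hts)⟩)))))))
  · -- extension fields
    rcases hr with rfl | rfl
    · exact (not_adjClosed_degree_two hu hK hadj).elim
    have hclosed : Cfsg.Geo.IsAdjointClosedFor (Cfsg.hermForm 12 F q) K := fun x hx =>
      ⟨_, hadj x hx, fun u v => hf.adj_spec x u v⟩
    exact Or.inr (Or.inr (Or.inr (Or.inr (Or.inr (Or.inr (Or.inr (Or.inr (Or.inl ⟨K, hK, hclosed, heq hle (CfsgLib.AschbacherUnitary.not_le_subalgebraNormalizer hF h hn5 (by norm_num) hK)⟩))))))))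
  · -- tensor decompositions
    have hstruct : ∀ {k d : ℕ} {e : Fin 12 ≃ Fin k × Fin d} {P : Matrix.GeneralLinearGroup (Fin 12) F}
        {S : Matrix (Fin k) (Fin k) F} {T : Matrix (Fin d) (Fin d) F} {c : F}, c ≠ 0 →
        (∀ x y : Fin k × Fin d → F, (Cfsg.hermForm 12 F q) (mat P *ᵥ (x ∘ e)) (mat P *ᵥ (y ∘ e)) =
          c * Cfsg.Geo.formOfGram σ (S ⊗ₖ T) x y) →
        Cfsg.Geo.IsTensorFormStructure (fun x : F => x ^ q) (Cfsg.hermForm 12 F q) (formOf σ S) (formOf σ T) e P := by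
      intro k d e P S T c hc hform
      refine ⟨c, hc, fun x y => ?_⟩
      rw [gramMatrix_formOf, gramMatrix_formOf, show (fun x : F => x ^ q) = ⇑σ from funext fun a => (h.eq_pow a).symm]
      exact hform x y
    rcases htensor with ht | ht
    · obtain ⟨e, P, S, T, hS, hT, hle, hform⟩ := ht
      obtain ⟨S', T', c, hS', hT', hc, hSs, hTs, -, hform'⟩ :=
        CfsgLib.AschbacherTwelve.exists_hermitian_factors h (by norm_num) hS hT hform
      by_cases hq : q = 2
      · subst hq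
        obtain ⟨D, hD, hle'⟩ := CfsgLib.AschbacherTwelve.frame_decomposition_two h (by rw [hF]; rfl) (by norm_num)
          hfix hc hS' hT' hSs hle hform'
        exact Or.inr (Or.inr (Or.inr (Or.inr (Or.inr (Or.inr (Or.inl ⟨D, hD, heq hle' (CfsgLib.AschbacherTwelve.not_le_orthDecomposition h (by norm_num) hD)⟩))))))
      · exact Or.inr (Or.inr (Or.inr (Or.inr (Or.inr (Or.inr (Or.inr (Or.inr (Or.inr (Or.inl ⟨by omega, e, P, _, _, CfsgLib.AschbacherTwelve.isUnitaryFormPow_formOf h hS' hSs, CfsgLib.AschbacherTwelve.isUnitaryFormPow_formOf h hT' hTs, hstruct hc hform', heq hle (CfsgLib.AschbacherTwelve.not_le_tensor h le_rfl (by norm_num) hT' hTs hform')⟩)))))))))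
    · obtain ⟨e, P, S, T, hS, hT, hle, hform⟩ := ht
      obtain ⟨S', T', c, hS', hT', hc, hSs, hTs, -, hform'⟩ :=
        CfsgLib.AschbacherTwelve.exists_hermitian_factors h (by norm_num) hS hT hform
      exact Or.inr (Or.inr (Or.inr (Or.inr (Or.inr (Or.inr (Or.inr (Or.inr (Or.inr (Or.inr (Or.inl ⟨e, P, _, _, CfsgLib.AschbacherTwelve.isUnitaryFormPow_formOf h hS' hSs, CfsgLib.AschbacherTwelve.isUnitaryFormPow_formOf h hT' hTs, hstruct hc hform', heq hle (CfsgLib.AschbacherTwelve.not_le_tensor h (by norm_num) le_rfl hT' hTs hform')⟩))))))))))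
  · -- almost simple groups
    have hPfix : Cfsg.Geo.FixesForm (Cfsg.Geo.matrixSet P) (Cfsg.hermForm 12 F q) :=
      fun s hs => hfix s (Set.image_mono hP.le hs)
    by_cases hreal : ∃ F₀ : Subfield F, F₀ ≠ ⊤ ∧ Cfsg.Geo.RealisableOver F₀ (Cfsg.Geo.matrixSet P)
    swap
    · refine Or.inr (Or.inr (Or.inr (Or.inr (Or.inr (Or.inr (Or.inr (Or.inr (Or.inr (Or.inr (Or.inr (Or.inr (Or.inr (Or.inr (⟨P, hP.toResidualCore fun F₀ h0 hr => hreal ⟨F₀, h0, hr⟩, ?_, ?_⟩))))))))))))))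
      · rintro ⟨Q, hQ, hQP⟩
        have hpolfix : Cfsg.Geo.FixesForm (Cfsg.Geo.matrixSet P) (QuadraticMap.polar Q) := fun s hs u v => by
          simp only [QuadraticMap.polar, ← Matrix.mulVec_add, hQP s hs]
        exact hreal (realisable_of_two_forms (isReflexive_polar hQ) hu hP.absIrred hpolfix hPfix)
      · rintro ⟨f, hf', hfP⟩
        exact hreal (realisable_of_two_forms (isReflexive_symplectic hf') hu hP.absIrred hfP hPfix)
    obtain ⟨F₀, h0, hreal⟩ := hreal
    obtain ⟨F₁, r, B, ζ, hr, hcard, hζ, hrat, hle⟩ :=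
      exists_form_subfield hf h0 hP.normal hP.absIrred hPfix hreal
    have hne := CfsgLib.AschbacherUnitary.not_le_subfieldSubgroup hF h hn5 hr hcard
    rcases hr.eq_two_or_odd' with rfl | hodd
    · have hq1' : Nat.card F₁ = q := Nat.pow_left_injective two_ne_zero (hcard.symm.trans hF)
      have hσ : ∀ x ∈ F₁, σ x = x := fun x hx => by
        have : Fintype F₁ := Fintype.ofFinite _
        rw [h.eq_pow, ← hq1', Nat.card_eq_fintype_card]
        exact congrArg Subtype.val (FiniteField.pow_card (⟨x, hx⟩ : F₁))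
      have hlt : Fintype.card F < Nat.card F₁ ^ Fintype.card (Fin 12) := by
        rw [hcard, h12, hq1']
        exact Nat.pow_lt_pow_right hq1 (by norm_num)
      rcases rational_multiplier hu hζ hrat with ⟨B', hrat', hB'⟩ | ⟨-, hneg⟩
      · rw [← hB'] at hle
        by_cases hodd : Odd q
        · exact Or.inr (Or.inr (Or.inr (Or.inr (Or.inr (Or.inr (Or.inr (Or.inr (Or.inr (Or.inr (Or.inr (Or.inr (Or.inr (Or.inl ⟨hodd, F₁, B', hcard, hrat', heq hle (hne B')⟩)))))))))))))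
        · have h2 := h2even hodd
          exact Or.inr (Or.inr (Or.inr (Or.inr (Or.inr (Or.inr (Or.inr (Or.inr (Or.inr (Or.inr (Or.inr (Or.inr (Or.inl ⟨F₁, B', 1, hcard, one_ne_zero, by rw [one_pow]; linear_combination h2, hrat', fun u hu' => diag_zero_of_two hu h2 one_ne_zero hσ (map_one σ) hlt hrat' hfix hirr hle hu', heq hle (hne B')⟩))))))))))))
      · refine Or.inr (Or.inr (Or.inr (Or.inr (Or.inr (Or.inr (Or.inr (Or.inr (Or.inr (Or.inr (Or.inr (Or.inr (Or.inl ⟨F₁, B, ζ, hcard, hζ, by rw [← h.eq_pow, hneg, add_neg_cancel], hrat, fun u hu' => ?_, heq hle (hne B)⟩))))))))))))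
        by_cases hodd : Odd q
        · exact diag_zero_of_neg hu (h2odd hodd) hζ hσ hneg hrat hu'
        · have h2 := h2even hodd
          exact diag_zero_of_two hu h2 hζ hσ (by rw [hneg]; linear_combination -ζ * h2) hlt hrat hfix hirr hle hu'
    · rcases rational_multiplier hu hζ hrat with ⟨B', hrat', hB'⟩ | ⟨hall, -⟩
      · rw [← hB'] at hle
        exact Or.inr (Or.inr (Or.inr (Or.inr (Or.inr (Or.inr (Or.inr (Or.inr (Or.inr (Or.inr (Or.inr (Or.inl ⟨F₁, r, B', hr, hodd, hcard, hrat', heq hle (hne B')⟩)))))))))))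
      · obtain ⟨w, hw, hwσ⟩ := exists_moved_of_odd hF h hodd hcard
        exact absurd (hall w hw) hwσ

end Cfsg.Agent.S5865
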