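import Cfsg.Statements.S5868
import Cfsg.Agent.AschbacherTwelve.Symplectic
-- import your own Cfsg.Agent.* helpers here

set_option autoImplicit false
set_option maxHeartbeats 1000000
open Cfsg

namespace Cfsg.Agent.S5868

open Matrix CfsgLib.Aschbacher CfsgLib.AschbacherForms CfsgLib.AschbacherSymplectic
open scoped Kronecker
attribute [-simp] RingEquiv.coe_refl

/-- Every maximal subgroup of Sp_12(q) is of one of the listed geometric types or lies in the residual class. Let F be a finite field with q elements (characteristic p), f the standard alternating form on F^12 (coordinates Fin 6 ⊕ Fin 6), and H a maximal subgroup of Sp_12(F) (inside GL_12(F)). Then H is the intersection with Sp_12(F) of one of: the stabiliser of a non-zero totally isotropic subspace; the stabiliser of a non-zero non-degenerate subspace of dimension less than 6; for q ≥ 3, the stabiliser of a decomposition into 6 mutually orthogonal non-degenerate 2-spaces; the stabiliser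 of a decomposition into 3 mutually orthogonal non-degenerate 4-spaces; the stabiliser of a decomposition into 2 mutually orthogonal non-degenerate 6-spaces; for q odd, of a decomposition into two totally isotropic 6-spaces; the normaliser of a degree-2 subfield K of the matrix algebra, self-adjoint with f(k v, v) = 0; the normaliser of a degree-3 subfield K of the matrix algebra, self-adjoint with f(k v, v) = 0; for q odd, the normaliser of a degree-2 subfield closed under adjoints but not self-adjoint; for q odd, the stabiliser of a tensor decomposition of f into an alternating form on F^2 and a symmetric form on F^6; for q odd with q ≥ 5, the stabiliser of a tensor decomposition of f into an alternating form on F^4 and a symmetric form on F^3; a subfield group (|F| = |F₀|^r, r prime) whose F₀-structure carries a non-zero multiple of f; for q even, the similarity group of a non-degenerate quadratic form polarising to f — or else H lies in the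 residual class of the symplectic case (modulo scalars H is almost simple, with absolutely irreducible perfect socle preimage realisable over no proper subfield and fixing no non-degenerate quadratic or unitary form). -/
theorem result {F : Type*} [Field F] [Fintype F] (H : Subgroup (Matrix.GeneralLinearGroup (Fin 6 ⊕ Fin 6) F)) (hH : Cfsg.Geo.IsMaximalIn (Cfsg.spGL 6 F) H) :
    (∃ W : Submodule F (Fin 6 ⊕ Fin 6 → F), W ≠ ⊥ ∧ Cfsg.Geo.IsTotallySingularFor (Cfsg.sympForm 6 F) W ∧ H = Cfsg.Geo.subspaceStabilizer W ⊓ Cfsg.spGL 6 F) ∨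
    (∃ W : Submodule F (Fin 6 ⊕ Fin 6 → F), W ≠ ⊥ ∧ Cfsg.Geo.IsNondegenerateOn (Cfsg.sympForm 6 F) W ∧ Module.finrank F W < 6 ∧ H = Cfsg.Geo.subspaceStabilizer W ⊓ Cfsg.spGL 6 F) ∨
    (3 ≤ Fintype.card F ∧ ∃ D : Fin 6 → Submodule F (Fin 6 ⊕ Fin 6 → F), Cfsg.Geo.IsNondegenerateMDecomposition (Cfsg.sympForm 6 F) 2 D ∧ H = Cfsg.Geo.decompositionStabilizer D ⊓ Cfsg.spGL 6 F) ∨
    (∃ D : Fin 3 → Submodule F (Fin 6 ⊕ Fin 6 → F), Cfsg.Geo.IsNondegenerateMDecomposition (Cfsg.sympForm 6 F) 4 D ∧ H = Cfsg.Geo.decompositionStabilizer D ⊓ Cfsg.spGL 6 F) ∨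
    (∃ D : Fin 2 → Submodule F (Fin 6 ⊕ Fin 6 → F), Cfsg.Geo.IsNondegenerateMDecomposition (Cfsg.sympForm 6 F) 6 D ∧ H = Cfsg.Geo.decompositionStabilizer D ⊓ Cfsg.spGL 6 F) ∨
    (Odd (Fintype.card F) ∧ ∃ D : Fin 2 → Submodule F (Fin 6 ⊕ Fin 6 → F), Cfsg.Geo.IsMDecomposition 6 D ∧ (∀ i, Cfsg.Geo.IsTotallySingularFor (Cfsg.sympForm 6 F) (D i)) ∧ H = Cfsg.Geo.decompositionStabilizer D ⊓ Cfsg.spGL 6 F) ∨
    (∃ K : Subalgebra F (Matrix (Fin 6 ⊕ Fin 6) (Fin 6 ⊕ Fin 6) F), Cfsg.Geo.IsFieldSubalgebra 2 K ∧ Cfsg.Geo.IsSelfAdjointFor (Cfsg.sympForm 6 F) K ∧ (∀ k ∈ K, ∀ v : (Fin 6 ⊕ Fin 6 → F), (Cfsg.sympForm 6 F) (Matrix.mulVec k v) v = 0) ∧ H = Cfsg.Geo.subalgebraNormalizer K ⊓ Cfsg.spGL 6 F) ∨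
    (∃ K : Subalgebra F (Matrix (Fin 6 ⊕ Fin 6) (Fin 6 ⊕ Fin 6) F), Cfsg.Geo.IsFieldSubalgebra 3 K ∧ Cfsg.Geo.IsSelfAdjointFor (Cfsg.sympForm 6 F) K ∧ (∀ k ∈ K, ∀ v : (Fin 6 ⊕ Fin 6 → F), (Cfsg.sympForm 6 F) (Matrix.mulVec k v) v = 0) ∧ H = Cfsg.Geo.subalgebraNormalizer K ⊓ Cfsg.spGL 6 F) ∨
    (Odd (Fintype.card F) ∧ ∃ K : Subalgebra F (Matrix (Fin 6 ⊕ Fin 6) (Fin 6 ⊕ Fin 6) F), Cfsg.Geo.IsFieldSubalgebra 2 K ∧ Cfsg.Geo.IsAdjointClosedFor (Cfsg.sympForm 6 F) K ∧ ¬ Cfsg.Geo.IsSelfAdjointFor (Cfsg.sympForm 6 F) K ∧ H = Cfsg.Geo.subalgebraNormalizer K ⊓ Cfsg.spGL 6 F) ∨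
    (Odd (Fintype.card F) ∧ ∃ (e : (Fin 6 ⊕ Fin 6) ≃ Fin 2 × Fin 6) (P : Matrix.GeneralLinearGroup (Fin 6 ⊕ Fin 6) F) (f₁ : (Fin 2 → F) → (Fin 2 → F) → F) (f₂ : (Fin 6 → F) → (Fin 6 → F) → F), Cfsg.Geo.IsSymplecticForm f₁ ∧ Cfsg.Geo.IsSymmetricForm f₂ ∧ Cfsg.Geo.IsTensorFormStructure id (Cfsg.sympForm 6 F) f₁ f₂ e P ∧ H = Cfsg.Geo.tensorProductSubgroup 2 6 e P ⊓ Cfsg.spGL 6 F) ∨
    (Odd (Fintype.card F) ∧ 5 ≤ Fintype.card F ∧ ∃ (e : (Fin 6 ⊕ Fin 6) ≃ Fin 4 × Fin 3) (P : Matrix.GeneralLinearGroup (Fin 6 ⊕ Fin 6) F) (f₁ : (Fin 4 → F) → (Fin 4 → F) → F) (f₂ : (Fin 3 → F) → (Fin 3 → F) → F), Cfsg.Geo.IsSymplecticForm f₁ ∧ Cfsg.Geo.IsSymmetricForm f₂ ∧ Cfsg.Geo.IsTensorFormStructure id (Cfsg.sympForm 6 F) f₁ f₂ e P ∧ H = Cfsg.Geo.tensorProductSubgroup 4 3 e P ⊓ Cfsg.spGL 6 F) ∨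
    (∃ (F₀ : Subfield F) (r : ℕ) (P : Matrix.GeneralLinearGroup (Fin 6 ⊕ Fin 6) F) (ζ : F), r.Prime ∧ Fintype.card F = Nat.card F₀ ^ r ∧ ζ ≠ 0 ∧ Cfsg.Geo.IsFormRationalStructure (Cfsg.sympForm 6 F) F₀ ζ P ∧ H = Cfsg.Geo.subfieldSubgroup F₀ P ⊓ Cfsg.spGL 6 F) ∨
    (¬ Odd (Fintype.card F) ∧ ∃ Q : (Fin 6 ⊕ Fin 6 → F) → F, Cfsg.Geo.IsNondegenerateQuadraticForm Q ∧ (∀ u v : (Fin 6 ⊕ Fin 6 → F), QuadraticMap.polar Q u v = (Cfsg.sympForm 6 F) u v) ∧ H = Cfsg.Geo.quadSimilarityGroup Q ⊓ Cfsg.spGL 6 F) ∨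
    Cfsg.Geo.InSymplecticResidualClass H := by
  classical
  haveI : Nonempty (Fin 6 ⊕ Fin 6) := ⟨Sum.inl 0⟩
  have h12 : Fintype.card (Fin 6 ⊕ Fin 6) = 12 := by simp
  have hf := isRefl (m := 6) (F := F)
  have hHS : H ≤ Cfsg.spGL 6 F := hH.1.le
  have hfix := fixes_of_le hHS
  have heq : ∀ {X : Subgroup (Matrix.GeneralLinearGroup (Fin 6 ⊕ Fin 6) F)}, H ≤ X →
      ¬ Cfsg.spGL 6 F ≤ X → H = X ⊓ Cfsg.spGL 6 F := fun hle hne => eq_inf_of_maximal hH hle hne
  have h2odd : Odd (Fintype.card F) → (2 : F) ≠ 0 := CfsgLib.MaxSub.two_ne_zero_of_odd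
  have h2even : ¬ Odd (Fintype.card F) → (2 : F) = 0 := by
    intro h
    by_contra h2
    exact h (Nat.odd_iff.2 (FiniteField.odd_card_of_char_ne_two fun hc => h2 (by
      haveI := ringChar.of_eq hc
      exact CharTwo.two_eq_zero)))
  -- a quadratic form fixed modulo scalars, in characteristic two
  have quadCase : ∀ Q : (Fin 6 ⊕ Fin 6 → F) → F, ¬ Odd (Fintype.card F) →
      Cfsg.Geo.IsNondegenerateQuadraticForm Q →
      (∀ u v : (Fin 6 ⊕ Fin 6 → F), QuadraticMap.polar Q u v = (Cfsg.sympForm 6 F) u v) →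
      H ≤ Cfsg.Geo.quadSimilarityGroup Q →
      (¬ Odd (Fintype.card F) ∧ ∃ Q : (Fin 6 ⊕ Fin 6 → F) → F, Cfsg.Geo.IsNondegenerateQuadraticForm Q ∧ (∀ u v : (Fin 6 ⊕ Fin 6 → F), QuadraticMap.polar Q u v = (Cfsg.sympForm 6 F) u v) ∧ H = Cfsg.Geo.quadSimilarityGroup Q ⊓ Cfsg.spGL 6 F) :=
    fun Q he hQ hpol hle => ⟨he, Q, hQ, hpol, heq hle (not_le_quad (by norm_num) hpol)⟩
  have fixQuad : ∀ Q : (Fin 6 ⊕ Fin 6 → F) → F, Cfsg.Geo.FixesQuadForm (Cfsg.Geo.matrixSet H) Q →
      H ≤ Cfsg.Geo.quadSimilarityGroup Q := fun Q hQ g hg => ⟨1, fun v => by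
    rw [Units.val_one, one_mul]; exact hQ _ (mem_matrixSet hg) v⟩
  by_cases hirr : Cfsg.Geo.ActsIrreducibly (Cfsg.Geo.matrixSet H)
  swap
  · -- reducible groups
    rw [actsIrreducibly_iff] at hirr
    push Not at hirr
    obtain ⟨W, hW, hW0, hW1⟩ := hirr
    have hWp : H ≤ Cfsg.Geo.subspaceStabilizer (hf.perp W) := fun g hg =>
      hf.stabilizer_perp (CfsgLib.MaxSub.mem_spGL_iff.1 (hHS hg)) (hW hg)
    by_cases hrad : W ⊓ hf.perp W = ⊥
    swap
    · refine Or.inl ⟨W ⊓ hf.perp W, hrad, fun u hu v hv => hu.2 v hv.1, heq ?_ (not_le_subspace hrad ?_)⟩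
      · intro g hg
        exact mem_subspaceStabilizer_iff.2 fun w hw =>
          ⟨mem_subspaceStabilizer_iff.1 (hW hg) w hw.1, mem_subspaceStabilizer_iff.1 (hWp hg) w hw.2⟩
      · exact fun h => hW1 (eq_top_iff.2 (h ▸ inf_le_left))
    have hnd := hf.isNondegenerateOn_iff.2 hrad
    have hdim := hf.finrank_perp W
    rw [h12] at hdim
    rcases lt_trichotomy (Module.finrank F W) 6 with hlt | heq6 | hgt
    · exact Or.inr (Or.inl ⟨W, hW0, hnd, hlt, heq hW (not_le_subspace hW0 hW1)⟩)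
    · have hc : IsCompl W (hf.perp W) := IsCompl.of_eq hrad (hf.sup_perp hnd)
      have hD := decomposition_pair (by norm_num) hc heq6 (by omega)
      refine Or.inr (Or.inr (Or.inr (Or.inr (Or.inl ⟨![W, hf.perp W], ⟨hD, ?_, ?_⟩, heq (fun g hg => ?_)
        (not_le_decomposition hD (by norm_num))⟩))))
      · intro i
        fin_cases i
        · exact hnd
        · exact hf.isNondegenerateOn_perp hnd
      · intro i j hij u hu v hv
        fin_cases i <;> fin_cases j
        · exact absurd rfl hij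
        · exact hf.orth_comm (hv u hu)
        · exact hu v hv
        · exact absurd rfl hij
      · refine mem_decompositionStabilizer_of hD fun i => ⟨i, ?_⟩
        fin_cases i
        · exact mem_subspaceStabilizer_iff.1 (hW hg)
        · exact mem_subspaceStabilizer_iff.1 (hWp hg)
    · have hP0 : hf.perp W ≠ ⊥ := fun h => hW1 (by
        rw [← hf.perp_perp W, h]
        exact eq_top_iff.2 fun x _ w hw => by rw [(Submodule.mem_bot F).1 hw, hf.zero_right])
      refine Or.inr (Or.inl ⟨hf.perp W, hP0, hf.isNondegenerateOn_perp hnd, by omega,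
        heq hWp (not_le_subspace hP0 fun h => ?_)⟩)
      rw [h, inf_top_eq] at hrad
      exact hW0 hrad
  rcases star_reduction_twelve h12 hf hfix hirr with ⟨t, k, D, hD, htk, hle⟩ | ⟨D, hD, hts, hle, -⟩ |
    ⟨r, K, hr, hK, hle, hadj⟩ | htensor | ⟨P, hP⟩
  · -- orthogonal decompositions
    have hpos : 0 < t := lt_of_lt_of_le (by norm_num) hD.decomp.two_le
    rcases htk with ⟨rfl, rfl⟩ | ⟨rfl, rfl⟩ | ⟨rfl, rfl⟩ | ⟨rfl, rfl⟩ | ⟨rfl, rfl⟩
    · exact absurd (hD.nondegenerate ⟨0, hpos⟩) (not_nondegenerate_of_one (hD.decomp.finrank_eq _))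
    · by_cases hq : Fintype.card F = 2
      · exfalso
        obtain ⟨-, hno⟩ := CfsgLib.AschbacherTwelve.eq_inf_or_absurd hH hle
          (not_le_decomposition hD.decomp le_rfl)
        obtain ⟨L, hL1, hL2⟩ := CfsgLib.MaxSub.not_maximal_spPlanes (m := 6) (by norm_num) hq hD
        exact hno L hL1 hL2
      · have h3 : 3 ≤ Fintype.card F := by have := Fintype.one_lt_card (α := F); omega
        exact Or.inr (Or.inr (Or.inl ⟨h3, D, hD, heq hle (not_le_decomposition hD.decomp le_rfl)⟩))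
    · exact absurd (hD.nondegenerate ⟨0, hpos⟩) (not_nondegenerate_of_three (hD.decomp.finrank_eq _))
    · exact Or.inr (Or.inr (Or.inr (Or.inl ⟨D, hD, heq hle (not_le_decomposition hD.decomp (by norm_num))⟩)))
    · exact Or.inr (Or.inr (Or.inr (Or.inr (Or.inl ⟨D, hD,
        heq hle (not_le_decomposition hD.decomp (by norm_num))⟩))))
  · -- pairs of Lagrangians
    by_cases hodd : Odd (Fintype.card F)
    · exact Or.inr (Or.inr (Or.inr (Or.inr (Or.inr (Or.inl ⟨hodd, D, hD, hts,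
        heq hle (not_le_decomposition hD (by norm_num))⟩)))))
    · obtain ⟨Q, hQ, hpol, hQH⟩ := pair_quad (h2even hodd) hHS hD hts hle
      exact Or.inr (Or.inr (Or.inr (Or.inr (Or.inr (Or.inr (Or.inr (Or.inr (Or.inr (Or.inr (Or.inr (Or.inr
        (Or.inl (quadCase Q hodd hQ hpol (fixQuad Q hQH))))))))))))))
  · -- extension fields
    have hclosed : Cfsg.Geo.IsAdjointClosedFor (Cfsg.sympForm 6 F) K := fun x hx =>
      ⟨_, hadj x hx, fun u v => hf.adj_spec x u v⟩
    by_cases hsa : ∀ x ∈ K, adj (RingEquiv.refl F) (Cfsg.sympForm 6 F) x = x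
    · have hS : Cfsg.Geo.IsSelfAdjointFor (Cfsg.sympForm 6 F) K := fun x hx u v => by
        rw [hf.adj_spec, hsa x hx]
      have hal := selfAdjoint_alternating hK hsa
      rcases hr with rfl | rfl
      · exact Or.inr (Or.inr (Or.inr (Or.inr (Or.inr (Or.inr (Or.inl ⟨K, hK, hS, hal,
          heq hle (not_le_field (by norm_num) le_rfl hK)⟩))))))
      · exact Or.inr (Or.inr (Or.inr (Or.inr (Or.inr (Or.inr (Or.inr (Or.inl ⟨K, hK, hS, hal,
          heq hle (not_le_field (by norm_num) (by norm_num) hK)⟩)))))))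
    push Not at hsa
    rcases hr with rfl | rfl
    swap
    · obtain ⟨x, hx, hxne⟩ := hsa
      exact absurd (adj_eq_self_of_odd hf (by decide) hK hadj hx) hxne
    by_cases hodd : Odd (Fintype.card F)
    · refine Or.inr (Or.inr (Or.inr (Or.inr (Or.inr (Or.inr (Or.inr (Or.inr (Or.inl ⟨hodd, K, hK, hclosed,
        fun hS => ?_, heq hle (not_le_field (by norm_num) le_rfl hK)⟩))))))))
      obtain ⟨x, hx, hxne⟩ := hsa
      exact hxne (hf.adj_unique fun u v => hS x hx u v).symm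
    · obtain ⟨Q, hQ, hpol, hQH⟩ := field_quad (by norm_num) (h2even hodd) hHS hK hle hadj hsa
      exact Or.inr (Or.inr (Or.inr (Or.inr (Or.inr (Or.inr (Or.inr (Or.inr (Or.inr (Or.inr (Or.inr (Or.inr
        (Or.inl (quadCase Q hodd hQ hpol (fixQuad Q hQH))))))))))))))
  · -- tensor decompositions
    by_cases hodd : Odd (Fintype.card F)
    swap
    · -- characteristic two
      have h2 := h2even hodd
      have hkey : ∀ {k d : ℕ}, 2 ≤ k → 2 ≤ d →
          HasFormTensorOf (RingEquiv.refl F) (Cfsg.sympForm 6 F) H k d →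
          ∃ Q : (Fin 6 ⊕ Fin 6 → F) → F, Cfsg.Geo.IsNondegenerateQuadraticForm Q ∧
            (∀ u v : (Fin 6 ⊕ Fin 6 → F), QuadraticMap.polar Q u v = (Cfsg.sympForm 6 F) u v) ∧
            H ≤ Cfsg.Geo.quadSimilarityGroup Q := by
        intro k d hk hd ht
        obtain ⟨e, P, S, T, hS, hT, hle, hform⟩ := ht
        haveI : Nonempty (Fin k) := ⟨⟨0, by omega⟩⟩
        haveI : Nonempty (Fin d) := ⟨⟨0, by omega⟩⟩
        have hS0 := hS.ne_zero
        have hT0 := hT.ne_zero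
        obtain ⟨a, b, ha, hSa, hTb, hab⟩ := factors_reflexive hf hS0 hT0 hform
        have hrefl : ∀ {n : ℕ} (M : Matrix (Fin n) (Fin n) F), Mᵀ.map (RingEquiv.refl F) = Mᵀ :=
          fun M => Matrix.ext fun _ _ => rfl
        rw [hrefl] at hSa hTb
        have hdS := left_factor_alternating hf hfix hirr h2 hk (by omega) hle hS0 hT0 hform
        have hdT := left_factor_alternating hf hfix hirr h2 hd (by omega)
          (hle.trans (tensorProductSubgroup_swap e P)) hT0 hS0 (formTensor_swap hform)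
        have hone : ∀ {n : ℕ} {M : Matrix (Fin n) (Fin n) F} {c : F}, M ≠ 0 → Mᵀ = c • M → Mᵀ = M := by
          intro n M c hM hMc
          obtain ⟨i, j, hij⟩ : ∃ i j, M i j ≠ 0 := by
            by_contra hn; push Not at hn; exact hM (Matrix.ext hn)
          have e1 : M j i = c * M i j := congrFun (congrFun hMc i) j
          have e2 : M i j = c * M j i := congrFun (congrFun hMc j) i
          have h3 : (c * c - 1) * M i j = 0 := by linear_combination -e2 - c * e1
          have h4 := (mul_eq_zero.1 h3).resolve_right hij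
          have h5 : (c - 1) * (c - 1) = 0 := by linear_combination h4 - (c - 1) * h2
          rw [hMc, sub_eq_zero.1 (mul_self_eq_zero.1 h5), one_smul]
        obtain ⟨Q, hQ, hpol, hQH, -⟩ := exists_tensor_quad h2 CfsgLib.MaxSub.isSymplecticForm_sympForm hfix hle
          (formOf_self_of_diag h2 (hone hS0 hSa) hdS) (formOf_self_of_diag h2 (hone hT0 hTb) hdT) hform
        exact ⟨Q, hQ, hpol, fixQuad Q hQH⟩
      obtain ⟨Q, hQ, hpol, hQH⟩ := htensor.elim (hkey le_rfl (by norm_num)) (hkey (by norm_num) (by norm_num))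
      exact Or.inr (Or.inr (Or.inr (Or.inr (Or.inr (Or.inr (Or.inr (Or.inr (Or.inr (Or.inr (Or.inr (Or.inr
        (Or.inl (quadCase Q hodd hQ hpol hQH)))))))))))))
    -- odd characteristic
    have h2 := h2odd hodd
    have hsigns : ∀ {k d : ℕ} {e : (Fin 6 ⊕ Fin 6) ≃ Fin k × Fin d} {P : Matrix.GeneralLinearGroup (Fin 6 ⊕ Fin 6) F}
        {S : Matrix (Fin k) (Fin k) F} {T : Matrix (Fin d) (Fin d) F}, S ≠ 0 → T ≠ 0 →
        (∀ x y : Fin k × Fin d → F, (Cfsg.sympForm 6 F) (mat P *ᵥ (x ∘ e)) (mat P *ᵥ (y ∘ e)) =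
          Cfsg.Geo.formOfGram (RingEquiv.refl F) (S ⊗ₖ T) x y) →
        (Sᵀ = -S ∧ Tᵀ = T) ∨ (Sᵀ = S ∧ Tᵀ = -T) := by
      intro k d e P S T hS0 hT0 hform
      obtain ⟨a, b, ha, hSa, hTb, hab⟩ := factors_reflexive hf hS0 hT0 hform
      have hrefl : ∀ {n : ℕ} (M : Matrix (Fin n) (Fin n) F), Mᵀ.map (RingEquiv.refl F) = Mᵀ :=
        fun M => Matrix.ext fun _ _ => rfl
      rw [hrefl] at hSa hTb
      obtain ⟨i, j, hij⟩ : ∃ i j, S i j ≠ 0 := by
        by_contra hn; push Not at hn; exact hS0 (Matrix.ext hn)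
      have e1 : S j i = a * S i j := congrFun (congrFun hSa i) j
      have e2 : S i j = a * S j i := congrFun (congrFun hSa j) i
      have h3 : (a * a - 1) * S i j = 0 := by linear_combination -e2 - a * e1
      have h4 := (mul_eq_zero.1 h3).resolve_right hij
      rcases mul_self_eq_one_iff.1 (sub_eq_zero.1 h4) with h | h <;> subst h
      · refine Or.inr ⟨by rw [hSa, one_smul], ?_⟩
        rw [hTb, show b = -1 by linear_combination -hab, neg_one_smul]
      · refine Or.inl ⟨by rw [hSa, neg_one_smul], ?_⟩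
        rw [hTb, show b = 1 by linear_combination hab, one_smul]
    have hstruct : ∀ {k d : ℕ} {e : (Fin 6 ⊕ Fin 6) ≃ Fin k × Fin d} {P : Matrix.GeneralLinearGroup (Fin 6 ⊕ Fin 6) F}
        {S : Matrix (Fin k) (Fin k) F} {T : Matrix (Fin d) (Fin d) F},
        (∀ x y : Fin k × Fin d → F, (Cfsg.sympForm 6 F) (mat P *ᵥ (x ∘ e)) (mat P *ᵥ (y ∘ e)) =
          Cfsg.Geo.formOfGram (RingEquiv.refl F) (S ⊗ₖ T) x y) →
        Cfsg.Geo.IsTensorFormStructure id (Cfsg.sympForm 6 F) (formOf (RingEquiv.refl F) S)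
          (formOf (RingEquiv.refl F) T) e P := by
      intro k d e P S T hform
      refine ⟨1, one_ne_zero, fun x y => ?_⟩
      rw [one_mul, gramMatrix_formOf, gramMatrix_formOf]
      exact hform x y
    rcases htensor with ht | ht
    · obtain ⟨e, P, S, T, hS, hT, hle, hform⟩ := ht
      rcases hsigns hS.ne_zero hT.ne_zero hform with ⟨hSs, hTs⟩ | ⟨hSs, hTs⟩
      · exact Or.inr (Or.inr (Or.inr (Or.inr (Or.inr (Or.inr (Or.inr (Or.inr (Or.inr (Or.inl
          ⟨hodd, e, P, _, _, isSymplecticForm_formOf hS hSs (formOf_self_of_skew h2 hSs),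
            isSymmetricForm_formOf hT hTs, hstruct hform,
            heq hle (not_le_tensor le_rfl (by norm_num) e P)⟩)))))))))
      rcases binary_factor_dichotomy hf h2 hfix hirr hS hT hSs hle hform with
        ⟨n, D, hD, hn, hts, hle'⟩ | ⟨K, hK, hcl, hnsa, hle', -⟩
      · obtain rfl : n = 6 := by omega
        exact Or.inr (Or.inr (Or.inr (Or.inr (Or.inr (Or.inl ⟨hodd, D, hD, hts,
          heq hle' (not_le_decomposition hD (by norm_num))⟩)))))
      · exact Or.inr (Or.inr (Or.inr (Or.inr (Or.inr (Or.inr (Or.inr (Or.inr (Or.inl ⟨hodd, K, hK, hcl,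
          hnsa, heq hle' (not_le_field (by norm_num) le_rfl hK)⟩))))))))
    · obtain ⟨e, P, S, T, hS, hT, hle, hform⟩ := ht.swap
      rcases hsigns hS.ne_zero hT.ne_zero hform with ⟨hSs, hTs⟩ | ⟨-, hTs⟩
      swap
      · exfalso
        have hd := congrArg Matrix.det hTs
        rw [Matrix.det_transpose, Matrix.det_neg, Fintype.card_fin] at hd
        have h0 : (2 : F) * T.det = 0 := by linear_combination hd
        exact ((Matrix.isUnit_iff_isUnit_det _).1 hT).ne_zero ((mul_eq_zero.1 h0).resolve_left h2)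
      by_cases hq : Fintype.card F = 3
      · obtain ⟨D, hD, hle'⟩ := frame_decomposition hq hf hfix hirr (by norm_num) hS hT hTs hle hform
        exact Or.inr (Or.inr (Or.inr (Or.inl ⟨D, hD, heq hle' (not_le_decomposition hD.decomp (by norm_num))⟩)))
      · have h5 : 5 ≤ Fintype.card F := by
          have h1 := Fintype.one_lt_card (α := F)
          obtain ⟨n, hn⟩ := hodd
          omega
        exact Or.inr (Or.inr (Or.inr (Or.inr (Or.inr (Or.inr (Or.inr (Or.inr (Or.inr (Or.inr (Or.inl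
          ⟨hodd, h5, e, P, _, _, isSymplecticForm_formOf hS hSs (formOf_self_of_skew h2 hSs),
            isSymmetricForm_formOf hT hTs, hstruct hform,
            heq hle (not_le_tensor (by norm_num) (by norm_num) e P)⟩))))))))))
  · -- almost simple groups
    have hPfix : Cfsg.Geo.FixesForm (Cfsg.Geo.matrixSet P) (Cfsg.sympForm 6 F) :=
      fun s hs => hfix s (Set.image_mono hP.le hs)
    by_cases hreal : ∃ F₀ : Subfield F, F₀ ≠ ⊤ ∧ Cfsg.Geo.RealisableOver F₀ (Cfsg.Geo.matrixSet P)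
    · obtain ⟨F₀, h0, hreal⟩ := hreal
      obtain ⟨F₁, r, B, ζ, hr, hcard, hζ, hrat, hle⟩ :=
        exists_form_subfield hf h0 hP.normal hP.absIrred hPfix hreal
      have hF₁ : F₁ ≠ ⊤ := by
        rintro rfl
        have h1 : Nat.card (⊤ : Subfield F) = Fintype.card F := by
          rw [← Nat.card_eq_fintype_card]
          exact Nat.card_congr Subfield.topEquiv.toEquiv
        rw [h1] at hcard
        nth_rw 1 [← pow_one (Fintype.card F)] at hcard
        exact hr.ne_one (Nat.pow_right_injective Fintype.one_lt_card hcard).symm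
      exact Or.inr (Or.inr (Or.inr (Or.inr (Or.inr (Or.inr (Or.inr (Or.inr (Or.inr (Or.inr (Or.inr (Or.inl
        ⟨F₁, r, B, ζ, hr, hcard, hζ, hrat, heq hle (not_le_subfield (by norm_num) hF₁ B)⟩)))))))))))
    by_cases hQ : ∃ Q : (Fin 6 ⊕ Fin 6 → F) → F, Cfsg.Geo.IsNondegenerateQuadraticForm Q ∧
        Cfsg.Geo.FixesQuadForm (Cfsg.Geo.matrixSet P) Q
    · obtain ⟨Q, hQ, hQP⟩ := hQ
      have hpolfix : Cfsg.Geo.FixesForm (Cfsg.Geo.matrixSet P) (QuadraticMap.polar Q) := fun s hs u v => by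
        simp only [QuadraticMap.polar, ← Matrix.mulVec_add, hQP s hs]
      obtain ⟨c, hc⟩ := fixesForm_smul_eq hf (isSesq_of_bilinear hQ.polar_bilinear) hP.absIrred hPfix hpolfix
      have hc0 : c ≠ 0 := by
        rintro rfl
        obtain ⟨x, hx⟩ := (hQ.nondegenerate (Pi.single (Sum.inl 0) 1)
          (fun h => by simpa using congrFun h (Sum.inl 0))).1
        exact hx (by rw [hc, zero_mul])
      by_cases hodd : Odd (Fintype.card F)
      · exfalso
        obtain ⟨x, hx⟩ := (hQ.nondegenerate (Pi.single (Sum.inl 0) 1)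
          (fun h => by simpa using congrFun h (Sum.inl 0))).1
        have e1 := hc x (Pi.single (Sum.inl 0) 1)
        have e2 := hc (Pi.single (Sum.inl 0) 1) x
        rw [QuadraticMap.polar_comm, hf.refl x, RingEquiv.refl_apply] at e2
        have h0 : (2 : F) * QuadraticMap.polar Q x (Pi.single (Sum.inl 0) 1) = 0 := by
          linear_combination e1 + e2
        exact hx ((mul_eq_zero.1 h0).resolve_left (h2odd hodd))
      · let Q' : (Fin 6 ⊕ Fin 6 → F) → F := fun v => c⁻¹ * Q v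
        have hpol : ∀ u v : (Fin 6 ⊕ Fin 6 → F), QuadraticMap.polar Q' u v = (Cfsg.sympForm 6 F) u v := by
          intro u v
          have h1 := hc u v
          simp only [QuadraticMap.polar, Q'] at h1 ⊢
          rw [← mul_sub, ← mul_sub, h1, ← mul_assoc, inv_mul_cancel₀ hc0, one_mul]
        have hQ' : Cfsg.Geo.IsNondegenerateQuadraticForm Q' :=
          isQuadraticForm_of_polar CfsgLib.MaxSub.isSymplecticForm_sympForm.bilinear hf.nondegenerate
            (fun a v => by simp only [Q', hQ.smul]; ring) hpol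
        have hQ'P : Cfsg.Geo.FixesQuadForm (Cfsg.Geo.matrixSet P) Q' := fun s hs v => by
          simp only [Q', hQP s hs]
        exact Or.inr (Or.inr (Or.inr (Or.inr (Or.inr (Or.inr (Or.inr (Or.inr (Or.inr (Or.inr (Or.inr (Or.inr
          (Or.inl (quadCase Q' hodd hQ' hpol
            (normalizer_le_quadSimilarityGroup (by simp) hQ' hP.absIrred hQ'P hP.normal))))))))))))))
    refine Or.inr (Or.inr (Or.inr (Or.inr (Or.inr (Or.inr (Or.inr (Or.inr (Or.inr (Or.inr (Or.inr (Or.inr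
      (Or.inr ⟨P, hP.toResidualCore fun F₀ h0 hr => hreal ⟨F₀, h0, hr⟩, hQ, ?_⟩))))))))))))
    rintro ⟨σ, f, hf', hfix'⟩
    exact hreal (realisable_of_two_forms hf hf' hP.absIrred hPfix hfix')

end Cfsg.Agent.S5868
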