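import Cfsg.Statements.S5870
import Cfsg.Agent.OrthMax.TotallySingular
import Cfsg.Agent.OrthMax.NonsingularVector
import Cfsg.Agent.OrthMax.NondegenerateWrap
import Cfsg.Agent.OrthMax.DecompWrap
import Cfsg.Agent.OrthMax.UnitaryField
import Cfsg.Agent.OrthMono.Maximal
import Cfsg.Agent.OrthSubfield.Maximal
import Cfsg.Agent.OrthExtTwo.Maximal

import Cfsg.Agent.OrthMax.SingularPairMax
import Cfsg.Agent.OrthTwelveTensor.Symp
import Cfsg.Agent.OrthExtR.PlusMaximal

set_option autoImplicit false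
set_option maxHeartbeats 1000000
open Cfsg

namespace Cfsg.Agent.S5870

/-- Maximal subgroups of Ω_12^+(q) of geometric type (any q). Let F be a finite field with q elements (characteristic p), Q a non-degenerate quadratic form on F^12 (non-degenerate polar form) of plus type (Witt index 6: some totally singular 6-space), and Ω = Ω_12^+(q) the commutator subgroup of the isometry group of Q, inside GL_12(F). Each of the following, intersected with Ω, is a maximal subgroup of Ω: (1) the stabiliser of any non-zero subspace on which Q vanishes identically other than those of dimension 5 (totally singular subspaces, dimensions 1, 2, 3, 4 and 6); (2) for q odd, the stabiliser of any subspace of odd dimension on which the polar form of Q is non-degenerate; (3) the stabiliser of any non-degenerate 2-space of minus type (containing no non-zero singular vector); (4) for q ≥ 4, the stabiliser of any non-degenerate 2-space of plus type (containing a non-zero singular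 vector); (5) the stabiliser of any non-degenerate 4-space (either type); (6) for q even, the stabiliser of the 1-space spanned by any non-singular vector v (Q(v) ≠ 0); (7) for q = p an odd prime, the stabiliser of any decomposition of F^12 into 12 pairwise orthogonal, pairwise Q-isometric non-degenerate 1-spaces; (8) for q ≥ 7, the stabiliser of any decomposition of F^12 into 6 pairwise orthogonal, pairwise Q-isometric non-degenerate 2-spaces of plus type; (9) for q ≠ 3, the stabiliser of any decomposition of F^12 into 6 pairwise orthogonal, pairwise Q-isometric non-degenerate 2-spaces of minus type; (10) for q odd with q ≥ 5, the stabiliser of any decomposition of F^12 into 4 pairwise orthogonal, pairwise Q-isometric non-degenerate 3-spaces; (11) for q ≥ 3, the stabiliser of any decomposition of F^12 into 3 pairwise orthogonal, pairwise Q-isometric non-degenerate 4-spaces; (12) the stabiliser of any decomposition of F^12 into 2 pairwise orthogonal, pairwise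 Q-isometric non-degenerate 6-spaces; (13) the stabiliser of any decomposition into two totally singular 6-spaces; (14) for q odd, the normaliser of any degree-2 subfield K of the matrix algebra whose elements are self-adjoint for the polar form of Q (Q is then the trace of a quadratic form over K); (15) for q odd, the normaliser of any degree-3 subfield K of the matrix algebra whose elements are self-adjoint for the polar form of Q (Q is then the trace of a quadratic form over K); (16) the normaliser of any degree-2 subfield K of the matrix algebra, closed under adjoints for the polar form but not self-adjoint, whose elements act as similarities of Q (so F^12 becomes a 6-dimensional space over K with a hermitian form, and the subgroup is of the type of the unitary group GU_6(q)); (17) for q ≥ 3, the stabiliser of any tensor decomposition F^12 = F^2 ⊗ F^6 in which the polar form of Q is (alternating form) ⊗ (alternating form) up to a scalar and Q vanishes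 on all pure tensors; (18) every subfield group for a subfield F₀ with |F| = |F₀|^r, r prime, whose F₀-structure carries a non-zero scalar multiple of Q. -/
theorem result {F : Type*} [Field F] [Fintype F] (Q : (Fin 12 → F) → F) (hQ : Cfsg.Geo.IsNondegenerateQuadraticForm Q) (hplus : Cfsg.Geo.IsPlusTypeOn Q ⊤) :
    (∀ W : Submodule F (Fin 12 → F), W ≠ ⊥ → Cfsg.Geo.IsTotallySingularQuad Q W → Module.finrank F W ≠ 5 → Cfsg.Geo.IsMaximalIn (Cfsg.Geo.omegaGL Q) (Cfsg.Geo.subspaceStabilizer W ⊓ Cfsg.Geo.omegaGL Q)) ∧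
    (Odd (Fintype.card F) → ∀ W : Submodule F (Fin 12 → F), W ≠ ⊥ → W ≠ ⊤ → Odd (Module.finrank F W) → 2 * Module.finrank F W ≠ 12 → Cfsg.Geo.IsNondegenerateOn (QuadraticMap.polar Q) W → Cfsg.Geo.IsMaximalIn (Cfsg.Geo.omegaGL Q) (Cfsg.Geo.subspaceStabilizer W ⊓ Cfsg.Geo.omegaGL Q)) ∧
    (∀ W : Submodule F (Fin 12 → F), Module.finrank F W = 2 → Cfsg.Geo.IsNondegenerateOn (QuadraticMap.polar Q) W → ¬ Cfsg.Geo.IsPlusTypeOn Q W → Cfsg.Geo.IsMaximalIn (Cfsg.Geo.omegaGL Q) (Cfsg.Geo.subspaceStabilizer W ⊓ Cfsg.Geo.omegaGL Q)) ∧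
    (4 ≤ Fintype.card F → ∀ W : Submodule F (Fin 12 → F), Module.finrank F W = 2 → Cfsg.Geo.IsNondegenerateOn (QuadraticMap.polar Q) W → Cfsg.Geo.IsPlusTypeOn Q W → Cfsg.Geo.IsMaximalIn (Cfsg.Geo.omegaGL Q) (Cfsg.Geo.subspaceStabilizer W ⊓ Cfsg.Geo.omegaGL Q)) ∧
    (∀ W : Submodule F (Fin 12 → F), Module.finrank F W = 4 → Cfsg.Geo.IsNondegenerateOn (QuadraticMap.polar Q) W → Cfsg.Geo.IsMaximalIn (Cfsg.Geo.omegaGL Q) (Cfsg.Geo.subspaceStabilizer W ⊓ Cfsg.Geo.omegaGL Q)) ∧
    (¬ Odd (Fintype.card F) → ∀ v : (Fin 12 → F), Q v ≠ 0 → Cfsg.Geo.IsMaximalIn (Cfsg.Geo.omegaGL Q) (Cfsg.Geo.subspaceStabilizer (Submodule.span F {v}) ⊓ Cfsg.Geo.omegaGL Q)) ∧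
    ((∃ p : ℕ, p.Prime ∧ Odd p ∧ Fintype.card F = p) → ∀ D : Fin 12 → Submodule F (Fin 12 → F), Cfsg.Geo.IsOrthogonalMDecomposition Q 1 D → Cfsg.Geo.IsMaximalIn (Cfsg.Geo.omegaGL Q) (Cfsg.Geo.decompositionStabilizer D ⊓ Cfsg.Geo.omegaGL Q)) ∧
    (7 ≤ Fintype.card F → ∀ D : Fin 6 → Submodule F (Fin 12 → F), Cfsg.Geo.IsOrthogonalMDecomposition Q 2 D → (∀ i, Cfsg.Geo.IsPlusTypeOn Q (D i)) → Cfsg.Geo.IsMaximalIn (Cfsg.Geo.omegaGL Q) (Cfsg.Geo.decompositionStabilizer D ⊓ Cfsg.Geo.omegaGL Q)) ∧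
    (Fintype.card F ≠ 3 → ∀ D : Fin 6 → Submodule F (Fin 12 → F), Cfsg.Geo.IsOrthogonalMDecomposition Q 2 D → (∀ i, ¬ Cfsg.Geo.IsPlusTypeOn Q (D i)) → Cfsg.Geo.IsMaximalIn (Cfsg.Geo.omegaGL Q) (Cfsg.Geo.decompositionStabilizer D ⊓ Cfsg.Geo.omegaGL Q)) ∧
    (Odd (Fintype.card F) ∧ 5 ≤ Fintype.card F → ∀ D : Fin 4 → Submodule F (Fin 12 → F), Cfsg.Geo.IsOrthogonalMDecomposition Q 3 D → Cfsg.Geo.IsMaximalIn (Cfsg.Geo.omegaGL Q) (Cfsg.Geo.decompositionStabilizer D ⊓ Cfsg.Geo.omegaGL Q)) ∧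
    (3 ≤ Fintype.card F → ∀ D : Fin 3 → Submodule F (Fin 12 → F), Cfsg.Geo.IsOrthogonalMDecomposition Q 4 D → Cfsg.Geo.IsMaximalIn (Cfsg.Geo.omegaGL Q) (Cfsg.Geo.decompositionStabilizer D ⊓ Cfsg.Geo.omegaGL Q)) ∧
    (∀ D : Fin 2 → Submodule F (Fin 12 → F), Cfsg.Geo.IsOrthogonalMDecomposition Q 6 D → Cfsg.Geo.IsMaximalIn (Cfsg.Geo.omegaGL Q) (Cfsg.Geo.decompositionStabilizer D ⊓ Cfsg.Geo.omegaGL Q)) ∧
    (∀ D : Fin 2 → Submodule F (Fin 12 → F), Cfsg.Geo.IsMDecomposition 6 D → (∀ i, Cfsg.Geo.IsTotallySingularQuad Q (D i)) → Cfsg.Geo.IsMaximalIn (Cfsg.Geo.omegaGL Q) (Cfsg.Geo.decompositionStabilizer D ⊓ Cfsg.Geo.omegaGL Q)) ∧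
    (Odd (Fintype.card F) → ∀ K : Subalgebra F (Matrix (Fin 12) (Fin 12) F), Cfsg.Geo.IsFieldSubalgebra 2 K → Cfsg.Geo.IsSelfAdjointFor (QuadraticMap.polar Q) K → Cfsg.Geo.IsMaximalIn (Cfsg.Geo.omegaGL Q) (Cfsg.Geo.subalgebraNormalizer K ⊓ Cfsg.Geo.omegaGL Q)) ∧
    (Odd (Fintype.card F) → ∀ K : Subalgebra F (Matrix (Fin 12) (Fin 12) F), Cfsg.Geo.IsFieldSubalgebra 3 K → Cfsg.Geo.IsSelfAdjointFor (QuadraticMap.polar Q) K → Cfsg.Geo.IsMaximalIn (Cfsg.Geo.omegaGL Q) (Cfsg.Geo.subalgebraNormalizer K ⊓ Cfsg.Geo.omegaGL Q)) ∧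
    (∀ K : Subalgebra F (Matrix (Fin 12) (Fin 12) F), Cfsg.Geo.IsFieldSubalgebra 2 K → Cfsg.Geo.IsAdjointClosedFor (QuadraticMap.polar Q) K → ¬ Cfsg.Geo.IsSelfAdjointFor (QuadraticMap.polar Q) K → (∀ k ∈ K, ∃ c : F, ∀ v : (Fin 12 → F), Q (Matrix.mulVec k v) = c * Q v) → Cfsg.Geo.IsMaximalIn (Cfsg.Geo.omegaGL Q) (Cfsg.Geo.subalgebraNormalizer K ⊓ Cfsg.Geo.omegaGL Q)) ∧
    (3 ≤ Fintype.card F → ∀ (e : Fin 12 ≃ Fin 2 × Fin 6) (P : Matrix.GeneralLinearGroup (Fin 12) F) (f₁ : (Fin 2 → F) → (Fin 2 → F) → F) (f₂ : (Fin 6 → F) → (Fin 6 → F) → F), Cfsg.Geo.IsSymplecticForm f₁ → Cfsg.Geo.IsSymplecticForm f₂ → Cfsg.Geo.IsTensorFormStructure id (QuadraticMap.polar Q) f₁ f₂ e P → (∀ (x₁ : Fin 2 → F) (x₂ : Fin 6 → F), Q (Matrix.mulVec (P : Matrix (Fin 12) (Fin 12) F) ((fun a : Fin 2 × Fin 6 => x₁ a.1 * x₂ a.2) ∘ e)) = 0) → Cfsg.Geo.IsMaximalIn (Cfsg.Geo.omegaGL Q) (Cfsg.Geo.tensorProductSubgroup 2 6 e P ⊓ Cfsg.Geo.omegaGL Q)) ∧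
    (∀ (F₀ : Subfield F) (r : ℕ) (P : Matrix.GeneralLinearGroup (Fin 12) F) (ζ : F), r.Prime → Fintype.card F = Nat.card F₀ ^ r → ζ ≠ 0 → Cfsg.Geo.IsQuadFormRationalStructure (fun v : Fin 12 → F => ζ * Q v) F₀ P → Cfsg.Geo.IsMaximalIn (Cfsg.Geo.omegaGL Q) (Cfsg.Geo.subfieldSubgroup F₀ P ⊓ Cfsg.Geo.omegaGL Q)) := by
  have hn : Fintype.card (Fin 12) = 12 := Fintype.card_fin 12
  have hodd2 : Odd (Fintype.card F) → (2 : F) ≠ 0 := CfsgLib.MaxSub.two_ne_zero_of_odd
  have heven2 : ¬ Odd (Fintype.card F) → (2 : F) = 0 := fun h => by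
    by_contra h2
    exact h (Nat.odd_iff.2 (FiniteField.odd_card_of_char_ne_two fun hr => h2 (by
      have := ringChar.of_eq hr
      exact CharTwo.two_eq_zero)))
  have hnd : ∀ W : Submodule F (Fin 12 → F), W ≠ ⊥ → W ≠ ⊤ →
      Cfsg.Geo.IsNondegenerateOn (QuadraticMap.polar Q) W →
      (2 * Module.finrank F W ≠ 12) →
      (Fintype.card F ≤ 3 → Module.finrank F W = 2 → ¬ Cfsg.Geo.IsPlusTypeOn Q W) →
      (Fintype.card F ≤ 3 → Module.finrank F W ≠ 10) →
      Cfsg.Geo.IsMaximalIn (Cfsg.Geo.omegaGL Q) (Cfsg.Geo.subspaceStabilizer W ⊓ Cfsg.Geo.omegaGL Q) :=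
    fun W h0 h1 hW hhalf hP hP' => CfsgLib.OrthMax.isMaximalIn_nd_fun hQ (by omega) hW h0 h1
      (fun h => absurd (by omega) hhalf) (by
        rintro ⟨h3, U, hU2, hUn, hUp, rfl | ⟨-, hsum⟩⟩
        · exact hP h3 hU2 hUp
        · exact hP' h3 (by omega))
  have hsmall : ∀ W : Submodule F (Fin 12 → F), ∀ d, Module.finrank F W = d → 1 ≤ d → d < 12 →
      W ≠ ⊥ ∧ W ≠ ⊤ := fun W d hd h1 h2 =>
    ⟨fun h => by rw [h, finrank_bot] at hd; omega, fun h => by
      rw [h, finrank_top, Module.finrank_pi] at hd; omega⟩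
  refine ⟨fun W h0 hW hne => CfsgLib.OrthMax.isMaximalIn_singular_fun hQ (by omega) h0 hW
      fun _ => by omega,
    fun ho W h0 h1 hWo hne hW => hnd W h0 h1 hW hne
      (fun _ h => by rw [h] at hWo; exact absurd hWo (by decide))
      (fun _ h => by rw [h] at hWo; exact absurd hWo (by decide)),
    fun W hW2 hW hm => hnd W (hsmall W 2 hW2 (by omega) (by omega)).1 (hsmall W 2 hW2 (by omega) (by omega)).2 hW
      (by omega) (fun _ _ => hm) (fun _ h => by omega),
    fun h4 W hW2 hW _ => hnd W (hsmall W 2 hW2 (by omega) (by omega)).1 (hsmall W 2 hW2 (by omega) (by omega)).2 hW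
      (by omega) (fun h => absurd h (by omega)) (fun _ h => by omega),
    fun W hW4 hW => hnd W (hsmall W 4 hW4 (by omega) (by omega)).1 (hsmall W 4 hW4 (by omega) (by omega)).2 hW
      (by omega) (fun _ h => by omega) (fun _ h => by omega),
    fun he v hv => CfsgLib.OrthMax.isMaximalIn_nonsingular_fun hQ (by omega) (heven2 he) hv,
    fun ⟨p, hp, hpo, hcard⟩ D hD => ?_, fun hq D hD _ => ?_, fun hq D hD hm => ?_, fun hq D hD => ?_,
    fun hq D hD => ?_, fun D hD => ?_, fun D hD hts => ?_, fun ho K hK hsa => ?_, ?_,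
    fun K hK hac hnsa hsc => CfsgLib.OrthMax.isMaximalIn_unitary_field
      (Q := CfsgLib.AschbacherQuad.quadForm hQ) (CfsgLib.AschbacherQuad.quadForm_nondegenerate hQ)
      (by omega) hK hac hnsa hsc,
    fun hq e P f₁ f₂ hf₁ hf₂ hT hpure => ?_,
    fun F₀ r P ζ hr hcard hζ hP => CfsgLib.OrthSubfield.isMaximalIn_subfield hQ (by omega) hr hcard hζ hP⟩
  · have h := CfsgLib.OrthMax.dsys_of_decomp hQ hD
    have := CfsgLib.OrthMono.isMaximalIn_frame h (by omega) (by omega) (by rw [hcard]; exact hp)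
      (hodd2 (Nat.odd_iff.2 (by rw [hcard]; exact Nat.odd_iff.1 hpo)))
    rw [CfsgLib.AschbacherQuad.coe_quadForm] at this
    exact this
  · have h := CfsgLib.OrthMax.dsys_of_decomp hQ hD
    have := CfsgLib.OrthMax.isMaximalIn_decomp_even h (by omega) (by omega) (by omega)
      (fun h => absurd h (by decide)) (fun _ => by omega) (fun _ => by omega)
    rw [CfsgLib.AschbacherQuad.coe_quadForm] at this
    exact this
  · have h := CfsgLib.OrthMax.dsys_of_decomp hQ hD
    have := CfsgLib.OrthMax.isMaximalIn_decomp_even h (by omega) (by omega) (by omega)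
      (fun h => absurd h (by decide)) (fun _ => hq) (fun hall => absurd (hall 0) (hm 0))
    rw [CfsgLib.AschbacherQuad.coe_quadForm] at this
    exact this
  · have h := CfsgLib.OrthMax.dsys_of_decomp hQ hD
    have := CfsgLib.OrthMax.isMaximalIn_decomp_even h (by omega) (by omega) (by omega)
      (fun _ => hq.1) (fun _ => by omega) (fun _ => by omega)
    rw [CfsgLib.AschbacherQuad.coe_quadForm] at this
    exact this
  · have h := CfsgLib.OrthMax.dsys_of_decomp hQ hD
    have := CfsgLib.OrthMax.isMaximalIn_decomp_even h (by omega) (by omega) (by omega)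
      (fun h => absurd h (by decide)) (fun h => absurd h (by omega)) (fun _ => by omega)
    rw [CfsgLib.AschbacherQuad.coe_quadForm] at this
    exact this
  · have h := CfsgLib.OrthMax.dsys_of_decomp hQ hD
    have := CfsgLib.OrthMax.isMaximalIn_decomp_even h (by omega) (by omega) (by omega)
      (fun h => absurd h (by decide)) (fun h => absurd h (by omega)) (fun _ => by omega)
    rw [CfsgLib.AschbacherQuad.coe_quadForm] at this
    exact this
  · have hp : CfsgLib.OrthMax.IsSingularPair (CfsgLib.AschbacherQuad.quadForm hQ) (D 0) (D 1) :=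
      ⟨hts 0, hts 1, disjoint_iff.1 (hD.indep.pairwiseDisjoint (show (0 : Fin 2) ≠ 1 by decide)),
        by rw [hD.finrank_eq, hn], by rw [hD.finrank_eq, hn]⟩
    exact CfsgLib.OrthMax.isMaximalIn_singular_pair (CfsgLib.AschbacherQuad.quadForm_nondegenerate hQ)
      (by omega) hp (by rw [hD.finrank_eq 0]; decide)
  · exact CfsgLib.OrthExtTwo.isMaximalIn_selfAdjoint_two (Q := CfsgLib.AschbacherQuad.quadForm hQ)
      (CfsgLib.AschbacherQuad.quadForm_nondegenerate hQ) (by omega) ho hK hsa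
  · exact fun ho K hK hsa => CfsgLib.OrthExtR.isMaximalIn_cubic_plus hQ hn hplus ho hK hsa
  · exact CfsgLib.OrthTwelveTensor.isMaximalIn_two_six hq Q hQ e P f₁ f₂ hf₁ hf₂ hT hpure

end Cfsg.Agent.S5870
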