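import Cfsg.Statements.S5871
import Cfsg.Agent.AschbacherQuad.Cases
-- import your own Cfsg.Agent.* helpers here

set_option autoImplicit false
set_option maxHeartbeats 1000000
open Cfsg

namespace Cfsg.Agent.S5871

open Matrix CfsgLib.Aschbacher CfsgLib.AschbacherForms CfsgLib.AschbacherQuad
open scoped Kronecker
attribute [-simp] RingEquiv.coe_refl

/-- Every maximal subgroup of Ω_12^+(q) is of one of the listed geometric types or lies in the residual class. Let F be a finite field with q elements (characteristic p), Q a non-degenerate quadratic form on F^12 of plus type (Witt index 6: some totally singular 6-space), Ω the commutator subgroup of its isometry group, and H a maximal subgroup of Ω (inside GL_12(F)). Then H is the intersection with Ω of one of: the stabiliser of a non-zero totally singular subspace of dimension ≠ 5; for q odd, the stabiliser of a non-degenerate subspace of odd dimension; the stabiliser of a non-degenerate 2-space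 of minus type; for q ≥ 4, the stabiliser of a non-degenerate 2-space of plus type; the stabiliser of a non-degenerate 4-space; for q even, the stabiliser of the span of a non-singular vector; for q = p an odd prime, the stabiliser of a decomposition into 12 pairwise orthogonal, pairwise isometric non-degenerate 1-spaces; for q ≥ 7, the stabiliser of a decomposition into 6 pairwise orthogonal, pairwise isometric non-degenerate 2-spaces of plus type; for q ≠ 3, the stabiliser of a decomposition into 6 pairwise orthogonal, pairwise isometric non-degenerate 2-spaces of minus type; for q odd with q ≥ 5, the stabiliser of a decomposition into 4 pairwise orthogonal, pairwise isometric non-degenerate 3-spaces; for q ≥ 3, the stabiliser of a decomposition into 3 pairwise orthogonal, pairwise isometric non-degenerate 4-spaces; the stabiliser of a decomposition into 2 pairwise orthogonal, pairwise isometric non-degenerate 6-spaces; of a decomposition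 into two totally singular 6-spaces; the normaliser of a degree-2 subfield of the matrix algebra; the normaliser of a degree-3 subfield of the matrix algebra; the normaliser of a degree-2 subfield K, adjoint-closed but not self-adjoint, acting by similarities of Q; for q ≥ 3, the stabiliser of a tensor decomposition of Q into alternating forms on F^2 and F^6 (Q vanishing on pure tensors); a subfield group (|F| = |F₀|^r, r prime) whose F₀-structure carries a non-zero multiple of Q — or else H lies in the residual class of the orthogonal case (modulo scalars H is almost simple, with absolutely irreducible perfect socle preimage realisable over no proper subfield and fixing no non-degenerate unitary form). -/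
theorem result {F : Type*} [Field F] [Fintype F] (Q : (Fin 12 → F) → F) (hQ : Cfsg.Geo.IsNondegenerateQuadraticForm Q) (hplus : Cfsg.Geo.IsPlusTypeOn Q ⊤) (H : Subgroup (Matrix.GeneralLinearGroup (Fin 12) F)) (hH : Cfsg.Geo.IsMaximalIn (Cfsg.Geo.omegaGL Q) H) :
    (∃ W : Submodule F (Fin 12 → F), W ≠ ⊥ ∧ Cfsg.Geo.IsTotallySingularQuad Q W ∧ Module.finrank F W ≠ 5 ∧ H = Cfsg.Geo.subspaceStabilizer W ⊓ Cfsg.Geo.omegaGL Q) ∨
    (Odd (Fintype.card F) ∧ ∃ W : Submodule F (Fin 12 → F), W ≠ ⊥ ∧ W ≠ ⊤ ∧ Odd (Module.finrank F W) ∧ 2 * Module.finrank F W ≠ 12 ∧ Cfsg.Geo.IsNondegenerateOn (QuadraticMap.polar Q) W ∧ H = Cfsg.Geo.subspaceStabilizer W ⊓ Cfsg.Geo.omegaGL Q) ∨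
    (∃ W : Submodule F (Fin 12 → F), Module.finrank F W = 2 ∧ Cfsg.Geo.IsNondegenerateOn (QuadraticMap.polar Q) W ∧ ¬ Cfsg.Geo.IsPlusTypeOn Q W ∧ H = Cfsg.Geo.subspaceStabilizer W ⊓ Cfsg.Geo.omegaGL Q) ∨
    (4 ≤ Fintype.card F ∧ ∃ W : Submodule F (Fin 12 → F), Module.finrank F W = 2 ∧ Cfsg.Geo.IsNondegenerateOn (QuadraticMap.polar Q) W ∧ Cfsg.Geo.IsPlusTypeOn Q W ∧ H = Cfsg.Geo.subspaceStabilizer W ⊓ Cfsg.Geo.omegaGL Q) ∨
    (∃ W : Submodule F (Fin 12 → F), Module.finrank F W = 4 ∧ Cfsg.Geo.IsNondegenerateOn (QuadraticMap.polar Q) W ∧ H = Cfsg.Geo.subspaceStabilizer W ⊓ Cfsg.Geo.omegaGL Q) ∨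
    (¬ Odd (Fintype.card F) ∧ ∃ v : (Fin 12 → F), Q v ≠ 0 ∧ H = Cfsg.Geo.subspaceStabilizer (Submodule.span F {v}) ⊓ Cfsg.Geo.omegaGL Q) ∨
    ((∃ p : ℕ, p.Prime ∧ Odd p ∧ Fintype.card F = p) ∧ ∃ D : Fin 12 → Submodule F (Fin 12 → F), Cfsg.Geo.IsOrthogonalMDecomposition Q 1 D ∧ H = Cfsg.Geo.decompositionStabilizer D ⊓ Cfsg.Geo.omegaGL Q) ∨
    (7 ≤ Fintype.card F ∧ ∃ D : Fin 6 → Submodule F (Fin 12 → F), Cfsg.Geo.IsOrthogonalMDecomposition Q 2 D ∧ (∀ i, Cfsg.Geo.IsPlusTypeOn Q (D i)) ∧ H = Cfsg.Geo.decompositionStabilizer D ⊓ Cfsg.Geo.omegaGL Q) ∨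
    (Fintype.card F ≠ 3 ∧ ∃ D : Fin 6 → Submodule F (Fin 12 → F), Cfsg.Geo.IsOrthogonalMDecomposition Q 2 D ∧ (∀ i, ¬ Cfsg.Geo.IsPlusTypeOn Q (D i)) ∧ H = Cfsg.Geo.decompositionStabilizer D ⊓ Cfsg.Geo.omegaGL Q) ∨
    (Odd (Fintype.card F) ∧ 5 ≤ Fintype.card F ∧ ∃ D : Fin 4 → Submodule F (Fin 12 → F), Cfsg.Geo.IsOrthogonalMDecomposition Q 3 D ∧ H = Cfsg.Geo.decompositionStabilizer D ⊓ Cfsg.Geo.omegaGL Q) ∨
    (3 ≤ Fintype.card F ∧ ∃ D : Fin 3 → Submodule F (Fin 12 → F), Cfsg.Geo.IsOrthogonalMDecomposition Q 4 D ∧ H = Cfsg.Geo.decompositionStabilizer D ⊓ Cfsg.Geo.omegaGL Q) ∨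
    (∃ D : Fin 2 → Submodule F (Fin 12 → F), Cfsg.Geo.IsOrthogonalMDecomposition Q 6 D ∧ H = Cfsg.Geo.decompositionStabilizer D ⊓ Cfsg.Geo.omegaGL Q) ∨
    (∃ D : Fin 2 → Submodule F (Fin 12 → F), Cfsg.Geo.IsMDecomposition 6 D ∧ (∀ i, Cfsg.Geo.IsTotallySingularQuad Q (D i)) ∧ H = Cfsg.Geo.decompositionStabilizer D ⊓ Cfsg.Geo.omegaGL Q) ∨
    (∃ K : Subalgebra F (Matrix (Fin 12) (Fin 12) F), Cfsg.Geo.IsFieldSubalgebra 2 K ∧ H = Cfsg.Geo.subalgebraNormalizer K ⊓ Cfsg.Geo.omegaGL Q) ∨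
    (∃ K : Subalgebra F (Matrix (Fin 12) (Fin 12) F), Cfsg.Geo.IsFieldSubalgebra 3 K ∧ H = Cfsg.Geo.subalgebraNormalizer K ⊓ Cfsg.Geo.omegaGL Q) ∨
    (∃ K : Subalgebra F (Matrix (Fin 12) (Fin 12) F), Cfsg.Geo.IsFieldSubalgebra 2 K ∧ Cfsg.Geo.IsAdjointClosedFor (QuadraticMap.polar Q) K ∧ ¬ Cfsg.Geo.IsSelfAdjointFor (QuadraticMap.polar Q) K ∧ (∀ k ∈ K, ∃ c : F, ∀ v : (Fin 12 → F), Q (Matrix.mulVec k v) = c * Q v) ∧ H = Cfsg.Geo.subalgebraNormalizer K ⊓ Cfsg.Geo.omegaGL Q) ∨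
    (3 ≤ Fintype.card F ∧ ∃ (e : Fin 12 ≃ Fin 2 × Fin 6) (P : Matrix.GeneralLinearGroup (Fin 12) F) (f₁ : (Fin 2 → F) → (Fin 2 → F) → F) (f₂ : (Fin 6 → F) → (Fin 6 → F) → F), Cfsg.Geo.IsSymplecticForm f₁ ∧ Cfsg.Geo.IsSymplecticForm f₂ ∧ Cfsg.Geo.IsTensorFormStructure id (QuadraticMap.polar Q) f₁ f₂ e P ∧ (∀ (x₁ : Fin 2 → F) (x₂ : Fin 6 → F), Q (Matrix.mulVec (P : Matrix (Fin 12) (Fin 12) F) ((fun a : Fin 2 × Fin 6 => x₁ a.1 * x₂ a.2) ∘ e)) = 0) ∧ H = Cfsg.Geo.tensorProductSubgroup 2 6 e P ⊓ Cfsg.Geo.omegaGL Q) ∨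
    (∃ (F₀ : Subfield F) (r : ℕ) (P : Matrix.GeneralLinearGroup (Fin 12) F) (ζ : F), r.Prime ∧ Fintype.card F = Nat.card F₀ ^ r ∧ ζ ≠ 0 ∧ Cfsg.Geo.IsQuadFormRationalStructure (fun v : Fin 12 → F => ζ * Q v) F₀ P ∧ H = Cfsg.Geo.subfieldSubgroup F₀ P ⊓ Cfsg.Geo.omegaGL Q) ∨
    Cfsg.Geo.InOrthogonalResidualClass H := by
  classical
  have h12 : Fintype.card (Fin 12) = 12 := Fintype.card_fin 12
  have hn7 : 7 ≤ Fintype.card (Fin 12) := by rw [h12]; norm_num
  have hf := isReflexive_polar hQ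
  have hHS : H ≤ Cfsg.Geo.omegaGL Q := hH.1.le
  obtain ⟨hfix, hfixB⟩ := fixes_of_le hHS
  have heq : ∀ {X : Subgroup (Matrix.GeneralLinearGroup (Fin 12) F)}, H ≤ X →
      ¬ Cfsg.Geo.omegaGL Q ≤ X → H = X ⊓ Cfsg.Geo.omegaGL Q := fun hle hne => eq_inf_of_maximal hH hle hne
  by_cases hirr : Cfsg.Geo.ActsIrreducibly (Cfsg.Geo.matrixSet H)
  swap
  · -- reducible groups
    rcases reducible_cases hQ h12 hH hirr with ⟨W, hW0, hWs, hWeq⟩ | h | h | h | h | ⟨W, hWd, hnd, hle, -⟩ | h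
    · by_cases h5 : Module.finrank F W = 5
      · obtain ⟨L₀, -, hL₀, hL₀d⟩ := hplus
        rw [finrank_top, Module.finrank_fintype_fun_eq_card, h12] at hL₀d
        obtain ⟨L, hWL, hL, hLd⟩ := exists_lagrangian_above hQ (m := 6) (by rw [h12]) hL₀ (by omega) hWs
        have hleW : H ≤ Cfsg.Geo.subspaceStabilizer W := hWeq.le.trans inf_le_left
        have hleL : H ≤ Cfsg.Geo.subspaceStabilizer L := fun g hg =>
          stabilizer_le_lagrangian hQ (m := 6) (by rw [h12]) (by norm_num) hWL hL hLd (by rw [h5]) (hHS hg) (hleW hg)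
        have hL0 : L ≠ ⊥ := fun h => by rw [h, finrank_bot] at hLd; omega
        have hL1 : L ≠ ⊤ := fun h => by rw [h, finrank_top, Module.finrank_fintype_fun_eq_card, h12] at hLd; omega
        exact Or.inl ⟨L, hL0, hL, by omega, heq hleL (not_le_subspaceStabilizer hQ hn7 hL0 hL1)⟩
      · exact Or.inl ⟨W, hW0, hWs, h5, hWeq⟩
    · exact Or.inr (Or.inl h)
    · exact Or.inr (Or.inr (Or.inl h))
    · exact Or.inr (Or.inr (Or.inr (Or.inl h)))
    · exact Or.inr (Or.inr (Or.inr (Or.inr (Or.inl h))))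
    · have hc : IsCompl W (hf.perp W) := IsCompl.of_eq (hf.isNondegenerateOn_iff.1 hnd) (hf.sup_perp hnd)
      have hd := hf.finrank_perp W
      rw [h12] at hd
      have hD := decomposition_pair (m := 6) (by norm_num) hc hWd (by omega)
      have hiso := isometric_perp hQ hplus (k := 3) (by rw [h12]) hnd (by rw [hWd])
      have hD' : Cfsg.Geo.IsOrthogonalMDecomposition Q 6 ![W, hf.perp W] := by
        refine ⟨⟨hD, ?_, ?_⟩, ?_⟩
        · intro i
          fin_cases i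
          · exact hnd
          · exact hf.isNondegenerateOn_perp hnd
        · intro i j hij u hu v hv
          fin_cases i <;> fin_cases j
          · exact absurd rfl hij
          · exact hf.orth_comm (hv u hu)
          · exact hu v hv
          · exact absurd rfl hij
        · intro i j
          fin_cases i <;> fin_cases j
          · exact areIsometric_refl W
          · exact hiso
          · exact areIsometric_symm hiso
          · exact areIsometric_refl _
      refine (fun hh => Or.inr (Or.inr (Or.inr (Or.inr (Or.inr (Or.inr (Or.inr (Or.inr (Or.inr (Or.inr (Or.inr (Or.inl hh)))))))))))) ⟨![W, hf.perp W], hD', heq (fun g hg => mem_decompositionStabilizer_of hD fun i => ⟨i, ?_⟩)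
        (not_le_decompositionStabilizer hQ hn7 hD (Or.inl (by norm_num)))⟩
      fin_cases i
      · exact mem_subspaceStabilizer_iff.1 (hle hg)
      · exact mem_subspaceStabilizer_iff.1 (hf.stabilizer_perp (fixesForm_iff.1 hfixB g hg) (hle hg))
    · exact (fun hh => Or.inr (Or.inr (Or.inr (Or.inr (Or.inr (Or.inl hh)))))) h
  have hsub : ∀ {F₀ : Subfield F} {r : ℕ} {A : Matrix.GeneralLinearGroup (Fin 12) F} {ζ : F}, r.Prime →
      Fintype.card F = Nat.card F₀ ^ r → ζ ≠ 0 →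
      Cfsg.Geo.IsQuadFormRationalStructure (fun v => ζ * Q v) F₀ A → H ≤ Cfsg.Geo.subfieldSubgroup F₀ A →
      (∃ (F₀ : Subfield F) (r : ℕ) (P : Matrix.GeneralLinearGroup (Fin 12) F) (ζ : F), r.Prime ∧ Fintype.card F = Nat.card F₀ ^ r ∧ ζ ≠ 0 ∧ Cfsg.Geo.IsQuadFormRationalStructure (fun v : Fin 12 → F => ζ * Q v) F₀ P ∧ H = Cfsg.Geo.subfieldSubgroup F₀ P ⊓ Cfsg.Geo.omegaGL Q) := by
    intro F₀ r A ζ hr hcard hζ hrat hle
    have hF₀ : F₀ ≠ ⊤ := by
      rintro rfl
      have h1 : Nat.card (⊤ : Subfield F) = Fintype.card F := by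
        rw [← Nat.card_eq_fintype_card]
        exact Nat.card_congr Subfield.topEquiv.toEquiv
      rw [h1] at hcard
      nth_rw 1 [← pow_one (Fintype.card F)] at hcard
      exact hr.ne_one (Nat.pow_right_injective Fintype.one_lt_card hcard).symm
    exact ⟨F₀, r, A, ζ, hr, hcard, hζ, hrat, heq hle (not_le_subfieldSubgroup hQ hn7 hF₀ A)⟩
  rcases star_reduction_twelve h12 hf hfixB hirr with ⟨t, k, D, hD, htk, hle⟩ | ⟨D, hD, -, hle, hts⟩ |
    ⟨r, K, hr, hK, hle, -⟩ | htensor | ⟨P, hP⟩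
  · -- orthogonal decompositions
    have hiso := fun i j => isometric_of_irreducible hfix hirr hD.decomp hle i j
    have hlines : ∀ {D : Fin 12 → Submodule F (Fin 12 → F)}, (2 : F) ≠ 0 → (Fintype.card F).Prime →
        Cfsg.Geo.IsOrthogonalMDecomposition Q 1 D → H ≤ Cfsg.Geo.decompositionStabilizer D →
        ((∃ p : ℕ, p.Prime ∧ Odd p ∧ Fintype.card F = p) ∧ ∃ D : Fin 12 → Submodule F (Fin 12 → F), Cfsg.Geo.IsOrthogonalMDecomposition Q 1 D ∧ H = Cfsg.Geo.decompositionStabilizer D ⊓ Cfsg.Geo.omegaGL Q) :=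
      fun h2 hp hD' hle' => ⟨⟨_, hp, odd_card_of_two_ne_zero h2, rfl⟩, _, hD',
        heq hle' (not_le_decompositionStabilizer hQ hn7 hD'.decomp.decomp (Or.inr h2))⟩
    rcases htk with ⟨rfl, rfl⟩ | ⟨rfl, rfl⟩ | ⟨rfl, rfl⟩ | ⟨rfl, rfl⟩ | ⟨rfl, rfl⟩
    · have h2 := two_ne_zero_of_odd_finrank hQ (hD.nondegenerate 0) (by rw [hD.decomp.finrank_eq]; exact odd_one)
      by_cases hp : (Fintype.card F).Prime
      · exact (fun hh => Or.inr (Or.inr (Or.inr (Or.inr (Or.inr (Or.inr (Or.inl hh))))))) (hlines h2 hp ⟨hD, hiso⟩ hle)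
      · obtain ⟨F₀, r, A, ζ, hr, hcard, hζ, hrat, hle'⟩ := exists_subfield_of_lines hQ hfix h12 ⟨hD, hiso⟩ hle hp
        exact (fun hh => Or.inr (Or.inr (Or.inr (Or.inr (Or.inr (Or.inr (Or.inr (Or.inr (Or.inr (Or.inr (Or.inr (Or.inr (Or.inr (Or.inr (Or.inr (Or.inr (Or.inr (Or.inl hh)))))))))))))))))) (hsub hr hcard hζ hrat hle')
    · by_cases hpl : Cfsg.Geo.IsPlusTypeOn Q (D 0)
      · have hall : ∀ i, Cfsg.Geo.IsPlusTypeOn Q (D i) := fun i => isPlusType_of_isometric (hiso 0 i) hpl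
        by_cases h7 : 7 ≤ Fintype.card F
        · exact (fun hh => Or.inr (Or.inr (Or.inr (Or.inr (Or.inr (Or.inr (Or.inr (Or.inl hh)))))))) ⟨h7, D, ⟨hD, hiso⟩, hall, heq hle (not_le_decompositionStabilizer hQ hn7 hD.decomp (Or.inl le_rfl))⟩
        have h6 := card_ne_six (F := F)
        obtain hq | hq | hq : Fintype.card F ≤ 3 ∨ Fintype.card F = 4 ∨ Fintype.card F = 5 := by omega
        · exact (not_plus_planes_small hQ hq hfix hirr hD hle hall (by rw [h12]; norm_num)).elim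
        · obtain ⟨F₀, r, A, ζ, hr, hcard, hζ, hrat, hle'⟩ :=
            exists_subfield_four hQ hq hfix (t := 6) (by rw [h12]) ⟨hD, hiso⟩ hall hle
          exact (fun hh => Or.inr (Or.inr (Or.inr (Or.inr (Or.inr (Or.inr (Or.inr (Or.inr (Or.inr (Or.inr (Or.inr (Or.inr (Or.inr (Or.inr (Or.inr (Or.inr (Or.inr (Or.inl hh)))))))))))))))))) (hsub hr hcard hζ hrat hle')
        · have h2 : (2 : F) ≠ 0 := CfsgLib.MaxSub.two_ne_zero_of_odd (by rw [hq]; decide)
          obtain ⟨a, v, ha, hv, hva, hvo, hmax⟩ :=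
            exists_frame_plus_five hQ hq (hD.nondegenerate 0) (hD.decomp.finrank_eq 0) hpl
          obtain ⟨D', hD', hle'⟩ := frame_refine hQ h2 hfix hD hiso hle 0 ha v hv hva hvo hmax
          exact (fun hh => Or.inr (Or.inr (Or.inr (Or.inr (Or.inr (Or.inr (Or.inl hh))))))) (hlines h2 (by rw [hq]; norm_num) hD' hle')
      · have hall : ∀ i, ¬ Cfsg.Geo.IsPlusTypeOn Q (D i) := fun i h => hpl (isPlusType_of_isometric (hiso i 0) h)
        by_cases hq : Fintype.card F = 3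
        · have h2 : (2 : F) ≠ 0 := CfsgLib.MaxSub.two_ne_zero_of_odd (by rw [hq]; decide)
          obtain ⟨a, v, ha, hv, hva, hvo⟩ :=
            exists_frame_minus_plane hQ hq (hD.nondegenerate 0) (hD.decomp.finrank_eq 0) hpl
          obtain ⟨D', hD', hle'⟩ := frame_refine hQ h2 hfix hD hiso hle 0 ha v hv hva hvo
            fun w hw hqw => frame_all_card_three hQ hq (by norm_num) (hD.decomp.finrank_eq 0) ha hv hva hvo hw hqw
          exact (fun hh => Or.inr (Or.inr (Or.inr (Or.inr (Or.inr (Or.inr (Or.inl hh))))))) (hlines h2 (by rw [hq]; norm_num) hD' hle')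
        · exact (fun hh => Or.inr (Or.inr (Or.inr (Or.inr (Or.inr (Or.inr (Or.inr (Or.inr (Or.inl hh))))))))) ⟨hq, D, ⟨hD, hiso⟩, hall, heq hle (not_le_decompositionStabilizer hQ hn7 hD.decomp (Or.inl le_rfl))⟩
    · have h2 := two_ne_zero_of_odd_finrank hQ (hD.nondegenerate 0) (by rw [hD.decomp.finrank_eq]; decide)
      have hodd := odd_card_of_two_ne_zero h2
      by_cases hq : Fintype.card F = 3
      · obtain ⟨a, v, ha, hv, hva, hvo⟩ := exists_frame_three_space hQ hq (hD.nondegenerate 0) (hD.decomp.finrank_eq 0)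
        obtain ⟨D', hD', hle'⟩ := frame_refine hQ h2 hfix hD hiso hle 0 ha v hv hva hvo
          fun w hw hqw => frame_all_card_three hQ hq le_rfl (hD.decomp.finrank_eq 0) ha hv hva hvo hw hqw
        exact (fun hh => Or.inr (Or.inr (Or.inr (Or.inr (Or.inr (Or.inr (Or.inl hh))))))) (hlines h2 (by rw [hq]; norm_num) hD' hle')
      · have h5 : 5 ≤ Fintype.card F := by
          have h1 := Fintype.one_lt_card (α := F)
          obtain ⟨n, hn⟩ := hodd
          omega
        exact (fun hh => Or.inr (Or.inr (Or.inr (Or.inr (Or.inr (Or.inr (Or.inr (Or.inr (Or.inr (Or.inl hh)))))))))) ⟨hodd, h5, D, ⟨hD, hiso⟩, heq hle (not_le_decompositionStabilizer hQ hn7 hD.decomp (Or.inl (by norm_num)))⟩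
    · by_cases hq : 3 ≤ Fintype.card F
      · exact (fun hh => Or.inr (Or.inr (Or.inr (Or.inr (Or.inr (Or.inr (Or.inr (Or.inr (Or.inr (Or.inr (Or.inl hh))))))))))) ⟨hq, D, ⟨hD, hiso⟩, heq hle (not_le_decompositionStabilizer hQ hn7 hD.decomp (Or.inl (by norm_num)))⟩
      have hq2 : Fintype.card F = 2 := by have := Fintype.one_lt_card (α := F); omega
      by_cases hpl : Cfsg.Geo.IsPlusTypeOn Q (D 0)
      · obtain ⟨D', hD', hall, hle'⟩ := exists_minus_planes hQ hq2 hfix hirr ⟨hD, hiso⟩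
          (fun i => isPlusType_of_isometric (hiso 0 i) hpl) hle
        exact (fun hh => Or.inr (Or.inr (Or.inr (Or.inr (Or.inr (Or.inr (Or.inr (Or.inr (Or.inl hh))))))))) ⟨by omega, D', hD', hall, heq hle' (not_le_decompositionStabilizer hQ hn7 hD'.decomp.decomp (Or.inl le_rfl))⟩
      · exfalso
        refine hpl (isPlusType_of_isometric (hiso 2 0) ?_)
        obtain ⟨U, hU, hUs, hUd⟩ := exists_singular_of_isometric hQ (hD.nondegenerate 0)
          (by rw [hD.decomp.finrank_eq]; decide) (hD.orthogonal 0 1 (by decide)) (hiso 0 1)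
        have hdis : D 0 ⊓ D 1 = ⊥ := eq_bot_iff.2 fun x hx => (Submodule.mem_bot F).2
          (disjoint_of_orth (hD.nondegenerate 0) (hD.orthogonal 0 1 (by decide)) hx.1 hx.2)
        have hd8 := Submodule.finrank_sup_add_finrank_inf_eq (D 0) (D 1)
        rw [hdis, finrank_bot, hD.decomp.finrank_eq, hD.decomp.finrank_eq] at hd8
        have hle01 : D 2 ≤ hf.perp (D 0 ⊔ D 1) := fun x hx w hw => by
          obtain ⟨a, ha, b, hb, rfl⟩ := Submodule.mem_sup.1 hw
          rw [hQ.polar_bilinear.add_right, hD.orthogonal 2 0 (by decide) x hx a ha,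
            hD.orthogonal 2 1 (by decide) x hx b hb, add_zero]
        have hnd01 : Cfsg.Geo.IsNondegenerateOn (QuadraticMap.polar Q) (D 0 ⊔ D 1) := by
          rw [hf.isNondegenerateOn_iff, eq_bot_iff]
          rintro x ⟨hx, hxp⟩
          rw [Submodule.mem_bot]
          by_contra hx0
          obtain ⟨a, ha, b, hb, rfl⟩ := Submodule.mem_sup.1 hx
          have ha0 : a = 0 := by
            by_contra ha0
            obtain ⟨-, y, hy, hne⟩ := hD.nondegenerate 0 a ha ha0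
            refine hne ?_
            have h1 := hxp y (Submodule.mem_sup_left hy)
            rwa [hQ.polar_bilinear.add_left, hD.orthogonal 1 0 (by decide) b hb y hy, add_zero] at h1
          have hb0 : b = 0 := by
            by_contra hb0
            obtain ⟨-, y, hy, hne⟩ := hD.nondegenerate 1 b hb hb0
            refine hne ?_
            have h1 := hxp y (Submodule.mem_sup_right hy)
            rwa [hQ.polar_bilinear.add_left, hD.orthogonal 0 1 (by decide) a ha y hy, zero_add] at h1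
          exact hx0 (by rw [ha0, hb0, add_zero])
        have hp8 : Cfsg.Geo.IsPlusTypeOn Q (D 0 ⊔ D 1) :=
          ⟨U, hU, hUs, by rw [hUd, hD.decomp.finrank_eq]; omega⟩
        have h4 := plus_of_perp_plus hQ hplus (m := 6) (by rw [h12]) hnd01 hp8
        have hd4 := hf.finrank_perp (D 0 ⊔ D 1)
        rw [h12] at hd4
        rw [Submodule.eq_of_le_of_finrank_le hle01 (by rw [hD.decomp.finrank_eq]; omega)]
        exact h4
    · exact (fun hh => Or.inr (Or.inr (Or.inr (Or.inr (Or.inr (Or.inr (Or.inr (Or.inr (Or.inr (Or.inr (Or.inr (Or.inl hh)))))))))))) ⟨D, ⟨hD, hiso⟩, heq hle (not_le_decompositionStabilizer hQ hn7 hD.decomp (Or.inl (by norm_num)))⟩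
  · -- pairs of Lagrangians
    exact (fun hh => Or.inr (Or.inr (Or.inr (Or.inr (Or.inr (Or.inr (Or.inr (Or.inr (Or.inr (Or.inr (Or.inr (Or.inr (Or.inl hh))))))))))))) ⟨D, hD, hts Q hQ (fun _ _ => rfl) hfix,
      heq hle (not_le_decompositionStabilizer hQ hn7 hD (Or.inl (by norm_num)))⟩
  · -- extension fields
    rcases hr with rfl | rfl
    · exact (fun hh => Or.inr (Or.inr (Or.inr (Or.inr (Or.inr (Or.inr (Or.inr (Or.inr (Or.inr (Or.inr (Or.inr (Or.inr (Or.inr (Or.inl hh)))))))))))))) ⟨K, hK, heq hle (not_le_subalgebraNormalizer hQ hn7 le_rfl hK)⟩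
    · exact (fun hh => Or.inr (Or.inr (Or.inr (Or.inr (Or.inr (Or.inr (Or.inr (Or.inr (Or.inr (Or.inr (Or.inr (Or.inr (Or.inr (Or.inr (Or.inl hh))))))))))))))) ⟨K, hK, heq hle (not_le_subalgebraNormalizer hQ hn7 (by norm_num) hK)⟩
  · -- tensor decompositions
    have htwo : ∀ {e : Fin 12 ≃ Fin 2 × Fin 6} {P : Matrix.GeneralLinearGroup (Fin 12) F}
        {S : Matrix (Fin 2) (Fin 2) F} {T : Matrix (Fin 6) (Fin 6) F}, 3 ≤ Fintype.card F →
        Cfsg.Geo.IsSymplecticForm (formOf (RingEquiv.refl F) S) → Cfsg.Geo.IsSymplecticForm (formOf (RingEquiv.refl F) T) →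
        H ≤ Cfsg.Geo.tensorProductSubgroup 2 6 e P →
        (∀ (y : Fin 2 → F) (z : Fin 6 → F), Q (mat P *ᵥ (CfsgLib.AschbacherForms.pure y z ∘ e)) = 0) →
        (∀ x y : Fin 2 × Fin 6 → F, QuadraticMap.polar Q (mat P *ᵥ (x ∘ e)) (mat P *ᵥ (y ∘ e)) =
          Cfsg.Geo.formOfGram (RingEquiv.refl F) (S ⊗ₖ T) x y) →
        (3 ≤ Fintype.card F ∧ ∃ (e : Fin 12 ≃ Fin 2 × Fin 6) (P : Matrix.GeneralLinearGroup (Fin 12) F) (f₁ : (Fin 2 → F) → (Fin 2 → F) → F) (f₂ : (Fin 6 → F) → (Fin 6 → F) → F), Cfsg.Geo.IsSymplecticForm f₁ ∧ Cfsg.Geo.IsSymplecticForm f₂ ∧ Cfsg.Geo.IsTensorFormStructure id (QuadraticMap.polar Q) f₁ f₂ e P ∧ (∀ (x₁ : Fin 2 → F) (x₂ : Fin 6 → F), Q (Matrix.mulVec (P : Matrix (Fin 12) (Fin 12) F) ((fun a : Fin 2 × Fin 6 => x₁ a.1 * x₂ a.2) ∘ e)) = 0) ∧ H = Cfsg.Geo.tensorProductSubgroup 2 6 e P ⊓ Cfsg.Geo.omegaGL Q) := by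
      intro e P S T hq hS hT hle hpure hform
      refine ⟨hq, e, P, _, _, hS, hT, ⟨1, one_ne_zero, fun x y => ?_⟩, hpure,
        heq hle (not_le_tensorProductSubgroup hQ hn7 le_rfl (by norm_num) (by rw [h12]) e P)⟩
      rw [one_mul, gramMatrix_formOf, gramMatrix_formOf]
      exact hform x y
    rcases htensor with ht | ht
    · rcases tensor_two_six_cases hQ h12 hfix hfixB hirr ht with
        ⟨e, P, S, T, hS, hT, hle, hpure, hform⟩ | ⟨D, hD, hts, hle⟩ | ⟨K, hK, hle⟩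
      · by_cases hq : 3 ≤ Fintype.card F
        · exact (fun hh => Or.inr (Or.inr (Or.inr (Or.inr (Or.inr (Or.inr (Or.inr (Or.inr (Or.inr (Or.inr (Or.inr (Or.inr (Or.inr (Or.inr (Or.inr (Or.inr (Or.inl hh))))))))))))))))) (htwo hq hS hT hle hpure hform)
        · obtain ⟨K, hK, hle'⟩ := exists_field_two (by have := Fintype.one_lt_card (α := F); omega) hle
          exact (fun hh => Or.inr (Or.inr (Or.inr (Or.inr (Or.inr (Or.inr (Or.inr (Or.inr (Or.inr (Or.inr (Or.inr (Or.inr (Or.inr (Or.inl hh)))))))))))))) ⟨K, hK, heq hle' (not_le_subalgebraNormalizer hQ hn7 le_rfl hK)⟩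
      · exact (fun hh => Or.inr (Or.inr (Or.inr (Or.inr (Or.inr (Or.inr (Or.inr (Or.inr (Or.inr (Or.inr (Or.inr (Or.inr (Or.inl hh))))))))))))) ⟨D, hD, hts, heq hle (not_le_decompositionStabilizer hQ hn7 hD (Or.inl (by norm_num)))⟩
      · exact (fun hh => Or.inr (Or.inr (Or.inr (Or.inr (Or.inr (Or.inr (Or.inr (Or.inr (Or.inr (Or.inr (Or.inr (Or.inr (Or.inr (Or.inl hh)))))))))))))) ⟨K, hK, heq hle (not_le_subalgebraNormalizer hQ hn7 le_rfl hK)⟩
    · obtain ⟨h2, e, P, S, T, hS, hT, hSs, hTs, hle, hform⟩ := tensor_three_four_cases hQ h12 hfixB hirr ht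
      obtain ⟨e', P', T', hT', hTs', hle', hform'⟩ := tensor_regroup hQ h2 hHS hS hT hSs hTs
        ((plus_three_four_iff hQ h2 hS hT hSs hTs hform).1 hplus) hle hform
      have hq : 3 ≤ Fintype.card F := by
        have h1 := Fintype.one_lt_card (α := F)
        obtain ⟨n, hn⟩ := odd_card_of_two_ne_zero h2
        omega
      have hrot : IsUnit (rot F) := (Matrix.isUnit_iff_isUnit_det _).2 (by
        rw [show (rot F).det = 1 by simp [rot, Matrix.det_fin_two]]; exact isUnit_one)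
      exact (fun hh => Or.inr (Or.inr (Or.inr (Or.inr (Or.inr (Or.inr (Or.inr (Or.inr (Or.inr (Or.inr (Or.inr (Or.inr (Or.inr (Or.inr (Or.inr (Or.inr (Or.inl hh))))))))))))))))) (htwo hq (isSymplecticForm_formOf hrot rot_transpose (formOf_self_of_skew h2 rot_transpose))
        (isSymplecticForm_formOf hT' hTs' (formOf_self_of_skew h2 hTs')) hle'
        (pure_singular_of_skew hQ h2 rot_transpose hform') hform')
  · -- almost simple groups
    rcases core_cases hQ (by rw [h12]; norm_num) hfix hfixB hirr hP with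
      ⟨F₀, r, A, ζ, hr, -, hcard, hζ, hrat, hle⟩ | h
    · exact (fun hh => Or.inr (Or.inr (Or.inr (Or.inr (Or.inr (Or.inr (Or.inr (Or.inr (Or.inr (Or.inr (Or.inr (Or.inr (Or.inr (Or.inr (Or.inr (Or.inr (Or.inr (Or.inl hh)))))))))))))))))) (hsub hr hcard hζ hrat hle)
    · exact (fun hh => Or.inr (Or.inr (Or.inr (Or.inr (Or.inr (Or.inr (Or.inr (Or.inr (Or.inr (Or.inr (Or.inr (Or.inr (Or.inr (Or.inr (Or.inr (Or.inr (Or.inr (Or.inr (hh))))))))))))))))))) h

end Cfsg.Agent.S5871
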