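import Cfsg.Statements.S5873
import Cfsg.Agent.OrthMax.TotallySingular
import Cfsg.Agent.OrthMax.NonsingularVector
import Cfsg.Agent.OrthMax.NondegenerateWrap
import Cfsg.Agent.OrthMax.DecompWrap
import Cfsg.Agent.OrthMax.UnitaryField
import Cfsg.Agent.OrthMono.Maximal
import Cfsg.Agent.OrthSubfield.Maximal
import Cfsg.Agent.OrthTwelveTensor.ThreeFourMax
import Cfsg.Agent.OrthCubic.Subalgebra
import Cfsg.Agent.OrthExtTwo.Maximal

set_option autoImplicit false
set_option maxHeartbeats 1000000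
open Cfsg

namespace Cfsg.Agent.S5873

/-- Maximal subgroups of Ω_12^-(q) of geometric type (any q). Let F be a finite field with q elements (characteristic p), Q a non-degenerate quadratic form on F^12 (non-degenerate polar form) of minus type (Witt index 5: no totally singular 6-space), and Ω = Ω_12^-(q) the commutator subgroup of the isometry group of Q, inside GL_12(F). Each of the following, intersected with Ω, is a maximal subgroup of Ω: (1) the stabiliser of any non-zero subspace on which Q vanishes identically (totally singular subspaces, dimensions 1 to 5); (2) for q odd, the stabiliser of any subspace of odd dimension on which the polar form of Q is non-degenerate; (3) the stabiliser of any non-degenerate 2-space of minus type (containing no non-zero singular vector); (4) for q ≥ 4, the stabiliser of any non-degenerate 2-space of plus type (containing a non-zero singular vector); (5) the stabiliser of any non-degenerate 4-space (either type);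 (6) the stabiliser of any non-degenerate 6-space (either type); (7) for q even, the stabiliser of the 1-space spanned by any non-singular vector v (Q(v) ≠ 0); (8) the stabiliser of any decomposition of F^12 into 3 pairwise orthogonal, pairwise Q-isometric non-degenerate 4-spaces of minus type; (9) for q odd, the normaliser of any degree-2 subfield K of the matrix algebra whose elements are self-adjoint for the polar form of Q (Q is then the trace of a quadratic form over K); (10) for q odd, the normaliser of any degree-3 subfield K of the matrix algebra whose elements are self-adjoint for the polar form of Q (Q is then the trace of a quadratic form over K); (11) for q odd with q ≥ 5, the stabiliser of any tensor decomposition F^12 = F^3 ⊗ F^4 in which the polar form of Q is the product of non-degenerate symmetric bilinear forms, the second of minus type, up to a scalar; (12) every subfield group for a subfield F₀ with |F| = |F₀|^r, r an odd prime, whose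 F₀-structure carries a non-zero scalar multiple of Q. -/
theorem result {F : Type*} [Field F] [Fintype F] (Q : (Fin 12 → F) → F) (hQ : Cfsg.Geo.IsNondegenerateQuadraticForm Q) (hminus : ¬ Cfsg.Geo.IsPlusTypeOn Q ⊤) :
    (∀ W : Submodule F (Fin 12 → F), W ≠ ⊥ → Cfsg.Geo.IsTotallySingularQuad Q W → Cfsg.Geo.IsMaximalIn (Cfsg.Geo.omegaGL Q) (Cfsg.Geo.subspaceStabilizer W ⊓ Cfsg.Geo.omegaGL Q)) ∧
    (Odd (Fintype.card F) → ∀ W : Submodule F (Fin 12 → F), W ≠ ⊥ → W ≠ ⊤ → Odd (Module.finrank F W) → 2 * Module.finrank F W ≠ 12 → Cfsg.Geo.IsNondegenerateOn (QuadraticMap.polar Q) W → Cfsg.Geo.IsMaximalIn (Cfsg.Geo.omegaGL Q) (Cfsg.Geo.subspaceStabilizer W ⊓ Cfsg.Geo.omegaGL Q)) ∧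
    (∀ W : Submodule F (Fin 12 → F), Module.finrank F W = 2 → Cfsg.Geo.IsNondegenerateOn (QuadraticMap.polar Q) W → ¬ Cfsg.Geo.IsPlusTypeOn Q W → Cfsg.Geo.IsMaximalIn (Cfsg.Geo.omegaGL Q) (Cfsg.Geo.subspaceStabilizer W ⊓ Cfsg.Geo.omegaGL Q)) ∧
    (4 ≤ Fintype.card F → ∀ W : Submodule F (Fin 12 → F), Module.finrank F W = 2 → Cfsg.Geo.IsNondegenerateOn (QuadraticMap.polar Q) W → Cfsg.Geo.IsPlusTypeOn Q W → Cfsg.Geo.IsMaximalIn (Cfsg.Geo.omegaGL Q) (Cfsg.Geo.subspaceStabilizer W ⊓ Cfsg.Geo.omegaGL Q)) ∧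
    (∀ W : Submodule F (Fin 12 → F), Module.finrank F W = 4 → Cfsg.Geo.IsNondegenerateOn (QuadraticMap.polar Q) W → Cfsg.Geo.IsMaximalIn (Cfsg.Geo.omegaGL Q) (Cfsg.Geo.subspaceStabilizer W ⊓ Cfsg.Geo.omegaGL Q)) ∧
    (∀ W : Submodule F (Fin 12 → F), Module.finrank F W = 6 → Cfsg.Geo.IsNondegenerateOn (QuadraticMap.polar Q) W → Cfsg.Geo.IsMaximalIn (Cfsg.Geo.omegaGL Q) (Cfsg.Geo.subspaceStabilizer W ⊓ Cfsg.Geo.omegaGL Q)) ∧
    (¬ Odd (Fintype.card F) → ∀ v : (Fin 12 → F), Q v ≠ 0 → Cfsg.Geo.IsMaximalIn (Cfsg.Geo.omegaGL Q) (Cfsg.Geo.subspaceStabilizer (Submodule.span F {v}) ⊓ Cfsg.Geo.omegaGL Q)) ∧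
    (∀ D : Fin 3 → Submodule F (Fin 12 → F), Cfsg.Geo.IsOrthogonalMDecomposition Q 4 D → (∀ i, ¬ Cfsg.Geo.IsPlusTypeOn Q (D i)) → Cfsg.Geo.IsMaximalIn (Cfsg.Geo.omegaGL Q) (Cfsg.Geo.decompositionStabilizer D ⊓ Cfsg.Geo.omegaGL Q)) ∧
    (Odd (Fintype.card F) → ∀ K : Subalgebra F (Matrix (Fin 12) (Fin 12) F), Cfsg.Geo.IsFieldSubalgebra 2 K → Cfsg.Geo.IsSelfAdjointFor (QuadraticMap.polar Q) K → Cfsg.Geo.IsMaximalIn (Cfsg.Geo.omegaGL Q) (Cfsg.Geo.subalgebraNormalizer K ⊓ Cfsg.Geo.omegaGL Q)) ∧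
    (Odd (Fintype.card F) → ∀ K : Subalgebra F (Matrix (Fin 12) (Fin 12) F), Cfsg.Geo.IsFieldSubalgebra 3 K → Cfsg.Geo.IsSelfAdjointFor (QuadraticMap.polar Q) K → Cfsg.Geo.IsMaximalIn (Cfsg.Geo.omegaGL Q) (Cfsg.Geo.subalgebraNormalizer K ⊓ Cfsg.Geo.omegaGL Q)) ∧
    (Odd (Fintype.card F) ∧ 5 ≤ Fintype.card F → ∀ (e : Fin 12 ≃ Fin 3 × Fin 4) (P : Matrix.GeneralLinearGroup (Fin 12) F) (f₁ : (Fin 3 → F) → (Fin 3 → F) → F) (f₂ : (Fin 4 → F) → (Fin 4 → F) → F), Cfsg.Geo.IsSymmetricForm f₁ → Cfsg.Geo.IsSymmetricForm f₂ → ¬ Cfsg.Geo.IsPlusTypeOn (fun v : Fin 4 → F => f₂ v v) ⊤ → Cfsg.Geo.IsTensorFormStructure id (QuadraticMap.polar Q) f₁ f₂ e P → Cfsg.Geo.IsMaximalIn (Cfsg.Geo.omegaGL Q) (Cfsg.Geo.tensorProductSubgroup 3 4 e P ⊓ Cfsg.Geo.omegaGL Q)) ∧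
    (∀ (F₀ : Subfield F) (r : ℕ) (P : Matrix.GeneralLinearGroup (Fin 12) F) (ζ : F), r.Prime → Odd r → Fintype.card F = Nat.card F₀ ^ r → ζ ≠ 0 → Cfsg.Geo.IsQuadFormRationalStructure (fun v : Fin 12 → F => ζ * Q v) F₀ P → Cfsg.Geo.IsMaximalIn (Cfsg.Geo.omegaGL Q) (Cfsg.Geo.subfieldSubgroup F₀ P ⊓ Cfsg.Geo.omegaGL Q)) := by
  have hn : Fintype.card (Fin 12) = 12 := Fintype.card_fin 12
  have hodd2 : Odd (Fintype.card F) → (2 : F) ≠ 0 := CfsgLib.MaxSub.two_ne_zero_of_odd
  have heven2 : ¬ Odd (Fintype.card F) → (2 : F) = 0 := fun h => by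
    by_contra h2
    exact h (Nat.odd_iff.2 (FiniteField.odd_card_of_char_ne_two fun hr => h2 (by
      have := ringChar.of_eq hr
      exact CharTwo.two_eq_zero)))
  have hnd : ∀ W : Submodule F (Fin 12 → F), W ≠ ⊥ → W ≠ ⊤ →
      Cfsg.Geo.IsNondegenerateOn (QuadraticMap.polar Q) W →
      (2 * Module.finrank F W = 12 → Even (Module.finrank F W)) →
      (Fintype.card F ≤ 3 → Module.finrank F W = 2 → ¬ Cfsg.Geo.IsPlusTypeOn Q W) →
      (Fintype.card F ≤ 3 → Module.finrank F W ≠ 10) →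
      Cfsg.Geo.IsMaximalIn (Cfsg.Geo.omegaGL Q) (Cfsg.Geo.subspaceStabilizer W ⊓ Cfsg.Geo.omegaGL Q) :=
    fun W h0 h1 hW hhalf hP hP' => CfsgLib.OrthMax.isMaximalIn_nd_fun hQ (by omega) hW h0 h1
      (fun h => ⟨hhalf (by omega), hminus⟩) (by
        rintro ⟨h3, U, hU2, hUn, hUp, rfl | ⟨-, hsum⟩⟩
        · exact hP h3 hU2 hUp
        · exact hP' h3 (by omega))
  have hsmall : ∀ W : Submodule F (Fin 12 → F), ∀ d, Module.finrank F W = d → 1 ≤ d → d < 12 →
      W ≠ ⊥ ∧ W ≠ ⊤ := fun W d hd h1 h2 =>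
    ⟨fun h => by rw [h, finrank_bot] at hd; omega, fun h => by
      rw [h, finrank_top, Module.finrank_pi] at hd; omega⟩
  refine ⟨fun W h0 hW => CfsgLib.OrthMax.isMaximalIn_singular_fun hQ (by omega) h0 hW
      fun h => absurd h hminus,
    fun ho W h0 h1 hWo hne hW => hnd W h0 h1 hW (fun h => absurd h hne)
      (fun _ h => by rw [h] at hWo; exact absurd hWo (by decide))
      (fun _ h => by rw [h] at hWo; exact absurd hWo (by decide)),
    fun W hW2 hW hm => hnd W (hsmall W 2 hW2 (by omega) (by omega)).1 (hsmall W 2 hW2 (by omega) (by omega)).2 hW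
      (fun h => by omega) (fun _ _ => hm) (fun _ h => by omega),
    fun h4 W hW2 hW _ => hnd W (hsmall W 2 hW2 (by omega) (by omega)).1 (hsmall W 2 hW2 (by omega) (by omega)).2 hW
      (fun h => by omega) (fun h => absurd h (by omega)) (fun _ h => by omega),
    fun W hW4 hW => hnd W (hsmall W 4 hW4 (by omega) (by omega)).1 (hsmall W 4 hW4 (by omega) (by omega)).2 hW
      (fun h => by omega) (fun _ h => by omega) (fun _ h => by omega),
    fun W hW6 hW => hnd W (hsmall W 6 hW6 (by omega) (by omega)).1 (hsmall W 6 hW6 (by omega) (by omega)).2 hW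
      (fun _ => by rw [hW6]; decide) (fun _ h => by omega) (fun _ h => by omega),
    fun he v hv => CfsgLib.OrthMax.isMaximalIn_nonsingular_fun hQ (by omega) (heven2 he) hv,
    fun D hD hm => ?_, fun ho K hK hsa => ?_,
    fun ho K hK hsa => CfsgLib.OrthCubic.isMaximalIn_cubic_minus hQ hn hminus ho hK hsa,
    fun hq e P f₁ f₂ hf₁ hf₂ hm hT =>
      CfsgLib.OrthTwelveTensor.isMaximalIn_three_four hq Q hQ e P f₁ f₂ hf₁ hf₂ hm hT,
    fun F₀ r P ζ hr _ hcard hζ hP => CfsgLib.OrthSubfield.isMaximalIn_subfield hQ (by omega) hr hcard hζ hP⟩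
  · have h := CfsgLib.OrthMax.dsys_of_decomp hQ hD
    have := CfsgLib.OrthMax.isMaximalIn_decomp_even h (by omega) (by omega) (by omega)
      (fun h => absurd h (by decide)) (fun h => absurd h (by omega)) (fun hall => absurd (hall 0) (hm 0))
    rw [CfsgLib.AschbacherQuad.coe_quadForm] at this
    exact this
  · exact CfsgLib.OrthExtTwo.isMaximalIn_selfAdjoint_two (Q := CfsgLib.AschbacherQuad.quadForm hQ)
      (CfsgLib.AschbacherQuad.quadForm_nondegenerate hQ) (by omega) ho hK hsa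

end Cfsg.Agent.S5873
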