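import Cfsg.Statements.S5874
import Cfsg.Agent.AschbacherQuad.Cases
-- import your own Cfsg.Agent.* helpers here

set_option autoImplicit false
set_option maxHeartbeats 1000000
open Cfsg

namespace Cfsg.Agent.S5874

open Matrix CfsgLib.Aschbacher CfsgLib.AschbacherForms CfsgLib.AschbacherQuad
open scoped Kronecker
attribute [-simp] RingEquiv.coe_refl

/-- Every maximal subgroup of Ω_12^-(q) is of one of the listed geometric types or lies in the residual class. Let F be a finite field with q elements (characteristic p), Q a non-degenerate quadratic form on F^12 of minus type (Witt index 5: no totally singular 6-space), Ω the commutator subgroup of its isometry group, and H a maximal subgroup of Ω (inside GL_12(F)). Then H is the intersection with Ω of one of: the stabiliser of a non-zero totally singular subspace; for q odd, the stabiliser of a non-degenerate subspace of odd dimension; the stabiliser of a non-degenerate 2-space of minus type; for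 q ≥ 4, the stabiliser of a non-degenerate 2-space of plus type; the stabiliser of a non-degenerate 4-space; the stabiliser of a non-degenerate 6-space; for q even, the stabiliser of the span of a non-singular vector; the stabiliser of a decomposition into 3 pairwise orthogonal, pairwise isometric non-degenerate 4-spaces of minus type; the normaliser of a degree-2 subfield of the matrix algebra; the normaliser of a degree-3 subfield of the matrix algebra; for q odd with q ≥ 5, the stabiliser of a tensor decomposition of the polar form into symmetric forms on F^3 and F^4 (minus type); a subfield group (|F| = |F₀|^r, r odd prime) whose F₀-structure carries a non-zero multiple of Q — or else H lies in the residual class of the orthogonal case (modulo scalars H is almost simple, with absolutely irreducible perfect socle preimage realisable over no proper subfield and fixing no non-degenerate unitary form). -/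
theorem result {F : Type*} [Field F] [Fintype F] (Q : (Fin 12 → F) → F) (hQ : Cfsg.Geo.IsNondegenerateQuadraticForm Q) (hminus : ¬ Cfsg.Geo.IsPlusTypeOn Q ⊤) (H : Subgroup (Matrix.GeneralLinearGroup (Fin 12) F)) (hH : Cfsg.Geo.IsMaximalIn (Cfsg.Geo.omegaGL Q) H) :
    (∃ W : Submodule F (Fin 12 → F), W ≠ ⊥ ∧ Cfsg.Geo.IsTotallySingularQuad Q W ∧ H = Cfsg.Geo.subspaceStabilizer W ⊓ Cfsg.Geo.omegaGL Q) ∨
    (Odd (Fintype.card F) ∧ ∃ W : Submodule F (Fin 12 → F), W ≠ ⊥ ∧ W ≠ ⊤ ∧ Odd (Module.finrank F W) ∧ 2 * Module.finrank F W ≠ 12 ∧ Cfsg.Geo.IsNondegenerateOn (QuadraticMap.polar Q) W ∧ H = Cfsg.Geo.subspaceStabilizer W ⊓ Cfsg.Geo.omegaGL Q) ∨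
    (∃ W : Submodule F (Fin 12 → F), Module.finrank F W = 2 ∧ Cfsg.Geo.IsNondegenerateOn (QuadraticMap.polar Q) W ∧ ¬ Cfsg.Geo.IsPlusTypeOn Q W ∧ H = Cfsg.Geo.subspaceStabilizer W ⊓ Cfsg.Geo.omegaGL Q) ∨
    (4 ≤ Fintype.card F ∧ ∃ W : Submodule F (Fin 12 → F), Module.finrank F W = 2 ∧ Cfsg.Geo.IsNondegenerateOn (QuadraticMap.polar Q) W ∧ Cfsg.Geo.IsPlusTypeOn Q W ∧ H = Cfsg.Geo.subspaceStabilizer W ⊓ Cfsg.Geo.omegaGL Q) ∨
    (∃ W : Submodule F (Fin 12 → F), Module.finrank F W = 4 ∧ Cfsg.Geo.IsNondegenerateOn (QuadraticMap.polar Q) W ∧ H = Cfsg.Geo.subspaceStabilizer W ⊓ Cfsg.Geo.omegaGL Q) ∨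
    (∃ W : Submodule F (Fin 12 → F), Module.finrank F W = 6 ∧ Cfsg.Geo.IsNondegenerateOn (QuadraticMap.polar Q) W ∧ H = Cfsg.Geo.subspaceStabilizer W ⊓ Cfsg.Geo.omegaGL Q) ∨
    (¬ Odd (Fintype.card F) ∧ ∃ v : (Fin 12 → F), Q v ≠ 0 ∧ H = Cfsg.Geo.subspaceStabilizer (Submodule.span F {v}) ⊓ Cfsg.Geo.omegaGL Q) ∨
    (∃ D : Fin 3 → Submodule F (Fin 12 → F), Cfsg.Geo.IsOrthogonalMDecomposition Q 4 D ∧ (∀ i, ¬ Cfsg.Geo.IsPlusTypeOn Q (D i)) ∧ H = Cfsg.Geo.decompositionStabilizer D ⊓ Cfsg.Geo.omegaGL Q) ∨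
    (∃ K : Subalgebra F (Matrix (Fin 12) (Fin 12) F), Cfsg.Geo.IsFieldSubalgebra 2 K ∧ H = Cfsg.Geo.subalgebraNormalizer K ⊓ Cfsg.Geo.omegaGL Q) ∨
    (∃ K : Subalgebra F (Matrix (Fin 12) (Fin 12) F), Cfsg.Geo.IsFieldSubalgebra 3 K ∧ H = Cfsg.Geo.subalgebraNormalizer K ⊓ Cfsg.Geo.omegaGL Q) ∨
    (Odd (Fintype.card F) ∧ 5 ≤ Fintype.card F ∧ ∃ (e : Fin 12 ≃ Fin 3 × Fin 4) (P : Matrix.GeneralLinearGroup (Fin 12) F) (f₁ : (Fin 3 → F) → (Fin 3 → F) → F) (f₂ : (Fin 4 → F) → (Fin 4 → F) → F), Cfsg.Geo.IsSymmetricForm f₁ ∧ Cfsg.Geo.IsSymmetricForm f₂ ∧ ¬ Cfsg.Geo.IsPlusTypeOn (fun v : Fin 4 → F => f₂ v v) ⊤ ∧ Cfsg.Geo.IsTensorFormStructure id (QuadraticMap.polar Q) f₁ f₂ e P ∧ H = Cfsg.Geo.tensorProductSubgroup 3 4 e P ⊓ Cfsg.Geo.omegaGL Q) ∨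
    (∃ (F₀ : Subfield F) (r : ℕ) (P : Matrix.GeneralLinearGroup (Fin 12) F) (ζ : F), r.Prime ∧ Odd r ∧ Fintype.card F = Nat.card F₀ ^ r ∧ ζ ≠ 0 ∧ Cfsg.Geo.IsQuadFormRationalStructure (fun v : Fin 12 → F => ζ * Q v) F₀ P ∧ H = Cfsg.Geo.subfieldSubgroup F₀ P ⊓ Cfsg.Geo.omegaGL Q) ∨
    Cfsg.Geo.InOrthogonalResidualClass H := by
  classical
  have h12 : Fintype.card (Fin 12) = 12 := Fintype.card_fin 12
  have hn7 : 7 ≤ Fintype.card (Fin 12) := by rw [h12]; norm_num
  have hf := isReflexive_polar hQ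
  have hHS : H ≤ Cfsg.Geo.omegaGL Q := hH.1.le
  obtain ⟨hfix, hfixB⟩ := fixes_of_le hHS
  have heq : ∀ {X : Subgroup (Matrix.GeneralLinearGroup (Fin 12) F)}, H ≤ X →
      ¬ Cfsg.Geo.omegaGL Q ≤ X → H = X ⊓ Cfsg.Geo.omegaGL Q := fun hle hne => eq_inf_of_maximal hH hle hne
  by_cases hirr : Cfsg.Geo.ActsIrreducibly (Cfsg.Geo.matrixSet H)
  swap
  · -- reducible groups
    rcases reducible_cases hQ h12 hH hirr with h | h | h | h | h | ⟨W, hWd, hnd, -, hWeq⟩ | h
    · exact Or.inl h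
    · exact Or.inr (Or.inl h)
    · exact Or.inr (Or.inr (Or.inl h))
    · exact Or.inr (Or.inr (Or.inr (Or.inl h)))
    · exact Or.inr (Or.inr (Or.inr (Or.inr (Or.inl h))))
    · exact (fun hh => Or.inr (Or.inr (Or.inr (Or.inr (Or.inr (Or.inl hh)))))) ⟨W, hWd, hnd, hWeq⟩
    · exact (fun hh => Or.inr (Or.inr (Or.inr (Or.inr (Or.inr (Or.inr (Or.inl hh))))))) h
  have hpair : ∀ {D : Fin 2 → Submodule F (Fin 12 → F)}, Cfsg.Geo.IsMDecomposition 6 D →
      (∀ i, Cfsg.Geo.IsTotallySingularQuad Q (D i)) → False := fun {D} hD hts => hminus ⟨D 0, le_top, hts 0, by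
    rw [hD.finrank_eq, finrank_top, Module.finrank_fintype_fun_eq_card, h12]⟩
  rcases star_reduction_twelve h12 hf hfixB hirr with ⟨t, k, D, hD, htk, hle⟩ | ⟨D, hD, -, hle, hts⟩ |
    ⟨r, K, hr, hK, hle, -⟩ | htensor | ⟨P, hP⟩
  · -- orthogonal decompositions
    have hiso := fun i j => isometric_of_irreducible hfix hirr hD.decomp hle i j
    rcases htk with ⟨rfl, rfl⟩ | ⟨rfl, rfl⟩ | ⟨rfl, rfl⟩ | ⟨rfl, rfl⟩ | ⟨rfl, rfl⟩
    · exact absurd (plus_top_of_halves hQ hD hiso (h := 6) rfl (by decide)) hminus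
    · exact absurd (plus_top_of_halves hQ hD hiso (h := 3) rfl (by decide)) hminus
    · exact absurd (plus_top_of_halves hQ hD hiso (h := 2) rfl (by decide)) hminus
    · have hall : ∀ i, ¬ Cfsg.Geo.IsPlusTypeOn Q (D i) := fun i hi =>
        hminus (plus_top_of_parts hQ hD fun j => isPlusType_of_isometric (hiso i j) hi)
      exact (fun hh => Or.inr (Or.inr (Or.inr (Or.inr (Or.inr (Or.inr (Or.inr (Or.inl hh)))))))) ⟨D, ⟨hD, hiso⟩, hall, heq hle (not_le_decompositionStabilizer hQ hn7 hD.decomp (Or.inl (by norm_num)))⟩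
    · exact absurd (plus_top_of_halves hQ hD hiso (h := 1) rfl (by decide)) hminus
  · -- pairs of Lagrangians
    exact (hpair hD (hts Q hQ (fun _ _ => rfl) hfix)).elim
  · -- extension fields
    rcases hr with rfl | rfl
    · exact (fun hh => Or.inr (Or.inr (Or.inr (Or.inr (Or.inr (Or.inr (Or.inr (Or.inr (Or.inl hh))))))))) ⟨K, hK, heq hle (not_le_subalgebraNormalizer hQ hn7 le_rfl hK)⟩
    · exact (fun hh => Or.inr (Or.inr (Or.inr (Or.inr (Or.inr (Or.inr (Or.inr (Or.inr (Or.inr (Or.inl hh)))))))))) ⟨K, hK, heq hle (not_le_subalgebraNormalizer hQ hn7 (by norm_num) hK)⟩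
  · -- tensor decompositions
    rcases htensor with ht | ht
    · rcases tensor_two_six_cases hQ h12 hfix hfixB hirr ht with
        ⟨e, P, S, T, -, -, -, hpure, -⟩ | ⟨D, hD, hts, -⟩ | ⟨K, hK, hle⟩
      · exact absurd (plus_top_of_pure hpure) hminus
      · exact (hpair hD hts).elim
      · exact (fun hh => Or.inr (Or.inr (Or.inr (Or.inr (Or.inr (Or.inr (Or.inr (Or.inr (Or.inl hh))))))))) ⟨K, hK, heq hle (not_le_subalgebraNormalizer hQ hn7 le_rfl hK)⟩
    · obtain ⟨h2, e, P, S, T, hS, hT, hSs, hTs, hle, hform⟩ := tensor_three_four_cases hQ h12 hfixB hirr ht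
      have hodd := odd_card_of_two_ne_zero h2
      by_cases hq : Fintype.card F = 3
      · obtain ⟨D, hD, hle'⟩ := frame_decomposition hq hf hfixB hirr (k := 4) (by norm_num) (S := T) (T := S) hT hS hSs
          (hle.trans (tensorProductSubgroup_swap e P)) (formTensor_swap hform)
        have hiso := fun i j => isometric_of_irreducible hfix hirr hD.decomp hle' i j
        have hall : ∀ i, ¬ Cfsg.Geo.IsPlusTypeOn Q (D i) := fun i hi =>
          hminus (plus_top_of_parts hQ hD fun j => isPlusType_of_isometric (hiso i j) hi)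
        exact (fun hh => Or.inr (Or.inr (Or.inr (Or.inr (Or.inr (Or.inr (Or.inr (Or.inl hh)))))))) ⟨D, ⟨hD, hiso⟩, hall, heq hle' (not_le_decompositionStabilizer hQ hn7 hD.decomp (Or.inl (by norm_num)))⟩
      · have h5 : 5 ≤ Fintype.card F := by
          have h1 := Fintype.one_lt_card (α := F)
          obtain ⟨n, hn⟩ := hodd
          omega
        refine (fun hh => Or.inr (Or.inr (Or.inr (Or.inr (Or.inr (Or.inr (Or.inr (Or.inr (Or.inr (Or.inr (Or.inl hh))))))))))) ⟨hodd, h5, e, P, _, _, isSymmetricForm_formOf hS hSs, isSymmetricForm_formOf hT hTs,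
          fun h => hminus ((plus_three_four_iff hQ h2 hS hT hSs hTs hform).2 h), ⟨1, one_ne_zero, fun x y => ?_⟩,
          heq hle (not_le_tensorProductSubgroup hQ hn7 (by norm_num) (by norm_num) (by rw [h12]; norm_num) e P)⟩
        rw [one_mul, gramMatrix_formOf, gramMatrix_formOf]
        exact hform x y
  · -- almost simple groups
    rcases core_cases hQ (by rw [h12]; norm_num) hfix hfixB hirr hP with
      ⟨F₀, r, A, ζ, hr, hF₀, hcard, hζ, hrat, hle⟩ | h
    · rcases hr.eq_two_or_odd' with rfl | hodd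
      · exact absurd (plus_of_index_two hQ (m := 6) (by rw [h12]) (by norm_num) hcard hζ hrat) hminus
      · exact (fun hh => Or.inr (Or.inr (Or.inr (Or.inr (Or.inr (Or.inr (Or.inr (Or.inr (Or.inr (Or.inr (Or.inr (Or.inl hh)))))))))))) ⟨F₀, r, A, ζ, hr, hodd, hcard, hζ, hrat, heq hle (not_le_subfieldSubgroup hQ hn7 hF₀ A)⟩
    · exact (fun hh => Or.inr (Or.inr (Or.inr (Or.inr (Or.inr (Or.inr (Or.inr (Or.inr (Or.inr (Or.inr (Or.inr (Or.inr (hh))))))))))))) h

end Cfsg.Agent.S5874
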