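import Cfsg.Statements.S5876

set_option autoImplicit false
open Cfsg
open scoped commutatorElement MatrixGroups

namespace Cfsg.Agent.S5876

variable {F : Type*} [Field F] {n : ℕ}

local notation "M" => Matrix (Fin n) (Fin n) F

/-- fixed space -/
noncomputable def fx (g : GL (Fin n) F) : Submodule F (Fin n → F) :=
  Module.End.eigenspace (Matrix.toLin' (g : M)) 1

lemma mem_fx {g : GL (Fin n) F} {v : Fin n → F} : v ∈ fx g ↔ (g : M).mulVec v = v := by
  simp [fx]

lemma fx_commutator (a b : GL (Fin n) F) :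
    2 * Module.finrank F (fx a) ≤ n + Module.finrank F (fx ⁅a, b⁆) := by
  set W := (fx a).map (Matrix.toLin' (b : M))
  have hinj : Function.Injective (Matrix.toLin' (b : M)) := by
    intro x y h
    have := congrArg (((b⁻¹ : GL (Fin n) F) : M).mulVec) h
    simpa [Matrix.mulVec_mulVec] using this
  have hW : Module.finrank F W = Module.finrank F (fx a) :=
    (Submodule.equivMapOfInjective _ hinj _).finrank_eq.symm
  have hle : fx a ⊓ W ≤ fx ⁅a, b⁆ := by
    rintro v ⟨hv, w, hw, rfl⟩
    simp only [SetLike.mem_coe, mem_fx] at hv hw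
    have hw' : ((a⁻¹ : GL (Fin n) F) : M).mulVec w = w := by
      conv_lhs => rw [← hw]
      simp [Matrix.mulVec_mulVec]
    rw [mem_fx]
    simp only [commutatorElement_def, Units.val_mul, ← Matrix.mulVec_mulVec]
    simp only [Matrix.toLin'_apply] at hv ⊢
    rw [Matrix.mulVec_mulVec w ((b⁻¹ : GL (Fin n) F) : M), ← Units.val_mul, inv_mul_cancel,
      Units.val_one, Matrix.one_mulVec, hw', hv]
  have h1 := Submodule.finrank_mono hle
  have h2 := Submodule.finrank_sup_add_finrank_inf_eq (fx a) W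
  have h3 : Module.finrank F ↥(fx a ⊔ W) ≤ n := by
    simpa using Submodule.finrank_le (fx a ⊔ W)
  omega

lemma idem_le_rank {h g : M} (hg : g * g = g) (hh : h * h = h) (hgh : g * h = h)
    (hhg : h * g = h) (hne : h ≠ g) :
    Module.finrank F (LinearMap.range (Matrix.toLin' h)) <
      Module.finrank F (LinearMap.range (Matrix.toLin' g)) := by
  refine Submodule.finrank_lt_finrank_of_lt (lt_of_le_of_ne ?_ ?_)
  · rintro _ ⟨v, rfl⟩
    exact ⟨h.mulVec v, by simp [Matrix.mulVec_mulVec, hgh]⟩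
  · intro he
    apply hne
    apply Matrix.toLin'.injective
    apply LinearMap.ext
    intro v
    obtain ⟨w, hw⟩ := (he ▸ LinearMap.mem_range_self _ v :
      Matrix.toLin' g v ∈ LinearMap.range (Matrix.toLin' h))
    have h2 := congrArg (h.mulVec) hw
    simp [Matrix.mulVec_mulVec, hh, hhg] at h2
    rw [← hw]
    exact h2.symm

/-- In a primitive irreducible group, non-identity elements of abelian normal subgroups are fixed-point-free. -/
lemma fpf [Fintype F] (G : Subgroup (GL (Fin n) F))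
    (hirr : Cfsg.Geo.ActsIrreducibly (Cfsg.Geo.matrixSet G))
    (hprim : ∀ (m t : ℕ) (D : Fin t → Submodule F (Fin n → F)), 2 ≤ t →
      Cfsg.Geo.IsMDecomposition m D → ¬ G ≤ Cfsg.Geo.decompositionStabilizer D)
    (A : Subgroup G) [hA : A.Normal] (hcomm : ∀ a ∈ A, ∀ b ∈ A, a * b = b * a)
    (a : G) (ha : a ∈ A) (hf : fx (a : GL (Fin n) F) ≠ ⊥) : a = 1 := by
  classical
  by_contra ha1
  let S : Set M := (fun g : G => ((g : GL (Fin n) F) : M)) '' (A : Set G)
  let R : Subalgebra F M := Algebra.adjoin F S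
  have hRcomm : ∀ x ∈ R, ∀ y ∈ R, x * y = y * x := by
    have hS : ∀ x ∈ S, ∀ y ∈ S, x * y = y * x := by
      rintro _ ⟨x, hx, rfl⟩ _ ⟨y, hy, rfl⟩
      simpa using congrArg (fun g : G => ((g : GL (Fin n) F) : M)) (hcomm x hx y hy)
    intro x hx y hy
    exact (Algebra.commute_of_mem_adjoin_of_forall_mem_commute hy fun b hb =>
      (Algebra.commute_of_mem_adjoin_of_forall_mem_commute hx fun c hc => hS b hb c hc).symm :
      Commute x y)
  let cj : G → M → M := fun g y => ((g : GL (Fin n) F) : M) * y * (((g : GL (Fin n) F)⁻¹ : GL (Fin n) F) : M)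
  have cj_mul : ∀ g y z, cj g (y * z) = cj g y * cj g z := by
    intro g y z; simp [cj, mul_assoc]
  have cj_cj : ∀ g g' y, cj g (cj g' y) = cj (g * g') y := by
    intro g g' y; simp [cj, mul_assoc, Matrix.mul_inv_rev]
  have cj_R : ∀ g y, y ∈ R → cj g y ∈ R := by
    intro g y hy
    induction hy using Algebra.adjoin_induction with
    | mem x hx =>
      obtain ⟨b, hb, rfl⟩ := hx
      exact Algebra.subset_adjoin ⟨g * b * g⁻¹, hA.conj_mem b hb g, by simp [cj]⟩
    | algebraMap r =>
      have : cj g (algebraMap F M r) = algebraMap F M r := by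
        simp only [cj, ← Algebra.commutes r]
        rw [mul_assoc, ← Units.val_mul, mul_inv_cancel, Units.val_one, mul_one]
      rw [this]; exact R.algebraMap_mem r
    | add x y _ _ hx hy => simpa [cj, mul_add, add_mul] using R.add_mem hx hy
    | mul x y _ _ hx hy => rw [cj_mul]; exact R.mul_mem hx hy
  have hinv : ∀ (W : Submodule F (Fin n → F)),
      (∀ g : G, W.map (Matrix.toLin' ((g : GL (Fin n) F) : M)) ≤ W) → W = ⊥ ∨ W = ⊤ := by
    intro W hW; apply hirr
    rintro _ ⟨g, hg, rfl⟩; exact hW ⟨g, hg⟩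
  set x : M := ((a : GL (Fin n) F) : M) - 1 with hx
  have hxR : x ∈ R := R.sub_mem (Algebra.subset_adjoin ⟨a, ha, rfl⟩) R.one_mem
  have hx0 : x ≠ 0 := by
    intro h; apply ha1; apply Subtype.ext; apply Units.ext
    simpa [hx, sub_eq_zero] using h
  obtain ⟨v, hv, hv0⟩ := (Submodule.ne_bot_iff _).1 hf
  have hxv : x.mulVec v = 0 := by simp [hx, Matrix.sub_mulVec, mem_fx.1 hv]
  -- nilpotent elements of R vanish
  have hred : ∀ y ∈ R, IsNilpotent y → y = 0 := by
    intro y hy hn
    by_contra hy0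
    have key : ∀ s : Finset G, ∃ w : Fin n → F, w ≠ 0 ∧ ∀ g ∈ s, (cj g y).mulVec w = 0 := by
      intro s
      induction s using Finset.induction with
      | empty => exact ⟨v, hv0, by simp⟩
      | insert g s _ ih =>
        obtain ⟨w, hw0, hw⟩ := ih
        obtain ⟨N, hN⟩ := hn
        have hN' : ((cj g y) ^ N).mulVec w = 0 := by
          have : ∀ N : ℕ, (cj g y) ^ N = cj g (y ^ N) := by
            intro N; induction N with
            | zero => simp [cj]
            | succ N ih => rw [pow_succ, pow_succ, cj_mul, ih]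
          rw [this, hN]; simp [cj]
        have hex : ∃ k, ((cj g y) ^ k).mulVec w = 0 := ⟨N, hN'⟩
        have hk := Nat.find_spec hex
        have hkpos : Nat.find hex ≠ 0 := by
          intro h0; rw [h0] at hk; simp at hk; exact hw0 hk
        refine ⟨((cj g y) ^ (Nat.find hex - 1)).mulVec w, Nat.find_min hex (by omega), ?_⟩
        intro g' hg'
        rcases Finset.mem_insert.1 hg' with rfl | hg'
        · rw [Matrix.mulVec_mulVec, ← pow_succ',
            show Nat.find hex - 1 + 1 = Nat.find hex by omega]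
          exact hk
        · rw [Matrix.mulVec_mulVec, hRcomm _ (cj_R g' y hy) _ (R.pow_mem (cj_R g y hy) _),
            ← Matrix.mulVec_mulVec, hw g' hg', Matrix.mulVec_zero]
    haveI := Fintype.ofFinite G
    obtain ⟨w, hw0, hw⟩ := key Finset.univ
    let W : Submodule F (Fin n → F) :=
      { carrier := {w | ∀ g : G, (cj g y).mulVec w = 0}
        add_mem' := by intro p q hp hq g; simp [Matrix.mulVec_add, hp g, hq g]
        zero_mem' := by simp
        smul_mem' := by intro c p hp g; simp [Matrix.mulVec_smul, hp g] }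
    rcases hinv W (by
      rintro g _ ⟨p, hp, rfl⟩ g'
      have h := hp (g⁻¹ * g')
      have e : cj g' y = cj g (cj (g⁻¹ * g') y) := by rw [cj_cj, mul_inv_cancel_left]
      rw [Matrix.toLin'_apply, e]
      generalize cj (g⁻¹ * g') y = z at h
      show (cj g z).mulVec _ = 0
      simp only [cj]
      rw [Matrix.mulVec_mulVec, mul_assoc, ← Units.val_mul, inv_mul_cancel, Units.val_one, mul_one,
        ← Matrix.mulVec_mulVec, h, Matrix.mulVec_zero]) with h | h
    · exact hw0 ((Submodule.mem_bot F).1 (h ▸ (show w ∈ W from fun g => hw g (Finset.mem_univ g))))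
    · apply hy0
      apply Matrix.toLin'.injective
      apply LinearMap.ext
      intro p
      have hp : p ∈ W := h ▸ Submodule.mem_top
      simpa [cj] using hp 1
  -- a non-trivial idempotent
  obtain ⟨i, j, hij, heq⟩ := Finite.exists_ne_map_eq_of_infinite (fun k : ℕ => x ^ k)
  wlog hlt : i < j generalizing i j
  · exact this j i hij.symm heq.symm (by omega)
  have hper : ∀ m k, i ≤ m → x ^ (m + (j - i) * k) = x ^ m := by
    intro m k hm
    induction k with
    | zero => simp
    | succ k ih =>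
      have : m + (j - i) * (k + 1) = j + (m + (j - i) * k - i) := by
        rw [Nat.mul_succ]; omega
      rw [this, pow_add, ← heq, ← pow_add, show i + (m + (j - i) * k - i) = m + (j - i) * k by omega, ih]
  set N := (j - i) * (i + 1) with hN
  have hNi : i + 1 ≤ N := Nat.le_mul_of_pos_left _ (by omega)
  set e := x ^ N with he
  have hee : e * e = e := by
    rw [he, ← pow_add]
    exact hper N (i + 1) (by omega)
  have heR : e ∈ R := R.pow_mem hxR _
  have he0 : e ≠ 0 := fun h => hx0 (hred x hxR ⟨N, h⟩)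
  have he1 : e ≠ 1 := by
    intro h
    apply hv0
    rw [← Matrix.one_mulVec v, ← h, he, show N = N - 1 + 1 by omega, pow_succ,
      ← Matrix.mulVec_mulVec, hxv, Matrix.mulVec_zero]
  -- an atom
  let IsI : M → Prop := fun f => f ∈ R ∧ f * f = f ∧ f ≠ 0
  have hexI : ∃ k, ∃ f, IsI f ∧ Module.finrank F (LinearMap.range (Matrix.toLin' f)) = k :=
    ⟨_, e, ⟨heR, hee, he0⟩, rfl⟩
  obtain ⟨e₀, ⟨he₀R, he₀e, he₀0⟩, he₀k⟩ := Nat.find_spec hexI
  have hmin : ∀ f, IsI f →
      Module.finrank F (LinearMap.range (Matrix.toLin' e₀)) ≤ Module.finrank F (LinearMap.range (Matrix.toLin' f)) := by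
    intro f hf'
    rw [he₀k]; exact Nat.find_min' hexI ⟨f, hf', rfl⟩
  have hatom : ∀ f ∈ R, f * f = f → e₀ * f ≠ 0 → e₀ * f = e₀ := by
    intro f hf hff h0
    by_contra hne
    have hc : f * e₀ = e₀ * f := hRcomm f hf e₀ he₀R
    have hid : e₀ * f * (e₀ * f) = e₀ * f := by
      rw [mul_assoc, ← mul_assoc f, hc, mul_assoc e₀ f, hff, ← mul_assoc, he₀e]
    have h1 := idem_le_rank he₀e hid (by rw [← mul_assoc, he₀e])
      (by rw [mul_assoc, hc, ← mul_assoc, he₀e]) hne
    have h2 := hmin _ ⟨R.mul_mem he₀R hf, hid, h0⟩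
    omega
  have cj0 : ∀ g y, cj g y = 0 → y = 0 := by
    intro g y h
    have := congrArg (cj g⁻¹) h
    rw [cj_cj] at this
    simpa [cj] using this
  have cj1 : ∀ y, cj 1 y = y := by intro y; simp [cj]
  haveI := Fintype.ofFinite G
  let O : Finset M := Finset.univ.image (fun g : G => cj g e₀)
  have hOid : ∀ c ∈ O, c * c = c := by
    intro c hc; obtain ⟨g, _, rfl⟩ := Finset.mem_image.1 hc
    rw [← cj_mul, he₀e]
  have hOorth : ∀ c ∈ O, ∀ d ∈ O, c ≠ d → c * d = 0 := by
    intro c hc d hd hne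
    obtain ⟨g, _, rfl⟩ := Finset.mem_image.1 hc
    obtain ⟨g', _, rfl⟩ := Finset.mem_image.1 hd
    by_contra h0
    apply hne
    have e1 : ∀ p q : G, cj p e₀ * cj q e₀ ≠ 0 → cj p e₀ * cj q e₀ = cj p e₀ := by
      intro p q hpq
      have hq : cj q e₀ = cj p (cj (p⁻¹ * q) e₀) := by rw [cj_cj, mul_inv_cancel_left]
      rw [hq, ← cj_mul] at hpq ⊢
      rw [hatom _ (cj_R _ _ he₀R) (by rw [← cj_mul, he₀e]) ?_]
      intro h; rw [h] at hpq; simp [cj] at hpq
    have hc' := hRcomm _ (cj_R g _ he₀R) _ (cj_R g' _ he₀R)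
    rw [← e1 g g' h0, hc', e1 g' g (hc' ▸ h0)]
  have hmul_sum : ∀ c ∈ O, c * (∑ d ∈ O, d) = c := by
    intro c hc
    rw [Finset.mul_sum, Finset.sum_eq_single c]
    · exact hOid c hc
    · intro d hd hne; exact hOorth c hc d hd hne.symm
    · intro h; exact absurd hc h
  have he₀O : e₀ ∈ O := Finset.mem_image.2 ⟨1, Finset.mem_univ _, cj1 e₀⟩
  set s : M := ∑ d ∈ O, d with hs
  have hsfix : ∀ g, cj g s = s := by
    intro g
    have : cj g s = ∑ d ∈ O, cj g d := by simp [cj, hs, Finset.mul_sum, Finset.sum_mul]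
    rw [this, hs]
    refine Finset.sum_nbij' (cj g) (cj g⁻¹) ?_ ?_ ?_ ?_ ?_
    · intro c hc; obtain ⟨p, _, rfl⟩ := Finset.mem_image.1 hc
      exact Finset.mem_image.2 ⟨g * p, Finset.mem_univ _, (cj_cj g p e₀).symm⟩
    · intro c hc; obtain ⟨p, _, rfl⟩ := Finset.mem_image.1 hc
      exact Finset.mem_image.2 ⟨g⁻¹ * p, Finset.mem_univ _, (cj_cj g⁻¹ p e₀).symm⟩
    · intro c _; rw [cj_cj, inv_mul_cancel, cj1]
    · intro c _; rw [cj_cj, mul_inv_cancel, cj1]
    · intro c _; rfl
  have hs1 : s = 1 := by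
    have hss : s * s = s := by
      conv_lhs => arg 1; rw [hs]
      rw [Finset.sum_mul]; exact Finset.sum_congr rfl hmul_sum
    rcases hinv (LinearMap.range (Matrix.toLin' s)) (by
      rintro g _ ⟨_, ⟨p, rfl⟩, rfl⟩
      refine ⟨((g : GL (Fin n) F) : M).mulVec p, ?_⟩
      simp only [Matrix.toLin'_apply, Matrix.mulVec_mulVec]
      conv_lhs => rw [← hsfix g]
      simp [cj, mul_assoc]) with h | h
    · exfalso
      apply he₀0
      have : s = 0 := by
        apply Matrix.toLin'.injective
        rw [LinearMap.range_eq_bot] at h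
        simpa using h
      rw [← hmul_sum e₀ he₀O]
      show e₀ * s = 0
      rw [this, mul_zero]
    · apply Matrix.toLin'.injective
      apply LinearMap.ext
      intro p
      obtain ⟨q, hq⟩ := (h ▸ Submodule.mem_top : p ∈ LinearMap.range (Matrix.toLin' s))
      rw [← hq]
      simp [Matrix.mulVec_mulVec, hss]
  have hO2 : 2 ≤ O.card := by
    by_contra hO
    have hO1 : O = {e₀} := Finset.eq_singleton_iff_unique_mem.2
      ⟨he₀O, fun c hc => Finset.card_le_one.1 (by omega) c hc e₀ he₀O⟩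
    have : e₀ = 1 := by rw [← hs1, hs, hO1, Finset.sum_singleton]
    have h' := hatom e heR hee (by rw [this, one_mul]; exact he0)
    rw [this, one_mul] at h'
    exact he1 h'
  let ι : Fin O.card ≃ {c // c ∈ O} := O.equivFin.symm
  let D : Fin O.card → Submodule F (Fin n → F) :=
    fun k => LinearMap.range (Matrix.toLin' (ι k).1)
  have hmap : ∀ (g : G) (y : M),
      (LinearMap.range (Matrix.toLin' y)).map (Matrix.toLin' ((g : GL (Fin n) F) : M)) =
        LinearMap.range (Matrix.toLin' (cj g y)) := by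
    intro g y
    apply le_antisymm
    · rintro _ ⟨_, ⟨p, rfl⟩, rfl⟩
      exact ⟨((g : GL (Fin n) F) : M).mulVec p, by simp [cj, Matrix.mulVec_mulVec, mul_assoc]⟩
    · rintro _ ⟨p, rfl⟩
      exact ⟨_, ⟨(((g : GL (Fin n) F)⁻¹ : GL (Fin n) F) : M).mulVec p, rfl⟩,
        by simp [cj, Matrix.mulVec_mulVec, mul_assoc]⟩
  have hdim : ∀ k, Module.finrank F (D k) = Module.finrank F (LinearMap.range (Matrix.toLin' e₀)) := by
    intro k
    obtain ⟨g, _, hg⟩ := Finset.mem_image.1 (ι k).2
    show Module.finrank F (LinearMap.range (Matrix.toLin' (ι k).1)) = _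
    rw [← hg, ← hmap]
    refine (Submodule.equivMapOfInjective _ ?_ _).finrank_eq.symm
    intro p q h
    have := congrArg ((((g : GL (Fin n) F)⁻¹ : GL (Fin n) F) : M).mulVec) h
    simpa [Matrix.mulVec_mulVec] using this
  refine hprim (Module.finrank F (LinearMap.range (Matrix.toLin' e₀))) O.card D hO2
    ⟨hO2, ?_, hdim, ?_, ?_⟩ ?_
  · rw [Nat.pos_iff_ne_zero]
    intro h
    rw [Submodule.finrank_eq_zero, LinearMap.range_eq_bot] at h
    exact he₀0 (Matrix.toLin'.injective (by simpa using h))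
  · intro k
    rw [Submodule.disjoint_def]
    intro p hp hp'
    have h1 : (ι k).1.mulVec p = p := by
      obtain ⟨q, rfl⟩ := hp
      simp [Matrix.mulVec_mulVec, hOid _ (ι k).2]
    have h2 : p ∈ LinearMap.ker (Matrix.toLin' (ι k).1) := by
      revert hp'
      suffices (⨆ (j) (_ : j ≠ k), D j) ≤ LinearMap.ker (Matrix.toLin' (ι k).1) from fun h => this h
      refine iSup₂_le fun j hj => ?_
      rintro _ ⟨q, rfl⟩
      have : (ι k).1 * (ι j).1 = 0 := hOorth _ (ι k).2 _ (ι j).2
        (fun h => hj (ι.injective (Subtype.ext h)).symm)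
      simp [Matrix.mulVec_mulVec, this]
    rw [← h1]
    simpa using h2
  · rw [eq_top_iff]
    intro p _
    rw [← Matrix.one_mulVec p, ← hs1, hs, Matrix.sum_mulVec]
    refine Submodule.sum_mem _ fun c hc => ?_
    refine Submodule.mem_iSup_of_mem (ι.symm ⟨c, hc⟩) ⟨p, ?_⟩
    simp
  · intro g hg
    let π : {c // c ∈ O} → {c // c ∈ O} := fun c => ⟨cj ⟨g, hg⟩ c.1, by
      obtain ⟨p, _, hp⟩ := Finset.mem_image.1 c.2
      exact Finset.mem_image.2 ⟨⟨g, hg⟩ * p, Finset.mem_univ _, by rw [← cj_cj, hp]⟩⟩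
    have hπ : Function.Bijective π := by
      rw [← Finite.injective_iff_bijective]
      intro c d h
      have := congrArg (cj (⟨g, hg⟩ : G)⁻¹) (congrArg Subtype.val h)
      simp only [π, cj_cj, inv_mul_cancel, cj1] at this
      exact Subtype.ext this
    refine ⟨ι.trans ((Equiv.ofBijective π hπ).trans ι.symm), fun k => ?_⟩
    have := hmap ⟨g, hg⟩ (ι k).1
    simpa [D, π] using this

theorem result {F : Type*} [Field F] [Fintype F] {n : ℕ} (G : Subgroup (Matrix.GeneralLinearGroup (Fin n) F)) (hsol : IsSolvable G) (hirr : Cfsg.Geo.ActsIrreducibly (Cfsg.Geo.matrixSet G)) (hprim : ∀ (m t : ℕ) (D : Fin t → Submodule F (Fin n → F)), 2 ≤ t → Cfsg.Geo.IsMDecomposition m D → ¬ G ≤ Cfsg.Geo.decompositionStabilizer D) (g : Matrix.GeneralLinearGroup (Fin n) F) (hg : g ∈ G) (hg1 : g ≠ 1) :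
    4 * Module.finrank F (Module.End.eigenspace (Matrix.toLin' (g : Matrix (Fin n) (Fin n) F)) 1) ≤ 3 * n := by
  classical
  by_contra hlt
  rw [not_le] at hlt
  change 3 * n < 4 * Module.finrank F (fx g) at hlt
  have hfree : ∀ (A : Subgroup G), A.Normal → (∀ a ∈ A, ∀ b ∈ A, a * b = b * a) →
      ∀ a ∈ A, 0 < Module.finrank F (fx (a : GL (Fin n) F)) → a = 1 := by
    intro A hA hc a ha hpos
    refine @fpf F _ n _ G hirr hprim A hA hc a ha ?_
    intro h; rw [h] at hpos; simp at hpos
  have hfc : ∀ a b : G, 2 * Module.finrank F (fx (a : GL (Fin n) F)) ≤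
      n + Module.finrank F (fx ((⁅a, b⁆ : G) : GL (Fin n) F)) := by
    intro a b
    have := fx_commutator (a : GL (Fin n) F) b
    simpa [commutatorElement_def] using this
  obtain ⟨A, ⟨hAn, hAc⟩, hAmax⟩ :=
    (Set.toFinite {A : Subgroup G | A.Normal ∧ ∀ a ∈ A, ∀ b ∈ A, a * b = b * a}).exists_maximal
      ⟨⊥, inferInstance, by simp⟩
  set C := Subgroup.centralizer (A : Set G) with hC
  have hAC : A ≤ C := fun a ha => Subgroup.mem_centralizer_iff.2 fun b hb => hAc b hb a ha
  obtain ⟨U, ⟨hUn, hAU, hUC, hUU⟩, hUmax⟩ :=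
    (Set.toFinite {U : Subgroup G | U.Normal ∧ A ≤ U ∧ U ≤ C ∧ ⁅U, U⁆ ≤ A}).exists_maximal
      ⟨A, hAn, le_rfl, hAC, Subgroup.commutator_le_right A A⟩
  set D := C ⊓ Subgroup.centralizer (U : Set G) with hD
  haveI := hAn; haveI := hUn
  haveI hDn : D.Normal := inferInstance
  have hAD : A ≤ D ⊓ U := fun a ha => ⟨⟨hAC ha, Subgroup.mem_centralizer_iff.2 fun u hu =>
    (Subgroup.mem_centralizer_iff.1 (hUC hu) a ha).symm⟩, hAU ha⟩
  have hDUA : D ⊓ U ≤ A := hAmax ⟨inferInstance, fun a ha b hb =>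
    (Subgroup.mem_centralizer_iff.1 ha.1.2 b hb.2).symm⟩ hAD
  have hDA : D ≤ A := by
    by_contra hDA
    let W : ℕ → Subgroup G := fun k => (derivedSeries D k).map D.subtype
    have hW0 : W 0 = D := by simp [W, derivedSeries_zero, ← MonoidHom.range_eq_map]
    have hWs : ∀ k, W (k + 1) = ⁅W k, W k⁆ := by
      intro k; simp [W, derivedSeries_succ, Subgroup.map_commutator]
    haveI : Group.IsSolvable G := hsol
    obtain ⟨K, hK⟩ := (Group.isSolvable_def D).1 (solvable_of_solvable_injective D.subtype_injective)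
    have hex : ∃ k, W k ≤ A := ⟨K, by simp [W, hK]⟩
    have h0 : Nat.find hex ≠ 0 := by
      intro h; apply hDA; rw [← hW0, ← h]; exact Nat.find_spec hex
    obtain ⟨k, hk⟩ := Nat.exists_eq_succ_of_ne_zero h0
    have hk1 : ¬ W k ≤ A := Nat.find_min hex (by omega)
    have hk2 : W (k + 1) ≤ A := by
      have := Nat.find_spec hex; rw [hk] at this; exact this
    rw [hWs] at hk2
    have hWn : ∀ m, (W m).Normal := by
      intro m; induction m with
      | zero => rw [hW0]; exact hDn
      | succ m ih => rw [hWs]; haveI := ih; exact inferInstance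
    haveI := hWn k
    have hWD : W k ≤ D := Subgroup.map_subtype_le _
    have hnew : ⁅U ⊔ W k, U ⊔ W k⁆ ≤ A := by
      rw [Subgroup.commutator_le]
      intro p hp q hq
      rw [Subgroup.mem_sup_of_normal_right] at hp hq
      obtain ⟨u, hu, w, hw, rfl⟩ := hp
      obtain ⟨u', hu', w', hw', rfl⟩ := hq
      let π := QuotientGroup.mk' A
      have hcm : ∀ p q : G, ⁅p, q⁆ ∈ A → π p * π q = π q * π p := by
        intro p q h
        rw [← commutatorElement_eq_one_iff_mul_comm, ← map_commutatorElement]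
        exact (QuotientGroup.eq_one_iff _).2 h
      have c1 := hcm u u' (hUU (Subgroup.commutator_mem_commutator hu hu'))
      have c2 := hcm w w' (hk2 (Subgroup.commutator_mem_commutator hw hw'))
      have c3 : π u * π w' = π w' * π u := by
        rw [← map_mul, ← map_mul, Subgroup.mem_centralizer_iff.1 (hWD hw').2 u hu]
      have c4 : π u' * π w = π w * π u' := by
        rw [← map_mul, ← map_mul, Subgroup.mem_centralizer_iff.1 (hWD hw).2 u' hu']
      apply (QuotientGroup.eq_one_iff _).1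
      show π ⁅u * w, u' * w'⁆ = 1
      rw [map_commutatorElement, commutatorElement_eq_one_iff_mul_comm, map_mul, map_mul]
      calc π u * π w * (π u' * π w') = π u * (π w * π u') * π w' := by group
        _ = π u * π u' * (π w * π w') := by rw [← c4]; group
        _ = π u' * π u * (π w' * π w) := by rw [c1, c2]
        _ = π u' * (π u * π w') * π w := by group
        _ = π u' * π w' * (π u * π w) := by rw [c3]; group
    have hle : U ⊔ W k ≤ U := hUmax ⟨inferInstance, le_trans hAU le_sup_left,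
      sup_le hUC (le_trans hWD inf_le_left), hnew⟩ le_sup_left
    exact hk1 fun w hw => hDUA ⟨hWD hw, hle (Subgroup.mem_sup_right hw)⟩
  set g' : G := ⟨g, hg⟩
  have hgC : g' ∈ C := by
    refine Subgroup.mem_centralizer_iff.2 fun a ha => ?_
    have h1 : ⁅g', a⁆ ∈ A := by
      rw [commutatorElement_def]; exact A.mul_mem (hAn.conj_mem a ha g') (A.inv_mem ha)
    have h2 := hfc g' a
    have h3 : ⁅g', a⁆ = 1 := hfree A hAn hAc _ h1 (by
      change 2 * Module.finrank F (fx g) ≤ _ at h2; omega)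
    exact (commutatorElement_eq_one_iff_mul_comm.1 h3).symm
  have hgU : g' ∈ Subgroup.centralizer (U : Set G) := by
    refine Subgroup.mem_centralizer_iff.2 fun u hu => ?_
    have hh : ⁅g', u⁆ ∈ U := by
      rw [commutatorElement_def]; exact U.mul_mem (hUn.conj_mem u hu g') (U.inv_mem hu)
    have h2 := hfc g' u
    change 2 * Module.finrank F (fx g) ≤ _ at h2
    have hhA : ⁅g', u⁆ ∈ A := by
      refine hDA ⟨hUC hh, Subgroup.mem_centralizer_iff.2 fun u' hu' => ?_⟩
      have h4 := hfc ⁅g', u⁆ u'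
      have h3 : ⁅⁅g', u⁆, u'⁆ = 1 :=
        hfree A hAn hAc _ (hUU (Subgroup.commutator_mem_commutator hh hu')) (by omega)
      exact (commutatorElement_eq_one_iff_mul_comm.1 h3).symm
    have h3 : ⁅g', u⁆ = 1 := hfree A hAn hAc _ hhA (by omega)
    exact (commutatorElement_eq_one_iff_mul_comm.1 h3).symm
  apply hg1
  have := hfree A hAn hAc g' (hDA ⟨hgC, hgU⟩) (by change 0 < Module.finrank F (fx g); omega)
  exact congrArg Subtype.val this

end Cfsg.Agent.S5876
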