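import Cfsg.Statements.S5883
import Cfsg.Agent.Fi23Max.Solvable

set_option autoImplicit false
open Cfsg

namespace Cfsg.Agent.S5883

/-- The constant 10 in the statement that H⁽¹⁰⁾ is perfect for every maximal subgroup H of a finite almost simple group cannot be lowered to 9: there exist a finite almost simple group G (with a non-abelian simple normal subgroup of trivial centralizer) and a maximal subgroup H of G whose ninth derived subgroup H⁽⁹⁾ is not perfect, i.e. H⁽¹⁰⁾ ≠ H⁽⁹⁾. (A solvable maximal subgroup of derived length 10 in the Fischer group Fi₂₃ is such an example.) -/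
theorem result :
    ∃ (G : Type) (_ : Group G) (_ : Finite G) (S H : Subgroup G), S.Normal ∧ IsSimpleGroup S ∧ ¬ IsMulCommutative S ∧
      Subgroup.centralizer (S : Set G) = ⊥ ∧ IsCoatom H ∧ derivedSeries H 10 ≠ derivedSeries H 9 := by
  obtain ⟨A⟩ := CfsgLib.Fi23Max.exists_act
  haveI := CfsgLib.CosetEnum.Fi23.finite_grp
  haveI hs : IsSimpleGroup CfsgLib.Fi23Max.G := CfsgLib.CosetEnum.Fi23.isSimpleGroup_Fi23
  have hnc : ¬ ∀ a b : CfsgLib.Fi23Max.G, a * b = b * a := fun h => by
    letI : CommGroup CfsgLib.Fi23Max.G := { (inferInstance : Group CfsgLib.Fi23Max.G) with mul_comm := h }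
    have hp : (Nat.card CfsgLib.Fi23Max.G).Prime := IsSimpleGroup.prime_card
    rw [A.card] at hp
    exact absurd hp (by norm_num)
  refine ⟨CfsgLib.Fi23Max.G, inferInstance, inferInstance, ⊤, A.stab, inferInstance,
    Subgroup.topEquiv.isSimpleGroup, fun h => hnc fun a b => congrArg Subtype.val
      (h.is_comm.comm ⟨a, Subgroup.mem_top a⟩ ⟨b, Subgroup.mem_top b⟩), ?_, A.isCoatom_stab, ?_⟩
  · rw [Subgroup.coe_top, Subgroup.centralizer_univ]
    exact ((inferInstance : (Subgroup.center CfsgLib.Fi23Max.G).Normal).eq_bot_or_eq_top).resolve_right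
      fun h => hnc fun a b => (Subgroup.mem_center_iff.1 (h ▸ Subgroup.mem_top b) a)
  · intro h
    obtain ⟨n, hn⟩ := (isSolvable_def _).1 A.isSolvable_stab
    have hst : ∀ m, derivedSeries A.stab (9 + m) = derivedSeries A.stab 9 := by
      intro m
      induction m with
      | zero => rfl
      | succ m ih => rw [← Nat.add_assoc, derivedSeries_succ, ih, ← derivedSeries_succ]; exact h
    refine A.derivedSeries_nine_ne_bot (eq_bot_iff.2 ?_)
    rw [← hst n, ← hn, Nat.add_comm]
    exact derivedSeries_antitone _ (Nat.le_add_right n 9)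

end Cfsg.Agent.S5883
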