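import Cfsg.Statements.S5885

set_option autoImplicit false
open Cfsg

namespace Cfsg.Agent.S5885

open MulAction

theorem result {G : Type*} [Group G]
    [Finite G] (n : ℕ) (hodd : Odd n)
    (hA : ∀ P : Subgroup (Equiv.Perm (Fin n)), MulAction.IsPreprimitive P (Fin n) → alternatingGroup (Fin n) ≤ P)
    (M : Subgroup G) (hM : IsCoatom M) (hn : M.index = n) (H : Subgroup G) (hHM : H ≤ M)
    (hmax : IsCoatom (H.subgroupOf M)) (K : Subgroup G) (hK : IsCoatom K) (hHK : H ≤ K) :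
    IsCoatom (H.subgroupOf K) := by
  classical
  by_cases hKM : K = M
  · subst hKM; exact hmax
  have hMK : M ⊓ K = H := by
    refine le_antisymm ?_ (le_inf hHM hHK)
    have h1 : H.subgroupOf M ≤ (M ⊓ K).subgroupOf M := fun x hx => ⟨x.2, hHK hx⟩
    rcases lt_or_eq_of_le h1 with h | h
    · exfalso
      have h2 := hmax.2 _ h
      rw [Subgroup.subgroupOf_eq_top] at h2
      have h3 : M ≤ K := fun x hx => (h2 hx).2
      rcases lt_or_eq_of_le h3 with h4 | h4
      · exact hK.1 (hM.2 _ h4)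
      · exact hKM h4.symm
    · intro x hx
      have : (⟨x, hx.1⟩ : M) ∈ H.subgroupOf M := by rw [h]; exact hx
      exact this
  refine ⟨fun h => ?_, fun L' hL' => ?_⟩
  · rw [Subgroup.subgroupOf_eq_top] at h
    rcases lt_or_eq_of_le (le_trans h hHM) with h4 | h4
    · exact hK.1 (by have := hK.2 _ h4; exact absurd this hM.1)
    · exact hKM h4
  by_contra hLtop
  set L : Subgroup G := L'.map K.subtype with hLdef
  have hLK : L ≤ K := Subgroup.map_subtype_le _
  have hHL : H ≤ L := fun x hx => ⟨⟨x, hHK hx⟩, hL'.le hx, rfl⟩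
  have hLneH : ¬ L ≤ H := by
    intro h
    apply not_le_of_gt hL'
    intro x hx
    exact h ⟨x, hx, rfl⟩
  have hKneL : ¬ K ≤ L := by
    intro h
    apply hLtop
    rw [eq_top_iff]
    intro x _
    obtain ⟨y, hy, hxy⟩ := h x.2
    exact (Subtype.ext hxy : y = x) ▸ hy
  have hLM : ∀ l ∈ L, l ∈ M → l ∈ H := fun l hl hm => hMK ▸ ⟨hm, hLK hl⟩
  -- the action on the cosets of M
  let X := G ⧸ M
  haveI : Fintype X := Fintype.ofFinite X
  let a : X := ((1 : G) : G ⧸ M)
  have hstab : ∀ g : G, g • a = a ↔ g ∈ M := by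
    intro g
    rw [← MulAction.mem_stabilizer_iff, MulAction.stabilizer_quotient]
  have hcard : Fintype.card X = n := by
    rw [← Nat.card_eq_fintype_card]; exact hn
  let e : X ≃ Fin n := Fintype.equivFinOfCardEq hcard
  let φ : G →* Equiv.Perm (Fin n) := e.permCongrHom.toMonoidHom.comp (MulAction.toPermHom G X)
  have hφ : ∀ g x, φ g (e x) = e (g • x) := by
    intro g x; simp [φ, Equiv.permCongr_apply]
  haveI : Nontrivial X := by
    rw [← Fintype.one_lt_card_iff_nontrivial, hcard]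
    have : M.index ≠ 1 := fun h => hM.1 (Subgroup.index_eq_one.1 h)
    have := M.index_ne_zero_of_finite
    omega
  haveI : MulAction.IsPreprimitive G X := by
    rw [← MulAction.isCoatom_stabilizer_iff_preprimitive G a, MulAction.stabilizer_quotient]
    exact hM
  have hprim : MulAction.IsPreprimitive φ.range (Fin n) := by
    let f : X →ₑ[φ.rangeRestrict] Fin n :=
      { toFun := e
        map_smul' := fun g x => (hφ g x).symm }
    exact MulAction.IsPreprimitive.of_surjective (f := f) e.surjective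
  have halt := hA _ hprim
  have real : ∀ σ : Equiv.Perm X, Equiv.Perm.sign σ = 1 → ∃ g : G, ∀ x, g • x = σ x := by
    intro σ hσ
    have : e.permCongr σ ∈ alternatingGroup (Fin n) := by
      rw [Equiv.Perm.mem_alternatingGroup, Equiv.Perm.sign_permCongr, hσ]
    obtain ⟨g, hg⟩ := halt this
    refine ⟨g, fun x => e.injective ?_⟩
    rw [← hφ, hg, Equiv.permCongr_apply, Equiv.symm_apply_apply]
  -- orbits
  let B : Finset X := Finset.univ.filter (fun x => ∃ l ∈ L, l • a = x)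
  let D : Finset X := Finset.univ.filter (fun x => ∃ k ∈ K, k • a = x)
  have memB : ∀ x, x ∈ B ↔ ∃ l ∈ L, l • a = x := by intro x; simp [B]
  have memD : ∀ x, x ∈ D ↔ ∃ k ∈ K, k • a = x := by intro x; simp [D]
  have haB : a ∈ B := (memB a).2 ⟨1, L.one_mem, one_smul _ a⟩
  have hsub : ∀ k ∈ K, k • a ∈ B → k ∈ L := by
    intro k hk hb
    obtain ⟨l, hl, h⟩ := (memB _).1 hb
    have h1 : l⁻¹ * k ∈ M := by rw [← hstab, mul_smul, ← h, inv_smul_smul]
    have h2 : l⁻¹ * k ∈ H := hMK ▸ ⟨h1, K.mul_mem (K.inv_mem (hLK hl)) hk⟩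
    simpa using L.mul_mem hl (hHL h2)
  obtain ⟨k₀, hk₀, hk₀L⟩ := SetLike.not_le_iff_exists.1 hKneL
  set y := k₀ • a with hy
  have hyB : y ∉ B := fun h => hk₀L (hsub k₀ hk₀ h)
  have hyD : y ∈ D := (memD _).2 ⟨k₀, hk₀, rfl⟩
  obtain ⟨l₀, hl₀, hl₀H⟩ := SetLike.not_le_iff_exists.1 hLneH
  set x := l₀ • a with hx
  have hxB : x ∈ B := (memB _).2 ⟨l₀, hl₀, rfl⟩
  have hxa : x ≠ a := fun h => hl₀H (hLM l₀ hl₀ ((hstab _).1 h))
  have hB2 : 2 ≤ B.card := Finset.one_lt_card.2 ⟨x, hxB, a, haB, hxa⟩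
  have hdis : ∀ k ∈ K, k ∉ L → ∀ b ∈ B, k • b ∉ B := by
    intro k hk hkL b hb hkb
    obtain ⟨l, hl, rfl⟩ := (memB _).1 hb
    rw [← mul_smul] at hkb
    have := hsub _ (K.mul_mem hk (hLK hl)) hkb
    exact hkL (by simpa using L.mul_mem this (L.inv_mem hl))
  have himg : ∀ k ∈ K, ∀ b ∈ B, k • b ∈ D := by
    intro k hk b hb
    obtain ⟨l, hl, rfl⟩ := (memB _).1 hb
    exact (memD _).2 ⟨k * l, K.mul_mem hk (hLK hl), mul_smul _ _ _⟩
  have hn4 : 2 * B.card ≤ n := by
    rw [← hcard]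
    have h1 : Disjoint B (B.image (k₀ • ·)) := by
      rw [Finset.disjoint_right]
      intro z hz hzB
      obtain ⟨b, hb, rfl⟩ := Finset.mem_image.1 hz
      exact hdis k₀ hk₀ hk₀L b hb hzB
    have h2 := Finset.card_le_univ (B ∪ B.image (k₀ • ·))
    rw [Finset.card_union_of_disjoint h1, Finset.card_image_of_injective _ (MulAction.injective k₀)] at h2
    omega
  have hn5 : 5 ≤ n := by obtain ⟨m, rfl⟩ := hodd; omega
  -- even permutations with prescribed values
  have third : ∀ s : Finset X, s.card < Fintype.card X → ∃ z, z ∉ s := by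
    intro s hs
    by_contra h
    push Not at h
    rw [Finset.eq_univ_iff_forall.2 h] at hs
    simp at hs
  have cyc : ∀ p q r : X, p ≠ q → p ≠ r → q ≠ r →
      Equiv.Perm.sign (Equiv.swap p q * Equiv.swap p r) = 1 := by
    intro p q r h1 h2 _
    simp [Equiv.Perm.sign_swap h1, Equiv.Perm.sign_swap h2]
  have move : ∀ σ : Equiv.Perm X, Equiv.Perm.sign σ = 1 → σ a = a → ∃ g ∈ M, ∀ z, g • z = σ z := by
    intro σ h1 h2
    obtain ⟨g, hg⟩ := real σ h1
    exact ⟨g, (hstab g).1 (by rw [hg, h2]), hg⟩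
  let S : Subgroup G :=
    { carrier := {g | g ∈ M ∧ ∀ z, z ∈ B ↔ g • z ∈ B}
      mul_mem' := fun {g h} hg hh => ⟨M.mul_mem hg.1 hh.1, fun z => by
        rw [mul_smul]; exact (hh.2 z).trans (hg.2 _)⟩
      one_mem' := ⟨M.one_mem, fun z => by simp⟩
      inv_mem' := fun {g} hg => ⟨M.inv_mem hg.1, fun z => by
        have := hg.2 (g⁻¹ • z); rw [smul_inv_smul] at this; exact this.symm⟩ }
  have hHS : H ≤ S := by
    intro h hh
    refine ⟨hHM hh, fun z => ?_⟩
    rw [memB, memB]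
    constructor
    · rintro ⟨l, hl, rfl⟩; exact ⟨h * l, L.mul_mem (hHL hh) hl, mul_smul _ _ _⟩
    · rintro ⟨l, hl, h'⟩
      exact ⟨h⁻¹ * l, L.mul_mem (L.inv_mem (hHL hh)) hl, by rw [mul_smul, h', inv_smul_smul]⟩
  have hxy : x ≠ y := fun h => hyB (h ▸ hxB)
  have hya : y ≠ a := fun h => hyB (h ▸ haB)
  have hSM : ¬ M ≤ S := by
    intro hle
    obtain ⟨z, hz⟩ := third {a, x, y} (lt_of_le_of_lt Finset.card_le_three (by omega))
    simp only [Finset.mem_insert, Finset.mem_singleton, not_or] at hz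
    obtain ⟨g, hgM, hg⟩ := move (Equiv.swap x y * Equiv.swap x z) (cyc x y z hxy (Ne.symm hz.2.1) (Ne.symm hz.2.2))
      (by simp [Equiv.swap_apply_of_ne_of_ne, hxa.symm, hya.symm, Ne.symm hz.1])
    -- g maps z to y
    have e1 : g • z = y := by simp [hg]
    have e2 : g • y = x := by
      simp [hg, Equiv.swap_apply_of_ne_of_ne, hxy.symm, Ne.symm hz.2.2]
    exact hyB (((hle hgM).2 y).2 (e2 ▸ hxB))
  have hSH : ∀ g ∈ S, g ∈ H := by
    intro g hg
    have h1 : H.subgroupOf M ≤ S.subgroupOf M := fun x hx => hHS hx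
    rcases lt_or_eq_of_le h1 with h | h
    · exact absurd (Subgroup.subgroupOf_eq_top.1 (hmax.2 _ h)) hSM
    · have : (⟨g, hg.1⟩ : M) ∈ H.subgroupOf M := by rw [h]; exact hg
      exact this
  -- even permutations fixing a and preserving B lie in H
  have inH : ∀ σ : Equiv.Perm X, Equiv.Perm.sign σ = 1 → σ a = a → (∀ z, z ∈ B ↔ σ z ∈ B) →
      ∃ h ∈ H, ∀ z, h • z = σ z := by
    intro σ h1 h2 h3
    obtain ⟨g, hgM, hg⟩ := move σ h1 h2
    exact ⟨g, hSH g ⟨hgM, fun z => by rw [hg]; exact h3 z⟩, hg⟩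
  have swaps : ∀ p q, p ∉ B → q ∉ B → ∀ z, z ∈ B ↔ Equiv.swap p q z ∈ B := by
    intro p q hp hq z
    rcases eq_or_ne z p with rfl | h1
    · simp [hp, hq]
    rcases eq_or_ne z q with rfl | h2
    · simp [hp, hq]
    rw [Equiv.swap_apply_of_ne_of_ne h1 h2]
  have swapsB : ∀ p q, p ∈ B → q ∈ B → ∀ z, z ∈ B ↔ Equiv.swap p q z ∈ B := by
    intro p q hp hq z
    rcases eq_or_ne z p with rfl | h1
    · simp [hp, hq]
    rcases eq_or_ne z q with rfl | h2
    · simp [hp, hq]
    rw [Equiv.swap_apply_of_ne_of_ne h1 h2]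
  have hnotB : ∀ z, z ∉ B → z ≠ a := fun z hz h => hz (h ▸ haB)
  -- everything outside B lies in D
  have hout : ∀ z, z ∉ B → z ∈ D := by
    intro z hz
    rcases eq_or_ne z y with rfl | hzy
    · exact hyD
    have hσ : ∃ σ : Equiv.Perm X, Equiv.Perm.sign σ = 1 ∧ σ a = a ∧ (∀ w, w ∈ B ↔ σ w ∈ B) ∧ σ y = z := by
      by_cases hw : ∃ w, w ∉ B ∧ w ≠ y ∧ w ≠ z
      · obtain ⟨w, hw, hwy, hwz⟩ := hw
        refine ⟨Equiv.swap y z * Equiv.swap z w, ?_, ?_, ?_, ?_⟩
        · simp [Equiv.Perm.sign_swap hzy.symm, Equiv.Perm.sign_swap hwz.symm]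
        · simp [Equiv.swap_apply_of_ne_of_ne, (hnotB _ hz).symm, hya.symm, (hnotB _ hw).symm]
        · intro v; rw [Equiv.Perm.mul_apply]
          exact (swaps z w hz hw v).trans (swaps y z hyB hz _)
        · simp [Equiv.swap_apply_of_ne_of_ne, hzy.symm, hwy.symm]
      · push Not at hw
        have h3 : 3 ≤ B.card := by
          have : (Finset.univ : Finset X) ⊆ B ∪ {y, z} := by
            intro w _
            by_cases hwB : w ∈ B
            · exact Finset.mem_union_left _ hwB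
            · by_cases hwy : w = y
              · simp [hwy]
              · simp [hw w hwB hwy]
          have h1 := (Finset.card_le_card this).trans (Finset.card_union_le _ _)
          rw [Finset.card_univ, hcard, Finset.card_pair hzy.symm] at h1
          omega
        obtain ⟨w, hwB, hw'⟩ : ∃ w ∈ B, w ∉ ({a, x} : Finset X) := by
          by_contra h
          push Not at h
          have := Finset.card_le_card (fun w hw => h w hw : B ⊆ {a, x})
          rw [Finset.card_pair hxa.symm] at this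
          omega
        simp only [Finset.mem_insert, Finset.mem_singleton, not_or] at hw'
        refine ⟨Equiv.swap y z * Equiv.swap x w, ?_, ?_, ?_, ?_⟩
        · simp [Equiv.Perm.sign_swap hzy.symm, Equiv.Perm.sign_swap (Ne.symm hw'.2)]
        · simp [Equiv.swap_apply_of_ne_of_ne, (hnotB _ hz).symm, hya.symm, hxa.symm, Ne.symm hw'.1]
        · intro v; rw [Equiv.Perm.mul_apply]
          exact (swapsB x w hxB hwB v).trans (swaps y z hyB hz _)
        · simp [Equiv.swap_apply_of_ne_of_ne, hxy.symm, show y ≠ w from fun h => hyB (h ▸ hwB)]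
    obtain ⟨σ, h1, h2, h3, h4⟩ := hσ
    obtain ⟨h, hh, hh'⟩ := inH σ h1 h2 h3
    refine (memD _).2 ⟨h * k₀, K.mul_mem (hHK hh) hk₀, ?_⟩
    rw [mul_smul, ← hy, hh', h4]
  have hDuniv : ∀ z, ∃ k ∈ K, k • a = z := by
    intro z
    by_cases hz : z ∈ B
    · obtain ⟨l, hl, h⟩ := (memB _).1 hz; exact ⟨l, hLK hl, h⟩
    · exact (memD _).1 (hout z hz)
  -- divisibility
  have hidx : (H.subgroupOf K).index = n ∧ (H.subgroupOf L).index = B.card := by
    constructor
    · rw [← hcard]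
      haveI : MulAction.IsPretransitive K X := ⟨fun p q => by
        obtain ⟨k, hk, h⟩ := hDuniv p; obtain ⟨k', hk', h'⟩ := hDuniv q
        exact ⟨⟨k', hk'⟩ * ⟨k, hk⟩⁻¹, by
          rw [mul_smul, inv_smul_eq_iff.2 (show p = (⟨k, hk⟩ : K) • a from h.symm)]; exact h'⟩⟩
      have h1 : H.subgroupOf K = MulAction.stabilizer K a := by
        ext k
        rw [MulAction.mem_stabilizer_iff, Subgroup.mem_subgroupOf]
        exact ⟨fun h => (hstab _).2 (hHM h), fun h => hMK ▸ ⟨(hstab _).1 h, k.2⟩⟩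
      rw [h1, MulAction.index_stabilizer_of_transitive, Nat.card_eq_fintype_card]
    · have h1 : H.subgroupOf L = MulAction.stabilizer L a := by
        ext k
        rw [MulAction.mem_stabilizer_iff, Subgroup.mem_subgroupOf]
        exact ⟨fun h => (hstab _).2 (hHM h), fun h => hLM _ k.2 ((hstab _).1 h)⟩
      rw [h1, MulAction.index_stabilizer, ← Set.ncard_coe_finset]
      congr 1
      ext z
      rw [MulAction.mem_orbit_iff, Finset.mem_coe, memB]
      exact ⟨fun ⟨l, h⟩ => ⟨l, l.2, h⟩, fun ⟨l, hl, h⟩ => ⟨⟨l, hl⟩, h⟩⟩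
  have hdvd : B.card ∣ n := by
    have h := Subgroup.relIndex_mul_relIndex H L K hHL hLK
    simp only [Subgroup.relIndex] at h
    rw [hidx.1, hidx.2] at h
    exact Dvd.intro _ h
  obtain ⟨c, hc⟩ := hdvd
  have hB3 : 3 ≤ B.card := by
    rcases Nat.lt_or_ge B.card 3 with h | h
    · obtain ⟨m, hm⟩ := hodd
      rw [show B.card = 2 by omega] at hc
      omega
    · exact h
  have hc3 : 3 ≤ c := by
    rcases Nat.lt_or_ge c 3 with h | h
    · interval_cases c
      · omega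
      · omega
      · obtain ⟨m, hm⟩ := hodd; omega
    · exact h
  have hbig : 3 * B.card ≤ n := by rw [hc, Nat.mul_comm B.card]; exact Nat.mul_le_mul_right _ hc3
  -- a three-cycle breaking a block
  obtain ⟨y₂, hy₂⟩ := third (B ∪ B.image (k₀ • ·)) (by
    have := Finset.card_union_le B (B.image (k₀ • ·))
    have := Finset.card_image_le (s := B) (f := (k₀ • ·))
    omega)
  rw [Finset.mem_union, not_or] at hy₂
  set x₁ := k₀ • x with hx₁
  have hx₁B : x₁ ∉ B := hdis k₀ hk₀ hk₀L x hxB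
  have hx₁y : x₁ ≠ y := fun h => hxa (MulAction.injective k₀ h)
  have hy₂x₁ : y₂ ≠ x₁ := fun h => hy₂.2 (Finset.mem_image.2 ⟨x, hxB, h.symm⟩)
  have hy₂y : y₂ ≠ y := fun h => hy₂.2 (Finset.mem_image.2 ⟨a, haB, h.symm⟩)
  obtain ⟨w, hw⟩ := third (B ∪ {y, x₁, y₂}) (by
    have := Finset.card_union_le B {y, x₁, y₂}
    have := Finset.card_le_three (a := y) (b := x₁) (c := y₂)
    omega)
  simp only [Finset.mem_union, Finset.mem_insert, Finset.mem_singleton, not_or] at hw
  obtain ⟨hwB, hwy, hwx, hwy₂⟩ := hw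
  obtain ⟨h, hh, hh'⟩ := inH (Equiv.swap x₁ y₂ * Equiv.swap y₂ w)
    (by simp [Equiv.Perm.sign_swap hy₂x₁.symm, Equiv.Perm.sign_swap (Ne.symm hwy₂)])
    (by simp [Equiv.swap_apply_of_ne_of_ne, (hnotB _ hx₁B).symm, (hnotB _ hy₂.1).symm, (hnotB _ hwB).symm])
    (fun v => by
      rw [Equiv.Perm.mul_apply]
      exact (swaps y₂ w hy₂.1 hwB v).trans (swaps x₁ y₂ hx₁B hy₂.1 _))
  have e1 : h • y = y := by
    simp [hh', Equiv.swap_apply_of_ne_of_ne, hy₂y.symm, Ne.symm hwy, hx₁y.symm]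
  have e2 : h • x₁ = y₂ := by
    simp [hh', Equiv.swap_apply_of_ne_of_ne, hy₂x₁.symm, Ne.symm hwx]
  have hl : k₀⁻¹ * h * k₀ ∈ H := by
    refine hMK ▸ ⟨(hstab _).1 ?_, K.mul_mem (K.mul_mem (K.inv_mem hk₀) (hHK hh)) hk₀⟩
    rw [mul_smul, mul_smul, ← hy, e1, hy, inv_smul_smul]
  apply hy₂.2
  rw [Finset.mem_image]
  refine ⟨(k₀⁻¹ * h * k₀) • x, ((hHS hl).2 x).1 hxB, ?_⟩
  rw [← mul_smul, show k₀ * (k₀⁻¹ * h * k₀) = h * k₀ by group, mul_smul, ← hx₁, e2]

end Cfsg.Agent.S5885
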