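import Cfsg.Statements.S5890
import Cfsg.Agent.DicksonPSL2.PGLMaximal
import Cfsg.Agent.DicksonPSL2.Coatoms

set_option autoImplicit false
open Cfsg

namespace Cfsg.Agent.S5890

open CfsgLib.DicksonPSL2

/-- Let F be a finite field with q ≥ 4 elements, let L ≤ PGL₂(F) be the image of SL₂(F) (a copy of PSL₂(F), of index gcd(2, q − 1)), and let M be a maximal subgroup of PGL₂(F) that does not contain L. Suppose q ∉ {7, 9, 11} and that q is not a prime congruent to ±11 or ±19 modulo 40. Then M ∩ L is a maximal subgroup of L. (For the excluded q there are maximal subgroups of PGL₂(q) — dihedral groups of order 12 and 16 at q = 7, of order 20 and 16 at q = 9, of order 20 at q = 11, and S₄ at the excluded primes — whose intersection with L is not maximal in L.) -/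
theorem result {F : Type*} [Field F]
    [Fintype F] (h4 : 4 ≤ Fintype.card F) (h7 : Fintype.card F ≠ 7) (h9 : Fintype.card F ≠ 9) (h11 : Fintype.card F ≠ 11)
    (h40 : (Fintype.card F).Prime → Fintype.card F % 40 ∉ ({11, 19, 21, 29} : Finset ℕ))
    (M : Subgroup (Matrix.ProjGenLinGroup (Fin 2) F)) (hM : IsCoatom M)
    (hML : ¬ (Matrix.ProjGenLinGroup.mk.comp Matrix.SpecialLinearGroup.toGL).range ≤ M) :
    IsCoatom ((M ⊓ (Matrix.ProjGenLinGroup.mk.comp Matrix.SpecialLinearGroup.toGL).range).subgroupOf
      (Matrix.ProjGenLinGroup.mk.comp Matrix.SpecialLinearGroup.toGL).range) := by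
  obtain ⟨p, hpc⟩ := CharP.exists F
  haveI : Fact p.Prime := ⟨CharP.char_is_prime F p⟩
  rw [range_mk_toGL] at hML ⊢
  have main : IsCoatom (M.comap toG) →
      IsCoatom ((M ⊓ (toG (F := F)).range).subgroupOf (toG (F := F)).range) := by
    intro h
    let e := MonoidHom.ofInjective (toG_injective (F := F))
    have heq : (M ⊓ (toG (F := F)).range).subgroupOf (toG (F := F)).range =
        e.mapSubgroup (M.comap toG) := by
      ext y
      rw [Subgroup.mem_subgroupOf, Subgroup.mem_inf, MulEquiv.mapSubgroup_apply]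
      change _ ↔ y ∈ Subgroup.map e.toMonoidHom (M.comap toG)
      rw [Subgroup.mem_map_equiv, Subgroup.mem_comap]
      have hy : toG (e.symm y) = (y : Matrix.ProjGenLinGroup (Fin 2) F) :=
        congrArg Subtype.val (e.apply_symm_apply y)
      rw [hy]
      exact and_iff_left y.2
    rw [heq]
    exact e.mapSubgroup.isCoatom_iff _ |>.2 h
  apply main
  rcases Nat.even_or_odd (Fintype.card F) with heven | hodd
  · have htop : (toG (F := F)).range = ⊤ := by
      rw [← Subgroup.index_eq_one, index_range_toG]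
      rcases gcd_two_cases F with ⟨ho, -⟩ | ⟨-, h⟩
      · exact absurd heven (Nat.not_even_iff_odd.2 ho)
      · exact h
    let e : Matrix.ProjectiveSpecialLinearGroup (Fin 2) F ≃* Matrix.ProjGenLinGroup (Fin 2) F :=
      MulEquiv.ofBijective toG ⟨toG_injective, MonoidHom.range_eq_top.1 htop⟩
    have heq : e.mapSubgroup (M.comap toG) = M := by
      rw [MulEquiv.mapSubgroup_apply]
      exact Subgroup.map_comap_eq_self_of_surjective (MonoidHom.range_eq_top.1 htop) M
    exact e.mapSubgroup.isCoatom_iff _ |>.1 (by rw [heq]; exact hM)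
  have hq2 := Nat.odd_iff.1 hodd
  have h5 : 5 ≤ Fintype.card F := by omega
  rcases pgl_maximal_cases p hodd h5 hM hML with ⟨a, h⟩ | ⟨x, hx, -, hH, hk⟩ | ⟨P, hp, h8, hT⟩ |
    ⟨K, iK, iK', ι, w, a, r, hr, hro, hq, hH, -⟩
  · rw [h]
    exact isCoatom_conjS _ isCoatom_BP
  · rw [hH]
    refine isCoatom_normalizer_torus p hodd h5 hx ?_
    have hd : Nat.gcd 2 (Fintype.card F - 1) = 2 := by
      rcases gcd_two_cases F with ⟨-, h, -⟩ | ⟨h, -⟩
      · exact h
      · exact absurd h (Nat.not_even_iff_odd.2 hodd)
    have hc := card_torus hx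
    rw [hd] at hc
    omega
  · rw [hT]
    have hprime : p.Prime := Fact.out
    have h40' := h40 (hp ▸ hprime)
    rw [hp] at h40'
    simp only [Finset.mem_insert, Finset.mem_singleton, not_or] at h40'
    exact isCoatom_tetra p hp (by omega) h8 (by omega) P
  · rw [hH]
    exact isCoatom_conjS _ (isCoatom_range_psiS p hodd ι w hr hro hq)

end Cfsg.Agent.S5890
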