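import Cfsg.Statements.S5891
import Cfsg.Agent.DicksonPSL2.PGLTypes

set_option autoImplicit false
open Cfsg

namespace Cfsg.Agent.S5891

open CfsgLib.DicksonPSL2

/-- Let F be a finite field of odd order q > 3 and characteristic p, and let M be a maximal subgroup of PGL₂(F) not containing the image L of SL₂(F) (a copy of PSL₂(F) of index 2). Then one of the following holds: |M| = q(q − 1) (M is the stabiliser of a point of the projective line); q ≠ 5 and M is dihedral of order 2(q − 1); M is dihedral of order 2(q + 1); q = p ≡ ±3 (mod 8) and M ≅ S₄; or q = q₀^r for an odd prime r and M ≅ PGL₂(F₀) with |F₀| = q₀. -/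
theorem result {F : Type*} [Field F] [Fintype F]
    (hodd : Odd (Fintype.card F)) (h3 : 3 < Fintype.card F) (M : Subgroup (Matrix.ProjGenLinGroup (Fin 2) F)) (hM : IsCoatom M)
    (hML : ¬ (Matrix.ProjGenLinGroup.mk.comp Matrix.SpecialLinearGroup.toGL).range ≤ M) :
    Nat.card M = Fintype.card F * (Fintype.card F - 1) ∨
    (Fintype.card F ≠ 5 ∧ Nonempty (M ≃* DihedralGroup (Fintype.card F - 1))) ∨
    Nonempty (M ≃* DihedralGroup (Fintype.card F + 1)) ∨
    ((Fintype.card F).Prime ∧ (Fintype.card F % 8 = 3 ∨ Fintype.card F % 8 = 5) ∧ Nonempty (M ≃* Equiv.Perm (Fin 4))) ∨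
    (∃ (F₀ : Type) (_ : Field F₀) (_ : Fintype F₀) (r : ℕ), r.Prime ∧ Odd r ∧ Fintype.card F = Fintype.card F₀ ^ r ∧
        Nonempty (M ≃* Matrix.ProjGenLinGroup (Fin 2) F₀)) := by
  obtain ⟨p, hpc⟩ := CharP.exists F
  haveI : Fact p.Prime := ⟨CharP.char_is_prime F p⟩
  have hq2 := Nat.odd_iff.1 hodd
  have h5 : 5 ≤ Fintype.card F := by omega
  rw [range_mk_toGL] at hML
  have h2M := two_mul_card_comap hodd hM hML
  have hd : Nat.gcd 2 (Fintype.card F - 1) = 2 := by
    rcases gcd_two_cases F with ⟨-, h, -⟩ | ⟨h, -⟩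
    · exact h
    · exact absurd h (Nat.not_even_iff_odd.2 hodd)
  rcases pgl_maximal_cases p hodd h5 hM hML with ⟨a, h⟩ | ⟨x, hx, hMeq, hH, hk⟩ | ⟨P, hp, h8, hT⟩ |
    ⟨K, iK, iK', ι, w, a, r, hr, hro, hq, -, e⟩
  · left
    have h1 := card_BP F
    rw [hd] at h1
    rw [h2M, h, card_conjS, h1]
  · have hc := card_torus hx
    rw [hd] at hc
    obtain ⟨e⟩ := dihedral_of_torus p hodd hM hML hx hMeq hH hk (by omega)
    rcases hc with hc | hc <;> rw [hc] at e
    · exact Or.inr (Or.inl ⟨by omega, ⟨e⟩⟩)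
    · exact Or.inr (Or.inr (Or.inl ⟨e⟩))
  · rw [hT, P.card_tetra] at h2M
    obtain ⟨e⟩ := P.nonempty_tetra_equiv
    rcases card_cases_of_alt_four p hodd (M := M) (P.tetra.subtype.comp e.symm.toMonoidHom)
      (Subtype.val_injective.comp e.symm.injective)
      (by rintro _ ⟨z, rfl⟩; rw [hT]; exact (e.symm z).2) with h | ⟨-, -, h⟩ | ⟨h, -⟩ | ⟨b, hb, h⟩
    · omega
    · exact Or.inr (Or.inr (Or.inr (Or.inl ⟨hp ▸ Fact.out, hp ▸ h8, h⟩)))
    · omega
    · rcases cube_value (p := p) Fact.out (by omega) hb with ⟨v, v'⟩ | ⟨v, -⟩ | v <;> omega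
  · exact Or.inr (Or.inr (Or.inr (Or.inr ⟨K, iK, iK', r, hr, hro, hq, e⟩)))

end Cfsg.Agent.S5891
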