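import Cfsg.Statements.S5893
import Cfsg.Agent.DicksonPSL2.Maximal

set_option autoImplicit false
open Cfsg

namespace Cfsg.Agent.S5893

open CfsgLib.DicksonPSL2

/-- Let F be a finite field of even order q ≥ 4 and let M be a maximal subgroup of PSL₂(F) (= SL₂(F) = PGL₂(F)). Then one of the following holds: |M| = q(q − 1) (the stabiliser of a point of the projective line, elementary abelian of order q extended by a cyclic group of order q − 1); M is dihedral of order 2(q − 1); M is dihedral of order 2(q + 1); or q = q₀^r for a prime r with q₀ ≠ 2 and M ≅ PSL₂(F₀) with |F₀| = q₀. -/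
theorem result {F : Type*} [Field F] [Fintype F]
    (heven : Even (Fintype.card F)) (h4 : 4 ≤ Fintype.card F) (M : Subgroup (Matrix.ProjectiveSpecialLinearGroup (Fin 2) F)) (hM : IsCoatom M) :
    Nat.card M = Fintype.card F * (Fintype.card F - 1) ∨
    Nonempty (M ≃* DihedralGroup (Fintype.card F - 1)) ∨
    Nonempty (M ≃* DihedralGroup (Fintype.card F + 1)) ∨
    (∃ (F₀ : Type) (_ : Field F₀) (_ : Fintype F₀) (r : ℕ), r.Prime ∧ Fintype.card F₀ ≠ 2 ∧
        Fintype.card F = Fintype.card F₀ ^ r ∧ Nonempty (M ≃* Matrix.ProjectiveSpecialLinearGroup (Fin 2) F₀)) := by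
  obtain ⟨p, hpc⟩ := CharP.exists F
  obtain ⟨n, hp, hn⟩ := FiniteField.card F p
  obtain rfl : p = 2 := by
    by_contra h
    have h1 := (hp.odd_of_ne_two h).pow (n := n)
    rw [← hn] at h1
    exact Nat.not_even_iff_odd.2 h1 heven
  haveI : Fact (Nat.Prime 2) := ⟨hp⟩
  have hg : Nat.gcd 2 (Fintype.card F - 1) = 1 := by
    rcases gcd_two_cases F with ⟨ho, -⟩ | ⟨-, h⟩
    · exact absurd heven (Nat.not_even_iff_odd.2 ho)
    · exact h
  have torusCase : InTorusNormalizer M → Nonempty (M ≃* DihedralGroup (Fintype.card F - 1)) ∨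
      Nonempty (M ≃* DihedralGroup (Fintype.card F + 1)) := by
    intro h
    obtain ⟨x, hx, -, -, e⟩ := dihedral_of_isCoatom h4 hM h
    rcases card_torus hx with hc | hc <;> rw [hg, one_mul] at hc <;> rw [hc] at e
    exacts [Or.inl e, Or.inr e]
  rcases subgroup_cases_sharp 2 M with h | h | ⟨-, ⟨h, -⟩, -⟩ | ⟨-, ⟨h, -⟩, -⟩ | ⟨-, ⟨h, -⟩, -⟩ | h
  · left
    simpa [hg] using card_of_isCoatom_inBorel hM h
  · exact Or.inr ((torusCase h).imp_right Or.inl)
  · exact absurd rfl h
  · exact absurd rfl h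
  · exact absurd rfl h
  · obtain ⟨K, iK, iK', h | ⟨r, hr, -, hq, e⟩⟩ := h.of_isCoatom hM
    · exact absurd rfl h.1
    by_cases h2 : Fintype.card K = 2
    · have hc : Nat.card M = 6 := by
        have h1 := card_PSL_formula K
        rw [h2] at h1
        rw [Nat.card_congr e.some.toEquiv]
        simpa using h1
      exact Or.inr ((torusCase (inTorusNormalizer_of_card_six hc)).imp_right Or.inl)
    · exact Or.inr (Or.inr (Or.inr ⟨K, iK, iK', r, hr, h2, hq, e⟩))

end Cfsg.Agent.S5893
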