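import Cfsg.Statements.S5904

set_option autoImplicit false
open scoped Pointwise
open Cfsg

namespace Cfsg.Agent.S5904

theorem result {Ω : Type*} [Fintype Ω] [DecidableEq Ω] (hΩ : 2 < Fintype.card Ω)
    (O : Set Ω) (hO : Nat.card O = Nat.card ↥Oᶜ) :
    ¬ IsCoatom (MulAction.stabilizer (Equiv.Perm Ω) O) := by
  classical
  intro hco
  have hcompl : ∀ (g : Equiv.Perm Ω) (s : Set Ω), g • sᶜ = (g • s)ᶜ := fun g s => by
    simp [Set.smul_set_compl]
  let K : Subgroup (Equiv.Perm Ω) :=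
    { carrier := {g | g • O = O ∨ g • O = Oᶜ}
      mul_mem' := by
        intro g h hg hh
        simp only [Set.mem_setOf_eq, mul_smul] at *
        rcases hh with hh | hh <;> rw [hh] <;> rcases hg with hg | hg
        · exact Or.inl hg
        · exact Or.inr hg
        · exact Or.inr (by rw [hcompl, hg])
        · exact Or.inl (by rw [hcompl, hg, compl_compl])
      one_mem' := Or.inl (one_smul _ _)
      inv_mem' := by
        intro g hg
        simp only [Set.mem_setOf_eq] at *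
        rcases hg with hg | hg
        · exact Or.inl (inv_smul_eq_iff.2 hg.symm)
        · exact Or.inr (inv_smul_eq_iff.2 (by rw [hcompl, hg, compl_compl])) }
  haveI : Fintype ↥O := Fintype.ofFinite _
  haveI : Fintype ↥Oᶜ := Fintype.ofFinite _
  rw [Nat.card_eq_fintype_card, Nat.card_eq_fintype_card] at hO
  let e : ↥O ≃ ↥Oᶜ := Fintype.equivOfCardEq hO
  have hsum : Fintype.card ↥O + Fintype.card ↥Oᶜ = Fintype.card Ω := by
    rw [← Fintype.card_sum]; exact Fintype.card_congr (Equiv.Set.sumCompl O)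
  obtain ⟨a, a', ha⟩ := Fintype.one_lt_card_iff.1 (show 1 < Fintype.card ↥O by omega)
  let f : Ω → Ω := fun x => if h : x ∈ O then (e ⟨x, h⟩ : Ω) else (e.symm ⟨x, h⟩ : Ω)
  have hf : ∀ x, f (f x) = x := by
    intro x
    by_cases h : x ∈ O
    · have : (e ⟨x, h⟩ : Ω) ∉ O := (e ⟨x, h⟩).2
      simp [f, h, this]
    · have : (e.symm ⟨x, h⟩ : Ω) ∈ O := (e.symm ⟨x, h⟩).2
      simp [f, h, this]
  let σ : Equiv.Perm Ω := ⟨f, f, hf, hf⟩
  have hmem : ∀ x, x ∈ O ↔ f x ∉ O := by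
    intro x
    by_cases h : x ∈ O
    · have h2 : (e ⟨x, h⟩ : Ω) ∉ O := (e ⟨x, h⟩).2
      simp [f, h, h2]
    · simp [f, h, (e.symm ⟨x, h⟩).2]
  have hσ : σ • O = Oᶜ := by
    ext x
    rw [Set.mem_smul_set_iff_inv_smul_mem, Set.mem_compl_iff]
    show f x ∈ O ↔ x ∉ O
    rw [hmem x, not_not]
  have hlt : MulAction.stabilizer (Equiv.Perm Ω) O < K := by
    refine lt_of_le_of_ne (fun g hg => Or.inl hg) fun h => ?_
    have h1 : σ ∈ MulAction.stabilizer (Equiv.Perm Ω) O := h ▸ (Or.inr hσ : σ ∈ K)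
    rw [MulAction.mem_stabilizer_iff, hσ] at h1
    have h2 : ((a : Ω) ∈ Oᶜ) := h1.symm ▸ a.2
    exact h2 a.2
  have htop := hco.2 K hlt
  set b := e a
  have hs : Equiv.swap (a : Ω) b ∈ K := htop ▸ Subgroup.mem_top _
  have ha' : (a' : Ω) ∈ Equiv.swap (a : Ω) b • O := by
    rw [Set.mem_smul_set_iff_inv_smul_mem]
    show Equiv.swap (a : Ω) b (a' : Ω) ∈ O
    rw [Equiv.swap_apply_of_ne_of_ne (fun h => ha (Subtype.ext h).symm) (fun h : (a' : Ω) = b => (show (b : Ω) ∉ O from b.2) (h ▸ a'.2))]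
    exact a'.2
  have ha'' : (a : Ω) ∉ Equiv.swap (a : Ω) b • O := by
    rw [Set.mem_smul_set_iff_inv_smul_mem]
    show Equiv.swap (a : Ω) b (a : Ω) ∉ O
    rw [Equiv.swap_apply_left]
    exact b.2
  rcases hs with h | h
  · exact ha'' (h.symm ▸ a.2)
  · exact (h ▸ ha' : (a' : Ω) ∈ Oᶜ) a'.2

end Cfsg.Agent.S5904
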