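import Cfsg.Statements.S5894
import Cfsg.Agent.S5904

set_option autoImplicit false
open Cfsg

namespace Cfsg.Agent.S5894

open MulAction
open scoped Pointwise

theorem result (m : ℕ) (hm : 2 ≤ m) :
    ∃ M H K : Subgroup (Equiv.Perm (Fin (2 * m))), IsCoatom M ∧ M.index = 2 * m ∧ H ≤ M ∧ IsCoatom (H.subgroupOf M) ∧
      IsCoatom K ∧ H ≤ K ∧ ¬ IsCoatom (H.subgroupOf K) := by
  classical
  let a : Fin (2 * m) := ⟨0, by omega⟩
  let A : Set (Fin (2 * m)) := {x | x.1 < m}
  have hA : A.ncard = m := by
    rw [← Nat.card_coe_set_eq]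
    rw [Nat.card_congr (⟨fun x => ⟨x.1.1, x.2⟩, fun i => ⟨⟨i.1, by omega⟩, i.2⟩,
      fun x => rfl, fun i => rfl⟩ : ↥A ≃ Fin m)]
    exact Nat.card_fin m
  have haA : a ∈ A := show 0 < m by omega
  set M := MulAction.stabilizer (Equiv.Perm (Fin (2 * m))) a with hMdef
  set SA := MulAction.stabilizer (Equiv.Perm (Fin (2 * m))) A with hSA
  haveI : Nontrivial (Fin (2 * m)) := Fin.nontrivial_iff_two_le.2 (by omega)
  have hMco : IsCoatom M := by
    rw [hMdef]
    have := Equiv.Perm.isCoatom_stabilizer (s := ({a} : Set (Fin (2 * m))))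
      (Set.singleton_nonempty a) (by
        obtain ⟨b, hb⟩ := exists_ne a
        exact ⟨b, by simpa using hb⟩) (by simp; omega)
    rwa [MulAction.stabilizer_singleton] at this
  have hSAnot : ¬ IsCoatom SA := by
    apply Cfsg.Agent.S5904.result
    · simp; omega
    · rw [Nat.card_coe_set_eq, Nat.card_coe_set_eq]
      have := Set.ncard_add_ncard_compl A
      simp [hA] at this ⊢
      omega
  have hswap : ∀ {x y : Fin (2 * m)} (s : Set (Fin (2 * m))), x ∈ s → y ∈ s →
      Equiv.swap x y ∈ MulAction.stabilizer (Equiv.Perm (Fin (2 * m))) s := by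
    intro x y s hx hy
    rw [MulAction.mem_stabilizer_set]
    intro z
    rcases eq_or_ne z x with rfl | h1
    · simp [hx, hy]
    rcases eq_or_ne z y with rfl | h2
    · simp [hx, hy]
    simp [Equiv.swap_apply_of_ne_of_ne h1 h2]
  let b : Fin (2 * m) := ⟨1, by omega⟩
  have hba : b ≠ a := by simp [a, b, Fin.ext_iff]
  have hSAtop : SA ≠ ⊤ := by
    intro h
    let c : Fin (2 * m) := ⟨m, by omega⟩
    have h1 := (h ▸ Subgroup.mem_top (Equiv.swap a c) : Equiv.swap a c ∈ SA)
    rw [hSA, MulAction.mem_stabilizer_set] at h1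
    have h2 := (h1 a).2 haA
    simp [A, c] at h2
  obtain ⟨K, hK, hle⟩ := (eq_top_or_exists_le_coatom SA).resolve_left hSAtop
  refine ⟨M, M ⊓ SA, K, hMco, ?_, inf_le_left, ?_, hK, le_trans inf_le_right hle, ?_⟩
  · rw [hMdef, MulAction.index_stabilizer_of_transitive, Nat.card_fin]
  · let p : Fin (2 * m) → Prop := fun x => x ≠ a
    let f : Equiv.Perm (Subtype p) →* M :=
      (Equiv.Perm.ofSubtype).codRestrict M (fun g => by
        rw [hMdef, MulAction.mem_stabilizer_iff]
        exact g.ofSubtype_apply_of_not_mem (by simp [p]))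
    have hf : Function.Bijective f := by
      constructor
      · intro x y h; exact Equiv.Perm.ofSubtype_injective (congrArg Subtype.val h)
      · intro g
        have hg : g.1 a = a := g.2
        refine ⟨g.1.subtypePerm (p := p) (fun x => ?_), Subtype.ext ?_⟩
        · show g.1 x ≠ a ↔ x ≠ a
          conv_lhs => rw [← hg]
          exact g.1.injective.ne_iff
        · apply Equiv.Perm.ofSubtype_subtypePerm
          intro x hx h
          apply hx
          rw [show x = a from h, hg]
    let e : Equiv.Perm (Subtype p) ≃* M := MulEquiv.ofBijective f hf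
    have hee : ∀ g, ((e g : M) : Equiv.Perm (Fin (2 * m))) = Equiv.Perm.ofSubtype g := fun g => rfl
    let s : Set (Subtype p) := {x | x.1 ∈ A}
    have hco : IsCoatom (MulAction.stabilizer (Equiv.Perm (Subtype p)) s) := by
      refine Equiv.Perm.isCoatom_stabilizer ⟨⟨b, hba⟩, show 1 < m by omega⟩
        ⟨⟨⟨m, by omega⟩, by simp [p, a, Fin.ext_iff]; omega⟩, by simp [s, A]⟩ ?_
      have h1 : s.ncard = m - 1 := by
        have : Subtype.val '' s = A \ {a} := by
          ext x; constructor
          · rintro ⟨y, hy, rfl⟩; exact ⟨hy, y.2⟩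
          · rintro ⟨hx, hxa⟩; exact ⟨⟨x, hxa⟩, hx, rfl⟩
        rw [← Set.ncard_image_of_injective s Subtype.val_injective, this,
          Set.ncard_sdiff_singleton_of_mem haA, hA]
      have h2 : Nat.card (Subtype p) = 2 * m - 1 := by
        simp [p, Nat.card_eq_fintype_card, Fintype.card_subtype_compl]
      omega
    have heq : (M ⊓ SA).subgroupOf M = e.mapSubgroup (MulAction.stabilizer (Equiv.Perm (Subtype p)) s) := by
      rw [Subgroup.inf_subgroupOf_left]
      ext g
      obtain ⟨g, rfl⟩ := e.surjective g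
      rw [Subgroup.mem_subgroupOf, hee]
      constructor
      · intro h
        refine ⟨g, ?_, rfl⟩
        rw [SetLike.mem_coe, MulAction.mem_stabilizer_set]
        intro x
        have := (MulAction.mem_stabilizer_set.1 h) x.1
        rwa [Equiv.Perm.smul_def, Equiv.Perm.ofSubtype_apply_coe] at this
      · rintro ⟨g', hg', he⟩
        obtain rfl := e.injective he
        rw [SetLike.mem_coe, MulAction.mem_stabilizer_set] at hg'
        rw [hSA, MulAction.mem_stabilizer_set]
        intro x
        rw [Equiv.Perm.smul_def]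
        by_cases hx : p x
        · have := hg' ⟨x, hx⟩
          rw [Equiv.Perm.ofSubtype_apply_of_mem _ hx]
          exact this
        · rw [Equiv.Perm.ofSubtype_apply_of_not_mem _ hx]
    rw [heq]
    exact (OrderIso.isCoatom_iff _ _).2 hco
  · intro hco
    have hlt : (M ⊓ SA).subgroupOf K < SA.subgroupOf K := by
      refine lt_of_le_not_ge (fun x hx => hx.2) fun h => ?_
      have hs : Equiv.swap a b ∈ SA := hswap A haA (show 1 < m by omega)
      have := (h (show (⟨_, hle hs⟩ : K) ∈ SA.subgroupOf K from hs)).1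
      have : Equiv.swap a b a = a := this
      rw [Equiv.swap_apply_left] at this
      exact hba this
    have h2 := hco.2 _ hlt
    rw [Subgroup.subgroupOf_eq_top] at h2
    exact hSAnot ((le_antisymm hle h2) ▸ hK)

end Cfsg.Agent.S5894
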