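import Cfsg.Statements.S5895

set_option autoImplicit false
open Cfsg

namespace Cfsg.Agent.S5895

variable {k V : Type*} [Field k] [AddCommGroup V] [Module k V]

/-- the stabiliser of a subspace -/
def stab (W : Submodule k V) : Subgroup (V ≃ₗ[k] V) where
  carrier := {f | ∀ x, x ∈ W ↔ f x ∈ W}
  mul_mem' := fun {f g} hf hg x => (hg x).trans (hf (g x))
  one_mem' := fun x => Iff.rfl
  inv_mem' := fun {f} hf x => by
    have := hf (f.symm x)
    rw [LinearEquiv.apply_symm_apply] at this
    exact this.symm

lemma mem_stab {W : Submodule k V} {f : V ≃ₗ[k] V} : f ∈ stab W ↔ ∀ x, x ∈ W ↔ f x ∈ W := Iff.rfl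

lemma exists_map_pair [Module.Finite k V] {e v w : V} (hv : LinearIndependent k ![e, v])
    (hw : LinearIndependent k ![e, w]) : ∃ f : V ≃ₗ[k] V, f e = e ∧ f v = w := by
  obtain ⟨C, hC⟩ := Submodule.exists_isCompl (Submodule.span k (Set.range ![e, v]))
  obtain ⟨D, hD⟩ := Submodule.exists_isCompl (Submodule.span k (Set.range ![e, w]))
  let bv := Module.Basis.span hv
  let bw := Module.Basis.span hw
  let f₁ := bv.equiv bw (Equiv.refl _)
  have hfr : Module.finrank k C = Module.finrank k D := by
    have h1 := Submodule.finrank_add_eq_of_isCompl hC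
    have h2 := Submodule.finrank_add_eq_of_isCompl hD
    have h3 := f₁.finrank_eq
    omega
  let f₂ := LinearEquiv.ofFinrankEq C D hfr
  let f : V ≃ₗ[k] V := (Submodule.prodEquivOfIsCompl _ _ hC).symm ≪≫ₗ (f₁.prodCongr f₂) ≪≫ₗ
    (Submodule.prodEquivOfIsCompl _ _ hD)
  have key : ∀ i, f (![e, v] i) = ![e, w] i := by
    intro i
    have h1 : ((bv i : Submodule.span k (Set.range ![e, v])) : V) = ![e, v] i := by
      simp [bv, Module.Basis.span_apply]
    rw [← h1]
    simp only [f, LinearEquiv.trans_apply, Submodule.prodEquivOfIsCompl_symm_apply_left]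
    simp [f₁, bw, Module.Basis.span_apply]
  exact ⟨f, key 0, key 1⟩

lemma isCoatom_stab_line [Module.Finite k V] (hd : 2 ≤ Module.finrank k V) {e : V} (he : e ≠ 0) :
    IsCoatom (stab (Submodule.span k {e})) := by
  classical
  set W := Submodule.span k {e} with hW
  have heW : e ∈ W := Submodule.mem_span_singleton_self e
  have li : ∀ {v}, v ∉ W → LinearIndependent k ![e, v] := by
    intro v hv
    rw [LinearIndependent.pair_iff' he]
    intro a h
    exact hv (h ▸ W.smul_mem a heW)
  have hstab : ∀ f : V ≃ₗ[k] V, f e = e → f ∈ stab W := by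
    intro f hf x
    rw [hW, Submodule.mem_span_singleton, Submodule.mem_span_singleton]
    refine exists_congr fun a => ?_
    constructor
    · intro h; rw [← h, map_smul, hf]
    · intro h; apply f.injective; rw [map_smul, hf, h]
  have hto : ∀ x, x ≠ 0 → x ∈ W → ∃ a : k, a ≠ 0 ∧ x = a • e := by
    intro x hx0 hx
    obtain ⟨a, rfl⟩ := Submodule.mem_span_singleton.1 hx
    exact ⟨a, fun h => hx0 (by rw [h, zero_smul]), rfl⟩
  obtain ⟨u, hu⟩ : ∃ u, u ∉ W := by
    by_contra h
    push Not at h
    have : W = ⊤ := Submodule.eq_top_iff'.2 h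
    have h2 := finrank_span_singleton (K := k) he
    rw [← hW, this, finrank_top] at h2
    omega
  refine ⟨fun h => ?_, fun X hX => ?_⟩
  · obtain ⟨f, hf⟩ : ∃ f : V ≃ₗ[k] V, f e ∉ W := by
      have hu' : LinearIndependent k ![u, e] := by
        rw [LinearIndependent.pair_symm_iff]; exact li hu
      have hu'' : LinearIndependent k ![u, e + u] := by
        rw [LinearIndependent.pair_iff] at hu' ⊢
        intro s t hst
        have := hu' (s + t) t (by rw [← hst]; module)
        exact ⟨by linear_combination this.1 - this.2, this.2⟩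
      obtain ⟨f, -, hf⟩ := exists_map_pair hu' hu''
      exact ⟨f, fun h => hu (by rw [hf] at h; simpa using W.sub_mem h heW)⟩
    exact hf ((mem_stab.1 (h ▸ Subgroup.mem_top f) e).1 heW)
  · rw [eq_top_iff]
    intro g _
    obtain ⟨x₀, hx₀X, hx₀⟩ := SetLike.exists_of_lt hX
    have hmove : x₀ e ∉ W := by
      intro h
      obtain ⟨a, ha, hxa⟩ := hto _ (by simpa using he) h
      apply hx₀
      intro y
      rw [hW, Submodule.mem_span_singleton, Submodule.mem_span_singleton]
      constructor
      · rintro ⟨c, rfl⟩; exact ⟨c * a, by rw [map_smul, hxa, smul_smul]⟩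
      · rintro ⟨c, hc⟩
        refine ⟨c * a⁻¹, x₀.injective ?_⟩
        rw [map_smul, hxa, smul_smul, mul_assoc, inv_mul_cancel₀ ha, mul_one, hc]
    have hbring : ∀ v, v ≠ 0 → ∃ f ∈ X, f v ∈ W := by
      intro v hv
      by_cases hvW : v ∈ W
      · exact ⟨1, X.one_mem, hvW⟩
      · obtain ⟨f, hf1, hf2⟩ := exists_map_pair (li hvW) (li hmove)
        refine ⟨x₀⁻¹ * f, X.mul_mem (X.inv_mem hx₀X) (hX.le (hstab f hf1)), ?_⟩
        show x₀.symm (f v) ∈ W
        rw [hf2, LinearEquiv.symm_apply_apply]
        exact heW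
    obtain ⟨f, hfX, hf⟩ := hbring (g e) (by simpa using he)
    obtain ⟨a, ha, hfa⟩ := hto _ (by simpa using he) hf
    have : f * g ∈ stab W := by
      intro y
      rw [hW, Submodule.mem_span_singleton, Submodule.mem_span_singleton]
      show _ ↔ ∃ c, c • e = f (g y)
      constructor
      · rintro ⟨c, rfl⟩; exact ⟨c * a, by rw [map_smul, map_smul, hfa, smul_smul]⟩
      · rintro ⟨c, hc⟩
        refine ⟨c * a⁻¹, g.injective (f.injective ?_)⟩
        rw [map_smul, map_smul, hfa, smul_smul, mul_assoc, inv_mul_cancel₀ ha, mul_one, hc]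
    have h2 := X.mul_mem (X.inv_mem hfX) (hX.le this)
    rwa [inv_mul_cancel_left] at h2

theorem result (p d : ℕ) (hp : p.Prime)
    (hd : 2 ≤ d) :
    ∃ (G : Type) (_ : Group G) (_ : Finite G) (M H K : Subgroup G), IsCoatom M ∧ M.index = p ^ d ∧ H ≤ M ∧
      IsCoatom (H.subgroupOf M) ∧ IsCoatom K ∧ H ≤ K ∧ ¬ IsCoatom (H.subgroupOf K) := by
  classical
  haveI : Fact p.Prime := ⟨hp⟩
  let k := ZMod p
  let V := Fin d → k
  let G := V ≃ᵃ[k] V
  haveI : Finite G := Finite.of_injective (fun f : G => (f : V → V)) DFunLike.coe_injective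
  let i : Fin d := ⟨0, by omega⟩
  let e : V := Pi.single i 1
  have he : e ≠ 0 := by
    intro h
    have h2 := congrFun h i
    simp only [e, Pi.single_eq_same] at h2
    exact one_ne_zero (h2.trans rfl)
  set W := Submodule.span k {e}
  have heW : e ∈ W := Submodule.mem_span_singleton_self e
  have hfin : Module.finrank k V = d := by simp [V]
  have hcoW := isCoatom_stab_line (k := k) (V := V) (by omega) he
  let lin : G →* (V ≃ₗ[k] V) := AffineEquiv.linearHom
  have hlin_surj : Function.Surjective lin := fun f => ⟨f.toAffineEquiv, by ext x; rfl⟩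
  let M : Subgroup G :=
    { carrier := {g | g 0 = 0}
      mul_mem' := fun {g h} hg hh => by show g (h 0) = 0; rw [hh, hg]
      one_mem' := rfl
      inv_mem' := fun {g} hg => by
        show g.symm 0 = 0
        conv_lhs => rw [← (hg : g 0 = 0)]
        exact g.symm_apply_apply 0 }
  have hM : ∀ g, g ∈ M ↔ g 0 = 0 := fun g => Iff.rfl
  have happ : ∀ (g : G) (x : V), g x = lin g x + g 0 := by
    intro g x
    have := g.map_vadd 0 x
    simp at this
    exact this
  let T : V → G := fun v => AffineEquiv.constVAdd k V v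
  have hT : ∀ v x, T v x = v + x := fun v x => rfl
  have hTlin : ∀ v, lin (T v) = 1 := fun v => by ext x; rfl
  have hlinM : ∀ f : V ≃ₗ[k] V, f.toAffineEquiv ∈ M := fun f => (hM _).2 (map_zero f)
  have hMco : IsCoatom M := by
    refine ⟨fun h => ?_, fun X hX => ?_⟩
    · have := (hM _).1 (h ▸ Subgroup.mem_top (T e))
      rw [hT, add_zero] at this
      exact he this
    · obtain ⟨x, hxX, hx⟩ := SetLike.exists_of_lt hX
      rw [hM] at hx
      have hTe : ∀ v, v ≠ 0 → ∃ g ∈ X, g 0 = v := by
        intro v hv
        obtain ⟨f, hf⟩ : ∃ f : V ≃ₗ[k] V, f (x 0) = v := by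
          obtain ⟨C, hC⟩ := Submodule.exists_isCompl (Submodule.span k {x 0})
          obtain ⟨D, hD⟩ := Submodule.exists_isCompl (Submodule.span k {v})
          let f₁ := (LinearEquiv.toSpanNonzeroSingleton k V _ hx).symm ≪≫ₗ
            (LinearEquiv.toSpanNonzeroSingleton k V _ hv)
          have hfr : Module.finrank k C = Module.finrank k D := by
            have h1 := Submodule.finrank_add_eq_of_isCompl hC
            have h2 := Submodule.finrank_add_eq_of_isCompl hD
            have h3 := f₁.finrank_eq
            omega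
          let f : V ≃ₗ[k] V := (Submodule.prodEquivOfIsCompl _ _ hC).symm ≪≫ₗ
            (f₁.prodCongr (LinearEquiv.ofFinrankEq C D hfr)) ≪≫ₗ (Submodule.prodEquivOfIsCompl _ _ hD)
          refine ⟨f, ?_⟩
          have hmem : x 0 ∈ Submodule.span k {x 0} := Submodule.mem_span_singleton_self _
          have e1 : (LinearEquiv.toSpanNonzeroSingleton k V (x 0) hx).symm ⟨x 0, hmem⟩ = 1 := by
            rw [LinearEquiv.symm_apply_eq]
            exact (LinearEquiv.toSpanNonzeroSingleton_one k V (x 0) hx).symm
          show f ((⟨x 0, hmem⟩ : Submodule.span k {x 0}) : V) = v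
          show (Submodule.prodEquivOfIsCompl _ _ hD) ((f₁.prodCongr (LinearEquiv.ofFinrankEq C D hfr))
            ((Submodule.prodEquivOfIsCompl _ _ hC).symm _)) = v
          rw [Submodule.prodEquivOfIsCompl_symm_apply_left]
          simp [f₁, e1]
        exact ⟨f.toAffineEquiv * x, X.mul_mem (hX.le (hlinM f)) hxX, hf⟩
      rw [eq_top_iff]
      intro g _
      by_cases hg : g 0 = 0
      · exact hX.le hg
      · obtain ⟨y, hy, hy0⟩ := hTe _ hg
        have : y⁻¹ * g ∈ M := (hM _).2 (by
          show y.symm (g 0) = 0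
          rw [← hy0, AffineEquiv.symm_apply_apply])
        have h2 := X.mul_mem hy (hX.le this)
        rwa [mul_inv_cancel_left] at h2
  have hindex : M.index = p ^ d := by
    letI : MulAction G V := { smul := fun g x => g x, one_smul := fun _ => rfl, mul_smul := fun _ _ _ => rfl }
    haveI : MulAction.IsPretransitive G V := ⟨fun a b => ⟨T (b - a), by
      show T (b - a) a = b
      rw [hT, sub_add_cancel]⟩⟩
    have : M = MulAction.stabilizer G (0 : V) := by ext g; rfl
    rw [this, MulAction.index_stabilizer_of_transitive]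
    simp [V, k, Nat.card_eq_fintype_card]
  let K : Subgroup G := (stab W).comap lin
  have hKco : IsCoatom K := Subgroup.isCoatom_comap_of_surjective hlin_surj hcoW
  let H : Subgroup G := M ⊓ K
  refine ⟨G, inferInstance, inferInstance, M, H, K, hMco, hindex, inf_le_left, ?_, hKco, inf_le_right, ?_⟩
  · have hs : Function.Surjective (lin.comp M.subtype) := fun f =>
      ⟨⟨f.toAffineEquiv, hlinM f⟩, by ext x; rfl⟩
    have : H.subgroupOf M = (stab W).comap (lin.comp M.subtype) := by
      ext g
      exact ⟨fun h => h.2, fun h => ⟨g.2, h⟩⟩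
    rw [this]
    exact Subgroup.isCoatom_comap_of_surjective hs hcoW
  · intro hco
    let L : Subgroup K :=
      { carrier := {g | (g : G) 0 ∈ W}
        mul_mem' := fun {g h} hg hh => by
          show (g : G) ((h : G) 0) ∈ W
          rw [happ]
          exact W.add_mem ((g.2 _).1 hh) hg
        one_mem' := W.zero_mem
        inv_mem' := fun {g} hg => by
          show (g : G).symm 0 ∈ W
          have h1 := happ g.1 ((g : G).symm 0)
          rw [AffineEquiv.apply_symm_apply] at h1
          rw [g.2]
          rw [eq_neg_of_add_eq_zero_left h1.symm]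
          exact W.neg_mem hg }
    have hTK : ∀ v, T v ∈ K := fun v => by
      show lin (T v) ∈ stab W
      rw [hTlin]; exact Subgroup.one_mem _
    have hlt : H.subgroupOf K < L := by
      refine lt_of_le_not_ge (fun g hg => ?_) fun h => ?_
      · show (g : G) 0 ∈ W
        have h3 : (g : G) 0 = 0 := hg.1
        rw [h3]; exact W.zero_mem
      · have h1 := (h (show (⟨T e, hTK e⟩ : K) ∈ L from (by show T e 0 ∈ W; rw [hT, add_zero]; exact heW))).1
        have h2 := (hM _).1 h1
        change T e 0 = 0 at h2
        rw [hT, add_zero] at h2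
        exact he h2
    have h2 := hco.2 L hlt
    let j : Fin d := ⟨1, by omega⟩
    have hu : (Pi.single j 1 : V) ∈ W := by
      have : (⟨T (Pi.single j 1), hTK _⟩ : K) ∈ L := h2 ▸ Subgroup.mem_top _
      have h3 : T (Pi.single j 1) 0 ∈ W := this
      rwa [hT, add_zero] at h3
    obtain ⟨c, hc⟩ := Submodule.mem_span_singleton.1 hu
    have := congrFun hc j
    simp [e, i, j, Pi.single_apply] at this

end Cfsg.Agent.S5895
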