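import Cfsg.Statements.S5896
import Cfsg.Agent.Characters.Burnside

set_option autoImplicit false
open Cfsg

namespace Cfsg.Agent.S5896

open RegularWreathProduct
open scoped commutatorElement

variable {S Q : Type} [Group S] [Group Q]

/-- evaluation at the trivial coordinate on the base group -/
def ev (B : Subgroup (S ≀ᵣ Q)) (hB : B ≤ (rightHom (D := S) (Q := Q)).ker) : B →* S where
  toFun b := (b : S ≀ᵣ Q).left 1
  map_one' := rfl
  map_mul' a b := by
    have h : (a : S ≀ᵣ Q).right = 1 := hB a.2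
    show ((a : S ≀ᵣ Q) * (b : S ≀ᵣ Q)).left 1 = _
    simp [h]

lemma comm_left [DecidableEq Q] {σ : Q} (hσ : σ ≠ 1) (s : S) :
    (⁅(inl σ : S ≀ᵣ Q), (⟨Pi.mulSingle σ⁻¹ s, 1⟩ : S ≀ᵣ Q)⁆).left 1 = s := by
  simp [commutatorElement_def, hσ, Ne.symm (inv_ne_one.2 hσ)]

lemma comm_mem_ker (σ : Q) (f : Q → S) :
    ⁅(inl σ : S ≀ᵣ Q), (⟨f, 1⟩ : S ≀ᵣ Q)⁆ ∈ (rightHom (D := S) (Q := Q)).ker := by
  rw [MonoidHom.mem_ker, map_commutatorElement]
  simp [commutatorElement_def]

lemma pi_solvable [Group.IsSolvable S] : Group.IsSolvable (Q → S) := by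
  obtain ⟨k, hk⟩ := (Group.isSolvable_def S).1 inferInstance
  refine (Group.isSolvable_def _).2 ⟨k, (Subgroup.eq_bot_iff_forall _).2 fun x hx => funext fun i => ?_⟩
  have := map_derivedSeries_le_derivedSeries (Pi.evalMonoidHom (fun _ : Q => S) i) k
    (Subgroup.mem_map_of_mem _ hx)
  rwa [hk, Subgroup.mem_bot] at this

lemma base_solvable [Group.IsSolvable S] : Group.IsSolvable (rightHom (D := S) (Q := Q)).ker := by
  haveI := pi_solvable (S := S) (Q := Q)
  let f : (rightHom (D := S) (Q := Q)).ker →* (Q → S) :=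
    { toFun := fun b => (b : S ≀ᵣ Q).left
      map_one' := rfl
      map_mul' := fun a b => by
        have h : (a : S ≀ᵣ Q).right = 1 := a.2
        show ((a : S ≀ᵣ Q) * (b : S ≀ᵣ Q)).left = _
        simp [h] }
  have hf : Function.Injective f := fun a b h => by
    apply Subtype.ext
    exact RegularWreathProduct.ext h ((show (a : S ≀ᵣ Q).right = 1 from a.2).trans
      (show (b : S ≀ᵣ Q).right = 1 from b.2).symm)
  exact solvable_of_solvable_injective hf

lemma derived_shift {W : Type} [Group W] (B : Subgroup W) (hB : B ≤ derivedSeries W 1) (k : ℕ) :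
    (derivedSeries B k).map B.subtype ≤ derivedSeries W (k + 1) := by
  induction k with
  | zero => exact le_trans (Subgroup.map_subtype_le _) hB
  | succ k ih =>
    rw [derivedSeries_succ, derivedSeries_succ, Subgroup.map_commutator]
    exact Subgroup.commutator_mono ih ih

lemma exists_solvable (d : ℕ) : ∃ (S : Type) (_ : Group S) (_ : Finite S), Group.IsSolvable S ∧
    derivedSeries S d ≠ ⊥ := by
  induction d with
  | zero =>
    refine ⟨Multiplicative (ZMod 2), inferInstance, inferInstance, inferInstance, ?_⟩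
    rw [derivedSeries_zero]
    exact top_ne_bot
  | succ d ih =>
    obtain ⟨S, _, _, hS, hd⟩ := ih
    let C := Multiplicative (ZMod 2)
    haveI := hS
    haveI : Group.IsSolvable (rightHom (D := S) (Q := C)).ker := base_solvable
    haveI : Group.IsSolvable (S ≀ᵣ C) :=
      solvable_of_ker_le_range (rightHom (D := S) (Q := C)).ker.subtype (rightHom (D := S) (Q := C))
        (by rw [Subgroup.range_subtype])
    refine ⟨S ≀ᵣ C, inferInstance, inferInstance, inferInstance, fun h => hd ?_⟩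
    let B : Subgroup (S ≀ᵣ C) := derivedSeries _ 1 ⊓ (rightHom (D := S) (Q := C)).ker
    have hs : Function.Surjective (ev B inf_le_right) := fun s => by
      classical
      obtain ⟨σ, hσ⟩ := exists_ne (1 : C)
      refine ⟨⟨⁅(inl σ : S ≀ᵣ C), (⟨Pi.mulSingle σ⁻¹ s, 1⟩ : S ≀ᵣ C)⁆, ?_, comm_mem_ker _ _⟩, ?_⟩
      · exact Subgroup.commutator_mem_commutator (Subgroup.mem_top _) (Subgroup.mem_top _)
      · simp only [ev, MonoidHom.coe_mk, OneHom.coe_mk]
        exact comm_left hσ s
    rw [← map_derivedSeries_eq hs d]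
    have h2 := derived_shift B inf_le_left d
    rw [h, le_bot_iff, Subgroup.map_eq_bot_iff_of_injective _ B.subtype_injective] at h2
    rw [h2, Subgroup.map_bot]

lemma coatom_solvable (Q₀ : Subgroup (alternatingGroup (Fin 5))) (h : Q₀ ≠ ⊤) :
    Group.IsSolvable Q₀ := by
  haveI : IsSimpleGroup (alternatingGroup (Fin 5)) := alternatingGroup.isSimpleGroup (by simp)
  have hc : Nat.card (alternatingGroup (Fin 5)) = 60 := by
    rw [nat_card_alternatingGroup]; simp [Nat.factorial]
  have h1 := Q₀.card_mul_index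
  rw [hc] at h1
  have hd : Nat.card Q₀ ∣ 60 := Dvd.intro _ h1
  have h2 : Q₀.index ≠ 2 := by
    intro hi
    rcases (Subgroup.normal_of_index_eq_two hi).eq_bot_or_eq_top with h3 | h3
    · rw [h3, Subgroup.index_bot, hc] at hi; omega
    · exact h h3
  have h3 : Q₀.index ≠ 1 := fun hi => h (Subgroup.index_eq_one.1 hi)
  have h30 : Nat.card Q₀ ≠ 30 ∧ Nat.card Q₀ ≠ 60 := by constructor <;> intro he <;> rw [he] at h1 <;> omega
  have key : ∀ m ∈ Nat.divisors 60, m ≠ 30 → m ≠ 60 → m ∣ 2 ^ 2 * 3 ^ 1 ∨ m ∣ 2 ^ 2 * 5 ^ 1 ∨ m ∣ 3 ^ 1 * 5 ^ 1 := by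
    decide
  haveI : Fact (Nat.Prime 2) := ⟨Nat.prime_two⟩
  haveI : Fact (Nat.Prime 3) := ⟨Nat.prime_three⟩
  haveI : Fact (Nat.Prime 5) := ⟨by norm_num⟩
  rcases key _ (Nat.mem_divisors.2 ⟨hd, by norm_num⟩) h30.1 h30.2 with h4 | h4 | h4 <;>
    exact CfsgLib.Characters.isSolvable_of_card_eq_primePow_mul _ _ _ _ (by norm_num) (by norm_num) h4

theorem result (d : ℕ) :
    ∃ (G : Type) (_ : Group G) (_ : Finite G) (H : Subgroup G), commutator G = ⊤ ∧ IsCoatom H ∧ Group.IsSolvable H ∧
      derivedSeries H d ≠ ⊥ := by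
  classical
  obtain ⟨S, _, _, hS, hd⟩ := exists_solvable d
  haveI := hS
  let A := alternatingGroup (Fin 5)
  let π := (rightHom (D := S) (Q := A))
  let G : Subgroup (S ≀ᵣ A) := Subgroup.normalClosure ((inl (D := S) (Q := A)).range : Set (S ≀ᵣ A))
  have hG : (inl (D := S) (Q := A)).range ≤ G := Subgroup.subset_normalClosure
  have hperfA : ⁅(⊤ : Subgroup A), (⊤ : Subgroup A)⁆ = ⊤ := commutator_alternatingGroup_eq_top (by simp)
  have hperf : commutator G = ⊤ := by
    have h1 : G ≤ ⁅G, G⁆ := by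
      refine Subgroup.normalClosure_le_normal ?_
      intro x hx
      have : (inl (D := S) (Q := A)).range = ⁅(inl (D := S) (Q := A)).range, (inl (D := S) (Q := A)).range⁆ := by
        rw [MonoidHom.range_eq_map, ← Subgroup.map_commutator, hperfA]
      exact Subgroup.commutator_mono hG hG (this ▸ hx)
    apply Subgroup.map_injective G.subtype_injective
    rw [Subgroup.map_subtype_commutator, ← MonoidHom.range_eq_map, Subgroup.range_subtype]
    exact le_antisymm (Subgroup.commutator_le_right G G) h1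
  obtain ⟨Q₀, hQ₀, -⟩ : ∃ Q₀ : Subgroup A, IsCoatom Q₀ ∧ ⊥ ≤ Q₀ := by
    refine (eq_top_or_exists_le_coatom (⊥ : Subgroup A)).resolve_left ?_
    haveI : IsSimpleGroup A := alternatingGroup.isSimpleGroup (by simp)
    exact bot_ne_top
  haveI := coatom_solvable Q₀ hQ₀.1
  have hsurj : Function.Surjective (π.comp G.subtype) := fun q =>
    ⟨⟨inl q, hG ⟨q, rfl⟩⟩, rfl⟩
  let H : Subgroup G := Q₀.comap (π.comp G.subtype)
  refine ⟨G, inferInstance, inferInstance, H, hperf, Subgroup.isCoatom_comap_of_surjective hsurj hQ₀, ?_, ?_⟩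
  · let f : H →* Q₀ := ((π.comp G.subtype).comp H.subtype).codRestrict Q₀ (fun x => x.2)
    haveI : Group.IsSolvable (rightHom (D := S) (Q := A)).ker := base_solvable
    let g : f.ker →* (rightHom (D := S) (Q := A)).ker :=
      ((G.subtype.comp H.subtype).comp f.ker.subtype).codRestrict _ (fun x => congrArg Subtype.val x.2)
    have hg : Function.Injective g := fun a b h => by
      have := congrArg (fun y : (rightHom (D := S) (Q := A)).ker => (y : S ≀ᵣ A)) h
      exact Subtype.ext (Subtype.ext (Subtype.ext this))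
    haveI : Group.IsSolvable f.ker := solvable_of_solvable_injective hg
    exact solvable_of_ker_le_range f.ker.subtype f (by rw [Subgroup.range_subtype])
  · intro h
    apply hd
    let B : Subgroup (S ≀ᵣ A) := G ⊓ π.ker
    have hs : Function.Surjective (ev B inf_le_right) := fun s => by
      haveI : IsSimpleGroup A := alternatingGroup.isSimpleGroup (by simp)
      obtain ⟨σ, hσ⟩ := exists_ne (1 : A)
      refine ⟨⟨⁅(inl σ : S ≀ᵣ A), (⟨Pi.mulSingle σ⁻¹ s, 1⟩ : S ≀ᵣ A)⁆, ?_, comm_mem_ker _ _⟩, ?_⟩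
      · rw [commutatorElement_def, mul_assoc, mul_assoc]
        exact G.mul_mem (hG ⟨σ, rfl⟩) (by
          have := (Subgroup.normalClosure_normal (s := ((inl (D := S) (Q := A)).range : Set (S ≀ᵣ A)))).conj_mem _
            (G.inv_mem (hG ⟨σ, rfl⟩)) (⟨Pi.mulSingle σ⁻¹ s, 1⟩ : S ≀ᵣ A)
          simpa only [mul_assoc] using this)
      · simp only [ev, MonoidHom.coe_mk, OneHom.coe_mk]
        exact comm_left hσ s
    rw [← map_derivedSeries_eq hs d]
    let j : B →* H := (B.subtype.codRestrict G (fun b => b.2.1)).codRestrict H (fun b => by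
      show π (b : S ≀ᵣ A) ∈ Q₀
      rw [b.2.2]; exact Q₀.one_mem)
    have hj : Function.Injective j := fun a b hab =>
      Subtype.ext (congrArg (fun y : H => ((y : G) : S ≀ᵣ A)) hab)
    have h2 := map_derivedSeries_le_derivedSeries j d
    rw [h, le_bot_iff, Subgroup.map_eq_bot_iff_of_injective _ hj] at h2
    rw [h2, Subgroup.map_bot]

end Cfsg.Agent.S5896
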