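import Cfsg.Statements.S5902
import Cfsg.Agent.MaxSub.Lattice

set_option autoImplicit false
open Cfsg

namespace Cfsg.Agent.S5902

theorem result {G : Type*} [Group G] [Finite G] (X M : Subgroup G)
    (hK : ComplementedLattice (Subgroup X))
    (hM : IsCoatom M) (hXM : X ≤ M) (huniq : ∀ M' : Subgroup G, IsCoatom M' → X ≤ M' → M' = M) :
    (∀ H : Subgroup G, ¬ H ≤ M.normalCore → ∃ C : Subgroup G, H ⊔ C = ⊤ ∧ H ⊓ C = ⊥) ∧
    ComplementedLattice (Subgroup (G ⧸ M.normalCore)) := by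
  have key : ∀ H : Subgroup G, ¬ H ≤ M.normalCore → ∃ C : Subgroup G, H ⊔ C = ⊤ ∧ H ⊓ C = ⊥ := by
    intro H hH
    obtain ⟨h, hh, hhc⟩ := SetLike.not_le_iff_exists.1 hH
    have hhc' : ¬ ∀ b : G, b * h * b⁻¹ ∈ M := hhc
    obtain ⟨b, hb⟩ := not_forall.1 hhc'
    let c : G ≃* G := MulAut.conj b
    obtain ⟨C, h1, h2⟩ := CfsgLib.MaxSub.exists_complement_of_interval ⊥ X M bot_le
      (CfsgLib.MaxSub.intervalComplemented_bot X hK) hM huniq (c.mapSubgroup H)
      (fun hle => hb (hle ⟨h, hh, rfl⟩)) (inf_bot_eq _)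
    refine ⟨c.mapSubgroup.symm C, c.mapSubgroup.injective ?_, c.mapSubgroup.injective ?_⟩
    · rw [map_sup, OrderIso.apply_symm_apply, h1, map_top]
    · rw [map_inf, OrderIso.apply_symm_apply, h2, map_bot]
  refine ⟨key, ⟨fun Q => ?_⟩⟩
  let π := QuotientGroup.mk' M.normalCore
  have hπ : Function.Surjective π := QuotientGroup.mk'_surjective _
  have hker : π.ker = M.normalCore := QuotientGroup.ker_mk' _
  have hQ : Q = (Q.comap π).map π := (Subgroup.map_comap_eq_self_of_surjective hπ Q).symm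
  by_cases hle : Q.comap π ≤ M.normalCore
  · refine ⟨⊤, ?_⟩
    have : Q = ⊥ := by
      rw [hQ, eq_bot_iff, Subgroup.map_le_iff_le_comap, MonoidHom.comap_bot, hker]
      exact hle
    rw [this]
    exact isCompl_bot_top
  obtain ⟨C, h1, h2⟩ := key _ hle
  refine ⟨C.map π, IsCompl.of_eq ?_ ?_⟩
  · rw [eq_bot_iff]
    intro x hx
    obtain ⟨c, hc, rfl⟩ := hx.2
    have : c ∈ Q.comap π ⊓ C := ⟨hx.1, hc⟩
    rw [h2, Subgroup.mem_bot] at this
    simp [this]
  · rw [hQ, ← Subgroup.map_sup, h1, Subgroup.map_top_of_surjective π hπ]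

end Cfsg.Agent.S5902
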