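import Cfsg.Statements.S5903
import Cfsg.Agent.MaxSub.Lattice

set_option autoImplicit false
open Cfsg

namespace Cfsg.Agent.S5903

theorem result {G : Type*} [Group G] [Finite G] [IsSimpleGroup G] (X M N : Subgroup G)
    (hM : IsCoatom M) (hXM : X ≤ M) (huniq : ∀ M' : Subgroup G, IsCoatom M' → X ≤ M' → M' = M)
    (hNX : N ≤ X) (hN : (Nat.card N).Prime) (hcen : ∀ n ∈ N, ∀ m ∈ M, m * n = n * m)
    [(N.subgroupOf X).Normal] (hK : ComplementedLattice (Subgroup (X ⧸ N.subgroupOf X))) :
    ComplementedLattice (Subgroup G) := by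
  classical
  refine ⟨fun H => ?_⟩
  by_cases hbot : H = ⊥
  · exact ⟨⊤, hbot ▸ isCompl_bot_top⟩
  by_cases htop : H = ⊤
  · exact ⟨⊥, htop ▸ isCompl_top_bot⟩
  suffices ∃ g : G, ¬ (MulAut.conj g).mapSubgroup H ≤ M ∧ (MulAut.conj g).mapSubgroup H ⊓ N = ⊥ by
    obtain ⟨g, h1, h2⟩ := this
    obtain ⟨C, h3, h4⟩ := CfsgLib.MaxSub.exists_complement_of_interval N X M hNX
      (CfsgLib.MaxSub.intervalComplemented_of_quotient N X hNX hK) hM huniq _ h1 h2
    refine ⟨(MulAut.conj g).mapSubgroup.symm C, IsCompl.of_eq ?_ ?_⟩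
    · apply (MulAut.conj g).mapSubgroup.injective
      rw [map_inf, OrderIso.apply_symm_apply, h4, map_bot]
    · apply (MulAut.conj g).mapSubgroup.injective
      rw [map_sup, OrderIso.apply_symm_apply, h3, map_top]
  by_contra hcon
  push Not at hcon
  haveI : Fact (Nat.card N).Prime := ⟨hN⟩
  let Ac : Set G := {x | x ∈ H ∧ ∃ g : G, ∃ n ∈ N, g⁻¹ * n * g = x}
  let Bc : Set G := {x | ∀ h ∈ H, h * x = x * h}
  have hcov : ∀ g : G, ∀ n ∈ N, g⁻¹ * n * g ∈ Ac ∨ g⁻¹ * n * g ∈ Bc := by
    intro g n hn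
    by_cases hle : (MulAut.conj g).mapSubgroup H ≤ M
    · right
      intro h hh
      have := hcen n hn (g * h * g⁻¹) (hle ⟨h, hh, rfl⟩)
      calc h * (g⁻¹ * n * g) = g⁻¹ * (g * h * g⁻¹ * n) * g := by group
        _ = g⁻¹ * (n * (g * h * g⁻¹)) * g := by rw [this]
        _ = g⁻¹ * n * g * h := by group
    · left
      have hne := hcon g hle
      have h1 : ((MulAut.conj g).mapSubgroup H).subgroupOf N = ⊤ := by
        rcases Subgroup.eq_bot_or_eq_top_of_prime_card (((MulAut.conj g).mapSubgroup H).subgroupOf N) with h | h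
        · exfalso; apply hne
          rw [eq_bot_iff]
          intro x hx
          have : (⟨x, hx.2⟩ : N) ∈ ((MulAut.conj g).mapSubgroup H).subgroupOf N := hx.1
          rw [h, Subgroup.mem_bot] at this
          exact congrArg Subtype.val this
        · exact h
      obtain ⟨h, hh, he⟩ := (Subgroup.subgroupOf_eq_top.1 h1) hn
      have he' : g * h * g⁻¹ = n := by simpa using he
      exact ⟨by rw [← he']; simpa [mul_assoc] using hh, g, n, hn, rfl⟩
  obtain ⟨n, hn, hn1'⟩ : ∃ n ∈ N, n ≠ 1 := by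
    by_contra h
    push Not at h
    have hb : N = ⊥ := (Subgroup.eq_bot_iff_forall N).2 h
    rw [hb, Subgroup.card_bot] at hN
    exact Nat.not_prime_one hN
  have hgen : Subgroup.closure (Ac ∪ Bc) = ⊤ := by
    rw [eq_top_iff]
    have hne : Subgroup.normalClosure (N : Set G) ≠ ⊥ := fun h =>
      hn1' ((Subgroup.mem_bot).1 (h ▸ Subgroup.subset_normalClosure hn))
    rcases (Subgroup.normalClosure_normal (s := (N : Set G))).eq_bot_or_eq_top with h | h
    · exact absurd h hne
    rw [← h, Subgroup.normalClosure, Subgroup.closure_le]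
    intro x hx
    obtain ⟨m, hm, hc⟩ := Group.mem_conjugatesOfSet_iff.1 hx
    obtain ⟨c, rfl⟩ := isConj_iff.1 hc
    have := hcov c⁻¹ m hm
    rw [inv_inv] at this
    exact Subgroup.subset_closure this
  have hAH : Subgroup.closure Ac ≤ H := (Subgroup.closure_le _).2 fun x hx => hx.1
  have hBc : ∀ b ∈ Bc, ∀ x ∈ Subgroup.closure Ac, b * x = x * b := fun b hb x hx =>
    (hb x (hAH hx)).symm
  have hnorm : (Subgroup.closure Ac).Normal := by
    rw [← Subgroup.normalizer_eq_top_iff, eq_top_iff, ← hgen, Subgroup.closure_le]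
    rintro b (hb | hb)
    · exact Subgroup.le_normalizer (Subgroup.subset_closure hb)
    · refine Subgroup.mem_normalizer_iff.2 fun x => ⟨fun hx => ?_, fun hx => ?_⟩
      · rw [hBc b hb x hx, mul_inv_cancel_right]; exact hx
      · have h2 := hBc b hb _ hx
        have h3 : x = b * x * b⁻¹ := by
          have h4 := congrArg (fun z => b⁻¹ * z) h2
          simp [mul_assoc] at h4
          calc x = b⁻¹ * (b * x * b⁻¹) * b := by group
            _ = b⁻¹ * ((b * x * b⁻¹) * b) := by group
            _ = b⁻¹ * (b * (b * x * b⁻¹)) := by rw [h2]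
            _ = b * x * b⁻¹ := by group
        rw [h3]; exact hx
  rcases hnorm.eq_bot_or_eq_top with h | h
  · -- everything centralises H, so H is central
    have hC : Subgroup.centralizer (H : Set G) = ⊤ := by
      rw [eq_top_iff, ← hgen, Subgroup.closure_le]
      rintro b (hb | hb)
      · have : b = 1 := (Subgroup.mem_bot).1 (h ▸ Subgroup.subset_closure hb)
        rw [this]; exact Subgroup.one_mem _
      · exact Subgroup.mem_centralizer_iff.2 hb
    have hHn : H.Normal := ⟨fun x hx g => by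
      have := Subgroup.mem_centralizer_iff.1 (hC ▸ Subgroup.mem_top g : g ∈ Subgroup.centralizer (H : Set G)) x hx
      rw [← this, mul_inv_cancel_right]; exact hx⟩
    exact hHn.eq_bot_or_eq_top.elim hbot htop
  · exact htop (eq_top_iff.2 (h ▸ hAH))

end Cfsg.Agent.S5903
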