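import Cfsg.Statements.S5905
import Cfsg.Agent.MaxSub.Partition

set_option autoImplicit false
open Cfsg

namespace Cfsg.Agent.S5905

theorem result {Ω : Type*} [Fintype Ω] [DecidableEq Ω] (a b : ℕ) (ha : 2 ≤ a) (hb : 2 ≤ b)
    (f : Ω → Fin b) (hf : ∀ i : Fin b, Nat.card {x : Ω // f x = i} = a) :
    IsCoatom (Subgroup.closure {g : Equiv.Perm Ω | ∀ x y : Ω, f x = f y ↔ f (g x) = f (g y)}) := by
  classical
  rw [CfsgLib.MaxSub.closure_preserving_eq]
  have hn := CfsgLib.MaxSub.card_eq_mul hf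
  refine ⟨fun h => ?_, fun X hX => ?_⟩
  · obtain ⟨g, -, hg⟩ := CfsgLib.MaxSub.exists_even_not_mem hb ha hf
    exact hg (h ▸ Subgroup.mem_top g)
  obtain ⟨p, hp, -⟩ := CfsgLib.MaxSub.exists_in_fibre hf ∅ ⟨0, by omega⟩ (by simp; omega)
  obtain ⟨q, hq, hpq⟩ := CfsgLib.MaxSub.exists_in_fibre hf {p} ⟨0, by omega⟩ (by simp; omega)
  simp only [Finset.mem_singleton] at hpq
  have hsw : Equiv.swap p q ∈ CfsgLib.MaxSub.partStab f :=
    CfsgLib.MaxSub.swap_mem_partStab (hp.trans hq.symm)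
  by_cases h4 : a = 2 ∧ b = 2
  · obtain ⟨rfl, rfl⟩ := h4
    haveI := CfsgLib.MaxSub.isPretransitive_of_partStab_le (X := CfsgLib.MaxSub.partStab f) hb ha hf inf_le_left
    obtain ⟨z, hz, -⟩ := CfsgLib.MaxSub.exists_in_fibre hf ∅ ⟨1, by omega⟩ (by simp)
    have hzp : z ≠ p := fun e => by simp [e, hp] at hz
    have hzq : z ≠ q := fun e => by simp [e, hq] at hz
    have h1 := CfsgLib.MaxSub.card_dvd_of_transitive (X := CfsgLib.MaxSub.partStab f) z
    have h2 : 2 ≤ Nat.card (MulAction.stabilizer (CfsgLib.MaxSub.partStab f) z) := by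
      refine Finite.one_lt_card_iff_nontrivial.2 ⟨⟨1, ⟨⟨⟨Equiv.swap p q, hsw⟩,
        MulAction.mem_stabilizer_iff.2 (Equiv.swap_apply_of_ne_of_ne hzp hzq)⟩, ?_⟩⟩⟩
      intro h
      have := congrArg (fun w : MulAction.stabilizer (CfsgLib.MaxSub.partStab f) z => (w.1 : Equiv.Perm Ω) p) h
      simp at this
      exact hpq this.symm
    rw [hn] at h1
    have h3 : Nat.card X * X.index = 24 := by
      rw [Subgroup.card_mul_index, Nat.card_perm, Nat.card_eq_fintype_card, hn]; rfl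
    obtain ⟨k, hk⟩ := Subgroup.card_dvd_of_le hX.le
    have hk2 : 2 ≤ k := by
      rcases k with _ | _ | k
      · simp at hk
      · exfalso
        exact hX.ne (Subgroup.eq_of_le_of_card_ge hX.le (by rw [hk, Nat.zero_add, Nat.mul_one]))
      · omega
    apply Subgroup.index_eq_one.1
    have h16 : 16 ≤ Nat.card X := by
      rw [hk, h1]
      calc 16 = 2 * 2 * 2 * 2 := rfl
        _ ≤ 2 * 2 * Nat.card (MulAction.stabilizer (CfsgLib.MaxSub.partStab f) z) * k := by gcongr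
    have : X.index ≠ 0 := X.index_ne_zero_of_finite
    by_contra hne
    have : 16 * 2 ≤ Nat.card X * X.index := Nat.mul_le_mul h16 (by omega)
    omega
  · exact Equiv.Perm.subgroup_eq_top_of_isPreprimitive_of_isSwap_mem
      (CfsgLib.MaxSub.isPreprimitive_of_lt hb ha hf h4 (le_trans inf_le_left hX.le) (not_le_of_gt hX))
      _ ⟨p, q, Ne.symm hpq, rfl⟩ (hX.le hsw)

end Cfsg.Agent.S5905
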