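import Cfsg.Statements.S5908
import Cfsg.Agent.S0282
import Cfsg.Agent.S0827
-- import your own Cfsg.Agent.* helpers here

set_option autoImplicit false
open Cfsg

namespace Cfsg.Agent.S5908

/-- The subgroup lattice of PSU₃(2) (the solvable group of order 72, realised over the field with 4 elements) is not complemented: some subgroup H has no subgroup X with H ⊔ X = ⊤ and H ⊓ X = ⊥. -/
theorem result {F : Type*} [Field F] [Fintype F] (hF : Fintype.card F = 4) :
    ¬ ComplementedLattice (Subgroup (Cfsg.PSU 3 F 2)) := by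
  obtain ⟨N, hN, hN9, hN3, ⟨e⟩⟩ := Cfsg.Agent.S0827.result hF
  have hc := (Cfsg.Agent.S0282.result hF).1
  haveI : Finite (Cfsg.PSU 3 F 2) := Nat.finite_of_card_ne_zero (by rw [hc]; norm_num)
  let π : Cfsg.PSU 3 F 2 →* QuaternionGroup 2 := e.toMonoidHom.comp (QuotientGroup.mk' N)
  have hπ : Function.Surjective π := e.surjective.comp (QuotientGroup.mk'_surjective N)
  let Z : Subgroup (QuaternionGroup 2) := Subgroup.zpowers (QuaternionGroup.a 2)
  intro hcl
  obtain ⟨X, hX⟩ := hcl.exists_isCompl (Z.comap π)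
  have hX1 : X = ⊥ := by
    by_contra hne
    haveI : Nontrivial X := (Subgroup.nontrivial_iff_ne_bot X).2 hne
    have hd : Nat.card X ∣ 2 ^ 3 * 3 ^ 2 := by
      have := X.card_subgroup_dvd_card
      rwa [hc] at this
    obtain ⟨p, hp, hpX⟩ := Nat.exists_prime_and_dvd (Finite.one_lt_card (α := X)).ne'
    haveI : Fact p.Prime := ⟨hp⟩
    obtain ⟨x, hx⟩ := exists_prime_orderOf_dvd_card' p hpX
    have hxp : (x : Cfsg.PSU 3 F 2) ^ p = 1 := by
      rw [← hx, ← SubmonoidClass.coe_pow, pow_orderOf_eq_one, OneMemClass.coe_one]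
    have hπp : π x ^ p = 1 := by rw [← map_pow, hxp, map_one]
    have hxH : (x : Cfsg.PSU 3 F 2) ∈ Z.comap π := by
      rw [Subgroup.mem_comap]
      have hcases : p = 2 ∨ p = 3 := by
        rcases (Nat.Prime.dvd_mul hp).1 (hpX.trans hd) with h | h
        · exact Or.inl ((Nat.prime_dvd_prime_iff_eq hp Nat.prime_two).1 (hp.dvd_of_dvd_pow h))
        · exact Or.inr ((Nat.prime_dvd_prime_iff_eq hp Nat.prime_three).1 (hp.dvd_of_dvd_pow h))
      have key2 : ∀ y : QuaternionGroup 2, y ^ 2 = 1 → y = 1 ∨ y = QuaternionGroup.a 2 := by decide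
      have key3 : ∀ y : QuaternionGroup 2, y ^ 3 = 1 → y = 1 := by decide
      rcases hcases with rfl | rfl
      · rcases key2 _ hπp with h | h
        · rw [h]; exact one_mem _
        · rw [h]; exact Subgroup.mem_zpowers _
      · rw [key3 _ hπp]; exact one_mem _
    have hx1 : (x : Cfsg.PSU 3 F 2) ∈ Z.comap π ⊓ X := ⟨hxH, x.2⟩
    rw [hX.inf_eq_bot, Subgroup.mem_bot] at hx1
    have : x = 1 := Subtype.ext hx1
    rw [this, orderOf_one] at hx
    exact hp.one_lt.ne hx
  have htop := hX.sup_eq_top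
  rw [hX1, sup_bot_eq] at htop
  obtain ⟨g, hg⟩ := hπ (QuaternionGroup.a 1)
  have hZ : QuaternionGroup.a (1 : ZMod (2 * 2)) ∈ Z :=
    hg ▸ (htop ▸ Subgroup.mem_top g : g ∈ Z.comap π)
  obtain ⟨k, hk⟩ := Subgroup.mem_zpowers_iff.1 hZ
  have h2 : QuaternionGroup.a (1 : ZMod (2 * 2)) ^ 2 = 1 := by
    rw [← hk, ← zpow_natCast, zpow_comm, zpow_natCast,
      show (QuaternionGroup.a 2 : QuaternionGroup 2) ^ 2 = 1 by decide, one_zpow]
  exact absurd h2 (by decide)

end Cfsg.Agent.S5908
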