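import Cfsg.Statements.S5909
import Cfsg.Agent.MaxSub.Partition

set_option autoImplicit false
open Cfsg

namespace Cfsg.Agent.S5909

open Equiv Equiv.Perm CfsgLib.MaxSub

variable {Ω : Type*} [Fintype Ω] [DecidableEq Ω] {b : ℕ} {f : Ω → Fin b}

lemma three_cycle_of_five (hb : 5 ≤ b) (hf : ∀ i : Fin b, Nat.card {x : Ω // f x = i} = 2)
    {X : Subgroup (Perm Ω)} (hX : partStab f ⊓ alternatingGroup Ω ≤ X) {g : Perm Ω} (hg : g ∈ X)
    (hgP : g ∉ partStab f) : ∃ c ∈ X, c.IsThreeCycle := by
  classical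
  have partner : ∀ z, ∃ z', f z' = f z ∧ z' ≠ z := fun z => by
    obtain ⟨z', h1, h2⟩ := exists_in_fibre hf {z} (f z) (by simp)
    exact ⟨z', h1, by simpa using h2⟩
  choose pr hpr hpr' using partner
  have uniq : ∀ z w, f w = f z → w = z ∨ w = pr z := fun z w h =>
    fibre_pair hf rfl (Ne.symm (hpr' z)) (hpr z).symm h
  obtain ⟨x, y, hxy, hgxy⟩ : ∃ x y, f x = f y ∧ f (g x) ≠ f (g y) := by
    by_contra h
    push Not at h
    apply hgP
    -- images of blocks are blocks
    intro p q
    refine ⟨h p q, fun hpq => ?_⟩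
    rcases uniq (g p) (g q) hpq.symm with e | e
    · rw [g.injective e]
    · have e2 : g (pr p) = pr (g p) := by
        rcases uniq (g p) (g (pr p)) (h _ _ (hpr p)) with e' | e'
        · exact absurd (g.injective e') (hpr' p)
        · exact e'
      rw [g.injective (e.trans e2.symm), hpr]
  have hne : x ≠ y := fun e => hgxy (e ▸ rfl)
  obtain ⟨z, hz, hzX⟩ : ∃ z, f z ≠ f x ∧ (g z ≠ pr (g x) ∧ g (pr z) ≠ pr (g x) ∨
      g z ≠ pr (g y) ∧ g (pr z) ≠ pr (g y)) := by
    obtain ⟨z, hz⟩ : ∃ z, f z ≠ f x ∧ f z ≠ f (g⁻¹ (pr (g x))) := by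
      obtain ⟨j, hj⟩ : ∃ j, j ∉ ({f x, f (g⁻¹ (pr (g x)))} : Finset (Fin b)) := by
        by_contra hc
        push Not at hc
        have := congrArg Finset.card (Finset.eq_univ_iff_forall.2 hc)
        rw [Finset.card_univ, Fintype.card_fin] at this
        have h2 := Finset.card_le_two (a := f x) (b := f (g⁻¹ (pr (g x))))
        omega
      simp only [Finset.mem_insert, Finset.mem_singleton, not_or] at hj
      obtain ⟨z, hz, -⟩ := exists_in_fibre hf ∅ j (by simp)
      exact ⟨z, hz ▸ hj.1, hz ▸ hj.2⟩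
    refine ⟨z, hz.1, Or.inl ⟨fun e => hz.2 ?_, fun e => hz.2 ?_⟩⟩
    · rw [← e]; simp
    · rw [← e]; simp [hpr]
  have core : ∀ P Q R S : Ω, P ≠ Q → R ≠ S → P ≠ R → P ≠ S → Q ≠ R → Q ≠ S →
      R ≠ pr P → S ≠ pr P → Q ≠ pr P → swap P Q * swap R S ∈ X → ∃ c ∈ X, c.IsThreeCycle := by
    intro P Q R S hPQ hRS hPR hPS hQR hQS h1 h2 h3 ht
    obtain ⟨U, hUP, hUQ, hUR, hUS⟩ : ∃ U, f U ≠ f P ∧ f U ≠ f Q ∧ f U ≠ f R ∧ f U ≠ f S := by
      obtain ⟨j, hj⟩ : ∃ j, j ∉ ({f P, f Q, f R, f S} : Finset (Fin b)) := by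
        by_contra hc
        push Not at hc
        have := congrArg Finset.card (Finset.eq_univ_iff_forall.2 hc)
        rw [Finset.card_univ, Fintype.card_fin] at this
        have h2 := Finset.card_le_four (a := f P) (b := f Q) (c := f R) (d := f S)
        omega
      simp only [Finset.mem_insert, Finset.mem_singleton, not_or] at hj
      obtain ⟨U, hU, -⟩ := exists_in_fibre hf ∅ j (by simp)
      subst hU
      exact ⟨U, hj⟩
    set P' := pr P with hP'
    set U' := pr U with hU'
    have nU : ∀ {w : Ω}, f U ≠ f w → U ≠ w ∧ U' ≠ w := fun {w} h =>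
      ⟨fun e => h (e ▸ rfl), fun e => h (e ▸ (hpr U).symm)⟩
    have hP'P : P' ≠ P := hpr' P
    have hUP' : f U ≠ f P' := by rw [hP', hpr]; exact hUP
    have hs : swap P P' * swap U U' ∈ X := hX ⟨(partStab f).mul_mem (swap_mem_partStab (hpr P).symm)
      (swap_mem_partStab (hpr U).symm), by
        simp [Perm.mem_alternatingGroup, sign_swap hP'P.symm, sign_swap (hpr' U).symm, hU']⟩
    have c3 := isThreeCycle_swap_mul_swap_same hPQ hP'P.symm h3
    refine ⟨(swap P Q * swap R S * (swap P P' * swap U U')) * (swap P Q * swap R S * (swap P P' * swap U U')),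
      X.mul_mem (X.mul_mem ht hs) (X.mul_mem ht hs), ?_⟩
    have dj : ∀ {p q r s : Ω}, p ≠ r → p ≠ s → q ≠ r → q ≠ s → Commute (swap p q) (swap r s) := by
      intro p q r s e1 e2 e3 e4
      apply Perm.Disjoint.commute
      intro w
      by_cases hw : w = p ∨ w = q
      · right
        rcases hw with rfl | rfl
        · exact swap_apply_of_ne_of_ne e1 e2
        · exact swap_apply_of_ne_of_ne e3 e4
      · left
        push Not at hw
        exact swap_apply_of_ne_of_ne hw.1 hw.2
    have ht' : Commute (swap R S) (swap P P') := dj hPR.symm h1 hPS.symm h2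
    have k1 : Commute (swap P Q * swap P P') (swap R S * swap U U') := by
      refine Commute.mul_left ?_ ?_
      · exact (dj hPR hPS hQR hQS).mul_right (dj (nU hUP).1.symm (nU hUP).2.symm (nU hUQ).1.symm (nU hUQ).2.symm)
      · exact ht'.symm.mul_right (dj (nU hUP).1.symm (nU hUP).2.symm (nU hUP').1.symm (nU hUP').2.symm)
    have k2 : Commute (swap R S) (swap U U') :=
      dj (nU hUR).1.symm (nU hUR).2.symm (nU hUS).1.symm (nU hUS).2.symm
    have e : swap P Q * swap R S * (swap P P' * swap U U') =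
        (swap P Q * swap P P') * (swap R S * swap U U') := by
      rw [mul_assoc (swap P Q), ← mul_assoc (swap R S), ht'.eq, mul_assoc (swap P P'), ← mul_assoc (swap P Q)]
    have hB : (swap R S * swap U U') * (swap R S * swap U U') = 1 := by
      rw [← pow_two, k2.mul_pow, pow_two, pow_two, swap_mul_self, swap_mul_self, mul_one]
    rw [e, k1.symm.mul_mul_mul_comm, hB, mul_one]
    exact c3.isThreeCycle_sq
  have hz' : pr z ≠ z := hpr' z
  have hzy : f z ≠ f y := hxy ▸ hz
  have d1 : z ≠ x := fun e => hz (e ▸ rfl)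
  have d2 : z ≠ y := fun e => hzy (e ▸ rfl)
  have d3 : pr z ≠ x := fun e => hz (e ▸ (hpr z).symm)
  have d4 : pr z ≠ y := fun e => hzy (e ▸ (hpr z).symm)
  have ht : swap (g x) (g y) * swap (g z) (g (pr z)) ∈ X := by
    rw [swap_apply_apply, swap_apply_apply]
    have : g * swap x y * g⁻¹ * (g * swap z (pr z) * g⁻¹) = g * (swap x y * swap z (pr z)) * g⁻¹ := by group
    rw [this]
    exact X.mul_mem (X.mul_mem hg (hX ⟨(partStab f).mul_mem (swap_mem_partStab hxy)
      (swap_mem_partStab (hpr z).symm), by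
        simp [Perm.mem_alternatingGroup, sign_swap hne, sign_swap hz'.symm]⟩)) (X.inv_mem hg)
  rcases hzX with ⟨h1, h2⟩ | ⟨h1, h2⟩
  · exact core (g x) (g y) (g z) (g (pr z)) (g.injective.ne hne) (g.injective.ne hz'.symm)
      (g.injective.ne d1.symm) (g.injective.ne d3.symm) (g.injective.ne d2.symm) (g.injective.ne d4.symm)
      h1 h2 (fun e => hgxy ((hpr (g x)).symm.trans (congrArg f e).symm)) ht
  · exact core (g y) (g x) (g z) (g (pr z)) (g.injective.ne hne.symm) (g.injective.ne hz'.symm)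
      (g.injective.ne d2.symm) (g.injective.ne d4.symm) (g.injective.ne d1.symm) (g.injective.ne d3.symm)
      h1 h2 (fun e => hgxy ((congrArg f e).trans (hpr (g y)))) (by rw [swap_comm (g y) (g x)]; exact ht)

theorem result {Ω : Type*} [Fintype Ω] [DecidableEq Ω] (h8 : Fintype.card Ω ≠ 8) (a b : ℕ) (ha : 2 ≤ a) (hb : 2 ≤ b)
    (f : Ω → Fin b) (hf : ∀ i : Fin b, Nat.card {x : Ω // f x = i} = a) :
    IsCoatom ((Subgroup.closure {g : Equiv.Perm Ω | ∀ x y : Ω, f x = f y ↔ f (g x) = f (g y)} ⊓ alternatingGroup Ω).subgroupOf (alternatingGroup Ω)) := by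
  classical
  rw [closure_preserving_eq]
  have hn := card_eq_mul hf
  set A := alternatingGroup Ω
  refine ⟨fun h => ?_, fun L hL => ?_⟩
  · obtain ⟨g, hgA, hg⟩ := exists_even_not_mem hb ha hf
    exact hg (Subgroup.subgroupOf_eq_top.1 h hgA).1
  let X := L.map A.subtype
  have hXA : X ≤ A := Subgroup.map_subtype_le _
  have hX : partStab f ⊓ A ≤ X := fun x hx => ⟨⟨x, hx.2⟩, hL.le (show (⟨x, hx.2⟩ : A) ∈ _ from hx), rfl⟩
  have hXP : ¬ X ≤ partStab f := fun h => not_le_of_gt hL fun x hx => ⟨h ⟨x, hx, rfl⟩, x.2⟩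
  suffices A ≤ X by
    rw [eq_top_iff]
    intro x _
    obtain ⟨y, hy, hxy⟩ := this x.2
    exact (Subtype.ext hxy : y = x) ▸ hy
  haveI : Nontrivial Ω := Fintype.one_lt_card_iff_nontrivial.1 (by rw [hn]; nlinarith)
  haveI := isPretransitive_of_partStab_le (X := partStab f ⊓ A) hb ha hf le_rfl
  obtain ⟨k, hk⟩ := Subgroup.card_dvd_of_le hX
  have hk2 : 2 ≤ k := by
    rcases k with _ | _ | k
    · simp at hk
    · exfalso
      have := Subgroup.eq_of_le_of_card_ge hX (by rw [hk, Nat.zero_add, Nat.mul_one])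
      exact hXP (this ▸ inf_le_left)
    · omega
  have hsmall : (b = 2 ∨ b = 3) → a = 2 → A ≤ X := by
    intro hbs h2
    subst h2
    have hA : 2 * Nat.card A = (b * 2).factorial := by
      rw [two_mul_nat_card_alternatingGroup, Nat.card_perm, Nat.card_eq_fintype_card, hn]
    obtain ⟨kA, hkA⟩ := Subgroup.card_dvd_of_le hXA
    obtain ⟨p, hp, -⟩ := exists_in_fibre hf ∅ ⟨0, by omega⟩ (by simp)
    have hS := card_dvd_of_transitive (X := partStab f ⊓ A) p
    rw [hn] at hS
    rcases hbs with rfl | rfl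
    · rw [show Nat.factorial (2 * 2) = 24 from rfl] at hA
      refine (Subgroup.eq_of_le_of_card_ge hXA ?_).ge
      have hpos : 0 < Nat.card (MulAction.stabilizer (↥(partStab f ⊓ A)) p) := Nat.card_pos
      generalize Nat.card (MulAction.stabilizer (↥(partStab f ⊓ A)) p) = s at hS hpos
      have hX8 : 8 ≤ Nat.card X := by
        rw [hk, hS]
        calc 8 = 2 * 2 * 1 * 2 := rfl
          _ ≤ 2 * 2 * s * k := by gcongr; omega
      rcases kA with _ | _ | kA
      · simp at hkA
      · rw [hkA]; simp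
      · exfalso
        have : 8 * 2 ≤ Nat.card X * (kA + 1 + 1) := Nat.mul_le_mul hX8 (by omega)
        omega
    · rw [show Nat.factorial (3 * 2) = 720 from rfl] at hA
      haveI : IsSimpleGroup A := alternatingGroup.isSimpleGroup (by rw [Nat.card_eq_fintype_card, hn]; norm_num)
      -- four elements fixing `p`
      obtain ⟨p₂, hp₂, -⟩ := exists_in_fibre hf ∅ (⟨1, by omega⟩ : Fin 3) (by simp)
      obtain ⟨q₂, hq₂, hpq₂⟩ := exists_in_fibre hf {p₂} (⟨1, by omega⟩ : Fin 3) (by simp)
      obtain ⟨p₃, hp₃, -⟩ := exists_in_fibre hf ∅ (⟨2, by omega⟩ : Fin 3) (by simp)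
      obtain ⟨q₃, hq₃, hpq₃⟩ := exists_in_fibre hf {p₃} (⟨2, by omega⟩ : Fin 3) (by simp)
      simp only [Finset.mem_singleton] at hpq₂ hpq₃
      have h23 : f p₂ ≠ f p₃ := by rw [hp₂, hp₃]; simp [Fin.ext_iff]
      obtain ⟨c₁, hc₁, hc₁p, hc₁f⟩ := exists_cross ha hf p₂ p₃ h23
      obtain ⟨c₂, hc₂, hc₂p, hc₂f⟩ := exists_cross ha hf p₂ q₃ (by rw [hq₃, ← hp₃]; exact h23)
      obtain ⟨c₃, hc₃, hc₃p, hc₃f⟩ := exists_same hb ha hf (by omega) p p₂ q₂ (hp₂.trans hq₂.symm) (Ne.symm hpq₂)
      have fp₂ : f p ≠ f p₂ := by rw [hp, hp₂]; simp [Fin.ext_iff]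
      have fp₃ : f p ≠ f p₃ := by rw [hp, hp₃]; simp [Fin.ext_iff]
      have fq₃ : f p ≠ f q₃ := by rw [hp, hq₃]; simp [Fin.ext_iff]
      have hp_fix : c₁ p = p ∧ c₂ p = p ∧ c₃ p = p :=
        ⟨hc₁f p fp₂ fp₃, hc₂f p fp₂ fq₃, hc₃f (fun e => fp₂ (e ▸ rfl))
          (fun e => fp₂ (by rw [e, hq₂, hp₂]))⟩
      let St := MulAction.stabilizer (↥(partStab f ⊓ A)) p
      let el : Fin 4 → St := ![1, ⟨⟨c₁, hc₁⟩, hp_fix.1⟩, ⟨⟨c₂, hc₂⟩, hp_fix.2.1⟩, ⟨⟨c₃, hc₃⟩, hp_fix.2.2⟩]
      have hel : Function.Injective fun i => ((el i).1 : Perm Ω) p₂ := by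
        intro i j h
        have e12 : p₂ ≠ p₃ := fun e => h23 (e ▸ rfl)
        have e13 : p₂ ≠ q₃ := fun e => h23 (by rw [e, hq₃, hp₃])
        have e14 : p₃ ≠ q₂ := fun e => h23 (by rw [e, hq₂, hp₂])
        have e15 : q₃ ≠ q₂ := fun e => h23 (by rw [hp₂, hp₃, ← hq₂, ← hq₃, e])
        fin_cases i <;> fin_cases j <;>
          first
            | rfl
            | (exfalso
               simp [el, hc₁p, hc₂p, hc₃p, e12, e12.symm, e13, e13.symm, e14, e14.symm, e15, e15.symm,
                 Ne.symm hpq₂, hpq₂, Ne.symm hpq₃, hpq₃] at h)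
      have hst4 : 4 ≤ Nat.card St := by
        have := Nat.card_le_card_of_injective el (fun i j h => hel (congrArg (fun w : St => (w.1 : Perm Ω) p₂) h))
        simpa using this
      by_contra hAX
      let Y := X.subgroupOf A
      have hY : Y ≠ ⊤ := fun h => hAX (Subgroup.subgroupOf_eq_top.1 h)
      have hcore : Y.normalCore = ⊥ := by
        rcases (Subgroup.normalCore_normal Y).eq_bot_or_eq_top with h | h
        · exact h
        · exact absurd (top_le_iff.1 (h ▸ Y.normalCore_le)) hY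
      have hinj : Function.Injective (MulAction.toPermHom A (A ⧸ Y)) := by
        rw [← MonoidHom.ker_eq_bot_iff, ← Subgroup.normalCore_eq_ker, hcore]
      have hd := Subgroup.card_dvd_of_injective _ hinj
      rw [Nat.card_perm] at hd
      have hdY : Nat.card X * Y.index = Nat.card A := by
        rw [← Nat.card_congr (Subgroup.subgroupOfEquivOfLe hXA).toEquiv]; exact Y.card_mul_index
      have hA' : Nat.card A = 360 := by omega
      rw [hA'] at hd hdY
      change 360 ∣ Y.index.factorial at hd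
      have hi6 : 6 ≤ Y.index := by
        by_contra h
        have h' := Nat.le_of_dvd (Nat.factorial_pos _) hd
        have h'' := Nat.factorial_le (show Y.index ≤ 5 by omega)
        rw [show Nat.factorial 5 = 120 from rfl] at h''
        omega
      rw [hk, hS] at hdY
      change 3 * 2 * Nat.card St * k * Y.index = 360 at hdY
      generalize hse : Nat.card St = s at hdY hst4
      generalize Y.index = i at hdY hi6
      have h60 : s * k * i = 60 := by nlinarith
      have hsk : s * k ≤ 10 := by nlinarith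
      have hk' : k = 2 := by nlinarith
      subst hk'
      have : i ≤ 7 := by nlinarith
      obtain rfl : s = 5 := by interval_cases i <;> omega
      haveI : Fact (Nat.Prime 5) := ⟨by norm_num⟩
      obtain ⟨⟨g, hg, hgA⟩, hg5⟩ := exists_prime_orderOf_dvd_card' (G := ↥(partStab f ⊓ A)) 5
        (by rw [hS, show Nat.card (MulAction.stabilizer (↥(partStab f ⊓ A)) p) = 5 from hse]; exact dvd_mul_left 5 _)
      rw [← Subgroup.orderOf_coe] at hg5
      obtain ⟨n, hn'⟩ := Equiv.Perm.cycleType_prime_order (by rw [hg5]; exact Fact.out : (orderOf g).Prime)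
      have hsupp : g.support.card = (n + 1) * 5 := by
        rw [← Equiv.Perm.sum_cycleType, hn', Multiset.sum_replicate, hg5, smul_eq_mul]
      have hsle := Finset.card_le_univ g.support
      rw [hn] at hsle
      obtain ⟨u, hu⟩ : ∃ u, u ∉ g.support := by
        by_contra hc
        push Not at hc
        rw [Finset.eq_univ_iff_forall.2 hc, Finset.card_univ, hn] at hsupp
        omega
      obtain ⟨u', hu'f, hu'⟩ := exists_in_fibre hf {u} (f u) (by simp)
      simp only [Finset.mem_singleton] at hu'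
      have hgu : g u = u := Equiv.Perm.notMem_support.1 hu
      have hgu' : g u' = u' := by
        rcases fibre_pair hf rfl (Ne.symm hu') hu'f.symm
          (show f (g u') = f u from (((hg u u').1 hu'f.symm).symm.trans (congrArg f hgu))) with e | e
        · exact absurd (g.injective (e.trans hgu.symm)) hu'
        · exact e
      have hsub : g.support ⊆ Finset.univ \ {u, u'} := fun w hw => by
        rw [Equiv.Perm.mem_support] at hw
        simp only [Finset.mem_sdiff, Finset.mem_univ, Finset.mem_insert, Finset.mem_singleton, true_and]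
        rintro (rfl | rfl) <;> [exact hw hgu; exact hw hgu']
      have := Finset.card_le_card hsub
      rw [Finset.card_sdiff_of_subset (Finset.subset_univ _), Finset.card_univ, hn, Finset.card_pair (Ne.symm hu')] at this
      omega
  by_cases h2 : a = 2
  · by_cases hbs : b = 2 ∨ b = 3
    · exact hsmall hbs h2
    subst h2
    obtain ⟨g, hgX, hgP⟩ := SetLike.not_le_iff_exists.1 hXP
    obtain ⟨c, hcX, hc⟩ := three_cycle_of_five (by omega) hf hX hgX hgP
    exact alternatingGroup_le_of_isPreprimitive_of_isThreeCycle_mem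
      (isPreprimitive_of_lt hb ha hf (by omega) hX hXP) hc hcX
  · obtain ⟨p, hp, -⟩ := exists_in_fibre hf ∅ ⟨0, by omega⟩ (by simp; omega)
    obtain ⟨q, hq, hpq⟩ := exists_in_fibre hf {p} ⟨0, by omega⟩ (by simp; omega)
    obtain ⟨r, hr, hpr⟩ := exists_in_fibre hf {p, q} ⟨0, by omega⟩
      (lt_of_le_of_lt Finset.card_le_two (by omega))
    simp only [Finset.mem_insert, Finset.mem_singleton, not_or] at hpq hpr
    have hc := isThreeCycle_swap_mul_swap_same (Ne.symm hpq) (Ne.symm hpr.1) (Ne.symm hpr.2)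
    exact alternatingGroup_le_of_isPreprimitive_of_isThreeCycle_mem
      (isPreprimitive_of_lt hb ha hf (by omega) hX hXP) hc
      (hX ⟨(partStab f).mul_mem (swap_mem_partStab (hp.trans hq.symm)) (swap_mem_partStab (hp.trans hr.symm)),
        Perm.mem_alternatingGroup.2 hc.sign⟩)

end Cfsg.Agent.S5909
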