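import Cfsg.Statements.S5910
-- import your own Cfsg.Agent.* helpers here

set_option autoImplicit false
open Cfsg

namespace Cfsg.Agent.S5910

/-- The eight labelled points: a pair and a position in it. -/
abbrev Pt := Fin 4 × Bool

/-- Addition of three elements of the four-element vector space. -/
def add3 (a b c : Fin 4) : Fin 4 := ⟨(a.val ^^^ b.val ^^^ c.val) % 4, Nat.mod_lt _ (by decide)⟩

/-- The affine combination `x + y + z`. -/
def op (x y z : Pt) : Pt := (add3 x.1 y.1 z.1, xor (xor x.2 y.2) z.2)

/-- The affine group. -/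
def aff : Subgroup (Equiv.Perm Pt) where
  carrier := {g | ∀ x y z, g (op x y z) = op (g x) (g y) (g z)}
  one_mem' := fun _ _ _ => rfl
  mul_mem' {g h} hg hh := fun x y z => by
    simp only [Equiv.Perm.mul_apply]; rw [hh, hg]
  inv_mem' {g} hg := fun x y z => by
    apply g.injective
    rw [hg]
    simp

/-- Permuting the pairs. -/
def lift (π : Equiv.Perm (Fin 4)) : Equiv.Perm Pt := Equiv.prodCongrLeft fun _ => π

/-- Flipping inside pairs. -/
def flip (ε : Fin 4 → Bool) : Equiv.Perm Pt :=
  Equiv.prodCongrRight fun q => if ε q then Equiv.swap true false else 1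

theorem add3_map : ∀ π : Fin 4 → Fin 4, (∀ a b, π a = π b → a = b) →
    ∀ a b c, π (add3 a b c) = add3 (π a) (π b) (π c) := by
  decide +kernel

theorem add3_even : ∀ ε : Fin 4 → Bool, xor (xor (ε 0) (ε 1)) (xor (ε 2) (ε 3)) = false →
    ∀ a b c, ε (add3 a b c) = xor (xor (ε a) (ε b)) (ε c) := by
  decide +kernel

theorem sign_lift (π : Equiv.Perm (Fin 4)) : Equiv.Perm.sign (lift π) = 1 := by
  rw [lift, Equiv.Perm.sign_prodCongrLeft]
  simp [Int.units_mul_self]

theorem sign_flip (ε : Fin 4 → Bool) : Equiv.Perm.sign (flip ε) = 1 →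
    xor (xor (ε 0) (ε 1)) (xor (ε 2) (ε 3)) = false := by
  rw [flip, Equiv.Perm.sign_prodCongrRight, Fin.prod_univ_four]
  cases h0 : ε 0 <;> cases h1 : ε 1 <;> cases h2 : ε 2 <;> cases h3 : ε 3 <;> simp

theorem lift_mem (π : Equiv.Perm (Fin 4)) : lift π ∈ aff := fun x y z =>
  Prod.ext (add3_map π (fun _ _ h => π.injective h) x.1 y.1 z.1) rfl

theorem flip_apply (ε : Fin 4 → Bool) (x : Pt) : flip ε x = (x.1, xor (ε x.1) x.2) := by
  obtain ⟨q, b⟩ := x
  simp only [flip, Equiv.prodCongrRight_apply]
  cases ε q <;> cases b <;> simp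

theorem flip_mem (ε : Fin 4 → Bool) (h : xor (xor (ε 0) (ε 1)) (xor (ε 2) (ε 3)) = false) :
    flip ε ∈ aff := by
  intro x y z
  simp only [flip_apply, op]
  rw [add3_even ε h]
  refine Prod.ext rfl ?_
  dsimp only
  cases ε x.1 <;> cases ε y.1 <;> cases ε z.1 <;> cases x.2 <;> cases y.2 <;> cases z.2 <;> rfl

/-- An even permutation preserving the pairs is affine. -/
theorem mem_aff (g : Equiv.Perm Pt) (hs : Equiv.Perm.sign g = 1)
    (hg : ∀ x y : Pt, x.1 = y.1 ↔ (g x).1 = (g y).1) : g ∈ aff := by
  have hinj : Function.Injective fun q : Fin 4 => (g (q, false)).1 := fun a b h => (hg _ _).2 h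
  let π : Equiv.Perm (Fin 4) := Equiv.ofBijective _ (Finite.injective_iff_bijective.1 hinj)
  let ε : Fin 4 → Bool := fun q => (g (q, false)).2
  have he : g = lift π * flip ε := by
    ext1 ⟨q, b⟩
    simp only [Equiv.Perm.mul_apply, flip_apply, lift, Equiv.prodCongrLeft_apply]
    have h1 : (g (q, b)).1 = (g (q, false)).1 := (hg _ _).1 rfl
    refine Prod.ext h1 ?_
    cases b
    · simp [ε]
    · show (g (q, true)).2 = xor (g (q, false)).2 true
      have : g (q, true) ≠ g (q, false) := fun h => by simpa using g.injective h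
      cases h2 : (g (q, true)).2 <;> cases h3 : (g (q, false)).2 <;>
        first | rfl | exact absurd (Prod.ext h1 (h2.trans h3.symm)) this
  rw [he, map_mul, sign_lift, one_mul] at hs
  rw [he]
  exact mul_mem (lift_mem π) (flip_mem ε (sign_flip ε hs))

/-- An even affine permutation not preserving the pairs. -/
def mixing : Equiv.Perm Pt :=
  Equiv.swap (1, false) (0, true) * Equiv.swap (3, false) (2, true)

theorem mixing_mem : mixing ∈ aff := by
  show ∀ x y z, mixing (op x y z) = op (mixing x) (mixing y) (mixing z)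
  decide +kernel

/-- An even permutation which is not affine. -/
def threeCycle : Equiv.Perm Pt :=
  Equiv.swap (0, false) (1, false) * Equiv.swap (1, false) (2, false)

theorem threeCycle_not_mem : threeCycle ∉ aff := fun h => by
  have : ∀ x y z, threeCycle (op x y z) = op (threeCycle x) (threeCycle y) (threeCycle z) := h
  exact absurd this (by decide +kernel)

/-- Let Ω be a set with 8 elements and f : Ω → Fin 4 a labelling whose four fibres all have size 2 (a partition of the 8 points into 4 pairs). Then the group of even permutations preserving this partition, (S₂ ≀ S₄) ∩ A₈, is not a maximal subgroup of the alternating group A₈ (it lies in a subgroup isomorphic to the affine group AGL₃(2)). -/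
theorem result {Ω : Type*} [Fintype Ω] [DecidableEq Ω] (h8 : Fintype.card Ω = 8)
    (f : Ω → Fin 4) (hf : ∀ i : Fin 4, Nat.card {x : Ω // f x = i} = 2) :
    ¬ IsCoatom ((Subgroup.closure {g : Equiv.Perm Ω | ∀ x y : Ω, f x = f y ↔ f (g x) = f (g y)} ⊓ alternatingGroup Ω).subgroupOf (alternatingGroup Ω)) := by
  classical
  have hfib : ∀ i : Fin 4, Nonempty ({x : Ω // f x = i} ≃ Bool) := fun i => by
    have := hf i
    rw [Nat.card_eq_fintype_card] at this
    exact ⟨Fintype.equivOfCardEq (this.trans Fintype.card_bool.symm)⟩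
  let e : Ω ≃ Pt := (Equiv.sigmaFiberEquiv f).symm.trans
    ((Equiv.sigmaCongrRight fun i => (hfib i).some).trans (Equiv.sigmaEquivProd _ _))
  have hef : ∀ x, (e x).1 = f x := fun x => rfl
  -- the stabiliser of the partition
  let Fib : Subgroup (Equiv.Perm Ω) :=
    { carrier := {g | ∀ x y : Ω, f x = f y ↔ f (g x) = f (g y)}
      one_mem' := fun x y => Iff.rfl
      mul_mem' := fun {g h} hg hh x y => (hh x y).trans (hg _ _)
      inv_mem' := fun {g} hg x y => by
        have := hg (g⁻¹ x) (g⁻¹ y)
        simpa using this.symm }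
  let K : Subgroup (Equiv.Perm Ω) := aff.comap (e.permCongrHom).toMonoidHom
  have hle : (Subgroup.closure {g : Equiv.Perm Ω | ∀ x y : Ω, f x = f y ↔ f (g x) = f (g y)} ⊓
      alternatingGroup Ω) ≤ K := by
    rintro g ⟨hg, hgA⟩
    have hg' : g ∈ Fib := (Subgroup.closure_le Fib).2 (fun _ h => h) hg
    have hgA' : Equiv.Perm.sign g = 1 := Equiv.Perm.mem_alternatingGroup.1 hgA
    refine mem_aff _ ((Equiv.Perm.sign_permCongr e g).trans hgA') fun x y => ?_
    show x.1 = y.1 ↔ (e (g (e.symm x))).1 = (e (g (e.symm y))).1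
    rw [hef, hef]
    refine Iff.trans ?_ (hg' _ _)
    rw [← hef, ← hef]
    simp
  intro hmax
  have hlt : (Subgroup.closure {g : Equiv.Perm Ω | ∀ x y : Ω, f x = f y ↔ f (g x) = f (g y)} ⊓
      alternatingGroup Ω).subgroupOf (alternatingGroup Ω) < K.subgroupOf (alternatingGroup Ω) := by
    refine lt_of_le_of_ne (fun g hg => hle hg) fun heq => ?_
    have hs : Equiv.Perm.sign (e.symm.permCongr mixing) = 1 := by
      rw [Equiv.Perm.sign_permCongr]
      decide +kernel
    have hm : (⟨e.symm.permCongr mixing, Equiv.Perm.mem_alternatingGroup.2 hs⟩ :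
        alternatingGroup Ω) ∈ K.subgroupOf (alternatingGroup Ω) := by
      show e.permCongr (e.symm.permCongr mixing) ∈ aff
      have : e.permCongr (e.symm.permCongr mixing) = mixing := by ext1 x; simp
      rw [this]
      exact mixing_mem
    rw [← heq] at hm
    have hm' : e.symm.permCongr mixing ∈ Fib :=
      (Subgroup.closure_le Fib).2 (fun _ h => h) (Subgroup.mem_inf.1 hm).1
    have := (hm' (e.symm (0, false)) (e.symm (0, true))).1 (by simp [← hef])
    rw [← hef, ← hef] at this
    simp at this
    revert this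
    decide +kernel
  have htop := hmax.2 _ hlt
  have hs : Equiv.Perm.sign (e.symm.permCongr threeCycle) = 1 := by
    rw [Equiv.Perm.sign_permCongr]
    decide +kernel
  have hm : (⟨e.symm.permCongr threeCycle, Equiv.Perm.mem_alternatingGroup.2 hs⟩ :
      alternatingGroup Ω) ∈ K.subgroupOf (alternatingGroup Ω) := htop ▸ Subgroup.mem_top _
  apply threeCycle_not_mem
  have hm' : e.permCongr (e.symm.permCongr threeCycle) ∈ aff := hm
  have : e.permCongr (e.symm.permCongr threeCycle) = threeCycle := by ext1 x; simp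
  rwa [this] at hm'

end Cfsg.Agent.S5910
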