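import Cfsg.Statements.S5911
import Cfsg.Agent.MaxSub.SymmetricAut
import Cfsg.Agent.S5944

set_option autoImplicit false
open Cfsg

namespace Cfsg.Agent.S5911

open Equiv

theorem inv_fix : ∀ s : Perm (Fin 3), s * s = 1 → ∃ x, s x = x := by decide +kernel

theorem norm_fix : ∀ s : Perm (Fin 4), s ^ 3 = 1 → s ≠ 1 →
    ∃ x, ∀ g : Perm (Fin 4), (∃ k : Fin 3, g * s * g⁻¹ = s ^ k.val) → g x = x := by decide +kernel

lemma fin_case (n : ℕ) (h6 : n ≠ 6) (H : Subgroup (Perm (Fin n))) (hH : H.index = n) :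
    ∃ x : Fin n, H = MulAction.stabilizer (Perm (Fin n)) x := by
  classical
  have h0 : n ≠ 0 := fun h => H.index_ne_zero_of_finite (hH.trans h)
  have hst : ∀ x : Fin n, (MulAction.stabilizer (Perm (Fin n)) x).index = n := fun x => by
    rw [MulAction.index_stabilizer_of_transitive, Nat.card_fin]
  suffices ∃ x : Fin n, ∀ g ∈ H, g x = x by
    obtain ⟨x, hx⟩ := this
    refine ⟨x, ?_⟩
    have hle : H ≤ MulAction.stabilizer (Perm (Fin n)) x := fun g hg => hx g hg
    refine Subgroup.eq_of_le_of_card_ge hle ?_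
    have h1 := H.card_mul_index
    have h2 := (MulAction.stabilizer (Perm (Fin n)) x).card_mul_index
    rw [hH] at h1; rw [hst] at h2
    exact le_of_eq (Nat.eq_of_mul_eq_mul_right (Nat.pos_of_ne_zero h0) (h2.trans h1.symm))
  have hcard : Nat.card H * n = n.factorial := by
    have h1 := H.card_mul_index
    rwa [hH, Nat.card_perm, Nat.card_fin] at h1
  rcases Nat.lt_or_ge n 5 with h5 | h5
  · interval_cases n
    · exact absurd rfl h0
    · exact ⟨0, fun g _ => Subsingleton.elim _ _⟩
    · rw [show Nat.factorial 2 = 2 from rfl] at hcard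
      have : H = ⊥ := Subgroup.eq_bot_of_card_eq H (by omega)
      exact ⟨0, fun g hg => by rw [this, Subgroup.mem_bot] at hg; simp [hg]⟩
    · rw [show Nat.factorial 3 = 6 from rfl] at hcard
      have hc : Nat.card H = 2 := by omega
      obtain ⟨s, t, hst', hu⟩ := Nat.card_eq_two_iff.1 hc
      obtain ⟨r, hr⟩ : ∃ r : H, ∀ g : H, g = 1 ∨ g = r := by
        have hall : ∀ g : H, g = s ∨ g = t := fun g => by
          have := hu ▸ Set.mem_univ g
          simpa using this
        rcases hall 1 with h | h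
        · exact ⟨t, fun g => h ▸ hall g⟩
        · exact ⟨s, fun g => h ▸ (hall g).symm⟩
      have hsq : (r : Perm (Fin 3)) * r = 1 := by
        have h := pow_card_eq_one' (x := r)
        rw [hc, pow_two] at h
        exact congrArg Subtype.val h
      obtain ⟨x, hx⟩ := inv_fix _ hsq
      refine ⟨x, fun g hg => ?_⟩
      rcases hr ⟨g, hg⟩ with h | h
      · have : g = 1 := congrArg Subtype.val h
        simp [this]
      · have : g = r := congrArg Subtype.val h
        rw [this, hx]
    · rw [show Nat.factorial 4 = 24 from rfl] at hcard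
      have hc : Nat.card H = 6 := by omega
      haveI : Fact (Nat.Prime 3) := ⟨Nat.prime_three⟩
      obtain ⟨s, hs⟩ := exists_prime_orderOf_dvd_card' (G := H) 3 (by rw [hc]; norm_num)
      have hi : (Subgroup.zpowers s).index = 2 := by
        have := (Subgroup.zpowers s).card_mul_index
        rw [Nat.card_zpowers, hs, hc] at this; omega
      have hs3 : (s : Perm (Fin 4)) ^ 3 = 1 := by
        rw [← SubmonoidClass.coe_pow, ← hs, pow_orderOf_eq_one]; rfl
      have hs1 : (s : Perm (Fin 4)) ≠ 1 := fun h => by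
        have : s = 1 := Subtype.ext h
        rw [this, orderOf_one] at hs; norm_num at hs
      obtain ⟨x, hx⟩ := norm_fix _ hs3 hs1
      refine ⟨x, fun g hg => hx g ?_⟩
      have hm := (Subgroup.normal_of_index_eq_two hi).conj_mem s (Subgroup.mem_zpowers s) ⟨g, hg⟩
      obtain ⟨k, hk⟩ := mem_powers_iff_mem_zpowers.2 hm
      have hk' : s ^ (k % 3) = ⟨g, hg⟩ * s * ⟨g, hg⟩⁻¹ := by
        rw [← hs, pow_mod_orderOf]; exact hk
      refine ⟨⟨k % 3, Nat.mod_lt _ (by norm_num)⟩, ?_⟩
      exact (congrArg Subtype.val hk').symm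
  · have hne : H ≠ ⊤ := fun h => by rw [h, Subgroup.index_top] at hH; omega
    have hA : H ≠ alternatingGroup (Fin n) := fun h => by
      haveI : Nontrivial (Fin n) := Fin.nontrivial_iff_two_le.2 (by omega)
      rw [h, alternatingGroup.index_eq_two] at hH; omega
    have hcore := Cfsg.Agent.S5944.normalCore_eq_bot h5 hne hA
    haveI : Fintype (Perm (Fin n) ⧸ H) := Fintype.ofFinite _
    have hX : Fintype.card (Perm (Fin n) ⧸ H) = n := by
      rw [← Nat.card_eq_fintype_card]; exact hH
    let φ := MulAction.toPermHom (Perm (Fin n)) (Perm (Fin n) ⧸ H)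
    have hinj : Function.Injective φ := by
      rw [← MonoidHom.ker_eq_bot_iff, ← Subgroup.normalCore_eq_ker, hcore]
    have hbij : Function.Bijective φ := (Nat.bijective_iff_injective_and_card φ).2 ⟨hinj, by
      rw [Nat.card_perm, Nat.card_perm, Nat.card_fin, Nat.card_eq_fintype_card, hX]⟩
    obtain ⟨e, he⟩ := CfsgLib.MaxSub.perm_iso_inner (by simpa using h5) (by simpa using h6)
      (by simpa using hX) (MulEquiv.ofBijective φ hbij)
    refine ⟨e.symm ((1 : Perm (Fin n)) : Perm (Fin n) ⧸ H), fun g hg => e.injective ?_⟩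
    have h1 := congrArg (fun p : Perm (Perm (Fin n) ⧸ H) => p ((1 : Perm (Fin n)) : Perm (Fin n) ⧸ H)) (he g)
    simp only [Equiv.permCongr_apply] at h1
    rw [← h1, Equiv.apply_symm_apply]
    show g • ((1 : Perm (Fin n)) : Perm (Fin n) ⧸ H) = _
    rw [← MulAction.mem_stabilizer_iff, MulAction.stabilizer_quotient]
    exact hg

theorem result {Ω : Type*} [Fintype Ω] [DecidableEq Ω] (h6 : Fintype.card Ω ≠ 6)
    (H : Subgroup (Equiv.Perm Ω)) (hH : H.index = Fintype.card Ω) :
    ∃ x : Ω, H = MulAction.stabilizer (Equiv.Perm Ω) x := by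
  classical
  let e := Fintype.equivFin Ω
  let c := e.permCongrHom
  obtain ⟨x, hx⟩ := fin_case _ h6 (H.map c.toMonoidHom) ((Subgroup.index_map_equiv H c).trans hH)
  refine ⟨e.symm x, ?_⟩
  ext g
  have h1 : g ∈ H ↔ c g ∈ H.map c.toMonoidHom := ⟨fun h => ⟨g, h, rfl⟩, fun ⟨g', hg', h⟩ => c.injective h ▸ hg'⟩
  rw [h1, hx, MulAction.mem_stabilizer_iff, MulAction.mem_stabilizer_iff, Equiv.Perm.smul_def,
    Equiv.Perm.smul_def]
  show e.permCongr g x = x ↔ _
  rw [Equiv.permCongr_apply, ← Equiv.eq_symm_apply]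

end Cfsg.Agent.S5911
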