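import Cfsg.Statements.S5945
import Cfsg.Agent.S5944

set_option autoImplicit false
open Cfsg

namespace Cfsg.Agent.S5945

open Equiv

/-- Colour of the edge `ij` in a one-factorisation of the complete graph on six points (`0` is the point at infinity). -/
def colour (i j : Fin 6) : Fin 5 :=
  if i = 0 then Fin.ofNat 5 (2 * j.val) else if j = 0 then Fin.ofNat 5 (2 * i.val) else Fin.ofNat 5 (i.val + j.val)

/-- The point joined to `0` by an edge of the given colour. -/
def partner (k : Fin 5) : Fin 6 := if k = 0 then 5 else Fin.ofNat 6 ((3 * k.val) % 5)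

theorem partner_ne_zero : ∀ k, partner k ≠ 0 := by decide +kernel

/-- `σ` respects the colouring. -/
def Respects (σ : Perm (Fin 6)) : Prop :=
  ∀ i j : Fin 6, i ≠ j → colour (σ i) (σ j) = colour (σ 0) (σ (partner (colour i j)))

instance instDecidableRespects (σ : Perm (Fin 6)) : Decidable (Respects σ) := by
  unfold Respects; infer_instance

theorem respects_one : Respects 1 := by decide +kernel

theorem respects_mul {σ τ : Perm (Fin 6)} (hσ : Respects σ) (hτ : Respects τ) : Respects (σ * τ) := by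
  intro i j hij
  simp only [Perm.mul_apply]
  rw [hσ _ _ (τ.injective.ne hij), hτ i j hij, ← hσ _ _ (τ.injective.ne (Ne.symm (partner_ne_zero _)))]

/-- The transitive subgroup `PGL₂(5)` of `S₆`. -/
def exoticS5 : Subgroup (Perm (Fin 6)) where
  carrier := {σ | Respects σ}
  mul_mem' := respects_mul
  one_mem' := respects_one
  inv_mem' {a} ha := by
    have hp : ∀ k : ℕ, Respects (a ^ k) := fun k => by
      induction k with
      | zero => simpa using respects_one
      | succ k ih => simpa [pow_succ] using respects_mul ih ha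
    have : a⁻¹ = a ^ (orderOf a - 1) := by
      rw [inv_eq_iff_mul_eq_one, ← pow_succ', Nat.sub_add_cancel (orderOf_pos a), pow_orderOf_eq_one]
    show Respects a⁻¹
    rw [this]; exact hp _

theorem mem_exoticS5 {σ : Perm (Fin 6)} : σ ∈ exoticS5 ↔ Respects σ := Iff.rfl

/-- A five-cycle fixing `0`. -/
def c0 : Perm (Fin 6) :=
  ⟨![0, 2, 3, 4, 5, 1], ![0, 5, 1, 2, 3, 4], by decide, by decide⟩

/-- A four-cycle normalising `c0`. -/
def a0 : Perm (Fin 6) :=
  ⟨![0, 2, 4, 1, 3, 5], ![0, 3, 1, 4, 2, 5], by decide, by decide⟩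

/-- Representatives of the six cosets. -/
def rep : Fin 6 → Perm (Fin 6) :=
  ![1, swap 4 5, swap 3 4, swap 3 4 * swap 4 5, swap 4 5 * swap 3 4, swap 3 5]

theorem respects_of_normalizes : ∀ u : Perm (Fin 6), u 0 = 0 →
    (∃ k : Fin 5, u * c0 * u⁻¹ = c0 ^ k.val) → Respects u := by decide +kernel

theorem gens_mem : Respects c0 ∧ c0 0 = 0 ∧ Respects a0 ∧ a0 0 = 0 ∧ c0 ^ 5 = 1 ∧ c0 ≠ 1 := by decide +kernel

theorem respects_of_cube : ∀ t : Perm (Fin 6), t 0 = 1 →
    (∀ (i : Fin 5) (j : Fin 4), ((t * (c0 ^ i.val * a0 ^ j.val)) ^ 3) 0 = 0 →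
      Respects ((t * (c0 ^ i.val * a0 ^ j.val)) ^ 3)) → Respects t := by decide +kernel

theorem five_elements : ∀ s : Perm (Fin 6), s 0 = 0 → s ^ 5 = 1 → s ≠ 1 →
    ∃ (i : Fin 6) (k : Fin 5), rep i * c0 ^ k.val * (rep i)⁻¹ = s := by decide +kernel

theorem five_orbits : ∀ s : Perm (Fin 6), s ^ 5 = 1 → s ≠ 1 →
    ∃ a, s a = a ∧ ∀ b c : Fin 6, b ≠ a → c ≠ a → ∃ k : Fin 5, (s ^ k.val) b = c := by decide +kernel

theorem rep_zero : ∀ i, rep i 0 = 0 := by decide +kernel

theorem rep_separates : ∀ i j : Fin 6, i ≠ j →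
    ∃ σ, ¬ (Respects (rep i * σ * (rep i)⁻¹) ↔ Respects (rep j * σ * (rep j)⁻¹)) := by decide +kernel

theorem rep_injective (i j : Fin 6)
    (h : ∀ σ, Respects (rep i * σ * (rep i)⁻¹) ↔ Respects (rep j * σ * (rep j)⁻¹)) : i = j := by
  by_contra hne
  obtain ⟨σ, hσ⟩ := rep_separates i j hne
  exact hσ (h σ)

theorem exotic_moves : ∀ a : Fin 6, ∀ i, ∃ σ, σ a ≠ a ∧ Respects (rep i * σ * (rep i)⁻¹) := by decide +kernel

theorem count_respects : Fintype.card {σ : Perm (Fin 6) // Respects σ} = 120 := by decide +kernel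

theorem index_exoticS5 : exoticS5.index = 6 := by
  have h := exoticS5.card_mul_index
  have : Nat.card exoticS5 = 120 := by
    rw [← count_respects, ← Nat.card_eq_fintype_card]
    rfl
  rw [this, Nat.card_perm, Nat.card_fin] at h
  simp [Nat.factorial] at h
  omega

/-- The twelve subgroups of index six. -/
def sub12 : Fin 6 ⊕ Fin 6 → Subgroup (Perm (Fin 6))
  | .inl a => MulAction.stabilizer (Perm (Fin 6)) a
  | .inr i => exoticS5.comap (MulAut.conj (rep i)).toMonoidHom

theorem mem_inr {i : Fin 6} {σ : Perm (Fin 6)} : σ ∈ sub12 (.inr i) ↔ Respects (rep i * σ * (rep i)⁻¹) := Iff.rfl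

theorem sub12_index : ∀ x, (sub12 x).index = 6
  | .inl a => by
    have := MulAction.index_stabilizer_of_transitive (Perm (Fin 6)) a
    simpa [sub12] using this
  | .inr i => by
    show (exoticS5.comap _).index = 6
    rw [Subgroup.index_comap_of_surjective _ (MulAut.conj (rep i)).surjective, index_exoticS5]

theorem stab_sep : ∀ a b : Fin 6, a ≠ b → ∃ σ : Perm (Fin 6), ¬ (σ a = a ↔ σ b = b) := by decide +kernel

theorem stab_inj (a b : Fin 6) (h : ∀ σ : Perm (Fin 6), σ a = a ↔ σ b = b) : a = b := by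
  by_contra hne
  obtain ⟨σ, hσ⟩ := stab_sep a b hne
  exact hσ (h σ)

theorem sub12_injective : Function.Injective sub12 := by
  rintro (a | i) (b | j) h
  · exact congrArg Sum.inl (stab_inj a b fun σ => by
      simpa [sub12, MulAction.mem_stabilizer_iff] using (SetLike.ext_iff.mp h σ))
  · obtain ⟨σ, hσ, hR⟩ := exotic_moves a j
    exact absurd ((SetLike.ext_iff.mp h σ).mpr hR) (by simpa [sub12, MulAction.mem_stabilizer_iff] using hσ)
  · obtain ⟨σ, hσ, hR⟩ := exotic_moves b i
    exact absurd ((SetLike.ext_iff.mp h σ).mp hR) (by simpa [sub12, MulAction.mem_stabilizer_iff] using hσ)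
  · exact congrArg Sum.inr (rep_injective i j fun σ => SetLike.ext_iff.mp h σ)

theorem card_eq {H : Subgroup (Perm (Fin 6))} (hH : H.index = 6) : Nat.card H = 120 := by
  have h := H.card_mul_index
  rw [hH, Nat.card_perm, Nat.card_fin] at h
  simp [Nat.factorial] at h
  omega

/-- A subgroup of index six is one of the twelve. -/
theorem mem_range {H : Subgroup (Perm (Fin 6))} (hH : H.index = 6) : ∃ x, sub12 x = H := by
  have hc := card_eq hH
  haveI : Fact (Nat.Prime 5) := ⟨by norm_num⟩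
  obtain ⟨s, hs⟩ := exists_prime_orderOf_dvd_card' (G := H) 5 (by rw [hc]; norm_num)
  have hs5 : (s : Perm (Fin 6)) ^ 5 = 1 := by
    rw [← hs, ← SubmonoidClass.coe_pow, pow_orderOf_eq_one]; rfl
  have hs1 : (s : Perm (Fin 6)) ≠ 1 := fun h => by
    have : s = 1 := Subtype.ext h
    rw [this, orderOf_one] at hs; norm_num at hs
  obtain ⟨a, ha, horb⟩ := five_orbits _ hs5 hs1
  by_cases hfix : ∀ h ∈ H, h a = a
  · refine ⟨.inl a, (Subgroup.eq_of_le_of_card_ge (fun h hh => hfix h hh) ?_).symm⟩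
    rw [card_eq (sub12_index (.inl a)), hc]
  push Not at hfix
  obtain ⟨g, hg, hga⟩ := hfix
  have hto : ∀ b, ∃ h ∈ H, h a = b := fun b => by
    by_cases hb : b = a
    · exact ⟨1, H.one_mem, hb.symm⟩
    · obtain ⟨k, hk⟩ := horb (g a) b hga hb
      exact ⟨(s : Perm (Fin 6)) ^ k.val * g, H.mul_mem (H.pow_mem s.2 _) hg, hk⟩
  obtain ⟨h, hh, hha⟩ := hto 0
  set u := h * (s : Perm (Fin 6)) * h⁻¹ with hu
  have hu0 : u 0 = 0 := by
    rw [hu, ← hha]; simp [ha]
  have hu5 : u ^ 5 = 1 := by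
    rw [hu, conj_pow, hs5]; simp
  have hu1 : u ≠ 1 := fun e => hs1 (conj_eq_one_iff.mp e)
  obtain ⟨i, k, hik⟩ := five_elements u hu0 hu5 hu1
  -- the conjugate of `H` containing the standard five-cycle
  set K := H.comap (MulAut.conj (rep i)).toMonoidHom with hK
  have hKmem : ∀ σ, σ ∈ K ↔ rep i * σ * (rep i)⁻¹ ∈ H := fun σ => Iff.rfl
  have hKc : Nat.card K = 120 := card_eq (by
    rw [hK, Subgroup.index_comap_of_surjective _ (MulAut.conj (rep i)).surjective, hH])
  have hcK : c0 ∈ K := by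
    have hck : c0 ^ k.val ∈ K := by
      rw [hKmem, hik]; exact H.mul_mem (H.mul_mem hh s.2) (H.inv_mem hh)
    have hk0 : k.val ≠ 0 := fun e => by
      rw [e] at hik; simp at hik; exact hu1 hik.symm
    have : ∃ m : ℕ, c0 = (c0 ^ k.val) ^ m := by
      revert hk0; generalize k = k'; revert k'
      intro k' hk'
      refine ⟨![1, 1, 3, 2, 4] k', ?_⟩
      revert k'; decide +kernel
    obtain ⟨m, hm⟩ := this
    rw [hm]; exact K.pow_mem hck m
  have htrK : ∀ b, ∃ x ∈ K, x 0 = b := fun b => by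
    obtain ⟨h', hh', hh'a⟩ := hto (rep i b)
    refine ⟨(rep i)⁻¹ * (h' * h⁻¹) * rep i, ?_, ?_⟩
    · rw [hKmem]
      convert H.mul_mem hh' (H.inv_mem hh) using 1
      group
    · have : h⁻¹ 0 = a := by rw [← hha]; simp
      simp only [Perm.mul_apply, rep_zero i, this, hh'a]
      simp
  have hst : Nat.card (MulAction.stabilizer K (0 : Fin 6)) = 20 := by
    haveI : MulAction.IsPretransitive K (Fin 6) := ⟨fun x y => by
      obtain ⟨u, hu, hux⟩ := htrK x
      obtain ⟨v, hv, hvy⟩ := htrK y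
      refine ⟨⟨v * u⁻¹, K.mul_mem hv (K.inv_mem hu)⟩, ?_⟩
      show (v * u⁻¹) x = y
      simp [← hux, hvy]⟩
    have h1 := (MulAction.stabilizer K (0 : Fin 6)).card_mul_index
    rw [MulAction.index_stabilizer_of_transitive K (0 : Fin 6), hKc, Nat.card_fin] at h1
    omega
  have hsub : ∀ x ∈ K, x 0 = 0 → Respects x := by
    intro x hx hx0
    refine respects_of_normalizes x hx0 ?_
    let S := MulAction.stabilizer K (0 : Fin 6)
    let C : S := ⟨⟨c0, hcK⟩, gens_mem.2.1⟩
    let X : S := ⟨⟨x, hx⟩, hx0⟩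
    have hordC : orderOf C = 5 := by
      refine orderOf_eq_prime ?_ ?_
      · exact Subtype.ext (Subtype.ext gens_mem.2.2.2.2.1)
      · intro e; exact gens_mem.2.2.2.2.2 (congrArg (fun z : S => ((z : K) : Perm (Fin 6))) e)
    let D := X * C * X⁻¹
    have hord : orderOf D = 5 := by
      rw [← hordC]; exact (MulEquiv.orderOf_eq (MulAut.conj X) C)
    by_cases hmem : D ∈ Subgroup.zpowers C
    · obtain ⟨e, he⟩ := mem_powers_iff_mem_zpowers.mpr hmem
      have he' : C ^ (e % 5) = D := by rw [← hordC, pow_mod_orderOf]; exact he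
      exact ⟨⟨e % 5, Nat.mod_lt _ (by norm_num)⟩,
        (congrArg (fun z : S => ((z : K) : Perm (Fin 6))) he').symm⟩
    · exfalso
      have hdisj : Disjoint (Subgroup.zpowers C) (Subgroup.zpowers D) := by
        rw [disjoint_iff, Subgroup.eq_bot_iff_forall]
        intro z hz
        by_contra hz1
        have h5 : orderOf z = 5 := by
          rcases (Nat.dvd_prime (by norm_num : Nat.Prime 5)).mp (hord ▸ orderOf_dvd_of_mem_zpowers hz.2) with h | h
          · exact absurd (orderOf_eq_one_iff.mp h) hz1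
          · exact h
        have hzD : Subgroup.zpowers z = Subgroup.zpowers D :=
          Subgroup.eq_of_le_of_card_ge (Subgroup.zpowers_le.mpr hz.2) (by simp [Nat.card_zpowers, h5, hord])
        exact hmem ((Subgroup.zpowers_le.mpr hz.1) (hzD ▸ Subgroup.mem_zpowers D))
      have := Nat.card_le_card_of_injective _ (Subgroup.mul_injective_of_disjoint hdisj)
      rw [Nat.card_prod, Nat.card_zpowers, Nat.card_zpowers, hord, hordC, hst] at this
      omega
  have hge : K ≤ exoticS5 := by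
    have hN : ∀ (i' : Fin 5) (j : Fin 4), c0 ^ i'.val * a0 ^ j.val ∈ K := by
      intro i' j
      refine K.mul_mem (K.pow_mem hcK _) (K.pow_mem ?_ _)
      -- the stabiliser in `K` is the whole stabiliser in `exoticS5`
      have hcard : Nat.card (MulAction.stabilizer K (0 : Fin 6)) =
          Nat.card {σ : Perm (Fin 6) // Respects σ ∧ σ 0 = 0} := by
        rw [hst, Nat.card_eq_fintype_card]; decide +kernel
      have hbij := (Nat.bijective_iff_injective_and_card
        (fun z : MulAction.stabilizer K (0 : Fin 6) =>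
          (⟨((z : K) : Perm (Fin 6)), hsub _ z.1.2 z.2, z.2⟩ : {σ : Perm (Fin 6) // Respects σ ∧ σ 0 = 0}))).mpr
        ⟨fun z w e => Subtype.ext (Subtype.ext (congrArg Subtype.val e :)), hcard⟩
      obtain ⟨z, hz⟩ := hbij.2 ⟨a0, gens_mem.2.2.1, gens_mem.2.2.2.1⟩
      have : ((z : K) : Perm (Fin 6)) = a0 := congrArg Subtype.val hz
      rw [← this]; exact z.1.2
    intro x hx
    by_cases hx0 : x 0 = 0
    · exact hsub x hx hx0
    obtain ⟨k', hk'⟩ : ∃ k' : Fin 5, (c0 ^ k'.val) (x 0) = 1 := by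
      generalize x 0 = b at hx0 ⊢
      revert b; decide +kernel
    have ht : Respects (c0 ^ k'.val * x) := respects_of_cube _ hk' fun i' j e =>
      hsub _ (K.pow_mem (K.mul_mem (K.mul_mem (K.pow_mem hcK _) hx) (hN i' j)) 3) e
    have := exoticS5.mul_mem (exoticS5.inv_mem (exoticS5.pow_mem gens_mem.1 k'.val)) (mem_exoticS5.mpr ht)
    simpa using this
  have hKeq : K = exoticS5 := Subgroup.eq_of_le_of_card_ge hge (by rw [hKc, card_eq index_exoticS5])
  have hall : ∀ σ, σ ∈ H ↔ Respects ((rep i)⁻¹ * σ * rep i) := fun σ => by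
    rw [← mem_exoticS5, ← hKeq, hKmem]
    constructor <;> intro hσ <;> [skip; skip] <;> (convert hσ using 1; group)
  obtain ⟨i₂, hi₂⟩ : ∃ i₂, ∀ σ, Respects (rep i₂ * σ * (rep i₂)⁻¹) ↔ Respects ((rep i)⁻¹ * σ * rep i) := by
    obtain ⟨i₂, hi₂⟩ : ∃ i₂, Respects (rep i₂ * rep i) := by
      generalize i = i'
      revert i'; decide +kernel
    refine ⟨i₂, fun σ => ?_⟩
    have e : rep i₂ * σ * (rep i₂)⁻¹ = (rep i₂ * rep i) * ((rep i)⁻¹ * σ * rep i) * (rep i₂ * rep i)⁻¹ := by group
    rw [e, ← mem_exoticS5, ← mem_exoticS5]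
    rw [← mem_exoticS5] at hi₂
    rw [exoticS5.mul_mem_cancel_right (exoticS5.inv_mem hi₂), exoticS5.mul_mem_cancel_left hi₂]
  exact ⟨.inr i₂, SetLike.ext fun σ => by rw [mem_inr, hi₂, hall]⟩

/-- The permutations of six points fixing `0`. -/
def extendFive : Perm (Fin 5) →* Perm (Fin 6) :=
  MonoidHom.mk' (fun e => Equiv.Perm.decomposeFin.symm (0, e)) fun e f => by
    ext x
    refine Fin.cases ?_ (fun y => ?_) x <;>
      simp [Equiv.Perm.decomposeFin_symm_apply_succ, Equiv.Perm.decomposeFin_symm_apply_zero]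

theorem iso_S5 {H : Subgroup (Perm (Fin 6))} (hH : H.index = 6) : Nonempty (H ≃* Perm (Fin 5)) := by
  have hne : H ≠ ⊤ := fun h => by rw [h, Subgroup.index_top] at hH; norm_num at hH
  have hA : H ≠ alternatingGroup (Fin 6) := fun h => by
    rw [h, alternatingGroup.index_eq_two] at hH; norm_num at hH
  have hcore := S5944.normalCore_eq_bot (by norm_num) hne hA
  have hcardQ : Nat.card (Perm (Fin 6) ⧸ H) = 6 := hH
  obtain ⟨e0⟩ : Nonempty ((Perm (Fin 6) ⧸ H) ≃ Fin 6) := ⟨Finite.equivFinOfCardEq hcardQ⟩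
  let e : (Perm (Fin 6) ⧸ H) ≃ Fin 6 := e0.trans (Equiv.swap (e0 ((1 : Perm (Fin 6)) : Perm (Fin 6) ⧸ H)) 0)
  have he : e ((1 : Perm (Fin 6)) : Perm (Fin 6) ⧸ H) = 0 := by simp [e]
  let φ : Perm (Fin 6) →* Perm (Fin 6) := e.permCongrHom.toMonoidHom.comp (MulAction.toPermHom (Perm (Fin 6)) _)
  have hinj : Function.Injective φ := by
    refine e.permCongrHom.injective.comp ?_
    rw [← MonoidHom.ker_eq_bot_iff, ← Subgroup.normalCore_eq_ker, hcore]
  have hsurj : Function.Surjective φ := Finite.injective_iff_surjective.mp hinj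
  have hmem : ∀ g, g ∈ H ↔ φ g 0 = 0 := fun g => by
    have : φ g 0 = e (g • ((1 : Perm (Fin 6)) : Perm (Fin 6) ⧸ H)) := by
      simp [φ, Equiv.permCongrHom, ← he]
    rw [this, ← he, e.apply_eq_iff_eq]
    show g ∈ H ↔ ((g * 1 : Perm (Fin 6)) : Perm (Fin 6) ⧸ H) = _
    rw [mul_one, QuotientGroup.eq]
    simp
  have hrange : ∀ g, g ∈ H ↔ φ g ∈ extendFive.range := by
    intro g
    rw [hmem]
    constructor
    · intro h0
      refine ⟨(Equiv.Perm.decomposeFin (φ g)).2, ?_⟩
      have h1 : (Equiv.Perm.decomposeFin (φ g)).1 = 0 := by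
        have := Equiv.Perm.decomposeFin_symm_apply_zero (Equiv.Perm.decomposeFin (φ g)).1 (Equiv.Perm.decomposeFin (φ g)).2
        rw [Prod.mk.eta, Equiv.symm_apply_apply, h0] at this
        exact this.symm
      show Equiv.Perm.decomposeFin.symm (0, _) = φ g
      rw [← h1, Prod.mk.eta, Equiv.symm_apply_apply]
    · rintro ⟨f, hf⟩
      rw [← hf]
      exact Equiv.Perm.decomposeFin_symm_apply_zero 0 f
  have hHmap : H.map φ = extendFive.range := by
    ext y
    obtain ⟨g, rfl⟩ := hsurj y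
    rw [Subgroup.mem_map_iff_mem hinj]
    exact hrange g
  have hi5 : Function.Injective extendFive := fun f g h => by
    simpa [extendFive] using h
  exact ⟨((H.equivMapOfInjective φ hinj).trans (MulEquiv.subgroupCongr hHmap)).trans
    (MonoidHom.ofInjective hi5).symm⟩

/-- The symmetric group S_6 has exactly 12 subgroups of index 6; each of them is isomorphic to S_5, and at least one of them is not the stabilizer of any point. -/
theorem result : Nat.card {H : Subgroup (Equiv.Perm (Fin 6)) // H.index = 6} = 12 ∧ (∀ H : Subgroup (Equiv.Perm (Fin 6)), H.index = 6 → Nonempty (H ≃* Equiv.Perm (Fin 5))) ∧ ∃ H : Subgroup (Equiv.Perm (Fin 6)), H.index = 6 ∧ ∀ a : Fin 6, H ≠ MulAction.stabilizer (Equiv.Perm (Fin 6)) a := by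
  refine ⟨?_, fun H hH => iso_S5 hH, ⟨sub12 (.inr 0), sub12_index _, fun a h => ?_⟩⟩
  · rw [← Nat.card_congr (Equiv.ofBijective (fun x => (⟨sub12 x, sub12_index x⟩ :
      {H : Subgroup (Equiv.Perm (Fin 6)) // H.index = 6})) ⟨fun x y e => sub12_injective (congrArg Subtype.val e :),
        fun H => by obtain ⟨x, hx⟩ := mem_range H.2; exact ⟨x, Subtype.ext hx⟩⟩)]
    simp [Nat.card_eq_fintype_card]
  · exact absurd (sub12_injective (h.trans (rfl : _ = sub12 (.inl a)))) (by simp)

end Cfsg.Agent.S5945
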