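import Cfsg.Statements.S5912
import Cfsg.Agent.S5945

set_option autoImplicit false
open Cfsg

namespace Cfsg.Agent.S5912

theorem result {Ω : Type*} [Fintype Ω] [DecidableEq Ω] (h6 : Fintype.card Ω = 6) :
    ∃ H₁ H₂ : Subgroup (Equiv.Perm Ω), H₁.index = 6 ∧ H₂.index = 6 ∧
      (¬ ∃ g : Equiv.Perm Ω, Subgroup.map (MulAut.conj g).toMonoidHom H₁ = H₂) ∧
      ∀ H : Subgroup (Equiv.Perm Ω), H.index = 6 →
        ∃ g : Equiv.Perm Ω, Subgroup.map (MulAut.conj g).toMonoidHom H₁ = H ∨ Subgroup.map (MulAut.conj g).toMonoidHom H₂ = H := by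
  classical
  have hΩ : Fintype.card (Fin 6) = Fintype.card Ω := by rw [h6, Fintype.card_fin]
  let e := Fintype.equivOfCardEq hΩ
  let c := e.permCongrHom
  let E := Cfsg.Agent.S5945.exoticS5
  let P := MulAction.stabilizer (Equiv.Perm (Fin 6)) (0 : Fin 6)
  have hmap : ∀ (K : Subgroup (Equiv.Perm (Fin 6))) (g : Equiv.Perm (Fin 6)),
      Subgroup.map (MulAut.conj (c g)).toMonoidHom (K.map c.toMonoidHom) =
        (K.map (MulAut.conj g).toMonoidHom).map c.toMonoidHom := by
    intro K g
    rw [Subgroup.map_map, Subgroup.map_map]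
    congr 1
    exact MonoidHom.ext fun x => by simp
  refine ⟨P.map c.toMonoidHom, E.map c.toMonoidHom, ?_, ?_, ?_, ?_⟩
  · exact (Subgroup.index_map_equiv P c).trans (Cfsg.Agent.S5945.sub12_index (.inl 0))
  · exact (Subgroup.index_map_equiv E c).trans Cfsg.Agent.S5945.index_exoticS5
  · rintro ⟨g, hg⟩
    obtain ⟨g, rfl⟩ := c.surjective g
    rw [hmap] at hg
    have h1 := Subgroup.map_injective (f := c.toMonoidHom) c.injective hg
    have h2 : Cfsg.Agent.S5945.sub12 (.inl (g 0)) = Cfsg.Agent.S5945.sub12 (.inr 0) := by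
      show MulAction.stabilizer _ (g • (0 : Fin 6)) = E.comap (MulAut.conj (Cfsg.Agent.S5945.rep 0)).toMonoidHom
      rw [MulAction.stabilizer_smul_eq_stabilizer_map_conj, h1,
        show Cfsg.Agent.S5945.rep 0 = 1 from rfl, map_one]
      exact (Subgroup.comap_id _).symm
    exact absurd (Cfsg.Agent.S5945.sub12_injective h2) (by simp)
  · intro H hH
    obtain ⟨x, hx⟩ := Cfsg.Agent.S5945.mem_range (H := H.comap c.toMonoidHom) (by
      rw [Subgroup.index_comap_of_surjective _ c.surjective, hH])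
    have hback : H = (Cfsg.Agent.S5945.sub12 x).map c.toMonoidHom := by
      rw [hx, Subgroup.map_comap_eq_self_of_surjective c.surjective]
    rcases x with a | i
    · refine ⟨c (Equiv.swap 0 a), Or.inl ?_⟩
      rw [hmap, hback]
      congr 1
      rw [← MulAction.stabilizer_smul_eq_stabilizer_map_conj]
      show MulAction.stabilizer _ (Equiv.swap 0 a (0 : Fin 6)) = _
      rw [Equiv.swap_apply_left]
      rfl
    · refine ⟨c (Cfsg.Agent.S5945.rep i)⁻¹, Or.inr ?_⟩
      rw [hmap, hback]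
      congr 1
      show _ = E.comap (MulAut.conj (Cfsg.Agent.S5945.rep i)).toMonoidHom
      rw [Subgroup.map_equiv_eq_comap_symm']
      ext σ
      simp [E]

end Cfsg.Agent.S5912
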