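import Cfsg.Statements.S5913

set_option autoImplicit false
open Cfsg

namespace Cfsg.Agent.S5913

theorem result {S : Type*} [Group S] [IsSimpleGroup S] (hS : ¬ IsMulCommutative S) (n : ℕ)
    (N : Subgroup (Fin n → S)) [N.Normal] :
    ∃ T : Finset (Fin n), ∀ x : Fin n → S, x ∈ N ↔ ∀ i, i ∉ T → x i = 1 := by
  classical
  let T : Finset (Fin n) := Finset.univ.filter (fun i => ∃ x ∈ N, x i ≠ 1)
  have single_mem : ∀ i ∈ T, ∀ s : S, Pi.mulSingle i s ∈ N := by
    intro i hi
    obtain ⟨x, hx, hxi⟩ := (Finset.mem_filter.1 hi).2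
    let ι : S →* (Fin n → S) := MonoidHom.mulSingle (fun _ => S) i
    have hnorm : (N.comap ι).Normal := inferInstance
    rcases hnorm.eq_bot_or_eq_top with h | h
    · exfalso
      have hc : ∀ s : S, x i * s = s * x i := by
        intro s
        have hm : x * Pi.mulSingle i s * x⁻¹ * (Pi.mulSingle i s)⁻¹ ∈ N := by
          rw [mul_assoc x, mul_assoc x]
          exact N.mul_mem hx (Subgroup.Normal.conj_mem inferInstance x⁻¹ (N.inv_mem hx) (Pi.mulSingle i s))
        have he : x * Pi.mulSingle i s * x⁻¹ * (Pi.mulSingle i s)⁻¹ = Pi.mulSingle i (x i * s * (x i)⁻¹ * s⁻¹) := by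
          funext j
          rcases eq_or_ne j i with rfl | hj
          · simp
          · simp [hj]
        have : x i * s * (x i)⁻¹ * s⁻¹ ∈ N.comap ι := by show Pi.mulSingle i _ ∈ N; rw [← he]; exact hm
        rw [h, Subgroup.mem_bot] at this
        exact mul_inv_eq_iff_eq_mul.1 (mul_inv_eq_one.1 this)
      apply hS
      have hz : x i ∈ Subgroup.center S := Subgroup.mem_center_iff.2 fun s => (hc s).symm
      rcases (inferInstance : (Subgroup.center S).Normal).eq_bot_or_eq_top with hb | ht
      · exact absurd (Subgroup.mem_bot.1 (hb ▸ hz)) hxi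
      · exact ⟨⟨fun a b => Subgroup.mem_center_iff.1 (ht ▸ Subgroup.mem_top b) a⟩⟩
    · intro s
      exact (h ▸ Subgroup.mem_top s : s ∈ N.comap ι)
  refine ⟨T, fun x => ⟨fun hx i hi => ?_, fun hx => ?_⟩⟩
  · by_contra h
    exact hi (Finset.mem_filter.2 ⟨Finset.mem_univ _, x, hx, h⟩)
  · have : ∀ U : Finset (Fin n), U ⊆ T → (fun j => if j ∈ U then x j else 1) ∈ N := by
      intro U
      induction U using Finset.induction with
      | empty =>
        intro _
        convert N.one_mem using 1
        funext j
        simp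
      | insert i U hiU ih =>
        intro hsub
        have h1 := ih (fun j hj => hsub (Finset.mem_insert_of_mem hj))
        have h2 := single_mem i (hsub (Finset.mem_insert_self _ _)) (x i)
        convert N.mul_mem h2 h1 using 1
        funext j
        rcases eq_or_ne j i with rfl | hj
        · simp [hiU]
        · simp [hj]
    convert this T subset_rfl using 1
    funext j
    by_cases hj : j ∈ T
    · simp [hj]
    · simp [hj, hx j hj]

end Cfsg.Agent.S5913
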