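import Cfsg.Statements.S5914
import Cfsg.Agent.Perm.MinimalNormal
import Cfsg.Agent.CharSimple.Basic
-- import your own Cfsg.Agent.* helpers here

set_option autoImplicit false
open Cfsg

namespace Cfsg.Agent.S5914

universe u

/-- A finite group whose only characteristic subgroups are trivial is a power of a simple group. -/
theorem power_of_charSimple {G : Type u} [Group G] [Finite G] [Nontrivial G]
    (h : ∀ H : Subgroup G, H.Characteristic → H = ⊥ ∨ H = ⊤) :
    ∃ (S : Type) (_ : Group S) (_ : IsSimpleGroup S) (n : ℕ), 1 ≤ n ∧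
      Nonempty (G ≃* (Fin n → S)) := by
  classical
  obtain ⟨M, -, ⟨hMn, hM0⟩, hMmin⟩ := Finite.exists_le_minimal
    (p := fun L : Subgroup G => L.Normal ∧ L ≠ ⊥) (a := ⊤) ⟨inferInstance, top_ne_bot⟩
  have hmin : ∀ (α : MulAut G) (L : Subgroup G), L.Normal → L ≤ M.map α.toMonoidHom →
      L = ⊥ ∨ L = M.map α.toMonoidHom := by
    intro α L hL hle
    by_cases h0 : L = ⊥
    · exact Or.inl h0
    refine Or.inr (le_antisymm hle ?_)
    have h1 : M ≤ L.map α.symm.toMonoidHom := hMmin
      ⟨hL.map _ α.symm.surjective, fun hb => h0 ((Subgroup.map_eq_bot_iff_of_injective _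
        α.symm.injective).1 hb)⟩ (by
          rintro _ ⟨x, hx, rfl⟩
          obtain ⟨y, hy, rfl⟩ := hle hx
          simpa using hy)
    rintro _ ⟨x, hx, rfl⟩
    obtain ⟨y, hy, rfl⟩ := h1 hx
    simpa using hy
  have hgen : ⨆ α : MulAut G, M.map α.toMonoidHom = ⊤ := by
    refine (h _ ?_).resolve_left fun hb => hM0 ?_
    · rw [Subgroup.characteristic_iff_map_le]
      intro φ
      rw [Subgroup.map_iSup]
      refine iSup_le fun α => le_of_eq_of_le ?_ (le_iSup _ (φ * α))
      rw [Subgroup.map_map]; rfl
    · have hle : M.map (1 : MulAut G).toMonoidHom ≤ (⊥ : Subgroup G) :=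
        hb ▸ le_iSup (fun α : MulAut G => M.map α.toMonoidHom) 1
      exact eq_bot_iff.2 fun x hx => hle ⟨x, hx, rfl⟩
  obtain ⟨m, e, hm, hfac⟩ := CfsgLib.Perm.MinimalNormal.exists_mulEquiv_pi M hM0
    (fun α : MulAut G => M.map α.toMonoidHom) (fun α => hMn.map _ α.surjective) hmin
    (fun α => ⟨M.equivMapOfInjective α.toMonoidHom α.injective⟩) hgen
  have hsimp : IsSimpleGroup M := by
    obtain ⟨i, hi⟩ := hfac ⟨0, hm⟩
    exact CfsgLib.Perm.MinimalNormal.isSimpleGroup_factor hM0 ⟨0, hm⟩ e
      (by rw [hi]; exact hmin i)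
  let eS : CfsgLib.CharSimple.Label (Nat.card M) ≃ M :=
    { toFun := fun l => (Finite.equivFin M).symm l.val
      invFun := fun s => ⟨Finite.equivFin M s⟩
      left_inv := fun l => by simp
      right_inv := fun s => by simp }
  letI := eS.group
  haveI : Nontrivial M := hsimp.toNontrivial
  haveI := eS.nontrivial
  let eM : CfsgLib.CharSimple.Label (Nat.card M) ≃* M := eS.mulEquiv
  exact ⟨_, inferInstance,
    IsSimpleGroup.isSimpleGroup_of_surjective eM.symm.toMonoidHom eM.symm.surjective, m, hm,
    ⟨e.symm.trans (MulEquiv.piCongrRight fun _ => eM.symm)⟩⟩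

/-- In a power of a simple group, a characteristic subgroup is trivial or everything. -/
theorem charSimple_pi {S : Type*} [Group S] [IsSimpleGroup S] {n : ℕ}
    (H : Subgroup (Fin n → S)) (hH : H.Characteristic) : H = ⊥ ∨ H = ⊤ := by
  classical
  by_cases h0 : H = ⊥
  · exact Or.inl h0
  right
  have haut : ∀ (φ : MulAut (Fin n → S)) (x : Fin n → S), x ∈ H → φ x ∈ H := fun φ x hx =>
    Subgroup.characteristic_iff_map_le.1 hH φ ⟨x, hx, rfl⟩
  haveI : H.Normal := inferInstance
  obtain ⟨x, hx, hx1⟩ := H.bot_or_exists_ne_one.resolve_left h0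
  obtain ⟨j, hj⟩ : ∃ j, x j ≠ 1 := by
    by_contra hc
    exact hx1 (funext fun j => by_contra fun hj => hc ⟨j, hj⟩)
  -- a nontrivial element supported on one coordinate
  obtain ⟨k, s, hs, hks⟩ : ∃ k, ∃ s : S, s ≠ 1 ∧ Pi.mulSingle k s ∈ H := by
    by_cases hc : ∀ t : S, t * x j = x j * t
    · have hcomm : ∀ a b : S, a * b = b * a := by
        have : Subgroup.center S = ⊤ :=
          (IsSimpleGroup.eq_bot_or_eq_top_of_normal (Subgroup.center S)
            inferInstance).resolve_left fun hb => hj (by
              have hm : x j ∈ Subgroup.center S := Subgroup.mem_center_iff.2 hc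
              rwa [hb, Subgroup.mem_bot] at hm)
        intro a b
        have hb : b ∈ Subgroup.center S := this ▸ Subgroup.mem_top b
        exact Subgroup.mem_center_iff.1 hb a
      by_cases hone : ∀ i, i = j
      · refine ⟨j, x j, hj, ?_⟩
        have : Pi.mulSingle j (x j) = x := funext fun i => by
          rw [hone i]; simp
        rw [this]; exact hx
      obtain ⟨k, hk⟩ := not_forall.1 hone
      refine ⟨k, x j, hj, ?_⟩
      let φ : MulAut (Fin n → S) :=
        { toFun := fun y => y * Pi.mulSingle k (y j)
          invFun := fun y => y * Pi.mulSingle k ((y j)⁻¹)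
          left_inv := fun y => by
            funext i
            rcases eq_or_ne i k with rfl | hi
            · simp [Ne.symm hk]
            · simp [hi, Ne.symm hk]
          right_inv := fun y => by
            funext i
            rcases eq_or_ne i k with rfl | hi
            · simp [Ne.symm hk]
            · simp [hi, Ne.symm hk]
          map_mul' := fun y z => by
            funext i
            rcases eq_or_ne i k with rfl | hi
            · simp only [Pi.mul_apply, Pi.mulSingle_eq_same]
              rw [mul_assoc (y i), mul_assoc (y i), ← mul_assoc (z i) (y j), hcomm (z i) (y j),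
                mul_assoc (y j)]
            · simp [hi] }
      have hm := H.mul_mem (H.inv_mem hx) (haut φ x hx)
      have he : x⁻¹ * φ x = Pi.mulSingle k (x j) := inv_mul_cancel_left x _
      rwa [he] at hm
    · obtain ⟨t, ht⟩ := not_forall.1 hc
      refine ⟨j, t * x j * t⁻¹ * (x j)⁻¹, fun h => ht ?_, ?_⟩
      · rw [mul_inv_eq_one, mul_inv_eq_iff_eq_mul] at h
        exact h
      · have hm := H.mul_mem ((inferInstance : H.Normal).conj_mem x hx (Pi.mulSingle j t))
          (H.inv_mem hx)
        convert hm using 1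
        funext i
        rcases eq_or_ne i j with rfl | hi
        · simp
        · simp [hi]
  have hk : ∀ r : S, Pi.mulSingle k r ∈ H := by
    have : H.comap (MonoidHom.mulSingle (fun _ : Fin n => S) k) = ⊤ :=
      (IsSimpleGroup.eq_bot_or_eq_top_of_normal _ (Subgroup.Normal.comap inferInstance
        _)).resolve_left fun hb => hs (by
          have : s ∈ H.comap (MonoidHom.mulSingle (fun _ : Fin n => S) k) := hks
          rwa [hb, Subgroup.mem_bot] at this)
    intro r
    exact (this ▸ Subgroup.mem_top r : r ∈ H.comap (MonoidHom.mulSingle (fun _ : Fin n => S) k))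
  rw [eq_top_iff]
  intro y _
  refine Subgroup.pi_mem_of_mulSingle_mem y fun i => ?_
  let φ : MulAut (Fin n → S) :=
    { toFun := fun z l => z (Equiv.swap i k l)
      invFun := fun z l => z (Equiv.swap i k l)
      left_inv := fun z => funext fun l => by simp
      right_inv := fun z => funext fun l => by simp
      map_mul' := fun _ _ => rfl }
  have he : φ (Pi.mulSingle k (y i)) = Pi.mulSingle i (y i) := by
    funext l
    show (Pi.mulSingle k (y i) : Fin n → S) (Equiv.swap i k l) = _
    rcases eq_or_ne l i with rfl | hl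
    · simp
    · rcases eq_or_ne l k with rfl | hl'
      · simp [hl, Ne.symm hl]
      · simp [Equiv.swap_apply_of_ne_of_ne hl hl', hl, hl']
  exact he ▸ haut φ _ (hk (y i))

/-- A non-trivial finite group G is characteristically simple (its only characteristic subgroups are 1 and G) if and only if G is isomorphic to a direct power S^n (n ≥ 1) of some simple group S (possibly cyclic of prime order). -/
theorem result {G : Type*} [Group G] [Finite G] [Nontrivial G] :
    (∀ H : Subgroup G, H.Characteristic → H = ⊥ ∨ H = ⊤) ↔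
    ∃ (S : Type) (_ : Group S) (_ : IsSimpleGroup S) (n : ℕ), 1 ≤ n ∧ Nonempty (G ≃* (Fin n → S)) := by
  refine ⟨power_of_charSimple, ?_⟩
  rintro ⟨S, _, _, n, hn, ⟨e⟩⟩ H hH
  have hc : (H.map e.toMonoidHom).Characteristic := by
    rw [Subgroup.characteristic_iff_map_le]
    rintro φ _ ⟨_, ⟨x, hx, rfl⟩, rfl⟩
    have hx' := Subgroup.characteristic_iff_map_le.1 hH ((e.trans φ).trans e.symm) ⟨x, hx, rfl⟩
    exact ⟨_, hx', by simp⟩
  rcases charSimple_pi _ hc with h | h
  · exact Or.inl ((Subgroup.map_eq_bot_iff_of_injective _ e.injective).1 h)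
  · refine Or.inr (Subgroup.map_injective (f := e.toMonoidHom) e.injective ?_)
    rw [h, Subgroup.map_top_of_surjective _ e.surjective]

end Cfsg.Agent.S5914
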