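import Cfsg.Statements.S5938
import Cfsg.Agent.DicksonPSL2.MaximalExistence

set_option autoImplicit false
open Cfsg

namespace Cfsg.Agent.S5938

open CfsgLib.DicksonPSL2

/-- Let p be a prime with p ≡ ±1 (mod 8) and F a field with p elements. Then PSL_2(F) has a maximal subgroup isomorphic to the symmetric group S_4. -/
theorem result {F : Type*} [Field F] [Fintype F] (p : ℕ) [Fact p.Prime] (hF : Fintype.card F = p) (hp : p % 8 = 1 ∨ p % 8 = 7) : ∃ H : Subgroup (Matrix.ProjectiveSpecialLinearGroup (Fin 2) F), IsCoatom H ∧ Nonempty (H ≃* Equiv.Perm (Fin 4)) := by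
  haveI : CharP F p := charP_of_card_eq_prime hF
  have hodd : Odd (Fintype.card F) := by rw [hF, Nat.odd_iff]; omega
  obtain ⟨P⟩ := exists_quatPair hodd
  refine ⟨_, isCoatom_normalizer_four p hF hp P, ?_⟩
  exact CfsgLib.Forms.KleinPSL.equiv_perm_four hodd (by rw [hF]; exact hp) P.four (isKleinFour_four P)

end Cfsg.Agent.S5938
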