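import Cfsg.Statements.S5940
import Cfsg.Agent.DicksonPSL2.ExceptionalMax

set_option autoImplicit false
open Cfsg

namespace Cfsg.Agent.S5940

open CfsgLib.DicksonPSL2

/-- Let p ≥ 5 be a prime with p ≡ ±3 (mod 8) and p ≢ ±1 (mod 10), and F a field with p elements. Then PSL_2(F) has a maximal subgroup isomorphic to the alternating group A_4. -/
theorem result {F : Type*} [Field F] [Fintype F] (p : ℕ) [Fact p.Prime] (hF : Fintype.card F = p) (h5 : 5 ≤ p) (h8 : p % 8 = 3 ∨ p % 8 = 5) (h10 : p % 10 ≠ 1 ∧ p % 10 ≠ 9) : ∃ H : Subgroup (Matrix.ProjectiveSpecialLinearGroup (Fin 2) F), IsCoatom H ∧ Nonempty (H ≃* alternatingGroup (Fin 4)) := by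
  classical
  haveI hpc : CharP F p := charP_of_card_eq_prime hF
  have hodd : Odd (Fintype.card F) := by rw [hF, Nat.odd_iff]; omega
  obtain ⟨P⟩ := exists_quatPair hodd
  have hG := card_PSL_formula F
  have hd : Nat.gcd 2 (Fintype.card F - 1) = 2 := Nat.gcd_eq_left (by rw [hF]; omega)
  rw [hd, hF] at hG
  have hG60 : 60 ≤ Nat.card (Matrix.ProjectiveSpecialLinearGroup (Fin 2) F) := by
    have : 5 * 4 * 6 ≤ p * (p - 1) * (p + 1) :=
      Nat.mul_le_mul (Nat.mul_le_mul h5 (by omega)) (by omega)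
    omega
  refine ⟨P.tetra, ⟨fun h => ?_, fun K hK => ?_⟩, P.nonempty_tetra_equiv⟩
  · have := P.card_tetra
    rw [h, Subgroup.card_top] at this
    omega
  by_contra hKtop
  have hle : P.tetra ≤ K := hK.le
  have h12 : 12 < Nat.card K := by
    rcases lt_or_eq_of_le (P.card_tetra ▸ Subgroup.card_le_of_le hle) with h | h
    · exact h
    · exact absurd (Subgroup.eq_of_le_of_card_ge hle (by rw [P.card_tetra, ← h])) hK.ne
  have hGK := Subgroup.card_subgroup_dvd_card K
  rcases subgroup_cases_sharp p K with h | h | ⟨h, -, -⟩ | ⟨h, -, -⟩ | ⟨h, -, -⟩ | h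
  · exact P.tetra_not_inBorel hle h
  · exact P.tetra_not_inTorusNormalizer hle h
  · omega
  · rw [h] at hGK
    obtain ⟨c, hc⟩ := hGK
    rw [hc] at hG
    obtain ⟨t, rfl | rfl⟩ : ∃ t, p = 8 * t + 3 ∨ p = 8 * t + 5 := ⟨p / 8, by omega⟩
    · rw [show 8 * t + 3 - 1 = 8 * t + 2 by omega] at hG
      ring_nf at hG
      omega
    · rw [show 8 * t + 5 - 1 = 8 * t + 4 by omega] at hG
      ring_nf at hG
      omega
  · rw [h] at hGK
    obtain ⟨c, hc⟩ := hGK
    rw [hc] at hG
    rcases eq_or_ne p 5 with rfl | hp5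
    · apply hKtop
      refine Subgroup.eq_top_of_card_eq _ ?_
      rw [hc, h]
      norm_num at hG
      omega
    · obtain ⟨t, ht⟩ : ∃ t, p = 5 * t + 2 ∨ p = 5 * t + 3 := by
        refine ⟨p / 5, ?_⟩
        have : p % 5 ≠ 0 := fun h0 =>
          hp5 (((Nat.prime_dvd_prime_iff_eq (by norm_num) Fact.out).1 (Nat.dvd_of_mod_eq_zero h0)).symm)
        omega
      rcases ht with rfl | rfl
      · rw [show 5 * t + 2 - 1 = 5 * t + 1 by omega] at hG
        ring_nf at hG
        omega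
      · rw [show 5 * t + 3 - 1 = 5 * t + 2 by omega] at hG
        ring_nf at hG
        omega
  · rcases h.eq_top_or_small with h | ⟨Q, hQ, hQq, -⟩
    · exact hKtop h
    · obtain ⟨Q', m, hQ', hm, hm1, h'⟩ := h.card_cases
      obtain ⟨a, ha, rfl, ham⟩ := eq_pow_of_card (Fact.out : p.Prime) hQ' hm1 (n := 1)
        (by rw [hm, hF, pow_one])
      obtain ⟨rfl, rfl⟩ : a = 1 ∧ m = 1 :=
        ⟨Nat.eq_one_of_mul_eq_one_right ham, Nat.eq_one_of_mul_eq_one_left ham⟩
      rcases h' with h' | ⟨-, he, -⟩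
      · rw [pow_one, ← hF, hd] at h'
        apply hKtop
        refine Subgroup.eq_top_of_card_eq _ ?_
        rw [hF] at h'
        omega
      · exact absurd he (by decide)

end Cfsg.Agent.S5940
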