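import Cfsg.Statements.S5942
import Cfsg.Agent.DicksonPSL2.MaximalExistence

set_option autoImplicit false
open Cfsg

namespace Cfsg.Agent.S5942

open CfsgLib.DicksonPSL2

/-- Let K and F be finite fields of odd characteristic with #F = (#K)^r for an odd prime r. Then PSL_2(F) has a maximal subgroup isomorphic to PSL_2(K). -/
theorem result {F K : Type*} [Field F] [Fintype F] [Field K] [Fintype K] (q r : ℕ) (hK : Fintype.card K = q) (hF : Fintype.card F = q ^ r) (hq : Odd q) (hr : r.Prime) (hr2 : r ≠ 2) : ∃ H : Subgroup (Matrix.ProjectiveSpecialLinearGroup (Fin 2) F), IsCoatom H ∧ Nonempty (H ≃* Matrix.ProjectiveSpecialLinearGroup (Fin 2) K) := by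
  subst hK
  obtain ⟨p, hpc⟩ := CharP.exists F
  haveI : Fact p.Prime := ⟨CharP.char_is_prime F p⟩
  obtain ⟨ι⟩ := CfsgLib.FieldEmb.exists_ringHom (F := K) (K := F) hr.one_le rfl hF
  exact ⟨_, isCoatom_range_psiS p (hF ▸ hq.pow) ι 1 hr (hr.odd_of_ne_two hr2) hF,
    ⟨(MonoidHom.ofInjective (psiS_injective ι 1)).symm⟩⟩

end Cfsg.Agent.S5942
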