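import Cfsg.Statements.S5943
import Cfsg.Agent.DicksonPSL2.MaximalExistence

set_option autoImplicit false
open Cfsg

namespace Cfsg.Agent.S5943

open CfsgLib.DicksonPSL2

/-- Let K and F be finite fields of characteristic 2 with #K = q > 2 and #F = q^r for a prime r. Then PSL_2(F) has a maximal subgroup isomorphic to PSL_2(K) (which equals PGL_2(K) in characteristic 2). -/
theorem result {F K : Type*} [Field F] [Fintype F] [Field K] [Fintype K] (q r : ℕ) (hK : Fintype.card K = q) (hF : Fintype.card F = q ^ r) (hq : Even q) (hq2 : q ≠ 2) (hr : r.Prime) : ∃ H : Subgroup (Matrix.ProjectiveSpecialLinearGroup (Fin 2) F), IsCoatom H ∧ Nonempty (H ≃* Matrix.ProjectiveSpecialLinearGroup (Fin 2) K) := by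
  subst hK
  obtain ⟨p, hpc⟩ := CharP.exists F
  haveI : Fact p.Prime := ⟨CharP.char_is_prime F p⟩
  obtain ⟨n, hp, hn⟩ := FiniteField.card F p
  have hp2 : p = 2 := by
    by_contra h
    have hodd := (hp.odd_of_ne_two h).pow (n := n)
    rw [← hn, hF] at hodd
    exact Nat.not_even_iff_odd.2 hodd (hq.pow_of_ne_zero hr.ne_zero)
  obtain ⟨ι⟩ := CfsgLib.FieldEmb.exists_ringHom (F := K) (K := F) hr.one_le rfl hF
  have h4 : 4 ≤ Fintype.card K := by
    have := Fintype.one_lt_card (α := K)
    rw [Nat.even_iff] at hq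
    omega
  exact ⟨_, isCoatom_range_psiS_two p ι hp2 h4 hr hF 1,
    ⟨(MonoidHom.ofInjective (psiS_injective ι 1)).symm⟩⟩

end Cfsg.Agent.S5943
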