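import Cfsg.Statements.S5946
-- import your own Cfsg.Agent.* helpers here

set_option autoImplicit false
open Cfsg

namespace Cfsg.Agent.S5946

/-- Let F ⊆ K be finite fields with [K : F] = n ≥ 2 and regard K as an n-dimensional F-vector space. The Singer group M ≤ GL_F(K) of multiplications by the non-zero elements of K is self-centralizing: every F-linear automorphism of K commuting with all of M lies in M. -/
theorem result {F K : Type*} [Field F] [Fintype F] [Field K] [Fintype K] [Algebra F K] (n : ℕ) (hn : 2 ≤ n) (hdim : Module.finrank F K = n) :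
    Subgroup.centralizer (((Units.map ((Algebra.lmul F K : K →ₐ[F] Module.End F K) : K →* Module.End F K)).range : Subgroup (Module.End F K)ˣ) : Set (Module.End F K)ˣ) = (Units.map ((Algebra.lmul F K : K →ₐ[F] Module.End F K) : K →* Module.End F K)).range := by
  refine le_antisymm ?_ ?_
  · intro x hx
    have hcomm : ∀ k : Kˣ, ∀ v : K, (x : Module.End F K) ((k : K) * v) = (k : K) * (x : Module.End F K) v := fun k v => by
      have h := congrArg (fun u : (Module.End F K)ˣ => (u : Module.End F K) v)
        (Subgroup.mem_centralizer_iff.mp hx _ ⟨k, rfl⟩)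
      simpa using h.symm
    have h1 : (x : Module.End F K) 1 ≠ 0 := fun h0 => by
      have hi := (Module.End.isUnit_iff _).mp x.isUnit
      exact one_ne_zero (hi.1 (h0.trans (map_zero _).symm))
    refine ⟨Units.mk0 _ h1, Units.ext (LinearMap.ext fun v => ?_)⟩
    by_cases hv : v = 0
    · simp [hv]
    · have h := hcomm (Units.mk0 v hv) 1
      simp only [Units.val_mk0, mul_one] at h
      simp [h, mul_comm]
  · rintro _ ⟨a, rfl⟩
    rw [Subgroup.mem_centralizer_iff]
    rintro _ ⟨b, rfl⟩
    rw [← map_mul, ← map_mul, mul_comm]

end Cfsg.Agent.S5946
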