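import Cfsg.Statements.S5947
import Cfsg.Agent.LinearElements.AbelianBound

set_option autoImplicit false
open Cfsg

namespace Cfsg.Agent.S5947

/-- Let F ⊆ K be finite fields with |F| = q and [K : F] = n ≥ 2, regard K as an n-dimensional F-vector space, and let M ≤ GL_F(K) be the Singer group of multiplications by non-zero elements of K (cyclic of order q^n − 1). Assume (n, q) ≠ (6, 2), and that it is not the case that n = 2 with q a prime such that q + 1 is a power of 2. Then every abelian subgroup of GL_F(K) of order q^n − 1 is conjugate to M. -/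
theorem result {F K : Type*} [Field F] [Fintype F] [Field K] [Fintype K] [Algebra F K] (n : ℕ) (hn : 2 ≤ n) (hdim : Module.finrank F K = n)
    (hex1 : ¬ (n = 6 ∧ Fintype.card F = 2))
    (hex2 : ¬ (n = 2 ∧ (Fintype.card F).Prime ∧ ∃ a : ℕ, Fintype.card F + 1 = 2 ^ a))
    (U : Subgroup (Module.End F K)ˣ) (hU : IsMulCommutative U) (hcard : Nat.card U = Fintype.card K - 1) :
    ∃ g : (Module.End F K)ˣ, U.map (MulAut.conj g).toMonoidHom = (Units.map ((Algebra.lmul F K : K →ₐ[F] Module.End F K) : K →* Module.End F K)).range := by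
  classical
  have hKcard : Fintype.card K = Fintype.card F ^ n := by rw [Module.card_eq_pow_finrank (K := F), hdim]
  have hq1 : 1 ≤ Fintype.card F ^ n := Nat.one_le_pow _ _ Fintype.card_pos
  rw [hKcard] at hcard
  haveI : FiniteDimensional F K := Module.Finite.of_finite
  haveI : Finite (Module.End F K) := Finite.of_injective (fun f : Module.End F K => (f : K → K)) DFunLike.coe_injective
  have hcop : Nat.Coprime (Fintype.card F) (Nat.card U) := by
    have h := Nat.coprime_self_sub_right (m := 1) (n := Fintype.card F ^ n) hq1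
    rw [hcard]
    have h2 : Nat.Coprime (Fintype.card F ^ n) (Fintype.card F ^ n - 1) := h.mpr (Nat.coprime_one_right _)
    exact (Nat.coprime_pow_left_iff (by omega) _ _).mp h2
  obtain ⟨hdA, hfield⟩ :=
    (CfsgLib.LinearElements.abelian_card_le n hdim (by omega) U hU hcop).2 hcard
  set A := CfsgLib.LinearElements.spanAlgebra U with hA
  haveI : Nontrivial A := Module.nontrivial_of_finrank_pos (R := F) (by omega)
  have hF : IsField A :=
    { exists_pair_ne := exists_pair_ne A
      mul_comm := fun a b => Subtype.ext (CfsgLib.LinearElements.spanAlgebra_comm hU a.2 b.2)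
      mul_inv_cancel := fun {a} ha => by
        obtain ⟨u, hu, hua⟩ := hfield a a.2 (fun e => ha (Subtype.ext e))
        refine ⟨⟨((u⁻¹ : (Module.End F K)ˣ) : Module.End F K),
          CfsgLib.LinearElements.mem_spanAlgebra U (U.inv_mem hu)⟩, Subtype.ext ?_⟩
        show (a : Module.End F K) * _ = 1
        rw [← hua, Units.mul_inv] }
  letI : Field A := @IsField.toField A A.toRing hF
  obtain ⟨φ⟩ := FiniteField.nonempty_algHom_of_finrank_dvd (F := F) (K := K) (L := A) (by rw [hdim, hdA])
  -- evaluation at one intertwines the regular representation with the inclusion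
  let g : Module.End F K := (LinearMap.applyₗ (1 : K)).comp (A.val.toLinearMap.comp φ.toLinearMap)
  have hg : ∀ k x : K, g (k * x) = (φ k : Module.End F K) (g x) := fun k x => by
    show ((φ (k * x) : A) : Module.End F K) 1 = _
    rw [map_mul]
    rfl
  have hgu : IsUnit g := by
    rw [Module.End.isUnit_iff]
    have hinj : Function.Injective g := by
      rw [← LinearMap.ker_eq_bot, LinearMap.ker_eq_bot']
      intro k hk
      by_contra hk0
      have hne : φ k ≠ 0 := fun e => hk0 (φ.toRingHom.injective (e.trans (map_zero φ.toRingHom).symm))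
      obtain ⟨u, hu, hua⟩ := hfield (φ k) (φ k).2 (fun e => hne (Subtype.ext e))
      have hb := ((Module.End.isUnit_iff _).mp (hua ▸ u.isUnit : IsUnit ((φ k : A) : Module.End F K))).1
      exact one_ne_zero (hb (show ((φ k : A) : Module.End F K) 1 = ((φ k : A) : Module.End F K) 0 by
        rw [map_zero]; exact hk))
    exact ⟨hinj, LinearMap.surjective_of_injective hinj⟩
  have hUrange : ∀ k : Kˣ, ∃ u ∈ U, (u : Module.End F K) = (φ (k : K) : Module.End F K) := fun k =>
    hfield _ (φ (k : K)).2 (fun e => k.ne_zero (φ.toRingHom.injective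
      ((Subtype.ext e : φ (k : K) = 0).trans (map_zero φ.toRingHom).symm)))
  set M := (Units.map ((Algebra.lmul F K : K →ₐ[F] Module.End F K) : K →* Module.End F K)).range with hM
  have hle : M.map (MulAut.conj hgu.unit).toMonoidHom ≤ U := by
    rintro _ ⟨_, ⟨k, rfl⟩, rfl⟩
    obtain ⟨u, hu, huk⟩ := hUrange k
    convert hu
    show hgu.unit * _ * hgu.unit⁻¹ = u
    rw [mul_inv_eq_iff_eq_mul]
    refine Units.ext (LinearMap.ext fun x => ?_)
    simp only [Units.val_mul, IsUnit.unit_spec, Module.End.mul_apply, Units.coe_map, huk]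
    exact hg k x
  have hMcard : Nat.card (M.map (MulAut.conj hgu.unit).toMonoidHom) = Nat.card U := by
    rw [Subgroup.card_map_of_injective (MulAut.conj hgu.unit).injective, hcard, hM,
      Nat.card_congr (MonoidHom.ofInjective (Units.map_injective fun a b h => by
        simpa using LinearMap.congr_fun (h : Algebra.lmul F K a = Algebra.lmul F K b) 1)).symm.toEquiv,
      Nat.card_units, Nat.card_eq_fintype_card, hKcard]
  refine ⟨hgu.unit⁻¹, ?_⟩
  rw [← Subgroup.eq_of_le_of_card_ge hle hMcard.ge, Subgroup.map_map]
  convert Subgroup.map_id _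
  ext x
  simp [mul_assoc]

end Cfsg.Agent.S5947
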