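import Cfsg.Statements.S5949
import Cfsg.Agent.LinearElements.RClassify

set_option autoImplicit false
open scoped MatrixGroups
open Cfsg

open CfsgLib.LinearElements

namespace Cfsg.Agent.S5949

/-- Elements of prime order of PSL_n(q) with no fixed `m`-space. Here `T = PSL_n(F)` for a field `F` with `q = p^f` elements (`n ≥ 2`, `(n, q) ≠ (2, 2), (2, 3)`); an element of `T` of prime order `r` is represented by a matrix `x` of determinant 1 with `x^r` scalar and `x` not scalar; `i` denotes the multiplicative order of `q` modulo `r` (when `r ≠ p`), and `(a)_r` the `r`-part of `a`. Let `1 ≤ m ≤ n/2` and let `r` be a prime dividing the number of `m`-dimensional subspaces of `F^n`. Then every element of `T` of order `r` fixes some `m`-dimensional subspace (the action on `m`-spaces is `r`-elusive) if and only if `r ≠ p` and either (i) `i = 1` and (`r ∣ m`, or `(q−1)_r ≥ (n)_r` where in addition `q ≡ 1 (mod 4)` is required when `r = 2` and `n` is even), or (ii) `2 ≤ i ≤ m` and `n mod i ≥ m mod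 i`. -/
theorem result {F : Type*} [Field F] [Fintype F] {p : ℕ} [Fact p.Prime] [CharP F p] {q : ℕ} (hq : Fintype.card F = q)
    (n m : ℕ) (hn : 2 ≤ n) (hT : (n, q) ≠ (2, 2) ∧ (n, q) ≠ (2, 3)) (hm : 1 ≤ m) (hmn : 2 * m ≤ n)
    (r : ℕ) [Fact r.Prime] (hrΩ : r ∣ Nat.card {W : Submodule F (Fin n → F) // Module.finrank F ↥W = m}) :
    (∀ x : Matrix.SpecialLinearGroup (Fin n) F,
      (∃ c : F, ((x ^ r : Matrix.SpecialLinearGroup (Fin n) F) : Matrix (Fin n) (Fin n) F) = c • (1 : Matrix (Fin n) (Fin n) F)) →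
      (∀ c : F, (x : Matrix (Fin n) (Fin n) F) ≠ c • (1 : Matrix (Fin n) (Fin n) F)) →
      ∃ W : Submodule F (Fin n → F), Module.finrank F ↥W = m ∧ W.map (Matrix.toLin' (x : Matrix (Fin n) (Fin n) F)) ≤ W) ↔
    (r ≠ p ∧
      ((orderOf (q : ZMod r) = 1 ∧ (r ∣ m ∨ (padicValNat r n ≤ padicValNat r (q - 1) ∧ (r = 2 → Even n → q % 4 = 1)))) ∨
       (2 ≤ orderOf (q : ZMod r) ∧ orderOf (q : ZMod r) ≤ m ∧ m % orderOf (q : ZMod r) ≤ n % orderOf (q : ZMod r)))) := by
  subst hq
  have hV : Module.finrank F (Fin n → F) = n := Module.finrank_fin_fun F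
  have hd : r ∣ numSub F (Fin n → F) m := hrΩ
  have hrp : r ≠ p := by
    rintro rfl
    exact not_dvd_numSub (by rw [hV]; omega) hd
  rw [forall_sl_iff (fun g => ∃ W : Submodule F (Fin n → F), Module.finrank F ↥W = m ∧ W.map g ≤ W),
    and_iff_right hrp]
  set i := orderOf (Fintype.card F : ZMod r) with hi
  have hipos : 0 < i := orderOf_pos_iff.mpr (isOfFinOrder_iff_pow_eq_one.mpr
    ⟨r - 1, by have := (Fact.out : r.Prime).two_le; omega, ZMod.pow_card_sub_one_eq_one (cast_card_ne_zero hrp)⟩)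
  obtain ⟨hlt, hin⟩ := mod_lt_of_dvd_numSub (by rw [hV]; omega) hd hipos
  rw [hV] at hlt hin
  constructor
  · intro h
    rcases eq_or_ne i 1 with h1 | h1
    · refine Or.inl ⟨h1, ?_⟩
      by_contra hno
      obtain ⟨g, hg, hU⟩ := exists_counter_one (F := F) (V := Fin n → F) hrp (by rw [hV]; omega) h1
        (m := m) (by rw [hV]; exact hno)
      obtain ⟨W, hW, hWi⟩ := h g hg
      exact hU W (invBy_iff_map_le.mpr hWi) hW
    · refine Or.inr ⟨by omega, ?_⟩
      obtain ⟨g, hg, hfix, hU⟩ := exists_counter_high (F := F) (V := Fin n → F) (r := r) (by omega) (by rw [hV]; exact hin)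
      obtain ⟨W, hW, hWi⟩ := h g hg
      obtain ⟨hle, hmod⟩ := hU W (invBy_iff_map_le.mpr hWi)
      have hmono : Module.finrank F (fixedIn g W) ≤ Module.finrank F (fixedIn g ⊤) :=
        Submodule.finrank_mono (inf_le_inf_right _ le_top)
      rw [hfix, hV] at hmono
      rw [hW] at hle hmod
      rw [← hi] at hmono hmod
      have h2 := Nat.mod_le (Module.finrank F (fixedIn g W)) i
      simp only [hi] at *
      refine ⟨?_, by omega⟩
      by_contra hmi
      rw [Nat.mod_eq_of_lt (not_le.mp hmi)] at hmod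
      omega
  · intro h g hg
    obtain ⟨U, -, hU, hUd⟩ := exists_invBy_dim (F := F) (V := Fin n → F) (m := m) hrp hg (fun h1 => by
        rw [hV]
        rcases h with ⟨-, h'⟩ | ⟨h', -⟩
        · exact h'
        · omega)
      invBy_top (by rw [finrank_top, hV]; omega) (by
        rw [finrank_top, hV]
        rcases h with ⟨h', -⟩ | ⟨-, -, h'⟩
        · rw [← hi, h']; omega
        · exact h')
    exact ⟨U, hUd, hU.map_le⟩

end Cfsg.Agent.S5949
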