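import Cfsg.Statements.S5950
import Cfsg.Agent.LinearElements.PClassify

set_option autoImplicit false
open scoped MatrixGroups
open Cfsg

open CfsgLib.LinearElements

namespace Cfsg.Agent.S5950

/-- Elements of prime order of PSL_n(q) fixing no decomposition `F^n = U ⊕ W` with `dim U = m`. Here `T = PSL_n(F)` for a field `F` with `q = p^f` elements (`n ≥ 2`, `(n, q) ≠ (2, 2), (2, 3)`); an element of `T` of prime order `r` is represented by a matrix `x` of determinant 1 with `x^r` scalar and `x` not scalar; `i` denotes the multiplicative order of `q` modulo `r` (when `r ≠ p`), and `(a)_r` the `r`-part of `a`. Let `n ≥ 3`, `1 ≤ m < n/2`, and let `r` be a prime dividing the number of such decompositions (unordered pairs `{U, W}` of complementary subspaces with `dim U = m`; since `m ≠ n − m` these are the ordered pairs with `dim U = m`). Then every element of `T` of order `r` fixes such a pair (fixes both `U` and `W` for some complementary `U, W` with `dim U = m`) if and only if one of: (i) `r = p >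 2` and every partition of `n` into parts of size at most `p` contains, as a sub-multiset, a partition of `m`; (ii) `r = p = 2` and `n` is odd or `m` is even; (iii) `r ≠ p`, `i = 1`, and `r ∣ m` or `(q−1)_r ≥ (n)_r` (with `q ≡ 1 (mod 4)` required when `r = 2` and `n` is even); (iv) `r ≠ p`, `2 ≤ i ≤ m` and `n mod i ≥ m mod i`. -/
theorem result {F : Type*} [Field F] [Fintype F] {p : ℕ} [Fact p.Prime] [CharP F p] {q : ℕ} (hq : Fintype.card F = q)
    (n m : ℕ) (hn : 3 ≤ n) (hm : 1 ≤ m) (hmn : 2 * m < n)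
    (r : ℕ) [Fact r.Prime]
    (hrΩ : r ∣ Nat.card {P : Submodule F (Fin n → F) × Submodule F (Fin n → F) // IsCompl P.1 P.2 ∧ Module.finrank F ↥P.1 = m}) :
    (∀ x : Matrix.SpecialLinearGroup (Fin n) F,
      (∃ c : F, ((x ^ r : Matrix.SpecialLinearGroup (Fin n) F) : Matrix (Fin n) (Fin n) F) = c • (1 : Matrix (Fin n) (Fin n) F)) →
      (∀ c : F, (x : Matrix (Fin n) (Fin n) F) ≠ c • (1 : Matrix (Fin n) (Fin n) F)) →
      ∃ U W : Submodule F (Fin n → F), IsCompl U W ∧ Module.finrank F ↥U = m ∧
        U.map (Matrix.toLin' (x : Matrix (Fin n) (Fin n) F)) ≤ U ∧ W.map (Matrix.toLin' (x : Matrix (Fin n) (Fin n) F)) ≤ W) ↔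
    ((r = p ∧ 2 < p ∧ (∀ μ : Multiset ℕ, (∀ a ∈ μ, 0 < a ∧ a ≤ p) → μ.sum = n → ∃ ν : Multiset ℕ, ν ≤ μ ∧ ν.sum = m)) ∨
     (r = p ∧ p = 2 ∧ (Odd n ∨ Even m)) ∨
     (r ≠ p ∧
      ((orderOf (q : ZMod r) = 1 ∧ (r ∣ m ∨ (padicValNat r n ≤ padicValNat r (q - 1) ∧ (r = 2 → Even n → q % 4 = 1)))) ∨
       (2 ≤ orderOf (q : ZMod r) ∧ orderOf (q : ZMod r) ≤ m ∧ m % orderOf (q : ZMod r) ≤ n % orderOf (q : ZMod r))))) := by
  subst hq
  have hV : Module.finrank F (Fin n → F) = n := Module.finrank_fin_fun F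
  rw [forall_sl_iff (fun g => ∃ U W : Submodule F (Fin n → F), IsCompl U W ∧ Module.finrank F ↥U = m ∧
      U.map g ≤ U ∧ W.map g ≤ W)]
  by_cases hrp : r = p
  · subst hrp
    rw [forall_fix_pair_iff m (by rw [hV]; omega), hV]
    simp only [ne_eq, not_true, false_and, or_false, true_and]
    rcases lt_or_eq_of_le (Fact.out : r.Prime).two_le with h2 | h2
    · rw [and_iff_right h2, or_iff_left (fun h => absurd h.1 (by omega))]
    · subst h2
      rw [partition_two_iff (by omega)]
      simp
  · rw [card_complPairs] at hrΩ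
    have hd : r ∣ numSub F (Fin n → F) m := by
      refine ((Nat.Prime.dvd_mul Fact.out).mp hrΩ).resolve_right fun h => ?_
      exact cast_card_ne_zero (F := F) hrp ((ZMod.natCast_eq_zero_iff _ _).mpr ((Fact.out : r.Prime).dvd_of_dvd_pow h))
    obtain ⟨i, hi⟩ : ∃ i, orderOf (Fintype.card F : ZMod r) = i := ⟨_, rfl⟩
    simp only [hrp, false_and, false_or, not_false_eq_true, ne_eq, true_and, hi]
    have hipos : 0 < i := hi ▸ orderOf_pos_iff.mpr (isOfFinOrder_iff_pow_eq_one.mpr
      ⟨r - 1, by have := (Fact.out : r.Prime).two_le; omega, ZMod.pow_card_sub_one_eq_one (cast_card_ne_zero (F := F) hrp)⟩)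
    obtain ⟨hlt, hin⟩ := mod_lt_of_dvd_numSub (by rw [hV]; omega) hd (hi ▸ hipos)
    rw [hV, hi] at hlt hin
    constructor
    · intro h
      rcases eq_or_ne i 1 with h1 | h1
      · refine Or.inl ⟨h1, ?_⟩
        by_contra hno
        obtain ⟨g, hg, hU⟩ := exists_counter_one (F := F) (V := Fin n → F) hrp (by rw [hV]; omega) (hi.trans h1)
          (m := m) (by rw [hV]; exact hno)
        obtain ⟨U, W, -, hUd, hUi, -⟩ := h g hg
        exact hU U (invBy_iff_map_le.mpr hUi) hUd
      · refine Or.inr ⟨by omega, ?_⟩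
        obtain ⟨g, hg, hfix, hU⟩ := exists_counter_high (F := F) (V := Fin n → F) (r := r) (by omega)
          (by rw [hV, hi]; exact hin)
        obtain ⟨U, W, -, hUd, hUi, -⟩ := h g hg
        obtain ⟨hle, hmod⟩ := hU U (invBy_iff_map_le.mpr hUi)
        have hmono : Module.finrank F (fixedIn g U) ≤ n % i :=
          (Submodule.finrank_mono (inf_le_inf_right _ le_top)).trans (hfix.trans (by rw [hV, hi])).le
        rw [hUd] at hle hmod
        rw [hi] at hmod
        have h2 := Nat.mod_le (Module.finrank F (fixedIn g U)) i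
        refine ⟨?_, by omega⟩
        by_contra hmi
        rw [Nat.mod_eq_of_lt (not_le.mp hmi)] at hmod
        omega
    · intro h g hg
      obtain ⟨U, -, hU, hUd⟩ := exists_invBy_dim (F := F) (V := Fin n → F) (m := m) hrp hg (fun h1 => by
          rw [hV]
          rcases h with ⟨-, h'⟩ | ⟨h', -⟩
          · exact h'
          · omega)
        invBy_top (by rw [finrank_top, hV]; omega) (by
          rw [finrank_top, hV, hi]
          rcases h with ⟨h', -⟩ | ⟨-, -, h'⟩
          · rw [h']; omega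
          · exact h')
      obtain ⟨W, hW, -, hinf, hsup⟩ := InvBy.exists_compl hrp hg invBy_top hU le_top
      exact ⟨U, W, ⟨disjoint_iff.mpr hinf, codisjoint_iff.mpr hsup⟩, hUd, hU.map_le, hW.map_le⟩

end Cfsg.Agent.S5950
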