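import Cfsg.Statements.S5951
import Cfsg.Agent.LinearElements.RClassify

set_option autoImplicit false
open scoped MatrixGroups
open Cfsg

open CfsgLib.LinearElements

namespace Cfsg.Agent.S5951

theorem finrank_map_mkQ {F V : Type*} [Field F] [AddCommGroup V] [Module F V] [FiniteDimensional F V]
    {U W : Submodule F V} (h : U ≤ W) :
    Module.finrank F (W.map U.mkQ) + Module.finrank F U = Module.finrank F W := by
  have := LinearMap.finrank_range_add_finrank_ker (U.mkQ.comp W.subtype)
  rwa [LinearMap.range_comp, Submodule.range_subtype, LinearMap.ker_comp, Submodule.ker_mkQ,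
    LinearEquiv.finrank_eq (Submodule.comapSubtypeEquivOfLe h)] at this

theorem card_flags {F : Type*} [Field F] [Fintype F] (n m : ℕ) (hmn : 2 * m ≤ n) :
    Nat.card {P : Submodule F (Fin n → F) × Submodule F (Fin n → F) //
        P.1 ≤ P.2 ∧ Module.finrank F ↥P.1 = m ∧ Module.finrank F ↥P.2 = n - m} =
      numSub F (Fin n → F) m * numSub F (Fin (n - m) → F) m := by
  classical
  let V := Fin n → F
  have hV : Module.finrank F V = n := Module.finrank_fin_fun F
  haveI : Finite (Submodule F V) := Finite.of_injective (fun W => (W : Set V)) SetLike.coe_injective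
  haveI := Fintype.ofFinite {U : Submodule F V // Module.finrank F U = m}
  have e : {P : Submodule F V × Submodule F V //
        P.1 ≤ P.2 ∧ Module.finrank F ↥P.1 = m ∧ Module.finrank F ↥P.2 = n - m} ≃
      Σ U : {U : Submodule F V // Module.finrank F U = m},
        {W : Submodule F V // (U : Submodule F V) ≤ W ∧ Module.finrank F W = n - m} :=
    { toFun := fun P => ⟨⟨P.1.1, P.2.2.1⟩, ⟨P.1.2, P.2.1, P.2.2.2⟩⟩
      invFun := fun x => ⟨(x.1.1, x.2.1), x.2.2.1, x.1.2, x.2.2.2⟩
      left_inv := fun P => rfl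
      right_inv := fun x => rfl }
  rw [Nat.card_congr e, Nat.card_sigma]
  have h1 : ∀ U : {U : Submodule F V // Module.finrank F U = m},
      Nat.card {W : Submodule F V // (U : Submodule F V) ≤ W ∧ Module.finrank F W = n - m} =
        numSub F (Fin (n - m) → F) m := by
    rintro ⟨U, hU⟩
    have hQ : Module.finrank F (V ⧸ U) = n - m := by rw [Submodule.finrank_quotient, hV, hU]
    rw [numSub_symm (V := Fin (n - m) → F) (by rw [Module.finrank_fin_fun]; omega), Module.finrank_fin_fun,
      ← numSub_eq_of_finrank (V := V ⧸ U) (V' := Fin (n - m) → F) (by rw [hQ, Module.finrank_fin_fun])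
        (by rw [hQ]; omega), numSub]
    refine Nat.card_congr
      { toFun := fun W => ⟨W.1.map U.mkQ, by
          have := finrank_map_mkQ W.2.1
          have := W.2.2
          simp only [hU] at *
          omega⟩
        invFun := fun W' => ⟨W'.1.comap U.mkQ, Submodule.le_comap_mkQ U _, by
          have := finrank_map_mkQ (Submodule.le_comap_mkQ U W'.1)
          rw [Submodule.map_comap_eq_of_surjective (Submodule.mkQ_surjective U), W'.2, hU] at this
          omega⟩
        left_inv := fun W => Subtype.ext (by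
          show Submodule.comap U.mkQ (W.1.map U.mkQ) = W.1
          rw [Submodule.comap_map_mkQ, sup_eq_right.mpr W.2.1])
        right_inv := fun W' => Subtype.ext
          (Submodule.map_comap_eq_of_surjective (Submodule.mkQ_surjective U) W'.1) }
  rw [Finset.sum_congr rfl (fun U _ => h1 U), Finset.sum_const, Finset.card_univ, smul_eq_mul,
    ← Nat.card_eq_fintype_card]
  rfl

theorem sub_mod_of_le {a b i : ℕ} (hab : b ≤ a) (h : b % i ≤ a % i) : (a - b) % i = a % i - b % i := by
  rcases Nat.eq_zero_or_pos i with rfl | hi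
  · simp
  obtain ⟨d, hd⟩ := Nat.exists_eq_add_of_le (Nat.div_le_div_right (c := i) hab)
  have h1 := Nat.mod_add_div a i
  have h2 := Nat.mod_add_div b i
  rw [hd, Nat.mul_add] at h1
  rw [show a - b = (a % i - b % i) + i * d by omega, Nat.add_mul_mod_self_left]
  exact Nat.mod_eq_of_lt (by have := Nat.mod_lt a hi; omega)

/-- Elements of prime order of PSL_n(q) fixing no pair of subspaces `U < W` with `dim U = m`, `dim W = n − m`. Here `T = PSL_n(F)` for a field `F` with `q = p^f` elements (`n ≥ 2`, `(n, q) ≠ (2, 2), (2, 3)`); an element of `T` of prime order `r` is represented by a matrix `x` of determinant 1 with `x^r` scalar and `x` not scalar; `i` denotes the multiplicative order of `q` modulo `r` (when `r ≠ p`), and `(a)_r` the `r`-part of `a`. Let `1 ≤ m < n/2` and let `r` be a prime dividing the number of such pairs. Then every element of `T` of order `r` fixes such a pair (both `U` and `W`) if and only if `r ≠ p` and either (i) `i = 1` and (`r ∣ m`, or `(q−1)_r ≥ (n)_r` with `q ≡ 1 (mod 4)`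 required when `r = 2` and `n` is even), or (ii) `2 ≤ i ≤ m` and `n mod i ≥ 2 (m mod i)`. -/
theorem result {F : Type*} [Field F] [Fintype F] {p : ℕ} [Fact p.Prime] [CharP F p] {q : ℕ} (hq : Fintype.card F = q)
    (n m : ℕ) (hn : 2 ≤ n) (hT : (n, q) ≠ (2, 2) ∧ (n, q) ≠ (2, 3)) (hm : 1 ≤ m) (hmn : 2 * m < n)
    (r : ℕ) [Fact r.Prime]
    (hrΩ : r ∣ Nat.card {P : Submodule F (Fin n → F) × Submodule F (Fin n → F) //
        P.1 ≤ P.2 ∧ Module.finrank F ↥P.1 = m ∧ Module.finrank F ↥P.2 = n - m}) :
    (∀ x : Matrix.SpecialLinearGroup (Fin n) F,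
      (∃ c : F, ((x ^ r : Matrix.SpecialLinearGroup (Fin n) F) : Matrix (Fin n) (Fin n) F) = c • (1 : Matrix (Fin n) (Fin n) F)) →
      (∀ c : F, (x : Matrix (Fin n) (Fin n) F) ≠ c • (1 : Matrix (Fin n) (Fin n) F)) →
      ∃ U W : Submodule F (Fin n → F), U ≤ W ∧ Module.finrank F ↥U = m ∧ Module.finrank F ↥W = n - m ∧
        U.map (Matrix.toLin' (x : Matrix (Fin n) (Fin n) F)) ≤ U ∧ W.map (Matrix.toLin' (x : Matrix (Fin n) (Fin n) F)) ≤ W) ↔
    (r ≠ p ∧
      ((orderOf (q : ZMod r) = 1 ∧ (r ∣ m ∨ (padicValNat r n ≤ padicValNat r (q - 1) ∧ (r = 2 → Even n → q % 4 = 1)))) ∨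
       (2 ≤ orderOf (q : ZMod r) ∧ orderOf (q : ZMod r) ≤ m ∧ 2 * (m % orderOf (q : ZMod r)) ≤ n % orderOf (q : ZMod r)))) := by
  subst hq
  have hV : Module.finrank F (Fin n → F) = n := Module.finrank_fin_fun F
  have hV' : Module.finrank F (Fin (n - m) → F) = n - m := Module.finrank_fin_fun F
  have hd : r ∣ numSub F (Fin n → F) m * numSub F (Fin (n - m) → F) m := card_flags (F := F) n m hmn.le ▸ hrΩ
  have hrp : r ≠ p := by
    rintro rfl
    rcases (Nat.Prime.dvd_mul Fact.out).mp hd with h | h
    · exact not_dvd_numSub (by rw [hV]; omega) h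
    · exact not_dvd_numSub (by rw [hV']; omega) h
  rw [forall_sl_iff (fun g => ∃ U W : Submodule F (Fin n → F), U ≤ W ∧ Module.finrank F ↥U = m ∧
      Module.finrank F ↥W = n - m ∧ U.map g ≤ U ∧ W.map g ≤ W), and_iff_right hrp]
  obtain ⟨i, hi⟩ : ∃ i, orderOf (Fintype.card F : ZMod r) = i := ⟨_, rfl⟩
  rw [hi]
  have hipos : 0 < i := hi ▸ orderOf_pos_iff.mpr (isOfFinOrder_iff_pow_eq_one.mpr
    ⟨r - 1, by have := (Fact.out : r.Prime).two_le; omega, ZMod.pow_card_sub_one_eq_one (cast_card_ne_zero (F := F) hrp)⟩)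
  constructor
  · intro h
    rcases eq_or_ne i 1 with h1 | h1
    · refine Or.inl ⟨h1, ?_⟩
      by_contra hno
      obtain ⟨g, hg, hU⟩ := exists_counter_one (F := F) (V := Fin n → F) hrp (by rw [hV]; omega) (hi.trans h1)
        (m := m) (by rw [hV]; exact hno)
      obtain ⟨U, W, -, hUd, -, hUi, -⟩ := h g hg
      exact hU U (invBy_iff_map_le.mpr hUi) hUd
    · refine Or.inr ⟨by omega, ?_⟩
      have hin : i ≤ n ∧ (m < i → n % i < 2 * m) := by
        rcases (Nat.Prime.dvd_mul Fact.out).mp hd with h' | h'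
        · obtain ⟨a, b⟩ := mod_lt_of_dvd_numSub (by rw [hV]; omega) h' (hi ▸ hipos)
          rw [hV, hi] at a b
          exact ⟨b, fun _ => by omega⟩
        · obtain ⟨a, b⟩ := mod_lt_of_dvd_numSub (by rw [hV']; omega) h' (hi ▸ hipos)
          rw [hV', hi] at a b
          refine ⟨by omega, fun hmi => ?_⟩
          by_contra hge
          rw [sub_mod_of_le (by omega) (by rw [Nat.mod_eq_of_lt hmi]; omega), Nat.mod_eq_of_lt hmi] at a
          omega
      obtain ⟨g, hg, hfix, hU⟩ := exists_counter_high (F := F) (V := Fin n → F) (r := r) (by omega)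
        (by rw [hV, hi]; exact hin.1)
      obtain ⟨U, W, hUW, hUd, hWd, hUi, hWi⟩ := h g hg
      obtain ⟨T, hT, -, hinf, hsup⟩ :=
        InvBy.exists_compl hrp hg invBy_top (invBy_iff_map_le.mpr hWi) le_top
      have hTd := finrank_sup_of_disjoint hinf
      rw [hsup, finrank_top, hV, hWd] at hTd
      have hTd' : Module.finrank F T = m := by omega
      obtain ⟨hle, hmod⟩ := hU U (invBy_iff_map_le.mpr hUi)
      obtain ⟨hle', hmod'⟩ := hU T hT
      rw [hUd, hi] at hmod
      rw [hTd', hi] at hmod'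
      rw [hUd] at hle
      rw [hTd'] at hle'
      have hsum : Module.finrank F (fixedIn g U) + Module.finrank F (fixedIn g T) ≤ n % i := by
        rw [← finrank_sup_of_disjoint (A := fixedIn g U) (B := fixedIn g T)
          (le_bot_iff.mp ((inf_le_inf (inf_le_left.trans hUW) inf_le_left).trans hinf.le))]
        refine le_trans ?_ (le_of_eq (hfix.trans (by rw [hV, hi])))
        exact Submodule.finrank_mono (sup_le (inf_le_inf_right _ le_top) (inf_le_inf_right _ le_top))
      have h2 := Nat.mod_le (Module.finrank F (fixedIn g U)) i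
      have h3 := Nat.mod_le (Module.finrank F (fixedIn g T)) i
      refine ⟨?_, by omega⟩
      by_contra hmi
      have h4 := hin.2 (not_le.mp hmi)
      rw [Nat.mod_eq_of_lt (not_le.mp hmi)] at hmod hmod'
      omega
  · intro h g hg
    have hm2 : 2 * (m % i) ≤ n % i := by
      rcases h with ⟨h', -⟩ | ⟨-, -, h'⟩
      · rw [h']; omega
      · exact h'
    have hcrit : orderOf (Fintype.card F : ZMod r) = 1 → CritOne (Fintype.card F) r (Module.finrank F (Fin n → F)) m :=
      fun h1 => by
        rw [hV]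
        rcases h with ⟨-, h'⟩ | ⟨h', -⟩
        · exact h'
        · omega
    obtain ⟨U, -, hU, hUd⟩ := exists_invBy_dim (F := F) hrp hg hcrit invBy_top
      (by rw [finrank_top, hV]; omega) (by rw [finrank_top, hV, hi]; omega)
    obtain ⟨U', hU', -, hinf, hsup⟩ := InvBy.exists_compl hrp hg invBy_top hU le_top
    have hU'd := finrank_sup_of_disjoint hinf
    rw [hsup, finrank_top, hV, hUd] at hU'd
    have hU'n : Module.finrank F U' = n - m := by omega
    obtain ⟨U₂, hU₂le, hU₂, hU₂d⟩ := exists_invBy_dim (F := F) hrp hg hcrit hU'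
      (by rw [hU'n]; omega) (by rw [hU'n, hi, sub_mod_of_le (by omega) (by omega)]; omega)
    obtain ⟨T, hT, hTle, hinf₂, hsup₂⟩ := InvBy.exists_compl hrp hg hU' hU₂ hU₂le
    have hTd := finrank_sup_of_disjoint hinf₂
    rw [hsup₂, hU'n, hU₂d] at hTd
    refine ⟨U, U ⊔ T, le_sup_left, hUd, ?_, hU.map_le, (hU.sup hT).map_le⟩
    rw [finrank_sup_of_disjoint (le_bot_iff.mp ((inf_le_inf_left _ hTle).trans hinf.le)), hUd]
    omega

end Cfsg.Agent.S5951
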