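import Cfsg.Statements.S5952
-- import your own Cfsg.Agent.* helpers here

set_option autoImplicit false
open Cfsg

namespace Cfsg.Agent.S5952

open Module

section

variable {F V : Type*} [Field F] [AddCommGroup V] [Module F V]

/-- The partial sums `A ⊔ U 0 ⊔ … ⊔ U (j-1)`. -/
def partialSup {s : ℕ} (A : Submodule F V) (U : Fin s → Submodule F V) : ℕ → Submodule F V
  | 0 => A
  | j + 1 => partialSup A U j ⊔ (if h : j < s then U ⟨j, h⟩ else ⊥)

theorem partialSup_le {s : ℕ} (A : Submodule F V) (U : Fin s → Submodule F V) (T : Submodule F V)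
    (hA : A ≤ T) : ∀ j : ℕ, (∀ i : Fin s, i.val < j → U i ≤ T) → partialSup A U j ≤ T
  | 0, _ => hA
  | j + 1, h => sup_le (partialSup_le A U T hA j fun i hi => h i (Nat.lt_succ_of_lt hi))
      (by split
          · exact h _ (Nat.lt_succ_self j)
          · exact bot_le)

theorem le_partialSup_base {s : ℕ} (A : Submodule F V) (U : Fin s → Submodule F V) :
    ∀ j : ℕ, A ≤ partialSup A U j
  | 0 => le_rfl
  | j + 1 => (le_partialSup_base A U j).trans le_sup_left

theorem le_partialSup {s : ℕ} (A : Submodule F V) (U : Fin s → Submodule F V) (i : Fin s) :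
    ∀ j : ℕ, i.val < j → U i ≤ partialSup A U j
  | 0, h => absurd h (Nat.not_lt_zero _)
  | j + 1, h => by
    rcases Nat.lt_succ_iff_lt_or_eq.mp h with h' | h'
    · exact (le_partialSup A U i j h').trans le_sup_left
    · refine le_trans ?_ le_sup_right
      rw [dif_pos (h' ▸ i.2)]
      subst h'; exact le_rfl

end

/-- Which dimensions of invariant subspaces a semisimple linear map has. Let `V` be a finite-dimensional vector space over a field `F` and `f` an invertible semisimple linear map of `V`. Suppose `V` is the internal direct sum of the fixed space `C_V(f)` (the eigenspace for 1) and subspaces `U_1, …, U_s`, each `f`-invariant of dimension `a ≥ 1` on which `f` acts irreducibly (no `f`-invariant subspaces other than 0 and `U_j`). Let `0 < m < dim V` and `ℓ = m mod a`. Then `f` leaves some `m`-dimensional subspace invariant if and only if `dim C_V(f) ≥ m`, or `a ≤ m` and `dim C_V(f) ≥ ℓ`. -/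
theorem result {F V : Type*} [Field F] [AddCommGroup V] [Module F V]
    [FiniteDimensional F V] (f : V →ₗ[F] V) (hf : Function.Bijective f) (hss : Module.End.IsSemisimple f)
    {s a : ℕ} (ha : 1 ≤ a) (U : Fin s → Submodule F V)
    (hUinv : ∀ j, (U j).map f ≤ U j) (hUdim : ∀ j, Module.finrank F ↥(U j) = a)
    (hUirr : ∀ j, ∀ W : Submodule F V, W ≤ U j → W.map f ≤ W → W = ⊥ ∨ W = U j)
    (hdec : DirectSum.IsInternal (fun o : Option (Fin s) => o.elim (Module.End.eigenspace f 1) U))
    (m : ℕ) (hm : 0 < m) (hmV : m < Module.finrank F V) :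
    (∃ W : Submodule F V, Module.finrank F ↥W = m ∧ W.map f ≤ W) ↔
    (m ≤ Module.finrank F ↥(Module.End.eigenspace f 1) ∨
      (a ≤ m ∧ m % a ≤ Module.finrank F ↥(Module.End.eigenspace f 1))) := by
  set C := Module.End.eigenspace f 1 with hC
  set T := partialSup C U with hT
  have hind := hdec.submodule_iSupIndep
  have hdisj : ∀ (A : Submodule F V), A ≤ C → ∀ j (h : j < s), Disjoint (partialSup A U j) (U ⟨j, h⟩) := by
    intro A hA j h
    refine Disjoint.mono_left ?_ (hind (some ⟨j, h⟩)).symm
    refine partialSup_le A U _ ?_ j fun i hi => ?_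
    · exact hA.trans (le_iSup₂_of_le (none : Option (Fin s)) (by simp) le_rfl)
    · exact le_iSup₂_of_le (some i) (by simp [Fin.ext_iff]; omega) le_rfl
  have hCinv : ∀ A : Submodule F V, A ≤ C → A.map f ≤ A := by
    rintro A hA _ ⟨v, hv, rfl⟩
    have := Module.End.mem_eigenspace_iff.mp (hA hv)
    rw [this, one_smul]; exact hv
  have hPinv : ∀ (A : Submodule F V), A ≤ C → ∀ j, (partialSup A U j).map f ≤ partialSup A U j := by
    intro A hA j
    induction j with
    | zero => exact hCinv A hA
    | succ j ih =>
      refine (Submodule.map_sup _ _ f).trans_le (sup_le_sup ih ?_)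
      split
      · exact hUinv _
      · simp
  have hdim : ∀ (A : Submodule F V), A ≤ C → ∀ j, j ≤ s →
      Module.finrank F (partialSup A U j) = Module.finrank F A + j * a := by
    intro A hA j
    induction j with
    | zero => intro _; rw [zero_mul, add_zero]; rfl
    | succ j ih =>
      intro hj
      have h : j < s := hj
      have hd := Submodule.finrank_sup_add_finrank_inf_eq (partialSup A U j) (U ⟨j, h⟩)
      rw [(hdisj A hA j h).eq_bot, finrank_bot, ih (by omega), hUdim] at hd
      have e : partialSup A U (j + 1) = partialSup A U j ⊔ U ⟨j, h⟩ := by simp [partialSup, h]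
      rw [e, Nat.succ_mul]; omega
  have htop : T s = ⊤ := by
    refine top_le_iff.mp (hdec.submodule_iSup_eq_top.symm.le.trans (iSup_le fun o => ?_))
    cases o with
    | none => exact le_partialSup_base C U s
    | some i => exact le_partialSup C U i s i.2
  have hV : Module.finrank F V = Module.finrank F C + s * a := by
    rw [← finrank_top F V, ← htop, hT, hdim C le_rfl s le_rfl]
  constructor
  · rintro ⟨W, hWm, hWinv⟩
    have key : ∀ j, j ≤ s → ∃ k J, Module.finrank F ↥(W ⊓ T j) = k + J * a ∧ k ≤ Module.finrank F C := by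
      intro j
      induction j with
      | zero => exact fun _ => ⟨Module.finrank F ↥(W ⊓ T 0), 0, by simp, Submodule.finrank_mono inf_le_right⟩
      | succ j ih =>
        intro hj
        have h : j < s := hj
        obtain ⟨k, J, hkJ, hk⟩ := ih (by omega)
        have hT1 : T (j + 1) = T j ⊔ U ⟨j, h⟩ := by simp [hT, partialSup, h]
        set X := W ⊓ T (j + 1) ⊔ T j with hX
        have hXinv : X.map f ≤ X := by
          rw [hX, Submodule.map_sup]
          exact sup_le_sup ((Submodule.map_inf_le _).trans (inf_le_inf hWinv (hPinv C le_rfl _))) (hPinv C le_rfl _)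
        have hle : T j ≤ T (j + 1) := hT1 ▸ le_sup_left
        have hXle : X ≤ T (j + 1) := sup_le inf_le_right hle
        have hsum := Submodule.finrank_sup_add_finrank_inf_eq (W ⊓ T (j + 1)) (T j)
        rw [inf_assoc, inf_eq_right.mpr hle, ← hX] at hsum
        have hmod : X = T j ⊔ U ⟨j, h⟩ ⊓ X := by
          calc X = (T j ⊔ U ⟨j, h⟩) ⊓ X := by rw [← hT1, inf_eq_right.mpr hXle]
            _ = _ := sup_inf_assoc_of_le _ le_sup_right
        rcases hUirr ⟨j, h⟩ (U ⟨j, h⟩ ⊓ X) inf_le_left
            ((Submodule.map_inf_le _).trans (inf_le_inf (hUinv _) hXinv)) with e | e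
        · rw [e, sup_bot_eq] at hmod
          exact ⟨k, J, by rw [hmod] at hsum; omega, hk⟩
        · rw [e, ← hT1] at hmod
          have hd : Module.finrank F ↥(T (j + 1)) = Module.finrank F ↥(T j) + a := by
            rw [hT, hdim C le_rfl _ hj, hdim C le_rfl _ (by omega), Nat.succ_mul]; omega
          exact ⟨k, J + 1, by rw [hmod] at hsum; rw [Nat.succ_mul]; omega, hk⟩
    obtain ⟨k, J, hkJ, hk⟩ := key s le_rfl
    rw [htop, inf_top_eq, hWm] at hkJ
    rcases Nat.eq_zero_or_pos J with hJ | hJ
    · left; rw [hJ] at hkJ; omega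
    · right
      refine ⟨by nlinarith, ?_⟩
      rw [hkJ, Nat.add_mul_mod_self_right]
      exact (Nat.mod_le _ _).trans hk
  · intro h
    obtain ⟨k, J, hkJ, hk, hJs⟩ : ∃ k J, m = k + J * a ∧ k ≤ Module.finrank F C ∧ J ≤ s := by
      rcases h with h | ⟨-, h⟩
      · exact ⟨m, 0, by simp, h, Nat.zero_le _⟩
      · by_cases hs : m / a ≤ s
        · refine ⟨m % a, m / a, ?_, h, hs⟩
          rw [add_comm, Nat.div_add_mod']
        · have : s * a ≤ m := (Nat.le_div_iff_mul_le (by omega)).mp (by omega)
          exact ⟨m - s * a, s, by omega, by omega, le_rfl⟩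
    obtain ⟨A, hA, hAk⟩ : ∃ A : Submodule F V, A ≤ C ∧ Module.finrank F A = k := by
      obtain ⟨b, hb⟩ := exists_linearIndependent_of_le_finrank (R := F) (M := C) hk
      refine ⟨(Submodule.span F (Set.range b)).map C.subtype, ?_, ?_⟩
      · exact Submodule.map_subtype_le _ _
      · rw [Submodule.finrank_map_subtype_eq, finrank_span_eq_card hb, Fintype.card_fin]
    exact ⟨partialSup A U J, by rw [hdim A hA J hJs, hAk, hkJ], hPinv A hA J⟩

end Cfsg.Agent.S5952
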