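import Cfsg.Statements.S5955
import Cfsg.Agent.LinearElements.SympTypes
import Cfsg.Agent.LinearElements.SympPairs
import Cfsg.Agent.Forms.SymplecticOrder

set_option autoImplicit false
open scoped MatrixGroups
open Cfsg

open CfsgLib.LinearElements Module Polynomial

namespace Cfsg.Agent.S5955

variable {F : Type*} [Field F]

/-- What a prime dividing the number of totally isotropic subspaces satisfies. -/
theorem count_facts [Fintype F] {p : ℕ} [Fact p.Prime] [CharP F p] {d m r : ℕ} [Fact r.Prime] (hm : 1 ≤ m) (hmd : m ≤ d)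
    (h : r ∣ Nat.card {W : Submodule F (Fin d ⊕ Fin d → F) // Module.finrank F ↥W = m ∧
      (∀ u ∈ W, ∀ v ∈ W, Cfsg.sympForm d F u v = 0)}) :
    r ≠ p ∧ ∃ l < m, r ∣ Fintype.card F ^ (2 * (d - l)) - 1 := by
  classical
  set B := CfsgLib.Forms.sympBilin d F
  set q := Fintype.card F
  have hA : B.IsAlt := CfsgLib.Forms.sympBilin_isAlt
  have hB : ∀ x, (∀ y, B x y = 0) → x = 0 := fun x hx => CfsgLib.Forms.sympBilin_nondegenerate.1 x hx
  have hn : finrank F (Fin d ⊕ Fin d → F) = 2 * d := CfsgLib.Forms.finrank_sympSpace d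
  have h1 := CfsgLib.Forms.card_isotropic_mul B m
  rw [CfsgLib.Forms.card_frames B (CfsgLib.Forms.alt_symm hA) (fun i => q ^ (2 * d - i) - q ^ i) m
    (fun i _ f hf => by rw [CfsgLib.Forms.card_frameExt_alt B hA hB hf, hn])] at h1
  have h2 : Nat.card {W : Submodule F (Fin d ⊕ Fin d → F) // Module.finrank F ↥W = m ∧
      (∀ u ∈ W, ∀ v ∈ W, B u v = 0)} = Nat.card {W : Submodule F (Fin d ⊕ Fin d → F) // Module.finrank F ↥W = m ∧
      (∀ u ∈ W, ∀ v ∈ W, Cfsg.sympForm d F u v = 0)} :=
    Nat.card_congr (Equiv.subtypeEquivRight fun W => by simp only [B, CfsgLib.Forms.sympBilin_apply])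
  rw [h2] at h1
  set N := Nat.card {W : Submodule F (Fin d ⊕ Fin d → F) // Module.finrank F ↥W = m ∧
      (∀ u ∈ W, ∀ v ∈ W, Cfsg.sympForm d F u v = 0)}
  have h3 : ∏ i ∈ Finset.range m, (q ^ (2 * d - i) - q ^ i) =
      (∏ i ∈ Finset.range m, q ^ i) * ∏ i ∈ Finset.range m, (q ^ (2 * (d - i)) - 1) := by
    rw [← Finset.prod_mul_distrib]
    refine Finset.prod_congr rfl fun i hi => ?_
    rw [Finset.mem_range] at hi
    rw [Nat.mul_sub, mul_one, ← pow_add]
    congr 2
    omega
  have h4 : ∏ i : Fin m, (q ^ m - q ^ (i : ℕ)) =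
      (∏ i ∈ Finset.range m, q ^ i) * ∏ i ∈ Finset.range m, (q ^ (m - i) - 1) := by
    rw [Fin.prod_univ_eq_prod_range (fun i => q ^ m - q ^ i), ← Finset.prod_mul_distrib]
    refine Finset.prod_congr rfl fun i hi => ?_
    rw [Finset.mem_range] at hi
    rw [Nat.mul_sub, mul_one, ← pow_add]
    congr 2
    omega
  rw [h3, h4, mul_left_comm] at h1
  have hpos : 0 < ∏ i ∈ Finset.range m, q ^ i := Finset.prod_pos fun i _ => pow_pos Fintype.card_pos i
  have h5 := Nat.eq_of_mul_eq_mul_left hpos h1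
  obtain ⟨l, hl, hrl⟩ := ((Fact.out : r.Prime).prime.dvd_finsetProd_iff _).mp (h5 ▸ h.mul_right _)
  rw [Finset.mem_range] at hl
  refine ⟨fun e => ?_, l, hl, hrl⟩
  obtain ⟨f, -, hf⟩ := FiniteField.card F p
  have h6 : p ∣ q ^ (2 * (d - l)) := by
    rw [show q = p ^ (f : ℕ) from hf, ← pow_mul]
    exact dvd_pow_self p (Nat.mul_ne_zero f.pos.ne' (by omega))
  subst e
  have h7 := Nat.dvd_sub h6 hrl
  rw [Nat.sub_sub_self (Nat.one_le_pow _ _ Fintype.card_pos), Nat.dvd_one] at h7
  exact (Fact.out : r.Prime).one_lt.ne' h7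

/-- The span of an isotropic family. -/
theorem span_isotropic {V ι : Type*} [AddCommGroup V] [Module F V] [Fintype ι] {B : LinearMap.BilinForm F V} {w : ι → V}
    (hw : ∀ a b, B (w a) (w b) = 0) :
    ∀ u ∈ Submodule.span F (Set.range w), ∀ v ∈ Submodule.span F (Set.range w), B u v = 0 := fun u hu v hv => by
  obtain ⟨c, rfl⟩ := (Submodule.mem_span_range_iff_exists_fun F).mp hu
  obtain ⟨c', rfl⟩ := (Submodule.mem_span_range_iff_exists_fun F).mp hv
  simp [hw]

/-- Involutions fix totally isotropic subspaces of every even dimension, and of every dimension if `-1` is a square. -/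
theorem fixes_two [Fintype F] (h2 : (2 : F) ≠ 0) {d m : ℕ} (hmd : m ≤ d) (hcond : Even m ∨ IsSquare (-1 : F))
    (x : ↥(Matrix.symplecticGroup (Fin d) F)) (hd : 0 < d)
    (hxr : ∃ z : F, ((x ^ 2 : ↥(Matrix.symplecticGroup (Fin d) F)) : Matrix (Fin d ⊕ Fin d) (Fin d ⊕ Fin d) F) =
      z • (1 : Matrix (Fin d ⊕ Fin d) (Fin d ⊕ Fin d) F)) :
    ∃ W : Submodule F (Fin d ⊕ Fin d → F), Module.finrank F ↥W = m ∧
      (∀ u ∈ W, ∀ v ∈ W, Cfsg.sympForm d F u v = 0) ∧
      W.map (Matrix.toLin' (x : Matrix (Fin d ⊕ Fin d) (Fin d ⊕ Fin d) F)) ≤ W := by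
  classical
  obtain ⟨z, hz⟩ := hxr
  set B := CfsgLib.Forms.sympBilin d F
  set g : Module.End F (Fin d ⊕ Fin d → F) := Matrix.toLin' (x : Matrix (Fin d ⊕ Fin d) (Fin d ⊕ Fin d) F)
  have hA : B.IsAlt := CfsgLib.Forms.sympBilin_isAlt
  have hgB : ∀ u v, B (g u) (g v) = B u v := toLin_isometry x
  have hgg : ∀ v, g (g v) = z • v := fun v => by
    rw [← Module.End.mul_apply, ← pow_two, toLin_pow, hz, map_smul, Matrix.toLin'_one]; rfl
  have hB : ∀ v, (∀ y, B v y = 0) → v = 0 := fun v hv => CfsgLib.Forms.sympBilin_nondegenerate.1 v hv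
  have hdim : finrank F (Fin d ⊕ Fin d → F) = 2 * d := CfsgLib.Forms.finrank_sympSpace d
  have hz1 : z * z = 1 := by
    obtain ⟨y, -, hy⟩ := sepOn_top (d := d) (F := F) (Pi.single (Sum.inl ⟨0, hd⟩) 1) trivial (by simp)
    have h1 := hgB (g (Pi.single (Sum.inl ⟨0, hd⟩) 1)) (g y)
    rw [hgg, hgg, hgB, map_smul, map_smul, LinearMap.smul_apply, smul_eq_mul, smul_eq_mul] at h1
    exact mul_right_cancel₀ hy (by linear_combination h1)
  suffices ∃ (ι : Type) (_ : Fintype ι) (w : ι → (Fin d ⊕ Fin d → F)), Fintype.card ι = m ∧ LinearIndependent F w ∧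
      (∀ a b, B (w a) (w b) = 0) ∧ ∀ a, g (w a) ∈ Submodule.span F (Set.range w) by
    obtain ⟨ι, hι, w, hcard, hli, hiso, hinv⟩ := this
    refine ⟨Submodule.span F (Set.range w), by rw [finrank_span_eq_card hli, hcard], fun u hu v hv => ?_, ?_⟩
    · rw [← CfsgLib.Forms.sympBilin_apply]; exact span_isotropic hiso u hu v hv
    · rw [Submodule.map_span, Submodule.span_le]
      rintro _ ⟨_, ⟨a, rfl⟩, rfl⟩
      exact hinv a
  rcases mul_self_eq_one_iff.mp hz1 with rfl | rfl
  · obtain ⟨u, v, s, huu, hvv, huv, -, hact⟩ := exists_pair_frame_involution hA hgB h2 (fun v => by rw [hgg, one_smul])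
      hB hdim (fun _ => 1) fun _ => one_ne_zero
    refine ⟨Fin m, inferInstance, fun k => u (Fin.castLE hmd k), Fintype.card_fin m, ?_, fun a b => huu _ _, fun a => ?_⟩
    · rw [Fintype.linearIndependent_iff]
      intro c hc k
      have h1 := congrArg (fun y => B y (v (Fin.castLE hmd k))) hc
      simpa [huv, (Fin.castLE_injective hmd).eq_iff] using h1
    · rw [(hact _).1]
      exact Submodule.smul_mem _ _ (Submodule.subset_span ⟨a, rfl⟩)
  obtain ⟨u, v, huu, hvv, huv, hact⟩ := exists_pair_frame_quarter hA hgB h2 (fun v => by rw [hgg, neg_one_smul])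
    hB hdim (fun _ => 1) fun _ => one_ne_zero
  have hvu : ∀ i j, B (v i) (u j) = -if j = i then 1 else 0 := fun i j => by rw [pair_alt hA, huv]
  by_cases hsq : IsSquare (-1 : F)
  · obtain ⟨μ, hμ⟩ := hsq
    refine ⟨Fin m, inferInstance, fun k => u (Fin.castLE hmd k) + μ • v (Fin.castLE hmd k), Fintype.card_fin m, ?_,
      fun a b => ?_, fun a => ?_⟩
    · rw [Fintype.linearIndependent_iff]
      intro c hc k
      have h1 := congrArg (fun y => B y (v (Fin.castLE hmd k))) hc
      simpa [huv, hvv, (Fin.castLE_injective hmd).eq_iff] using h1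
    · simp only [map_add, map_smul, LinearMap.add_apply, LinearMap.smul_apply, huu, huv, hvv, hvu, smul_eq_mul,
        eq_comm (a := Fin.castLE hmd a)]
      ring
    · have h1 : g (u (Fin.castLE hmd a) + μ • v (Fin.castLE hmd a)) =
          (-μ) • (u (Fin.castLE hmd a) + μ • v (Fin.castLE hmd a)) := by
        rw [map_add, map_smul, (hact _).1, (hact _).2, smul_add, smul_smul, neg_mul, ← hμ, neg_neg, one_smul]
        simp [add_comm]
      rw [h1]
      exact Submodule.smul_mem _ _ (Submodule.subset_span ⟨a, rfl⟩)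
  obtain ⟨h, rfl⟩ := hcond.resolve_right hsq
  obtain ⟨a, b, hab⟩ := CfsgLib.Forms.exists_diag_binary h2 (one_ne_zero (α := F)) one_ne_zero (-1)
  let e0 : Fin h → Fin d := fun k => ⟨2 * k, by omega⟩
  let e1 : Fin h → Fin d := fun k => ⟨2 * k + 1, by omega⟩
  have he00 : ∀ k l, e0 k = e0 l ↔ k = l := fun k l => by simp only [e0, Fin.ext_iff]; omega
  have he11 : ∀ k l, e1 k = e1 l ↔ k = l := fun k l => by simp only [e1, Fin.ext_iff]; omega
  have he01 : ∀ k l, e0 k ≠ e1 l := fun k l => by simp only [ne_eq, e0, e1, Fin.ext_iff]; omega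
  let w : Fin h ⊕ Fin h → (Fin d ⊕ Fin d → F) :=
    Sum.elim (fun k => u (e0 k) + a • u (e1 k) + b • v (e1 k)) (fun k => v (e0 k) + a • v (e1 k) - b • u (e1 k))
  refine ⟨_, inferInstance, w, by simp, ?_, ?_, ?_⟩
  · rw [Fintype.linearIndependent_iff]
    intro c hc
    have hl : ∀ k, c (Sum.inl k) = 0 := fun k => by
      have h1 := congrArg (fun y => B y (v (e0 k))) hc
      simpa [w, huu, huv, hvv, hvu, he00, he11, he01, (fun k l => (he01 k l).symm)] using h1
    have hr : ∀ k, c (Sum.inr k) = 0 := fun k => by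
      have h1 := congrArg (fun y => B y (u (e0 k))) hc
      simpa [w, huu, huv, hvv, hvu, he00, he11, he01, (fun k l => (he01 k l).symm)] using h1
    rintro (k | k)
    · exact hl k
    · exact hr k
  · have hab' : a * a + b * b = -1 := by linear_combination hab
    rintro (k | k) (l | l) <;>
      simp [w, huu, huv, hvv, hvu, he00, he11, he01, (fun k l => (he01 k l).symm)] <;>
      (by_cases hkl : k = l <;> simp [hkl, eq_comm] <;>
        first | ring1 | linear_combination hab' | linear_combination -hab')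
  · rintro (k | k)
    · have h1 : g (w (Sum.inl k)) = w (Sum.inr k) := by
        simp only [w, Sum.elim_inl, Sum.elim_inr, map_add, map_smul, (hact _).1, (hact _).2, smul_neg]
        abel
      rw [h1]; exact Submodule.subset_span ⟨_, rfl⟩
    · have h1 : g (w (Sum.inr k)) = -w (Sum.inl k) := by
        simp only [w, Sum.elim_inl, Sum.elim_inr, map_sub, map_add, map_smul, (hact _).1, (hact _).2, smul_neg]
        abel
      rw [h1]; exact Submodule.neg_mem _ (Submodule.subset_span ⟨_, rfl⟩)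


/-- Elements of prime order of PSp_n(q) with no fixed totally isotropic `m`-space. Here `T = PSp_n(q)` with `n = 2d ≥ 4`, `(n, q) ≠ (4, 2)`, realised through the symplectic matrices over the field `F` with `q` elements (preserving the standard alternating form); an element of `T` of prime order `r` is such a matrix `x` with `x^r` scalar and `x` not scalar. For `r ≠ p` let `i` be the multiplicative order of `q` modulo `r`, `c = i` for `i` even and `c = 2i` for `i` odd, and write `k = n mod c`, `ℓ = m mod i`, `ℓ' = m mod c`, `n' = ⌊n/i⌋`, `m' = ⌊m/i⌋`, `t = (r−1)/i`. Let `1 ≤ m ≤ n/2` and let `r` be a prime dividing the number of totally isotropic `m`-spaces. Then every element of `T` of order `r` fixes a totally isotropic `m`-space if and only if either (i) `r = 2 ≠ p` and (`m` is even or `q ≡ 1 (mod 4)`); or (ii) `r ≠ p`, `r > 2`, `i ≤ m`, `k ≥ 2ℓ`, and (`i` is odd or `n' − 2m' ≥ t`). -/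
theorem result {F : Type*} [Field F] [Fintype F] {p : ℕ} [Fact p.Prime] [CharP F p] {q : ℕ} (hq : Fintype.card F = q)
    (d m : ℕ) (hd : 2 ≤ d) (hT : (d, q) ≠ (2, 2)) (hm : 1 ≤ m) (hmd : m ≤ d)
    (r : ℕ) [Fact r.Prime]
    (hrΩ : r ∣ Nat.card {W : Submodule F (Fin d ⊕ Fin d → F) // Module.finrank F ↥W = m ∧ (∀ u ∈ W, ∀ v ∈ W, Cfsg.sympForm d F u v = 0)})
    (i c : ℕ) (hi : i = orderOf (q : ZMod r)) (hc : c = if Even i then i else 2 * i) :
    (∀ x : ↥(Matrix.symplecticGroup (Fin d) F),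
      (∃ z : F, ((x ^ r : ↥(Matrix.symplecticGroup (Fin d) F)) : Matrix (Fin d ⊕ Fin d) (Fin d ⊕ Fin d) F) = z • (1 : Matrix (Fin d ⊕ Fin d) (Fin d ⊕ Fin d) F)) →
      (∀ z : F, (x : Matrix (Fin d ⊕ Fin d) (Fin d ⊕ Fin d) F) ≠ z • (1 : Matrix (Fin d ⊕ Fin d) (Fin d ⊕ Fin d) F)) →
      ∃ W : Submodule F (Fin d ⊕ Fin d → F), Module.finrank F ↥W = m ∧ (∀ u ∈ W, ∀ v ∈ W, Cfsg.sympForm d F u v = 0) ∧
        W.map (Matrix.toLin' (x : Matrix (Fin d ⊕ Fin d) (Fin d ⊕ Fin d) F)) ≤ W) ↔
    ((r = 2 ∧ p ≠ 2 ∧ (Even m ∨ q % 4 = 1)) ∨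
     (r ≠ p ∧ 2 < r ∧ i ≤ m ∧ 2 * (m % i) ≤ (2 * d) % c ∧ (Odd i ∨ (r - 1) / i + 2 * (m / i) ≤ (2 * d) / i))) := by
  classical
  subst hq
  subst hi
  have hr := (Fact.out : r.Prime)
  obtain ⟨hrp, l, hlm, hrl⟩ := count_facts (p := p) hm hmd hrΩ
  have hq0 := cast_card_ne_zero (F := F) hrp
  have hrF : (r : F) ≠ 0 := fun e0 => by
    rw [CharP.cast_eq_zero_iff F p] at e0
    exact hrp ((Nat.prime_dvd_prime_iff_eq Fact.out hr).mp e0).symm
  by_cases hr2 : r = 2
  · subst hr2
    have hp2 : p ≠ 2 := fun e => hrp e.symm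
    have h2 : (2 : F) ≠ 0 := by exact_mod_cast hrF
    have hodd : Fintype.card F % 2 = 1 := FiniteField.odd_card_of_char_ne_two fun e => h2 (by
      haveI := ringChar.eq_iff.1 e; exact CharTwo.two_eq_zero)
    have hsq : IsSquare (-1 : F) ↔ Fintype.card F % 4 = 1 := by
      rw [FiniteField.isSquare_neg_one_iff]; omega
    constructor
    · intro hall
      refine Or.inl ⟨rfl, hp2, ?_⟩
      by_contra hno
      push Not at hno
      obtain ⟨hmo, hq4⟩ := hno
      let x : ↥(Matrix.symplecticGroup (Fin d) F) := SymplecticGroup.symJ (Fin d) F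
      have hx2 : (x ^ 2 : ↥(Matrix.symplecticGroup (Fin d) F)).1 = (-1 : F) • (1 : Matrix (Fin d ⊕ Fin d) (Fin d ⊕ Fin d) F) := by
        rw [SubmonoidClass.coe_pow, pow_two, neg_one_smul]
        exact Matrix.J_squared (Fin d) F
      obtain ⟨W, hWd, -, hWx⟩ := hall x ⟨-1, hx2⟩ fun z hz => by
        have h1 := congrFun (congrFun hz (Sum.inr ⟨0, by omega⟩)) (Sum.inl ⟨0, by omega⟩)
        simp [x, SymplecticGroup.symJ, Matrix.J] at h1
      set g : Module.End F (Fin d ⊕ Fin d → F) := Matrix.toLin' (x : Matrix (Fin d ⊕ Fin d) (Fin d ⊕ Fin d) F)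
      let gW : Module.End F W := g.restrict (p := W) (q := W) fun v hv => hWx ⟨v, hv, rfl⟩
      have hgW : gW * gW = (-1 : F) • 1 := LinearMap.ext fun v => Subtype.ext (by
        show g (g (v : Fin d ⊕ Fin d → F)) = (-1 : F) • (v : Fin d ⊕ Fin d → F)
        rw [← Module.End.mul_apply, ← pow_two, toLin_pow, hx2, map_smul, Matrix.toLin'_one]; rfl)
      have h1 := congrArg LinearMap.det hgW
      rw [map_mul, LinearMap.det_smul, map_one, mul_one, hWd] at h1
      rw [(Nat.not_even_iff_odd.mp hmo).neg_one_pow] at h1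
      exact hq4 (hsq.mp ⟨_, h1.symm⟩)
    · rintro (⟨-, -, hcond⟩ | ⟨-, h, -⟩) x hxr -
      · exact fixes_two h2 hmd (hcond.imp id hsq.mpr) x (by omega) hxr
      · omega
  -- odd primes
  have hr3 : 2 < r := lt_of_le_of_ne hr.two_le (Ne.symm hr2)
  set i := orderOf (Fintype.card F : ZMod r) with hi
  have hcdvd : c ∣ 2 * (d - l) := by
    have h1 : i ∣ 2 * (d - l) := by
      rw [hi, orderOf_dvd_iff_pow_eq_one]
      have h0 := (ZMod.natCast_eq_zero_iff _ _).mpr hrl
      rw [Nat.cast_sub (Nat.one_le_pow _ _ Fintype.card_pos), Nat.cast_pow, Nat.cast_one, sub_eq_zero] at h0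
      exact h0
    rw [hc]; split_ifs with h
    · exact h1
    · exact Nat.mul_dvd_mul_left 2 ((Nat.Coprime.dvd_mul_left (Nat.coprime_two_right.mpr (Nat.not_even_iff_odd.mp h))).mp h1)
  have hdvd : r ∣ Nat.card (Matrix.symplecticGroup (Fin d) F) := by
    rw [CfsgLib.Forms.card_symplecticGroup]
    refine dvd_mul_of_dvd_right (hrl.trans ?_) _
    have := Finset.dvd_prod_of_mem (fun j => Fintype.card F ^ (2 * (j + 1)) - 1)
      (Finset.mem_range.mpr (show d - l - 1 < d by omega))
    rwa [Nat.sub_add_cancel (show 1 ≤ d - l by omega)] at this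
  have hipos : 0 < i := orderOf_pos_iff.mpr (isOfFinOrder_iff_pow_eq_one.mpr
    ⟨r - 1, by omega, ZMod.pow_card_sub_one_eq_one hq0⟩)
  have hcpos : 0 < c := atom_dim_pos hq0 hc
  have hk2m : (2 * d) % c < 2 * m := by
    obtain ⟨u, hu⟩ := hcdvd
    rw [show 2 * d = 2 * l + c * u by omega, Nat.add_mul_mod_self_left]
    exact (Nat.mod_le _ _).trans_lt (by omega)
  set B := CfsgLib.Forms.sympBilin d F
  have hA : B.IsAlt := CfsgLib.Forms.sympBilin_isAlt
  have hV : finrank F (Fin d ⊕ Fin d → F) = 2 * d := CfsgLib.Forms.finrank_sympSpace d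
  obtain ⟨hcn, hmodel⟩ := exists_symp_model (F := F) hrp hr2 hdvd hc
  have hml : m = m / i * i + m % i := by rw [mul_comm]; exact (Nat.div_add_mod m i).symm
  constructor
  · intro hall
    -- in a model, the isotropic invariant subspace given by the hypothesis
    have hget : ∀ x : ↥(Matrix.symplecticGroup (Fin d) F), x ^ r = 1 → x ≠ 1 →
        ∃ W : Submodule F (Fin d ⊕ Fin d → F), Module.finrank F ↥W = m ∧
          (∀ u ∈ W, ∀ v ∈ W, Cfsg.sympForm d F u v = 0) ∧
          InvBy (Matrix.toLin' (x : Matrix (Fin d ⊕ Fin d) (Fin d ⊕ Fin d) F)) W := fun x hx hx1 => by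
      obtain ⟨W, h1, h2, h3⟩ := hall x ⟨1, by rw [hx, one_smul]; rfl⟩ fun z hz => hx1 (by
        obtain ⟨g, hg, -, ⟨z', hz', hg'⟩, -⟩ := exists_normalised hr2 (by omega) x ⟨1, by rw [hx, one_smul]; rfl⟩
        have hz1 : z * z = 1 ∧ z ^ r = 1 := by
          refine ⟨?_, ?_⟩
          · set w : Fin d ⊕ Fin d → F := Pi.single (Sum.inl ⟨0, by omega⟩) 1
            obtain ⟨y, -, hy⟩ := sepOn_top (d := d) (F := F) w trivial (by simp [w])
            have h2 := toLin_isometry x w y
            rw [hz, map_smul, Matrix.toLin'_one] at h2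
            simp only [LinearMap.smul_apply, LinearMap.id_coe, id_eq, map_smul, smul_eq_mul] at h2
            exact mul_right_cancel₀ hy (by linear_combination h2)
          · have h5 := congrFun (congrFun (congrArg Subtype.val hx) (Sum.inl ⟨0, by omega⟩)) (Sum.inl ⟨0, by omega⟩)
            rw [SubmonoidClass.coe_pow, hz, _root_.smul_pow, one_pow, OneMemClass.coe_one] at h5
            simpa using h5
        obtain ⟨k, hk⟩ := hr.odd_of_ne_two hr2
        have h4 := hz1.2
        rw [hk, pow_succ, pow_mul, pow_two, hz1.1, one_pow, one_mul] at h4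
        exact Subtype.ext (by rw [hz, h4, one_smul]; rfl))
      exact ⟨W, h1, h2, invBy_iff_map_le.mpr h3⟩
    refine Or.inr ⟨hrp, hr3, ?_⟩
    -- the model with the largest moved part
    obtain ⟨f, s, hfs, hfk, hsn⟩ : ∃ f s, m = f + s * i ∧ 2 * f ≤ (2 * d) % c ∧ 2 * (s * i) + (2 * d) % c ≤ 2 * d := by
      obtain ⟨x, hx, hfix⟩ := hmodel (2 * d / c) (Nat.div_mul_le_self _ _)
      have hfix' : finrank F (fixedIn (Matrix.toLin' (x : Matrix (Fin d ⊕ Fin d) (Fin d ⊕ Fin d) F)) ⊤) = (2 * d) % c := by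
        have := Nat.div_add_mod (2 * d) c
        rw [mul_comm] at this
        omega
      obtain ⟨W, hWd, hWi, hWx⟩ := hget x hx fun e => by
        rw [e, OneMemClass.coe_one, Matrix.toLin'_one] at hfix'
        rw [show fixedIn (LinearMap.id : Module.End F (Fin d ⊕ Fin d → F)) ⊤ = ⊤ from eq_top_iff.mpr fun v _ =>
          mem_fixedIn.mpr ⟨trivial, rfl⟩, finrank_top, hV] at hfix'
        have := Nat.mod_lt (2 * d) hcpos
        omega
      obtain ⟨f, s, h1, h2, h3⟩ := isotropic_split hA (toLin_isometry x) (by rw [toLin_pow, hx]; exact Matrix.toLin'_one)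
        hrF hq0 sepOn_top hWx fun u hu v hv => by rw [CfsgLib.Forms.sympBilin_apply]; exact hWi u hu v hv
      exact ⟨f, s, by rw [← hWd, h1], hfix' ▸ h2, by rw [hfix', hV] at h3; exact h3⟩
    have hkc : (2 * d) % c < c := Nat.mod_lt _ hcpos
    have hfi : f < i := by rw [hc] at hkc hfk; split_ifs at hkc hfk <;> omega
    have hfl : f = m % i := by rw [hfs, Nat.add_mul_mod_self_right, Nat.mod_eq_of_lt hfi]
    have hs : s = m / i := by rw [hfs, Nat.add_mul_div_right _ _ hipos, Nat.div_eq_of_lt hfi, Nat.zero_add]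
    subst hfl
    subst hs
    have him : i ≤ m := by
      by_contra hlt
      rw [Nat.mod_eq_of_lt (not_le.mp hlt)] at hfk
      omega
    refine ⟨him, hfk, ?_⟩
    by_contra hno
    push Not at hno
    obtain ⟨hio, hlt⟩ := hno
    have hie : Even i := Nat.not_odd_iff_even.mp hio
    have hci : c = i := by rw [hc, if_pos hie]
    have hn' := Nat.div_add_mod (2 * d) i
    rw [hci] at hkc hfk hsn
    rw [mul_comm] at hn'
    have hm1 : 1 ≤ m / i := Nat.div_pos him hipos
    have h2m : 2 * (m / i) ≤ 2 * d / i := by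
      rw [Nat.le_div_iff_mul_le hipos, Nat.mul_assoc]
      omega
    -- a model with enough different types of atoms
    obtain ⟨D, hD⟩ : ∃ D, 2 * d / i = 2 * (m / i) + D := ⟨2 * d / i - 2 * (m / i), by omega⟩
    have hDt : D + 1 ≤ (r - 1) / i := by omega
    obtain ⟨m0, f, hm0, hf1, hfX, hfco, hpiece⟩ := exists_typed_atoms (F := F) hrp hr2 hdvd hie
    rw [← hi] at hm0
    have hti : (r - 1) / orderOf (Fintype.card F : ZMod r) = (r - 1) / i := rfl
    set J := 2 * (m / i) - 1
    let S : ℕ → Finset (Fin ((r - 1) / i)) := fun k => Finset.univ.filter fun a => (a : ℕ) ≤ k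
    have hbig : ∀ k, k ≤ D → Piece r ((J + k) * m0) (∏ a ∈ S k, f a) ((m / i - 1) * i) := by
      intro k
      induction k with
      | zero =>
        intro _
        have hS0 : S 0 = {⟨0, by omega⟩} := by ext a; simp [S, Fin.ext_iff]
        rw [hS0, Finset.prod_singleton, Nat.add_zero]
        obtain ⟨A, hA1, hA2⟩ := (hpiece ⟨0, by omega⟩).repeat J
        refine ⟨A, hA1, hA2, isoBound_round hq0 (by rw [toLin_pow, hA1]; exact Matrix.toLin'_one) hA2 (hf1 _)
          (isoBound_half _) ?_⟩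
        show J * m0 < (m / i - 1 + 1) * i
        rw [Nat.sub_add_cancel hm1]
        have h1 := Nat.mul_lt_mul_of_pos_right (show J < 2 * (m / i) by omega) hipos
        have h2 : J * i = 2 * (J * m0) := by rw [← hm0]; ring
        rw [Nat.mul_assoc] at h1
        omega
      | succ k ih =>
        intro hk
        have ha : k + 1 < (r - 1) / i := by omega
        have hS : S (k + 1) = insert ⟨k + 1, ha⟩ (S k) := by ext a; simp [S, Fin.ext_iff]; omega
        rw [hS, Finset.prod_insert (by simp [S]), mul_comm (f _), ← Nat.add_assoc]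
        have h1 := (ih (by omega)).add (hpiece ⟨k + 1, ha⟩) (IsCoprime.prod_left fun a ha' => hfco _ _ (fun e => by
          simp [S, e] at ha')) (d := (J + k + 1) * m0) (Nat.succ_mul _ _).symm
        rwa [Nat.add_zero] at h1
    have hK : (J + D) * m0 ≤ d := by
      have h1 : (J + D) * i ≤ (2 * d / i) * i := Nat.mul_le_mul_right i (by omega)
      have h2 : (J + D) * i = 2 * ((J + D) * m0) := by rw [← hm0]; ring
      omega
    have hfix : Piece (F := F) r (d - (J + D) * m0) (X - C 1) (d - (J + D) * m0) := by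
      refine ⟨1, one_pow r, ?_, isoBound_half _⟩
      rw [OneMemClass.coe_one, Matrix.toLin'_one]
      simp
      exact sub_self (1 : Module.End F (Fin (d - (J + D) * m0) ⊕ Fin (d - (J + D) * m0) → F))
    obtain ⟨x, hx, hxf, hxb⟩ := (hbig D le_rfl).add hfix (IsCoprime.prod_left fun a _ => hfX a)
      (Nat.add_sub_cancel' hK)
    obtain ⟨W, hWd, hWi, hWx⟩ := hget x hx fun e => by
      rw [e, OneMemClass.coe_one, Matrix.toLin'_one] at hxb
      obtain ⟨Z, -, hZd, hZiso⟩ := exists_isotropic_sub hA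
        (sepOn_top (d := d) (F := F)) (f := m) (by rw [finrank_top, hV]; omega)
      have := hxb Z (fun v hv => hv) fun u hu v hv => by
        rw [← CfsgLib.Forms.sympBilin_apply]; exact hZiso u hu v hv
      rw [hZd] at this
      have h1 : (J + D + 1) * i = (2 * d / i) * i := by rw [show J + D + 1 = 2 * d / i by omega]
      have h2 : (J + D) * i = 2 * ((J + D) * m0) := by rw [← hm0]; ring
      rw [Nat.succ_mul] at h1
      rw [Nat.sub_mul, one_mul] at this
      have : i ≤ m / i * i := Nat.le_mul_of_pos_left i hm1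
      omega
    have hb := hxb W hWx hWi
    rw [hWd, Nat.sub_mul, one_mul] at hb
    have h1 : (J + D + 1) * i = (2 * d / i) * i := by rw [show J + D + 1 = 2 * d / i by omega]
    have h2 : (J + D) * i = 2 * ((J + D) * m0) := by rw [← hm0]; ring
    rw [Nat.succ_mul] at h1
    have : i ≤ m / i * i := Nat.le_mul_of_pos_left i hm1
    omega
  · rintro (⟨h, -⟩ | ⟨-, -, him, hk, hcond⟩) x hxr hns
    · exact absurd h hr2
    obtain ⟨g, hg, hgB, -, hmap⟩ := exists_normalised hr2 (by omega) x hxr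
    obtain ⟨M, -, hM, hMs, hM0, horth, hd'⟩ := exists_moving hA hgB hg hr.pos hrF (invBy_top (g := g)) sepOn_top
    obtain ⟨j, hj⟩ := dvd_finrank_moved hA hgB hg hr2 hrF hq0 hc (invBy_top (g := g)) sepOn_top
    rw [finrank_top, hV] at hd' hj
    set e := finrank F (fixedIn g (⊤ : Submodule F (Fin d ⊕ Fin d → F)))
    have hek : (2 * d) % c ≤ e := by rw [hj, Nat.add_mul_mod_self_right]; exact Nat.mod_le _ _
    obtain ⟨s, hcs, hsm, hrest⟩ : ∃ s, (Odd i ∧ 2 * s * i ≤ finrank F M ∨
        s = 0 ∨ 2 * (s - 1) * i + (r - 1) < finrank F M) ∧ s * i ≤ m ∧ 2 * (m - s * i) ≤ e := by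
      by_cases hio : Odd i
      · have hci : c = 2 * i := by rw [hc, if_neg (Nat.not_even_iff_odd.mpr hio)]
        have hMd : finrank F M = 2 * (j * i) := by rw [hci, mul_left_comm] at hj; omega
        rcases le_total j (m / i) with h | h
        · refine ⟨j, Or.inl ⟨hio, by rw [hMd, Nat.mul_assoc]⟩, (Nat.mul_le_mul_right i h).trans (Nat.div_mul_le_self _ _), ?_⟩
          rw [hci, mul_left_comm] at hj
          have := (Nat.mul_le_mul_right i h).trans (Nat.div_mul_le_self m i)
          omega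
        · refine ⟨m / i, Or.inl ⟨hio, ?_⟩, Nat.div_mul_le_self _ _, ?_⟩
          · rw [hMd, Nat.mul_assoc]; exact Nat.mul_le_mul_left 2 (Nat.mul_le_mul_right i h)
          · omega
      · have hci : c = i := by rw [hc, if_pos (Nat.not_odd_iff_even.mp hio)]
        have hcond' := hcond.resolve_left hio
        set T := (r - 1) / i
        have hTr : T * i = r - 1 := Nat.div_mul_cancel (orderOf_dvd_of_pow_eq_one (ZMod.pow_card_sub_one_eq_one hq0))
        have hMd : finrank F M = j * i := by rw [hci] at hj; omega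
        rw [hci] at hk hj hek
        rcases le_total ((j + 1 - T) / 2) (m / i) with h | h
        · set s := (j + 1 - T) / 2
          refine ⟨s, Or.inr ?_, (Nat.mul_le_mul_right i h).trans (Nat.div_mul_le_self _ _), ?_⟩
          · rcases Nat.eq_zero_or_pos s with hs | hs
            · exact Or.inl hs
            · refine Or.inr ?_
              rw [hMd, ← hTr, ← Nat.add_mul]
              exact Nat.mul_lt_mul_of_pos_right (by omega) hipos
          · have h1 : j * i ≤ (2 * s + T) * i := Nat.mul_le_mul_right i (by omega)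
            have h2 : (T + 2 * (m / i)) * i ≤ (2 * d / i) * i := Nat.mul_le_mul_right i hcond'
            have h3 := Nat.div_add_mod (2 * d) i
            rw [mul_comm] at h3
            simp only [Nat.add_mul, Nat.mul_assoc] at h1 h2
            have := (Nat.mul_le_mul_right i h).trans (Nat.div_mul_le_self m i)
            omega
        · refine ⟨m / i, Or.inr ?_, Nat.div_mul_le_self _ _, ?_⟩
          · rcases Nat.eq_zero_or_pos (m / i) with hs | hs
            · exact Or.inl hs
            · refine Or.inr ?_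
              rw [hMd, ← hTr, ← Nat.add_mul]
              exact Nat.mul_lt_mul_of_pos_right (by omega) hipos
          · omega
    obtain ⟨Z1, hZ1M, hZ1, hZ1d, hZ1iso⟩ := exists_isotropic_sum hA hgB hg hq0 hr2 hrF s M hM hMs hM0 hcs
    have hfs := sepOn_fixedIn hA hgB hg hr.pos hrF (invBy_top (g := g)) sepOn_top
    obtain ⟨Z2, hZ2F, hZ2d, hZ2iso⟩ := exists_isotropic_sub hA hfs hrest
    have hZ2 : InvBy g Z2 := fun v hv => by rw [(mem_fixedIn.mp (hZ2F hv)).2]; exact hv
    refine ⟨Z2 ⊔ Z1, ?_, ?_, (hmap _ (hZ2.sup hZ1)).le⟩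
    · rw [finrank_sup_of_disjoint (le_bot_iff.mp ((inf_le_inf hZ2F hZ1M).trans (sepOn_disjoint hA hfs horth).le)),
        hZ2d, hZ1d, ← hi]
      omega
    · intro a ha b hb
      obtain ⟨a2, ha2, a1, ha1, rfl⟩ := Submodule.mem_sup.mp ha
      obtain ⟨b2, hb2, b1, hb1, rfl⟩ := Submodule.mem_sup.mp hb
      have h1 : B a1 b2 = 0 := by rw [← LinearMap.IsAlt.neg hA b2 a1, horth b2 (hZ2F hb2) a1 (hZ1M ha1), neg_zero]
      rw [← CfsgLib.Forms.sympBilin_apply]
      simp [hZ2iso a2 ha2 b2 hb2, hZ1iso a1 ha1 b1 hb1, h1, horth a2 (hZ2F ha2) b1 (hZ1M hb1), B]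

end Cfsg.Agent.S5955
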