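import Cfsg.Statements.S5956
import Cfsg.Agent.LinearElements.SympNondeg
import Cfsg.Agent.LinearElements.SympUnipotent
import Cfsg.Agent.OrthPartition.Basic

set_option autoImplicit false
open scoped MatrixGroups
open Cfsg

namespace Cfsg.Agent.S5956

open CfsgLib.LinearElements Module

variable {F : Type*} [Field F] {d : ℕ}

/-- The first pairs of an invariant frame span an invariant nondegenerate subspace. -/
theorem exists_sub_of_pairs {h : ℕ} (hh : h ≤ d) {g : Module.End F (Fin d ⊕ Fin d → F)}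
    {u v : Fin d → (Fin d ⊕ Fin d → F)} (huu : ∀ i j, CfsgLib.Forms.sympBilin d F (u i) (u j) = 0)
    (hvv : ∀ i j, CfsgLib.Forms.sympBilin d F (v i) (v j) = 0)
    (huv : ∀ i j, CfsgLib.Forms.sympBilin d F (u i) (v j) = if i = j then 1 else 0)
    (hu : ∀ j, g (u j) ∈ Submodule.span F {u j, v j}) (hv : ∀ j, g (v j) ∈ Submodule.span F {u j, v j}) :
    ∃ W : Submodule F (Fin d ⊕ Fin d → F), finrank F W = 2 * h ∧ SepOn (CfsgLib.Forms.sympBilin d F) W ∧ InvBy g W := by
  let c : Fin h → Fin d := Fin.castLE hh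
  obtain ⟨f, hf, hr⟩ := exists_iso_emb (u := u ∘ c) (v := v ∘ c) (fun i j => huu _ _) (fun i j => hvv _ _)
    (fun i j => by simp [huv, c, (Fin.castLE_injective hh).eq_iff])
  obtain ⟨hs, hd, -⟩ := range_iso_emb f hf
  refine ⟨_, hd, hs, invBy_iff_map_le.mpr ?_⟩
  rw [hr, Submodule.map_span, Submodule.span_le]
  rintro _ ⟨_, ⟨i, rfl⟩, rfl⟩
  have hle : ∀ j, Submodule.span F {u (c j), v (c j)} ≤ Submodule.span F (Set.range (Sum.elim (v ∘ c) (u ∘ c))) := fun j =>
    Submodule.span_mono (Set.insert_subset_iff.mpr ⟨⟨Sum.inr j, rfl⟩, Set.singleton_subset_iff.mpr ⟨Sum.inl j, rfl⟩⟩)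
  rcases i with i | i
  · exact hle i (hv _)
  · exact hle i (hu _)

/-- The nonscalar unipotent elements are exhausted by their types. -/
theorem exists_counter_element [Fintype F] {p : ℕ} [Fact p.Prime] [CharP F p] {μ : Multiset ℕ}
    (hμ : ∀ a ∈ μ, 0 < a ∧ a ≤ p) (hev : ∀ a : ℕ, Odd a → Even (μ.count a)) (hsum : μ.sum = 2 * d) (hd : 0 < d)
    (hbig : ∃ a ∈ μ, 2 ≤ a) :
    ∃ x : ↥(Matrix.symplecticGroup (Fin d) F), x ^ p = 1 ∧
      (∀ z : F, (x : Matrix (Fin d ⊕ Fin d) (Fin d ⊕ Fin d) F) ≠ z • 1) ∧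
      ∀ k, (((x : Matrix (Fin d ⊕ Fin d) (Fin d ⊕ Fin d) F) - 1) ^ k).rank = (μ.map fun j => j - k).sum := by
  classical
  obtain ⟨x, hx⟩ := exists_symp_of_type (F := F) (fun a ha => (hμ a ha).1) hev hsum
  set X := (x : Matrix (Fin d ⊕ Fin d) (Fin d ⊕ Fin d) F)
  haveI : Nonempty (Fin d) := ⟨⟨0, hd⟩⟩
  have hX0 : (X - 1) ^ p = 0 := by
    have h := hx p
    rw [show (μ.map fun j => j - p).sum = 0 from Multiset.sum_eq_zero fun a ha => by
      obtain ⟨b, hb, rfl⟩ := Multiset.mem_map.mp ha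
      have := hμ b hb
      omega] at h
    exact Matrix.toLin'.injective (by
      rw [map_zero]; exact LinearMap.range_eq_bot.mp (Submodule.finrank_eq_zero.mp h))
  refine ⟨x, ?_, fun z hz => ?_, hx⟩
  · refine Subtype.ext ?_
    rw [SubmonoidClass.coe_pow, OneMemClass.coe_one]
    rwa [sub_pow_char_of_commute _ (Commute.one_right _), one_pow, sub_eq_zero] at hX0
  · have hX : X - 1 = (z - 1) • 1 := by rw [show X = z • 1 from hz, sub_smul, one_smul]
    rw [hX, smul_pow, one_pow, smul_eq_zero] at hX0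
    have hz1 : z - 1 = 0 := pow_eq_zero_iff (Fact.out : p.Prime).ne_zero |>.mp (hX0.resolve_right one_ne_zero)
    have h := hx 1
    rw [hX, hz1, zero_smul, pow_one, Matrix.rank_zero] at h
    obtain ⟨a, ha, ha2⟩ := hbig
    have := (Multiset.sum_eq_zero_iff.mp h.symm) (a - 1) (Multiset.mem_map.mpr ⟨a, ha, rfl⟩)
    omega


/-- Elements of prime order of PSp_n(q) with no fixed nondegenerate `m`-space. Here `T = PSp_n(q)` with `n = 2d ≥ 4`, `(n, q) ≠ (4, 2)`, realised through the symplectic matrices over the field `F` with `q` elements (preserving the standard alternating form); an element of `T` of prime order `r` is such a matrix `x` with `x^r` scalar and `x` not scalar. For `r ≠ p` let `i` be the multiplicative order of `q` modulo `r`, `c = i` for `i` even and `c = 2i` for `i` odd, and write `k = n mod c`, `ℓ = m mod i`, `ℓ' = m mod c`, `n' = ⌊n/i⌋`, `m' = ⌊m/i⌋`, `t = (r−1)/i`. Let `m` be even with `2 ≤ m < n/2` and let `r` be a prime dividing the number of nondegenerate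 `m`-spaces. Then every element of `T` of order `r` fixes a nondegenerate `m`-space if and only if one of: (i) `r = p > 2` and every partition of `n` into parts of size at most `p` in which every odd part has even multiplicity contains (as a sub-multiset) a partition of `m` in which every odd part has even multiplicity; (ii) `r = p = 2` and (`n ≡ 2 (mod 4)` or `m ≡ 0 (mod 4)`); (iii) `r = 2 ≠ p`; (iv) `r ≠ p`, `r > 2`, `c ≤ m` and `k ≥ ℓ'`. -/
theorem result {F : Type*} [Field F] [Fintype F] {p : ℕ} [Fact p.Prime] [CharP F p] {q : ℕ} (hq : Fintype.card F = q)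
    (d m : ℕ) (hd : 2 ≤ d) (hT : (d, q) ≠ (2, 2)) (hm : 2 ≤ m) (hme : Even m) (hmd : m < d)
    (r : ℕ) [Fact r.Prime]
    (hrΩ : r ∣ Nat.card {W : Submodule F (Fin d ⊕ Fin d → F) // Module.finrank F ↥W = m ∧ (∀ u ∈ W, u ≠ 0 → ∃ v ∈ W, Cfsg.sympForm d F u v ≠ 0)})
    (i c : ℕ) (hi : i = orderOf (q : ZMod r)) (hc : c = if Even i then i else 2 * i) :
    (∀ x : ↥(Matrix.symplecticGroup (Fin d) F),
      (∃ z : F, ((x ^ r : ↥(Matrix.symplecticGroup (Fin d) F)) : Matrix (Fin d ⊕ Fin d) (Fin d ⊕ Fin d) F) = z • (1 : Matrix (Fin d ⊕ Fin d) (Fin d ⊕ Fin d) F)) →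
      (∀ z : F, (x : Matrix (Fin d ⊕ Fin d) (Fin d ⊕ Fin d) F) ≠ z • (1 : Matrix (Fin d ⊕ Fin d) (Fin d ⊕ Fin d) F)) →
      ∃ W : Submodule F (Fin d ⊕ Fin d → F), Module.finrank F ↥W = m ∧ (∀ u ∈ W, u ≠ 0 → ∃ v ∈ W, Cfsg.sympForm d F u v ≠ 0) ∧
        W.map (Matrix.toLin' (x : Matrix (Fin d ⊕ Fin d) (Fin d ⊕ Fin d) F)) ≤ W) ↔
    ((r = p ∧ 2 < p ∧ (∀ μ : Multiset ℕ, (∀ a ∈ μ, 0 < a ∧ a ≤ p) → (∀ a : ℕ, Odd a → Even (μ.count a)) → μ.sum = 2 * d →
        ∃ ν : Multiset ℕ, ν ≤ μ ∧ ν.sum = m ∧ ∀ a : ℕ, Odd a → Even (ν.count a))) ∨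
     (r = p ∧ p = 2 ∧ ((2 * d) % 4 = 2 ∨ m % 4 = 0)) ∨
     (r = 2 ∧ p ≠ 2) ∨
     (r ≠ p ∧ 2 < r ∧ c ≤ m ∧ m % c ≤ (2 * d) % c)) := by
  classical
  subst hq
  have hA : (CfsgLib.Forms.sympBilin d F).IsAlt := CfsgLib.Forms.sympBilin_isAlt
  have hp := (Fact.out : p.Prime)
  have hr := (Fact.out : r.Prime)
  have hd0 : 0 < d := by omega
  set V := Fin d ⊕ Fin d → F
  obtain ⟨h, rfl⟩ : ∃ h, m = 2 * h := ⟨m / 2, (Nat.two_mul_div_two_of_even hme).symm⟩
  have hconv : ∀ W : Submodule F V, (∀ u ∈ W, u ≠ 0 → ∃ v ∈ W, Cfsg.sympForm d F u v ≠ 0) ↔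
      SepOn (CfsgLib.Forms.sympBilin d F) W := fun W => by
    constructor <;> intro H u hu h0 <;> obtain ⟨v, hv, h⟩ := H u hu h0 <;>
      exact ⟨v, hv, by simpa [CfsgLib.Forms.sympBilin_apply] using h⟩
  rw [Nat.card_congr (Equiv.subtypeEquivRight fun W => and_congr_right fun _ => hconv W)] at hrΩ
  refine Iff.trans (forall_congr' fun x => imp_congr_right fun _ => imp_congr_right fun _ => exists_congr fun W =>
    and_congr_right fun _ => and_congr_left fun _ => hconv W) ?_
  have hfin : finrank F (⊤ : Submodule F V) = 2 * d := by rw [finrank_top, CfsgLib.Forms.finrank_sympSpace]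
  have hp2F : (2 : F) = 0 ↔ p = 2 := by
    rw [show (2 : F) = ((2 : ℕ) : F) by norm_num, CharP.cast_eq_zero_iff F p, Nat.prime_dvd_prime_iff_eq hp Nat.prime_two]
  -- weakened conclusion for elements of order `r`
  have hord : (∀ x : ↥(Matrix.symplecticGroup (Fin d) F),
      (∃ z : F, ((x ^ r : ↥(Matrix.symplecticGroup (Fin d) F)) : Matrix (Fin d ⊕ Fin d) (Fin d ⊕ Fin d) F) = z • (1 : Matrix (Fin d ⊕ Fin d) (Fin d ⊕ Fin d) F)) →
      (∀ z : F, (x : Matrix (Fin d ⊕ Fin d) (Fin d ⊕ Fin d) F) ≠ z • (1 : Matrix (Fin d ⊕ Fin d) (Fin d ⊕ Fin d) F)) →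
      ∃ W : Submodule F V, finrank F ↥W = 2 * h ∧ SepOn (CfsgLib.Forms.sympBilin d F) W ∧
        W.map (Matrix.toLin' (x : Matrix (Fin d ⊕ Fin d) (Fin d ⊕ Fin d) F)) ≤ W) →
      ∀ x : ↥(Matrix.symplecticGroup (Fin d) F), x ^ r = 1 →
      (∀ z : F, (x : Matrix (Fin d ⊕ Fin d) (Fin d ⊕ Fin d) F) ≠ z • (1 : Matrix (Fin d ⊕ Fin d) (Fin d ⊕ Fin d) F)) →
      ∃ W : Submodule F V, finrank F ↥W = 2 * h ∧ SepOn (CfsgLib.Forms.sympBilin d F) W ∧
        InvBy (Matrix.toLin' (x : Matrix (Fin d ⊕ Fin d) (Fin d ⊕ Fin d) F)) W := fun hall x hxr hns => by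
    obtain ⟨W, h1, h2, h3⟩ := hall x ⟨1, by rw [hxr, one_smul]; rfl⟩ hns
    exact ⟨W, h1, h2, invBy_iff_map_le.mpr h3⟩
  constructor
  · intro hall
    replace hall := hord hall
    by_cases hrp : r = p
    · subst hrp
      rcases hr.eq_two_or_odd with rfl | hodd
      · refine Or.inr (Or.inl ⟨rfl, rfl, ?_⟩)
        by_contra hcon
        push Not at hcon
        obtain ⟨x, hx2, hns, hW⟩ := exists_char_two_counter (F := F) (hp2F.mpr rfl) (d := d)
          (Nat.even_iff.mpr (by omega)) hd0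
        obtain ⟨W, h1, h2, h3⟩ := hall x hx2 hns
        obtain ⟨a, ha⟩ := hW W h2 h3
        have h4 := h1.symm.trans ha
        omega
      · have hr2 : r ≠ 2 := by omega
        have hr3 : 2 < r := by have := hr.two_le; omega
        refine Or.inl ⟨rfl, hr3, fun μ hμ hev hsum => ?_⟩
        by_cases hbig : ∃ a ∈ μ, 2 ≤ a
        swap
        · have hone : ∀ j ∈ μ, j = 1 := fun j hj => by
            have := hμ j hj
            have : ¬ 2 ≤ j := fun h2 => hbig ⟨j, hj, h2⟩
            omega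
          rw [Multiset.eq_replicate_card.2 hone] at hsum ⊢
          rw [Multiset.sum_replicate, smul_eq_mul, mul_one] at hsum
          refine ⟨Multiset.replicate (2 * h) 1, (Multiset.replicate_le_replicate 1).2 (by omega), by simp, fun a _ => ?_⟩
          rw [Multiset.count_replicate]
          split_ifs
          · exact hme
          · exact Even.zero
        obtain ⟨x, hxr, hns, hrk⟩ := exists_counter_element (F := F) hμ hev hsum hd0 hbig
        obtain ⟨W, hWd, hWs, hW⟩ := hall x hxr hns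
        set g : Module.End F V := Matrix.toLin' (x : Matrix (Fin d ⊕ Fin d) (Fin d ⊕ Fin d) F)
        have hg : g ^ r = 1 := by rw [toLin_pow, hxr, OneMemClass.coe_one, Matrix.toLin'_one]; rfl
        obtain ⟨Y, -, hY, hYs, horth, hsup, -⟩ := exists_perp_in hA (toLin_isometry x) hg hr.pos invBy_top sepOn_top
          hW hWs le_top
        have h2F : (2 : F) ≠ 0 := fun e => hr2 (hp2F.mp e)
        obtain ⟨ν, hν1, hν2, hν3, hν4, -⟩ := exists_jordan_type hA (toLin_isometry x) hg h2F W hW hWs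
        obtain ⟨ν', hν1', -, -, hν4', -⟩ := exists_jordan_type hA (toLin_isometry x) hg h2F Y hY hYs
        have hμeq : μ = ν + ν' := CfsgLib.OrthPartition.multiset_ext_of_rank (fun j hj => (hμ j hj).1)
          (fun j hj => (Multiset.mem_add.1 hj).elim (fun h1 => (hν1 j h1).1) fun h1 => (hν1' j h1).1) fun k => by
          rw [← hrk, Multiset.map_add, Multiset.sum_add, ← hν4, ← hν4',
            ← finrank_map_pow_sup hg hW hY (sepOn_disjoint hA hWs horth), hsup, Submodule.map_top]
          show finrank F (LinearMap.range (Matrix.toLin' _)) = _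
          rw [show ((g - 1) ^ k : Module.End F V) =
              Matrix.toLin' (((x : Matrix (Fin d ⊕ Fin d) (Fin d ⊕ Fin d) F) - 1) ^ k) by
            show (Matrix.toLinAlgEquiv' _ - 1) ^ k = Matrix.toLinAlgEquiv' _
            rw [map_pow, map_sub, map_one]]
          rfl
        exact ⟨ν, hμeq ▸ Multiset.le_add_right _ _, hν3.trans hWd, hν2⟩
    · by_cases hr2 : r = 2
      · exact Or.inr (Or.inr (Or.inl ⟨hr2, fun e => hrp (hr2.trans e.symm)⟩))
      refine Or.inr (Or.inr (Or.inr ⟨hrp, lt_of_le_of_ne hr.two_le (Ne.symm hr2), ?_⟩))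
      subst hi
      let E : Fin h ⊕ Fin (d - h) ≃ Fin d := finSumFinEquiv.trans (finCongr (Nat.add_sub_cancel' (by omega)))
      obtain ⟨hdvd, l, hl1, hl2, hl3⟩ := exists_level_of_dvd_nondeg hrp E hrΩ
      have hcl : c ∣ 2 * l := by
        rw [hc]
        split_ifs with he
        · exact hl3
        · exact Nat.Coprime.mul_dvd_of_dvd_of_dvd (Nat.coprime_two_left.mpr (Nat.not_even_iff_odd.mp he))
            (dvd_mul_right 2 l) hl3
      have hrF : (r : F) ≠ 0 := fun e => by
        rw [CharP.cast_eq_zero_iff F p, Nat.prime_dvd_prime_iff_eq hp hr] at e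
        exact hrp e.symm
      have hq0 : (Fintype.card F : ZMod r) ≠ 0 := cast_card_ne_zero hrp
      have hc0 : 0 < c := atom_dim_pos hq0 hc
      obtain ⟨-, hmod⟩ := exists_symp_model hrp hr2 hdvd hc
      set k := (2 * d) % c
      have hk : k + (2 * d / c) * c = 2 * d := Nat.mod_add_div' _ _
      obtain ⟨x, hxr, hxf⟩ := hmod (2 * d / c) (by omega)
      have hkc : k < c := Nat.mod_lt _ hc0
      have hj : 1 ≤ 2 * d / c := Nat.div_pos (by have := Nat.le_of_dvd (by omega) hcl; omega) hc0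
      set g : Module.End F V := Matrix.toLin' (x : Matrix (Fin d ⊕ Fin d) (Fin d ⊕ Fin d) F)
      have hg : g ^ r = 1 := by rw [toLin_pow, hxr, OneMemClass.coe_one, Matrix.toLin'_one]; rfl
      have hns : ∀ z : F, (x : Matrix (Fin d ⊕ Fin d) (Fin d ⊕ Fin d) F) ≠ z • 1 := fun z hz => by
        have hgv : ∀ v : V, g v = z • v := fun v => by
          rw [show g v = (x : Matrix (Fin d ⊕ Fin d) (Fin d ⊕ Fin d) F).mulVec v from rfl, hz, Matrix.smul_mulVec,
            Matrix.one_mulVec]
        obtain ⟨w, -, hw0⟩ := (Submodule.ne_bot_iff _).mp (show (⊤ : Submodule F V) ≠ ⊥ from fun e => by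
          rw [e, finrank_bot] at hfin; omega)
        obtain ⟨y, -, hwy⟩ := sepOn_top (d := d) (F := F) w trivial hw0
        have hz2 : z * z = 1 := by
          have h1 := toLin_isometry x w y
          rw [show Matrix.toLin' (x : Matrix (Fin d ⊕ Fin d) (Fin d ⊕ Fin d) F) w = z • w from hgv w,
            show Matrix.toLin' (x : Matrix (Fin d ⊕ Fin d) (Fin d ⊕ Fin d) F) y = z • y from hgv y] at h1
          simp only [map_smul, LinearMap.smul_apply, smul_eq_mul] at h1
          exact mul_right_cancel₀ hwy (by linear_combination h1)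
        have hzr : z ^ r = 1 := by
          have hgk : ∀ (n : ℕ) (v : V), (g ^ n) v = z ^ n • v := fun n => by
            induction n with
            | zero => intro v; simp
            | succ n ih => intro v; rw [pow_succ', Module.End.mul_apply, ih, hgv, smul_smul, pow_succ']
          have h1 := hgk r w
          rw [hg, Module.End.one_apply] at h1
          exact (smul_left_injective F hw0 (h1.symm.trans (one_smul F w).symm))
        have hz1 : z = 1 := by
          obtain ⟨n, hn⟩ := hr.odd_of_ne_two hr2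
          rwa [hn, pow_succ, pow_mul, pow_two, hz2, one_pow, one_mul] at hzr
        have hfix : fixedIn g (⊤ : Submodule F V) = ⊤ := eq_top_iff.mpr fun v _ =>
          mem_fixedIn.mpr ⟨Submodule.mem_top, by rw [hgv, hz1, one_smul]⟩
        rw [hfix, hfin] at hxf
        have := Nat.mul_pos hj hc0
        omega
      obtain ⟨W, hWd, hWs, hW⟩ := hall x hxr hns
      obtain ⟨j, hj'⟩ : ∃ j, finrank F W = finrank F (fixedIn g W) + j * c := dvd_finrank_moved hA (toLin_isometry x) hg hr2 hrF hq0 hc hW hWs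
      have hle : finrank F (fixedIn g W) ≤ k := by
        refine (Submodule.finrank_mono (fun v hv => mem_fixedIn.mpr ⟨Submodule.mem_top, (mem_fixedIn.mp hv).2⟩)).trans ?_
        exact Nat.le_of_eq (Nat.add_right_cancel (hxf.trans hk.symm))
      have hmod' : 2 * h % c = finrank F (fixedIn g W) := by
        rw [← hWd, hj', Nat.add_mul_mod_self_right, Nat.mod_eq_of_lt (by omega)]
      refine ⟨?_, by omega⟩
      by_contra hcm
      rw [Nat.mod_eq_of_lt (by omega)] at hmod'
      -- a multiple of `c` lies in the top range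
      have hk' : k + 2 * l ≤ 2 * d := by
        obtain ⟨a, ha⟩ := hcl
        have : a ≤ 2 * d / c := (Nat.le_div_iff_mul_le hc0).mpr (by rw [mul_comm, ← ha]; omega)
        have := Nat.mul_le_mul_right c this
        rw [mul_comm a c, ← ha] at this
        omega
      omega
  · intro hrhs x hxr hns
    by_cases hr2 : r = 2
    · subst hr2
      obtain ⟨z, hz⟩ := hxr
      set g : Module.End F V := Matrix.toLin' (x : Matrix (Fin d ⊕ Fin d) (Fin d ⊕ Fin d) F)
      have hgg : ∀ v, g (g v) = z • v := fun v => by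
        rw [← Module.End.mul_apply, ← pow_two, toLin_pow, hz]
        simp [Matrix.smul_mulVec]
      have hB : ∀ w : V, (∀ y, CfsgLib.Forms.sympBilin d F w y = 0) → w = 0 := CfsgLib.Forms.sympBilin_nondegenerate.1
      have hz2 : z * z = 1 := by
        obtain ⟨w, -, hw0⟩ := (Submodule.ne_bot_iff _).mp (show (⊤ : Submodule F V) ≠ ⊥ from fun e => by
          rw [e, finrank_bot] at hfin; omega)
        obtain ⟨y, -, hwy⟩ := sepOn_top (d := d) (F := F) w trivial hw0
        have h1 := (toLin_isometry x (g w) (g y)).trans (toLin_isometry x w y)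
        rw [show Matrix.toLin' (x : Matrix (Fin d ⊕ Fin d) (Fin d ⊕ Fin d) F) (g w) = z • w from hgg w,
          show Matrix.toLin' (x : Matrix (Fin d ⊕ Fin d) (Fin d ⊕ Fin d) F) (g y) = z • y from hgg y] at h1
        simp only [map_smul, LinearMap.smul_apply, smul_eq_mul] at h1
        exact mul_right_cancel₀ hwy (by linear_combination h1)
      by_cases hp2 : p = 2
      · subst hp2
        have h20 : (2 : F) = 0 := hp2F.mpr rfl
        have hz1 : z = 1 := by
          have : (z - 1) * (z - 1) = 0 := by linear_combination hz2 + (1 - z) * h20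
          exact sub_eq_zero.mp (mul_self_eq_zero.mp this)
        have hg : g ^ 2 = 1 := LinearMap.ext fun v => by
          rw [pow_two, Module.End.mul_apply, hgg, hz1, one_smul, Module.End.one_apply]
        have hcond : (2 * d) % 4 = 2 ∨ (2 * h) % 4 = 0 := by
          rcases hrhs with ⟨-, h1, -⟩ | ⟨-, -, h1⟩ | ⟨-, h1⟩ | ⟨h1, -⟩
          · omega
          · exact h1
          · exact absurd rfl h1
          · exact absurd rfl h1
        obtain ⟨X, -, hX, hXs, hXd⟩ := exists_sub_char_two hA (toLin_isometry x) hg rfl ⊤ invBy_top sepOn_top (2 * h)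
          hme (le_trans (by omega) hfin.ge) (by rw [hfin]; omega)
        exact ⟨X, hXd, hXs, invBy_iff_map_le.mp hX⟩
      · have h2F : (2 : F) ≠ 0 := fun e => hp2 (hp2F.mp e)
        have hdim : finrank F V = 2 * d := CfsgLib.Forms.finrank_sympSpace d
        obtain ⟨u, v, h1, h2, h3, hu, hv⟩ : ∃ u v : Fin d → V, (∀ i j, CfsgLib.Forms.sympBilin d F (u i) (u j) = 0) ∧
            (∀ i j, CfsgLib.Forms.sympBilin d F (v i) (v j) = 0) ∧
            (∀ i j, CfsgLib.Forms.sympBilin d F (u i) (v j) = if i = j then 1 else 0) ∧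
            (∀ j, g (u j) ∈ Submodule.span F {u j, v j}) ∧ ∀ j, g (v j) ∈ Submodule.span F {u j, v j} := by
          rcases mul_self_eq_one_iff.mp hz2 with rfl | rfl
          · obtain ⟨u, v, s, h1, h2, h3, -, h4⟩ := exists_pair_frame_involution hA (toLin_isometry x) h2F
              (fun v => (hgg v).trans (one_smul F v)) hB hdim (fun _ => 1) fun _ => one_ne_zero
            refine ⟨u, v, h1, h2, h3, fun j => ?_, fun j => ?_⟩
            · rw [(h4 j).1]; exact Submodule.smul_mem _ _ (Submodule.subset_span (by simp))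
            · rw [(h4 j).2]; exact Submodule.smul_mem _ _ (Submodule.subset_span (by simp))
          · obtain ⟨u, v, h1, h2, h3, h4⟩ := exists_pair_frame_quarter hA (toLin_isometry x) h2F
              (fun v => (hgg v).trans (neg_one_smul F v)) hB hdim (fun _ => 1) fun _ => one_ne_zero
            refine ⟨u, v, h1, h2, h3, fun j => ?_, fun j => ?_⟩
            · rw [(h4 j).1]; exact Submodule.subset_span (by simp)
            · rw [(h4 j).2]; exact neg_mem (Submodule.subset_span (by simp))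
        obtain ⟨W, hWd, hWs, hW⟩ := exists_sub_of_pairs (h := h) (by omega) h1 h2 h3 hu hv
        exact ⟨W, hWd, hWs, invBy_iff_map_le.mp hW⟩
    obtain ⟨g, hg, hgB, -, htr⟩ := exists_normalised hr2 hd0 x hxr
    rcases hrhs with ⟨hrp, hp3, hpart⟩ | ⟨hrp, hp2, -⟩ | ⟨h1, -⟩ | ⟨hrp, -, hcm, hmk⟩
    · subst hrp
      obtain ⟨μ, hμ1, hμ2, hμ3, -, hμ5⟩ := exists_jordan_type hA hgB hg (fun e => hr2 (hp2F.mp e)) ⊤ invBy_top sepOn_top
      obtain ⟨ν, hν1, hν2, hν3⟩ := hpart μ hμ1 hμ2 (hμ3.trans hfin)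
      obtain ⟨X, -, hX, hXs, hXd⟩ := hμ5 ν hν1 hν3
      exact ⟨X, hXd.trans hν2, hXs, (htr X hX).le⟩
    · exact absurd (hrp.trans hp2) hr2
    · exact absurd h1 hr2
    · subst hi
      have hrF : (r : F) ≠ 0 := fun e => by
        rw [CharP.cast_eq_zero_iff F p, Nat.prime_dvd_prime_iff_eq hp hr] at e
        exact hrp e.symm
      have hq0 : (Fintype.card F : ZMod r) ≠ 0 := cast_card_ne_zero hrp
      have hc0 : 0 < c := atom_dim_pos hq0 hc
      have hce : Even c := by
        rw [hc]; split_ifs with he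
        exacts [he, even_two_mul _]
      obtain ⟨M, hM⟩ := dvd_finrank_moved hA hgB hg hr2 hrF hq0 hc invBy_top (sepOn_top (d := d))
      rw [hfin] at hM
      set f := finrank F (fixedIn g (⊤ : Submodule F V))
      have hkf : (2 * d) % c ≤ f := by
        rw [hM, Nat.add_mul_mod_self_right]; exact Nat.mod_le _ _
      have hdiv := Nat.mod_add_div' (2 * h) c
      set j := min M (2 * h / c)
      have hj1 : j * c ≤ M * c := Nat.mul_le_mul_right c (min_le_left _ _)
      have hj2 : j * c ≤ (2 * h / c) * c := Nat.mul_le_mul_right c (min_le_right _ _)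
      have hje : Even (2 * h - j * c) := by
        rw [Nat.even_sub (by omega)]
        exact iff_of_true hme (hce.mul_left j)
      have hef : 2 * h - j * c ≤ f := by
        rcases min_choice M (2 * h / c) with e | e
        · rw [show j * c = M * c by rw [show j = M from e]]; omega
        · rw [show j * c = 2 * h / c * c by rw [show j = 2 * h / c from e]]; omega
      obtain ⟨X, -, -, hX, hXs, hXd, -⟩ := exists_sepOn_invBy hA hgB hg hr2 hrF hq0 hc invBy_top (sepOn_top (d := d))
        (j := j) hje hef (by rw [hfin]; omega)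
      exact ⟨X, by rw [hXd]; omega, hXs, (htr X hX).le⟩

end Cfsg.Agent.S5956
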