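import Cfsg.Statements.S5958
import Cfsg.Agent.LinearElements.DecompLines

set_option autoImplicit false
open scoped MatrixGroups
open Cfsg

open CfsgLib.LinearElements

namespace Cfsg.Agent.S5958

theorem fixed_of_small {F V : Type*} [Field F] [Fintype F] [AddCommGroup V] [Module F V] [FiniteDimensional F V]
    {g : Module.End F V} {r : ℕ} [Fact r.Prime] (hg : g ^ r = 1) (hq : (Fintype.card F : ZMod r) ≠ 0)
    {S : Submodule F V} (hS : InvBy g S) (hlt : Module.finrank F S < orderOf (Fintype.card F : ZMod r)) :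
    ∀ v ∈ S, g v = v := by
  obtain ⟨e, j, he, hj⟩ := finrank_invBy_eq hg hq hS
  have hj0 : j = 0 := by
    by_contra h
    have := Nat.le_mul_of_pos_left (orderOf (Fintype.card F : ZMod r)) (Nat.pos_of_ne_zero h)
    omega
  subst hj0
  have hSf : fixedIn g S = S := Submodule.eq_of_le_of_finrank_le inf_le_left (by omega)
  exact fun v hv => (mem_fixedIn.mp (hSf.ge hv)).2

theorem order_le_of_dvd {F : Type*} [Field F] [Fintype F] {r n : ℕ} [Fact r.Prime]
    (hq : (Fintype.card F : ZMod r) ≠ 0)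
    (h : r ∣ ∏ i : Fin n, (Fintype.card F ^ n - Fintype.card F ^ (i : ℕ))) :
    orderOf (Fintype.card F : ZMod r) ≤ n := by
  obtain ⟨i, -, hi⟩ := (Nat.Prime.prime Fact.out).exists_mem_finset_dvd h
  have hpos : Fintype.card F ^ (i : ℕ) ≤ Fintype.card F ^ n := Nat.pow_le_pow_right Fintype.card_pos i.2.le
  have h1 := (ZMod.natCast_eq_zero_iff _ _).mpr hi
  have e : (Fintype.card F : ZMod r) ^ n =
      (Fintype.card F : ZMod r) ^ (n - (i : ℕ)) * (Fintype.card F : ZMod r) ^ (i : ℕ) := by
    rw [← pow_add, Nat.sub_add_cancel i.2.le]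
  rw [Nat.cast_sub hpos, Nat.cast_pow, Nat.cast_pow, sub_eq_zero, e, mul_eq_right₀ (pow_ne_zero _ hq)] at h1
  exact (Nat.le_of_dvd (by omega) (orderOf_dvd_of_pow_eq_one h1)).trans (Nat.sub_le _ _)

/-- Elements of odd prime order of PSL_n(q) and imprimitive subgroups. Here `T = PSL_n(F)` for a field `F` with `q = p^f` elements (`n ≥ 2`, `(n, q) ≠ (2, 2), (2, 3)`), `n = a·t` with `t ≥ 2`, and Ω is the set of direct-sum decompositions of `F^n` into `t` subspaces of dimension `a` (unordered; their number is the number of ordered ones divided by `t!`), whose stabilizers are the imprimitive subgroups of type GL_a(q) ≀ S_t (maximal except in some small cases; maximality is not assumed); an element of `T` of prime order `r` (a matrix `x` of determinant 1 with `x^r` scalar, `x` not scalar) fixes a point of Ω when it permutes the summands of some such decomposition. Let `r ≠ p` be an odd prime dividing the number of such decompositions, let `c` be the multiplicative order of `q` modulo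 `r`, and write `k = n mod c`, `ℓ = a mod c`. Then every element of `T` of order `r` stabilizes such a decomposition if and only if either `a = 1`, `c = r − 1 > 1` and `n ≤ k·r`, or `c ≤ a` and `k = t·ℓ`. -/
theorem result {F : Type*} [Field F] [Fintype F] {p : ℕ} [Fact p.Prime] [CharP F p] {q : ℕ} (hq : Fintype.card F = q)
    (n a t : ℕ) (hn : 2 ≤ n) (hT : (n, q) ≠ (2, 2) ∧ (n, q) ≠ (2, 3)) (hat : n = a * t) (ha : 1 ≤ a) (ht : 2 ≤ t)
    (r : ℕ) [Fact r.Prime] (hr2 : r ≠ 2) (hrp : r ≠ p) (hΩ : r ∣ Nat.card {D : Fin t → Submodule F (Fin n → F) // Cfsg.Geo.IsMDecomposition a D} / Nat.factorial t)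
    (c : ℕ) (hc : c = orderOf (q : ZMod r)) :
    (∀ x : Matrix.SpecialLinearGroup (Fin n) F,
      (∃ z : F, ((x ^ r : Matrix.SpecialLinearGroup (Fin n) F) : Matrix (Fin n) (Fin n) F) = z • (1 : Matrix (Fin n) (Fin n) F)) →
      (∀ z : F, (x : Matrix (Fin n) (Fin n) F) ≠ z • (1 : Matrix (Fin n) (Fin n) F)) →
      ∃ D : Fin t → Submodule F (Fin n → F), Cfsg.Geo.IsMDecomposition a D ∧
        ∃ σ : Equiv.Perm (Fin t), ∀ j, (D j).map (Matrix.toLin' (x : Matrix (Fin n) (Fin n) F)) = D (σ j)) ↔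
    ((a = 1 ∧ 1 < c ∧ c = r - 1 ∧ n ≤ (n % c) * r) ∨ (c ≤ a ∧ n % c = t * (a % c))) := by
  subst hq
  have hq0 := cast_card_ne_zero (F := F) hrp
  have hrF : (r : F) ≠ 0 := natCast_ne_zero hrp
  have hrpos : 0 < r := (Fact.out : r.Prime).pos
  have hV : Module.finrank F (Fin n → F) = n := Module.finrank_fin_fun F
  have hcpos : 0 < c := hc ▸ orderOf_pos_iff.mpr (isOfFinOrder_iff_pow_eq_one.mpr
    ⟨r - 1, by have := (Fact.out : r.Prime).two_le; omega, ZMod.pow_card_sub_one_eq_one hq0⟩)
  have hcle : c ≤ r - 1 := hc ▸ Nat.le_of_dvd (by have := (Fact.out : r.Prime).two_le; omega)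
    (orderOf_dvd_of_pow_eq_one (ZMod.pow_card_sub_one_eq_one hq0))
  rw [forall_sl_iff (fun g => ∃ D : Fin t → Submodule F (Fin n → F), Cfsg.Geo.IsMDecomposition a D ∧
      ∃ σ : Equiv.Perm (Fin t), ∀ j, (D j).map g = D (σ j))]
  have hmk : ∀ g : Module.End F (Fin n → F), HasPermDecomp g a t →
      ∃ D : Fin t → Submodule F (Fin n → F), Cfsg.Geo.IsMDecomposition a D ∧
        ∃ σ : Equiv.Perm (Fin t), ∀ j, (D j).map g = D (σ j) := fun g ⟨D, h1, h2, h3, h4⟩ =>
    ⟨D, ⟨ht, ha, h1, h2, h3⟩, h4⟩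
  have hsplit : n % c = t * (a % c) → ∀ g : Module.End F (Fin n → F), ∀ z μ : F, g ^ r = z • 1 → z ≠ 0 →
      μ ^ r = z → HasPermDecomp g a t := by
    intro hk g z μ hz hz0 hμ
    refine hasPermDecomp_of_split (pow_injective_of_eq_one hrpos hz0 hz) ha (by rw [hV, hat, mul_comm])
      (fun S U hS hU hUS => exists_invBy_compl hrpos hrF hz0 hz hS hU hUS) fun j hj S hS hd => ?_
    refine exists_invBy_dim_of_root hrp hz hz0 hμ hS (by rw [hd]; exact Nat.le_mul_of_pos_left a (Nat.succ_pos j)) ?_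
    rw [hd, ← hc]
    have h1 : (j + 1) * (a % c) ≤ t * (a % c) := Nat.mul_le_mul_right _ (by omega)
    have h2 : n % c < c := Nat.mod_lt _ hcpos
    rw [← Nat.mul_mod_mod (j + 1) a c, Nat.mod_eq_of_lt (show (j + 1) * (a % c) < c by omega)]
    exact Nat.le_mul_of_pos_left _ (Nat.succ_pos j)
  by_cases hc1 : c = 1
  · refine iff_of_true (fun g hg => hmk g ?_) (Or.inr ⟨by omega, by simp [hc1, Nat.mod_one]⟩)
    obtain ⟨hdet, ⟨z, hz⟩, hns⟩ := hg
    have hz0 : z ≠ 0 := ProjOrder.scalar_ne_zero ⟨hdet, ⟨z, hz⟩, hns⟩ hz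
    by_cases hroot : ∃ μ : F, μ ^ r = z
    · obtain ⟨μ, hμ⟩ := hroot
      exact hsplit (by simp [hc1, Nat.mod_one]) g z μ hz hz0 hμ
    · push Not at hroot
      exact hasPermDecomp_of_nonpower hz0 hroot hrF hz ha (by rw [hV, hat, mul_comm])
  have hc2 : 2 ≤ c := by omega
  have hcn : c ≤ n := hc ▸ order_le_of_dvd hq0 (hΩ.trans (dvd_card_decompositions hat ha ht))
  constructor
  · intro h
    rcases le_or_gt c a with hca | hac
    · refine Or.inr ⟨hca, ?_⟩
      obtain ⟨g, hg, hdet, hfix, hns⟩ := exists_fixed_model (F := F) (V := Fin n → F) (r := r) (hc ▸ hc2)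
        (s := n / c) (k := n % c) ((Nat.one_le_div_iff hcpos).mpr hcn)
        (by rw [hV, ← hc, mul_comm, Nat.div_add_mod])
      obtain ⟨D, hD, σ, hσ⟩ := h g ⟨hdet, ⟨1, by rw [hg, one_smul]⟩, hns⟩
      have hinv : ∀ j, σ j = j := by
        intro j
        by_contra hj
        have := le_finrank_fixedIn_of_moved hg ha hD.finrank_eq hD.indep hD.iSup_eq_top hσ hj
        rw [hfix] at this
        have := Nat.mod_lt n hcpos
        omega
      have hsum : ∑ j, Module.finrank F (fixedIn g (D j)) ≤ n % c := by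
        rw [← finrank_iSup_of_indep (fun j => fixedIn g (D j)) (hD.indep.mono fun j => inf_le_left), ← hfix]
        exact Submodule.finrank_mono (iSup_le fun j => inf_le_inf_right _ le_top)
      have hl : t * (a % c) ≤ n % c := by
        refine le_trans ?_ hsum
        calc t * (a % c) = ∑ _j : Fin t, a % c := by simp
          _ ≤ _ := Finset.sum_le_sum fun j _ => by
            obtain ⟨e, i, he, hi⟩ := finrank_invBy_eq hg hq0
              (invBy_iff_map_le.mpr (by rw [hσ, hinv] : (D j).map g ≤ D j))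
            rw [hD.finrank_eq, ← hc] at hi
            rw [← he, hi, Nat.add_mul_mod_self_right]
            exact Nat.mod_le _ _
      have hmod : n % c = (t * (a % c)) % c := by rw [Nat.mul_mod_mod, hat, mul_comm]
      exact le_antisymm (hmod.le.trans (Nat.mod_le _ _)) hl
    · obtain ⟨g, hg, hdet, hfix, hns⟩ := exists_fixed_model (F := F) (V := Fin n → F) (r := r) (hc ▸ hc2)
        (s := 1) (k := n - c) le_rfl (by rw [hV, ← hc]; omega)
      obtain ⟨D, hD, σ, hσ⟩ := h g ⟨hdet, ⟨1, by rw [hg, one_smul]⟩, hns⟩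
      have hsmall : ∀ (g : Module.End F (Fin n → F)) (D : Fin t → Submodule F (Fin n → F)),
          g ^ r = 1 → (∀ j, Module.finrank F (D j) = a) → ∀ σ : Equiv.Perm (Fin t), (∀ j, (D j).map g = D (σ j)) →
          ∀ j, σ j = j → ∀ v ∈ D j, g v = v := fun g D hg hd σ hσ j hj =>
        fixed_of_small hg hq0 (invBy_iff_map_le.mpr (by rw [hσ, hj])) (by rw [hd, ← hc]; exact hac)
      obtain ⟨j, hj⟩ : ∃ j, σ j ≠ j := by
        by_contra hall
        push Not at hall
        refine hns 1 ?_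
        rw [one_smul]
        refine LinearMap.ext fun v => ?_
        have hv : v ∈ iSup D := hD.iSup_eq_top ▸ trivial
        induction hv using Submodule.iSup_induction' with
        | mem j x hx => exact hsmall g D hg hD.finrank_eq σ hσ j (hall j) x hx
        | zero => simp
        | add x y _ _ hx hy => simp [hx, hy]
      have h1 := le_finrank_moving hg ha hD.finrank_eq hD.indep hD.iSup_eq_top hσ hj
      have h2 : Module.finrank F (LinearMap.range (g - 1)) = c := by
        have := LinearMap.finrank_range_add_finrank_ker (g - 1)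
        rw [show LinearMap.ker (g - 1) = fixedIn g ⊤ from (top_inf_eq _).symm, hfix, hV] at this
        omega
      rw [h2] at h1
      have ha1 : a = 1 := by nlinarith
      subst ha1
      refine Or.inl ⟨rfl, by omega, by omega, ?_⟩
      obtain ⟨g, hg, hdet, hfix, hns⟩ := exists_fixed_model (F := F) (V := Fin n → F) (r := r) (hc ▸ hc2)
        (s := n / c) (k := n % c) ((Nat.one_le_div_iff hcpos).mpr hcn)
        (by rw [hV, ← hc, mul_comm, Nat.div_add_mod])
      obtain ⟨D, hD, σ, hσ⟩ := h g ⟨hdet, ⟨1, by rw [hg, one_smul]⟩, hns⟩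
      have h3 := le_mul_finrank_fixedIn hg ha hD.finrank_eq hD.indep hD.iSup_eq_top hσ
        (hsmall g D hg hD.finrank_eq σ hσ)
      rw [hfix] at h3
      rw [one_mul] at hat
      exact hat.le.trans h3
  · intro h g hg
    obtain ⟨hdet, ⟨z, hz⟩, hns⟩ := hg
    have hz0 : z ≠ 0 := ProjOrder.scalar_ne_zero ⟨hdet, ⟨z, hz⟩, hns⟩ hz
    obtain ⟨μ, hμ⟩ := exists_root_of_order_ne_one (r := r) (hc ▸ hc1) z
    refine hmk g ?_
    rcases h with ⟨ha1, -, hcr, hnk⟩ | ⟨-, hk⟩
    · subst ha1
      rw [one_mul] at hat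
      have hμ0 : μ ≠ 0 := fun e => hz0 (by rw [← hμ, e, zero_pow (Fact.out : r.Prime).ne_zero])
      have hh : (μ⁻¹ • g) ^ r = 1 := by
        rw [smul_pow, hz, inv_pow, hμ, smul_smul, inv_mul_cancel₀ hz0, one_smul]
      obtain rfl : n = t := hat
      have hlines : HasPermDecomp (μ⁻¹ • g) 1 n := by
        have := hasPermDecomp_lines hrF hh hq0 (hc ▸ hcr) (by rw [hV, ← hcr]; exact hnk)
        rwa [hV] at this
      obtain ⟨D, h1, h2, h3, σ, h4⟩ := hlines
      exact ⟨D, h1, h2, h3, σ, fun j => by rw [← h4 j, Submodule.map_smul _ _ _ (inv_ne_zero hμ0)]⟩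
    · exact hsplit hk g z μ hz hz0 hμ

end Cfsg.Agent.S5958
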