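import Cfsg.Statements.S5959
import Cfsg.Agent.LinearElements.JordanModels

set_option autoImplicit false
open scoped MatrixGroups
open Cfsg

namespace Cfsg.Agent.S5959

/-- Elements of order `p` of PSL_n(q) and imprimitive subgroups: a necessary condition. Here `T = PSL_n(F)` for a field `F` with `q = p^f` elements (`n ≥ 2`, `(n, q) ≠ (2, 2), (2, 3)`), `n = a·t` with `t ≥ 2`, and Ω is the set of direct-sum decompositions of `F^n` into `t` subspaces of dimension `a` (unordered; their number is the number of ordered ones divided by `t!`), whose stabilizers are the imprimitive subgroups of type GL_a(q) ≀ S_t (maximal except in some small cases; maximality is not assumed); an element of `T` of prime order `r` (a matrix `x` of determinant 1 with `x^r` scalar, `x` not scalar) fixes a point of Ω when it permutes the summands of some such decomposition. Suppose `p > 2` divides the number of such decompositions. If every element of `T` of order `p` stabilizes such a decomposition, then every partition of `n` into parts of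 size at most `p` in which the part `p` occurs fewer than `a` times contains (as a sub-multiset) a partition of `a`. -/
theorem result {F : Type*} [Field F] [Fintype F] {p : ℕ} [Fact p.Prime] [CharP F p] {q : ℕ} (hq : Fintype.card F = q)
    (n a t : ℕ) (hn : 2 ≤ n) (hT : (n, q) ≠ (2, 2) ∧ (n, q) ≠ (2, 3)) (hat : n = a * t) (ha : 1 ≤ a) (ht : 2 ≤ t)
    (hp : 2 < p) (hΩ : p ∣ Nat.card {D : Fin t → Submodule F (Fin n → F) // Cfsg.Geo.IsMDecomposition a D} / Nat.factorial t)
    (h : ∀ x : Matrix.SpecialLinearGroup (Fin n) F,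
      (∃ z : F, ((x ^ p : Matrix.SpecialLinearGroup (Fin n) F) : Matrix (Fin n) (Fin n) F) = z • (1 : Matrix (Fin n) (Fin n) F)) →
      (∀ z : F, (x : Matrix (Fin n) (Fin n) F) ≠ z • (1 : Matrix (Fin n) (Fin n) F)) →
      ∃ D : Fin t → Submodule F (Fin n → F), Cfsg.Geo.IsMDecomposition a D ∧
        ∃ σ : Equiv.Perm (Fin t), ∀ j, (D j).map (Matrix.toLin' (x : Matrix (Fin n) (Fin n) F)) = D (σ j)) :
    (∀ μ : Multiset ℕ, (∀ b ∈ μ, 0 < b ∧ b ≤ p) → μ.sum = n → μ.count p < a → ∃ ν : Multiset ℕ, ν ≤ μ ∧ ν.sum = a) := by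
  intro μ hμ hsum hcount
  by_cases hone : ∀ b ∈ μ, b = 1
  · refine ⟨Multiset.replicate a 1, ?_, by simp⟩
    rw [Multiset.eq_replicate_card.mpr hone]
    refine Multiset.replicate_le_replicate 1 |>.mpr ?_
    have : μ.sum = μ.card := by rw [Multiset.eq_replicate_card.mpr hone]; simp
    nlinarith
  push Not at hone
  obtain ⟨b, hb, hb1⟩ := hone
  obtain ⟨N, C, hC⟩ := CfsgLib.LinearElements.exists_chain_model (F := F) (V := Fin n → F) μ (fun s hs => (hμ s hs).1)
    (by rw [hsum, Module.finrank_fin_fun])
  have hszp : ∀ i, C.sz i ≤ p := fun i => by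
    refine (hμ _ ?_).2
    rw [← hC]; exact Multiset.mem_map.mpr ⟨i, by simp, rfl⟩
  obtain ⟨i₀, hi₀⟩ : ∃ i, 2 ≤ C.sz i := by
    rw [← hC] at hb
    obtain ⟨i, -, rfl⟩ := Multiset.mem_map.mp hb
    exact ⟨i, by have := C.sz_pos i; omega⟩
  have hNp := C.pow_eq_zero hszp
  obtain ⟨hgp, hdet, hns⟩ := CfsgLib.LinearElements.one_add_nilpotent p hNp
  let g : Module.End F (Fin n → F) := 1 + N
  let x : Matrix.SpecialLinearGroup (Fin n) F := ⟨LinearMap.toMatrix' g, by rw [LinearMap.det_toMatrix']; exact hdet⟩
  have hxg : Matrix.toLin' (x : Matrix (Fin n) (Fin n) F) = g := Matrix.toLin'_toMatrix' g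
  have hx1 : ∃ z : F, ((x ^ p : Matrix.SpecialLinearGroup (Fin n) F) : Matrix (Fin n) (Fin n) F) = z • (1 : Matrix (Fin n) (Fin n) F) := by
    refine ⟨1, ?_⟩
    rw [Matrix.SpecialLinearGroup.coe_pow, one_smul]
    show (LinearMap.toMatrixAlgEquiv' g) ^ p = 1
    rw [← map_pow, hgp, map_one]
  have hx2 : ∀ z : F, (x : Matrix (Fin n) (Fin n) F) ≠ z • (1 : Matrix (Fin n) (Fin n) F) := by
    intro z hz
    refine hns (C.ne_zero_of_two_le hi₀) z ?_
    show g = _
    rw [← hxg, hz, map_smul, Matrix.toLin'_one]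
    rfl
  obtain ⟨D, hD, σ, hσ⟩ := h x hx1 hx2
  rw [hxg] at hσ
  have hσk : ∀ (k : ℕ) j, (D j).map (g ^ k) = D ((σ ^ k) j) := by
    intro k j
    induction k with
    | zero => rw [pow_zero, pow_zero]; ext v; simp [Submodule.mem_map]
    | succ k ih => rw [CfsgLib.LinearElements.map_pow_succ, ih, hσ, pow_succ', Equiv.Perm.mul_apply]
  have hDinj : Function.Injective D := by
    intro j k hjk
    by_contra hne
    have h1 : Disjoint (D j) (D k) := hD.indep.pairwiseDisjoint hne
    rw [hjk, disjoint_self] at h1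
    have h2 := hD.finrank_eq k
    rw [h1, finrank_bot] at h2
    exact absurd h2.symm (by omega)
  have hσp : σ ^ p = 1 := by
    refine Equiv.ext fun j => hDinj ?_
    rw [← hσk, Equiv.Perm.one_apply, hgp]
    ext v; simp [Submodule.mem_map]
  -- every part is fixed
  have hfix : ∀ j, σ j = j := by
    intro j
    by_contra hj
    have horb : ∀ k : ℕ, 0 < k → k < p → (σ ^ k) j ≠ j := by
      intro k hk hkp hkj
      have hcop : Nat.Coprime k p :=
        ((Fact.out : p.Prime).coprime_iff_not_dvd.mpr (Nat.not_dvd_of_pos_of_lt hk hkp)).symm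
      obtain ⟨m, hm⟩ := Nat.exists_mul_mod_eq_one_of_coprime hcop (by omega)
      have hfp : ∀ e : ℕ, ((σ ^ k) ^ e) j = j := by
        intro e
        induction e with
        | zero => simp
        | succ e ih => rw [pow_succ, Equiv.Perm.mul_apply, hkj, ih]
      refine hj ?_
      conv_lhs => rw [← pow_one σ, ← hm.2]
      have h2 := hfp m
      rw [← pow_mul, ← Nat.mod_add_div (k * m) p, pow_add, pow_mul, hσp, one_pow, mul_one] at h2
      exact h2
    have hNgeom : N ^ (p - 1) = ∑ i ∈ Finset.range p, g ^ i := by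
      have hp1 : p - 1 + 1 = p := by omega
      have hpoly : (Polynomial.X - 1 : Polynomial F) ^ (p - 1) = ∑ i ∈ Finset.range p, Polynomial.X ^ i := by
        refine mul_right_cancel₀ (b := (Polynomial.X - 1 : Polynomial F)) (Polynomial.X_sub_C_ne_zero 1) ?_
        rw [← pow_succ, hp1, geom_sum_mul, sub_pow_char, one_pow]
      have := congrArg (Polynomial.aeval g) hpoly
      simpa [g] using this
    have hinj : ∀ v ∈ D j, (N ^ (p - 1)) v = 0 → v = 0 := by
      intro v hv hv0
      obtain ⟨m, hm⟩ : ∃ m, p = m + 1 := ⟨p - 1, by omega⟩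
      rw [hNgeom, hm, LinearMap.sum_apply, Finset.sum_range_succ', pow_zero, Module.End.one_apply] at hv0
      have hmem : v ∈ ⨆ (k) (_ : k ≠ j), D k := by
        rw [eq_neg_of_add_eq_zero_right hv0]
        refine Submodule.neg_mem _ (Submodule.sum_mem _ fun i hi => ?_)
        rw [Finset.mem_range] at hi
        refine Submodule.mem_iSup_of_mem ((σ ^ (i + 1)) j) (Submodule.mem_iSup_of_mem (horb _ (by omega) (by omega)) ?_)
        rw [← hσk]
        exact Submodule.mem_map_of_mem hv
      exact (Submodule.disjoint_def.mp (hD.indep j)) v hv hmem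
    have hrank := C.rankOn_eq (p - 1)
    have hle : a ≤ CfsgLib.LinearElements.rankOn N ⊤ (p - 1) := by
      rw [← hD.finrank_eq j]
      have e1 : Module.finrank F ↥((D j).map (N ^ (p - 1))) = Module.finrank F (D j) := by
        have h3 := LinearMap.finrank_range_add_finrank_ker ((N ^ (p - 1)) ∘ₗ (D j).subtype)
        rw [LinearMap.range_comp, Submodule.range_subtype] at h3
        have h4 : LinearMap.ker ((N ^ (p - 1)) ∘ₗ (D j).subtype) = ⊥ :=
          LinearMap.ker_eq_bot'.mpr fun v hv => Subtype.ext (hinj v v.2 hv)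
        rw [h4, finrank_bot, Nat.add_zero] at h3
        exact h3
      rw [← e1]
      exact Submodule.finrank_mono (Submodule.map_mono le_top)
    have : ∑ i, (C.sz i - (p - 1)) = μ.count p := by
      rw [← hC, C.count_sizes, Finset.card_filter]
      exact Finset.sum_congr rfl fun i _ => by have := hszp i; split <;> omega
    omega
  have hinv : ∀ j, (D j).map N ≤ D j := by
    intro j
    rintro _ ⟨v, hv, rfl⟩
    have h1 : g v ∈ D j := by
      have := Submodule.mem_map_of_mem (f := g) hv
      rwa [hσ, hfix] at this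
    have : N v = g v - v := by simp [g]
    rw [this]
    exact (D j).sub_mem h1 hv
  refine ⟨CfsgLib.LinearElements.blockMultiset N (D ⟨0, by omega⟩) p, ?_, ?_⟩
  · rw [← hC]
    exact CfsgLib.LinearElements.blockMultiset_le_sizes C hD.indep hD.iSup_eq_top hinv p _
  · rw [CfsgLib.LinearElements.sum_blockMultiset (hinv _), hD.finrank_eq]
    rw [hNp, Submodule.eq_bot_iff]
    rintro _ ⟨v, -, rfl⟩
    rfl

end Cfsg.Agent.S5959
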