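import Cfsg.Statements.S5960
import Cfsg.Agent.LinearElements.PlaneSplitting
import Cfsg.Agent.Forms.Symplectic

set_option autoImplicit false
open scoped MatrixGroups
open Cfsg

namespace Cfsg.Agent.S5960

/-- Involutions of PSp_n(q) and imprimitive subgroups. Here `T = PSp_n(q)`, `n = 2d ≥ 4`, `(n, q) ≠ (4, 2)`, realised through the symplectic matrices over the field `F` with `q` elements and the standard alternating form; `n = a·t` with `a` even and `t ≥ 2`, and Ω is the (nonempty) set of orthogonal decompositions of `F^n` into `t` nondegenerate subspaces of dimension `a` (unordered; counted as ordered ones divided by `t!`), whose stabilizers are the imprimitive subgroups of type Sp_a(q) ≀ S_t (maximality is not assumed); an element of `T` of prime order `r` (a symplectic matrix `x` with `x^r` scalar, `x` not scalar) fixes a point of Ω when it permutes the summands of some such decomposition. If the number of such decompositions is even, then every involution of `T` stabilizes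 one of them (the action is 2-elusive). -/
theorem result {F : Type*} [Field F] [Fintype F] {p : ℕ} [Fact p.Prime] [CharP F p] {q : ℕ} (hq : Fintype.card F = q)
    (d : ℕ) (hd : 2 ≤ d) (hT : (d, q) ≠ (2, 2))
    (a t : ℕ) (hat : 2 * d = a * t) (ha : 2 ≤ a) (hae : Even a) (ht : 2 ≤ t) (hΩ : 2 ∣ Nat.card {D : Fin t → Submodule F (Fin d ⊕ Fin d → F) // (Cfsg.Geo.IsMDecomposition a D ∧ (∀ j, ∀ u ∈ D j, u ≠ 0 → ∃ v ∈ D j, Cfsg.sympForm d F u v ≠ 0) ∧
          (∀ j j', j ≠ j' → ∀ u ∈ D j, ∀ v ∈ D j', Cfsg.sympForm d F u v = 0))} / Nat.factorial t)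
    (x : ↥(Matrix.symplecticGroup (Fin d) F))
    (hx1 : ∃ z : F, ((x ^ 2 : ↥(Matrix.symplecticGroup (Fin d) F)) : Matrix (Fin d ⊕ Fin d) (Fin d ⊕ Fin d) F) = z • (1 : Matrix (Fin d ⊕ Fin d) (Fin d ⊕ Fin d) F))
    (hx2 : ∀ z : F, (x : Matrix (Fin d ⊕ Fin d) (Fin d ⊕ Fin d) F) ≠ z • (1 : Matrix (Fin d ⊕ Fin d) (Fin d ⊕ Fin d) F)) :
    ∃ D : Fin t → Submodule F (Fin d ⊕ Fin d → F), (Cfsg.Geo.IsMDecomposition a D ∧ (∀ j, ∀ u ∈ D j, u ≠ 0 → ∃ v ∈ D j, Cfsg.sympForm d F u v ≠ 0) ∧
          (∀ j j', j ≠ j' → ∀ u ∈ D j, ∀ v ∈ D j', Cfsg.sympForm d F u v = 0)) ∧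
        ∃ σ : Equiv.Perm (Fin t), ∀ j, (D j).map (Matrix.toLin' (x : Matrix (Fin d ⊕ Fin d) (Fin d ⊕ Fin d) F)) = D (σ j) := by
  obtain ⟨z, hz⟩ := hx1
  set X := (x : Matrix (Fin d ⊕ Fin d) (Fin d ⊕ Fin d) F) with hX
  have hz' : X * X = z • (1 : Matrix (Fin d ⊕ Fin d) (Fin d ⊕ Fin d) F) := by
    rw [hX, ← Submonoid.coe_mul, ← pow_two, hz]
  set g := Matrix.toLin' X with hgdef
  set B := CfsgLib.Forms.sympBilin d F with hBdef
  have hgg : ∀ v, g (g v) = z • v := fun v => by
    rw [hgdef, Matrix.toLin'_apply, Matrix.toLin'_apply, Matrix.mulVec_mulVec, hz', Matrix.smul_mulVec, Matrix.one_mulVec]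
  have hg : ∀ u v, B (g u) (g v) = B u v := fun u v => by
    rw [hgdef, Matrix.toLin'_apply, Matrix.toLin'_apply, hBdef, CfsgLib.Forms.sympBilin_apply,
      CfsgLib.Forms.sympBilin_apply, hX, CfsgLib.Forms.sympForm_map]
  have halt : ∀ v, B v v = 0 := fun v => CfsgLib.Forms.sympBilin_isAlt v
  have hnd : ∀ v ∈ (⊤ : Submodule F (Fin d ⊕ Fin d → F)),
      (∀ w ∈ (⊤ : Submodule F (Fin d ⊕ Fin d → F)), B v w = 0) → v = 0 := fun v _ h =>
    CfsgLib.Forms.sympForm_sep v fun w => by rw [← CfsgLib.Forms.sympBilin_apply]; exact h w trivial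
  have hz0 : z ≠ 0 := by
    intro h
    haveI : Nonempty (Fin d ⊕ Fin d) := ⟨.inl ⟨0, by omega⟩⟩
    obtain ⟨u, hu⟩ := exists_ne (0 : Fin d ⊕ Fin d → F)
    refine hu (hnd u trivial fun w _ => ?_)
    rw [← hg u w, ← hg (g u) (g w), hgg, hgg, h, zero_smul, zero_smul, map_zero]
  obtain ⟨P⟩ := CfsgLib.LinearElements.exists_planeData halt hg hgg hz0 _ ⊤ rfl (fun _ _ => trivial) hnd
  have hli := P.linearIndependent halt
  have hcount : 2 * (2 * P.b + P.c) = 2 * d := by
    have h1 := finrank_span_eq_card hli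
    rw [P.span_eq, finrank_top, Module.finrank_pi, Fintype.card_sum, Fintype.card_fin] at h1
    simp only [Fintype.card_prod, Fintype.card_sum, Fintype.card_fin] at h1
    omega
  obtain ⟨a', rfl⟩ := hae.two_dvd
  obtain ⟨L⟩ := CfsgLib.LinearElements.exists_layout t a' P.b P.c (by omega) (by
    rw [hat, mul_assoc] at hcount
    rw [mul_comm t a']; omega)
  set D : Fin t → Submodule F (Fin d ⊕ Fin d → F) := fun j =>
    Submodule.span F ((fun p : CfsgLib.LinearElements.PairIdx P.b P.c × Fin 2 => P.v p.1 p.2) ''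
      {p | (L.e p.1).1 = j}) with hD
  have hmem : ∀ i s, P.v i s ∈ D (L.e i).1 := fun i s =>
    Submodule.subset_span ⟨(i, s), rfl, rfl⟩
  have hmemp : ∀ (i : CfsgLib.LinearElements.PairIdx P.b P.c), (L.e (CfsgLib.LinearElements.partnerIdx i)).1 = L.σ (L.e i).1 := by
    rintro (⟨i, s⟩ | j)
    · fin_cases s
      · show (L.e (.inl (i, Equiv.swap 0 1 0))).1 = L.σ (L.e (.inl (i, 0))).1
        rw [Equiv.swap_apply_left, L.pair]
      · show (L.e (.inl (i, Equiv.swap 0 1 1))).1 = L.σ (L.e (.inl (i, 1))).1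
        rw [Equiv.swap_apply_right, L.pair, L.invol]
    · exact (L.single j).symm
  have hfin : ∀ j, Module.finrank F (D j) = 2 * a' := by
    intro j
    have hDj : D j = Submodule.span F (Set.range fun p : Fin a' × Fin 2 => P.v (L.e.symm (j, p.1)) p.2) := by
      simp only [hD]
      refine congrArg _ (Set.ext fun x => ⟨?_, ?_⟩)
      · rintro ⟨⟨i, s⟩, hi : (L.e i).1 = j, rfl⟩
        exact ⟨((L.e i).2, s), by simp [← hi]⟩
      · rintro ⟨⟨l, s⟩, rfl⟩
        exact ⟨(L.e.symm (j, l), s), by simp, rfl⟩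
    rw [hDj, finrank_span_eq_card, Fintype.card_prod, Fintype.card_fin, Fintype.card_fin, mul_comm]
    exact hli.comp (fun p : Fin a' × Fin 2 => (L.e.symm (j, p.1), p.2)) fun p p' h => by
      obtain ⟨h1, h2⟩ := Prod.ext_iff.mp h
      exact Prod.ext (congrArg Prod.snd (L.e.symm.injective h1)) h2
  have hindep : iSupIndep D := by
    intro j
    refine (hli.disjoint_span_image (s := {p | (L.e p.1).1 = j}) (t := {p | (L.e p.1).1 ≠ j})
      (Set.disjoint_left.mpr fun i h h' => h' h)).mono_right ?_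
    exact iSup₂_le fun k hk => Submodule.span_mono (Set.image_mono fun p (hp : (L.e p.1).1 = k) =>
      show (L.e p.1).1 ≠ j by rw [hp]; exact hk)
  have htop : iSup D = ⊤ := by
    refine top_le_iff.mp (P.span_eq.symm.le.trans (Submodule.span_le.mpr ?_))
    rintro _ ⟨⟨i, s⟩, rfl⟩
    exact le_iSup D _ (hmem i s)
  have hort : ∀ j j', j ≠ j' → ∀ u ∈ D j, ∀ v ∈ D j', B u v = 0 := by
    intro j j' hne u hu v hv
    induction hu using Submodule.span_induction with
    | mem y hy =>
      obtain ⟨⟨i, s⟩, hi : (L.e i).1 = j, rfl⟩ := hy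
      induction hv using Submodule.span_induction with
      | mem y' hy' =>
        obtain ⟨⟨i', s'⟩, hi' : (L.e i').1 = j', rfl⟩ := hy'
        exact P.orth i i' (fun e => hne (by rw [← hi, ← hi', e])) s s'
      | zero => simp
      | add y z _ _ hy hz => simp [hy, hz]
      | smul a y _ hy => simp [hy]
    | zero => simp
    | add y z _ _ hy hz => simp [hy, hz]
    | smul a y _ hy => simp [hy]
  refine ⟨D, ⟨⟨ht, by omega, hfin, hindep, htop⟩, ?_, ?_⟩, L.σ, fun j => ?_⟩
  · intro j u hu hu0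
    obtain ⟨w, hw⟩ : ∃ w, B u w ≠ 0 := by
      by_contra hall
      push Not at hall
      exact hu0 (hnd u trivial fun w _ => hall w)
    by_contra hall
    push Not at hall
    refine hw ?_
    have hle : (⊤ : Submodule F (Fin d ⊕ Fin d → F)) ≤ LinearMap.ker (B u) := by
      rw [← htop]
      refine iSup_le fun k v hv => LinearMap.mem_ker.mpr ?_
      by_cases hk : j = k
      · subst hk
        rw [hBdef, CfsgLib.Forms.sympBilin_apply]
        exact hall v hv
      · exact hort j k hk u hu v hv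
    exact LinearMap.mem_ker.mp (hle trivial)
  · intro j j' hne u hu v hv
    rw [← CfsgLib.Forms.sympBilin_apply]
    exact hort j j' hne u hu v hv
  · refine Submodule.eq_of_le_of_finrank_eq ?_ ?_
    · rw [hD, Submodule.map_span, Submodule.span_le]
      rintro _ ⟨_, ⟨⟨i, s⟩, hi : (L.e i).1 = j, rfl⟩, rfl⟩
      refine Submodule.span_mono ?_ (P.move i s)
      rintro _ ⟨u, rfl⟩
      exact ⟨(CfsgLib.LinearElements.partnerIdx i, u), by simp [hmemp, hi], rfl⟩
    · have hinj : Function.Injective g := fun u v huv => by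
        have := congrArg g huv
        rw [hgg, hgg] at this
        exact smul_right_injective _ hz0 this
      rw [← (Submodule.equivMapOfInjective g hinj _).finrank_eq, hfin, hfin]

end Cfsg.Agent.S5960
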