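import Cfsg.Statements.S5961
import Cfsg.Agent.LinearElements.SympModels
import Cfsg.Agent.LinearElements.Decompositions

set_option autoImplicit false
open scoped MatrixGroups
open Cfsg

open CfsgLib.LinearElements Module

namespace Cfsg.Agent.S5961

/-- Elements of odd prime order of PSp_n(q) and imprimitive subgroups. Here `T = PSp_n(q)`, `n = 2d ≥ 4`, `(n, q) ≠ (4, 2)`, realised through the symplectic matrices over the field `F` with `q` elements and the standard alternating form; `n = a·t` with `a` even and `t ≥ 2`, and Ω is the (nonempty) set of orthogonal decompositions of `F^n` into `t` nondegenerate subspaces of dimension `a` (unordered; counted as ordered ones divided by `t!`), whose stabilizers are the imprimitive subgroups of type Sp_a(q) ≀ S_t (maximality is not assumed); an element of `T` of prime order `r` (a symplectic matrix `x` with `x^r` scalar, `x` not scalar) fixes a point of Ω when it permutes the summands of some such decomposition. Let `r ≠ p` be an odd prime dividing the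 number of such decompositions, let `i` be the multiplicative order of `q` modulo `r`, `c = i` if `i` is even and `c = 2i` if `i` is odd, and write `k = n mod c`, `ℓ = a mod c`. Then every element of `T` of order `r` stabilizes such a decomposition if and only if `c ≤ a` and `k = t·ℓ`. -/
theorem result {F : Type*} [Field F] [Fintype F] {p : ℕ} [Fact p.Prime] [CharP F p] {q : ℕ} (hq : Fintype.card F = q)
    (d : ℕ) (hd : 2 ≤ d) (hT : (d, q) ≠ (2, 2))
    (a t : ℕ) (hat : 2 * d = a * t) (ha : 2 ≤ a) (hae : Even a) (ht : 2 ≤ t)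
    (r : ℕ) [Fact r.Prime] (hr2 : r ≠ 2) (hrp : r ≠ p) (hΩ : r ∣ Nat.card {D : Fin t → Submodule F (Fin d ⊕ Fin d → F) // (Cfsg.Geo.IsMDecomposition a D ∧ (∀ j, ∀ u ∈ D j, u ≠ 0 → ∃ v ∈ D j, Cfsg.sympForm d F u v ≠ 0) ∧
          (∀ j j', j ≠ j' → ∀ u ∈ D j, ∀ v ∈ D j', Cfsg.sympForm d F u v = 0))} / Nat.factorial t)
    (i c : ℕ) (hi : i = orderOf (q : ZMod r)) (hc : c = if Even i then i else 2 * i) :
    (∀ x : ↥(Matrix.symplecticGroup (Fin d) F),
      (∃ z : F, ((x ^ r : ↥(Matrix.symplecticGroup (Fin d) F)) : Matrix (Fin d ⊕ Fin d) (Fin d ⊕ Fin d) F) = z • (1 : Matrix (Fin d ⊕ Fin d) (Fin d ⊕ Fin d) F)) →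
      (∀ z : F, (x : Matrix (Fin d ⊕ Fin d) (Fin d ⊕ Fin d) F) ≠ z • (1 : Matrix (Fin d ⊕ Fin d) (Fin d ⊕ Fin d) F)) →
      ∃ D : Fin t → Submodule F (Fin d ⊕ Fin d → F), (Cfsg.Geo.IsMDecomposition a D ∧ (∀ j, ∀ u ∈ D j, u ≠ 0 → ∃ v ∈ D j, Cfsg.sympForm d F u v ≠ 0) ∧
          (∀ j j', j ≠ j' → ∀ u ∈ D j, ∀ v ∈ D j', Cfsg.sympForm d F u v = 0)) ∧
        ∃ σ : Equiv.Perm (Fin t), ∀ j, (D j).map (Matrix.toLin' (x : Matrix (Fin d ⊕ Fin d) (Fin d ⊕ Fin d) F)) = D (σ j)) ↔
    (c ≤ a ∧ (2 * d) % c = t * (a % c)) := by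
  classical
  subst hq
  subst hi
  have hr := (Fact.out : r.Prime)
  have hq0 := cast_card_ne_zero (F := F) hrp
  have hrF : (r : F) ≠ 0 := fun e0 => by
    rw [CharP.cast_eq_zero_iff F p] at e0
    exact hrp ((Nat.prime_dvd_prime_iff_eq Fact.out hr).mp e0).symm
  set B := CfsgLib.Forms.sympBilin d F
  have hA : B.IsAlt := CfsgLib.Forms.sympBilin_isAlt
  have hV : finrank F (Fin d ⊕ Fin d → F) = 2 * d := CfsgLib.Forms.finrank_sympSpace d
  have hcpos : 0 < c := atom_dim_pos hq0 hc
  have hce : Even c := by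
    rw [hc]; split_ifs with h
    · exact h
    · exact even_two_mul _
  have hi_le : orderOf (Fintype.card F : ZMod r) ∣ r - 1 := orderOf_dvd_of_pow_eq_one (ZMod.pow_card_sub_one_eq_one hq0)
  have hcr : c ≤ r - 1 := by
    refine Nat.le_of_dvd (by have := hr.two_le; omega) ?_
    rw [hc]; split_ifs with h
    · exact hi_le
    · refine (Nat.Coprime.mul_dvd_of_dvd_of_dvd ?_ ?_ hi_le)
      · exact Nat.coprime_two_left.mpr (Nat.not_even_iff_odd.mp h)
      · obtain ⟨k, hk⟩ := hr.odd_of_ne_two hr2
        exact ⟨k, by omega⟩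
  have hal : a = a / c * c + a % c := by rw [mul_comm]; exact (Nat.div_add_mod a c).symm
  have hle : Even (a % c) := hae.mod_even hce
  -- decompositions exist, so the prime divides the order of the group
  have hdvd : r ∣ Nat.card (Matrix.symplecticGroup (Fin d) F) := by
    refine hΩ.trans (dvd_card_symp_decompositions hat hae (by omega) ht ?_)
    obtain ⟨D, hD⟩ := exists_orth_parts (B := B) (g := (1 : Module.End F _)) hA (fun _ _ => rfl) (one_pow r) hr2 hrF hq0
      hc hal hle hce t ⊤ invBy_top sepOn_top 0 (by rw [finrank_top, hV, hat, mul_comm]) (by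
        rw [Nat.zero_mul, Nat.add_zero, show fixedIn (1 : Module.End F (Fin d ⊕ Fin d → F)) ⊤ = ⊤ from
          eq_top_iff.mpr fun v _ => mem_fixedIn.mpr ⟨trivial, rfl⟩])
      (Nat.zero_le _)
    exact ⟨⟨D, isSympDecomp_of_orth hat (by omega) ht (fun j => (hD j).2.2.1) (fun j => (hD j).2.2.2.1)
      fun j j' hne => (hD j).2.2.2.2 j' hne⟩⟩
  obtain ⟨hcn, hmodel⟩ := exists_symp_model (F := F) hrp hr2 hdvd hc
  constructor
  · intro hall
    have hget : ∀ j, 0 < j → j * c ≤ 2 * d → ∃ (g : Module.End F (Fin d ⊕ Fin d → F))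
        (D : Fin t → Submodule F (Fin d ⊕ Fin d → F)) (σ : Equiv.Perm (Fin t)),
        g ^ r = 1 ∧ (∀ u v, B (g u) (g v) = B u v) ∧ finrank F (fixedIn g ⊤) + j * c = 2 * d ∧ g ≠ 1 ∧
          IsSympDecomp d a t D ∧ ∀ k, (D k).map g = D (σ k) := by
      intro j hj hjc
      obtain ⟨x, hx, hfix⟩ := hmodel j hjc
      have hne : Matrix.toLin' (x : Matrix (Fin d ⊕ Fin d) (Fin d ⊕ Fin d) F) ≠ (1 : Module.End F _) := fun e0 => by
        rw [e0, show fixedIn (1 : Module.End F (Fin d ⊕ Fin d → F)) ⊤ = ⊤ from eq_top_iff.mpr fun v _ =>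
            mem_fixedIn.mpr ⟨trivial, rfl⟩, finrank_top, hV] at hfix
        have := Nat.mul_pos hj hcpos
        omega
      obtain ⟨D, hD, σ, hσ⟩ := hall x ⟨1, by rw [hx, one_smul]; rfl⟩ fun z hz => hne (by
        have h1 : (Matrix.toLin' (x : Matrix (Fin d ⊕ Fin d) (Fin d ⊕ Fin d) F) : Module.End F _) = z • 1 := by
          rw [hz, map_smul, Matrix.toLin'_one]; rfl
        have hz1 : z = 1 := by
          set w : Fin d ⊕ Fin d → F := Pi.single (Sum.inl ⟨0, by omega⟩) 1
          obtain ⟨y, -, hy⟩ := sepOn_top (d := d) (F := F) w trivial (by simp [w])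
          have h2 := toLin_isometry x w y
          rw [h1] at h2
          simp only [LinearMap.smul_apply, Module.End.one_apply, map_smul, smul_eq_mul] at h2
          have h3 : z * z = 1 := mul_right_cancel₀ hy (by linear_combination h2)
          have h4 : z ^ r = 1 := by
            have h5 := congrArg (fun f : Module.End F _ => f w (Sum.inl ⟨0, by omega⟩)) ((toLin_pow x r).symm.trans (congrArg (· ^ r) h1))
            simp [smul_pow, hx, w] at h5
            exact h5.symm
          obtain ⟨k, hk⟩ := hr.odd_of_ne_two hr2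
          rw [hk, pow_succ, pow_mul, pow_two, h3, one_pow, one_mul] at h4
          exact h4
        rw [h1, hz1, one_smul])
      exact ⟨_, D, σ, by rw [toLin_pow, hx]; exact Matrix.toLin'_one, toLin_isometry x, hfix, hne, hD, hσ⟩
    -- the moved dimension of a fixed summand is a multiple of `c`
    have hpart : ∀ (g : Module.End F (Fin d ⊕ Fin d → F)) (D : Fin t → Submodule F (Fin d ⊕ Fin d → F)), g ^ r = 1 →
        (∀ u v, B (g u) (g v) = B u v) → IsSympDecomp d a t D → ∀ (σ : Equiv.Perm (Fin t)),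
        (∀ k, (D k).map g = D (σ k)) → ∀ k, σ k = k →
          ∃ j, a = finrank F (fixedIn g (D k)) + j * c := fun g D hg hgB hD σ hσ k hk => by
      have hs : SepOn B (D k) := fun u hu hu0 => by
        obtain ⟨v, hv, h⟩ := hD.2.1 k u hu hu0
        exact ⟨v, hv, by rwa [CfsgLib.Forms.sympBilin_apply]⟩
      obtain ⟨j, hj⟩ := dvd_finrank_moved hA hgB hg hr2 hrF hq0 hc (invBy_iff_map_le.mpr (by rw [hσ, hk])) hs
      exact ⟨j, by rw [← hD.1.finrank_eq k, hj]⟩
    have hca : c ≤ a := by
      by_contra hlt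
      obtain ⟨g, D, σ, hg, hgB, hfix, hne, hD, hσ⟩ := hget 1 one_pos (by omega)
      by_cases hmov : ∃ k, σ k ≠ k
      · obtain ⟨k, hk⟩ := hmov
        have h1 := le_finrank_moving hg (by omega) hD.1.finrank_eq hD.1.indep hD.1.iSup_eq_top hσ hk
        have h2 := LinearMap.finrank_range_add_finrank_ker (g - 1)
        rw [show LinearMap.ker (g - 1) = fixedIn g ⊤ from (top_inf_eq _).symm, hV] at h2
        have h3 : 2 * (r - 1) ≤ a * (r - 1) := Nat.mul_le_mul_right _ ha
        omega
      · push Not at hmov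
        refine hne (LinearMap.ext fun v => ?_)
        have hv : v ∈ iSup D := hD.1.iSup_eq_top ▸ trivial
        induction hv using Submodule.iSup_induction' with
        | mem k x hx =>
          obtain ⟨j, hj⟩ := hpart g D hg hgB hD σ hσ k (hmov k)
          have hj0 : j = 0 := by
            by_contra h
            have := Nat.le_mul_of_pos_left c (Nat.pos_of_ne_zero h)
            omega
          rw [hj0, Nat.zero_mul, Nat.add_zero] at hj
          have hDf : fixedIn g (D k) = D k :=
            Submodule.eq_of_le_of_finrank_le inf_le_left (by rw [hD.1.finrank_eq]; omega)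
          exact (mem_fixedIn.mp (hDf.ge hx)).2
        | zero => simp
        | add x y _ _ hx hy => simp [map_add, hx, hy]
    refine ⟨hca, ?_⟩
    obtain ⟨g, D, σ, hg, hgB, hfix, hne, hD, hσ⟩ := hget (2 * d / c) (Nat.div_pos hcn hcpos) (Nat.div_mul_le_self _ _)
    have hfix' : finrank F (fixedIn g ⊤) = (2 * d) % c := by
      have := Nat.div_add_mod (2 * d) c
      rw [mul_comm] at this
      omega
    have hinv : ∀ k, σ k = k := fun k => by
      by_contra hk
      have h1 := le_finrank_fixedIn_of_moved hg (by omega) hD.1.finrank_eq hD.1.indep hD.1.iSup_eq_top hσ hk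
      have := Nat.mod_lt (2 * d) hcpos
      omega
    have hsum : ∑ k, finrank F (fixedIn g (D k)) ≤ (2 * d) % c := by
      rw [← finrank_iSup_of_indep (fun k => fixedIn g (D k)) (hD.1.indep.mono fun k => inf_le_left), ← hfix']
      exact Submodule.finrank_mono (iSup_le fun k => inf_le_inf_right _ le_top)
    have hl : t * (a % c) ≤ (2 * d) % c := by
      refine le_trans ?_ hsum
      calc t * (a % c) = ∑ _k : Fin t, a % c := by simp
        _ ≤ _ := Finset.sum_le_sum fun k _ => by
          obtain ⟨j, hj⟩ := hpart g D hg hgB hD σ hσ k (hinv k)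
          rw [hj, Nat.add_mul_mod_self_right]
          exact Nat.mod_le _ _
    have hmod : (2 * d) % c = (t * (a % c)) % c := by rw [Nat.mul_mod_mod, hat, mul_comm]
    exact le_antisymm (hmod.le.trans (Nat.mod_le _ _)) hl
  · rintro ⟨hca, hk⟩ x hxr hns
    obtain ⟨g, hg, hgB, -, hmap⟩ := exists_normalised hr2 (by omega) x hxr
    obtain ⟨j, hj⟩ := dvd_finrank_moved hA hgB hg hr2 hrF hq0 hc (invBy_top (g := g)) sepOn_top
    have hjt : j ≤ t * (a / c) := by
      rw [finrank_top, hV] at hj
      have h2 : (2 * d) % c ≤ finrank F (fixedIn g ⊤) := by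
        rw [hj, Nat.add_mul_mod_self_right]; exact Nat.mod_le _ _
      have h3 : j * c ≤ (t * (a / c)) * c := by
        have h4 : 2 * d = t * (a / c * c) + t * (a % c) := by rw [hat, ← Nat.mul_add, ← hal, mul_comm]
        rw [Nat.mul_assoc]
        omega
      exact Nat.le_of_mul_le_mul_right h3 hcpos
    obtain ⟨D, hD⟩ := exists_orth_parts hA hgB hg hr2 hrF hq0 hc hal hle hce t ⊤ invBy_top sepOn_top j
      (by rw [finrank_top, hV, hat, mul_comm]) hj hjt
    have hdec := isSympDecomp_of_orth hat (by omega) ht (fun k => (hD k).2.2.1) (fun k => (hD k).2.2.2.1)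
      fun k k' hne => (hD k).2.2.2.2 k' hne
    exact ⟨D, hdec, 1, fun k => hmap _ (hD k).2.1⟩

end Cfsg.Agent.S5961
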