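import Cfsg.Statements.S5962
import Cfsg.Agent.LinearElements.LagrangianPairs
import Cfsg.Agent.Forms.Symplectic

set_option autoImplicit false
open scoped MatrixGroups
open Cfsg

namespace Cfsg.Agent.S5962

/-- Involutions of PSp_n(q), q odd, and the subgroups GL_{n/2}(q).2. Here `T = PSp_n(q)`, `n = 2d ≥ 4`, `q` odd, realised through the symplectic matrices over the field `F` with `q` elements; Ω is the set of unordered pairs `{U, W}` of complementary totally isotropic `d`-spaces (`F^n = U ⊕ W`), whose stabilizers are the subgroups of type GL_d(q).2 (maximal except in some small cases; maximality is not assumed); an element of `T` of prime order `r` (a symplectic matrix `x` with `x^r` scalar, `x` not scalar) fixes such a pair when it fixes or interchanges `U` and `W`. If the number of such pairs is even, every involution of `T` fixes one of them (the action is 2-elusive). -/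
theorem result {F : Type*} [Field F] [Fintype F] {p : ℕ} [Fact p.Prime] [CharP F p] {q : ℕ} (hq : Fintype.card F = q)
    (d : ℕ) (hd : 2 ≤ d) (hT : (d, q) ≠ (2, 2)) (hodd : Odd q)
    (hΩ : 2 ∣ Nat.card {P : Submodule F (Fin d ⊕ Fin d → F) × Submodule F (Fin d ⊕ Fin d → F) // IsCompl P.1 P.2 ∧ (∀ u ∈ P.1, ∀ v ∈ P.1, Cfsg.sympForm d F u v = 0) ∧ (∀ u ∈ P.2, ∀ v ∈ P.2, Cfsg.sympForm d F u v = 0)} / 2)
    (x : ↥(Matrix.symplecticGroup (Fin d) F))
    (hx1 : ∃ z : F, ((x ^ 2 : ↥(Matrix.symplecticGroup (Fin d) F)) : Matrix (Fin d ⊕ Fin d) (Fin d ⊕ Fin d) F) = z • (1 : Matrix (Fin d ⊕ Fin d) (Fin d ⊕ Fin d) F))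
    (hx2 : ∀ z : F, (x : Matrix (Fin d ⊕ Fin d) (Fin d ⊕ Fin d) F) ≠ z • (1 : Matrix (Fin d ⊕ Fin d) (Fin d ⊕ Fin d) F)) :
    ∃ U W : Submodule F (Fin d ⊕ Fin d → F), IsCompl U W ∧ (∀ u ∈ U, ∀ v ∈ U, Cfsg.sympForm d F u v = 0) ∧ (∀ u ∈ W, ∀ v ∈ W, Cfsg.sympForm d F u v = 0) ∧
        ((U.map (Matrix.toLin' (x : Matrix (Fin d ⊕ Fin d) (Fin d ⊕ Fin d) F)) = U ∧ W.map (Matrix.toLin' (x : Matrix (Fin d ⊕ Fin d) (Fin d ⊕ Fin d) F)) = W) ∨
         (U.map (Matrix.toLin' (x : Matrix (Fin d ⊕ Fin d) (Fin d ⊕ Fin d) F)) = W ∧ W.map (Matrix.toLin' (x : Matrix (Fin d ⊕ Fin d) (Fin d ⊕ Fin d) F)) = U)) := by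
  obtain ⟨z, hz⟩ := hx1
  set X := (x : Matrix (Fin d ⊕ Fin d) (Fin d ⊕ Fin d) F) with hX
  have hz' : X * X = z • (1 : Matrix (Fin d ⊕ Fin d) (Fin d ⊕ Fin d) F) := by
    rw [hX, ← Submonoid.coe_mul, ← pow_two, hz]
  set g := Matrix.toLin' X with hgdef
  set B := CfsgLib.Forms.sympBilin d F with hBdef
  have hgg : ∀ v, g (g v) = z • v := fun v => by
    rw [hgdef, Matrix.toLin'_apply, Matrix.toLin'_apply, Matrix.mulVec_mulVec, hz', Matrix.smul_mulVec, Matrix.one_mulVec]
  have hg : ∀ u v, B (g u) (g v) = B u v := fun u v => by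
    rw [hgdef, Matrix.toLin'_apply, Matrix.toLin'_apply, hBdef, CfsgLib.Forms.sympBilin_apply,
      CfsgLib.Forms.sympBilin_apply, hX, CfsgLib.Forms.sympForm_map]
  have halt : ∀ v, B v v = 0 := fun v => CfsgLib.Forms.sympBilin_isAlt v
  have hnd : ∀ v ∈ (⊤ : Submodule F (Fin d ⊕ Fin d → F)),
      (∀ w ∈ (⊤ : Submodule F (Fin d ⊕ Fin d → F)), B v w = 0) → v = 0 := fun v _ h =>
    CfsgLib.Forms.sympForm_sep v fun w => by rw [← CfsgLib.Forms.sympBilin_apply]; exact h w trivial
  have hz1 : z = 1 ∨ z = -1 := by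
    haveI : Nonempty (Fin d ⊕ Fin d) := ⟨.inl ⟨0, by omega⟩⟩
    obtain ⟨u, hu⟩ := exists_ne (0 : Fin d ⊕ Fin d → F)
    obtain ⟨w, hw⟩ : ∃ w, B u w ≠ 0 := by
      by_contra hall
      push Not at hall
      exact hu (hnd u trivial fun w _ => hall w)
    have h1 := hg (g u) (g w)
    rw [hgg, hgg, hg, map_smul, map_smul, LinearMap.smul_apply, smul_eq_mul, smul_eq_mul] at h1
    exact mul_self_eq_one_iff.mp (mul_right_cancel₀ hw (by linear_combination h1))
  have h2 : (2 : F) ≠ 0 := by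
    refine Ring.two_ne_zero fun hc => ?_
    have := FiniteField.even_card_of_char_two hc
    rw [hq, Nat.odd_iff.mp hodd] at this
    omega
  haveI : Nonempty (Fin d ⊕ Fin d) := ⟨.inl ⟨0, by omega⟩⟩
  classical
  obtain ⟨U, W, h⟩ := CfsgLib.LinearElements.exists_lagrangianPair h2 halt hg hgg hz1
    (decide (¬ IsSquare z)) (by simp) _ ⊤ rfl (fun _ _ => trivial) hnd
  have hinj : Function.Injective g := fun u v huv => by
    have := congrArg g huv
    rw [hgg, hgg] at this
    exact smul_right_injective _ (by rcases hz1 with rfl | rfl <;> simp : z ≠ 0) this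
  have hU : Module.finrank F (U.map g) = Module.finrank F U :=
    (Submodule.equivMapOfInjective g hinj _).finrank_eq.symm
  have hW : Module.finrank F (W.map g) = Module.finrank F W :=
    (Submodule.equivMapOfInjective g hinj _).finrank_eq.symm
  refine ⟨U, W, ⟨disjoint_iff.mpr h.disj, codisjoint_iff.mpr h.sup⟩,
    fun u hu v hv => by rw [← CfsgLib.Forms.sympBilin_apply]; exact h.isoU u hu v hv,
    fun u hu v hv => by rw [← CfsgLib.Forms.sympBilin_apply]; exact h.isoW u hu v hv, ?_⟩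
  have h1 := h.mapU
  have h3 := h.mapW
  by_cases hs : IsSquare z
  · simp only [hs, not_true, decide_false, Bool.false_eq_true, if_false] at h1 h3
    exact Or.inl ⟨Submodule.eq_of_le_of_finrank_eq h1 hU, Submodule.eq_of_le_of_finrank_eq h3 hW⟩
  · simp only [hs, not_false_iff, decide_true, if_true] at h1 h3
    have := Submodule.finrank_mono h1
    have := Submodule.finrank_mono h3
    exact Or.inr ⟨Submodule.eq_of_le_of_finrank_eq h1 (by omega), Submodule.eq_of_le_of_finrank_eq h3 (by omega)⟩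

end Cfsg.Agent.S5962
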