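import Cfsg.Statements.S5963
import Cfsg.Agent.LinearElements.LagrangianCount
import Cfsg.Agent.LinearElements.RClassify
import Cfsg.Agent.SympOrders.Witness

set_option autoImplicit false
open scoped MatrixGroups
open Cfsg

open CfsgLib.LinearElements

namespace Cfsg.Agent.S5963

open Module in
theorem exists_dvd_pow_add_one {F : Type*} [Field F] [Fintype F] (d : ℕ) (hd : 1 ≤ d) (hodd : Odd (Fintype.card F))
    {r : ℕ} [Fact r.Prime] (hrq : ¬ r ∣ Fintype.card F)
    (hΩ : r ∣ Nat.card {P : Submodule F (Fin d ⊕ Fin d → F) × Submodule F (Fin d ⊕ Fin d → F) //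
      IsCompl P.1 P.2 ∧ (∀ u ∈ P.1, ∀ v ∈ P.1, Cfsg.sympForm d F u v = 0) ∧
        (∀ u ∈ P.2, ∀ v ∈ P.2, Cfsg.sympForm d F u v = 0)} / 2) :
    ∃ j, 1 ≤ j ∧ j ≤ d ∧ r ∣ Fintype.card F ^ j + 1 := by
  classical
  let B := CfsgLib.Forms.sympBilin d F
  let V := Fin d ⊕ Fin d → F
  let U₀ : Submodule F V := LinearMap.ker (LinearMap.funLeft F F (Sum.inl : Fin d → Fin d ⊕ Fin d))
  let W₀ : Submodule F V := LinearMap.ker (LinearMap.funLeft F F (Sum.inr : Fin d → Fin d ⊕ Fin d))
  have h₀ : IsCompl U₀ W₀ := by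
    refine ⟨Submodule.disjoint_def.mpr fun v hv hv' => funext fun x => ?_, codisjoint_iff.mpr ?_⟩
    · rcases x with i | i
      · exact congrFun hv i
      · exact congrFun hv' i
    · refine eq_top_iff.mpr fun v _ => Submodule.mem_sup.mpr
        ⟨Sum.elim 0 (v ∘ Sum.inr), funext fun i => rfl, Sum.elim (v ∘ Sum.inl) 0, funext fun i => rfl, ?_⟩
      funext x
      rcases x with i | i
      · exact zero_add _
      · exact add_zero _
  have hU₀ : TotIso B U₀ := fun u hu v hv => by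
    rw [CfsgLib.Forms.sympBilin_apply, CfsgLib.Forms.sympForm_eq_sum]
    refine Finset.sum_eq_zero fun i _ => ?_
    rw [show u (Sum.inl i) = 0 from congrFun hu i, show v (Sum.inl i) = 0 from congrFun hv i]
    ring
  have hW₀ : TotIso B W₀ := fun u hu v hv => by
    rw [CfsgLib.Forms.sympBilin_apply, CfsgLib.Forms.sympForm_eq_sum]
    refine Finset.sum_eq_zero fun i _ => ?_
    rw [show u (Sum.inr i) = 0 from congrFun hu i, show v (Sum.inr i) = 0 from congrFun hv i]
    ring
  obtain ⟨k, hk⟩ := exists_card_isoPairs B CfsgLib.Forms.sympBilin_isAlt CfsgLib.Forms.sympBilin_nondegenerate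
    (CfsgLib.Forms.finrank_sympSpace d) h₀ hU₀ hW₀
  simp only [TotIso, B, CfsgLib.Forms.sympBilin_apply] at hk
  rw [hk] at hΩ
  have heven : 2 ∣ Fintype.card F ^ k * ∏ j ∈ Finset.range d, (Fintype.card F ^ (d - j) + 1) := by
    refine Dvd.dvd.mul_left (Dvd.dvd.trans ?_ (Finset.dvd_prod_of_mem _ (Finset.mem_range.mpr
      (show d - 1 < d by omega)))) _
    exact even_iff_two_dvd.mp ((hodd.pow).add_odd odd_one)
  have h := hΩ.trans (Nat.div_dvd_of_dvd heven)
  rcases (Nat.Prime.dvd_mul Fact.out).mp h with h | h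
  · exact absurd ((Fact.out : r.Prime).dvd_of_dvd_pow h) hrq
  · obtain ⟨j, hj, hdvd⟩ := (Nat.Prime.prime Fact.out).exists_mem_finset_dvd h
    rw [Finset.mem_range] at hj
    exact ⟨d - j, by omega, by omega, hdvd⟩

/-- Extension by zero. -/
def extZero (F : Type*) [Field F] (α β : Type*) : (α → F) →ₗ[F] (α ⊕ β → F) where
  toFun w := Sum.elim w 0
  map_add' w w' := by funext v; cases v <;> simp
  map_smul' a w := by funext v; cases v <;> simp

/-- Derangements of odd prime order of PSp_n(q), q odd, on pairs of complementary totally isotropic subspaces. Here `T = PSp_n(q)`, `n = 2d ≥ 4`, `q` odd, realised through the symplectic matrices over the field `F` with `q` elements; Ω is the set of unordered pairs `{U, W}` of complementary totally isotropic `d`-spaces (`F^n = U ⊕ W`), whose stabilizers are the subgroups of type GL_d(q).2 (maximal except in some small cases; maximality is not assumed); an element of `T` of prime order `r` (a symplectic matrix `x` with `x^r`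 scalar, `x` not scalar) fixes such a pair when it fixes or interchanges `U` and `W`. For every odd prime `r ≠ p` dividing the number of such pairs, some element of `T` of order `r` fixes no such pair (the action is never `r`-elusive for odd `r ≠ p`). -/
theorem result {F : Type*} [Field F] [Fintype F] {p : ℕ} [Fact p.Prime] [CharP F p] {q : ℕ} (hq : Fintype.card F = q)
    (d : ℕ) (hd : 2 ≤ d) (hT : (d, q) ≠ (2, 2)) (hodd : Odd q)
    (r : ℕ) [Fact r.Prime] (hr2 : r ≠ 2) (hrp : r ≠ p) (hΩ : r ∣ Nat.card {P : Submodule F (Fin d ⊕ Fin d → F) × Submodule F (Fin d ⊕ Fin d → F) // IsCompl P.1 P.2 ∧ (∀ u ∈ P.1, ∀ v ∈ P.1, Cfsg.sympForm d F u v = 0) ∧ (∀ u ∈ P.2, ∀ v ∈ P.2, Cfsg.sympForm d F u v = 0)} / 2) :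
    ∃ x : ↥(Matrix.symplecticGroup (Fin d) F),
      (∃ z : F, ((x ^ r : ↥(Matrix.symplecticGroup (Fin d) F)) : Matrix (Fin d ⊕ Fin d) (Fin d ⊕ Fin d) F) = z • (1 : Matrix (Fin d ⊕ Fin d) (Fin d ⊕ Fin d) F)) ∧
      (∀ z : F, (x : Matrix (Fin d ⊕ Fin d) (Fin d ⊕ Fin d) F) ≠ z • (1 : Matrix (Fin d ⊕ Fin d) (Fin d ⊕ Fin d) F)) ∧
      ¬ (∃ U W : Submodule F (Fin d ⊕ Fin d → F), IsCompl U W ∧ (∀ u ∈ U, ∀ v ∈ U, Cfsg.sympForm d F u v = 0) ∧ (∀ u ∈ W, ∀ v ∈ W, Cfsg.sympForm d F u v = 0) ∧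
        ((U.map (Matrix.toLin' (x : Matrix (Fin d ⊕ Fin d) (Fin d ⊕ Fin d) F)) = U ∧ W.map (Matrix.toLin' (x : Matrix (Fin d ⊕ Fin d) (Fin d ⊕ Fin d) F)) = W) ∨
         (U.map (Matrix.toLin' (x : Matrix (Fin d ⊕ Fin d) (Fin d ⊕ Fin d) F)) = W ∧ W.map (Matrix.toLin' (x : Matrix (Fin d ⊕ Fin d) (Fin d ⊕ Fin d) F)) = U))) := by
  subst hq
  have hq0 := cast_card_ne_zero (F := F) hrp
  have hrq : ¬ r ∣ Fintype.card F := fun h => hq0 ((ZMod.natCast_eq_zero_iff _ _).mpr h)
  obtain ⟨j, hj1, hjd, hdvd⟩ := exists_dvd_pow_add_one d (by omega) hodd hrq hΩ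
  have hr3 : 2 < r := lt_of_le_of_ne (Fact.out : r.Prime).two_le (Ne.symm hr2)
  haveI : Fact (2 < r) := ⟨hr3⟩
  have hneg : (Fintype.card F : ZMod r) ^ j = -1 := by
    have h := (ZMod.natCast_eq_zero_iff _ _).mpr hdvd
    rw [Nat.cast_add, Nat.cast_pow, Nat.cast_one] at h
    exact eq_neg_of_add_eq_zero_left h
  obtain ⟨i, hi⟩ : ∃ i, orderOf (Fintype.card F : ZMod r) = i := ⟨_, rfl⟩
  have h2j : i ∣ 2 * j := hi ▸ orderOf_dvd_of_pow_eq_one (by rw [mul_comm, pow_mul, hneg, neg_one_sq])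
  have hnj : ¬ i ∣ j := fun h => by
    rw [← hi] at h
    exact ZMod.neg_one_ne_one (hneg.symm.trans (orderOf_dvd_iff_pow_eq_one.mp h))
  obtain ⟨b, hb⟩ : Even i := by
    by_contra ho
    exact hnj ((Nat.Coprime.dvd_of_dvd_mul_left ((Nat.not_even_iff_odd.mp ho).coprime_two_right) h2j))
  have hipos : 0 < i := Nat.pos_of_dvd_of_pos h2j (by omega)
  have hbd : b ≤ d := by have := Nat.le_of_dvd (by omega) h2j; omega
  have hbneg : (Fintype.card F : ZMod r) ^ b = -1 := by
    refine (sq_eq_one_iff.mp ?_).resolve_left fun h => ?_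
    · rw [← pow_mul, mul_two, ← hb, ← hi, pow_orderOf_eq_one]
    · have := Nat.le_of_dvd (by omega) (hi ▸ orderOf_dvd_of_pow_eq_one h)
      omega
  have hrb : r ∣ Fintype.card F ^ b + 1 := by
    rw [← ZMod.natCast_eq_zero_iff, Nat.cast_add, Nat.cast_pow, hbneg, Nat.cast_one, neg_add_cancel]
  obtain ⟨z, hz⟩ := CfsgLib.SympOrders.exists_torus_plus (F := F) (j := b) (p := p) (by omega)
  obtain ⟨y, hy⟩ : ∃ y : Matrix.symplecticGroup (Fin b) F, orderOf y = r :=
    ⟨z ^ (orderOf z / r), orderOf_pow_orderOf_div (by omega) (hz ▸ hrb)⟩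
  obtain ⟨c, rfl⟩ := Nat.exists_eq_add_of_le hbd
  let x := CfsgLib.SympOrders.spSum (F := F) b c (y, 1)
  have hxr : x ^ r = 1 := by
    show (CfsgLib.SympOrders.spSum b c (y, 1)) ^ r = 1
    rw [← map_pow, Prod.pow_mk, one_pow, ← hy, pow_orderOf_eq_one]
    exact map_one _
  let e := CfsgLib.SympOrders.sumIdx b c
  let ι : (Fin b ⊕ Fin b → F) → (Fin (b + c) ⊕ Fin (b + c) → F) := fun w => Sum.elim w 0 ∘ e.symm
  let g : Module.End F (Fin (b + c) ⊕ Fin (b + c) → F) := Matrix.toLin' (x : Matrix (Fin (b + c) ⊕ Fin (b + c)) (Fin (b + c) ⊕ Fin (b + c)) F)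
  have hgv : ∀ (w : Fin b ⊕ Fin b → F) (w' : Fin c ⊕ Fin c → F), g (Sum.elim w w' ∘ e.symm) =
      Sum.elim (Matrix.mulVec (y : Matrix (Fin b ⊕ Fin b) (Fin b ⊕ Fin b) F) w) w' ∘ e.symm := by
    intro w w'
    show Matrix.mulVec (CfsgLib.SympOrders.spSumMat _ _) _ = _
    rw [CfsgLib.SympOrders.spSumMat, Matrix.reindexAlgEquiv_apply, Matrix.reindex_apply,
      Matrix.submatrix_mulVec_equiv]
    simp [Function.comp_assoc, e, Matrix.fromBlocks_mulVec]
  let h : Module.End F (Fin b ⊕ Fin b → F) := Matrix.toLin' (y : Matrix (Fin b ⊕ Fin b) (Fin b ⊕ Fin b) F)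
  have hhr : h ^ r = 1 := by
    show Matrix.toLinAlgEquiv' (y : Matrix (Fin b ⊕ Fin b) (Fin b ⊕ Fin b) F) ^ r = 1
    rw [← map_pow, ← SubmonoidClass.coe_pow, ← hy, pow_orderOf_eq_one, OneMemClass.coe_one, map_one]
  have hgr : g ^ r = 1 := by
    show Matrix.toLinAlgEquiv' (x : Matrix (Fin (b + c) ⊕ Fin (b + c)) (Fin (b + c) ⊕ Fin (b + c)) F) ^ r = 1
    rw [← map_pow, ← SubmonoidClass.coe_pow, hxr, OneMemClass.coe_one, map_one]
  -- `h` has no non-zero fixed point
  have hhfix : fixedIn h ⊤ = ⊥ := by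
    by_contra hne
    have hd' := orderOf_dvd_finrank_sub hhr hq0 (invBy_top (g := h))
    rw [finrank_top, CfsgLib.Forms.finrank_sympSpace, hi] at hd'
    have hpos : 0 < Module.finrank F (fixedIn h ⊤) := by
      rw [Nat.pos_iff_ne_zero]; intro e; exact hne (Submodule.finrank_eq_zero.mp e)
    rcases Nat.eq_zero_or_pos (2 * b - Module.finrank F (fixedIn h ⊤)) with e | e
    · have htop : fixedIn h ⊤ = ⊤ := Submodule.eq_top_of_finrank_eq (by
        have := Submodule.finrank_le (fixedIn h ⊤)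
        rw [CfsgLib.Forms.finrank_sympSpace] at this ⊢
        omega)
      have h1 : y = 1 := CfsgLib.Forms.sp_ext fun v => by
        rw [OneMemClass.coe_one, Matrix.one_mulVec]
        exact (mem_fixedIn.mp (htop.ge (Submodule.mem_top (x := v)))).2
      rw [h1, orderOf_one] at hy
      exact (Fact.out : r.Prime).one_lt.ne hy
    · have := Nat.le_of_dvd e hd'
      omega
  have hhsurj : Function.Surjective ⇑(h - 1 : Module.End F (Fin b ⊕ Fin b → F)) := by
    refine LinearMap.injective_iff_surjective.mp (LinearMap.ker_eq_bot.mp ?_)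
    rw [← hhfix, fixedIn, top_inf_eq]
  -- the moving space
  have hMle : LinearMap.range (g - 1) ≤
      LinearMap.range (LinearMap.funLeft F F e.symm ∘ₗ extZero F (Fin b ⊕ Fin b) (Fin c ⊕ Fin c)) := by
    rintro _ ⟨v, rfl⟩
    refine ⟨h (v ∘ e ∘ Sum.inl) - v ∘ e ∘ Sum.inl, ?_⟩
    have hv : v = Sum.elim (v ∘ e ∘ Sum.inl) (v ∘ e ∘ Sum.inr) ∘ e.symm := funext fun z => by
      obtain ⟨z, rfl⟩ := e.surjective z
      rw [Function.comp_apply, Equiv.symm_apply_apply]
      cases z <;> rfl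
    show ι _ = g v - v
    conv_rhs => rw [hv, hgv]
    funext z
    obtain ⟨z, rfl⟩ := e.surjective z
    simp only [ι, Function.comp_apply, Pi.sub_apply, Equiv.symm_apply_apply]
    cases z <;> simp [h]
  have hMge : ∀ u, ι u ∈ LinearMap.range (g - 1) := by
    intro u
    obtain ⟨w, hw⟩ := hhsurj u
    refine ⟨ι w, ?_⟩
    show g (Sum.elim w 0 ∘ e.symm) - Sum.elim w 0 ∘ e.symm = ι u
    rw [hgv, ← hw]
    funext z
    obtain ⟨z, rfl⟩ := e.surjective z
    simp only [ι, Function.comp_apply, Pi.sub_apply, Equiv.symm_apply_apply]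
    cases z <;> simp [h]
  have hMdim : Module.finrank F (LinearMap.range (g - 1)) ≤ 2 * b :=
    (Submodule.finrank_mono hMle).trans ((LinearMap.finrank_range_le _).trans (CfsgLib.Forms.finrank_sympSpace b).le)
  let u₁ := ι (Pi.single (Sum.inl ⟨0, by omega⟩) 1)
  let u₂ := ι (Pi.single (Sum.inr ⟨0, by omega⟩) 1)
  have hform : Cfsg.sympForm (b + c) F u₂ u₁ ≠ 0 := by
    rw [CfsgLib.Forms.sympForm_eq_sum, Fin.sum_univ_add]
    simp [u₁, u₂, ι, e, CfsgLib.SympOrders.sumIdx, Pi.single_apply]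
  refine ⟨x, ⟨1, by rw [hxr, one_smul]; rfl⟩, ?_, ?_⟩
  · intro a ha
    have hgd : g = a • 1 := by
      show Matrix.toLin' _ = _
      rw [ha, map_smul, Matrix.toLin'_one]
      rfl
    have hu0 : u₁ ≠ 0 := fun h0 => hform (by rw [h0]; simp [Cfsg.sympForm])
    have har : a ^ r = 1 := by
      have h1 := congrArg (fun f : Module.End F _ => (f ^ r) u₁) hgd
      simp only [hgr, smul_pow, one_pow, LinearMap.smul_apply, Module.End.one_apply] at h1
      exact smul_left_injective F hu0 (show a ^ r • u₁ = (1 : F) • u₁ by rw [one_smul]; exact h1.symm)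
    rw [hgd, eq_one_of_pow_of_not_dvd (F := F) (r := r) (by omega) har, one_smul, sub_self] at hMge
    obtain ⟨w, hw⟩ := hMge (Pi.single (Sum.inl ⟨0, by omega⟩) 1)
    exact hu0 hw.symm
  · rintro ⟨U, W, hUW, hU, hW, hcase⟩
    have hfix : U.map g = U ∧ W.map g = W := by
      rcases hcase with h' | ⟨h1, h2⟩
      · exact h'
      · exfalso
        have hpow : ∀ k, U.map (g ^ (2 * k + 1)) = W := by
          intro k
          induction k with
          | zero => rw [mul_zero, zero_add, pow_one]; exact h1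
          | succ k ih =>
            rw [show 2 * (k + 1) + 1 = (2 * k + 1) + 1 + 1 by omega, pow_succ' g, pow_succ' g,
              Module.End.mul_eq_comp, Submodule.map_comp, Module.End.mul_eq_comp, Submodule.map_comp, ih, h2, h1]
        obtain ⟨k, hk⟩ := (Fact.out : r.Prime).odd_of_ne_two hr2
        have := hpow k
        rw [← hk, hgr, Module.End.one_eq_id, Submodule.map_id] at this
        have hbot : U = ⊥ := by
          have := hUW.inf_eq_bot
          rwa [← ‹U = W›, inf_idem] at this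
        have htop := hUW.sup_eq_top
        rw [← ‹U = W›, sup_idem, hbot] at htop
        refine hform (hU _ ?_ _ ?_) <;> rw [hbot, htop] <;> trivial
    have hcomp : ∀ S : Submodule F (Fin (b + c) ⊕ Fin (b + c) → F), S.map g = S →
        (S.map (g - 1) ≤ S) ∧ (S.map (g - 1) = ⊥ ∨ LinearMap.range (g - 1) ≤ S) := by
      intro S hS
      have hle : S.map (g - 1) ≤ S := by
        rintro _ ⟨v, hv, rfl⟩
        exact S.sub_mem (hS.le (Submodule.mem_map_of_mem hv)) hv
      refine ⟨hle, ?_⟩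
      have hd' := orderOf_dvd_finrank_sub hgr hq0 (invBy_iff_map_le.mpr hS.le)
      rw [hi] at hd'
      have hrn : Module.finrank F (S.map (g - 1)) + Module.finrank F (fixedIn g S) = Module.finrank F S := by
        have h1 := LinearMap.finrank_range_add_finrank_ker ((g - 1) ∘ₗ S.subtype)
        have h2 : LinearMap.ker ((g - 1) ∘ₗ S.subtype) = (fixedIn g S).comap S.subtype := by
          ext ⟨v, hv⟩
          simp [mem_fixedIn, sub_eq_zero, hv]
        rw [LinearMap.range_comp, Submodule.range_subtype, h2,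
          LinearEquiv.finrank_eq (Submodule.comapSubtypeEquivOfLe (show fixedIn g S ≤ S from inf_le_left))] at h1
        exact h1
      rw [show Module.finrank F S - Module.finrank F (fixedIn g S) = Module.finrank F (S.map (g - 1)) by omega] at hd'
      rcases Nat.eq_zero_or_pos (Module.finrank F (S.map (g - 1))) with h0 | h0
      · exact Or.inl (Submodule.finrank_eq_zero.mp h0)
      · right
        have h1 := Nat.le_of_dvd h0 hd'
        have heq : S.map (g - 1) = LinearMap.range (g - 1) :=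
          Submodule.eq_of_le_of_finrank_le (LinearMap.map_le_range) (by omega)
        exact heq ▸ hle
    have hM : LinearMap.range (g - 1) ≤ U ∨ LinearMap.range (g - 1) ≤ W := by
      rcases (hcomp U hfix.1).2 with h0 | h0
      · right
        rw [← Submodule.map_top, ← hUW.sup_eq_top, Submodule.map_sup, h0, bot_sup_eq]
        exact (hcomp W hfix.2).1
      · exact Or.inl h0
    rcases hM with hM | hM
    · exact hform (hU _ (hM (hMge _)) _ (hM (hMge _)))
    · exact hform (hW _ (hM (hMge _)) _ (hM (hMge _)))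

end Cfsg.Agent.S5963
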