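import Cfsg.Statements.S5964
import Cfsg.Agent.LinearElements.SubfieldModels

set_option autoImplicit false
open scoped MatrixGroups
open Cfsg

open CfsgLib.LinearElements

namespace Cfsg.Agent.S5964

/-- Involutions of PSL_n(q) and subfield subgroups. Here `T = PSL_n(F)` for a field `F` with `q = p^f` elements (`n ≥ 2`, `(n, q) ≠ (2, 2), (2, 3)`), `F₀` is the subfield with `q₀` elements where `q = q₀^k` for a prime `k`, and `H` is the subgroup of matrices of determinant 1 lying in the subfield group of `F₀` (invertible matrices over `F₀` times scalars) — a maximal subgroup of type GL_n(q₀) (the case `n = 2`, `q₀ = 2` is excluded); Ω is the set of `T`-conjugates of `H` (cosets of `H`), so an element of `T` of prime order `r` (a matrix `x` of determinant 1 with `x^r` scalar, `x` not scalar) fixes a point of Ω when some conjugate of `x` by a matrix of determinant 1 lies in `H`. Suppose the index of `H` is even. Then every involution of `T` is conjugate in `T` into `H` if and only if either `q` is even, or `k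 = 2` and `(n)_2 ≤ (q − 1)_2`. (For `q` odd and `k` odd the index of `H` is odd, so that case does not arise.) -/
theorem result {F : Type*} [Field F] [Fintype F] {p : ℕ} [Fact p.Prime] [CharP F p] {q : ℕ} (hq : Fintype.card F = q)
    (n : ℕ) (hn : 2 ≤ n) (hT : (n, q) ≠ (2, 2) ∧ (n, q) ≠ (2, 3))
    (F₀ : Subfield F) (k q₀ : ℕ) (hk : k.Prime) (hF₀ : Nat.card ↥F₀ = q₀) (hqk : q = q₀ ^ k) (hC5 : ¬ (n = 2 ∧ q₀ = 2)) (hΩ : 2 ∣ ((Cfsg.Geo.subfieldSubgroup F₀ 1).comap (Matrix.SpecialLinearGroup.toGL : Matrix.SpecialLinearGroup (Fin n) F →* GL (Fin n) F)).index) :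
    (∀ x : Matrix.SpecialLinearGroup (Fin n) F,
      (∃ z : F, ((x ^ 2 : Matrix.SpecialLinearGroup (Fin n) F) : Matrix (Fin n) (Fin n) F) = z • (1 : Matrix (Fin n) (Fin n) F)) →
      (∀ z : F, (x : Matrix (Fin n) (Fin n) F) ≠ z • (1 : Matrix (Fin n) (Fin n) F)) →
      ∃ P : Matrix.SpecialLinearGroup (Fin n) F, P⁻¹ * x * P ∈ ((Cfsg.Geo.subfieldSubgroup F₀ 1).comap (Matrix.SpecialLinearGroup.toGL : Matrix.SpecialLinearGroup (Fin n) F →* GL (Fin n) F))) ↔
    (Odd q → (k = 2 ∧ padicValNat 2 n ≤ padicValNat 2 (q - 1))) := by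
  subst hq
  classical
  have hV : Module.finrank F (Fin n → F) = n := Module.finrank_fin_fun F
  haveI : Fact (Nat.Prime 2) := ⟨Nat.prime_two⟩
  have hq0pos : Odd (Fintype.card F) → k = 2 := by
    intro hodd
    rcases hk.eq_two_or_odd' with h | h
    · exact h
    · exact absurd hΩ (not_two_dvd_index (by omega) hodd h hF₀ hqk)
  constructor
  · intro h hodd
    refine ⟨hq0pos hodd, ?_⟩
    by_contra hlt
    obtain rfl := hq0pos hodd
    have h2 : ringChar F ≠ 2 := fun e =>
      (Nat.not_even_iff_odd.mpr hodd) (Nat.even_iff.mpr (FiniteField.even_card_iff_char_two.mp e))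
    have hcrit : ¬ CritOne (Fintype.card F) 2 (Module.finrank F (Fin n → F)) 1 := by
      rw [hV]
      rintro (h' | ⟨h', -⟩)
      · exact absurd (Nat.le_of_dvd one_pos h') (by omega)
      · exact hlt h'
    have hi : orderOf (Fintype.card F : ZMod 2) = 1 := dvd_card_sub_one_iff.mp (by
      obtain ⟨w, hw⟩ := hodd; omega)
    have hp2 : (2 : ℕ) ≠ p := fun e => h2 (by rw [← ringChar.eq F p] at e; exact e.symm)
    obtain ⟨g, ⟨hdet, ⟨z, hz⟩, hns⟩, hno⟩ :=
      exists_counter_one (F := F) (V := Fin n → F) hp2 (by rw [hV]; omega) hi hcrit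
    have hz0 : z ≠ 0 := ProjOrder.scalar_ne_zero ⟨hdet, ⟨z, hz⟩, hns⟩ hz
    have hnsq : ∀ μ : F, μ ^ 2 ≠ z := fun μ hμ => by
      obtain ⟨U, -, hU, hUd⟩ := exists_invBy_dim_of_root hp2 (m := 1) hz hz0 hμ invBy_top
        (by rw [finrank_top, hV]; omega) (by rw [hi]; simp [Nat.mod_one])
      exact hno U hU hUd
    let τ : Matrix (Fin n) (Fin n) F ≃ₐ[F] Module.End F (Fin n → F) := Matrix.toLinAlgEquiv'
    let x : Matrix.SpecialLinearGroup (Fin n) F := ⟨τ.symm g, by
      rw [← LinearMap.det_toLin', show Matrix.toLin' (τ.symm g) = g from τ.apply_symm_apply g, hdet]⟩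
    have hx : (x : Matrix (Fin n) (Fin n) F) ^ 2 = z • (1 : Matrix (Fin n) (Fin n) F) := by
      show τ.symm g ^ 2 = _
      rw [← map_pow, hz, map_smul, map_one]
    obtain ⟨P, hP⟩ := h x ⟨z, by rw [Matrix.SpecialLinearGroup.coe_pow, hx]⟩ (fun c hc => hns c (τ.symm.injective (by
      rw [map_smul, map_one]; exact hc)))
    obtain ⟨c, hc, hij⟩ := mem_subfieldSL_iff.mp hP
    have hy : ((P⁻¹ * x * P : Matrix.SpecialLinearGroup (Fin n) F) : Matrix (Fin n) (Fin n) F) ^ 2 =
        z • (1 : Matrix (Fin n) (Fin n) F) := by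
      rw [← Matrix.SpecialLinearGroup.coe_pow, show (P⁻¹ * x * P) ^ 2 = P⁻¹ * x ^ 2 * P by simp [sq, mul_assoc],
        Matrix.SpecialLinearGroup.coe_mul, Matrix.SpecialLinearGroup.coe_mul, Matrix.SpecialLinearGroup.coe_pow, hx,
        Matrix.mul_smul, mul_one, Matrix.smul_mul, ← Matrix.SpecialLinearGroup.coe_mul, inv_mul_cancel,
        Matrix.SpecialLinearGroup.coe_one]
    let i₀ : Fin n := ⟨0, by omega⟩
    have hmem : c ^ 2 * z ∈ F₀ := by
      have hsum : c ^ 2 * z = ∑ j, (c * ((P⁻¹ * x * P : Matrix.SpecialLinearGroup (Fin n) F) :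
          Matrix (Fin n) (Fin n) F) i₀ j) * (c * ((P⁻¹ * x * P : Matrix.SpecialLinearGroup (Fin n) F) :
          Matrix (Fin n) (Fin n) F) j i₀) := by
        have e := congrFun (congrFun hy i₀) i₀
        rw [sq, Matrix.mul_apply, Matrix.smul_apply, Matrix.one_apply_eq, smul_eq_mul, mul_one] at e
        rw [← e, Finset.mul_sum]
        exact Finset.sum_congr rfl fun j _ => by ring
      rw [hsum]
      exact F₀.sum_mem fun j _ => F₀.mul_mem (hij _ _) (hij _ _)
    obtain ⟨s, hs⟩ := isSquare_of_mem hF₀ hqk hmem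
    exact hnsq (s / c) (by field_simp; linear_combination -hs)
  · intro hrhs x ⟨z, hz⟩ hns
    rw [Matrix.SpecialLinearGroup.coe_pow] at hz
    let g : Module.End F (Fin n → F) := Matrix.toLin' (x : Matrix (Fin n) (Fin n) F)
    have hgdet : LinearMap.det g = 1 := by rw [LinearMap.det_toLin', x.2]
    have hg : g ^ 2 = z • 1 := by
      show Matrix.toLinAlgEquiv' (x : Matrix (Fin n) (Fin n) F) ^ 2 = _
      rw [← map_pow, hz, map_smul, map_one]
    have hz0 : z ≠ 0 := fun e => by
      haveI : Nonempty (Fin n) := ⟨⟨0, by omega⟩⟩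
      have := congrArg Matrix.det hz
      rw [Matrix.det_pow, x.2, one_pow, e, zero_smul, Matrix.det_zero] at this
      exact one_ne_zero this
    have hgg : ∀ v, g (g v) = z • v := fun v => by
      simpa [sq] using congrArg (fun f : Module.End F (Fin n → F) => f v) hg
    by_cases hodd : Odd (Fintype.card F)
    · obtain ⟨rfl, hle⟩ := hrhs hodd
      have h2 : (2 : F) ≠ 0 := by
        intro e
        have hdvd2 : ringChar F ∣ 2 := ringChar.dvd (by exact_mod_cast e)
        haveI : CharP F (ringChar F) := ringChar.charP F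
        have h2' : ringChar F = 2 := ((Nat.prime_dvd_prime_iff_eq (CharP.char_is_prime F (ringChar F)) Nat.prime_two).mp hdvd2)
        exact (Nat.not_even_iff_odd.mpr hodd) (Nat.even_iff.mpr (FiniteField.even_card_iff_char_two.mp h2'))
      have hroot : ∃ μ : F, μ ^ 2 = z := by
        refine exists_root_of_critOne (m := 1) ?_ (by norm_num) hgdet hg (by rw [hV]; omega)
        rw [hV]
        refine Or.inr ⟨hle, fun _ _ => ?_⟩
        obtain ⟨w, hw⟩ := (Nat.odd_pow_iff (two_ne_zero)).mp (hqk ▸ hodd : Odd (q₀ ^ 2))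
        rw [hqk, hw, show (2 * w + 1) ^ 2 = 1 + 4 * (w * w + w) by ring]
        omega
      obtain ⟨μ, hμ⟩ := hroot
      have hμ0 : μ ≠ 0 := fun e => hz0 (by rw [← hμ, e]; simp)
      have hspan : Submodule.span F {v | ∃ ν : F, g v = ν • v} = ⊤ := by
        refine eq_top_iff.mpr fun v _ => ?_
        have hp : v + μ⁻¹ • g v ∈ {v | ∃ ν : F, g v = ν • v} := ⟨μ, by
          simp only [map_add, map_smul, hgg, ← hμ, smul_add, smul_smul]
          rw [mul_inv_cancel₀ hμ0, one_smul, show μ⁻¹ * μ ^ 2 = μ by field_simp, add_comm]⟩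
        have hm' : v - μ⁻¹ • g v ∈ {v | ∃ ν : F, g v = ν • v} := ⟨-μ, by
          simp only [map_sub, map_smul, hgg, ← hμ, smul_sub, smul_smul, neg_mul, mul_inv_cancel₀ hμ0, neg_smul, one_smul]
          rw [show μ⁻¹ * μ ^ 2 = μ by field_simp]
          abel⟩
        have : v = (2 : F)⁻¹ • (v + μ⁻¹ • g v) + (2 : F)⁻¹ • (v - μ⁻¹ • g v) := by
          rw [← smul_add, add_add_sub_cancel, ← two_smul F, smul_smul, inv_mul_cancel₀ h2, one_smul]
        rw [this]
        exact add_mem (Submodule.smul_mem _ _ (Submodule.subset_span hp)) (Submodule.smul_mem _ _ (Submodule.subset_span hm'))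
      obtain ⟨s, hs, hsspan, hli⟩ := exists_linearIndependent F {v | ∃ ν : F, g v = ν • v}
      rw [hspan] at hsspan
      let B : Module.Basis s F (Fin n → F) := Module.Basis.mk hli (by rw [Subtype.range_coe, hsspan])
      haveI : Fintype s := FiniteDimensional.fintypeBasisIndex B
      choose ν hν using fun i : s => hs i.2
      have hB : ∀ i : s, B i = (i : Fin n → F) := fun i => by simp [B]
      have hn0 : ∀ i : s, (i : Fin n → F) ≠ 0 := fun i => hli.ne_zero i
      have hνμ : ∀ i, μ⁻¹ * ν i ∈ F₀ := by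
        intro i
        have e := hgg (i : Fin n → F)
        rw [hν i, map_smul, hν i, smul_smul, ← hμ] at e
        have e' : ν i * ν i = μ ^ 2 := smul_left_injective F (hn0 i) e
        rcases sq_eq_sq_iff_eq_or_eq_neg.mp (show ν i ^ 2 = μ ^ 2 by rw [← e', sq]) with h' | h'
        · rw [h', inv_mul_cancel₀ hμ0]; exact F₀.one_mem
        · rw [h', mul_neg, inv_mul_cancel₀ hμ0]; exact F₀.neg_mem F₀.one_mem
      haveI : Nontrivial (Fin n → F) := Module.nontrivial_of_finrank_pos (R := F) (by rw [hV]; omega)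
      have hne : Nonempty s := B.index_nonempty
      refine exists_conj_mem_subfield_of_monomial x B id ν (inv_ne_zero hμ0) hνμ
        (fun i => by rw [hB, hB]; exact hν i) fun δ hδ => ?_
      obtain ⟨i⟩ := hne
      refine ⟨Function.update 1 i δ, fun j => ?_, fun j => rfl, ?_⟩
      · rw [Function.update_apply]
        split <;> simp [hδ]
      · rw [Finset.prod_update_of_mem (Finset.mem_univ i)]
        simp
    · have h2c : ringChar F = 2 :=
        FiniteField.even_card_iff_char_two.mpr (Nat.even_iff.mp (Nat.not_odd_iff_even.mp hodd))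
      haveI : CharP F 2 := ringChar.of_eq h2c
      have hsq : ∀ a : F, ∃ b, b * b = a := fun a => by
        obtain ⟨b, hb⟩ := FiniteField.isSquare_of_char_two h2c a
        exact ⟨b, hb.symm⟩
      obtain ⟨μ, hμ⟩ := hsq z
      have hμ0 : μ ≠ 0 := fun e => hz0 (by rw [← hμ, e, mul_zero])
      obtain ⟨PB⟩ := exists_pairBasis (μ⁻¹ • g) (lam := (1 : F)) one_ne_zero (fun v => by
        simp only [LinearMap.smul_apply, map_smul, hgg, ← hμ, smul_smul]
        congr 1
        field_simp)
      choose ν hν using PB.single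
      have hν1 : ∀ j, ν j = 1 := fun j => by
        have e := congrArg (fun w => (μ⁻¹ • g) w) (hν j)
        simp only [LinearMap.smul_apply, map_smul, hgg, ← hμ, smul_smul] at e
        have hv : μ⁻¹ • g (PB.basis (.inr j)) = ν j • PB.basis (.inr j) := hν j
        have e1 : g (PB.basis (.inr j)) = (μ * ν j) • PB.basis (.inr j) := by
          rw [mul_smul, ← hv, smul_smul, mul_inv_cancel₀ hμ0, one_smul]
        rw [e1, smul_smul] at e
        have e' := smul_left_injective F (PB.basis.ne_zero _) e
        field_simp at e'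
        have : (ν j - 1) ^ 2 = 0 := by
          rw [sub_pow_char, one_pow, sub_eq_zero]
          linear_combination -e'
        exact sub_eq_zero.mp (pow_eq_zero_iff two_ne_zero |>.mp this)
      let π : PairIdx PB.b PB.c → PairIdx PB.b PB.c := Sum.map (fun i => (i.1, i.2 + 1)) id
      refine exists_conj_mem_subfield_of_monomial x PB.basis π (fun _ => μ) (inv_ne_zero hμ0)
        (fun _ => by rw [inv_mul_cancel₀ hμ0]; exact F₀.one_mem) (fun i => ?_) fun δ hδ => ?_
      · have hgi : ∀ v, g v = μ • ((μ⁻¹ • g) v) := fun v => by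
          rw [LinearMap.smul_apply, smul_smul, mul_inv_cancel₀ hμ0, one_smul]
        show g _ = _
        rw [hgi]
        congr 1
        rcases i with ⟨a, l⟩ | j
        · fin_cases l
          · exact PB.pair a
          · show (μ⁻¹ • g) (PB.basis (.inl (a, 1))) = PB.basis (.inl (a, 1 + 1))
            rw [← PB.pair a, show (1 + 1 : Fin 2) = 0 from rfl]
            simp only [LinearMap.smul_apply, map_smul, hgg, ← hμ, smul_smul]
            rw [show μ⁻¹ * (μ⁻¹ * (μ * μ)) = 1 by field_simp, one_smul]
        · rw [hν j, hν1 j, one_smul]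
          rfl
      · obtain ⟨w, hw⟩ := hsq δ
        have hw0 : w ≠ 0 := fun e => hδ (by rw [← hw, e, mul_zero])
        have hcard := Module.finrank_eq_card_basis PB.basis
        rw [hV, Fintype.card_sum, Fintype.card_prod, Fintype.card_fin, Fintype.card_fin, Fintype.card_fin] at hcard
        rcases Nat.eq_zero_or_pos PB.c with hc0 | hc0
        · let a₀ : Fin PB.b := ⟨0, by omega⟩
          refine ⟨Sum.elim (fun i => Function.update (1 : Fin PB.b → F) a₀ w i.1) (fun _ => (1 : F)), fun i => ?_, fun i => ?_, ?_⟩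
          · rcases i with ⟨a, l⟩ | j
            · simp only [Sum.elim_inl, Function.update_apply]
              split <;> simp [hw0]
            · simp
          · rcases i with ⟨a, l⟩ | j <;> rfl
          · rw [Fintype.prod_sum_type, Fintype.prod_prod_type]
            simp only [Sum.elim_inl, Sum.elim_inr, Fin.prod_univ_two, Finset.prod_mul_distrib,
              Finset.prod_update_of_mem (Finset.mem_univ a₀), Pi.one_apply, Finset.prod_const_one]
            simp [hw]
        · let j₀ : Fin PB.c := ⟨0, hc0⟩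
          refine ⟨Sum.elim (fun _ => (1 : F)) (Function.update (1 : Fin PB.c → F) j₀ δ), fun i => ?_, fun i => ?_, ?_⟩
          · rcases i with ⟨a, l⟩ | j
            · simp
            · simp only [Sum.elim_inr, Function.update_apply]
              split <;> simp [hδ]
          · rcases i with ⟨a, l⟩ | j <;> rfl
          · rw [Fintype.prod_sum_type]
            simp [Finset.prod_update_of_mem]

end Cfsg.Agent.S5964
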