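import Cfsg.Statements.S5965
import Cfsg.Agent.LinearElements.SubfieldElements
import Cfsg.Agent.LinearElements.SubfieldCounters
import Cfsg.Agent.LinearElements.TwistedModels

set_option autoImplicit false
open scoped MatrixGroups
open Cfsg

open Matrix CfsgLib.LinearElements

namespace Cfsg.Agent.S5965

variable {F : Type*} [Field F] [Fintype F] {F₀ : Subfield F} {n : ℕ}

/-- Dimension two. -/
theorem counter_two {σ : F →+* F} (hσ : ∀ a ∈ F₀, σ a = a) {r : ℕ} [Fact r.Prime] (hr2 : r ≠ 2) {ζ : F}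
    (hord : orderOf ζ = r) (h1 : σ ζ ≠ ζ) (h2 : σ ζ ≠ ζ⁻¹) (hn : n = 2) :
    ∃ x : Matrix.SpecialLinearGroup (Fin n) F,
      (∃ z : F, ((x ^ r : Matrix.SpecialLinearGroup (Fin n) F) : Matrix (Fin n) (Fin n) F) = z • (1 : Matrix (Fin n) (Fin n) F)) ∧
      (∀ z : F, (x : Matrix (Fin n) (Fin n) F) ≠ z • (1 : Matrix (Fin n) (Fin n) F)) ∧
      ∀ P : Matrix.SpecialLinearGroup (Fin n) F, P⁻¹ * x * P ∉ subfieldSL n F₀ := by
  classical
  subst hn
  have hr := (Fact.out : r.Prime)
  have hζr : ζ ^ r = 1 := hord ▸ pow_orderOf_eq_one ζ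
  have hζ0 : ζ ≠ 0 := fun e => by rw [e, orderOf_zero] at hord; exact hr.ne_zero hord.symm
  refine exists_subfield_counter_diag hσ (r := r) (l := ![ζ, ζ⁻¹]) (z := 1) ?_ ?_ ⟨0, 1, ?_⟩ ?_
  · simp [Fin.prod_univ_two, hζ0]
  · intro i; fin_cases i <;> simp [inv_pow, hζr]
  · intro e
    simp only [Matrix.cons_val_zero, Matrix.cons_val_one] at e
    have h3 : ζ ^ 2 = 1 := by rw [sq]; nth_rw 2 [e]; exact mul_inv_cancel₀ hζ0
    have h4 := Nat.le_of_dvd two_pos (hord ▸ orderOf_dvd_of_pow_eq_one h3)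
    have := hr.two_le
    omega
  · intro τ hτ hz hτn M hM hMx
    rw [map_one, mul_one] at hz
    obtain rfl : τ = 1 := by
      have hg := pow_gcd_eq_one.mpr ⟨hτn, hz.symm⟩
      rwa [(Nat.coprime_primes Nat.prime_two hr).mpr (Ne.symm hr2) |>.gcd_eq_one, pow_one] at hg
    have hc := fiber_card_scaled hM hMx (σ ζ)
    have hpos : 0 < (Finset.univ.filter fun i : Fin 2 => σ (![ζ, ζ⁻¹] i) = σ ζ).card :=
      Finset.card_pos.mpr ⟨0, by simp⟩
    rw [hc, Finset.card_pos] at hpos
    obtain ⟨i, hi⟩ := hpos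
    simp only [Finset.mem_filter, Finset.mem_univ, true_and, one_mul] at hi
    fin_cases i
    · exact h1 (by simpa using hi.symm)
    · exact h2 (by simpa using hi.symm)

/-- Dimension at least three, for a field automorphism of order at least three on the roots of unity. -/
theorem counter_odd {σ : F →+* F} (hσ : ∀ a ∈ F₀, σ a = a) {r : ℕ} [Fact r.Prime] (hr5 : 5 ≤ r) {ζ : F}
    (hord : orderOf ζ = r) (h1 : σ ζ ≠ ζ) (h2 : σ ζ ≠ ζ⁻¹) (hn : 3 ≤ n) :
    ∃ x : Matrix.SpecialLinearGroup (Fin n) F,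
      (∃ z : F, ((x ^ r : Matrix.SpecialLinearGroup (Fin n) F) : Matrix (Fin n) (Fin n) F) = z • (1 : Matrix (Fin n) (Fin n) F)) ∧
      (∀ z : F, (x : Matrix (Fin n) (Fin n) F) ≠ z • (1 : Matrix (Fin n) (Fin n) F)) ∧
      ∀ P : Matrix.SpecialLinearGroup (Fin n) F, P⁻¹ * x * P ∉ subfieldSL n F₀ := by
  classical
  obtain ⟨k, rfl⟩ : ∃ k, n = 3 + k := ⟨n - 3, by omega⟩
  have hr := (Fact.out : r.Prime)
  have hζr : ζ ^ r = 1 := hord ▸ pow_orderOf_eq_one ζ
  have hζ0 : ζ ≠ 0 := fun e => by rw [e, orderOf_zero] at hord; exact hr.ne_zero hord.symm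
  have hone : ∀ (c : ℕ) (a : F), 0 < c → c < r → a ^ r = 1 → a ^ c = 1 → a = 1 := fun c a hc hcr ha hac => by
    have h := pow_gcd_eq_one.mpr ⟨hac, ha⟩
    rwa [(hr.coprime_iff_not_dvd.mpr fun hd => by have := Nat.le_of_dvd hc hd; omega).symm.gcd_eq_one, pow_one] at h
  have hne : ∀ c, 0 < c → c < r → ζ ^ c ≠ 1 := fun c hc hcr h => by
    have := Nat.le_of_dvd hc (hord ▸ orderOf_dvd_of_pow_eq_one h); omega
  set B : F := (ζ ^ 2)⁻¹ with hB
  have hB1 : B ≠ 1 := fun e => hne 2 two_pos (by omega) (inv_eq_one.mp e)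
  have hζ1 : ζ ≠ 1 := fun e => hne 1 one_pos (by omega) (by rw [pow_one, e])
  have hζB : ζ ≠ B := fun e => hne 3 (by norm_num) (by omega) (by
    rw [pow_succ]; nth_rw 2 [e]; exact mul_inv_cancel₀ (pow_ne_zero _ hζ0))
  refine exists_subfield_counter_diag hσ (r := r)
    (l := fun i : Fin (3 + k) => if (i : ℕ) < 2 then ζ else if (i : ℕ) = 2 then B else 1) (z := 1) ?_ ?_ ?_ ?_
  · rw [Fin.prod_univ_add, Fin.prod_univ_three]
    simp [hB, show ∀ i : ℕ, ¬ 3 + i ≤ 1 by omega, show ∀ i : ℕ, ¬ 3 + i = 2 by omega, ← sq, hζ0]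
  · intro i
    split_ifs <;> simp [hB, inv_pow, pow_right_comm ζ 2 r, hζr]
  · exact ⟨⟨0, by omega⟩, ⟨2, by omega⟩, by simpa using hζB⟩
  · intro τ hτ hz _ M hM hMx
    rw [map_one, mul_one] at hz
    have key : ∀ a, ((if ζ = a then 2 else 0) + (if B = a then 1 else 0) + (if 1 = a then k else 0)) =
        ((if ζ = σ a / τ then 2 else 0) + (if B = σ a / τ then 1 else 0) + (if 1 = σ a / τ then k else 0)) := by
      intro a
      have h := fiber_card_scaled hM hMx (σ a)
      simp only [σ.injective.eq_iff] at h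
      rw [← CfsgLib.Twist.card_fiber_three ζ B 1 k a, h, ← CfsgLib.Twist.card_fiber_three ζ B 1 k (σ a / τ)]
      congr 1
      ext i
      simp only [Finset.mem_filter, Finset.mem_univ, true_and]
      rw [eq_div_iff hτ, mul_comm]
    have eA := key ζ
    rw [if_pos rfl, if_neg hζB.symm, if_neg hζ1.symm] at eA
    have eB := key B
    rw [if_neg hζB, if_pos rfl, if_neg hB1.symm] at eB
    have cA : σ ζ = τ * ζ ∨ (σ ζ = τ ∧ k = 2) := by
      by_cases a1 : ζ = σ ζ / τ
      · left; rw [eq_div_iff hτ, mul_comm] at a1; exact a1.symm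
      · rw [if_neg a1] at eA
        by_cases a3 : (1 : F) = σ ζ / τ
        · right
          rw [if_pos a3, if_neg (fun a2 => hB1 (a2.trans a3.symm))] at eA
          rw [eq_div_iff hτ, one_mul] at a3
          exact ⟨a3.symm, by omega⟩
        · rw [if_neg a3] at eA
          split_ifs at eA <;> omega
    have cB : σ B = τ * B ∨ (σ B = τ ∧ k = 1) := by
      by_cases a2 : B = σ B / τ
      · left; rw [eq_div_iff hτ, mul_comm] at a2; exact a2.symm
      · rw [if_neg a2] at eB
        by_cases a3 : (1 : F) = σ B / τ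
        · right
          rw [if_pos a3, if_neg (fun a1 => hζ1 (a1.trans a3.symm))] at eB
          rw [eq_div_iff hτ, one_mul] at a3
          exact ⟨a3.symm, by omega⟩
        · rw [if_neg a3] at eB
          split_ifs at eB <;> omega
    have hσB : σ B = (σ ζ ^ 2)⁻¹ := by rw [hB, map_inv₀, map_pow]
    have hσ0 : σ ζ ≠ 0 := fun e => hζ0 (σ.injective (by rw [e, map_zero]))
    have eC := key 1
    rw [if_neg hζ1, if_neg hB1, if_pos rfl, map_one] at eC
    have fin : τ = 1 → (σ ζ ^ 2 = ζ ^ 2 ∨ σ ζ = ζ) → False := by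
      rintro - (h | h)
      · exact h1 ((div_eq_one_iff_eq hζ0).mp (hone 2 _ two_pos (by omega)
          (by rw [div_pow, ← map_pow, hζr, map_one, div_one]) (by rw [div_pow, h, div_self (pow_ne_zero _ hζ0)])))
      · exact h1 h
    rcases cA with hA | ⟨hA, hk2⟩ <;> rcases cB with hB' | ⟨hB', hk1⟩
    · have h3 : τ ^ 3 = 1 := by
        have h := hB'
        rw [hσB, hA, hB] at h
        field_simp at h
        linear_combination -h
      have ht := hone 3 τ (by norm_num) (by omega) hz.symm h3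
      exact fin ht (Or.inr (by rw [hA, ht, one_mul]))
    · -- `B` and `1` are exchanged
      subst hk1
      by_cases a3 : (1 : F) = 1 / τ
      · rw [eq_div_iff hτ, one_mul] at a3
        exact fin a3 (Or.inr (by rw [hA, a3, one_mul]))
      · rw [if_neg a3] at eC
        by_cases a2 : B = 1 / τ
        · rw [hB, one_div, _root_.inv_inj] at a2
          refine h2 ?_
          have h := hB'
          rw [hσB, ← a2] at h
          have h' : (σ ζ * ζ) ^ 2 = 1 := by
            field_simp at h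
            linear_combination -h
          exact eq_inv_of_mul_eq_one_left (hone 2 _ two_pos (by omega)
            (by rw [mul_pow, ← map_pow, hζr, map_one, mul_one]) h')
        · rw [if_neg a2] at eC
          split_ifs at eC <;> omega
    · -- `ζ` and `1` are exchanged
      subst hk2
      by_cases a3 : (1 : F) = 1 / τ
      · rw [eq_div_iff hτ, one_mul] at a3
        refine fin a3 (Or.inl ?_)
        have h := hB'
        rw [hσB, a3, one_mul, hB, _root_.inv_inj] at h
        exact h
      · rw [if_neg a3] at eC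
        by_cases a1 : ζ = 1 / τ
        · refine h2 ?_
          rw [hA, a1, one_div, inv_inv]
        · rw [if_neg a1] at eC
          split_ifs at eC <;> omega
    · omega

/-- The case `k = 2` for `r ∣ q₀ + 1`. -/
theorem counter_quad {σ : F →+* F} (hσ : ∀ a ∈ F₀, σ a = a) {r : ℕ} [Fact r.Prime] (hr2 : r ≠ 2) (hn : 3 ≤ n)
    (hgap : ¬ (n = 6 ∧ r = 3)) {ζ : F} (hord : orderOf ζ = r) (h1 : σ ζ = ζ⁻¹)
    (hspecial : n = r → (r = 3 ∨ r = 5) → ∃ μ : F, orderOf μ = r ^ 2 ∧ σ μ = μ⁻¹) :
    ∃ x : Matrix.SpecialLinearGroup (Fin n) F,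
      (∃ z : F, ((x ^ r : Matrix.SpecialLinearGroup (Fin n) F) : Matrix (Fin n) (Fin n) F) = z • (1 : Matrix (Fin n) (Fin n) F)) ∧
      (∀ z : F, (x : Matrix (Fin n) (Fin n) F) ≠ z • (1 : Matrix (Fin n) (Fin n) F)) ∧
      ∀ P : Matrix.SpecialLinearGroup (Fin n) F, P⁻¹ * x * P ∉ subfieldSL n F₀ := by
  classical
  obtain ⟨l, z, hl0, hprod, hlr, hne, ⟨b, hb, hlb⟩, hasym⟩ :=
    CfsgLib.Twist.exists_asym_powers hr2 hn hgap (fun a => σ a = a⁻¹) hord h1 hspecial
  have hσl : ∀ i, σ (l i) = (l i)⁻¹ := fun i => by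
    obtain ⟨e, he⟩ := hlb i
    rw [he, map_pow, hb, inv_pow]
  refine exists_subfield_counter_diag hσ hprod hlr hne fun τ hτ _ _ M hM hMx => ?_
  obtain ⟨a, ha⟩ := hasym τ⁻¹ (inv_ne_zero hτ)
  refine ha ?_
  have h := fiber_card_scaled hM hMx a⁻¹
  simp only [hσl, _root_.inv_inj] at h
  rw [h]
  congr 1
  ext i
  simp only [Finset.mem_filter, Finset.mem_univ, true_and]
  rw [← _root_.mul_inv_rev, mul_comm]
  exact ⟨fun e => by rw [e, inv_inv], fun e => by rw [← e, inv_inv]⟩

/-- The exceptional case: the spectrum is stable under the automorphism after scaling. -/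
theorem conj_exception {σ : F →+* F} (hmem : ∀ a, σ a = a → a ∈ F₀) (hσσ : ∀ a, σ (σ a) = a)
    {θ : F} (hθ : σ θ ≠ θ) {r : ℕ} [Fact r.Prime] (hr : r = 3 ∨ r = 5) (hn : n = r)
    (hv : padicValNat r (Fintype.card F - 1) = 1) (hinv : ∀ a : F, a ^ r = 1 → σ a = a⁻¹)
    (hc : ∀ τ : F, τ ^ r = 1 → ∃ c, c ≠ 0 ∧ σ c = τ * c)
    (x : Matrix.SpecialLinearGroup (Fin n) F) {z : F}
    (hz : (x : Matrix (Fin n) (Fin n) F) ^ r = z • (1 : Matrix (Fin n) (Fin n) F)) :
    ∃ P : Matrix.SpecialLinearGroup (Fin n) F, P⁻¹ * x * P ∈ subfieldSL n F₀ := by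
  classical
  let X : GL (Fin n) F := Matrix.SpecialLinearGroup.toGL x
  obtain ⟨h, h', d, π, τ, hh, hh', hxh, hτr, hdr, hπ, hpair⟩ :=
    CfsgLib.Twist.exists_pairing_spectrum hr hn hv X (Units.ext x.2) (z := z)
      (by rw [Units.val_pow_eq_pow_val]; exact hz)
  obtain ⟨c, hc0, hσc⟩ := hc τ hτr
  have hσd : ∀ i, σ (c * d i) = c * d (π i) := fun i => by
    have hd0 : d i ≠ 0 := fun e => by
      have := hdr i
      rw [e, zero_pow (Fact.out : r.Prime).ne_zero] at this
      exact zero_ne_one this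
    rw [map_mul, hσc, hinv _ (hdr i), ← hpair i]
    field_simp
  let N : Matrix (Fin n) (Fin n) F := Matrix.of fun i l =>
    if π l = l then (if i = l then 1 else 0)
    else if l < π l then (if i = l ∨ i = π l then 1 else 0)
    else (if i = l then θ else if i = π l then σ θ else 0)
  have hN : ∀ i l, σ (N i l) = N (π i) l := fun i l => by
    have e1 : π i = l ↔ i = π l := ⟨fun e => by rw [← e, hπ], fun e => by rw [e, hπ]⟩
    have e2 : π i = π l ↔ i = l := π.injective.eq_iff
    simp only [N, Matrix.of_apply, e1, e2]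
    by_cases hl : π l = l
    · simp only [hl, if_true]
      split <;> simp
    simp only [hl, if_false]
    by_cases hlt : l < π l
    · simp only [hlt, if_true]
      by_cases h3 : i = l <;> by_cases h4 : i = π l <;> simp [h3, h4, Ne.symm hl]
    · simp only [hlt, if_false]
      by_cases h3 : i = l <;> by_cases h4 : i = π l <;> simp [h3, h4, hl, Ne.symm hl, hσσ]
  have hN0 : N.det ≠ 0 := by
    intro e0
    obtain ⟨v, hv0, hNv⟩ := Matrix.exists_mulVec_eq_zero_iff.mpr e0
    refine hv0 (funext fun i => ?_)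
    have hrow : ∀ i, π i = i → v i = 0 := fun i hi => by
      have := congrFun hNv i
      simp only [Matrix.mulVec, dotProduct, Pi.zero_apply] at this
      rw [Finset.sum_eq_single i] at this
      · simpa [N, hi] using this
      · intro l _ hl
        have hl2 : i ≠ π l := fun e => hl (by rw [← hπ l, ← e, hi])
        simp [N, Ne.symm hl, hl2]
      · simp
    have hpairrow : ∀ a, a < π a → v a = 0 ∧ v (π a) = 0 := fun a ha => by
      have hne : π a ≠ a := ha.ne'
      have row : ∀ i, (i = a ∨ i = π a) → N i a * v a + N i (π a) * v (π a) = 0 := fun i hi => by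
        have := congrFun hNv i
        simp only [Matrix.mulVec, dotProduct, Pi.zero_apply] at this
        rw [← Finset.sum_subset (Finset.subset_univ {a, π a}), Finset.sum_pair hne.symm] at this
        · exact this
        · intro l _ hl
          simp only [Finset.mem_insert, Finset.mem_singleton, not_or] at hl
          have h5 : i ≠ l := by rcases hi with rfl | rfl; exacts [Ne.symm hl.1, Ne.symm hl.2]
          have h6 : i ≠ π l := fun e => by
            rcases hi with rfl | rfl
            · exact hl.2 (by rw [e, hπ])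
            · exact hl.1 (π.injective e).symm
          simp [N, h5, h6]
      have r1 := row a (Or.inl rfl)
      have r2 := row (π a) (Or.inr rfl)
      simp [N, hπ, hne, hne.symm, ha, ha.asymm] at r1 r2
      have h7 : (θ - σ θ) * v (π a) = 0 := by linear_combination r2 - r1
      have h8 := (mul_eq_zero.mp h7).resolve_left (sub_ne_zero.mpr (Ne.symm hθ))
      exact ⟨by simpa [h8] using r1, h8⟩
    rcases lt_trichotomy i (π i) with hi | hi | hi
    · exact (hpairrow i hi).1
    · exact hrow i hi.symm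
    · have := (hpairrow (π i) (by rw [hπ]; exact hi)).2
      rwa [hπ] at this
  have hNu : IsUnit N.det := isUnit_iff_ne_zero.mpr hN0
  set D : Matrix (Fin n) (Fin n) F := Matrix.diagonal fun i => c * d i with hD
  set R : Matrix (Fin n) (Fin n) F := N⁻¹ * D * N with hR
  have hNR : N * R = D * N := by
    rw [hR, ← Matrix.mul_assoc, ← Matrix.mul_assoc, Matrix.mul_nonsing_inv _ hNu, Matrix.one_mul]
  have hRσ : R.map σ = R := by
    have e1 : (N * R).map σ = (N * R).submatrix π id := by
      rw [hNR]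
      ext i l
      rw [Matrix.map_apply, Matrix.submatrix_apply, hD, Matrix.diagonal_mul, Matrix.diagonal_mul, map_mul, hσd, hN]
      rfl
    have e2 : N.map σ = N.submatrix π id := Matrix.ext fun i l => hN i l
    rw [Matrix.map_mul, e2, show (N * R).submatrix π id = N.submatrix π id * R from
      Matrix.ext fun i l => by simp [Matrix.mul_apply]] at e1
    have hsub : IsUnit (N.submatrix π id).det := by
      rw [Matrix.det_permute]
      exact ((Equiv.Perm.sign π).isUnit.map (Int.castRingHom F)).mul hNu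
    exact ((Matrix.isUnit_iff_isUnit_det _).mpr hsub).mul_left_cancel e1
  obtain ⟨C, hCd, hCdet⟩ := CfsgLib.Twist.exists_centralizer_diag (F := F) (⟨0, by have := (Fact.out : r.Prime).pos; omega⟩ : Fin n) d
    (δ := (h.det * N.det)⁻¹)
  have hh0 : h.det ≠ 0 := fun e => by
    have := congrArg Matrix.det hh
    rw [Matrix.det_mul, e, zero_mul, Matrix.det_one] at this
    exact zero_ne_one this
  have hP : (h * C * N).det = 1 := by
    rw [Matrix.det_mul, Matrix.det_mul, hCdet]
    field_simp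
  let P : Matrix.SpecialLinearGroup (Fin n) F := ⟨h * C * N, hP⟩
  refine ⟨P, mem_subfieldSL_iff.mpr ⟨c, hc0, fun i j => ?_⟩⟩
  have hc' : c • (((P⁻¹ * x * P : Matrix.SpecialLinearGroup (Fin n) F)) : Matrix (Fin n) (Fin n) F) = R := by
    have e1 : (x : Matrix (Fin n) (Fin n) F) * (h * C * N) = h * C * (Matrix.diagonal d * N) := by
      rw [← Matrix.mul_assoc, ← Matrix.mul_assoc, show (x : Matrix (Fin n) (Fin n) F) * h = h * Matrix.diagonal d from hxh,
        Matrix.mul_assoc h, ← hCd]
      simp only [Matrix.mul_assoc]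
    have e2 : h * C * N * R = c • ((x : Matrix (Fin n) (Fin n) F) * (h * C * N)) := by
      rw [e1, Matrix.mul_assoc _ N, hNR, show D = c • Matrix.diagonal d by rw [hD, ← Matrix.diagonal_smul]; rfl,
        Matrix.smul_mul, Matrix.mul_smul]
    rw [mul_assoc, Matrix.SpecialLinearGroup.coe_mul, Matrix.SpecialLinearGroup.coe_mul]
    show c • (((P⁻¹ : Matrix.SpecialLinearGroup (Fin n) F) : Matrix (Fin n) (Fin n) F) *
      ((x : Matrix (Fin n) (Fin n) F) * (h * C * N))) = R
    rw [← Matrix.mul_smul, ← e2, ← Matrix.mul_assoc]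
    show ((P⁻¹ : Matrix.SpecialLinearGroup (Fin n) F) : Matrix (Fin n) (Fin n) F) * (P : Matrix (Fin n) (Fin n) F) * R = R
    rw [← Matrix.SpecialLinearGroup.coe_mul, inv_mul_cancel, Matrix.SpecialLinearGroup.coe_one, Matrix.one_mul]
  have := congrFun (congrFun hc' i) j
  rw [Matrix.smul_apply, smul_eq_mul] at this
  rw [this]
  exact hmem _ (congrFun (congrFun hRσ i) j)

/-- Elements of odd prime order r ≠ p of PSL_n(q) and subfield subgroups. Here `T = PSL_n(F)` for a field `F` with `q = p^f` elements (`n ≥ 2`, `(n, q) ≠ (2, 2), (2, 3)`), `F₀` is the subfield with `q₀` elements where `q = q₀^k` for a prime `k`, and `H` is the subgroup of matrices of determinant 1 lying in the subfield group of `F₀` (invertible matrices over `F₀` times scalars) — a maximal subgroup of type GL_n(q₀) (the case `n = 2`, `q₀ = 2` is excluded); Ω is the set of `T`-conjugates of `H` (cosets of `H`), so an element of `T` of prime order `r` (a matrix `x` of determinant 1 with `x^r` scalar, `x` not scalar)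 fixes a point of Ω when some conjugate of `x` by a matrix of determinant 1 lies in `H`. Let `r ≠ p` be an odd prime dividing the index of `H`, with `(n, r) ≠ (6, 3)` and, when `r = k` divides `q₀ − 1`, with `(n)_r ≤ (q − 1)_r`. Then every element of `T` of order `r` is conjugate in `T` into `H` if and only if `r = k`, or `k = 2`, `r = n ∈ {3, 5}` and `(q₀ + 1)_r = r`. The two excluded cases, `(n, r) = (6, 3)` and `r = k ∣ q₀ − 1` with `(n)_r > (q − 1)_r`, are ones where this criterion can fail, so they are left out. -/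
theorem result {F : Type*} [Field F] [Fintype F] {p : ℕ} [Fact p.Prime] [CharP F p] {q : ℕ} (hq : Fintype.card F = q)
    (n : ℕ) (hn : 2 ≤ n) (hT : (n, q) ≠ (2, 2) ∧ (n, q) ≠ (2, 3))
    (F₀ : Subfield F) (k q₀ : ℕ) (hk : k.Prime) (hF₀ : Nat.card ↥F₀ = q₀) (hqk : q = q₀ ^ k) (hC5 : ¬ (n = 2 ∧ q₀ = 2)) (r : ℕ) [Fact r.Prime] (hr2 : r ≠ 2) (hrp : r ≠ p) (hgap : ¬ (n = 6 ∧ r = 3)) (hgapk : r = k → r ∣ q₀ - 1 → padicValNat r n ≤ padicValNat r (q - 1)) (hΩ : r ∣ ((Cfsg.Geo.subfieldSubgroup F₀ 1).comap (Matrix.SpecialLinearGroup.toGL : Matrix.SpecialLinearGroup (Fin n) F →* GL (Fin n) F)).index) :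
    (∀ x : Matrix.SpecialLinearGroup (Fin n) F,
      (∃ z : F, ((x ^ r : Matrix.SpecialLinearGroup (Fin n) F) : Matrix (Fin n) (Fin n) F) = z • (1 : Matrix (Fin n) (Fin n) F)) →
      (∀ z : F, (x : Matrix (Fin n) (Fin n) F) ≠ z • (1 : Matrix (Fin n) (Fin n) F)) →
      ∃ P : Matrix.SpecialLinearGroup (Fin n) F, P⁻¹ * x * P ∈ ((Cfsg.Geo.subfieldSubgroup F₀ 1).comap (Matrix.SpecialLinearGroup.toGL : Matrix.SpecialLinearGroup (Fin n) F →* GL (Fin n) F))) ↔
    (r = k ∨ (k = 2 ∧ r = n ∧ (n = 3 ∨ n = 5) ∧ padicValNat r (q₀ + 1) = 1)) := by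
  subst hq
  classical
  have hr := (Fact.out : r.Prime)
  have hp := (Fact.out : p.Prime)
  obtain ⟨e, he⟩ := exists_frobenius_fixed (F₀ := F₀) (p := p) (by rw [hF₀, hqk]; exact dvd_pow_self _ hk.ne_zero)
  have hq0 : q₀ = p ^ e := hF₀.symm.trans he
  subst hq0
  set σ : F →+* F := iterateFrobenius F p e with hσdef
  have hσpow : ∀ a, σ a = a ^ p ^ e := fun a => iterateFrobenius_def p e a
  have hσ : ∀ a ∈ F₀, σ a = a := fun a ha => by
    haveI := Fintype.ofFinite F₀
    have h1 := FiniteField.pow_card (⟨a, ha⟩ : F₀)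
    rw [← Nat.card_eq_fintype_card, hF₀] at h1
    rw [hσpow]
    exact congrArg Subtype.val h1
  have hq1 : 1 < p ^ e := hF₀ ▸ Finite.one_lt_card
  have hrq0 : ¬ r ∣ p ^ e := fun hd => hrp ((Nat.prime_dvd_prime_iff_eq hr hp).mp (hr.dvd_of_dvd_pow hd))
  set Q : ZMod r := ((p ^ e : ℕ) : ZMod r) with hQ
  have hQ0 : Q ≠ 0 := fun h => hrq0 ((ZMod.natCast_eq_zero_iff _ _).mp h)
  have hqQ : (Fintype.card F : ZMod r) = Q ^ k := by rw [hqk, hQ]; exact Nat.cast_pow _ _
  constructor
  · intro h
    by_contra hno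
    rw [not_or] at hno
    obtain ⟨hrk, hexc⟩ := hno
    obtain ⟨j, hj2, hjn, hne, heq⟩ := prime_dvd_subfield_index (by omega) hk.ne_zero hF₀ hqk hrk hk hrq0 hΩ
    rw [← hQ] at hne heq
    suffices hbad : ∃ x : Matrix.SpecialLinearGroup (Fin n) F,
        (∃ z : F, ((x ^ r : Matrix.SpecialLinearGroup (Fin n) F) : Matrix (Fin n) (Fin n) F) = z • (1 : Matrix (Fin n) (Fin n) F)) ∧
        (∀ z : F, (x : Matrix (Fin n) (Fin n) F) ≠ z • (1 : Matrix (Fin n) (Fin n) F)) ∧
        ∀ P : Matrix.SpecialLinearGroup (Fin n) F, P⁻¹ * x * P ∉ subfieldSL n F₀ by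
      obtain ⟨x, hx1, hx2, hx3⟩ := hbad
      obtain ⟨P, hP⟩ := h x hx1 hx2
      exact hx3 P hP
    by_cases h1 : r ∣ Fintype.card F - 1
    · have hQk : Q ^ k = 1 := by
        rw [← hqQ]; exact orderOf_eq_one_iff.mp (dvd_card_sub_one_iff.mp h1)
      have hQ1 : Q ≠ 1 := fun e1 => hne (by rw [e1, one_pow])
      obtain ⟨u, hu⟩ := exists_prime_orderOf_dvd_card (G := Fˣ) r (by rwa [Fintype.card_units])
      have hord : orderOf (u : F) = r := by rw [orderOf_units, hu]
      have hcast : ∀ a b : ℕ, (u : F) ^ a = (u : F) ^ b → (a : ZMod r) = b := fun a b hab => by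
        have : u ^ a = u ^ b := Units.ext (by simpa using hab)
        rw [pow_eq_pow_iff_modEq, hu] at this
        exact (ZMod.natCast_eq_natCast_iff _ _ _).mpr this
      rcases hk.eq_two_or_odd' with hk2 | hkodd
      · subst hk2
        have hQneg : Q = -1 := (sq_eq_one_iff.mp hQk).resolve_left hQ1
        have hrd : r ∣ p ^ e + 1 := by
          rw [← ZMod.natCast_eq_zero_iff, Nat.cast_add, Nat.cast_one, ← hQ, hQneg, neg_add_cancel]
        have hfix : ∀ a : F, a ≠ 0 → a ^ (p ^ e + 1) = 1 → σ a = a⁻¹ := fun a ha h2 => by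
          rw [hσpow]; exact eq_inv_of_mul_eq_one_left (by rw [← pow_succ]; exact h2)
        refine counter_quad hσ hr2 ?_ hgap hord (hfix _ u.ne_zero ?_) fun hnr hr35 => ?_
        · by_contra hn3
          exact hne (by rw [show j = 2 by omega]; exact hQk)
        · obtain ⟨s, hs⟩ := hrd
          rw [hs, pow_mul, ← Units.val_pow_eq_pow_val, ← hu, pow_orderOf_eq_one, Units.val_one, one_pow]
        · have hv : 2 ≤ padicValNat r (p ^ e + 1) := by
            have := one_le_padicValNat_of_dvd (by omega) hrd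
            rcases Nat.lt_or_ge (padicValNat r (p ^ e + 1)) 2 with hlt | hge
            · exact absurd ⟨rfl, hnr.symm, by omega, by omega⟩ hexc
            · exact hge
          obtain ⟨t, ht⟩ : r ^ 2 ∣ p ^ e + 1 := (padicValNat_dvd_iff_le (by omega)).mpr hv
          obtain ⟨w, hw⟩ := IsCyclic.exists_ofOrder_eq_natCard (α := Fˣ)
          rw [Nat.card_units, Nat.card_eq_fintype_card] at hw
          have hfac : Fintype.card F - 1 = r ^ 2 * ((p ^ e - 1) * t) := by
            have hsq := Nat.sq_sub_sq (p ^ e) 1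
            rw [one_pow] at hsq
            rw [hqk, hsq, ht]; ring
          have ht0 : (p ^ e - 1) * t ≠ 0 := Nat.mul_ne_zero (by omega) (fun e0 => by rw [e0, mul_zero] at ht; omega)
          have ho : orderOf (w ^ ((p ^ e - 1) * t)) = r ^ 2 := by
            rw [orderOf_pow' _ ht0, hw, hfac, Nat.gcd_eq_right (dvd_mul_left _ _),
              Nat.mul_div_cancel _ (Nat.pos_of_ne_zero ht0)]
          refine ⟨_, (orderOf_units (y := w ^ ((p ^ e - 1) * t))).trans ho, hfix _ (Units.ne_zero _) ?_⟩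
          rw [ht, pow_mul, ← Units.val_pow_eq_pow_val, ← ho, pow_orderOf_eq_one, Units.val_one, one_pow]
      · have hQm : Q ≠ -1 := fun e1 => by
          rw [e1, hkodd.neg_one_pow] at hQk
          exact hQ1 (e1.trans hQk)
        have hf1 : σ (u : F) ≠ u := fun e1 => hQ1 (by
          rw [hσpow] at e1
          nth_rw 2 [← pow_one (u : F)] at e1
          have := hcast _ _ e1
          rwa [Nat.cast_one] at this)
        have hf2 : σ (u : F) ≠ (u : F)⁻¹ := fun e1 => hQm (by
          rw [hσpow] at e1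
          have h0 : (u : F) ^ (p ^ e + 1) = (u : F) ^ 0 := by
            rw [pow_succ, e1, inv_mul_cancel₀ u.ne_zero, pow_zero]
          have := hcast _ _ h0
          rw [Nat.cast_add, Nat.cast_one, Nat.cast_zero] at this
          exact eq_neg_of_add_eq_zero_left this)
        rcases Nat.lt_or_ge n 3 with hn3 | hn3
        · exact counter_two hσ hr2 hord hf1 hf2 (by omega)
        · refine counter_odd hσ ?_ hord hf1 hf2 hn3
          by_contra h5
          have h3 : r = 3 := by
            have := hr.two_le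
            interval_cases r <;> first | rfl | exact absurd rfl hr2 | exact absurd hr (by norm_num)
          subst h3
          have := ZMod.pow_card_sub_one_eq_one hQ0
          rcases sq_eq_one_iff.mp this with h2 | h2
          · exact hQ1 h2
          · exact hQm h2
    · exact exists_subfield_counter_block hk (hF₀) hqk hrp h1 hjn hne heq
  · intro hrhs x ⟨z, hz⟩ hns
    rw [Matrix.SpecialLinearGroup.coe_pow] at hz
    haveI : Nonempty (Fin n) := ⟨⟨0, by omega⟩⟩
    rcases hrhs with rfl | ⟨rfl, hrn, hn35, hv⟩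
    · have hz0 : z ≠ 0 := fun e0 => by
        have := congrArg Matrix.det hz
        rw [Matrix.det_pow, x.2, one_pow, e0, zero_smul, Matrix.det_zero] at this
        exact one_ne_zero this
      obtain ⟨μ, hμ⟩ : ∃ μ : F, μ ^ r = z := by
        by_cases h1 : r ∣ Fintype.card F - 1
        · have hQ1 : Q = 1 := by
            have e1 := orderOf_eq_one_iff.mp (dvd_card_sub_one_iff.mp h1)
            rwa [hqQ, ZMod.pow_card] at e1
          have hd : r ∣ p ^ e - 1 := by
            rw [← ZMod.natCast_eq_zero_iff, Nat.cast_sub (by omega), Nat.cast_one, ← hQ, hQ1, sub_self]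
          have hle := hgapk rfl hd
          refine exists_root_of_critOne (m := 1) (V := Fin n → F) (g := Matrix.toLin' (x : Matrix (Fin n) (Fin n) F))
            ?_ (fun hd1 => hr.one_lt.ne' (Nat.dvd_one.mp hd1)) (by rw [LinearMap.det_toLin', x.2]) ?_
            (by rw [Module.finrank_fin_fun]; omega)
          · rw [Module.finrank_fin_fun]
            exact Or.inr ⟨hle, fun h => absurd h hr2⟩
          · show Matrix.toLinAlgEquiv' (x : Matrix (Fin n) (Fin n) F) ^ r = _
            rw [← map_pow, hz, map_smul, map_one]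
        · exact exists_root_of_order_ne_one (fun h => h1 (dvd_card_sub_one_iff.mpr h)) z
      exact exists_conj_subfield_of_root hrp (by omega) hF₀ hqk x
        (μ := μ) (fun e0 => hz0 (by rw [← hμ, e0, zero_pow hr.ne_zero])) (by rw [hz, hμ])
    · have hd : r ∣ p ^ e + 1 := dvd_of_one_le_padicValNat (by omega)
      have hnd : ¬ r ∣ p ^ e - 1 := fun h2 => by
        have h3 := Nat.dvd_sub hd h2
        rw [show p ^ e + 1 - (p ^ e - 1) = 2 by omega] at h3
        exact hr2 ((Nat.prime_dvd_prime_iff_eq hr Nat.prime_two).mp h3)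
      have hfac : Fintype.card F - 1 = (p ^ e + 1) * (p ^ e - 1) := by
        have hsq := Nat.sq_sub_sq (p ^ e) 1
        rw [one_pow] at hsq
        rw [hqk, hsq]
      have hσσ : ∀ a, σ (σ a) = a := fun a => by
        rw [hσpow, hσpow, ← pow_mul, ← sq, ← hqk, FiniteField.pow_card]
      obtain ⟨w, hw⟩ := IsCyclic.exists_ofOrder_eq_natCard (α := Fˣ)
      rw [Nat.card_units, Nat.card_eq_fintype_card] at hw
      have hθ : σ (w : F) ≠ w := fun e1 => by
        rw [hσpow, show p ^ e = p ^ e - 1 + 1 by omega, pow_succ, mul_eq_right₀ w.ne_zero] at e1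
        have h4 := orderOf_dvd_of_pow_eq_one (Units.ext e1 : w ^ (p ^ e - 1) = 1)
        rw [hw, hfac] at h4
        have h5 := Nat.le_of_dvd (by omega) h4
        have h6 : 2 * (p ^ e - 1) ≤ (p ^ e + 1) * (p ^ e - 1) := Nat.mul_le_mul_right _ (by omega)
        omega
      refine conj_exception (fun a ha => CfsgLib.OrthRational57.mem_of_pow_card (by rw [hF₀, ← hσpow, ha])) hσσ hθ
        (r := r) (by omega) hrn.symm (by rw [hfac, padicValNat.mul (by omega) (by omega),
          padicValNat.eq_zero_of_not_dvd hnd, hv]) (fun a ha => ?_) (fun τ hτ => ?_) x hz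
      · rw [hσpow]
        refine eq_inv_of_mul_eq_one_left ?_
        obtain ⟨s, hs⟩ := hd
        rw [← pow_succ, hs, pow_mul, ha, one_pow]
      · have hτ0 : τ ≠ 0 := fun e0 => by
          rw [e0, zero_pow hr.ne_zero] at hτ; exact zero_ne_one hτ
        obtain ⟨b, hb⟩ : ∃ b : ℕ, w ^ b = Units.mk0 τ hτ0 := by
          have hgen : Subgroup.zpowers w = ⊤ := by
            refine Subgroup.eq_top_of_card_eq _ ?_
            rw [Nat.card_zpowers, hw, Nat.card_units, Nat.card_eq_fintype_card]
          have hm : Units.mk0 τ hτ0 ∈ Submonoid.powers w := mem_powers_iff_mem_zpowers.mpr (hgen ▸ Subgroup.mem_top _)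
          exact hm
        have h7 : w ^ (b * (p ^ e + 1)) = 1 := Units.ext (by
          obtain ⟨s, hs⟩ := hd
          rw [pow_mul, hb, Units.val_pow_eq_pow_val, Units.val_mk0, hs, pow_mul, hτ, one_pow, Units.val_one])
        have h8 := orderOf_dvd_of_pow_eq_one h7
        rw [hw, hfac, mul_comm b] at h8
        obtain ⟨s, rfl⟩ := Nat.dvd_of_mul_dvd_mul_left (by omega) h8
        refine ⟨((w ^ s : Fˣ) : F), Units.ne_zero _, ?_⟩
        have h9 : (w : F) ^ ((p ^ e - 1) * s) = τ := by
          rw [← Units.val_pow_eq_pow_val, hb, Units.val_mk0]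
        rw [hσpow, Units.val_pow_eq_pow_val, ← pow_mul, ← h9, ← pow_add]
        congr 1
        conv_lhs => rw [show p ^ e = p ^ e - 1 + 1 by omega]
        ring

end Cfsg.Agent.S5965
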