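import Cfsg.Statements.S5966
import Cfsg.Agent.LinearElements.SubfieldModels
import Cfsg.Agent.LinearElements.JordanModels

set_option autoImplicit false
open scoped MatrixGroups
open Cfsg

open CfsgLib.LinearElements

namespace Cfsg.Agent.S5966

open Module in
/-- In the block basis, a map commuting with `N = [[0,0],[1,0]]` has square determinant. -/
theorem isSquare_det_of_commute {F V : Type*} [Field F] [AddCommGroup V] [Module F V] {t : ℕ}
    (B : Basis (Fin t ⊕ Fin t) F V) (N C : Module.End F V) (h0 : ∀ a, N (B (.inl a)) = B (.inr a))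
    (h1 : ∀ a, N (B (.inr a)) = 0) (hC : N * C = C * N) : IsSquare (LinearMap.det C) := by
  classical
  have hN : ∀ v : V, N v = ∑ a, B.repr v (.inl a) • B (.inr a) := fun v => by
    conv_lhs => rw [← B.sum_repr v]
    simp only [Fintype.sum_sum_type, map_add, map_sum, map_smul, h0, h1, smul_zero, Finset.sum_const_zero, add_zero]
  have hCr : ∀ a, C (B (.inr a)) = ∑ a', B.repr (C (B (.inl a))) (.inl a') • B (.inr a') := fun a => by
    rw [← h0, ← hN]
    exact (congrArg (fun f : Module.End F V => f (B (.inl a))) hC).symm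
  set M := LinearMap.toMatrix B B C with hM
  have h12 : M.toBlocks₁₂ = 0 := by
    ext i j
    simp [hM, Matrix.toBlocks₁₂, LinearMap.toMatrix_apply, hCr, Finsupp.single_apply]
  have h22 : M.toBlocks₂₂ = M.toBlocks₁₁ := by
    ext i j
    simp [hM, Matrix.toBlocks₁₁, Matrix.toBlocks₂₂, LinearMap.toMatrix_apply, hCr, Finsupp.single_apply]
  rw [← LinearMap.det_toMatrix B, ← hM, ← Matrix.fromBlocks_toBlocks M, h12, h22, Matrix.det_fromBlocks_zero₁₂]
  exact ⟨_, rfl⟩

theorem isSquare_descend {F : Type*} [Field F] [Fintype F] {F₀ : Subfield F} {k q₀ : ℕ} (hk : Odd k)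
    (hF₀ : Nat.card F₀ = q₀) (hq : Fintype.card F = q₀ ^ k) (h2 : ringChar F ≠ 2) {δ : F} (hδ : δ ≠ 0) :
    ∃ s f : F, s ≠ 0 ∧ f ≠ 0 ∧ f ∈ F₀ ∧ δ = s ^ 2 * f := by
  haveI := Fintype.ofFinite F₀
  rw [Nat.card_eq_fintype_card] at hF₀
  by_cases hsq : IsSquare δ
  · obtain ⟨s, rfl⟩ := hsq
    exact ⟨s, 1, left_ne_zero_of_mul hδ, one_ne_zero, F₀.one_mem, by ring⟩
  · have h2' : ringChar F₀ ≠ 2 := by
      rwa [Algebra.ringChar_eq F₀ F]
    obtain ⟨f, hf⟩ := FiniteField.exists_nonsquare h2'
    have hf0 : f ≠ 0 := fun e => hf (e ▸ IsSquare.zero)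
    have hfF0 : (f : F) ≠ 0 := fun e => hf0 (Subtype.ext e)
    have hodd0 : Odd q₀ := hF₀ ▸ Nat.odd_iff.mpr (FiniteField.odd_card_of_char_ne_two h2')
    have hnsq : ¬ IsSquare (f : F) := by
      intro h
      rw [FiniteField.isSquare_iff h2 hfF0] at h
      obtain ⟨S, hS, hSe⟩ : ∃ S, Odd S ∧ Fintype.card F / 2 = q₀ / 2 * S := by
        refine ⟨∑ i ∈ Finset.range k, q₀ ^ i, ?_, ?_⟩
        · rw [Finset.odd_sum_iff_odd_card_odd, Finset.filter_true_of_mem fun j _ => hodd0.pow, Finset.card_range]
          exact hk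
        · have h := geom_sum_mul_of_one_le (x := q₀) hodd0.pos k
          rw [← hq] at h
          have hc : Odd (Fintype.card F) := hq ▸ hodd0.pow
          obtain ⟨w, hw⟩ := hodd0
          obtain ⟨v, hv⟩ := hc
          rw [hw, hv] at h ⊢
          rw [show (2 * w + 1) / 2 = w by omega, show (2 * v + 1) / 2 = v by omega]
          rw [Nat.add_sub_cancel, Nat.add_sub_cancel] at h
          linarith
      have e : f ^ (q₀ / 2) = -1 := by
        rcases FiniteField.pow_dichotomy h2' hf0 with e | e <;> rw [hF₀] at e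
        · exact absurd ((FiniteField.isSquare_iff h2' hf0).mpr (hF₀.symm ▸ e)) hf
        · exact e
      have e' : (f : F) ^ (q₀ / 2) = -1 := by
        have := congrArg Subtype.val e
        simpa using this
      rw [hSe, pow_mul, e', hS.neg_one_pow] at h
      exact Ring.neg_one_ne_one_of_char_ne_two h2 h
    have hprod : IsSquare (δ / (f : F)) := by
      rw [FiniteField.isSquare_iff h2 (div_ne_zero hδ hfF0), div_pow]
      have e1 := (FiniteField.pow_dichotomy h2 hδ).resolve_left (fun e => hsq ((FiniteField.isSquare_iff h2 hδ).mpr e))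
      have e2 := (FiniteField.pow_dichotomy h2 hfF0).resolve_left
        (fun e => hnsq ((FiniteField.isSquare_iff h2 hfF0).mpr e))
      rw [e1, e2]
      norm_num
    obtain ⟨s, hs⟩ := hprod
    refine ⟨s, f, fun e => div_ne_zero hδ hfF0 (by rw [hs, e, mul_zero]), hfF0, f.2, ?_⟩
    rw [sq, ← hs]
    field_simp

/-- Elements of order 3 of PSL_n(q) in characteristic 3 and subfield subgroups. Here `T = PSL_n(F)` for a field `F` with `q` elements, `q` a power of 3 (`n ≥ 2`, `(n, q) ≠ (2, 2), (2, 3)`), `F₀` is the subfield with `q₀` elements where `q = q₀^k` for a prime `k`, and `H` is the subgroup of matrices of determinant 1 lying in the subfield group of `F₀` (invertible matrices over `F₀` times scalars) — a maximal subgroup of type GL_n(q₀) (the case `n = 2`, `q₀ = 2` is excluded); Ω is the set of `T`-conjugates of `H` (cosets of `H`), so an element of `T` of prime order `r` (a matrix `x` of determinant 1 with `x^r` scalar, `x` not scalar) fixes a point of Ω when some conjugate of `x` by a matrix of determinant 1 lies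 in `H`. Suppose 3 divides the index of `H`. Then every element of `T` of order 3 is conjugate in `T` into `H` if and only if `n` is odd, or `n` is even and `k > 2`. -/
theorem result {F : Type*} [Field F] [Fintype F] [CharP F 3] {q : ℕ} (hq : Fintype.card F = q)
    (n : ℕ) (hn : 2 ≤ n) (hT : (n, q) ≠ (2, 3))
    (F₀ : Subfield F) (k q₀ : ℕ) (hk : k.Prime) (hF₀ : Nat.card ↥F₀ = q₀) (hqk : q = q₀ ^ k) (hC5 : ¬ (n = 2 ∧ q₀ = 2)) (hΩ : 3 ∣ ((Cfsg.Geo.subfieldSubgroup F₀ 1).comap (Matrix.SpecialLinearGroup.toGL : Matrix.SpecialLinearGroup (Fin n) F →* GL (Fin n) F)).index) :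
    (∀ x : Matrix.SpecialLinearGroup (Fin n) F,
      (∃ z : F, ((x ^ 3 : Matrix.SpecialLinearGroup (Fin n) F) : Matrix (Fin n) (Fin n) F) = z • (1 : Matrix (Fin n) (Fin n) F)) →
      (∀ z : F, (x : Matrix (Fin n) (Fin n) F) ≠ z • (1 : Matrix (Fin n) (Fin n) F)) →
      ∃ P : Matrix.SpecialLinearGroup (Fin n) F, P⁻¹ * x * P ∈ ((Cfsg.Geo.subfieldSubgroup F₀ 1).comap (Matrix.SpecialLinearGroup.toGL : Matrix.SpecialLinearGroup (Fin n) F →* GL (Fin n) F))) ↔
    (Odd n ∨ (Even n ∧ 2 < k)) := by
  subst hq
  classical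
  haveI : Fact (Nat.Prime 3) := ⟨Nat.prime_three⟩
  have h2 : ringChar F ≠ 2 := by rw [ringChar.eq F 3]; norm_num
  have hV : Module.finrank F (Fin n → F) = n := Module.finrank_fin_fun F
  constructor
  · intro h
    by_contra hno
    rw [not_or, Nat.not_odd_iff_even] at hno
    obtain ⟨⟨t, ht⟩, hk2⟩ := hno
    have hk2' : k = 2 := le_antisymm (not_lt.mp fun hh => hk2 ⟨⟨t, ht⟩, hh⟩) hk.two_le
    subst hk2'
    obtain ⟨ν, hν⟩ := FiniteField.exists_nonsquare h2
    have hν0 : ν ≠ 0 := fun e => hν (e ▸ IsSquare.zero)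
    let e : Fin t ⊕ Fin t ≃ Fin n := finSumFinEquiv.trans (finCongr ht.symm)
    let i₀ : Fin n := ⟨0, by omega⟩
    let B : Module.Basis (Fin n) F (Fin n → F) :=
      (Pi.basisFun F (Fin n)).unitsSMul (Function.update 1 i₀ (Units.mk0 ν hν0))
    have hBdet : ((Pi.basisFun F (Fin n)).toMatrix B).det = ν := by
      rw [Module.Basis.toMatrix_unitsSMul, Matrix.det_diagonal]
      show ∏ i, ((Function.update (1 : Fin n → Fˣ) i₀ (Units.mk0 ν hν0) i : Fˣ) : F) = ν
      rw [Finset.prod_eq_single i₀ (fun i _ hi => by simp [hi]) (fun h => absurd (Finset.mem_univ _) h)]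
      simp
    let N : Module.End F (Fin n → F) :=
      (B.reindex e.symm).constr F (Sum.elim (fun a => B (e (.inr a))) 0)
    have hN0 : ∀ a, N (B (e (.inl a))) = B (e (.inr a)) := fun a => by
      have := (B.reindex e.symm).constr_basis F (Sum.elim (fun a => B (e (.inr a))) 0) (.inl a)
      rw [Module.Basis.reindex_apply, Equiv.symm_symm] at this
      exact this
    have hN1 : ∀ a, N (B (e (.inr a))) = 0 := fun a => by
      have := (B.reindex e.symm).constr_basis F (Sum.elim (fun a => B (e (.inr a))) 0) (.inr a)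
      rw [Module.Basis.reindex_apply, Equiv.symm_symm] at this
      exact this
    have hNN : N * N = 0 := by
      refine (B.reindex e.symm).ext fun i => ?_
      rcases i with a | a <;> simp [hN0, hN1]
    have hN3 : N ^ 3 = 0 := by rw [pow_succ, sq, hNN, zero_mul]
    have hN_ne : N ≠ 0 := fun e0 => by
      have := hN0 ⟨0, by omega⟩
      rw [e0, LinearMap.zero_apply] at this
      exact B.ne_zero _ this.symm
    obtain ⟨hg3, hgdet, hgns⟩ := one_add_nilpotent 3 hN3
    let τ : Matrix (Fin n) (Fin n) F ≃ₐ[F] Module.End F (Fin n → F) := Matrix.toLinAlgEquiv'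
    let x : Matrix.SpecialLinearGroup (Fin n) F := ⟨τ.symm (1 + N), by
      rw [← LinearMap.det_toLin', show Matrix.toLin' (τ.symm (1 + N)) = 1 + N from τ.apply_symm_apply _, hgdet]⟩
    have hx3 : x ^ 3 = 1 := by
      apply Subtype.ext
      rw [Matrix.SpecialLinearGroup.coe_pow, Matrix.SpecialLinearGroup.coe_one]
      show τ.symm (1 + N) ^ 3 = 1
      rw [← map_pow, hg3, map_one]
    obtain ⟨P, hP⟩ := h x ⟨1, by rw [hx3, Matrix.SpecialLinearGroup.coe_one, one_smul]⟩ (fun c hc => hgns hN_ne c
      (τ.symm.injective (by rw [map_smul, map_one]; exact hc)))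
    obtain ⟨c, hc, hij⟩ := mem_subfieldSL_iff.mp hP
    set Y := ((P⁻¹ * x * P : Matrix.SpecialLinearGroup (Fin n) F) : Matrix (Fin n) (Fin n) F) with hY
    have hY3 : Y ^ 3 = 1 := by
      rw [hY, ← Matrix.SpecialLinearGroup.coe_pow, show P⁻¹ * x * P = P⁻¹ * x * (P⁻¹)⁻¹ by rw [inv_inv], conj_pow,
        hx3, mul_one, mul_inv_cancel, Matrix.SpecialLinearGroup.coe_one]
    let Y₀ : Matrix (Fin n) (Fin n) F₀ := fun i j => ⟨c * Y i j, hij i j⟩
    have hY₀ : Y₀.map F₀.subtype = c • Y := rfl
    have hc3 : c ^ 3 ∈ F₀ := by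
      have e1 : (Y₀ ^ 3).map F₀.subtype = c ^ 3 • (1 : Matrix (Fin n) (Fin n) F) := by
        have := map_pow (F₀.subtype.mapMatrix (m := Fin n)) Y₀ 3
        rw [RingHom.mapMatrix_apply, RingHom.mapMatrix_apply, hY₀, smul_pow, hY3] at this
        exact this
      have e2 := congrFun (congrFun e1 i₀) i₀
      rw [Matrix.smul_apply, Matrix.one_apply_eq, smul_eq_mul, mul_one] at e2
      rw [← e2]
      exact ((Y₀ ^ 3) i₀ i₀).2
    have hcF : c ∈ F₀ := by
      haveI := Fintype.ofFinite F₀
      obtain ⟨b, hb⟩ := (Finite.surjective_of_injective (frobenius_inj F₀ 3)) ⟨c ^ 3, hc3⟩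
      have := congrArg Subtype.val hb
      rw [frobenius_def] at this
      have hbc : frobenius F 3 (b : F) = frobenius F 3 c := by simpa [frobenius_def] using this
      exact frobenius_inj F 3 hbc ▸ b.2
    have hYF : ∀ i j, Y i j ∈ F₀ := fun i j => by
      have : Y i j = c⁻¹ * (c * Y i j) := by field_simp
      rw [this]
      exact F₀.mul_mem (F₀.inv_mem hcF) (hij i j)
    let φ := Matrix.SpecialLinearGroup.toLin' P
    let N' : Module.End F (Fin n → F) := Matrix.toLin' Y - 1
    have hN' : ∀ v, φ (N' v) = N (φ v) := by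
      intro v
      show Matrix.toLin' (P : Matrix (Fin n) (Fin n) F) (Matrix.toLin' Y v - v) =
        N (Matrix.toLin' (P : Matrix (Fin n) (Fin n) F) v)
      rw [map_sub, ← LinearMap.comp_apply, ← Matrix.toLin'_mul, hY, ← Matrix.SpecialLinearGroup.coe_mul,
        show P * (P⁻¹ * x * P) = x * P by simp [mul_assoc], Matrix.SpecialLinearGroup.coe_mul, Matrix.toLin'_mul,
        LinearMap.comp_apply, show Matrix.toLin' (x : Matrix (Fin n) (Fin n) F) = 1 + N from τ.apply_symm_apply _,
        LinearMap.add_apply, Module.End.one_apply, add_sub_cancel_left]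
    have hNN' : ∀ v, N' (N' v) = 0 := fun v => φ.injective (by
      rw [map_zero, hN', hN', ← Module.End.mul_apply, hNN, LinearMap.zero_apply])
    -- real vectors whose images span the range
    obtain ⟨J, hJsub, hJspan, hJli⟩ := exists_linearIndependent F (Set.range fun j : Fin n => N' (Pi.single j 1))
    have hrange : Submodule.span F (Set.range fun j : Fin n => N' (Pi.single j 1)) = LinearMap.range N' := by
      rw [show (fun j : Fin n => N' (Pi.single j 1)) = N' ∘ (fun j => Pi.basisFun F (Fin n) j) by funext j; simp,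
        Set.range_comp, ← Submodule.map_span, (Pi.basisFun F (Fin n)).span_eq, Submodule.map_top]
    rw [hrange] at hJspan
    have hrk : Module.finrank F (LinearMap.range N') = t := by
      have e1 : LinearMap.range N' = (LinearMap.range N).map φ.symm.toLinearMap := by
        ext v
        simp only [LinearMap.mem_range, Submodule.mem_map, LinearEquiv.coe_coe]
        constructor
        · rintro ⟨w, rfl⟩; exact ⟨_, ⟨φ w, rfl⟩, by rw [← hN', LinearEquiv.symm_apply_apply]⟩
        · rintro ⟨_, ⟨w, rfl⟩, rfl⟩; exact ⟨φ.symm w, φ.injective (by rw [hN', φ.apply_symm_apply, φ.apply_symm_apply])⟩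
      have e2 : LinearMap.range N = Submodule.span F (Set.range fun a => B (e (.inr a))) := by
        rw [show LinearMap.range N = LinearMap.range ((B.reindex e.symm).constr F (Sum.elim (fun a => B (e (.inr a))) 0))
          from rfl, Module.Basis.constr_range, Set.Sum.elim_range]
        rcases isEmpty_or_nonempty (Fin t) with h0 | h0
        · simp [Set.range_eq_empty]
        · rw [Pi.zero_def, Set.range_const, Submodule.span_union, Submodule.span_zero_singleton, sup_bot_eq]
      rw [e1, LinearEquiv.finrank_map_eq, e2,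
        finrank_span_eq_card (show LinearIndependent F (fun a => B (e (.inr a))) from
          B.linearIndependent.comp _ (e.injective.comp Sum.inr_injective)), Fintype.card_fin]
    haveI : Fintype J := Fintype.ofFinite J
    have hJcard : Fintype.card J = t := by
      rw [← hrk, ← hJspan]
      conv_rhs => rw [show J = Set.range (Subtype.val : J → Fin n → F) from Subtype.range_coe.symm]
      exact (finrank_span_eq_card hJli).symm
    let εJ : Fin t ≃ J := (Fintype.equivFinOfCardEq hJcard).symm
    choose col hcol using fun a => hJsub (εJ a).2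
    let w : Fin t → (Fin n → F) := fun a => Pi.single (col a) 1
    have hwN : LinearIndependent F (fun a => N' (w a)) := by
      have : (fun a => N' (w a)) = (Subtype.val : J → Fin n → F) ∘ εJ := funext fun a => hcol a
      rw [this]
      exact hJli.comp _ εJ.injective
    have hR : LinearIndependent F (Sum.elim w (fun a => N' (w a))) := by
      rw [Fintype.linearIndependent_iff]
      intro g hg
      have hg' := congrArg N' hg
      simp only [Fintype.sum_sum_type, Sum.elim_inl, Sum.elim_inr, map_add, map_sum, map_smul, hNN', smul_zero,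
        Finset.sum_const_zero, add_zero, map_zero] at hg'
      have hA := Fintype.linearIndependent_iff.mp hwN _ hg'
      simp only [Fintype.sum_sum_type, Sum.elim_inl, Sum.elim_inr, hA, zero_smul, Finset.sum_const_zero, zero_add] at hg
      have hB := Fintype.linearIndependent_iff.mp hwN _ hg
      rintro (a | a)
      · exact hA a
      · exact hB a
    haveI : Nonempty (Fin n) := ⟨i₀⟩
    let R : Module.Basis (Fin n) F (Fin n → F) := basisOfLinearIndependentOfCardEqFinrank
      (hR.comp _ e.symm.injective) (by rw [hV, Fintype.card_fin])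
    have hRe : ∀ i, R (e i) = Sum.elim w (fun a => N' (w a)) i := fun i => by simp [R]
    let C : Module.End F (Fin n → F) := (B.equiv (R.map φ) (Equiv.refl _)).toLinearMap
    have hCB : ∀ i, C (B i) = φ (R i) := fun i => by simp [C]
    have hcomm : N * C = C * N := by
      refine (B.reindex e.symm).ext fun i => ?_
      rw [Module.End.mul_apply, Module.End.mul_apply, Module.Basis.reindex_apply, Equiv.symm_symm]
      rcases i with a | a
      · rw [hCB, hN0, hCB, hRe, hRe, ← hN']; rfl
      · rw [hCB, hN1, map_zero, hRe, ← hN']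
        show φ (N' (N' (w a))) = 0
        rw [hNN', map_zero]
    have hsq : IsSquare (LinearMap.det C) := by
      refine isSquare_det_of_commute (B.reindex e.symm) N C (fun a => ?_) (fun a => ?_) hcomm
      · rw [Module.Basis.reindex_apply, Module.Basis.reindex_apply]; exact hN0 a
      · rw [Module.Basis.reindex_apply]; exact hN1 a
    let std := Pi.basisFun F (Fin n)
    have hkey : LinearMap.toMatrix B std C = (P : Matrix (Fin n) (Fin n) F) * std.toMatrix R := by
      ext i j
      rw [LinearMap.toMatrix_apply, hCB, Matrix.mul_apply]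
      show Matrix.mulVec (P : Matrix (Fin n) (Fin n) F) (R j) i = _
      simp [std, Matrix.mulVec, dotProduct, Module.Basis.toMatrix_apply]
    have hdets : LinearMap.det C * ν = (std.toMatrix R).det := by
      have h1 := congrArg Matrix.det hkey
      rw [← basis_toMatrix_mul_linearMap_toMatrix B std B C, Matrix.det_mul,
        Matrix.det_mul, LinearMap.det_toMatrix, P.2, one_mul, hBdet, mul_comm] at h1
      exact h1
    have hR0 : (std.toMatrix R).det ∈ F₀ := by
      have hreal : ∀ i j, std.toMatrix R i j ∈ F₀ := by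
        intro i j
        rw [Module.Basis.toMatrix_apply, Pi.basisFun_repr]
        obtain ⟨a, rfl⟩ := e.surjective j
        rw [hRe]
        rcases a with a | a
        · show (Pi.single (col a) (1 : F) : Fin n → F) i ∈ F₀
          rw [Pi.single_apply]; split
          · exact F₀.one_mem
          · exact F₀.zero_mem
        · show (Matrix.toLin' Y (Pi.single (col a) 1) - (Pi.single (col a) (1 : F) : Fin n → F)) i ∈ F₀
          rw [Pi.sub_apply, Matrix.toLin'_apply, Matrix.mulVec_single_one, Matrix.col_apply, Pi.single_apply]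
          refine F₀.sub_mem (hYF _ _) ?_
          split
          · exact F₀.one_mem
          · exact F₀.zero_mem
      let R₀ : Matrix (Fin n) (Fin n) F₀ := fun i j => ⟨_, hreal i j⟩
      have : std.toMatrix R = F₀.subtype.mapMatrix R₀ := rfl
      rw [this, ← RingHom.map_det]
      exact R₀.det.2
    obtain ⟨s, hs⟩ := isSquare_of_mem hF₀ hqk hR0
    obtain ⟨u, hu⟩ := hsq
    have hu0 : u ≠ 0 := by
      rintro rfl
      exact (LinearEquiv.isUnit_det' (B.equiv (R.map φ) (Equiv.refl _))).ne_zero (hu.trans (mul_zero 0))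
    refine hν ⟨s / u, ?_⟩
    rw [hs, hu] at hdets
    field_simp
    linear_combination hdets
  · intro hrhs x ⟨z, hz⟩ hns
    rw [Matrix.SpecialLinearGroup.coe_pow] at hz
    haveI : Nonempty (Fin n) := ⟨⟨0, by omega⟩⟩
    let g : Module.End F (Fin n → F) := Matrix.toLin' (x : Matrix (Fin n) (Fin n) F)
    have hg : g ^ 3 = z • 1 := by
      show Matrix.toLinAlgEquiv' (x : Matrix (Fin n) (Fin n) F) ^ 3 = _
      rw [← map_pow, hz, map_smul, map_one]
    have hz0 : z ≠ 0 := fun e => by
      have := congrArg Matrix.det hz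
      rw [Matrix.det_pow, x.2, one_pow, e, zero_smul, Matrix.det_zero] at this
      exact one_ne_zero this
    obtain ⟨μ, hμ⟩ := (Finite.surjective_of_injective (frobenius_inj F 3)) z
    rw [frobenius_def] at hμ
    have hμ0 : μ ≠ 0 := fun e => hz0 (by rw [← hμ, e]; simp)
    haveI : Nontrivial (Fin n → F) := Module.nontrivial_of_finrank_pos (R := F) (by rw [hV]; omega)
    haveI : CharP (Module.End F (Fin n → F)) 3 := charP_of_injective_algebraMap' F 3
    set N : Module.End F (Fin n → F) := μ⁻¹ • g - 1 with hN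
    have hN3 : N ^ 3 = 0 := by
      rw [hN, sub_pow_char_of_commute _ (Commute.one_right _), one_pow, smul_pow, hg, inv_pow, hμ, smul_smul,
        inv_mul_cancel₀ hz0, one_smul, sub_self]
    have hbot : (⊤ : Submodule F (Fin n → F)).map (N ^ 3) = ⊥ := by
      rw [hN3, Submodule.eq_bot_iff]
      rintro _ ⟨v, -, rfl⟩
      rfl
    obtain ⟨C⟩ := exists_chainBasis (N := N) (W := (⊤ : Submodule F (Fin n → F))) le_top hbot
    have hsz : ∀ i, C.sz i ≤ 3 := by
      intro i
      by_contra hlt
      have := C.indep.ne_zero (⟨i, ⟨3, by omega⟩⟩ : Σ i, Fin (C.sz i))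
      simp [hN3] at this
    let b0 : Module.Basis (Σ i, Fin (C.sz i)) F (Fin n → F) := Module.Basis.mk C.indep C.span_eq.ge
    have hcard : ∑ i, C.sz i = n := by
      have := Module.finrank_eq_card_basis b0
      rw [hV, Fintype.card_sigma] at this
      simpa using this.symm
    let ε : (Σ i, Fin (C.sz i)) ≃ Fin n := Fintype.equivFinOfCardEq (by simp [hcard])
    let b' := b0.reindex ε
    have hunit : IsUnit ((Pi.basisFun F (Fin n)).toMatrix b').det := by
      haveI := (Pi.basisFun F (Fin n)).invertibleToMatrix b'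
      exact Matrix.isUnit_det_of_invertible _
    obtain ⟨d, hd0, hdrat, hdprod⟩ : ∃ d : (Σ i, Fin (C.sz i)) → F, (∀ p, d p ≠ 0) ∧
        (∀ p p', p.1 = p'.1 → d p / d p' ∈ F₀) ∧
        ∏ p, d p = (((Pi.basisFun F (Fin n)).toMatrix b').det)⁻¹ := by
      set δ := (((Pi.basisFun F (Fin n)).toMatrix b').det)⁻¹
      have hδ : δ ≠ 0 := inv_ne_zero hunit.ne_zero
      by_cases hex : ∃ i, Odd (C.sz i)
      · obtain ⟨i₁, hi₁⟩ := hex
        obtain ⟨s, hs⟩ : ∃ s : F, s ^ C.sz i₁ = δ := by
          have := hsz i₁
          have := C.sz_pos i₁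
          rcases (show C.sz i₁ = 1 ∨ C.sz i₁ = 3 by obtain ⟨w, hw⟩ := hi₁; omega) with e | e <;> rw [e]
          · exact ⟨δ, pow_one δ⟩
          · obtain ⟨s, hs⟩ := (Finite.surjective_of_injective (frobenius_inj F 3)) δ
            exact ⟨s, hs⟩
        have hs0 : s ≠ 0 := fun e => hδ (by rw [← hs, e, zero_pow (by have := C.sz_pos i₁; omega)])
        refine ⟨fun p => Function.update (1 : Fin C.L → F) i₁ s p.1, fun p => ?_, fun p p' e => ?_, ?_⟩
        · show Function.update (1 : Fin C.L → F) i₁ s p.1 ≠ 0
          rw [Function.update_apply]; split <;> simp [hs0]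
        · show Function.update (1 : Fin C.L → F) i₁ s p.1 / Function.update (1 : Fin C.L → F) i₁ s p'.1 ∈ F₀
          rw [e, div_self (by rw [Function.update_apply]; split <;> simp [hs0])]
          exact F₀.one_mem
        · rw [Fintype.prod_sigma]
          simp only [Finset.prod_const, Finset.card_univ, Fintype.card_fin]
          rw [Finset.prod_eq_single i₁ (fun i _ hi => by simp [hi]) (fun h => absurd (Finset.mem_univ _) h)]
          simpa using hs
      · push Not at hex
        have hneven : Even n := hcard ▸ Finset.sum_induction _ Even (fun a b => Even.add) (by simp)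
          (fun i _ => Nat.not_odd_iff_even.mp (hex i))
        have hk' : Odd k := by
          rcases hrhs with h | ⟨-, h⟩
          · exact absurd hneven (Nat.not_even_iff_odd.mpr h)
          · exact hk.odd_of_ne_two (by omega)
        obtain ⟨s, f, hs0, hf0, hf, hδe⟩ := isSquare_descend hk' hF₀ hqk h2 hδ
        obtain ⟨i₁⟩ : Nonempty (Fin C.L) := by
          by_contra hL
          rw [not_nonempty_iff] at hL
          simp at hcard
          omega
        have hsz2 : C.sz i₁ = 2 := by
          have := hsz i₁; have := C.sz_pos i₁; obtain ⟨w, hw⟩ := Nat.not_odd_iff_even.mp (hex i₁); omega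
        refine ⟨fun p => if p.1 = i₁ then (if (p.2 : ℕ) = 0 then s * f else s) else 1, fun p => ?_, fun ⟨a, l⟩ ⟨a', l'⟩ e => ?_, ?_⟩
        · show (if p.1 = i₁ then _ else (1 : F)) ≠ 0
          split_ifs <;> simp [hs0, hf0]
        · obtain rfl : a = a' := e
          show (if a = i₁ then (if (l : ℕ) = 0 then s * f else s) else (1 : F)) /
            (if a = i₁ then (if (l' : ℕ) = 0 then s * f else s) else (1 : F)) ∈ F₀
          split_ifs with h1 h2 h3
          · rw [div_self (mul_ne_zero hs0 hf0)]; exact F₀.one_mem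
          · rw [mul_div_assoc, mul_comm, div_mul_cancel₀ _ hs0]; exact hf
          · rw [show s / (s * f) = f⁻¹ by field_simp]; exact F₀.inv_mem hf
          · rw [div_self hs0]; exact F₀.one_mem
          · rw [div_self one_ne_zero]; exact F₀.one_mem
        · rw [Fintype.prod_sigma, Finset.prod_eq_single i₁ (fun i _ hi => by simp [hi])
            (fun h => absurd (Finset.mem_univ _) h)]
          simp only [if_true]
          rw [Fin.prod_univ_eq_prod_range (fun j => if j = 0 then s * f else s), hsz2, Finset.prod_range_succ,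
            Finset.prod_range_succ, hδe]
          simp
          ring
    let B := b'.unitsSMul fun i => Units.mk0 (d (ε.symm i)) (hd0 _)
    have hB : ∀ p, B (ε p) = d p • b0 p := fun p => by
      rw [Module.Basis.unitsSMul_apply, Units.smul_def, Module.Basis.reindex_apply]
      simp
    refine exists_conj_mem_subfield x B ?_ (inv_ne_zero hμ0) fun i j => ?_
    · have : (Pi.basisFun F (Fin n)).toMatrix B =
          (Pi.basisFun F (Fin n)).toMatrix b' * Matrix.diagonal fun i => d (ε.symm i) := by
        ext i j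
        obtain ⟨p, rfl⟩ := ε.surjective j
        rw [Matrix.mul_diagonal, Module.Basis.toMatrix_apply, Module.Basis.toMatrix_apply, hB, Module.Basis.reindex_apply]
        simp [mul_comm]
      rw [this, Matrix.det_mul, Matrix.det_diagonal, ε.symm.prod_comp d, hdprod, mul_inv_cancel₀ hunit.ne_zero]
    · obtain ⟨⟨a, l⟩, rfl⟩ := ε.surjective j
      have hgv : ∀ v, g v = μ • (N v + v) := fun v => by simp [hN, smul_smul, hμ0]
      obtain ⟨m, hm, hNb⟩ : ∃ (m : Fin n → F), (∀ i, m i ∈ F₀) ∧ N (B (ε ⟨a, l⟩)) = ∑ i, m i • B i := by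
        by_cases hl : (l : ℕ) + 1 < C.sz a
        · refine ⟨Pi.single (ε ⟨a, ⟨_, hl⟩⟩) (d ⟨a, l⟩ / d ⟨a, ⟨_, hl⟩⟩), fun i => ?_, ?_⟩
          · rw [Pi.single_apply]
            split
            · exact hdrat _ _ rfl
            · exact F₀.zero_mem
          · rw [Finset.sum_eq_single (ε ⟨a, ⟨_, hl⟩⟩) (fun i _ hi => by rw [Pi.single_eq_of_ne hi, zero_smul])
              (fun h => absurd (Finset.mem_univ _) h), Pi.single_eq_same, hB, hB, map_smul, smul_smul,
              div_mul_cancel₀ _ (hd0 _)]
            congr 1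
            simp [b0, ← Module.End.mul_apply, ← pow_succ']
        · refine ⟨0, fun _ => F₀.zero_mem, ?_⟩
          rw [hB, map_smul]
          simp [b0, ← Module.End.mul_apply, ← pow_succ', show (l : ℕ) + 1 = C.sz a by omega, C.kill]
      show μ⁻¹ * B.repr (g (B (ε ⟨a, l⟩))) i ∈ F₀
      rw [hgv, hNb, map_smul, map_add, Finsupp.smul_apply, Finsupp.add_apply, Module.Basis.repr_sum_self,
        Module.Basis.repr_self, smul_eq_mul, ← mul_assoc, inv_mul_cancel₀ hμ0, one_mul, Finsupp.single_apply]
      refine F₀.add_mem (hm i) ?_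
      split
      · exact F₀.one_mem
      · exact F₀.zero_mem

end Cfsg.Agent.S5966
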