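import Cfsg.Statements.S5967
import Cfsg.Agent.LinearElements.SymplecticType
import Cfsg.Agent.LinearElements.BlockLayout
import Cfsg.Agent.LinearElements.ExtensionModels

set_option autoImplicit false
open scoped MatrixGroups
open Cfsg

open CfsgLib.LinearElements
open Module (Basis finrank)

namespace Cfsg.Agent.S5967

theorem exists_two_split {N : ℕ} (hN : N ≠ 0) : ∃ w, Odd w ∧ N = 2 ^ padicValNat 2 N * w := by
  obtain ⟨k, w, hw, e⟩ := Nat.exists_eq_two_pow_mul_odd hN
  haveI : Fact (Nat.Prime 2) := ⟨Nat.prime_two⟩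
  have hk : padicValNat 2 N = k := by
    rw [e, padicValNat.mul (by positivity) hw.pos.ne', padicValNat.prime_pow,
      padicValNat.eq_zero_of_not_dvd (Nat.two_dvd_ne_zero.mpr (Nat.odd_iff.mp hw)), add_zero]
  exact ⟨w, hw, by rw [hk, ← e]⟩

/-- `-1` is an `n`-th power only if the 2-part of `q - 1` exceeds that of `n`, and conversely. -/
theorem exists_pow_eq_neg_one_iff {F : Type*} [Field F] [Fintype F] (h2 : ringChar F ≠ 2) {n : ℕ} (hn : n ≠ 0) :
    (∃ μ : F, μ ^ n = -1) ↔ padicValNat 2 n < padicValNat 2 (Fintype.card F - 1) := by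
  have hq := Fintype.one_lt_card (α := F)
  obtain ⟨w, hw, ew⟩ := exists_two_split (N := Fintype.card F - 1) (by omega)
  obtain ⟨o, ho, eo⟩ := exists_two_split hn
  set s := padicValNat 2 (Fintype.card F - 1)
  set a := padicValNat 2 n
  constructor
  · rintro ⟨μ, hμ⟩
    by_contra hle
    have hsa : s ≤ a := not_lt.mp hle
    have hμ0 : μ ≠ 0 := fun e => by simp [e, hn] at hμ
    have h1 : (μ ^ n) ^ w = 1 := by
      rw [← pow_mul, eo, show 2 ^ a * o * w = (2 ^ s * w) * (2 ^ (a - s) * o) by
        rw [← pow_mul_pow_sub 2 hsa]; ring, ← ew, pow_mul, FiniteField.pow_card_sub_one_eq_one μ hμ0, one_pow]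
    rw [hμ, hw.neg_one_pow] at h1
    exact Ring.neg_one_ne_one_of_char_ne_two h2 h1
  · intro hlt
    obtain ⟨ν, hν⟩ := FiniteField.exists_nonsquare h2
    have hν0 : ν ≠ 0 := fun e => hν (e ▸ IsSquare.zero)
    refine ⟨ν ^ (2 ^ (s - 1 - a) * w), ?_⟩
    have hhalf : Fintype.card F / 2 = 2 ^ (s - 1) * w := by
      have hodd := FiniteField.odd_card_of_char_ne_two h2
      have : 2 ^ s = 2 * 2 ^ (s - 1) := by rw [← pow_succ', Nat.sub_add_cancel (by omega)]
      rw [this, mul_assoc] at ew
      omega
    have hm1 : ν ^ (Fintype.card F / 2) = -1 := (FiniteField.pow_dichotomy h2 hν0).resolve_left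
      fun e => hν ((FiniteField.isSquare_iff h2 hν0).mpr e)
    rw [← pow_mul, eo, show 2 ^ (s - 1 - a) * w * (2 ^ a * o) = (2 ^ (s - 1) * w) * o by
      rw [← pow_sub_mul_pow 2 (show a ≤ s - 1 by omega)]; ring, ← hhalf, pow_mul, hm1, ho.neg_one_pow]

variable {F : Type*} [Field F] {n : ℕ}

/-- The diagonal element `(-μ, μ, …, μ)` scales no symplectic form. -/
theorem not_scaled (hn : 3 ≤ n) (h2 : (2 : F) ≠ 0) {μ : F} (hμ : μ ≠ 0) (i₀ : Fin n)
    (B : LinearMap.BilinForm F (Fin n → F)) (hA : B.IsAlt) (hB : B.Nondegenerate) (τ : F)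
    (h : ∀ u v, B (Matrix.toLin' (Matrix.diagonal (Function.update (fun _ => μ) i₀ (-μ))) u)
      (Matrix.toLin' (Matrix.diagonal (Function.update (fun _ => μ) i₀ (-μ))) v) = τ * B u v) : False := by
  classical
  set l : Fin n → F := Function.update (fun _ => μ) i₀ (-μ) with hl
  let e : Fin n → Fin n → F := fun i => Pi.single i 1
  have hb : ∀ i j, (l i * l j - τ) * B (e i) (e j) = 0 := fun i j => by
    have := h (e i) (e j)
    have he : ∀ i, Matrix.toLin' (Matrix.diagonal l) (e i) = l i • e i := fun i => by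
      ext k
      rcases eq_or_ne k i with rfl | hk
      · simp [e, Matrix.toLin'_apply, Matrix.mulVec_diagonal]
      · simp [e, Matrix.toLin'_apply, Matrix.mulVec_diagonal, hk]
    rw [he, he, map_smul, map_smul, LinearMap.smul_apply, smul_eq_mul, smul_eq_mul] at this
    linear_combination this
  have hrad : ∀ u, (∀ j, B u (e j) = 0) → u = 0 := fun u hu => hB.1 u fun v => by
    rw [show B u = 0 from (Pi.basisFun F (Fin n)).ext fun j => by simpa [e] using hu j, LinearMap.zero_apply]
  have hne : ∀ i, e i ≠ 0 := fun i h0 => by simpa [e] using congrFun h0 i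
  by_cases hτ : τ = μ * μ
  · refine hne i₀ (hrad _ fun j => ?_)
    rcases eq_or_ne j i₀ with rfl | hj
    · exact hA _
    · refine (mul_eq_zero.mp (hb i₀ j)).resolve_left fun h0 => ?_
      rw [hl, Function.update_self, Function.update_of_ne hj, hτ] at h0
      exact mul_ne_zero h2 (mul_ne_zero hμ hμ) (by linear_combination -h0)
  · have horth : ∀ i j, i ≠ i₀ → j ≠ i₀ → B (e i) (e j) = 0 := fun i j hi hj =>
      (mul_eq_zero.mp (hb i j)).resolve_left fun h0 => hτ (by
        rw [hl, Function.update_of_ne hi, Function.update_of_ne hj] at h0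
        linear_combination -h0)
    obtain ⟨i, hi, j, hj, hij⟩ : ∃ i, i ≠ i₀ ∧ ∃ j, j ≠ i₀ ∧ i ≠ j := by
      have hc : 1 < (Finset.univ.erase i₀).card := by
        rw [Finset.card_erase_of_mem (Finset.mem_univ _), Finset.card_univ, Fintype.card_fin]; omega
      obtain ⟨i, hi, j, hj, hij⟩ := Finset.one_lt_card.mp hc
      exact ⟨i, (Finset.mem_erase.mp hi).1, j, (Finset.mem_erase.mp hj).1, hij⟩
    have hu : B (e j) (e i₀) • e i - B (e i) (e i₀) • e j = 0 := hrad _ fun k => by
      rw [map_sub, map_smul, map_smul, LinearMap.sub_apply, LinearMap.smul_apply, LinearMap.smul_apply,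
        smul_eq_mul, smul_eq_mul]
      rcases eq_or_ne k i₀ with rfl | hk
      · ring
      · rw [horth i k hi hk, horth j k hj hk]; ring
    refine hne i (hrad _ fun k => ?_)
    rcases eq_or_ne k i₀ with rfl | hk
    · have := congrFun hu j
      simpa [e, hij.symm] using this
    · exact horth i k hi hk

/-- The planes of a pair basis whose singles occur only in characteristic two. -/
theorem conj_of_pairBasis {f : (Fin n → F) → (Fin n → F) → F} (hf : Cfsg.Geo.IsSymplecticForm f) (he : Even n)
    (x : Matrix.SpecialLinearGroup (Fin n) F) {z : F} (hz0 : z ≠ 0)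
    (hz : ∀ v, Matrix.toLin' (x : Matrix (Fin n) (Fin n) F) (Matrix.toLin' (x : Matrix (Fin n) (Fin n) F) v) = z • v)
    (hsq : (2 : F) = 0 ∨ ¬ IsSquare z) :
    ∃ P : Matrix.SpecialLinearGroup (Fin n) F, P⁻¹ * x * P ∈ similaritySL f := by
  classical
  obtain ⟨⟨b, c, B, hpair, hsingle⟩⟩ := exists_pairBasis (Matrix.toLin' (x : Matrix (Fin n) (Fin n) F)) hz0 hz
  choose ν hν using hsingle
  have hνz : ∀ j, ν j * ν j = z := fun j => by
    have := hz (B (.inr j))
    rw [hν, map_smul, hν, smul_smul] at this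
    exact smul_left_injective F (B.ne_zero _) this
  have hc : Even c := by
    have := Module.finrank_eq_card_basis B
    simp only [Module.finrank_fin_fun, Fintype.card_sum, Fintype.card_prod, Fintype.card_fin] at this
    rw [this, Nat.even_add] at he
    exact he.mp (even_two.mul_left b)
  obtain ⟨c', rfl⟩ := hc
  let φ : (Fin b ⊕ Fin c') ⊕ (Fin b ⊕ Fin c') → PairIdx b (c' + c') := fun k => match k with
    | .inl (.inl i) => .inl (i, 0)
    | .inr (.inl i) => .inl (i, 1)
    | .inl (.inr j) => .inr (Fin.castAdd c' j)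
    | .inr (.inr j) => .inr (Fin.natAdd c' j)
  have hφ : Function.Bijective φ := by
    refine (Fintype.bijective_iff_injective_and_card φ).mpr ⟨?_, by simp; omega⟩
    rintro ((i | i) | (i | i)) ((j | j) | (j | j)) h <;> simp [φ, Fin.ext_iff] at h <;>
      first | (have := i.2; have := j.2; omega) | (subst h; rfl) | (congr 2; exact Fin.ext (by omega))
  let B₀ := B.reindex (Equiv.ofBijective φ hφ).symm
  have hB₀ : ∀ k, B₀ k = B (φ k) := fun k => by simp [B₀]
  refine exists_conj_mem_similarity hf x B₀ (τ := -z) (neg_ne_zero.mpr hz0)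
    (Sum.elim 0 fun j => ν (Fin.castAdd c' j)) (Sum.elim (fun _ => z) 0) (Sum.elim 1 0)
    (Sum.elim 0 fun j => ν (Fin.natAdd c' j)) ?_ ?_ ?_
  · rintro (i | j) <;> simp [hB₀, φ, hpair, hν]
  · rintro (i | j)
    · simp only [hB₀, φ, Sum.elim_inl, Pi.zero_apply, zero_smul, add_zero]
      rw [← hpair, hz]
    · simp [hB₀, φ, hν]
  · rintro (i | j)
    · simp
    · rcases hsq with h2 | hns
      · have hm : (-1 : F) = 1 := by linear_combination -h2
        have e1 := hνz (Fin.castAdd c' j)
        have e2 := hνz (Fin.natAdd c' j)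
        have hd : (ν (Fin.castAdd c' j) - ν (Fin.natAdd c' j)) ^ 2 = 0 := by
          linear_combination e1 + e2 + (z - ν (Fin.castAdd c' j) * ν (Fin.natAdd c' j)) * h2
        have he' := sub_eq_zero.mp ((pow_eq_zero_iff two_ne_zero).mp hd)
        simp only [Sum.elim_inr, Pi.zero_apply]
        linear_combination e1 + ν (Fin.castAdd c' j) * (-he') + z * h2
      · exact absurd ⟨_, (hνz (Fin.castAdd c' j)).symm⟩ hns


/-- Involutions of PSL_n(q) and the symplectic-type subgroups. Here `T = PSL_n(F)` for a field `F` with `q` elements, `n ≥ 4` even, `f` is a nondegenerate alternating form on `F^n`, and `H` is the subgroup of matrices of determinant 1 preserving `f` up to a scalar — a maximal subgroup of type Sp_n(q); Ω is the set of `T`-conjugates of `H` (cosets of `H`), so an element of `T` of prime order `r` (a matrix `x` of determinant 1 with `x^r` scalar, `x` not scalar) fixes a point of Ω when some conjugate of `x` by a matrix of determinant 1 preserves `f` up to a scalar. Suppose the index of `H` is even.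 Then every involution of `T` is conjugate in `T` into `H` if and only if `(q − 1)_2 ≤ (n)_2`. -/
theorem result {F : Type*} [Field F] [Fintype F] {p : ℕ} [Fact p.Prime] [CharP F p] {q : ℕ} (hq : Fintype.card F = q)
    (n : ℕ) (hn : 4 ≤ n) (he : Even n) (f : (Fin n → F) → (Fin n → F) → F) (hf : Cfsg.Geo.IsSymplecticForm f)
    (hΩ : 2 ∣ ((Cfsg.Geo.similarityGroup f).comap (Matrix.SpecialLinearGroup.toGL : Matrix.SpecialLinearGroup (Fin n) F →* GL (Fin n) F)).index) :
    (∀ x : Matrix.SpecialLinearGroup (Fin n) F,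
      (∃ z : F, ((x ^ 2 : Matrix.SpecialLinearGroup (Fin n) F) : Matrix (Fin n) (Fin n) F) = z • (1 : Matrix (Fin n) (Fin n) F)) →
      (∀ z : F, (x : Matrix (Fin n) (Fin n) F) ≠ z • (1 : Matrix (Fin n) (Fin n) F)) →
      ∃ P : Matrix.SpecialLinearGroup (Fin n) F, P⁻¹ * x * P ∈ ((Cfsg.Geo.similarityGroup f).comap (Matrix.SpecialLinearGroup.toGL : Matrix.SpecialLinearGroup (Fin n) F →* GL (Fin n) F))) ↔
    padicValNat 2 (q - 1) ≤ padicValNat 2 n := by
  subst hq
  classical
  haveI : Nonempty (Fin n) := ⟨⟨0, by omega⟩⟩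
  constructor
  · intro h
    by_cases h2 : ringChar F = 2
    · have hev := FiniteField.even_card_of_char_two h2
      have hq := Fintype.one_lt_card (α := F)
      rw [padicValNat.eq_zero_of_not_dvd (show ¬ 2 ∣ Fintype.card F - 1 by omega)]
      exact Nat.zero_le _
    · by_contra hlt
      obtain ⟨μ, hμ⟩ := (exists_pow_eq_neg_one_iff h2 (show n ≠ 0 by omega)).mpr (not_le.mp hlt)
      have hμ0 : μ ≠ 0 := fun e => by simp [e, show n ≠ 0 by omega] at hμ
      have h2' : (2 : F) ≠ 0 := Ring.two_ne_zero h2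
      let i₀ : Fin n := ⟨0, by omega⟩
      let l : Fin n → F := Function.update (fun _ => μ) i₀ (-μ)
      have hl : ∀ i, l i * l i = μ * μ := fun i => by
        simp only [l, Function.update_apply]; split <;> ring
      let x : Matrix.SpecialLinearGroup (Fin n) F := ⟨Matrix.diagonal l, by
        rw [Matrix.det_diagonal]
        show ∏ i, Function.update (fun _ => μ) i₀ (-μ) i = 1
        rw [Finset.prod_update_of_mem (Finset.mem_univ i₀), Finset.prod_const, Finset.card_sdiff,
          Finset.inter_univ, Finset.card_singleton, Finset.card_univ, Fintype.card_fin, neg_mul, ← pow_succ',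
          Nat.sub_add_cancel (by omega), hμ, neg_neg]⟩
      obtain ⟨P, hP⟩ := h x ⟨μ * μ, by
          rw [Matrix.SpecialLinearGroup.coe_pow, sq]
          show Matrix.diagonal l * Matrix.diagonal l = _
          rw [Matrix.diagonal_mul_diagonal, Matrix.smul_one_eq_diagonal]
          exact congrArg _ (funext hl)⟩
        (fun c hc => by
          have e0 := congrFun (congrFun hc i₀) i₀
          have e1 := congrFun (congrFun hc ⟨1, by omega⟩) ⟨1, by omega⟩
          simp [x, l, i₀] at e0 e1
          exact mul_ne_zero h2' hμ0 (by linear_combination e1 - e0))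
      obtain ⟨B, τ, hA, hB, -, hs⟩ := exists_form_of_conj hf hP
      exact not_scaled (by omega) h2' hμ0 i₀ B hA hB τ hs
  · intro hle x ⟨z, hz⟩ _
    rw [Matrix.SpecialLinearGroup.coe_pow] at hz
    have hz0 : z ≠ 0 := fun e => by
      have := congrArg Matrix.det hz
      rw [Matrix.det_pow, x.2, one_pow, e, zero_smul, Matrix.det_zero] at this
      exact one_ne_zero this
    set g : Module.End F (Fin n → F) := Matrix.toLin' (x : Matrix (Fin n) (Fin n) F) with hg
    have hgg : ∀ v, g (g v) = z • v := fun v => by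
      rw [hg, ← LinearMap.comp_apply, ← Matrix.toLin'_mul, ← sq, hz, map_smul, Matrix.toLin'_one]
      rfl
    by_cases hsq : (2 : F) = 0 ∨ ¬ IsSquare z
    · exact conj_of_pairBasis hf he x hz0 hgg hsq
    rw [not_or, not_not] at hsq
    obtain ⟨h2, μ, rfl⟩ := hsq
    have hr2 : ringChar F ≠ 2 := fun e => h2 (by
      haveI := (ringChar.eq_iff).mp e
      exact CharP.cast_eq_zero F 2)
    have hμ0 : μ ≠ 0 := fun e => hz0 (by rw [e, mul_zero])
    set U := Module.End.eigenspace g μ
    set W := Module.End.eigenspace g (-μ)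
    have hU : ∀ u ∈ U, g u = μ • u := fun u hu => Module.End.mem_eigenspace_iff.mp hu
    have hW : ∀ w ∈ W, g w = (-μ) • w := fun w hw => Module.End.mem_eigenspace_iff.mp hw
    have hUW : IsCompl U W := by
      refine IsCompl.of_eq ?_ ?_
      · refine (Submodule.eq_bot_iff _).mpr fun v hv => ?_
        have h0 : (2 * μ) • v = 0 := by
          have := (hU v hv.1).symm.trans (hW v hv.2)
          rw [two_mul, add_smul]
          rw [neg_smul] at this
          exact eq_neg_iff_add_eq_zero.mp this
        exact (smul_eq_zero.mp h0).resolve_left (mul_ne_zero h2 hμ0)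
      · refine Submodule.eq_top_iff'.mpr fun v => Submodule.mem_sup.mpr
          ⟨(2 * μ)⁻¹ • (μ • v + g v), ?_, (2 * μ)⁻¹ • (μ • v - g v), ?_, ?_⟩
        · rw [Module.End.mem_eigenspace_iff, map_smul, map_add, map_smul, hgg]; module
        · rw [Module.End.mem_eigenspace_iff, map_smul, map_sub, map_smul, hgg]; module
        · rw [← smul_add, show μ • v + g v + (μ • v - g v) = (2 * μ) • v by module, smul_smul,
            inv_mul_cancel₀ (mul_ne_zero h2 hμ0), one_smul]
    have hdet := det_of_split hUW hU hW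
    have hdim := Submodule.finrank_add_eq_of_isCompl hUW
    rw [Module.finrank_fin_fun] at hdim
    rw [hg, LinearMap.det_toLin', x.2] at hdet
    have hev : Even (finrank F W) := by
      by_contra hodd
      rw [(Nat.not_even_iff_odd.mp hodd).neg_pow, mul_neg, ← pow_add, hdim] at hdet
      exact not_lt.mpr hle ((exists_pow_eq_neg_one_iff hr2 (by omega)).mp ⟨μ, by linear_combination hdet⟩)
    have hevU : Even (finrank F U) := by
      rw [← hdim, Nat.even_add] at he; exact he.mpr hev
    obtain ⟨a', ha'⟩ := hevU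
    obtain ⟨b', hb'⟩ := hev
    let BU : Basis (Fin a' ⊕ Fin a') F U := (Module.finBasisOfFinrankEq F U ha').reindex finSumFinEquiv.symm
    let BW : Basis (Fin b' ⊕ Fin b') F W := (Module.finBasisOfFinrankEq F W hb').reindex finSumFinEquiv.symm
    let B₀ := ((BU.prod BW).map (Submodule.prodEquivOfIsCompl U W hUW)).reindex (Equiv.sumSumSumComm _ _ _ _)
    refine exists_conj_mem_similarity hf x B₀ (τ := μ * μ) hz0
      (Sum.elim (fun _ => μ) fun _ => -μ) 0 0 (Sum.elim (fun _ => μ) fun _ => -μ) ?_ ?_ ?_
    · rw [← hg]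
      rintro (i | i)
      · simp [B₀, Basis.prod_apply, hU _ (BU (.inl i)).2]
      · simp [B₀, Basis.prod_apply, hW _ (BW (.inl i)).2]
    · rw [← hg]
      rintro (i | i)
      · simp [B₀, Basis.prod_apply, hU _ (BU (.inr i)).2]
      · simp [B₀, Basis.prod_apply, hW _ (BW (.inr i)).2]
    · rintro (i | i) <;> simp

end Cfsg.Agent.S5967
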