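import Cfsg.Statements.S5968
import Cfsg.Agent.LinearElements.SymplecticType

set_option autoImplicit false
open scoped MatrixGroups
open Cfsg

open CfsgLib.LinearElements
open Module (Basis finrank)

namespace Cfsg.Agent.S5968

variable {F : Type*} [Field F] {n : ℕ}

theorem toLin'_pow (x : Matrix.SpecialLinearGroup (Fin n) F) (r : ℕ) :
    Matrix.toLin' (x : Matrix (Fin n) (Fin n) F) ^ r =
      Matrix.toLin' (((x ^ r : Matrix.SpecialLinearGroup (Fin n) F) : Matrix (Fin n) (Fin n) F)) := by
  rw [Matrix.SpecialLinearGroup.coe_pow]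
  exact (map_pow (Matrix.toLinAlgEquiv' (R := F) (n := Fin n)) _ _).symm

/-- Reduction to the absence of a scaled form. -/
theorem counterexample {f : (Fin n → F) → (Fin n → F) → F} (hf : Cfsg.Geo.IsSymplecticForm f) {r : ℕ}
    (hn : 0 < n) (x : Matrix.SpecialLinearGroup (Fin n) F) (hx : x ^ r = 1)
    (hns : ∀ z : F, (x : Matrix (Fin n) (Fin n) F) ≠ z • (1 : Matrix (Fin n) (Fin n) F))
    (h : ∀ (B : LinearMap.BilinForm F (Fin n → F)) (τ : F), B.IsAlt → B.Nondegenerate → τ ^ r = 1 → τ ^ n = 1 →
      (∀ u v, B (Matrix.toLin' (x : Matrix (Fin n) (Fin n) F) u) (Matrix.toLin' (x : Matrix (Fin n) (Fin n) F) v)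
        = τ * B u v) → False) :
    ∃ x : Matrix.SpecialLinearGroup (Fin n) F,
      (∃ z : F, ((x ^ r : Matrix.SpecialLinearGroup (Fin n) F) : Matrix (Fin n) (Fin n) F) = z • (1 : Matrix (Fin n) (Fin n) F)) ∧
      (∀ z : F, (x : Matrix (Fin n) (Fin n) F) ≠ z • (1 : Matrix (Fin n) (Fin n) F)) ∧
      ∀ P : Matrix.SpecialLinearGroup (Fin n) F, P⁻¹ * x * P ∉ similaritySL f := by
  haveI : Nonempty (Fin n) := ⟨⟨0, hn⟩⟩
  refine ⟨x, ⟨1, by rw [hx, Matrix.SpecialLinearGroup.coe_one, one_smul]⟩, hns, fun P hP => ?_⟩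
  obtain ⟨B, τ, hA, hB, -, hs⟩ := exists_form_of_conj hf hP
  have hg : Matrix.toLin' (x : Matrix (Fin n) (Fin n) F) ^ r = 1 := by
    rw [toLin'_pow, hx, Matrix.SpecialLinearGroup.coe_one, Matrix.toLin'_one]; rfl
  have hd : LinearMap.det (Matrix.toLin' (x : Matrix (Fin n) (Fin n) F)) = 1 := by
    rw [LinearMap.det_toLin', x.2]
  refine h B τ hA hB (multiplier_pow_eq_one hB hs hg) ?_ hs
  have := multiplier_pow_finrank hB hs hd
  rwa [Module.finrank_fin_fun] at this

theorem radical_single (B : LinearMap.BilinForm F (Fin n → F)) (hB : B.Nondegenerate) {u : Fin n → F}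
    (h : ∀ j, B u (Pi.single j 1) = 0) : u = 0 := hB.1 u fun v => by
  rw [show B u = 0 from (Pi.basisFun F (Fin n)).ext fun j => by simpa using h j, LinearMap.zero_apply]

/-- The unipotent case: `1 + E₁₀ + E₂₁`. -/
theorem unipotent_case {p : ℕ} [Fact p.Prime] [CharP F p] (hp : p ≠ 2) (hn : 4 ≤ n)
    {f : (Fin n → F) → (Fin n → F) → F} (hf : Cfsg.Geo.IsSymplecticForm f) :
    ∃ x : Matrix.SpecialLinearGroup (Fin n) F,
      (∃ z : F, ((x ^ p : Matrix.SpecialLinearGroup (Fin n) F) : Matrix (Fin n) (Fin n) F) = z • (1 : Matrix (Fin n) (Fin n) F)) ∧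
      (∀ z : F, (x : Matrix (Fin n) (Fin n) F) ≠ z • (1 : Matrix (Fin n) (Fin n) F)) ∧
      ∀ P : Matrix.SpecialLinearGroup (Fin n) F, P⁻¹ * x * P ∉ similaritySL f := by
  classical
  let i₀ : Fin n := ⟨0, by omega⟩
  let i₁ : Fin n := ⟨1, by omega⟩
  let i₂ : Fin n := ⟨2, by omega⟩
  let N : Matrix (Fin n) (Fin n) F := Matrix.single i₁ i₀ 1 + Matrix.single i₂ i₁ 1
  have h01 : i₀ ≠ i₁ := by simp [i₀, i₁]
  have h02 : i₀ ≠ i₂ := by simp [i₀, i₂]
  have h12 : i₁ ≠ i₂ := by simp [i₁, i₂]
  have v0 : (i₀ : ℕ) = 0 := rfl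
  have v1 : (i₁ : ℕ) = 1 := rfl
  have v2 : (i₂ : ℕ) = 2 := rfl
  have hN2 : N * N = Matrix.single i₂ i₀ 1 := by
    simp [N, add_mul, mul_add, h01.symm, h02.symm, h12, h12.symm, h02, h01]
  have hN3 : N ^ 3 = 0 := by
    rw [pow_succ, sq, hN2]
    simp [N, mul_add, h01, h02]
  have hdet : (1 + N).det = 1 := by
    rw [Matrix.det_of_lowerTriangular]
    · refine Finset.prod_eq_one fun i _ => ?_
      simp [N, Matrix.single_apply, Fin.ext_iff, v0, v1, v2]
      rw [if_neg (by omega), if_neg (by omega), add_zero]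
    · intro i j hij
      change (OrderDual.toDual j : (Fin n)ᵒᵈ) < OrderDual.toDual i at hij
      have hij' : (i : ℕ) < j := hij
      simp [N, Matrix.single_apply, Matrix.one_apply, Fin.ext_iff, v0, v1, v2]
      rw [if_neg (by omega), if_neg (by omega), if_neg (by omega), add_zero, add_zero]
  let x : Matrix.SpecialLinearGroup (Fin n) F := ⟨1 + N, hdet⟩
  have hp3 : 3 ≤ p := by have := (Fact.out : p.Prime).two_le; omega
  haveI : Nonempty (Fin n) := ⟨i₀⟩
  refine counterexample hf (by omega) x (Subtype.ext ?_) (fun z hz => ?_) fun B τ hA hB hτp _ hs => ?_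
  · rw [Matrix.SpecialLinearGroup.coe_pow, Matrix.SpecialLinearGroup.coe_one]
    show (1 + N) ^ p = 1
    rw [add_pow_char_of_commute _ (Commute.one_left N), one_pow, pow_eq_zero_of_le hp3 hN3, add_zero]
  · have := congrFun (congrFun hz i₁) i₀
    simp [x, N, h01.symm, h12.symm] at this
  · obtain rfl : τ = 1 := frobenius_inj F p (by rw [frobenius_def, frobenius_def, hτp, one_pow])
    have h2 : (2 : F) ≠ 0 := Ring.two_ne_zero (by rw [ringChar.eq F p]; exact hp)
    let g := Matrix.toLin' (x : Matrix (Fin n) (Fin n) F)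
    let D : Module.End F (Fin n → F) := Matrix.toLin' N
    have hgD : ∀ v, g v = v + D v := fun v => by simp [g, x, D]
    have hD2 : ∀ v, D (D v) = v i₀ • Pi.single i₂ 1 := fun v => by
      rw [← LinearMap.comp_apply, ← Matrix.toLin'_mul, hN2, Matrix.toLin'_apply, Matrix.single_mulVec]
      rw [← Pi.single_smul, smul_eq_mul, mul_one]
      simp
      rfl
    have hD3 : ∀ v, D (D (D v)) = 0 := fun v => by
      simp only [D, ← LinearMap.comp_apply, ← Matrix.toLin'_mul]
      rw [show N * (N * N) = 0 by rw [← sq, ← pow_succ']; exact hN3]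
      simp
    -- moving `D * D` across the form
    have hkey : ∀ u v, B (D (D u)) v = B u (D (D v)) := by
      intro u v
      have e : ∀ a b, B (D a) b + B a (D b) + B (D a) (D b) = 0 := fun a b => by
        have := hs a b
        rw [show Matrix.toLin' (x : Matrix (Fin n) (Fin n) F) = g from rfl, hgD, hgD, one_mul] at this
        simp only [map_add, LinearMap.add_apply] at this
        linear_combination this
      have z1 := e (D (D u)) v
      have z2 := e u (D (D v))
      rw [hD3] at z1 z2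
      simp only [map_zero, LinearMap.zero_apply, zero_add, add_zero] at z1 z2
      linear_combination e (D u) v - e u (D v) - z1 + z2
    refine absurd (radical_single B hB (u := Pi.single i₂ 1) fun j => ?_) (by simp)
    have hb : ∀ u v, u i₀ * B (Pi.single i₂ 1) v + v i₀ * B (Pi.single i₂ 1) u = 0 := fun u v => by
      have := hkey u v
      rw [hD2, hD2, map_smul, map_smul, LinearMap.smul_apply, smul_eq_mul, smul_eq_mul,
        ← LinearMap.IsAlt.neg hA (Pi.single i₂ 1) u] at this
      linear_combination this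
    have h00 : B (Pi.single i₂ 1) (Pi.single i₀ 1) = 0 := by
      have := hb (Pi.single i₀ 1) (Pi.single i₀ 1)
      simp only [Pi.single_eq_same, one_mul] at this
      exact (mul_eq_zero.mp (show (2 : F) * B (Pi.single i₂ 1) (Pi.single i₀ 1) = 0 by
        linear_combination this)).resolve_left h2
    have := hb (Pi.single i₀ 1) (Pi.single j 1)
    simpa [h00] using this

/-- An element of order `r` with `r ∣ q - 1`. -/
theorem split_case {r : ℕ} [Fact r.Prime] (hr2 : r ≠ 2) (hn : 4 ≤ n) (he : Even n) (hgap : ¬ (n = 6 ∧ r = 3))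
    [Fintype F] (hr : r ∣ Fintype.card F - 1)
    {f : (Fin n → F) → (Fin n → F) → F} (hf : Cfsg.Geo.IsSymplecticForm f) :
    ∃ x : Matrix.SpecialLinearGroup (Fin n) F,
      (∃ z : F, ((x ^ r : Matrix.SpecialLinearGroup (Fin n) F) : Matrix (Fin n) (Fin n) F) = z • (1 : Matrix (Fin n) (Fin n) F)) ∧
      (∀ z : F, (x : Matrix (Fin n) (Fin n) F) ≠ z • (1 : Matrix (Fin n) (Fin n) F)) ∧
      ∀ P : Matrix.SpecialLinearGroup (Fin n) F, P⁻¹ * x * P ∉ similaritySL f := by
  classical
  obtain ⟨u, hu⟩ := exists_prime_orderOf_dvd_card (G := Fˣ) r (by rwa [Fintype.card_units])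
  set ζ : F := (u : F) with hζ
  have hord : orderOf ζ = r := by rw [hζ, orderOf_units, hu]
  have hζr : ζ ^ r = 1 := hord ▸ pow_orderOf_eq_one ζ
  have hζne : ∀ k, 0 < k → k < r → ζ ^ k ≠ 1 := fun k hk hkr h => by
    have := Nat.le_of_dvd hk (hord ▸ orderOf_dvd_of_pow_eq_one h); omega
  have hr3 : 3 ≤ r := by have := (Fact.out : r.Prime).two_le; omega
  let i₀ : Fin n := ⟨0, by omega⟩
  let l : Fin n → F := fun i => if (i : ℕ) < 2 then ζ else if (i : ℕ) = 2 then ζ ^ (r - 2) else 1
  have hdet : ∏ i, l i = 1 := by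
    obtain ⟨k, rfl⟩ : ∃ k, n = 3 + k := ⟨n - 3, by omega⟩
    rw [Fin.prod_univ_add]
    simp only [l, Fin.coe_castAdd, Fin.coe_natAdd, Fin.prod_univ_three, Fin.val_zero, Fin.val_one, Fin.val_two]
    simp [← mul_assoc, ← pow_two, ← pow_add, show 2 + (r - 2) = r by omega, hζr,
      show ∀ a : ℕ, ¬ 3 + a ≤ 1 by omega, show ∀ a : ℕ, ¬ 3 + a = 2 by omega]
  let x : Matrix.SpecialLinearGroup (Fin n) F := ⟨Matrix.diagonal l, by rw [Matrix.det_diagonal, hdet]⟩
  haveI : Nonempty (Fin n) := ⟨i₀⟩
  refine counterexample hf (by omega) x (Subtype.ext ?_) (fun z hz => ?_) fun B τ hA hB hτr hτn hs => ?_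
  · rw [Matrix.SpecialLinearGroup.coe_pow, Matrix.SpecialLinearGroup.coe_one]
    show Matrix.diagonal l ^ r = 1
    rw [Matrix.diagonal_pow, ← Matrix.diagonal_one]
    congr 1
    funext i
    simp only [Pi.pow_apply, l]
    split_ifs <;> first | exact hζr | exact one_pow r | rw [← pow_mul, mul_comm, pow_mul, hζr, one_pow]
  · have e0 := congrFun (congrFun hz i₀) i₀
    have e3 := congrFun (congrFun hz ⟨3, by omega⟩) ⟨3, by omega⟩
    simp [x, l, i₀] at e0 e3
    exact hζne 1 one_pos (by omega) (by rw [pow_one, e0, e3])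
  · have hb : ∀ i j, (l i * l j - τ) * B (Pi.single i 1) (Pi.single j 1) = 0 := fun i j => by
      have := hs (Pi.single i 1) (Pi.single j 1)
      have he : ∀ i, Matrix.toLin' (x : Matrix (Fin n) (Fin n) F) (Pi.single i 1) = l i • Pi.single i 1 := fun i => by
        ext k
        rcases eq_or_ne k i with rfl | hk
        · simp [x, Matrix.toLin'_apply, Matrix.mulVec_diagonal]
        · simp [x, Matrix.toLin'_apply, Matrix.mulVec_diagonal, hk]
      rw [he, he, map_smul, map_smul, LinearMap.smul_apply, smul_eq_mul, smul_eq_mul] at this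
      linear_combination this
    by_cases hτ : τ = 1
    · -- the first vector is in the radical
      subst hτ
      exact absurd (radical_single B hB (u := Pi.single i₀ 1) fun j =>
        (mul_eq_zero.mp (hb i₀ j)).resolve_left fun h0 => by
          rw [sub_eq_zero] at h0
          simp only [l, i₀, Nat.zero_lt_two, if_true] at h0
          split_ifs at h0
          · exact hζne 2 two_pos (by omega) (by rw [sq, h0])
          · exact hζne (r - 1) (by omega) (by omega) (by
              rw [show r - 1 = r - 2 + 1 by omega, pow_succ', h0])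
          · exact hζne 1 one_pos (by omega) (by rw [pow_one, ← h0, mul_one])) (by simp)
    · -- the fixed vectors are pairwise orthogonal, so there are at most three of them
      have hcop : ¬ Nat.Coprime r n := fun hc => hτ (by
        have := orderOf_dvd_of_pow_eq_one hτn
        have h' := Nat.dvd_gcd (orderOf_dvd_of_pow_eq_one hτr) this
        rw [hc, Nat.dvd_one, orderOf_eq_one_iff] at h'
        exact h')
      rw [Nat.Prime.coprime_iff_not_dvd Fact.out, not_not] at hcop
      have hle : n - 3 ≤ 3 := by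
        let vec : {i : Fin n // 3 ≤ (i : ℕ)} → (Fin 3 → F) := fun i a =>
          B (Pi.single i.1 1) (Pi.single ⟨a, by omega⟩ 1)
        have hli : LinearIndependent F vec := by
          rw [Fintype.linearIndependent_iff]
          intro c hc i
          have hz : ∑ i : {i : Fin n // 3 ≤ (i : ℕ)}, c i • (Pi.single i.1 1 : Fin n → F) = 0 := by
            refine radical_single B hB fun j => ?_
            simp only [map_sum, map_smul, LinearMap.coe_sum, Finset.sum_apply, LinearMap.smul_apply]
            rcases lt_or_ge (j : ℕ) 3 with hj | hj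
            · simpa [vec] using congrFun hc ⟨j, hj⟩
            · refine Finset.sum_eq_zero fun k _ => ?_
              have := hb k.1 j
              have hk := k.2
              simp only [l, show ¬ (k.1 : ℕ) < 2 by omega, show ¬ (k.1 : ℕ) = 2 by omega,
                show ¬ (j : ℕ) < 2 by omega, show ¬ (j : ℕ) = 2 by omega, if_false, one_mul] at this
              rw [(mul_eq_zero.mp this).resolve_left (sub_ne_zero.mpr (Ne.symm hτ)), smul_zero]
          have := congrFun hz i.1
          rw [Finset.sum_apply, Finset.sum_eq_single i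
            (fun k _ hk => by simp [Subtype.coe_ne_coe.mpr (Ne.symm hk)]) (by simp)] at this
          simpa using this
        have h1 := hli.fintype_card_le_finrank
        rw [Module.finrank_fin_fun] at h1
        refine le_trans ?_ h1
        rw [show n - 3 = Fintype.card (Fin (n - 3)) by simp]
        exact Fintype.card_le_of_injective (fun a => ⟨⟨3 + a, by omega⟩, by simp⟩)
          fun a b hab => by simpa [Fin.ext_iff] using hab
      obtain ⟨w, rfl⟩ := he
      obtain ⟨t, ht⟩ := hcop
      rcases (show w = 2 ∨ w = 3 by omega) with rfl | rfl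
      · have := Nat.le_of_dvd (by omega) (show r ∣ 4 from ⟨t, ht⟩)
        have hr' := (Fact.out : r.Prime)
        interval_cases r <;> first | omega | exact absurd hr' (by norm_num)
      · have := Nat.le_of_dvd (by omega) (show r ∣ 6 from ⟨t, ht⟩)
        have hr' := (Fact.out : r.Prime)
        interval_cases r <;> first | omega | exact hgap ⟨rfl, rfl⟩ | exact absurd hr' (by norm_num)

/-- An element of order `r` acting with odd-dimensional moved space. -/
theorem odd_case {p : ℕ} [Fact p.Prime] [CharP F p] {r : ℕ} [Fact r.Prime] [Fintype F] {i : ℕ} (hi : Odd i)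
    (hi3 : 3 ≤ i) (hin : i ≤ n) (hr : r ∣ Fintype.card F ^ i - 1) (hr1 : ¬ r ∣ Fintype.card F - 1)
    {f : (Fin n → F) → (Fin n → F) → F} (hf : Cfsg.Geo.IsSymplecticForm f) :
    ∃ x : Matrix.SpecialLinearGroup (Fin n) F,
      (∃ z : F, ((x ^ r : Matrix.SpecialLinearGroup (Fin n) F) : Matrix (Fin n) (Fin n) F) = z • (1 : Matrix (Fin n) (Fin n) F)) ∧
      (∀ z : F, (x : Matrix (Fin n) (Fin n) F) ≠ z • (1 : Matrix (Fin n) (Fin n) F)) ∧
      ∀ P : Matrix.SpecialLinearGroup (Fin n) F, P⁻¹ * x * P ∉ similaritySL f := by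
  classical
  haveI : NeZero i := ⟨by omega⟩
  have hroot : ∀ a : F, a ^ r = 1 → a = 1 := by
    intro a ha
    have ha0 : a ≠ 0 := fun e => by simp [e, (Fact.out : r.Prime).ne_zero] at ha
    rcases (Nat.dvd_prime Fact.out).mp (orderOf_dvd_of_pow_eq_one ha) with h | h
    · exact orderOf_eq_one_iff.mp h
    · exact absurd (h ▸ orderOf_dvd_of_pow_eq_one (FiniteField.pow_card_sub_one_eq_one a ha0)) hr1
  let L := FiniteField.Extension F p i
  have hL : finrank F L = i := FiniteField.finrank_extension F p i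
  haveI : Finite L := Module.finite_of_finite F
  haveI := Fintype.ofFinite L
  have hcardL : Fintype.card L = Fintype.card F ^ i := by rw [Module.card_eq_pow_finrank (K := F), hL]
  obtain ⟨u, hu⟩ := exists_prime_orderOf_dvd_card (G := Lˣ) r (by rwa [Fintype.card_units, hcardL])
  set ζ : L := (u : L) with hζ
  have hord : orderOf ζ = r := by rw [hζ, orderOf_units, hu]
  have hζr : ζ ^ r = 1 := hord ▸ pow_orderOf_eq_one ζ
  have hζ1 : ζ ≠ 1 := fun e => (Fact.out : r.Prime).one_lt.ne' (by rw [← hord, e, orderOf_one])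
  let e : (L × (Fin (n - i) → F)) ≃ₗ[F] (Fin n → F) := LinearEquiv.ofFinrankEq _ _ (by
    rw [Module.finrank_prod, hL, Module.finrank_fin_fun, Module.finrank_fin_fun]; omega)
  let g₀ : Module.End F (L × (Fin (n - i) → F)) := (Algebra.lmul F L ζ).prodMap 1
  let τ' : Matrix (Fin n) (Fin n) F ≃ₐ[F] Module.End F (Fin n → F) := Matrix.toLinAlgEquiv'
  have hdet : (τ'.symm (e.conjAlgEquiv F g₀)).det = 1 := by
    rw [← LinearMap.det_toLin', show Matrix.toLin' (τ'.symm (e.conjAlgEquiv F g₀)) = e.conjAlgEquiv F g₀ from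
      τ'.apply_symm_apply _]
    show LinearMap.det ((e : _ →ₗ[F] (Fin n → F)) ∘ₗ g₀ ∘ₗ (e.symm : (Fin n → F) →ₗ[F] _)) = 1
    rw [LinearMap.det_conj, LinearMap.det_prodMap, map_one, mul_one]
    rw [← Algebra.norm_apply]
    exact hroot _ (by rw [← map_pow, hζr, map_one])
  let x : Matrix.SpecialLinearGroup (Fin n) F := ⟨τ'.symm (e.conjAlgEquiv F g₀), hdet⟩
  have hxe : ∀ v, Matrix.toLin' (x : Matrix (Fin n) (Fin n) F) (e v) = e (g₀ v) := fun v => by
    show τ' (τ'.symm (e.conjAlgEquiv F g₀)) (e v) = _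
    rw [τ'.apply_symm_apply]
    show e (g₀ (e.symm (e v))) = _
    rw [e.symm_apply_apply]
  haveI : Nonempty (Fin n) := ⟨⟨0, by omega⟩⟩
  refine counterexample hf (by omega) x (Subtype.ext ?_) (fun z hz => ?_) fun B τ hA hB hτr _ hs => ?_
  · rw [Matrix.SpecialLinearGroup.coe_pow, Matrix.SpecialLinearGroup.coe_one]
    show τ'.symm (e.conjAlgEquiv F g₀) ^ r = 1
    rw [← map_pow, ← map_pow, show g₀ ^ r = 1 from ?_, map_one, map_one]
    refine LinearMap.ext fun v => ?_
    have : ∀ (k : ℕ) (v : L × (Fin (n - i) → F)), (g₀ ^ k) v = (ζ ^ k * v.1, v.2) := by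
      intro k
      induction k with
      | zero => intro v; simp
      | succ k ih => intro v; rw [pow_succ', Module.End.mul_apply, ih]; simp [g₀, pow_succ', mul_assoc]
    rw [this, hζr, one_mul]
    rfl
  · have h1 := hxe (1, 0)
    rw [hz, map_smul, Matrix.toLin'_one, LinearMap.smul_apply, LinearMap.id_apply, ← map_smul] at h1
    have h2 := congrArg Prod.fst (e.injective h1)
    simp [g₀] at h2
    have hzr : z = 1 := hroot z (FaithfulSMul.algebraMap_injective F L (by
      rw [map_pow, map_one, show algebraMap F L z = ζ by rw [← h2, Algebra.smul_def, mul_one], hζr]))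
    exact hζ1 (by rw [← h2, hzr, one_smul])
  · obtain rfl := hroot τ hτr
    let B' : LinearMap.BilinForm F (L × (Fin (n - i) → F)) := B.compl₁₂ e.toLinearMap e.toLinearMap
    have hA' : B'.IsAlt := fun v => hA (e v)
    have hB' : B'.Nondegenerate := hA'.isRefl.nondegenerate_iff_separatingLeft.mpr fun u hu =>
      e.map_eq_zero_iff.mp (hB.1 _ fun v => by simpa [B'] using hu (e.symm v))
    have hg : ∀ u v, B' (g₀ u) (g₀ v) = B' u v := fun u v => by
      simp only [B', LinearMap.compl₁₂_apply, LinearEquiv.coe_coe, ← hxe, hs, one_mul]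
    have heven := even_finrank_of_fixed hA' hB' hg (U := LinearMap.range (LinearMap.inl F L (Fin (n - i) → F)))
      (W := LinearMap.range (LinearMap.inr F L (Fin (n - i) → F)))
      LinearMap.isCompl_range_inl_inr.sup_eq_top
      (by rintro _ ⟨w, rfl⟩; simp [g₀])
      (by
        rintro _ ⟨a, rfl⟩
        exact ⟨((ζ - 1)⁻¹ * a, 0), by
          refine Prod.ext ?_ (by simp [g₀])
          show ζ * ((ζ - 1)⁻¹ * a) - (ζ - 1)⁻¹ * a = a
          rw [← sub_one_mul, mul_inv_cancel_left₀ (sub_ne_zero.mpr hζ1)]⟩)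
    rw [LinearMap.finrank_range_of_inj LinearMap.inl_injective, hL] at heven
    exact Nat.not_even_iff_odd.mpr hi heven


/-- Derangements of odd prime order of PSL_n(q) on the cosets of a symplectic-type subgroup. Here `T = PSL_n(F)` for a field `F` with `q` elements, `n ≥ 4` even, `f` is a nondegenerate alternating form on `F^n`, and `H` is the subgroup of matrices of determinant 1 preserving `f` up to a scalar — a maximal subgroup of type Sp_n(q); Ω is the set of `T`-conjugates of `H` (cosets of `H`), so an element of `T` of prime order `r` (a matrix `x` of determinant 1 with `x^r` scalar, `x` not scalar) fixes a point of Ω when some conjugate of `x` by a matrix of determinant 1 preserves `f` up to a scalar. For every odd prime `r` dividing the index of `H`, with `(n, r) ≠ (6, 3)`, there is an element of `T` of order `r` with no conjugate in `H`. (For `n = 6`, `r = 3` this can fail: when `(q − 1)_3 = 3` every element of order 3 is conjugate into `H`.) -/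
theorem result {F : Type*} [Field F] [Fintype F] {p : ℕ} [Fact p.Prime] [CharP F p] {q : ℕ} (hq : Fintype.card F = q)
    (n : ℕ) (hn : 4 ≤ n) (he : Even n) (f : (Fin n → F) → (Fin n → F) → F) (hf : Cfsg.Geo.IsSymplecticForm f)
    (r : ℕ) [Fact r.Prime] (hr2 : r ≠ 2) (hgap : ¬ (n = 6 ∧ r = 3)) (hΩ : r ∣ ((Cfsg.Geo.similarityGroup f).comap (Matrix.SpecialLinearGroup.toGL : Matrix.SpecialLinearGroup (Fin n) F →* GL (Fin n) F)).index) :
    ∃ x : Matrix.SpecialLinearGroup (Fin n) F,
      (∃ z : F, ((x ^ r : Matrix.SpecialLinearGroup (Fin n) F) : Matrix (Fin n) (Fin n) F) = z • (1 : Matrix (Fin n) (Fin n) F)) ∧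
      (∀ z : F, (x : Matrix (Fin n) (Fin n) F) ≠ z • (1 : Matrix (Fin n) (Fin n) F)) ∧
      ∀ P : Matrix.SpecialLinearGroup (Fin n) F, P⁻¹ * x * P ∉ ((Cfsg.Geo.similarityGroup f).comap (Matrix.SpecialLinearGroup.toGL : Matrix.SpecialLinearGroup (Fin n) F →* GL (Fin n) F)) := by
  subst hq
  have hr := (Fact.out : r.Prime)
  rcases prime_dvd_index_similarity hf hr hΩ with h | ⟨j, hjo, hj3, hjn, hj⟩
  · obtain ⟨⟨k, hk⟩, -, hcard⟩ := FiniteField.card F p
    rw [hcard] at h
    obtain rfl : r = p := (Nat.prime_dvd_prime_iff_eq hr Fact.out).mp (hr.dvd_of_dvd_pow h)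
    exact unipotent_case hr2 hn hf
  · by_cases h1 : r ∣ Fintype.card F - 1
    · exact split_case hr2 hn he hgap h1 hf
    · exact odd_case (p := p) hjo hj3 hjn hj h1 hf

end Cfsg.Agent.S5968
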