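import Cfsg.Statements.S5969
import Cfsg.Agent.LinearElements.ExtensionModels

set_option autoImplicit false
open scoped MatrixGroups
open Cfsg

open CfsgLib.LinearElements

namespace Cfsg.Agent.S5969

/-- `-1` is an `n`-th power exactly when the 2-part of `n` is below that of `q - 1`. -/
theorem neg_one_power_iff {F : Type*} [Field F] [Fintype F] (h2 : (2 : F) ≠ 0) {n : ℕ} (hn : n ≠ 0) :
    (∃ μ : F, μ ^ n = -1) ↔ padicValNat 2 n < padicValNat 2 (Fintype.card F - 1) := by
  classical
  have hne : (-1 : F) ≠ 1 := fun h => h2 (by linear_combination -h)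
  have hN : Fintype.card F - 1 ≠ 0 := by have := Fintype.one_lt_card (α := F); omega
  obtain ⟨a, m, hm, ha⟩ := Nat.exists_eq_two_pow_mul_odd hn
  have hval : padicValNat 2 n = a := by
    rw [ha, padicValNat.mul (by positivity) (fun h => by simp [h] at hm), padicValNat.prime_pow,
      padicValNat.eq_zero_of_not_dvd (fun h => (Nat.not_even_iff_odd.mpr hm) (even_iff_two_dvd.mpr h)), add_zero]
  rw [hval]
  constructor
  · rintro ⟨μ, hμ⟩
    have h1 : ((μ ^ m) ^ (2 ^ a)) = -1 := by rw [← pow_mul, mul_comm, ← ha, hμ]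
    have h2' : ((μ ^ m) ^ (2 ^ (a + 1))) = 1 := by rw [pow_succ, pow_mul, h1, neg_one_sq]
    have ho : orderOf (μ ^ m) = 2 ^ (a + 1) := by
      haveI : Fact (Nat.Prime 2) := ⟨Nat.prime_two⟩
      exact orderOf_eq_prime_pow (by rw [h1]; exact hne) h2'
    have hμ0 : μ ^ m ≠ 0 := fun h => by rw [h, orderOf_zero] at ho; exact (by positivity : (0:ℕ) < 2 ^ (a + 1)).ne ho
    have hdvd := orderOf_dvd_of_pow_eq_one (FiniteField.pow_card_sub_one_eq_one _ hμ0)
    rw [ho, padicValNat_dvd_iff_le hN] at hdvd
    omega
  · intro hlt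
    have hdvd : 2 ^ (a + 1) ∣ Fintype.card F - 1 := (padicValNat_dvd_iff_le hN).mpr hlt
    obtain ⟨u, hu⟩ := IsCyclic.exists_ofOrder_eq_natCard (α := Fˣ)
    rw [Nat.card_units, Nat.card_eq_fintype_card] at hu
    obtain ⟨w, hw⟩ : ∃ w : Fˣ, orderOf w = 2 ^ (a + 1) :=
      ⟨u ^ (orderOf u / 2 ^ (a + 1)), orderOf_pow_orderOf_div (hu ▸ hN) (hu ▸ hdvd)⟩
    have h1 : ((w : F) ^ (2 ^ a)) = -1 := by
      have h3 : ((w : F) ^ (2 ^ a)) ^ 2 = 1 := by
        rw [← pow_mul, ← pow_succ, ← hw, ← Units.val_pow_eq_pow_val, pow_orderOf_eq_one, Units.val_one]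
      refine (sq_eq_one_iff.mp h3).resolve_left fun h => ?_
      have h4 : w ^ (2 ^ a) = 1 := Units.ext (by rw [Units.val_pow_eq_pow_val, h, Units.val_one])
      have h5 := orderOf_dvd_of_pow_eq_one h4
      rw [hw] at h5
      have h6 := Nat.le_of_dvd (by positivity) h5
      rw [pow_succ] at h6
      have : 0 < 2 ^ a := by positivity
      omega
    exact ⟨(w : F), by rw [ha, pow_mul, h1, hm.neg_one_pow]⟩

/-- Involutions of PSL_n(q) and extension-field subgroups of degree 2. Here `T = PSL_n(F)` for a field `F` with `q = p^f` elements (`n ≥ 2`, `(n, q) ≠ (2, 2), (2, 3)`), `k` is a prime dividing `n`, `K` is a subalgebra of the `n × n` matrices that is a field of degree `k` over `F` (an extension-field structure F_{q^k} on `F^n`), and `H` is the subgroup of matrices of determinant 1 normalizing `K` — a subgroup of type GL_{n/k}(q^k) (maximal except in some small cases; maximality is not assumed); Ω is the set of cosets of `H` in `T`, so an element of `T` of prime order `r` (a matrix `x` of determinant 1 with `x^r` scalar,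 `x` not scalar) fixes a point of Ω when some conjugate of `x` by a matrix of determinant 1 normalizes `K`. Take `k = 2` and suppose the index of `H` is even. Then every involution of `T` is conjugate in `T` into `H` if and only if `n = 2`, or `q` is odd and `(q − 1)_2 ≤ (n)_2`. -/
theorem result {F : Type*} [Field F] [Fintype F] {p : ℕ} [Fact p.Prime] [CharP F p] {q : ℕ} (hq : Fintype.card F = q)
    (n : ℕ) (hn : 2 ≤ n) (hT : (n, q) ≠ (2, 2) ∧ (n, q) ≠ (2, 3))
    (k : ℕ) (hk : k.Prime) (hkn : k ∣ n) (K : Subalgebra F (Matrix (Fin n) (Fin n) F)) (hK : Cfsg.Geo.IsFieldSubalgebra k K) (hk2 : k = 2) (hΩ : 2 ∣ ((Cfsg.Geo.subalgebraNormalizer K).comap (Matrix.SpecialLinearGroup.toGL : Matrix.SpecialLinearGroup (Fin n) F →* GL (Fin n) F)).index) :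
    (∀ x : Matrix.SpecialLinearGroup (Fin n) F,
      (∃ z : F, ((x ^ 2 : Matrix.SpecialLinearGroup (Fin n) F) : Matrix (Fin n) (Fin n) F) = z • (1 : Matrix (Fin n) (Fin n) F)) →
      (∀ z : F, (x : Matrix (Fin n) (Fin n) F) ≠ z • (1 : Matrix (Fin n) (Fin n) F)) →
      ∃ P : Matrix.SpecialLinearGroup (Fin n) F, P⁻¹ * x * P ∈ ((Cfsg.Geo.subalgebraNormalizer K).comap (Matrix.SpecialLinearGroup.toGL : Matrix.SpecialLinearGroup (Fin n) F →* GL (Fin n) F))) ↔
    (n = 2 ∨ (Odd q ∧ padicValNat 2 (q - 1) ≤ padicValNat 2 n)) := by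
  subst hq hk2
  haveI : Nonempty (Fin n) := ⟨⟨0, by omega⟩⟩
  let L := FiniteField.Extension F p 2
  have hL : Module.finrank F L = 2 := FiniteField.finrank_extension F p 2
  haveI : Fact (Nat.Prime 2) := ⟨Nat.prime_two⟩
  have hV : Module.finrank F (Fin n → F) = n := Module.finrank_fin_fun F
  simp only [exists_conj_mem_normalizer_iff (p := p) Nat.two_pos hL hK]
  rw [forall_sl_iff (fun g : Module.End F (Fin n → F) => HasStructure L g)]
  -- elements with `g ^ 2` a square scalar
  have hscaled : ∀ (g : Module.End F (Fin n → F)) (z μ : F), g ^ 2 = z • 1 → z ≠ 0 → μ ^ 2 = z →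
      (∀ c : F, g ≠ c • 1) → μ ≠ 0 ∧ (μ⁻¹ • g) ^ 2 = 1 ∧ (∀ c : F, μ⁻¹ • g ≠ c • 1) ∧
        (HasStructure L (μ⁻¹ • g) → HasStructure L g) := by
    intro g z μ hz hz0 hμ hns
    have hμ0 : μ ≠ 0 := fun e => hz0 (by rw [← hμ, e]; simp)
    refine ⟨hμ0, by rw [smul_pow, hz, inv_pow, hμ, smul_smul, inv_mul_cancel₀ hz0, one_smul], fun c hc => ?_, fun h => ?_⟩
    · exact hns (μ * c) (by rw [mul_smul, ← hc, smul_smul, mul_inv_cancel₀ hμ0, one_smul])
    · simpa [smul_smul, mul_inv_cancel₀ hμ0] using h.smul μ
  have hsing : ∀ (d : Fin n → F) (i₀ : Fin n), (∀ i, i ≠ i₀ → d i = 1) → d i₀ ≠ 1 →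
      Module.finrank F (LinearMap.range (Matrix.toLin' (Matrix.diagonal d) - 1)) = 1 := by
    intro d i₀ hd hd₀
    have : LinearMap.range (Matrix.toLin' (Matrix.diagonal d) - 1) = Submodule.span F {Pi.single i₀ (1 : F)} := by
      refine le_antisymm ?_ (Submodule.span_le.mpr ?_)
      · rintro _ ⟨v, rfl⟩
        refine Submodule.mem_span_singleton.mpr ⟨(d i₀ - 1) * v i₀, funext fun i => ?_⟩
        rcases eq_or_ne i i₀ with rfl | hi
        · simp [Matrix.mulVec_diagonal, sub_mul]
        · simp [Matrix.mulVec_diagonal, hi, hd i hi]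
      · rintro _ rfl
        refine ⟨(d i₀ - 1)⁻¹ • Pi.single i₀ (1 : F), funext fun i => ?_⟩
        rcases eq_or_ne i i₀ with rfl | hi
        · simp [Matrix.mulVec_diagonal]
          field_simp [sub_ne_zero.mpr hd₀]
        · simp [Matrix.mulVec_diagonal, hi]
    rw [this, finrank_span_singleton (by simp)]
  constructor
  · intro h
    by_contra hno
    rw [not_or, not_and_or] at hno
    obtain ⟨hn2, hcase⟩ := hno
    by_cases h2 : (2 : F) = 0
    · -- a transvection
      let i : Fin n := ⟨0, by omega⟩
      let j : Fin n := ⟨1, by omega⟩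
      have hij : i ≠ j := fun e => by simpa [i, j] using congrArg Fin.val e
      let g : Module.End F (Fin n → F) := Matrix.toLinAlgEquiv' (Matrix.transvection i j (1 : F))
      have hg2 : g ^ 2 = (1 : F) • 1 := by
        show Matrix.toLinAlgEquiv' (Matrix.transvection i j (1 : F)) ^ 2 = _
        rw [← map_pow, sq, Matrix.transvection_mul_transvection_same i j hij, one_add_one_eq_two, h2,
          Matrix.transvection_zero, map_one, one_smul]
      have hrange : Module.finrank F (LinearMap.range (g - 1)) = 1 := by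
        have : LinearMap.range (g - 1) = Submodule.span F {Pi.single i (1 : F)} := by
          refine le_antisymm ?_ (Submodule.span_le.mpr ?_)
          · rintro _ ⟨v, rfl⟩
            refine Submodule.mem_span_singleton.mpr ⟨v j, funext fun k => ?_⟩
            simp [g, Matrix.transvection, Matrix.add_mulVec, Matrix.single_mulVec, Pi.single_apply, Function.update_apply,
              Matrix.single_apply, eq_comm]
          · rintro _ rfl
            refine ⟨Pi.single j (1 : F), funext fun k => ?_⟩
            simp [g, Matrix.transvection, Matrix.add_mulVec, Matrix.single_mulVec, Pi.single_apply, Function.update_apply,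
              Matrix.single_apply, eq_comm]
        rw [this, finrank_span_singleton (by simp)]
      have hproj : ProjOrder g 2 := by
        refine ⟨?_, ⟨1, hg2⟩, fun c hc => ?_⟩
        · show LinearMap.det (Matrix.toLin' (Matrix.transvection i j (1 : F))) = 1
          rw [LinearMap.det_toLin', Matrix.det_transvection_of_ne i j hij]
        · have := congrArg (fun f : Module.End F (Fin n → F) => f (Pi.single j 1) i) hc
          simp [g, Matrix.transvection, Matrix.add_mulVec, Matrix.single_mulVec, hij] at this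
      obtain ⟨φ, hφ⟩ := h g hproj
      have := finrank_eq_two_of_rank_one hL hφ hrange
      rw [hV] at this
      omega
    · -- a reflection, scaled
      have hodd : Odd (Fintype.card F) := by
        rw [← Nat.not_even_iff_odd]
        intro he
        obtain ⟨f, hpp, hf⟩ := FiniteField.card F p
        rw [hf] at he
        have : p = 2 := ((Nat.Prime.even_iff hpp).mp ((Nat.even_pow.mp he).1))
        subst this
        exact h2 (by exact_mod_cast CharP.cast_eq_zero F 2)
      obtain ⟨μ, hμ⟩ := (neg_one_power_iff h2 (n := n) (by omega)).mpr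
        (not_le.mp (hcase.resolve_left (not_not.mpr hodd)))
      have hμ0 : μ ≠ 0 := fun e => by
        rw [e, zero_pow (by omega)] at hμ
        exact one_ne_zero (neg_eq_zero.mp hμ.symm)
      let i₀ : Fin n := ⟨0, by omega⟩
      let d : Fin n → F := Function.update 1 i₀ (-1)
      let h₀ : Module.End F (Fin n → F) := Matrix.toLinAlgEquiv' (Matrix.diagonal d)
      have hh₀ : h₀ ^ 2 = 1 := by
        show Matrix.toLinAlgEquiv' (Matrix.diagonal d) ^ 2 = 1
        rw [← map_pow, Matrix.diagonal_pow, show d ^ 2 = 1 from funext fun i => by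
          rcases eq_or_ne i i₀ with rfl | hi <;> simp_all [d],
          show Matrix.diagonal (1 : Fin n → F) = 1 from Matrix.diagonal_one, map_one]
      have hd₀ : d i₀ ≠ 1 := by
        simp only [d, Function.update_self]
        intro e
        exact h2 (by linear_combination -e)
      have hproj : ProjOrder (μ • h₀) 2 := by
        refine ⟨?_, ⟨μ ^ 2, by rw [smul_pow, hh₀]⟩, fun c hc => ?_⟩
        · rw [LinearMap.det_smul, hV, hμ]
          show (-1 : F) * LinearMap.det (Matrix.toLin' (Matrix.diagonal d)) = 1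
          rw [LinearMap.det_toLin', Matrix.det_diagonal, Finset.prod_update_of_mem (Finset.mem_univ _)]
          simp
        · have e0 := congrArg (fun f : Module.End F (Fin n → F) => f (Pi.single i₀ 1) i₀) hc
          have e1 := congrArg (fun f : Module.End F (Fin n → F) => f (Pi.single (⟨1, by omega⟩ : Fin n) 1) ⟨1, by omega⟩) hc
          simp [h₀, d, Matrix.mulVec_diagonal] at e0
          simp [h₀, d, i₀, Matrix.mulVec_diagonal, Function.update_apply] at e1
          exact h2 (mul_left_cancel₀ hμ0 (by linear_combination e1 - e0))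
      obtain ⟨φ, hφ⟩ := h _ hproj
      have hφ' : Normalizes h₀ φ := by
        simpa [smul_smul, inv_mul_cancel₀ hμ0] using hφ.smul μ⁻¹
      have := finrank_eq_two_of_rank_one hL hφ' (hsing d i₀ (fun i hi => by simp [d, hi]) hd₀)
      rw [hV] at this
      omega
  · intro h g hg
    obtain ⟨hdet, ⟨z, hz⟩, hns⟩ := hg
    have hz0 : z ≠ 0 := ProjOrder.scalar_ne_zero ⟨hdet, ⟨z, hz⟩, hns⟩ hz
    by_cases hroot : ∃ μ : F, μ ^ 2 = z
    · obtain ⟨μ, hμ⟩ := hroot
      obtain ⟨hμ0, hh, hns', hback⟩ := hscaled g z μ hz hz0 hμ hns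
      apply hback
      rcases h with rfl | ⟨hodd, hle⟩
      · obtain ⟨b, hb⟩ := exists_cyclicBasis_two hV hh hns'
        exact hasStructure_of_cyclicBasis hL b hb
      · have h2 : (2 : F) ≠ 0 := by
          intro e
          have hp2 : p = 2 := (Nat.prime_dvd_prime_iff_eq Fact.out Nat.prime_two).mp
            ((CharP.cast_eq_zero_iff F p 2).mp (by exact_mod_cast e))
          subst hp2
          obtain ⟨f, -, hf⟩ := FiniteField.card F 2
          rw [hf] at hodd
          exact (Nat.not_even_iff_odd.mpr hodd) (Nat.even_pow.mpr ⟨even_two, f.ne_zero⟩)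
        set h' := μ⁻¹ • g with hh'
        let U := LinearMap.ker (h' - 1)
        let W := LinearMap.ker (h' + 1)
        have hsq : ∀ v, h' (h' v) = v := fun v => by
          simpa [sq] using congrArg (fun f : Module.End F (Fin n → F) => f v) hh
        have hgU : ∀ u ∈ U, h' u = (1 : F) • u := fun u hu => by
          simpa [U, LinearMap.mem_ker, sub_eq_zero] using hu
        have hgW : ∀ w ∈ W, h' w = (-1 : F) • w := fun w hw => by
          simpa [W, LinearMap.mem_ker, add_eq_zero_iff_eq_neg] using hw
        have hUW : IsCompl U W := by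
          refine ⟨Submodule.disjoint_def.mpr fun v hv hv' => ?_, codisjoint_iff.mpr (eq_top_iff.mpr fun v _ => ?_)⟩
          · have e := (hgU v hv).symm.trans (hgW v hv')
            rw [one_smul, neg_one_smul, eq_neg_iff_add_eq_zero, ← two_smul F] at e
            exact (smul_eq_zero.mp e).resolve_left h2
          · refine Submodule.mem_sup.mpr ⟨(2 : F)⁻¹ • (v + h' v), ?_, (2 : F)⁻¹ • (v - h' v), ?_, ?_⟩
            · simp [U, LinearMap.mem_ker, map_smul, map_add, hsq, add_comm] <;> first | module | exact Or.inr (by abel)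
            · simp [W, LinearMap.mem_ker, map_smul, map_sub, hsq] <;> first | module | exact Or.inr (by abel)
            · rw [← smul_add, add_add_sub_cancel, ← two_smul F, smul_smul, inv_mul_cancel₀ h2, one_smul]
        have hd := det_of_split hUW hgU hgW
        rw [hh', LinearMap.det_smul, hdet, hV, mul_one, one_pow, one_mul, inv_pow] at hd
        have hW : Even (Module.finrank F W) := by
          by_contra ho
          rw [(Nat.not_even_iff_odd.mp ho).neg_one_pow, inv_eq_iff_eq_inv, inv_neg, inv_one] at hd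
          exact absurd ((neg_one_power_iff h2 (n := n) (by omega)).mp ⟨μ, hd⟩) (not_lt.mpr hle)
        have htot := Submodule.finrank_add_eq_of_isCompl hUW
        rw [hV] at htot
        have hU : 2 ∣ Module.finrank F U := by
          obtain ⟨k, hk⟩ := hW
          omega
        exact hasStructure_of_split hUW (hL.symm ▸ hU) (hL.symm ▸ even_iff_two_dvd.mp hW) hgU hgW
    · push Not at hroot
      exact hasStructure_of_nonpower hL hz0 hroot hz

end Cfsg.Agent.S5969
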