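import Cfsg.Statements.S5970
import Cfsg.Agent.LinearElements.ExtensionModels

set_option autoImplicit false
open scoped MatrixGroups
open Cfsg

open CfsgLib.LinearElements

namespace Cfsg.Agent.S5970

/-- Elements of order `n` of PSL_n(q), `n` prime, and the normalizer of a Singer cycle. Here `T = PSL_n(F)` for a field `F` with `q = p^f` elements (`n ≥ 2`, `(n, q) ≠ (2, 2), (2, 3)`), `k` is a prime dividing `n`, `K` is a subalgebra of the `n × n` matrices that is a field of degree `k` over `F` (an extension-field structure F_{q^k} on `F^n`), and `H` is the subgroup of matrices of determinant 1 normalizing `K` — a subgroup of type GL_{n/k}(q^k) (maximal except in some small cases; maximality is not assumed); Ω is the set of cosets of `H` in `T`, so an element of `T` of prime order `r` (a matrix `x` of determinant 1 with `x^r` scalar, `x` not scalar) fixes a point of Ω when some conjugate of `x` by a matrix of determinant 1 normalizes `K`. Take `k = n > 3` prime with `n ≠ p` (so `H` is the normalizer of a Singer cycle), and suppose `n` divides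 the index of `H`. Then every element of `T` of order `n` is conjugate in `T` into `H` if and only if the multiplicative order of `q` modulo `n` is `n − 1`. -/
theorem result {F : Type*} [Field F] [Fintype F] {p : ℕ} [Fact p.Prime] [CharP F p] {q : ℕ} (hq : Fintype.card F = q)
    (n : ℕ) (hn : 2 ≤ n) (hT : (n, q) ≠ (2, 2) ∧ (n, q) ≠ (2, 3))
    (k : ℕ) (hk : k.Prime) (hkn : k ∣ n) (K : Subalgebra F (Matrix (Fin n) (Fin n) F)) (hK : Cfsg.Geo.IsFieldSubalgebra k K) (hkn' : k = n) (hn3 : 3 < n) (hnp : n ≠ p) (hΩ : n ∣ ((Cfsg.Geo.subalgebraNormalizer K).comap (Matrix.SpecialLinearGroup.toGL : Matrix.SpecialLinearGroup (Fin n) F →* GL (Fin n) F)).index) :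
    (∀ x : Matrix.SpecialLinearGroup (Fin n) F,
      (∃ z : F, ((x ^ n : Matrix.SpecialLinearGroup (Fin n) F) : Matrix (Fin n) (Fin n) F) = z • (1 : Matrix (Fin n) (Fin n) F)) →
      (∀ z : F, (x : Matrix (Fin n) (Fin n) F) ≠ z • (1 : Matrix (Fin n) (Fin n) F)) →
      ∃ P : Matrix.SpecialLinearGroup (Fin n) F, P⁻¹ * x * P ∈ ((Cfsg.Geo.subalgebraNormalizer K).comap (Matrix.SpecialLinearGroup.toGL : Matrix.SpecialLinearGroup (Fin n) F →* GL (Fin n) F))) ↔
    orderOf (q : ZMod n) = n - 1 := by
  subst hq hkn'
  haveI : Fact k.Prime := ⟨hk⟩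
  haveI : NeZero k := ⟨hk.ne_zero⟩
  haveI : Nonempty (Fin k) := ⟨⟨0, hk.pos⟩⟩
  let L := FiniteField.Extension F p k
  have hL : Module.finrank F L = k := FiniteField.finrank_extension F p k
  have hV : Module.finrank F (Fin k → F) = k := Module.finrank_fin_fun F
  have hq0 := cast_card_ne_zero (F := F) hnp
  have hkF : (k : F) ≠ 0 := natCast_ne_zero hnp
  simp only [exists_conj_mem_normalizer_iff (p := p) hk.pos hL hK]
  rw [forall_sl_iff (fun g : Module.End F (Fin k → F) => HasStructure L g)]
  obtain ⟨c, hc⟩ : ∃ c, orderOf (Fintype.card F : ZMod k) = c := ⟨_, rfl⟩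
  have hcdvd : c ∣ k - 1 := hc ▸ orderOf_dvd_of_pow_eq_one (ZMod.pow_card_sub_one_eq_one hq0)
  have hcpos : 0 < c := Nat.pos_of_dvd_of_pos hcdvd (by omega)
  rw [hc]
  constructor
  · intro h
    by_contra hne
    -- a map of order `k` with fixed space of dimension at least two
    obtain ⟨g, hg, hdet, hns, hfix⟩ : ∃ g : Module.End F (Fin k → F), g ^ k = 1 ∧ LinearMap.det g = 1 ∧
        (∀ z : F, g ≠ z • 1) ∧ 2 ≤ Module.finrank F (fixedIn g ⊤) := by
      by_cases hc1 : c = 1
      · have hdvd : k ∣ Fintype.card F - 1 := dvd_card_sub_one_iff.mpr (hc.trans hc1)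
        obtain ⟨u, hu⟩ := IsCyclic.exists_ofOrder_eq_natCard (α := Fˣ)
        rw [Nat.card_units, Nat.card_eq_fintype_card] at hu
        have hN : Fintype.card F - 1 ≠ 0 := by have := Fintype.one_lt_card (α := F); omega
        obtain ⟨ζ, hζ⟩ : ∃ ζ : Fˣ, orderOf ζ = k :=
          ⟨u ^ (orderOf u / k), orderOf_pow_orderOf_div (hu ▸ hN) (hu ▸ hdvd)⟩
        let i : Fin k := ⟨0, by omega⟩
        let j : Fin k := ⟨1, by omega⟩
        have hij : i ≠ j := fun e => by simpa [i, j] using congrArg Fin.val e
        let d : Fin k → F := Function.update (Function.update 1 i (ζ : F)) j ((ζ⁻¹ : Fˣ) : F)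
        refine ⟨Matrix.toLin' (Matrix.diagonal d), ?_, ?_, fun z hz => ?_, ?_⟩
        · show Matrix.toLinAlgEquiv' (Matrix.diagonal d) ^ k = 1
          rw [← map_pow, Matrix.diagonal_pow, show d ^ k = 1 from funext fun l => ?_,
            show Matrix.diagonal (1 : Fin k → F) = 1 from Matrix.diagonal_one, map_one]
          show d l ^ k = 1
          have e1 : ((ζ : F)) ^ k = 1 := by rw [← Units.val_pow_eq_pow_val, ← hζ, pow_orderOf_eq_one, Units.val_one]
          have e2 : (((ζ⁻¹ : Fˣ)) : F) ^ k = 1 := by
            rw [← Units.val_pow_eq_pow_val, inv_pow, ← hζ, pow_orderOf_eq_one, inv_one, Units.val_one]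
          simp only [d, Function.update_apply]
          split_ifs
          · exact e2
          · exact e1
          · simp
        · rw [LinearMap.det_toLin', Matrix.det_diagonal, Finset.prod_update_of_mem (Finset.mem_univ j),
            Finset.prod_update_of_mem (s := Finset.univ \ {j}) (by simp [hij])]
          simp
        · have e0 := congrArg (fun f : Module.End F (Fin k → F) => f (Pi.single i 1) i) hz
          have e2 := congrArg (fun f : Module.End F (Fin k → F) =>
            f (Pi.single (⟨2, by omega⟩ : Fin k) 1) ⟨2, by omega⟩) hz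
          simp [d, i, j, Matrix.mulVec_diagonal, Function.update_apply] at e0 e2
          rw [← e2, Units.val_eq_one] at e0
          rw [e0, orderOf_one] at hζ
          omega
        · let a : Fin k := ⟨2, by omega⟩
          let b : Fin k := ⟨3, by omega⟩
          have hfa : ∀ l : Fin k, 2 ≤ (l : ℕ) →
              Pi.single l (1 : F) ∈ fixedIn (Matrix.toLin' (Matrix.diagonal d)) ⊤ := by
            intro l hl
            refine mem_fixedIn.mpr ⟨trivial, funext fun m => ?_⟩
            rcases eq_or_ne m l with rfl | hml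
            · have h1 : m ≠ i := fun e => by rw [e] at hl; simp [i] at hl
              have h2 : m ≠ j := fun e => by rw [e] at hl; simp [j] at hl
              simp [d, Matrix.mulVec_diagonal, h1, h2]
            · simp [Matrix.mulVec_diagonal, hml]
          let v : Fin 2 → fixedIn (Matrix.toLin' (Matrix.diagonal d)) ⊤ :=
            ![⟨_, hfa a (by simp [a])⟩, ⟨_, hfa b (by simp [b])⟩]
          have hli : LinearIndependent F v := by
            rw [LinearIndependent.pair_iff]
            intro s t hst
            have hst' := congrArg Subtype.val hst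
            have ea := congrFun hst' a
            have eb := congrFun hst' b
            simp [a, b] at ea eb
            exact ⟨ea, eb⟩
          simpa using hli.fintype_card_le_finrank
      · obtain ⟨g, hg, hdet, hfix, hns⟩ := exists_fixed_model (F := F) (V := Fin k → F) (r := k) (by omega)
          (s := 1) (k := k - c) le_rfl (by
            rw [hV, hc]; have := Nat.le_of_dvd (by omega) hcdvd; omega)
        refine ⟨g, hg, hdet, hns, ?_⟩
        rw [hfix]
        obtain ⟨e, he⟩ := hcdvd
        have : 2 ≤ e := by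
          by_contra hlt
          interval_cases e <;> omega
        have h2 : c * 2 ≤ c * e := Nat.mul_le_mul_left c this
        omega
    obtain ⟨φ, hφ⟩ := h g ⟨hdet, ⟨1, by rw [hg, one_smul]⟩, hns⟩
    have := finrank_ker_le_one hk hL hV hφ (fun e => hns 1 (by rw [e, one_smul]))
    rw [show LinearMap.ker (g - 1) = fixedIn g ⊤ from (top_inf_eq _).symm] at this
    omega
  · intro hck g hg
    obtain ⟨hdet, ⟨z, hz⟩, hns⟩ := hg
    have hz0 : z ≠ 0 := ProjOrder.scalar_ne_zero ⟨hdet, ⟨z, hz⟩, hns⟩ hz
    obtain ⟨μ, hμ⟩ := exists_root_of_order_ne_one (r := k) (by rw [hc]; omega) z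
    have hμ0 : μ ≠ 0 := fun e => hz0 (by rw [← hμ, e, zero_pow hk.ne_zero])
    have hh : (μ⁻¹ • g) ^ k = 1 := by rw [smul_pow, hz, inv_pow, hμ, smul_smul, inv_mul_cancel₀ hz0, one_smul]
    obtain ⟨b, hb⟩ := exists_cyclicBasis_prime (by omega) hkF hV hq0 (hc.trans hck) hh (fun e => hns μ (by
      rw [← one_smul F g, ← mul_inv_cancel₀ hμ0, mul_smul, e]))
    simpa [smul_smul, mul_inv_cancel₀ hμ0] using (hasStructure_of_cyclicBasis hL b hb).smul μ

end Cfsg.Agent.S5970
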