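import Cfsg.Statements.S5971
import Cfsg.Agent.LinearElements.ExtensionModels
import Cfsg.Agent.Linear.Basic

set_option autoImplicit false
open scoped MatrixGroups
open Cfsg

open CfsgLib.LinearElements

namespace Cfsg.Agent.S5971

open Module in
/-- Three dimensions, `q ≡ 4, 7 (mod 9)`: a non-scalar map of order 3 up to the scalar has a cyclic basis. -/
theorem exists_cyclicBasis_three {F V : Type*} [Field F] [Fintype F] [AddCommGroup V] [Module F V]
    [FiniteDimensional F V] (hV : finrank F V = 3) (h9 : Fintype.card F % 9 = 4 ∨ Fintype.card F % 9 = 7)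
    {g : Module.End F V} (hdet : LinearMap.det g = 1) (hns : ∀ c : F, g ≠ c • 1) {μ : F} (hμ : μ ≠ 0)
    (hg : g ^ 3 = μ ^ 3 • 1) : ∃ b : Basis (Fin 3) F V, ∀ l, (μ⁻¹ • g) (b l) = b (l + 1) := by
  classical
  have h3 : (3 : F) ≠ 0 := by
    intro e
    obtain ⟨p, hp⟩ := CharP.exists F
    obtain ⟨f, hpp, hf⟩ := FiniteField.card F p
    haveI : Fact p.Prime := ⟨hpp⟩
    have hp3 : p = 3 := (Nat.prime_dvd_prime_iff_eq hpp Nat.prime_three).mp
      ((CharP.cast_eq_zero_iff F p 3).mp (by exact_mod_cast e))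
    have : 3 ∣ Fintype.card F := by rw [hf, hp3]; exact dvd_pow_self 3 f.ne_zero
    omega
  have hdvd : 3 ∣ Fintype.card F - 1 := by omega
  obtain ⟨u, hu⟩ := IsCyclic.exists_ofOrder_eq_natCard (α := Fˣ)
  rw [Nat.card_units, Nat.card_eq_fintype_card] at hu
  have hN : Fintype.card F - 1 ≠ 0 := by omega
  obtain ⟨w, hw⟩ : ∃ w : Fˣ, orderOf w = 3 :=
    ⟨u ^ (orderOf u / 3), orderOf_pow_orderOf_div (hu ▸ hN) (hu ▸ hdvd)⟩
  set ω : F := (w : F) with hωdef
  have hω : IsPrimitiveRoot ω 3 := by
    rw [← hw]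
    exact (IsPrimitiveRoot.orderOf w).map_of_injective (f := Units.coeHom F) Units.val_injective
  have hω3 : ω ^ 3 = 1 := hω.pow_eq_one
  have hωs : 1 + ω + ω ^ 2 = 0 := by
    have := hω.geom_sum_eq_zero (by norm_num)
    simpa [Finset.sum_range_succ] using this
  have hω0 : ω ≠ 0 := w.ne_zero
  set h := μ⁻¹ • g with hh_def
  have hh : h ^ 3 = 1 := by
    rw [hh_def, smul_pow, hg, smul_smul, inv_pow, inv_mul_cancel₀ (pow_ne_zero _ hμ), one_smul]
  have hh' : ∀ v, h (h (h v)) = v := fun v => by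
    simpa [pow_succ] using congrArg (fun f : Module.End F V => f v) hh
  let E : Fin 3 → Submodule F V := fun i => LinearMap.ker (h - (ω ^ (i : ℕ)) • 1)
  have hE : ∀ i, ∀ v ∈ E i, h v = ω ^ (i : ℕ) • v := fun i v hv => by
    simpa [E, LinearMap.mem_ker, sub_eq_zero] using hv
  have hsup : (E 0 ⊔ E 1) ⊔ E 2 = ⊤ := by
    refine eq_top_iff.mpr fun v _ => Submodule.mem_sup.mpr ⟨(3 : F)⁻¹ • (v + h v + h (h v)) +
      (3 : F)⁻¹ • (v + ω ^ 2 • h v + ω • h (h v)), ?_, (3 : F)⁻¹ • (v + ω • h v + ω ^ 2 • h (h v)), ?_, ?_⟩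
    · refine Submodule.add_mem_sup ?_ ?_
      · simp [E, LinearMap.mem_ker, map_smul, map_add, hh', sub_eq_zero]
        module
      · simp [E, LinearMap.mem_ker, map_smul, map_add, hh', sub_eq_zero]
        match_scalars <;> grind
    · simp [E, LinearMap.mem_ker, map_smul, map_add, hh', sub_eq_zero]
      match_scalars <;> grind
    · match_scalars <;> grind
  have hdim : ∀ i, finrank F (E i) ≤ 1 := by
    intro i
    by_contra hlt
    have hne3 : finrank F (E i) ≠ 3 := fun e => by
      have htop : E i = ⊤ := Submodule.eq_top_of_finrank_eq (by rw [hV, e])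
      refine hns (μ * ω ^ (i : ℕ)) (LinearMap.ext fun v => ?_)
      have := hE i v (htop ▸ trivial)
      rw [hh_def, LinearMap.smul_apply, inv_smul_eq_iff₀ hμ] at this
      rw [this, smul_smul]; rfl
    have hle := Submodule.finrank_le (E i)
    rw [hV] at hle
    have hinv : InvBy h (E i) := fun v hv => by rw [hE i v hv]; exact (E i).smul_mem _ hv
    obtain ⟨W, hW, -, hinf, hsup'⟩ := exists_invBy_compl (r := 3) (by norm_num) (by exact_mod_cast h3) one_ne_zero
      (by rw [hh, one_smul]) invBy_top hinv le_top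
    have hWd := finrank_sup_of_disjoint hinf
    rw [hsup', finrank_top, hV] at hWd
    obtain ⟨w₀, hw₀, hspan⟩ := finrank_eq_one_iff'.mp (show finrank F W = 1 by omega)
    obtain ⟨β, hβ⟩ := hspan ⟨h w₀, hW _ w₀.2⟩
    have hβ' : ∀ v ∈ W, h v = β • v := fun v hv => by
      obtain ⟨a, ha⟩ := hspan ⟨v, hv⟩
      have ha' : a • (w₀ : V) = v := congrArg Subtype.val ha
      rw [← ha', map_smul, smul_comm, show β • (w₀ : V) = h w₀ from congrArg Subtype.val hβ]
    have hd := det_of_split ⟨disjoint_iff.mpr hinf, codisjoint_iff.mpr hsup'⟩ (hE i) hβ'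
    rw [hh_def, LinearMap.det_smul, hdet, hV, mul_one, show finrank F (E i) = 2 by omega,
      show finrank F W = 1 by omega, pow_one] at hd
    have hβ3 : β ^ 3 = 1 := by
      have := hh' (w₀ : V)
      rw [hβ' _ w₀.2, map_smul, hβ' _ w₀.2, map_smul, map_smul, hβ' _ w₀.2, smul_smul, smul_smul] at this
      have h1 : (β * β * β - 1) • (w₀ : V) = 0 := by rw [sub_smul, one_smul, this, sub_self]
      have h2 := (smul_eq_zero.mp h1).resolve_right (fun e => hw₀ (Subtype.ext e))
      linear_combination h2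
    have hβne : β ≠ ω ^ (i : ℕ) := by
      intro e
      have : W ≤ E i := fun v hv => by simp [E, LinearMap.mem_ker, sub_eq_zero, hβ' v hv, e]
      rw [inf_eq_right.mpr this] at hinf
      rw [hinf, finrank_bot] at hWd
      omega
    have hωi : (ω ^ (i : ℕ)) ^ 3 = 1 := by rw [← pow_mul, mul_comm, pow_mul, hω3, one_pow]
    -- the value of `a ^ 3` is a non-trivial cube root of unity
    have key : ((μ⁻¹) ^ 3) ^ 3 = 1 ∧ (μ⁻¹) ^ 3 ≠ 1 := by
      refine ⟨by rw [hd, mul_pow, ← pow_mul, mul_comm 2 3, pow_mul, hωi, one_pow, hβ3, one_mul], fun e => hβne ?_⟩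
      rw [e] at hd
      linear_combination (-(ω ^ (i : ℕ))) * hd - β * hωi
    have ho : orderOf μ⁻¹ = 9 := by
      haveI : Fact (Nat.Prime 3) := ⟨Nat.prime_three⟩
      exact orderOf_eq_prime_pow (n := 1) (by rw [pow_one]; exact key.2) (by rw [← key.1, ← pow_mul]; norm_num)
    have h9d := orderOf_dvd_of_pow_eq_one (FiniteField.pow_card_sub_one_eq_one μ⁻¹ (inv_ne_zero hμ))
    rw [ho] at h9d
    omega
  have hne : ∀ i, E i ≠ ⊥ := by
    intro i hbot
    have h1 := Submodule.finrank_add_le_finrank_add_finrank (E 0 ⊔ E 1) (E 2)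
    have h2 := Submodule.finrank_add_le_finrank_add_finrank (E 0) (E 1)
    rw [hsup, finrank_top, hV] at h1
    have h0 : finrank F (E i) = 0 := by rw [hbot, finrank_bot]
    have := hdim 0; have := hdim 1; have := hdim 2
    fin_cases i <;> simp only [Fin.zero_eta, Fin.mk_one, Fin.reduceFinMk] at h0 <;> omega
  choose v hv hv0 using fun i => (Submodule.ne_bot_iff (E i)).mp (hne i)
  have hE' : ∀ i, ∀ x ∈ E i, ∀ k : ℕ, (h ^ k) x = (ω ^ (i : ℕ)) ^ k • x := by
    intro i x hx k
    induction k with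
    | zero => simp
    | succ k ih => rw [pow_succ', Module.End.mul_apply, ih, map_smul, hE i x hx, smul_smul, pow_succ]
  have hspanE : ∀ i, E i = Submodule.span F {v i} := fun i =>
    (Submodule.eq_of_le_of_finrank_le (Submodule.span_le.mpr (by simpa using hv i))
      (by rw [finrank_span_singleton (hv0 i)]; exact hdim i)).symm
  let x := v 0 + v 1 + v 2
  let b : Fin 3 → V := fun l => (h ^ (l : ℕ)) x
  have hb : ∀ l : Fin 3, b l = v 0 + (ω ^ (l : ℕ)) • v 1 + ((ω ^ 2) ^ (l : ℕ)) • v 2 := fun l => by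
    simp [b, x, hE' 0 _ (hv 0), hE' 1 _ (hv 1), hE' 2 _ (hv 2)]
  have hmem : ∀ i, v i ∈ Submodule.span F (Set.range b) := by
    have m : ∀ c₀ c₁ c₂ : F, c₀ • b 0 + c₁ • b 1 + c₂ • b 2 ∈ Submodule.span F (Set.range b) := fun c₀ c₁ c₂ =>
      add_mem (add_mem (Submodule.smul_mem _ _ (Submodule.subset_span ⟨0, rfl⟩))
        (Submodule.smul_mem _ _ (Submodule.subset_span ⟨1, rfl⟩))) (Submodule.smul_mem _ _ (Submodule.subset_span ⟨2, rfl⟩))
    intro i
    fin_cases i
    · convert m (3 : F)⁻¹ (3 : F)⁻¹ (3 : F)⁻¹ using 1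
      simp only [hb]; simp
      match_scalars <;> grind
    · convert m (3 : F)⁻¹ ((3 : F)⁻¹ * ω ^ 2) ((3 : F)⁻¹ * ω) using 1
      simp only [hb]; simp
      match_scalars <;> grind
    · convert m (3 : F)⁻¹ ((3 : F)⁻¹ * ω) ((3 : F)⁻¹ * ω ^ 2) using 1
      simp only [hb]; simp
      match_scalars <;> grind
  have hsp : ⊤ ≤ Submodule.span F (Set.range b) := by
    rw [← hsup, hspanE 0, hspanE 1, hspanE 2]
    refine sup_le (sup_le ?_ ?_) ?_ <;> exact Submodule.span_le.mpr (by simpa using hmem _)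
  refine ⟨basisOfTopLeSpanOfCardEqFinrank b hsp (by rw [hV, Fintype.card_fin]), fun l => ?_⟩
  simp only [coe_basisOfTopLeSpanOfCardEqFinrank, b]
  rw [← Module.End.mul_apply, ← pow_succ', Fin.val_add, Fin.val_one', Nat.add_mod_mod]
  conv_lhs => rw [← Nat.mod_add_div ((l : ℕ) + 1) 3, pow_add, pow_mul, hh, one_pow, mul_one]

/-- Elements of order 3 of PSL_3(q) and the normalizer of a Singer cycle. Here `T = PSL_n(F)` for a field `F` with `q = p^f` elements (`n ≥ 2`, `(n, q) ≠ (2, 2), (2, 3)`), `k` is a prime dividing `n`, `K` is a subalgebra of the `n × n` matrices that is a field of degree `k` over `F` (an extension-field structure F_{q^k} on `F^n`), and `H` is the subgroup of matrices of determinant 1 normalizing `K` — a subgroup of type GL_{n/k}(q^k) (maximal except in some small cases; maximality is not assumed); Ω is the set of cosets of `H` in `T`, so an element of `T` of prime order `r` (a matrix `x` of determinant 1 with `x^r` scalar, `x` not scalar) fixes a point of Ω when some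 conjugate of `x` by a matrix of determinant 1 normalizes `K`. Take `n = k = 3` and suppose 3 divides the index of `H`. Then every element of `T` of order 3 is conjugate in `T` into `H` if and only if `q ≡ 4, 7` or `8 (mod 9)`. -/
theorem result {F : Type*} [Field F] [Fintype F] {p : ℕ} [Fact p.Prime] [CharP F p] {q : ℕ} (hq : Fintype.card F = q)
    (n : ℕ) (hn : n = 3) (k : ℕ) (hk : k.Prime) (hkn : k ∣ n) (K : Subalgebra F (Matrix (Fin n) (Fin n) F)) (hK : Cfsg.Geo.IsFieldSubalgebra k K) (hk3 : k = 3) (hΩ : 3 ∣ ((Cfsg.Geo.subalgebraNormalizer K).comap (Matrix.SpecialLinearGroup.toGL : Matrix.SpecialLinearGroup (Fin n) F →* GL (Fin n) F)).index) :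
    (∀ x : Matrix.SpecialLinearGroup (Fin n) F,
      (∃ z : F, ((x ^ 3 : Matrix.SpecialLinearGroup (Fin n) F) : Matrix (Fin n) (Fin n) F) = z • (1 : Matrix (Fin n) (Fin n) F)) →
      (∀ z : F, (x : Matrix (Fin n) (Fin n) F) ≠ z • (1 : Matrix (Fin n) (Fin n) F)) →
      ∃ P : Matrix.SpecialLinearGroup (Fin n) F, P⁻¹ * x * P ∈ ((Cfsg.Geo.subalgebraNormalizer K).comap (Matrix.SpecialLinearGroup.toGL : Matrix.SpecialLinearGroup (Fin n) F →* GL (Fin n) F))) ↔
    (q % 9 = 4 ∨ q % 9 = 7 ∨ q % 9 = 8) := by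
  subst hq hk3 hn
  haveI : Fact (Nat.Prime 3) := ⟨Nat.prime_three⟩
  obtain ⟨p, hp⟩ := CharP.exists F
  obtain ⟨f, hpp, hf⟩ := FiniteField.card F p
  haveI : Fact p.Prime := ⟨hpp⟩
  let L := FiniteField.Extension F p 3
  have hL : Module.finrank F L = 3 := FiniteField.finrank_extension F p 3
  have hV : Module.finrank F (Fin 3 → F) = 3 := Module.finrank_fin_fun F
  have hconj := fun x => exists_conj_mem_normalizer_iff (p := p) (by norm_num : 0 < 3) hL hK x
  let H := (Cfsg.Geo.subalgebraNormalizer K).comap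
    (Matrix.SpecialLinearGroup.toGL : Matrix.SpecialLinearGroup (Fin 3) F →* GL (Fin 3) F)
  by_cases hp3 : p = 3
  · subst hp3
    have h3 : (3 : F) = 0 := by exact_mod_cast CharP.cast_eq_zero F 3
    refine iff_of_false ?_ (by
      have : 3 ∣ Fintype.card F := by rw [hf]; exact dvd_pow_self 3 f.ne_zero
      omega)
    intro h
    simp only [hconj] at h
    rw [forall_sl_iff (fun g : Module.End F (Fin 3 → F) => HasStructure L g)] at h
    let g : Module.End F (Fin 3 → F) := Matrix.toLinAlgEquiv' (Matrix.transvection 0 1 (1 : F))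
    have hg3 : g ^ 3 = 1 := by
      show Matrix.toLinAlgEquiv' (Matrix.transvection 0 1 (1 : F)) ^ 3 = 1
      rw [← map_pow, pow_succ, sq, Matrix.transvection_mul_transvection_same _ _ (by decide),
        Matrix.transvection_mul_transvection_same _ _ (by decide), show (1 + 1 + 1 : F) = 0 by linear_combination h3,
        Matrix.transvection_zero, map_one]
    have hns : ∀ c : F, g ≠ c • 1 := fun c hc => by
      have := congrArg (fun f : Module.End F (Fin 3 → F) => f (Pi.single 1 1) 0) hc
      simp [g, Matrix.transvection, Matrix.add_mulVec, Matrix.single_mulVec] at this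
    obtain ⟨φ, hφ⟩ := h g ⟨by
      show LinearMap.det (Matrix.toLin' (Matrix.transvection (0 : Fin 3) 1 (1 : F))) = 1
      rw [LinearMap.det_toLin', Matrix.det_transvection_of_ne _ _ (by decide)], ⟨1, by rw [hg3, one_smul]⟩, hns⟩
    have h1 := finrank_ker_le_one Nat.prime_three hL hV hφ (fun e => hns 1 (by rw [e, one_smul]))
    have m0 : Pi.single 0 (1 : F) ∈ LinearMap.ker (g - 1) := by
      rw [LinearMap.mem_ker, LinearMap.sub_apply, Module.End.one_apply, sub_eq_zero]
      funext i
      simp [g, Matrix.transvection, Matrix.add_mulVec, Matrix.single_mulVec, Pi.single_apply]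
    have m1 : Pi.single 2 (1 : F) ∈ LinearMap.ker (g - 1) := by
      rw [LinearMap.mem_ker, LinearMap.sub_apply, Module.End.one_apply, sub_eq_zero]
      funext i
      simp [g, Matrix.transvection, Matrix.add_mulVec, Matrix.single_mulVec, Pi.single_apply]
    have hli : LinearIndependent F (![⟨_, m0⟩, ⟨_, m1⟩] : Fin 2 → LinearMap.ker (g - 1)) := by
      rw [LinearIndependent.pair_iff]
      intro s t hst
      have e := congrArg Subtype.val hst
      have e0 := congrFun e 0
      have e2 := congrFun e 2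
      simp at e0 e2
      exact ⟨e0, e2⟩
    have h2 := hli.fintype_card_le_finrank
    simp at h2
    omega
  have hq0 := cast_card_ne_zero (F := F) (r := 3) (Ne.symm hp3)
  have h3F : ((3 : ℕ) : F) ≠ 0 := natCast_ne_zero (Ne.symm hp3)
  have hcard3 : Fintype.card F % 3 ≠ 0 := fun e => hq0 (by
    rw [ZMod.natCast_eq_zero_iff]; exact Nat.dvd_of_mod_eq_zero e)
  rcases (show Fintype.card F % 3 = 2 ∨ Fintype.card F % 3 = 1 by omega) with hq3 | hq3
  · -- every element works, and then `q ≡ 8 (mod 9)`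
    have hc : orderOf (Fintype.card F : ZMod 3) = 3 - 1 := by
      have : (Fintype.card F : ZMod 3) = -1 := by
        rw [← ZMod.natCast_mod, hq3]; rfl
      rw [this]
      show orderOf (-1 : ZMod 3) = 2
      haveI : Fact (2 < 3) := ⟨by norm_num⟩
      exact orderOf_eq_prime neg_one_sq ZMod.neg_one_ne_one
    have hall : ∀ g : Module.End F (Fin 3 → F), ProjOrder g 3 → HasStructure L g := by
      intro g ⟨hdet, ⟨z, hz⟩, hns⟩
      have hz0 : z ≠ 0 := ProjOrder.scalar_ne_zero ⟨hdet, ⟨z, hz⟩, hns⟩ hz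
      obtain ⟨μ, hμ⟩ := exists_root_of_order_ne_one (r := 3) (by rw [hc]; omega) z
      have hμ0 : μ ≠ 0 := fun e => hz0 (by rw [← hμ, e]; simp)
      have hh : (μ⁻¹ • g) ^ 3 = 1 := by rw [smul_pow, hz, inv_pow, hμ, smul_smul, inv_mul_cancel₀ hz0, one_smul]
      obtain ⟨b, hb⟩ := exists_cyclicBasis_prime (r := 3) le_rfl h3F hV hq0 hc hh (fun e => hns μ (by
        rw [← one_smul F g, ← mul_inv_cancel₀ hμ0, mul_smul, e]))
      simpa [smul_smul, mul_inv_cancel₀ hμ0] using (hasStructure_of_cyclicBasis hL b hb).smul μ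
    refine iff_of_true ?_ (Or.inr (Or.inr ?_))
    · simp only [hconj]
      rw [forall_sl_iff (fun g : Module.End F (Fin 3 → F) => HasStructure L g)]
      exact hall
    by_contra h8
    let σ : Equiv.Perm (Fin 3) := finRotate 3
    let x : Matrix.SpecialLinearGroup (Fin 3) F := ⟨σ.permMatrix F, by
      rw [Matrix.det_permutation, sign_finRotate]; simp⟩
    have hx3 : x ^ 3 = 1 := by
      apply Subtype.ext
      rw [Matrix.SpecialLinearGroup.coe_pow, Matrix.SpecialLinearGroup.coe_one]
      ext i j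
      fin_cases i <;> fin_cases j <;> simp [x, σ, pow_succ, Matrix.mul_apply, Fin.sum_univ_three, PEquiv.toMatrix_apply]
    have hx1 : x ≠ 1 := fun e => by
      have := congrArg (fun y : Matrix.SpecialLinearGroup (Fin 3) F => (y : Matrix (Fin 3) (Fin 3) F) 0 0) e
      simp [x, σ, PEquiv.toMatrix_apply] at this
    have hxns : ∀ c : F, (x : Matrix (Fin 3) (Fin 3) F) ≠ c • 1 := fun c e => by
      have := congrArg (fun m : Matrix (Fin 3) (Fin 3) F => m 0 1) e
      simp [x, σ, PEquiv.toMatrix_apply] at this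
    obtain ⟨P, hP⟩ := (hconj x).mpr (by
      refine (forall_sl_iff (fun g : Module.End F (Fin 3 → F) => HasStructure L g)).mpr hall x ⟨1, ?_⟩ hxns
      rw [hx3, Matrix.SpecialLinearGroup.coe_one, one_smul])
    have ho : orderOf (⟨P⁻¹ * x * P, hP⟩ : H) = 3 := by
      rw [← Subgroup.orderOf_coe]
      refine orderOf_eq_prime ?_ fun e => hx1 ?_
      · show (P⁻¹ * x * P) ^ 3 = 1
        rw [show P⁻¹ * x * P = P⁻¹ * x * (P⁻¹)⁻¹ by rw [inv_inv], conj_pow, hx3, mul_one, mul_inv_cancel]
      · have := congrArg (fun y => P * y * P⁻¹) e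
        simpa [mul_assoc] using this
    haveI : Finite (Matrix.SpecialLinearGroup (Fin 3) F) := inferInstance
    have h9 : 9 ∣ Nat.card (Matrix.SpecialLinearGroup (Fin 3) F) := by
      rw [← Subgroup.index_mul_card H]
      exact Nat.mul_dvd_mul hΩ (ho ▸ orderOf_dvd_natCard _)
    have h9' : 9 ∣ Nat.card (GL (Fin 3) F) :=
      CfsgLib.Linear.card_SL_mul (n := Fin 3) (F := F) ▸ Dvd.dvd.mul_left h9 _
    rw [← ZMod.natCast_eq_zero_iff, Matrix.card_GL_field, Fin.prod_univ_three] at h9'
    simp only [Fin.val_zero, Fin.val_one, Fin.val_two, pow_zero, pow_one] at h9'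
    have hq1 : 1 ≤ Fintype.card F := Fintype.card_pos
    rw [Nat.cast_mul, Nat.cast_mul, Nat.cast_sub (Nat.one_le_pow _ _ hq1),
      Nat.cast_sub (Nat.le_self_pow (by norm_num) _), Nat.cast_sub (Nat.pow_le_pow_right hq1 (by norm_num))] at h9'
    push_cast at h9'
    rw [← ZMod.natCast_mod (Fintype.card F) 9] at h9'
    rcases (show Fintype.card F % 9 = 2 ∨ Fintype.card F % 9 = 5 by omega) with e | e <;>
      rw [e] at h9' <;> exact absurd h9' (by decide)
  · have hc : orderOf (Fintype.card F : ZMod 3) = 1 := by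
      rw [orderOf_eq_one_iff, ← ZMod.natCast_mod, hq3, Nat.cast_one]
    simp only [hconj]
    rw [forall_sl_iff (fun g : Module.End F (Fin 3 → F) => HasStructure L g)]
    constructor
    · intro h
      by_contra hno
      have h91 : Fintype.card F % 9 = 1 := by omega
      have hdvd : 9 ∣ Fintype.card F - 1 := by omega
      obtain ⟨u, hu⟩ := IsCyclic.exists_ofOrder_eq_natCard (α := Fˣ)
      rw [Nat.card_units, Nat.card_eq_fintype_card] at hu
      have hN : Fintype.card F - 1 ≠ 0 := by have := Fintype.one_lt_card (α := F); omega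
      obtain ⟨ν, hν⟩ : ∃ ν : Fˣ, orderOf ν = 9 :=
        ⟨u ^ (orderOf u / 9), orderOf_pow_orderOf_div (hu ▸ hN) (hu ▸ hdvd)⟩
      set a : F := (ν : F) with ha_def
      have ha0 : a ≠ 0 := ν.ne_zero
      have ha9 : a ^ 9 = 1 := by rw [← Units.val_pow_eq_pow_val, ← hν, pow_orderOf_eq_one, Units.val_one]
      have ha3 : a ^ 3 ≠ 1 := fun e => by
        have h1 : ν ^ 3 = 1 := Units.ext (by rw [Units.val_pow_eq_pow_val]; exact e)
        have := Nat.le_of_dvd (by norm_num) (orderOf_dvd_of_pow_eq_one h1)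
        omega
      let d : Fin 3 → F := ![a, a, a⁻¹ ^ 2]
      let g : Module.End F (Fin 3 → F) := Matrix.toLinAlgEquiv' (Matrix.diagonal d)
      have hg : g ^ 3 = a ^ 3 • 1 := by
        show Matrix.toLinAlgEquiv' (Matrix.diagonal d) ^ 3 = _
        rw [← map_pow, Matrix.diagonal_pow, show d ^ 3 = a ^ 3 • (1 : Fin 3 → F) from funext fun i => by
          fin_cases i <;> simp [d] <;> (field_simp; linear_combination -ha9), Matrix.diagonal_smul, map_smul,
          show Matrix.diagonal (1 : Fin 3 → F) = 1 from Matrix.diagonal_one, map_one]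
      have hns : ∀ c : F, g ≠ c • 1 := fun c hc => by
        have e0 := congrArg (fun f : Module.End F (Fin 3 → F) => f (Pi.single 0 1) 0) hc
        have e2 := congrArg (fun f : Module.End F (Fin 3 → F) => f (Pi.single 2 1) 2) hc
        simp [g, d, Matrix.mulVec_diagonal] at e0 e2
        rw [← e0] at e2
        field_simp at e2
        exact ha3 (by linear_combination -e2)
      obtain ⟨φ, hφ⟩ := h g ⟨by
        show LinearMap.det (Matrix.toLin' (Matrix.diagonal d)) = 1
        rw [LinearMap.det_toLin', Matrix.det_diagonal, Fin.prod_univ_three]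
        simp [d]; field_simp, ⟨a ^ 3, hg⟩, hns⟩
      have h1 := finrank_ker_le_one Nat.prime_three hL hV (hφ.smul a⁻¹) (fun e => hns a (by
        rw [← one_smul F g, ← mul_inv_cancel₀ ha0, mul_smul, e]))
      have m0 : Pi.single 0 (1 : F) ∈ LinearMap.ker (a⁻¹ • g - 1) := by
        rw [LinearMap.mem_ker, LinearMap.sub_apply, Module.End.one_apply, LinearMap.smul_apply, sub_eq_zero]
        funext i
        fin_cases i <;> simp [g, d, Matrix.mulVec_diagonal, ha0]
      have m1 : Pi.single 1 (1 : F) ∈ LinearMap.ker (a⁻¹ • g - 1) := by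
        rw [LinearMap.mem_ker, LinearMap.sub_apply, Module.End.one_apply, LinearMap.smul_apply, sub_eq_zero]
        funext i
        fin_cases i <;> simp [g, d, Matrix.mulVec_diagonal, ha0]
      have hli : LinearIndependent F (![⟨_, m0⟩, ⟨_, m1⟩] : Fin 2 → LinearMap.ker (a⁻¹ • g - 1)) := by
        rw [LinearIndependent.pair_iff]
        intro s t hst
        have e := congrArg Subtype.val hst
        have e0 := congrFun e 0
        have e1 := congrFun e 1
        simp at e0 e1
        exact ⟨e0, e1⟩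
      have h2 := hli.fintype_card_le_finrank
      simp at h2
      omega
    · intro h g ⟨hdet, ⟨z, hz⟩, hns⟩
      have hz0 : z ≠ 0 := ProjOrder.scalar_ne_zero ⟨hdet, ⟨z, hz⟩, hns⟩ hz
      by_cases hroot : ∃ μ : F, μ ^ 3 = z
      · obtain ⟨μ, hμ⟩ := hroot
        have hμ0 : μ ≠ 0 := fun e => hz0 (by rw [← hμ, e]; simp)
        obtain ⟨b, hb⟩ := exists_cyclicBasis_three hV (by omega) hdet hns hμ0 (by rw [hz, hμ])
        simpa [smul_smul, mul_inv_cancel₀ hμ0] using (hasStructure_of_cyclicBasis hL b hb).smul μ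
      · push Not at hroot
        exact hasStructure_of_nonpower hL hz0 hroot hz

end Cfsg.Agent.S5971
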