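import Cfsg.Statements.S5972
import Cfsg.Agent.LinearElements.OrthSingularTwo
import Cfsg.Agent.LinearElements.OrthSingularFix
import Cfsg.Agent.Forms.OrthNegOne

set_option autoImplicit false
open scoped MatrixGroups
open Cfsg

namespace Cfsg.Agent.S5972

/-- Elements of prime order of Ω_n(q), n = 2d+1 ≥ 7, q odd, with no fixed totally singular `m`-space. Here `T = Ω_n(q)` is realised as the commutator subgroup of the isometry group of the quadratic form `x₀² + Σ xᵢyᵢ` over the field `F` with `q` elements (it has trivial centre, so its elements of prime order `r` are used directly); let `1 ≤ m ≤ d` and let `r` be a prime dividing the number of totally singular `m`-spaces. For `r ≠ p` let `i` be the multiplicative order of `q` modulo `r`, `c = i` for `i` even and `c = 2i` for `i` odd, and write `k = n mod c`, `ℓ = m mod i`, `n' = ⌊n/i⌋`, `m' = ⌊m/i⌋`, `t = (r−1)/i`. Then every element of `T` of order `r` fixes some totally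 singular `m`-space if and only if either (i) `r = 2` and (`m < (n−1)/2` or `q ≡ 1 (mod 4)`); or (ii) `r ≠ p` is odd, `i ≤ m`, `k > 2ℓ`, and (`i` is odd or `n' − 2m' ≥ t`). -/
theorem result {F : Type*} [Field F] [Fintype F] {p : ℕ} [Fact p.Prime] [CharP F p] {q : ℕ} (hq : Fintype.card F = q) (hqodd : Odd q)
    (d m : ℕ) (hd : 3 ≤ d) (hm : 1 ≤ m) (hmd : m ≤ d)
    (r : ℕ) [Fact r.Prime]
    (hrΩ : r ∣ Nat.card {W : Submodule F (Unit ⊕ (Fin d ⊕ Fin d) → F) // Module.finrank F ↥W = m ∧ (∀ w ∈ W, Cfsg.quadFormOdd d F w = 0)})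
    (i c : ℕ) (hi : i = orderOf (q : ZMod r)) (hc : c = if Even i then i else 2 * i) :
    (∀ x : GL (Unit ⊕ (Fin d ⊕ Fin d)) F, x ∈ Cfsg.Geo.omegaGL (Cfsg.quadFormOdd d F) → orderOf x = r →
      ∃ W : Submodule F (Unit ⊕ (Fin d ⊕ Fin d) → F), Module.finrank F ↥W = m ∧ (∀ w ∈ W, Cfsg.quadFormOdd d F w = 0) ∧
        W.map (Matrix.toLin' (x : Matrix (Unit ⊕ (Fin d ⊕ Fin d)) (Unit ⊕ (Fin d ⊕ Fin d)) F)) ≤ W) ↔
    ((r = 2 ∧ (m < d ∨ q % 4 = 1)) ∨
     (r ≠ p ∧ 2 < r ∧ i ≤ m ∧ 2 * (m % i) < (2 * d + 1) % c ∧ (Odd i ∨ (r - 1) / i + 2 * (m / i) ≤ (2 * d + 1) / i))) := by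
  have hcoe : ⇑(CfsgLib.StdForms.oddQ d F) = Cfsg.quadFormOdd d F := CfsgLib.StdForms.coe_oddQ d
  have h2 : (2 : F) ≠ 0 := CfsgLib.Forms.two_ne_zero_of_odd hq hqodd
  have hnd := CfsgLib.StdForms.oddQ_nondegenerate (F := F) h2 d
  set Q := CfsgLib.StdForms.oddQ d F
  have hQ := CfsgLib.QuadType.sep_top hnd
  have hn : Fintype.card (Unit ⊕ (Fin d ⊕ Fin d)) = 2 * d + 1 := by simp; omega
  have hV : Module.finrank F (Unit ⊕ (Fin d ⊕ Fin d) → F) = 2 * d + 1 := by
    rw [Module.finrank_fintype_fun_eq_card, hn]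
  rw [← hcoe] at hrΩ ⊢
  have hrp : r ≠ p := CfsgLib.OrthSingular.ne_char_of_dvd hQ (m := m) (by omega) hrΩ
  refine Iff.trans (forall₃_congr fun x _ _ => exists_congr fun W => and_assoc.symm) ?_
  by_cases hr2 : r = 2
  · subst hr2
    rw [CfsgLib.OrthSingularTwo.gl_two h2 hnd hn hd hmd, FiniteField.isSquare_neg_one_iff, hq]
    have := Nat.odd_iff.mp hqodd
    simp only [lt_irrefl, false_and, and_false, or_false, true_and, ne_eq]
    omega
  have hr := (Fact.out : r.Prime)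
  have hr3 : 2 < r := lt_of_le_of_ne hr.two_le (Ne.symm hr2)
  have hrF : (r : F) ≠ 0 := fun e0 => by
    rw [CharP.cast_eq_zero_iff F p] at e0
    exact hrp ((Nat.prime_dvd_prime_iff_eq Fact.out hr).mp e0).symm
  have hq0 : (Fintype.card F : ZMod r) ≠ 0 := CfsgLib.LinearElements.cast_card_ne_zero hrp
  subst hq
  subst hi
  obtain ⟨⟨g₀, hg₀, hg₀r, hg₀1⟩, j₀, hj₀n, hj₀, hno⟩ :=
    CfsgLib.OrthSingular.exists_pfix_singular hQ hr2 hrF hq0 hc (by omega) hrΩ
  rw [CfsgLib.OrthFix.gl_iff hnd (by omega) hr2,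
    CfsgLib.OrthSingularFix.all_fix_iff hQ hr2 hrF hq0 hc hg₀ hg₀r hg₀1]
  rw [hV] at hj₀n hj₀ hno ⊢
  set i := orderOf (Fintype.card F : ZMod r) with hi
  simp only [hr2, hr3, hrp, false_and, false_or, ne_eq, not_false_eq_true, true_and]
  have hi0 : 0 < i := orderOf_pos_iff.mpr (isOfFinOrder_iff_pow_eq_one.mpr
    ⟨r - 1, by omega, ZMod.pow_card_sub_one_eq_one hq0⟩)
  have ht : 1 ≤ (r - 1) / i := (Nat.one_le_div_iff hi0).mpr
    (Nat.le_of_dvd (by omega) (orderOf_dvd_of_pow_eq_one (ZMod.pow_card_sub_one_eq_one hq0)))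
  rcases Nat.even_or_odd i with he | ho
  · have hci : i = c := by rw [hc, if_pos he]
    subst hci
    rw [CfsgLib.OrthSingularFix.goodS_even_iff he hi0 ht (by omega) hj₀n hj₀ hno]
    have hk : (2 * d + 1) % i % 2 = 1 := by
      rw [Nat.mod_mod_of_dvd _ (even_iff_two_dvd.mp he)]
      omega
    simp only [Nat.not_odd_iff_even.mpr he, false_or]
    constructor
    · rintro ⟨h1, h2, ⟨h, -⟩ | h | ⟨h, -⟩⟩
      · omega
      · exact ⟨h1, h, h2⟩
      · omega
    · rintro ⟨h1, h, h2⟩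
      exact ⟨h1, h2, Or.inr (Or.inl h)⟩
  · have hci : 2 * i = c := by rw [hc, if_neg (Nat.not_even_iff_odd.mpr ho)]
    subst hci
    rw [CfsgLib.OrthSingularFix.goodS_odd_iff ho (by omega) hj₀n hj₀ hno]
    have hk : (2 * d + 1) % (2 * i) % 2 = 1 := by
      rw [Nat.mod_mul_right_mod]; omega
    simp only [ho, true_or, and_true]
    constructor
    · rintro ⟨h1, h | ⟨h, -⟩ | ⟨h, -⟩⟩ <;> exact ⟨h1, by omega⟩
    · rintro ⟨h1, h⟩
      exact ⟨h1, Or.inl h⟩

end Cfsg.Agent.S5972
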