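import Cfsg.Statements.S5973
import Cfsg.Agent.LinearElements.OrthSingularTwo
import Cfsg.Agent.LinearElements.OrthSingularFix

set_option autoImplicit false
open scoped MatrixGroups
open Cfsg

namespace Cfsg.Agent.S5973

/-- Elements of prime order of PΩ⁺_n(q), n = 2d ≥ 8, with no fixed totally singular `m`-space, `m < n/2`. Here `T = PΩ⁺_n(q)` is realised through `Ω⁺_n(q)`, the commutator subgroup of the isometry group of the quadratic form `Σ xᵢyᵢ` over the field `F` with `q` elements; an element of `T` of prime order `r` is an element `x` of `Ω⁺_n(q)` with `x^r` scalar and `x` not scalar. Let `1 ≤ m < d` and let `r` be a prime dividing the number of totally singular `m`-spaces. For `r ≠ p` let `i` be the multiplicative order of `q` modulo `r`, `c = i` for `i` even and `c = 2i` for `i` odd, and write `k = n mod c`, `ℓ = m mod i`, `n' = ⌊n/i⌋`, `m' = ⌊m/i⌋`, `t = (r−1)/i`. Then every element of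 `T` of order `r` fixes some totally singular `m`-space if and only if one of: (i) `r = 2 ≠ p` and either `q ≡ 1 (mod 4)`, or `q ≡ 3 (mod 4)`, `m ≤ n/2 − 2` and (`m` even or `n ≡ 2 (mod 4)`); (ii) `r ≠ p` odd, `i` odd, `i ≤ m` and `k ≥ 2ℓ`; (iii) `r ≠ p` odd, `i` even, `i ≤ m`, `n' − 2m' ≥ t`, and one of: `i ≥ 2ℓ`, `k = 0`, `n/i` odd and `n' − 2m' > t`; or `k ≥ 2ℓ` and `n'` even; or `k > 2ℓ` and `n'` odd. -/
theorem result {F : Type*} [Field F] [Fintype F] {p : ℕ} [Fact p.Prime] [CharP F p] {q : ℕ} (hq : Fintype.card F = q)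
    (d m : ℕ) (hd : 4 ≤ d) (hm : 1 ≤ m) (hmd : m < d)
    (r : ℕ) [Fact r.Prime]
    (hrΩ : r ∣ Nat.card {W : Submodule F (Fin d ⊕ Fin d → F) // Module.finrank F ↥W = m ∧ (∀ w ∈ W, Cfsg.quadFormPlus d F w = 0)})
    (i c : ℕ) (hi : i = orderOf (q : ZMod r)) (hc : c = if Even i then i else 2 * i) :
    (∀ x : GL (Fin d ⊕ Fin d) F, x ∈ Cfsg.Geo.omegaGL (Cfsg.quadFormPlus d F) →
      (∃ z : F, ((x ^ r : GL (Fin d ⊕ Fin d) F) : Matrix (Fin d ⊕ Fin d) (Fin d ⊕ Fin d) F) = z • (1 : Matrix (Fin d ⊕ Fin d) (Fin d ⊕ Fin d) F)) →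
      (∀ z : F, (x : Matrix (Fin d ⊕ Fin d) (Fin d ⊕ Fin d) F) ≠ z • (1 : Matrix (Fin d ⊕ Fin d) (Fin d ⊕ Fin d) F)) →
      ∃ W : Submodule F (Fin d ⊕ Fin d → F), Module.finrank F ↥W = m ∧ (∀ w ∈ W, Cfsg.quadFormPlus d F w = 0) ∧
        W.map (Matrix.toLin' (x : Matrix (Fin d ⊕ Fin d) (Fin d ⊕ Fin d) F)) ≤ W) ↔
    ((r = 2 ∧ p ≠ 2 ∧ (q % 4 = 1 ∨ (q % 4 = 3 ∧ m + 2 ≤ d ∧ (Even m ∨ (2 * d) % 4 = 2)))) ∨
     (r ≠ p ∧ 2 < r ∧ Odd i ∧ i ≤ m ∧ 2 * (m % i) ≤ (2 * d) % c) ∨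
     (r ≠ p ∧ 2 < r ∧ Even i ∧ i ≤ m ∧ (r - 1) / i + 2 * (m / i) ≤ (2 * d) / i ∧
       ((2 * (m % i) ≤ i ∧ (2 * d) % c = 0 ∧ Odd ((2 * d) / i) ∧ (r - 1) / i + 2 * (m / i) < (2 * d) / i) ∨
        (2 * (m % i) ≤ (2 * d) % c ∧ Even ((2 * d) / i)) ∨
        (2 * (m % i) < (2 * d) % c ∧ Odd ((2 * d) / i))))) := by
  have hcoe : ⇑(CfsgLib.StdForms.plusQ d F) = Cfsg.quadFormPlus d F := CfsgLib.StdForms.coe_plusQ d
  have hnd := CfsgLib.StdForms.plusQ_nondegenerate (F := F) d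
  have hPV := iff_true_intro (CfsgLib.OrthStandard.plus_top_plusQ (F := F) d)
  set Q := CfsgLib.StdForms.plusQ d F with hQdef
  have hQ := CfsgLib.QuadType.sep_top hnd
  have hn : Fintype.card (Fin d ⊕ Fin d) = 2 * d := by simp; omega
  have hV : Module.finrank F (Fin d ⊕ Fin d → F) = 2 * d := by
    rw [Module.finrank_fintype_fun_eq_card, hn]
  rw [← hcoe] at hrΩ ⊢
  have hrp : r ≠ p := CfsgLib.OrthSingular.ne_char_of_dvd hQ (m := m) (by omega) (by exact hrΩ)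
  refine Iff.trans (forall₄_congr fun x _ _ _ => exists_congr fun W => and_assoc.symm) ?_
  by_cases hr2 : r = 2
  · subst hr2
    have hp2 : p ≠ 2 := Ne.symm hrp
    have h2 : (2 : F) ≠ 0 := Ring.two_ne_zero (by rw [ringChar.eq F p]; exact hp2)
    refine (CfsgLib.OrthSingularTwo.psl_two h2 hnd hn hd (m := m) (by omega) hPV).trans ?_
    rw [FiniteField.isSquare_two_iff, FiniteField.isSquare_neg_one_iff, hq]
    simp only [lt_irrefl, false_and, and_false, or_false, true_and, true_iff, false_iff, forall_const, false_implies,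
      hp2, ne_eq, not_false_eq_true, true_implies]
    have : q % 2 = 1 := by
      rcases (Fact.out : p.Prime).eq_two_or_odd' with h0 | h0
      · exact absurd h0 hp2
      · obtain ⟨n, -, hn'⟩ := FiniteField.card F p
        rw [← hq, hn', ← Nat.odd_iff]
        exact h0.pow
    simp only [Nat.even_iff]
    omega
  have hr := (Fact.out : r.Prime)
  have hr3 : 2 < r := lt_of_le_of_ne hr.two_le (Ne.symm hr2)
  have hrF : (r : F) ≠ 0 := fun e0 => by
    rw [CharP.cast_eq_zero_iff F p] at e0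
    exact hrp ((Nat.prime_dvd_prime_iff_eq Fact.out hr).mp e0).symm
  have hq0 : (Fintype.card F : ZMod r) ≠ 0 := CfsgLib.LinearElements.cast_card_ne_zero hrp
  subst hq
  subst hi
  obtain ⟨⟨g₀, hg₀, hg₀r, hg₀1⟩, j₀, hj₀n, hj₀, hno⟩ :=
    CfsgLib.OrthSingular.exists_pfix_singular hQ hr2 hrF hq0 hc (m := m) (by omega) hrΩ
  refine (CfsgLib.OrthFix.psl_iff hnd (by omega) hr2
    (fun W => Module.finrank F ↥W = m ∧ ∀ w ∈ W, Q w = 0)).trans ?_
  rw [CfsgLib.OrthSingularFix.all_fix_iff hQ hr2 hrF hq0 hc hg₀ hg₀r hg₀1]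
  rw [hV] at hj₀n hj₀ hno ⊢
  rw [hPV] at hj₀ hno ⊢
  set i := orderOf (Fintype.card F : ZMod r) with hi
  simp only [hr2, hr3, hrp, false_and, false_or, ne_eq, not_false_eq_true, true_and]
  have hi0 : 0 < i := orderOf_pos_iff.mpr (isOfFinOrder_iff_pow_eq_one.mpr
    ⟨r - 1, by omega, ZMod.pow_card_sub_one_eq_one hq0⟩)
  have ht : 1 ≤ (r - 1) / i := (Nat.one_le_div_iff hi0).mpr
    (Nat.le_of_dvd (by omega) (orderOf_dvd_of_pow_eq_one (ZMod.pow_card_sub_one_eq_one hq0)))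
  rcases Nat.even_or_odd i with he | ho
  · have hci : i = c := by rw [hc, if_pos he]
    subst hci
    rw [CfsgLib.OrthSingularFix.goodS_even_iff he hi0 ht (by omega) hj₀n hj₀ hno]
    simp only [he, Nat.not_odd_iff_even.mpr he, false_and, false_or, true_and, true_iff, false_iff,
      Nat.not_even_iff_odd, not_not]
    constructor
    · rintro ⟨h1, h2, ⟨hk, hJ, hl, hlt⟩ | hl | ⟨hl, hJ⟩⟩
      · exact ⟨h1, h2, Or.inl ⟨hl, hk, hJ, hlt⟩⟩
      · rcases Nat.even_or_odd (2 * d / i) with hJ | hJ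
        · exact ⟨h1, h2, Or.inr (Or.inl ⟨hl.le, hJ⟩)⟩
        · exact ⟨h1, h2, Or.inr (Or.inr ⟨hl, hJ⟩)⟩
      · exact ⟨h1, h2, Or.inr (Or.inl ⟨hl.le, hJ⟩)⟩
    · rintro ⟨h1, h2, ⟨hl, hk, hJ, hlt⟩ | ⟨hl, hJ⟩ | ⟨hl, hJ⟩⟩
      · exact ⟨h1, h2, Or.inl ⟨hk, hJ, hl, hlt⟩⟩
      · exact ⟨h1, h2, Or.inr (hl.lt_or_eq.imp id fun e => ⟨e, hJ⟩)⟩
      · exact ⟨h1, h2, Or.inr (Or.inl hl)⟩
  · have hci : 2 * i = c := by rw [hc, if_neg (Nat.not_even_iff_odd.mpr ho)]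
    subst hci
    rw [CfsgLib.OrthSingularFix.goodS_odd_iff ho (by omega) hj₀n hj₀ hno]
    simp only [ho, Nat.not_even_iff_odd.mpr ho, true_and, and_true, false_and, or_false, and_false, not_true_eq_false,
      not_false_eq_true]
    omega

end Cfsg.Agent.S5973
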