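import Cfsg.Statements.S5974
import Cfsg.Agent.LinearElements.OrthInvolutionCounters

set_option autoImplicit false
open scoped MatrixGroups
open Cfsg

namespace Cfsg.Agent.S5974

/-- Elements of prime order of PΩ⁺_n(q), n = 2d ≥ 8, with no fixed nondegenerate hyperbolic `m`-space. Here `T = PΩ⁺_n(q)` is realised through `Ω⁺_n(q)`, the commutator subgroup of the isometry group of `Q = Σ xᵢyᵢ` over the field `F` with `q` elements; an element of `T` of prime order `r` is an element `x` of `Ω⁺_n(q)` with `x^r` scalar and `x` not scalar. A hyperbolic `m`-space is a subspace `W` of even dimension `m` on which the polar form of `Q` is nondegenerate and which contains a totally singular subspace of dimension `m/2`. Let `m` be even with `2 ≤ m < n/2`, and let `r` be a prime dividing the number of hyperbolic `m`-spaces, with `r = 2` or `r ≠ p`. For `r ≠ p` let `i` be the multiplicative order of `q` modulo `r`, `c = i` for `i` even and `c =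 2i` for `i` odd, and write `k = n mod c`, `ℓ' = m mod c`. Then every element of `T` of order `r` fixes some hyperbolic `m`-space if and only if one of: (i) `r = 2` and (`n ≡ 2 (mod 4)`, or `m ≡ 0 (mod 4)`, or `q ≡ 1 (mod 4)`); (ii) `r ≠ p` odd, `i` odd, `c ≤ m` and `k ≥ ℓ'`; (iii) `r ≠ p` odd, `i` even, and either `k = 0` and (`n/i` odd, or `ℓ' = 0` and `m/i` even), or `i ≤ m` and (`k > ℓ' > 0`, or `k = ℓ' > 0` and `(n + m − 2k)/i` even, or `k > ℓ' = 0` and `m/i` even). -/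
theorem result {F : Type*} [Field F] [Fintype F] {p : ℕ} [Fact p.Prime] [CharP F p] {q : ℕ} (hq : Fintype.card F = q)
    (d m : ℕ) (hd : 4 ≤ d) (hm : 2 ≤ m) (hme : Even m) (hmd : m < d)
    (r : ℕ) [Fact r.Prime] (hr : r = 2 ∨ r ≠ p)
    (hrΩ : r ∣ Nat.card {W : Submodule F (Fin d ⊕ Fin d → F) // (Module.finrank F ↥W = m ∧ (∀ u ∈ W, u ≠ 0 → ∃ v ∈ W, QuadraticMap.polar (Cfsg.quadFormPlus d F) u v ≠ 0) ∧
          ∃ U : Submodule F (Fin d ⊕ Fin d → F), U ≤ W ∧ 2 * Module.finrank F ↥U = m ∧ ∀ u ∈ U, Cfsg.quadFormPlus d F u = 0)})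
    (i c : ℕ) (hi : i = orderOf (q : ZMod r)) (hc : c = if Even i then i else 2 * i) :
    (∀ x : GL (Fin d ⊕ Fin d) F, x ∈ Cfsg.Geo.omegaGL (Cfsg.quadFormPlus d F) →
      (∃ z : F, ((x ^ r : GL (Fin d ⊕ Fin d) F) : Matrix (Fin d ⊕ Fin d) (Fin d ⊕ Fin d) F) = z • (1 : Matrix (Fin d ⊕ Fin d) (Fin d ⊕ Fin d) F)) →
      (∀ z : F, (x : Matrix (Fin d ⊕ Fin d) (Fin d ⊕ Fin d) F) ≠ z • (1 : Matrix (Fin d ⊕ Fin d) (Fin d ⊕ Fin d) F)) →
      ∃ W : Submodule F (Fin d ⊕ Fin d → F), (Module.finrank F ↥W = m ∧ (∀ u ∈ W, u ≠ 0 → ∃ v ∈ W, QuadraticMap.polar (Cfsg.quadFormPlus d F) u v ≠ 0) ∧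
          ∃ U : Submodule F (Fin d ⊕ Fin d → F), U ≤ W ∧ 2 * Module.finrank F ↥U = m ∧ ∀ u ∈ U, Cfsg.quadFormPlus d F u = 0) ∧
        W.map (Matrix.toLin' (x : Matrix (Fin d ⊕ Fin d) (Fin d ⊕ Fin d) F)) ≤ W) ↔
    ((r = 2 ∧ ((2 * d) % 4 = 2 ∨ m % 4 = 0 ∨ q % 4 = 1)) ∨
     (r ≠ p ∧ 2 < r ∧ Odd i ∧ c ≤ m ∧ m % c ≤ (2 * d) % c) ∨
     (r ≠ p ∧ 2 < r ∧ Even i ∧
       (((2 * d) % c = 0 ∧ (Odd ((2 * d) / i) ∨ (m % c = 0 ∧ Even (m / i)))) ∨
        (i ≤ m ∧ ((m % c < (2 * d) % c ∧ 0 < m % c) ∨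
                  ((2 * d) % c = m % c ∧ 0 < m % c ∧ Even ((2 * d + m - 2 * ((2 * d) % c)) / i)) ∨
                  (0 < (2 * d) % c ∧ m % c = 0 ∧ Even (m / i))))))) := by
  obtain ⟨h, rfl⟩ := hme
  rw [← two_mul] at hm hmd hrΩ ⊢
  have hcoe : ⇑(CfsgLib.StdForms.plusQ d F) = Cfsg.quadFormPlus d F := CfsgLib.StdForms.coe_plusQ d
  have hQ := CfsgLib.StdForms.plusQ_nondegenerate (F := F) d
  have hPV := iff_true_intro (CfsgLib.OrthStandard.plus_top_plusQ (F := F) d)
  set Q := CfsgLib.StdForms.plusQ d F with hQdef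
  have hn : Fintype.card (Fin d ⊕ Fin d) = 2 * d := by simp; omega
  rw [← hcoe] at hrΩ ⊢
  have hPr : ∀ W : Submodule F _, (Module.finrank F ↥W = 2 * h ∧
      (∀ u ∈ W, u ≠ 0 → ∃ v ∈ W, QuadraticMap.polar (⇑Q) u v ≠ 0) ∧
      ∃ U : Submodule F (Fin d ⊕ Fin d → F), U ≤ W ∧ 2 * Module.finrank F ↥U = 2 * h ∧ ∀ u ∈ U, Q u = 0) ↔
      (Module.finrank F ↥W = 2 * h ∧ CfsgLib.QuadType.Sep Q W ∧ (CfsgLib.QuadType.Plus Q W ↔ True)) := fun W => by
    constructor
    · rintro ⟨h1, h2, U, hU, hUd, hU0⟩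
      exact ⟨h1, h2, iff_true_intro ⟨U, hU, hU0, hUd.trans h1.symm⟩⟩
    · rintro ⟨h1, h2, h3⟩
      obtain ⟨U, hU, hU0, hUd⟩ := h3.mpr trivial
      exact ⟨h1, h2, U, hU, hUd.trans h1, hU0⟩
  by_cases hr2 : r = 2
  · subst hr2
    by_cases hp2 : p = 2
    · subst hp2
      have hq4 : q % 4 ≠ 1 := by
        obtain ⟨n, -, hn'⟩ := FiniteField.card F 2
        rw [← hq, hn', ← Nat.succ_pred_eq_of_pos n.pos, pow_succ]
        omega
      simp only [lt_irrefl, false_and, and_false, or_false, true_and, hq4]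
      constructor
      · intro hfix
        by_contra hcon
        obtain ⟨x, hx, hz, hns, hfour⟩ := CfsgLib.OrthInvolutionCounters.exists_plus_four (F := F) (d := d)
          (by omega) (by rw [Nat.even_iff]; omega)
        obtain ⟨W, hW, hle⟩ := hfix x hx hz hns
        obtain ⟨hWd, hWs, -⟩ := (hPr W).mp hW
        obtain ⟨s, hs⟩ := hfour W hWs hle
        omega
      · intro hR x hx hz _
        obtain ⟨W, hW, hle⟩ := CfsgLib.OrthInvolutions.two_two_fix hQ hn hd (h := h) (by omega) (by omega)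
          (T := True) hPV (fun s hs _ => by
            rcases le_total s (h / 2) with h1 | h1
            · exact ⟨s, le_rfl, by omega, by omega, fun _ => trivial, fun _ => Iff.rfl⟩
            · refine ⟨h / 2, h1, by omega, ?_, fun _ => trivial, fun _ => Iff.rfl⟩
              omega) hx hz
        exact ⟨W, (hPr W).mpr hW, hle⟩
    · have hF2 : (2 : F) ≠ 0 := Ring.two_ne_zero (by rw [ringChar.eq F p]; exact hp2)
      rw [CfsgLib.OrthStandard.two_even_iff hQ hn hd hPV hF2 (by omega) (by omega) hPr,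
        FiniteField.isSquare_two_iff, FiniteField.isSquare_neg_one_iff, hq]
      simp only [lt_irrefl, false_and, and_false, or_false, true_and, true_iff]
      have : q % 2 = 1 := by
        rcases (Fact.out : p.Prime).eq_two_or_odd' with h0 | h0
        · exact absurd h0 hp2
        · obtain ⟨n, -, hn'⟩ := FiniteField.card F p
          rw [← hq, hn', ← Nat.odd_iff]
          exact h0.pow
      simp only [Nat.even_iff]
      omega
  have hrp : r ≠ p := hr.resolve_left hr2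
  have hr' : 2 < r := lt_of_le_of_ne (Fact.out : r.Prime).two_le (Ne.symm hr2)
  rw [CfsgLib.OrthStandard.even_iff hQ hn hd hPV hq hr2 hrp (by omega) (by omega) hPr hrΩ hi hc]
  simp only [CfsgLib.OrthAtoms.sgn, true_iff, iff_true, hr2, hr', hrp, false_and, false_or, ne_eq, not_false_eq_true,
    true_and]
  rcases Nat.even_or_odd i with he | ho
  · have hci : c = i := by rw [hc, if_pos he]
    subst hci
    simp only [he, Nat.not_odd_iff_even.mpr he, false_and, false_or, true_and]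
    have key : (2 * h) % c = (2 * d) % c →
        ((2 * d + 2 * h - 2 * ((2 * d) % c)) / c = 2 * d / c + 2 * h / c) := fun e => by
      have h1 := Nat.div_add_mod (2 * d) c
      have h2 := Nat.div_add_mod (2 * h) c
      rcases Nat.eq_zero_or_pos c with hc0 | hc0
      · simp [hc0]
      · rw [show 2 * d + 2 * h - 2 * ((2 * d) % c) = c * (2 * d / c + 2 * h / c) by rw [mul_add]; omega,
          Nat.mul_div_cancel_left _ hc0]
    constructor
    · rintro (⟨hk, hR⟩ | ⟨hk, hch, ⟨h1, h2⟩ | ⟨h1, h2⟩⟩)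
      · refine Or.inl ⟨hk, ?_⟩
        rcases Nat.even_or_odd (2 * d / c) with hJ | hJ
        · exact Or.inr (hR hJ)
        · exact Or.inl hJ
      · refine Or.inr ⟨hch, ?_⟩
        rcases Nat.eq_zero_or_pos ((2 * h) % c) with h0 | h0
        · exact Or.inr (Or.inr ⟨hk, h0, h2 h0⟩)
        · exact Or.inl ⟨h1, h0⟩
      · refine Or.inr ⟨hch, Or.inr (Or.inl ⟨h1.symm, by omega, ?_⟩)⟩
        rw [key h1, Nat.even_add]
        exact h2
    · rintro (⟨hk, hJ | ⟨h1, h2⟩⟩ | ⟨hch, ⟨h1, h0⟩ | ⟨h1, h0, h2⟩ | ⟨hk, h1, h2⟩⟩)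
      · exact Or.inl ⟨hk, fun hJ' => absurd hJ' (Nat.not_even_iff_odd.mpr hJ)⟩
      · exact Or.inl ⟨hk, fun _ => ⟨h1, h2⟩⟩
      · exact Or.inr ⟨by omega, hch, Or.inl ⟨h1, fun e => absurd e h0.ne'⟩⟩
      · refine Or.inr ⟨by omega, hch, Or.inr ⟨h1.symm, ?_⟩⟩
        rw [key h1.symm, Nat.even_add] at h2
        exact h2
      · exact Or.inr ⟨hk, hch, Or.inl ⟨h1.symm ▸ hk, fun _ => h2⟩⟩
  · simp only [ho, Nat.not_even_iff_odd.mpr ho, true_or, true_and, and_true, false_and, or_false, forall_const]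
    have hc0 : 0 < c := by
      rw [hc, if_neg (Nat.not_even_iff_odd.mpr ho)]
      obtain ⟨t, ht⟩ := ho
      omega
    constructor
    · rintro (⟨hk, h1⟩ | ⟨hk, hch, h1⟩)
      · refine ⟨?_, by omega⟩
        by_contra hcon
        rw [Nat.mod_eq_of_lt (by omega : 2 * h < c)] at h1
        omega
      · exact ⟨hch, by rcases h1 with h1 | h1 <;> omega⟩
    · rintro ⟨hch, h1⟩
      rcases Nat.eq_zero_or_pos ((2 * d) % c) with hk | hk
      · exact Or.inl ⟨hk, by omega⟩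
      · refine Or.inr ⟨hk, hch, ?_⟩
        rcases h1.lt_or_eq with h3 | h3
        · exact Or.inl ⟨h3, fun _ => trivial⟩
        · exact Or.inr h3

end Cfsg.Agent.S5974
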