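import Cfsg.Statements.S5979
import Cfsg.Agent.LinearElements.RClassify
import Cfsg.Agent.LinearElements.TwistedModels
import Cfsg.Agent.Aschbacher.Tensor
import Cfsg.Agent.Linear.Basic

set_option autoImplicit false
open scoped MatrixGroups
open Cfsg

open Matrix CfsgLib.LinearElements CfsgLib.Aschbacher
open scoped Kronecker

namespace Cfsg.Agent.S5979

variable {F : Type*} [Field F] {n a b : ℕ}

theorem rank_tensorEquiv (e : Fin n ≃ Fin a × Fin b) (P : GL (Fin n) F)
    (X : Matrix (Fin a × Fin b) (Fin a × Fin b) F) : (tensorEquiv e P X).rank = X.rank := by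
  rw [tensorEquiv_apply, Matrix.rank_mul_eq_left_of_isUnit_det, Matrix.rank_mul_eq_right_of_isUnit_det,
    Matrix.rank_submatrix]
  · exact (Matrix.isUnit_iff_isUnit_det _).mp P.isUnit
  · exact (Matrix.isUnit_iff_isUnit_det _).mp (P⁻¹).isUnit

theorem rank_conj_sub (g x : GL (Fin n) F) (c : F) :
    (((g⁻¹ * x * g : GL (Fin n) F) : Matrix (Fin n) (Fin n) F) - c • 1).rank =
      ((x : Matrix (Fin n) (Fin n) F) - c • 1).rank := by
  have e : ((g⁻¹ * x * g : GL (Fin n) F) : Matrix (Fin n) (Fin n) F) - c • 1 =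
      ((g⁻¹ : GL (Fin n) F) : Matrix (Fin n) (Fin n) F) * ((x : Matrix (Fin n) (Fin n) F) - c • 1) *
        (g : Matrix (Fin n) (Fin n) F) := by
    rw [Matrix.mul_sub, Matrix.sub_mul, Matrix.mul_smul, Matrix.mul_one, Matrix.smul_mul, ← Units.val_mul,
      ← Units.val_mul, ← Units.val_mul, inv_mul_cancel, Units.val_one]
  rw [e, Matrix.rank_mul_eq_left_of_isUnit_det, Matrix.rank_mul_eq_right_of_isUnit_det]
  · exact (Matrix.isUnit_iff_isUnit_det _).mp (g⁻¹).isUnit
  · exact (Matrix.isUnit_iff_isUnit_det _).mp g.isUnit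

/-- What a conjugate in the stabiliser says about the ranks. -/
theorem exists_of_conj {e : Fin n ≃ Fin a × Fin b} {P g x : GL (Fin n) F}
    (h : g⁻¹ * x * g ∈ Cfsg.Geo.tensorProductSubgroup a b e P) :
    ∃ (A : GL (Fin a) F) (B : GL (Fin b) F),
      (∀ c : F, ((x : Matrix (Fin n) (Fin n) F) - c • 1).rank =
        ((A : Matrix (Fin a) (Fin a) F) ⊗ₖ (B : Matrix (Fin b) (Fin b) F) - c • 1).rank) ∧
      ∀ (r : ℕ) (z : F), (x : Matrix (Fin n) (Fin n) F) ^ r = z • 1 →
        ((A : Matrix (Fin a) (Fin a) F) ⊗ₖ (B : Matrix (Fin b) (Fin b) F)) ^ r = z • 1 := by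
  obtain ⟨A, B, hAB⟩ := exists_of_mem_tensorProductSubgroup h
  refine ⟨A, B, fun c => ?_, fun r z hz => ?_⟩
  · rw [← rank_conj_sub g x c, ← rank_tensorEquiv e P ((A : Matrix (Fin a) (Fin a) F) ⊗ₖ (B : Matrix (Fin b) (Fin b) F) - c • 1), map_sub,
      map_smul, map_one]
    congr 2
  · refine (tensorEquiv e P).injective ?_
    rw [map_pow, map_smul, map_one, ← show mat (g⁻¹ * x * g) = _ from hAB]
    show ((g⁻¹ * x * g : GL (Fin n) F) : Matrix (Fin n) (Fin n) F) ^ r = _
    rw [← Units.val_pow_eq_pow_val, show (g⁻¹ * x * g) ^ r = g⁻¹ * x ^ r * g by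
      rw [show g⁻¹ * x * g = MulAut.conj g⁻¹ x by simp, ← map_pow]; simp, Units.val_mul, Units.val_mul,
      Units.val_pow_eq_pow_val, hz, Matrix.mul_smul, Matrix.mul_one, Matrix.smul_mul, ← Units.val_mul, inv_mul_cancel,
      Units.val_one]

/-- A non-scalar first factor moves at least `b` dimensions. -/
theorem le_rank_kronecker {A : Matrix (Fin a) (Fin a) F} (hA : ∀ t : F, A ≠ t • 1) (B : GL (Fin b) F) {c : F}
    (hc : c ≠ 0) : b ≤ (A ⊗ₖ (B : Matrix (Fin b) (Fin b) F) - c • 1).rank := by
  classical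
  obtain ⟨u, hu⟩ : ∃ u : Fin a → F, ∀ t : F, A *ᵥ u ≠ t • u := by
    by_contra hall
    push Not at hall
    obtain ⟨t, ht⟩ := LinearMap.exists_eq_smul_id_of_forall_notLinearIndependent (f := Matrix.toLin' A)
      (fun v => by
        obtain ⟨s, hs⟩ := hall v
        rw [LinearIndependent.pair_iff]
        push Not
        exact ⟨s, -1, by rw [Matrix.toLin'_apply, hs, neg_smul, one_smul, add_neg_cancel], fun _ => by simp⟩)
    exact hA t (Matrix.toLin'.injective (by
      rw [ht, map_smul, Matrix.toLin'_one]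
      rfl))
  let ψ : (Fin b → F) →ₗ[F] (Fin a × Fin b → F) :=
    { toFun := fun φ => fun p => u p.1 * φ p.2
      map_add' := fun φ φ' => funext fun p => mul_add _ _ _
      map_smul' := fun s φ => funext fun p => by simp [mul_left_comm] }
  set M := A ⊗ₖ (B : Matrix (Fin b) (Fin b) F) - c • 1
  have hinj : Function.Injective (M.mulVecLin ∘ₗ ψ) := by
    rw [← LinearMap.ker_eq_bot, Submodule.eq_bot_iff]
    intro φ hφ
    by_contra hne
    rw [LinearMap.mem_ker, LinearMap.comp_apply, Matrix.mulVecLin_apply] at hφ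
    have hB : (B : Matrix (Fin b) (Fin b) F) *ᵥ φ ≠ 0 := fun e => hne (by
      have := congrArg (((B⁻¹ : GL (Fin b) F) : Matrix (Fin b) (Fin b) F) *ᵥ ·) e
      simpa [Matrix.mulVec_mulVec] using this)
    obtain ⟨j, hj⟩ := Function.ne_iff.mp hB
    refine hu (c * φ j / ((B : Matrix (Fin b) (Fin b) F) *ᵥ φ) j) (funext fun i => ?_)
    have hk : ((A ⊗ₖ (B : Matrix (Fin b) (Fin b) F)) *ᵥ ψ φ) (i, j) =
        (A *ᵥ u) i * ((B : Matrix (Fin b) (Fin b) F) *ᵥ φ) j := by
      simp only [ψ, LinearMap.coe_mk, AddHom.coe_mk, Matrix.mulVec, dotProduct, Matrix.kroneckerMap_apply,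
        Fintype.sum_prod_type, mul_mul_mul_comm, ← Finset.mul_sum, ← Finset.sum_mul]
    have h1 := congrFun hφ (i, j)
    rw [Matrix.sub_mulVec, Matrix.smul_mulVec, Matrix.one_mulVec, Pi.sub_apply, hk, Pi.smul_apply, Pi.zero_apply,
      smul_eq_mul, show ψ φ (i, j) = u i * φ j from rfl] at h1
    simp only [Pi.smul_apply, smul_eq_mul, Pi.zero_apply] at hj ⊢
    field_simp
    linear_combination h1
  calc b = Module.finrank F (Fin b → F) := (Module.finrank_fin_fun F).symm
    _ = Module.finrank F (LinearMap.range (M.mulVecLin ∘ₗ ψ)) := (LinearMap.finrank_range_of_inj hinj).symm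
    _ ≤ Module.finrank F (LinearMap.range M.mulVecLin) :=
        Submodule.finrank_mono (LinearMap.range_comp_le_range _ _)
    _ = M.rank := rfl

theorem rank_one_kronecker (a : ℕ) (B : Matrix (Fin b) (Fin b) F) :
    ((1 : Matrix (Fin a) (Fin a) F) ⊗ₖ B).rank = a * B.rank := by
  set M : Matrix (Fin a × Fin b) (Fin a × Fin b) F := (1 : Matrix (Fin a) (Fin a) F) ⊗ₖ B
  have happ : ∀ (v : Fin a × Fin b → F) i j, (M *ᵥ v) (i, j) = (B *ᵥ fun l => v (i, l)) j := fun v i j => by
    simp [M, Matrix.mulVec, dotProduct, Fintype.sum_prod_type, Matrix.one_apply]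
  let E : LinearMap.range M.mulVecLin ≃ₗ[F] (Fin a → LinearMap.range B.mulVecLin) :=
    { toFun := fun v i => ⟨fun j => (v : Fin a × Fin b → F) (i, j), by
        obtain ⟨w, hw⟩ := v.2
        exact ⟨fun l => w (i, l), funext fun j => by rw [← hw]; exact (happ w i j).symm⟩⟩
      invFun := fun f => ⟨fun p => (f p.1 : Fin b → F) p.2, by
        choose w hw using fun i => (f i).2
        exact ⟨fun p => w p.1 p.2, funext fun p => by
          rw [Matrix.mulVecLin_apply]
          exact (happ (fun p => w p.1 p.2) p.1 p.2).trans (congrFun (hw p.1) p.2)⟩⟩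
      map_add' := fun v w => rfl
      map_smul' := fun s v => rfl
      left_inv := fun v => rfl
      right_inv := fun f => rfl }
  show Module.finrank F (LinearMap.range M.mulVecLin) = a * Module.finrank F (LinearMap.range B.mulVecLin)
  rw [E.finrank_eq, Module.finrank_pi_fintype, Finset.sum_const, Finset.card_univ, Fintype.card_fin, smul_eq_mul]

theorem scalar_kronecker_sub {A : Matrix (Fin a) (Fin a) F} {t : F} (hA : A = t • 1) (B : Matrix (Fin b) (Fin b) F)
    (c : F) : A ⊗ₖ B - c • 1 = (1 : Matrix (Fin a) (Fin a) F) ⊗ₖ (t • B - c • 1) := by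
  subst hA
  ext ⟨i, j⟩ ⟨i', j'⟩
  by_cases hi : i = i' <;> by_cases hj : j = j' <;>
    simp [hi, hj, Matrix.kroneckerMap_apply, Matrix.one_apply]

/-- Either many dimensions are moved, or all ranks are multiples of `a`. -/
theorem rank_dichotomy {e : Fin n ≃ Fin a × Fin b} {P g x : GL (Fin n) F}
    (h : g⁻¹ * x * g ∈ Cfsg.Geo.tensorProductSubgroup a b e P) :
    (∀ c : F, c ≠ 0 → b ≤ ((x : Matrix (Fin n) (Fin n) F) - c • 1).rank) ∨
    (∀ c : F, a ∣ ((x : Matrix (Fin n) (Fin n) F) - c • 1).rank) := by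
  obtain ⟨A, B, hrk, -⟩ := exists_of_conj h
  by_cases hA : ∃ t : F, (A : Matrix (Fin a) (Fin a) F) = t • 1
  · obtain ⟨t, ht⟩ := hA
    exact Or.inr fun c => ⟨_, by rw [hrk, scalar_kronecker_sub ht, rank_one_kronecker]⟩
  · push Not at hA
    exact Or.inl fun c hc => (le_rank_kronecker hA B hc).trans_eq (hrk c).symm

theorem pow_scalar_of_kronecker (hb : 0 < b) {A : Matrix (Fin a) (Fin a) F} (B : GL (Fin b) F) {r : ℕ} {z : F}
    (h : (A ⊗ₖ (B : Matrix (Fin b) (Fin b) F)) ^ r = z • 1) : ∃ w : F, A ^ r = w • 1 := by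
  classical
  have hk : ∀ k : ℕ, (A ⊗ₖ (B : Matrix (Fin b) (Fin b) F)) ^ k = (A ^ k) ⊗ₖ ((B : Matrix (Fin b) (Fin b) F) ^ k) := by
    intro k
    induction k with
    | zero => simp
    | succ k ih => rw [pow_succ, ih, pow_succ, pow_succ, Matrix.mul_kronecker_mul]
  rw [hk, ← Units.val_pow_eq_pow_val] at h
  haveI : Nonempty (Fin b) := ⟨⟨0, hb⟩⟩
  obtain ⟨j, j', hjj⟩ : ∃ j j', ((B ^ r : GL (Fin b) F) : Matrix (Fin b) (Fin b) F) j j' ≠ 0 := by
    by_contra hall
    push Not at hall
    exact (B ^ r).ne_zero (Matrix.ext hall)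
  set β := ((B ^ r : GL (Fin b) F) : Matrix (Fin b) (Fin b) F) j j'
  refine ⟨z * (1 : Matrix (Fin b) (Fin b) F) j j' / β, Matrix.ext fun i i' => ?_⟩
  have h1 := congrFun (congrFun h (i, j)) (i', j')
  simp only [Matrix.kroneckerMap_apply, Matrix.smul_apply, Matrix.one_apply, Prod.mk.injEq, smul_eq_mul] at h1 ⊢
  rw [div_mul_eq_mul_div, eq_div_iff hjj, h1]
  split_ifs <;> simp_all

section

variable [Fintype F] {r : ℕ} [Fact r.Prime]

theorem exists_eigen_rank {M : Matrix (Fin b) (Fin b) F} (hM : M ^ r = 1) (hq : (Fintype.card F : ZMod r) ≠ 0) :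
    ∃ j, (M - 1).rank = j * orderOf (Fintype.card F : ZMod r) := by
  have hg : (Matrix.toLin' M : Module.End F (Fin b → F)) ^ r = 1 := by
    show Matrix.toLinAlgEquiv' M ^ r = 1
    rw [← map_pow, hM, map_one]
  obtain ⟨c, j, hc, hd⟩ := finrank_invBy_eq hg hq (invBy_top (g := Matrix.toLin' M))
  refine ⟨j, ?_⟩
  have hker : fixedIn (Matrix.toLin' M) (⊤ : Submodule F (Fin b → F)) = LinearMap.ker (M - 1).mulVecLin := by
    ext v
    rw [mem_fixedIn, LinearMap.mem_ker, Matrix.mulVecLin_apply, Matrix.sub_mulVec, Matrix.one_mulVec, sub_eq_zero]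
    simp
  have h1 := LinearMap.finrank_range_add_finrank_ker (M - 1).mulVecLin
  rw [finrank_top] at hd
  rw [← hker] at h1
  show Module.finrank F (LinearMap.range (M - 1).mulVecLin) = _
  omega

/-- The block of dimension `i` has no conjugate. -/
theorem no_conj_block (ha : 2 ≤ a) (hlt : a < b) (hi : 2 ≤ orderOf (Fintype.card F : ZMod r))
    {e : Fin n ≃ Fin a × Fin b} {P g x : GL (Fin n) F} (hxr : (x : Matrix (Fin n) (Fin n) F) ^ r = 1)
    (hrk : ((x : Matrix (Fin n) (Fin n) F) - 1).rank = orderOf (Fintype.card F : ZMod r)) :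
    g⁻¹ * x * g ∉ Cfsg.Geo.tensorProductSubgroup a b e P := by
  intro h
  have hq : (Fintype.card F : ZMod r) ≠ 0 := fun h0 => by rw [h0, orderOf_zero] at hi; omega
  set i := orderOf (Fintype.card F : ZMod r) with hidef
  obtain ⟨A, B, hr', hpow⟩ := exists_of_conj h
  have hAB := hpow r 1 (by rw [one_smul, hxr])
  obtain ⟨w, hw⟩ := pow_scalar_of_kronecker (by omega) B hAB
  have hscalar : ∃ t : F, (A : Matrix (Fin a) (Fin a) F) = t • 1 := by
    by_contra hA
    push Not at hA
    have hb := le_rank_kronecker hA B one_ne_zero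
    rw [← hr', one_smul, hrk] at hb
    obtain ⟨μ, hμ⟩ := exists_root_of_order_ne_one (r := r) (by omega) w
    haveI : Nonempty (Fin a) := ⟨⟨0, by omega⟩⟩
    have hμ0 : μ ≠ 0 := fun e0 => by
      rw [e0, zero_pow (Fact.out : r.Prime).ne_zero] at hμ
      rw [← hμ, zero_smul] at hw
      exact (A ^ r).ne_zero (by rw [Units.val_pow_eq_pow_val]; exact hw)
    obtain ⟨j, hj⟩ := exists_eigen_rank (r := r) (M := μ⁻¹ • (A : Matrix (Fin a) (Fin a) F)) (by
      rw [_root_.smul_pow, hw, smul_smul, inv_pow, hμ, inv_mul_cancel₀ (hμ ▸ pow_ne_zero _ hμ0), one_smul]) hq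
    rw [← hidef] at hj
    have hle := Matrix.rank_le_card_width (μ⁻¹ • (A : Matrix (Fin a) (Fin a) F) - 1)
    rw [hj, Fintype.card_fin] at hle
    rcases Nat.eq_zero_or_pos j with hj0 | hj0
    · rw [hj0, Nat.zero_mul] at hj
      have h0 : μ⁻¹ • (A : Matrix (Fin a) (Fin a) F) = 1 := by
        rw [← sub_eq_zero]
        have hbot : LinearMap.range (μ⁻¹ • (A : Matrix (Fin a) (Fin a) F) - 1).mulVecLin = ⊥ :=
          Submodule.finrank_eq_zero.mp hj
        refine Matrix.toLin'.injective ?_
        rw [map_zero]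
        exact LinearMap.range_eq_bot.mp hbot
      exact hA μ (by rw [← h0, smul_smul, mul_inv_cancel₀ hμ0, one_smul])
    · nlinarith
  obtain ⟨t, ht⟩ := hscalar
  have h1 := hr' 1
  rw [scalar_kronecker_sub ht, rank_one_kronecker] at h1
  simp only [one_smul] at h1
  have hB1 : (t • (B : Matrix (Fin b) (Fin b) F)) ^ r = 1 := by
    haveI : Nonempty (Fin a) := ⟨⟨0, by omega⟩⟩
    have e0 : (A : Matrix (Fin a) (Fin a) F) ⊗ₖ (B : Matrix (Fin b) (Fin b) F) =
        (1 : Matrix (Fin a) (Fin a) F) ⊗ₖ (t • (B : Matrix (Fin b) (Fin b) F)) := by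
      rw [ht, Matrix.smul_kronecker, Matrix.kronecker_smul]
    have hk : ∀ k : ℕ, ((1 : Matrix (Fin a) (Fin a) F) ⊗ₖ (t • (B : Matrix (Fin b) (Fin b) F))) ^ k =
        (1 : Matrix (Fin a) (Fin a) F) ⊗ₖ ((t • (B : Matrix (Fin b) (Fin b) F)) ^ k) := fun k => by
      induction k with
      | zero => simp
      | succ k ih => rw [pow_succ, ih, pow_succ, ← Matrix.mul_kronecker_mul, one_mul]
    rw [e0, hk, one_smul] at hAB
    ext i1 i2
    have := congrFun (congrFun hAB (⟨0, by omega⟩, i1)) (⟨0, by omega⟩, i2)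
    simpa [Matrix.kroneckerMap_apply, Matrix.one_apply, Prod.mk.injEq] using this
  obtain ⟨j, hj⟩ := exists_eigen_rank (r := r) hB1 hq
  rw [← hidef] at hj
  rw [hrk, hj] at h1
  rcases Nat.eq_zero_or_pos j with hj0 | hj0
  · rw [hj0, Nat.zero_mul, Nat.mul_zero] at h1; omega
  · nlinarith [Nat.mul_le_mul (Nat.mul_le_mul ha hj0) (le_refl i)]

end

theorem rank_diagonal_sub [DecidableEq F] (d : Fin n → F) (c : F) :
    (Matrix.diagonal d - c • 1).rank = (Finset.univ.filter fun i => d i ≠ c).card := by
  rw [Matrix.smul_one_eq_diagonal, Matrix.diagonal_sub, Matrix.rank_diagonal, Fintype.card_subtype]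
  congr 1
  ext i
  simp [sub_eq_zero]

/-- Transport of a Kronecker normal form into the stabiliser. -/
theorem fixes_of_model (e : Fin n ≃ Fin a × Fin b) (P x : GL (Fin n) F) {κ : Type} [Fintype κ] [DecidableEq κ]
    (f : Fin a × Fin b ≃ κ) (h : Matrix (Fin n) κ F) (h' : Matrix κ (Fin n) F) (hh' : h * h' = 1) (h'h : h' * h = 1)
    (D : Matrix κ κ F) (hx : (x : Matrix (Fin n) (Fin n) F) * h = h * D)
    (A : GL (Fin a) F) (B : GL (Fin b) F)
    (hD : D.submatrix f f = (A : Matrix (Fin a) (Fin a) F) ⊗ₖ (B : Matrix (Fin b) (Fin b) F))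
    (hC : ∀ δ : F, δ ≠ 0 → ∃ C : Matrix κ κ F, C * D = D * C ∧ C.det = δ) :
    ∃ g ∈ Cfsg.Geo.specialLinear (Fin n) F, g⁻¹ * x * g ∈ Cfsg.Geo.tensorProductSubgroup a b e P := by
  let E : Fin n ≃ κ := e.trans f
  set h1 : Matrix (Fin n) (Fin n) F := h.submatrix id E
  have hh1 : h1.det ≠ 0 := fun e0 => by
    have h2 : h1 * h'.submatrix E id = 1 := by rw [Matrix.submatrix_mul_equiv, hh', Matrix.submatrix_id_id]
    have := congrArg Matrix.det h2
    rw [Matrix.det_mul, e0, zero_mul, Matrix.det_one] at this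
    exact zero_ne_one this
  have hP0 : (P : Matrix (Fin n) (Fin n) F).det ≠ 0 := ((Matrix.isUnit_iff_isUnit_det _).mp P.isUnit).ne_zero
  obtain ⟨C, hCD, hCdet⟩ := hC ((P : Matrix (Fin n) (Fin n) F).det / h1.det) (div_ne_zero hP0 hh1)
  set g0 : Matrix (Fin n) (Fin n) F := h1 * C.submatrix E E * ((P⁻¹ : GL (Fin n) F) : Matrix (Fin n) (Fin n) F)
  have hg0 : g0.det = 1 := by
    have hPP : (P : Matrix (Fin n) (Fin n) F).det * ((P⁻¹ : GL (Fin n) F) : Matrix (Fin n) (Fin n) F).det = 1 := by
      rw [← Matrix.det_mul, ← Units.val_mul, mul_inv_cancel, Units.val_one, Matrix.det_one]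
    rw [Matrix.det_mul, Matrix.det_mul, Matrix.det_submatrix_equiv_self, hCdet, mul_div_cancel₀ _ hh1, hPP]
  let g : GL (Fin n) F := Matrix.GeneralLinearGroup.mkOfDetNeZero g0 (by rw [hg0]; exact one_ne_zero)
  refine ⟨g, MonoidHom.mem_ker.mpr (Units.ext hg0), mem_tensorProductSubgroup_of A.isUnit B.isUnit ?_⟩
  have hxg : (x : Matrix (Fin n) (Fin n) F) * g0 =
      g0 * tensorEquiv e P ((A : Matrix (Fin a) (Fin a) F) ⊗ₖ (B : Matrix (Fin b) (Fin b) F)) := by
    rw [tensorEquiv_apply, ← hD, show (D.submatrix f f).submatrix e e = D.submatrix E E from rfl]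
    simp only [g0, mat, Matrix.mul_assoc]
    rw [← Matrix.mul_assoc ((P⁻¹ : GL (Fin n) F) : Matrix (Fin n) (Fin n) F), ← Units.val_mul, inv_mul_cancel,
      Units.val_one, Matrix.one_mul, ← Matrix.mul_assoc (C.submatrix E E), Matrix.submatrix_mul_equiv, hCD,
      ← Matrix.submatrix_mul_equiv (e₂ := E), ← Matrix.mul_assoc _ h1, ← Matrix.mul_assoc h1,
      ← Matrix.mul_assoc h1, Matrix.submatrix_mul_equiv, ← hx,
      show ((x : Matrix (Fin n) (Fin n) F) * h).submatrix id E = (x : Matrix (Fin n) (Fin n) F) * h1 from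
        Matrix.ext fun i j => by simp [h1, Matrix.mul_apply]]
    simp only [Matrix.mul_assoc]
  show ((g⁻¹ * x * g : GL (Fin n) F) : Matrix (Fin n) (Fin n) F) = _
  rw [mul_assoc, Units.val_mul, Units.val_mul, show (g : Matrix (Fin n) (Fin n) F) = g0 from rfl, hxg,
    ← Matrix.mul_assoc, show ((g⁻¹ : GL (Fin n) F) : Matrix (Fin n) (Fin n) F) * g0 = 1 by
      rw [show g0 = (g : Matrix (Fin n) (Fin n) F) from rfl, ← Units.val_mul, inv_mul_cancel, Units.val_one],
    Matrix.one_mul]

/-- An involution fixes a decomposition with `a = 2`. -/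
theorem fixes_involution [Fintype F] (h2 : (2 : F) ≠ 0) (hab : n = 2 * b) (hb : 0 < b)
    (hv : padicValNat 2 (Fintype.card F - 1) ≤ padicValNat 2 n) (e : Fin n ≃ Fin 2 × Fin b) (P x : GL (Fin n) F)
    (hdet : (x : Matrix (Fin n) (Fin n) F).det = 1) {z : F} (hz0 : z ≠ 0)
    (hz : (x : Matrix (Fin n) (Fin n) F) ^ 2 = z • (1 : Matrix (Fin n) (Fin n) F)) :
    ∃ g ∈ Cfsg.Geo.specialLinear (Fin n) F, g⁻¹ * x * g ∈ Cfsg.Geo.tensorProductSubgroup 2 b e P := by
  classical
  haveI : Fact (Nat.Prime 2) := ⟨Nat.prime_two⟩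
  by_cases hsq : IsSquare z
  · obtain ⟨μ, hμ⟩ := hsq
    have hμ0 : μ ≠ 0 := fun e0 => hz0 (by rw [hμ, e0, mul_zero])
    have hne : -μ ≠ μ := fun e0 => by
      have : (2 : F) * μ = 0 := by linear_combination -e0
      exact hμ0 ((mul_eq_zero.mp this).resolve_left h2)
    have hζ : IsPrimitiveRoot (-1 : F) 2 := IsPrimitiveRoot.mk_of_lt _ two_pos (by norm_num) fun l h0 hl => by
      obtain rfl : l = 1 := by omega
      rw [pow_one]
      exact fun e0 => h2 (by linear_combination -e0)
    obtain ⟨h, h', l, e1, e2, e3, hl⟩ := CfsgLib.Twist.exists_eigen_frame (r := 2) two_pos (by exact_mod_cast h2) hζ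
      hμ0 (x := (x : Matrix (Fin n) (Fin n) F)) (by rw [hz, hμ, sq])
    have hl' : ∀ i, l i = -μ ∨ l i = μ := fun i => by
      obtain ⟨j, hj, hlj⟩ := hl i
      interval_cases j
      · exact Or.inr (by simpa using hlj)
      · exact Or.inl (by simpa using hlj)
    set s := (Finset.univ.filter fun i => l i = -μ).card
    have hsn : (Finset.univ.filter fun i => ¬ l i = -μ).card = n - s := by
      rw [Finset.filter_not, Finset.card_sdiff_of_subset (Finset.filter_subset _ _), Finset.card_univ, Fintype.card_fin]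
    have hsle : s ≤ n := (Finset.card_filter_le _ _).trans_eq (by rw [Finset.card_univ, Fintype.card_fin])
    have hd : (-1 : F) ^ s * μ ^ n = 1 := by
      have hd' : (x : Matrix (Fin n) (Fin n) F).det = ∏ i, l i := by
        rw [← Matrix.det_diagonal, ← Matrix.det_conj_of_mul_eq_one e1 e2 (N := Matrix.diagonal l), ← e3,
          Matrix.mul_assoc, e1, Matrix.mul_one]
      rw [hdet, ← Finset.prod_filter_mul_prod_filter_not _ (fun i => l i = -μ),
        Finset.prod_congr rfl (g := fun _ => -μ) (fun i hi => (Finset.mem_filter.mp hi).2),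
        Finset.prod_congr rfl (g := fun _ => μ) (fun i hi => (hl' i).resolve_left (Finset.mem_filter.mp hi).2),
        Finset.prod_const, Finset.prod_const, hsn] at hd'
      calc (-1 : F) ^ s * μ ^ n = (-μ) ^ s * μ ^ (n - s) := by
            rw [neg_pow μ, mul_assoc, ← pow_add, Nat.add_sub_cancel' hsle]
        _ = 1 := hd'.symm
    have hs : Even s := by
      rcases Nat.even_or_odd s with hs | hs
      · exact hs
      exfalso
      rw [hs.neg_one_pow] at hd
      have hn0 : n ≠ 0 := by omega
      set v := padicValNat 2 n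
      obtain ⟨m, hm⟩ : 2 ^ v ∣ n := pow_padicValNat_dvd
      have ho : orderOf (Units.mk0 μ hμ0 ^ m) = 2 ^ (v + 1) := by
        refine orderOf_eq_prime_pow (fun h0 => ?_) (Units.ext ?_)
        · have h1 := congrArg Units.val h0
          rw [← pow_mul, mul_comm, ← hm, Units.val_pow_eq_pow_val, Units.val_mk0, Units.val_one] at h1
          rw [h1] at hd
          exact h2 (by linear_combination -hd)
        · rw [← pow_mul, mul_comm, pow_succ, mul_assoc, mul_comm 2 m, ← mul_assoc, ← hm, Units.val_pow_eq_pow_val,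
            Units.val_mk0, Units.val_one, pow_mul]
          linear_combination (μ ^ n - 1) * (-1 : F) * hd + (0 : F)
      have h1 := orderOf_dvd_natCard (Units.mk0 μ hμ0 ^ m)
      rw [ho, Nat.card_units, Nat.card_eq_fintype_card] at h1
      have hN : Fintype.card F - 1 ≠ 0 := by have := Fintype.one_lt_card (α := F); omega
      have := (padicValNat_dvd_iff_le hN).mp h1
      omega
    obtain ⟨s', hs'⟩ := hs
    let d : Fin b → F := fun j => if (j : ℕ) < s' then -μ else μ
    let l' : Fin 2 × Fin b → F := fun p => d p.2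
    have hcards : ∀ c, Fintype.card {p // l' p = c} = Fintype.card {i // l i = c} := by
      have hneg : Fintype.card {p // l' p = -μ} = s := by
        rw [Fintype.card_congr (show {p // l' p = -μ} ≃ Fin 2 × {j : Fin b // (j : ℕ) < s'} from
          { toFun := fun p => (p.1.1, ⟨p.1.2, by
              by_contra hlt
              have := p.2
              simp only [l', d, if_neg hlt] at this
              exact hne this.symm⟩)
            invFun := fun p => ⟨(p.1, p.2.1), by simp [l', d, p.2.2]⟩
            left_inv := fun p => rfl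
            right_inv := fun p => rfl }), Fintype.card_prod, Fintype.card_fin, Fintype.card_subtype]
        rw [Fin.card_filter_val_lt]
        omega
      intro c
      rw [Fintype.card_subtype (p := fun i => l i = c)]
      by_cases hc : c = -μ
      · rw [hc, hneg]
      by_cases hc' : c = μ
      · rw [hc', show Fintype.card {p // l' p = μ} = n - Fintype.card {p // l' p = -μ} by
          rw [Fintype.card_congr (Equiv.subtypeEquivRight (q := fun p => ¬ l' p = -μ) fun p => ?_),
            Fintype.card_subtype_compl, Fintype.card_prod, Fintype.card_fin, Fintype.card_fin, hab]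
          simp only [l', d]
          split <;> simp [hne, hne.symm], hneg, ← hsn]
        congr 1
        ext i
        rcases hl' i with e0 | e0 <;> simp [e0, hne, hne.symm]
      · rw [Fintype.card_eq_zero_iff.mpr ⟨fun p => ?_⟩, eq_comm, Finset.card_eq_zero]
        · exact Finset.filter_eq_empty_iff.mpr fun i _ e0 => by rcases hl' i with h0 | h0 <;> simp_all
        · have hp := p.2
          simp only [l', d] at hp
          split at hp
          · exact hc hp.symm
          · exact hc' hp.symm
    let f : Fin 2 × Fin b ≃ Fin n := Equiv.ofFiberEquiv (f := l') (g := l) fun c => Fintype.equivOfCardEq (hcards c)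
    have hf : ∀ p, l (f p) = l' p := fun p => Equiv.ofFiberEquiv_map _ p
    have hd0 : ∀ j, d j ≠ 0 := fun j => by simp only [d]; split <;> simp [hμ0]
    refine fixes_of_model e P x f h h' e1 e2 (Matrix.diagonal l) e3 1
      (Matrix.GeneralLinearGroup.mkOfDetNeZero (Matrix.diagonal d)
        (by rw [Matrix.det_diagonal, Finset.prod_ne_zero_iff]; exact fun j _ => hd0 j)) ?_
      (fun δ _ => CfsgLib.Twist.exists_centralizer_diag ⟨0, by omega⟩ l)
    show (Matrix.diagonal l).submatrix f f = (1 : Matrix (Fin 2) (Fin 2) F) ⊗ₖ Matrix.diagonal d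
    rw [Matrix.submatrix_diagonal_equiv, ← Matrix.diagonal_one, Matrix.diagonal_kronecker_diagonal]
    congr 1
    funext p
    rw [Function.comp_apply, hf, one_mul]
  · obtain ⟨b', h, h', hb', e1, e2, e3⟩ := CfsgLib.Twist.exists_pair_frame hz0 hsq hz
    obtain rfl : b' = b := by omega
    let A : GL (Fin 2) F := Matrix.GeneralLinearGroup.mkOfDetNeZero !![0, z; 1, 0] (by simp [Matrix.det_fin_two, hz0])
    refine fixes_of_model e P x (Equiv.refl _) h h' e1 e2 _ e3 A 1 ?_
      (fun δ _ => CfsgLib.Twist.exists_centralizer_pair h2 hb hz0 δ)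
    ext ⟨i, k⟩ ⟨j, k'⟩
    by_cases hk : k = k' <;> simp [hk, A, Matrix.blockDiagonal_apply, Matrix.one_apply]

/-- Elements of prime order of PSL_n(q) and the stabilizers of tensor decompositions with factors of different dimensions. Here `T = PSL_n(F)` for a field `F` with `q` elements and `n = a·b` with `2 ≤ a < b`; a tensor decomposition `F^n ≅ F^a ⊗ F^b` is given by a bijection `e` of index sets and a change of basis `P`, and `H` is the subgroup of matrices of determinant 1 in its stabilizer (the conjugate by `P` of the group of Kronecker products `g₁ ⊗ g₂`) — a subgroup of type GL_a(q) ⊗ GL_b(q) (maximality is not assumed); Ω is the set of cosets of `H` in `T`, so an element of `T` of prime order `r` (a matrix `x` of determinant 1 with `x^r` scalar, `x` not scalar) fixes a point of Ω exactly when some conjugate of `x` by a matrix of determinant 1 lies in `H`. Let `r` be a prime dividing the index of `H`. Then every element of `T` of order `r` fixes a point of Ω if and only if `r = 2`, `a = 2`,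 `q` is odd and `(q − 1)_2 ≤ (n)_2` (2-parts). -/
theorem result {F : Type*} [Field F] [Fintype F] {p : ℕ} [Fact p.Prime] [CharP F p] {q : ℕ} (hq : Fintype.card F = q)
    (n a b : ℕ) (hab : n = a * b) (ha : 2 ≤ a) (hlt : a < b) (e : Fin n ≃ Fin a × Fin b) (P : GL (Fin n) F)
    (r : ℕ) [Fact r.Prime]
    (hΩ : r ∣ (Cfsg.Geo.tensorProductSubgroup a b e P).relIndex (Cfsg.Geo.specialLinear (Fin n) F)) :
    (∀ x ∈ Cfsg.Geo.specialLinear (Fin n) F, (∃ z : F, ((x ^ r : GL (Fin n) F) : Matrix (Fin n) (Fin n) F) = z • (1 : Matrix (Fin n) (Fin n) F)) →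
      (∀ z : F, (x : Matrix (Fin n) (Fin n) F) ≠ z • (1 : Matrix (Fin n) (Fin n) F)) →
      ∃ g ∈ Cfsg.Geo.specialLinear (Fin n) F, g⁻¹ * x * g ∈ Cfsg.Geo.tensorProductSubgroup a b e P) ↔
    (r = 2 ∧ a = 2 ∧ Odd q ∧ padicValNat 2 (q - 1) ≤ padicValNat 2 n) := by
  subst hq
  classical
  subst hab
  have hr := (Fact.out : r.Prime)
  have hp := (Fact.out : p.Prime)
  haveI : Fact (Nat.Prime 2) := ⟨Nat.prime_two⟩
  have hb : 3 ≤ b := by omega
  have hn : 6 ≤ a * b := Nat.mul_le_mul ha hb
  have hn0 : 0 < a * b := by omega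
  let i0 : Fin (a * b) := ⟨0, hn0⟩
  let i1 : Fin (a * b) := ⟨1, by omega⟩
  have h01 : i0 ≠ i1 := by simp [i0, i1, Fin.ext_iff]
  constructor
  · intro hall
    by_contra hrhs
    have diag : ∀ (l : Fin (a * b) → F), (∏ i, l i = 1) → (∃ z : F, ∀ i, l i ^ r = z) → (∃ i j, l i ≠ l j) →
        (∀ c : F, c ≠ 0 → b ≤ (Finset.univ.filter fun i => l i ≠ c).card) ∨
        (∀ c : F, a ∣ (Finset.univ.filter fun i => l i ≠ c).card) := by
      intro l hprod ⟨z, hzl⟩ ⟨i, j, hij⟩
      let x : GL (Fin (a * b)) F := Matrix.GeneralLinearGroup.mkOfDetNeZero (Matrix.diagonal l)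
        (by rw [Matrix.det_diagonal, hprod]; exact one_ne_zero)
      have hx : (x : Matrix (Fin (a * b)) (Fin (a * b)) F) = Matrix.diagonal l := rfl
      obtain ⟨g, -, hg⟩ := hall x (MonoidHom.mem_ker.mpr (Units.ext (by
          show (Matrix.diagonal l).det = 1
          rw [Matrix.det_diagonal, hprod])))
        ⟨z, by
          rw [Units.val_pow_eq_pow_val, hx, Matrix.diagonal_pow, Matrix.smul_one_eq_diagonal]
          congr 1
          funext i
          rw [Pi.pow_apply, hzl]⟩
        (fun c hc => hij (by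
          have ei := congrFun (congrFun hc i) i
          have ej := congrFun (congrFun hc j) j
          simp [hx] at ei ej
          exact ei.trans ej.symm))
      have h := rank_dichotomy hg
      simpa only [hx, rank_diagonal_sub] using h
    have two : ∀ (α β c : F), α ≠ c → β ≠ c → (Finset.univ.filter fun i : Fin (a * b) =>
        (if i = i0 then α else if i = i1 then β else c) ≠ c).card = 2 := by
      intro α β c hα hβ
      rw [show (Finset.univ.filter fun i : Fin (a * b) => (if i = i0 then α else if i = i1 then β else c) ≠ c) =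
        {i0, i1} from ?_, Finset.card_pair h01]
      ext i
      by_cases e0 : i = i0 <;> by_cases e1 : i = i1 <;> simp [e0, e1, hα, hβ, h01.symm]
    have twoprod : ∀ α β : F, ∏ i : Fin (a * b), (if i = i0 then α else if i = i1 then β else 1) = α * β := by
      intro α β
      rw [← Finset.mul_prod_erase _ _ (Finset.mem_univ i0), if_pos rfl, Finset.prod_eq_single i1
        (fun j hj hj1 => by rw [if_neg (Finset.ne_of_mem_erase hj), if_neg hj1])
        (fun h => absurd (Finset.mem_erase.mpr ⟨h01.symm, Finset.mem_univ _⟩) h), if_neg h01.symm, if_pos rfl]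
    by_cases hrp : r = p
    · -- a transvection
      subst hrp
      let x : GL (Fin (a * b)) F := Matrix.GeneralLinearGroup.mkOfDetNeZero (Matrix.transvection i0 i1 1)
        (by rw [Matrix.det_transvection_of_ne _ _ h01]; exact one_ne_zero)
      have hx : (x : Matrix (Fin (a * b)) (Fin (a * b)) F) = 1 + Matrix.single i0 i1 1 := rfl
      have hsub : (x : Matrix (Fin (a * b)) (Fin (a * b)) F) - (1 : F) • 1 = Matrix.single i0 i1 1 := by
        rw [hx, one_smul, add_sub_cancel_left]
      have hrk : ((x : Matrix (Fin (a * b)) (Fin (a * b)) F) - (1 : F) • 1).rank = 1 := by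
        rw [hsub]
        refine le_antisymm ?_ ?_
        · rw [show Matrix.single i0 i1 (1 : F) = Matrix.vecMulVec (Pi.single i0 1) (Pi.single i1 1) from
            Matrix.ext fun i j => by
              by_cases hi : i = i0 <;> by_cases hj : j = i1 <;> simp [Matrix.single_apply, Matrix.vecMulVec_apply, hi, hj, Ne.symm]]
          exact Matrix.rank_vecMulVec_le _ _
        · refine Nat.one_le_iff_ne_zero.mpr fun h0 => ?_
          have hbot : LinearMap.range (Matrix.single i0 i1 (1 : F)).mulVecLin = ⊥ := Submodule.finrank_eq_zero.mp h0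
          have h1 := congrFun (congrArg (fun f : (Fin (a * b) → F) →ₗ[F] _ => f (Pi.single i1 1))
            (LinearMap.range_eq_bot.mp hbot)) i0
          simp at h1
      obtain ⟨g, -, hg⟩ := hall x (MonoidHom.mem_ker.mpr (Units.ext (Matrix.det_transvection_of_ne _ _ h01 _)))
        ⟨1, by
          haveI : Nonempty (Fin (a * b)) := ⟨i0⟩
          rw [one_smul, Units.val_pow_eq_pow_val, hx, add_pow_char_of_commute r (Commute.one_left _), one_pow,
            show r = 2 + (r - 2) by have := hr.two_le; omega, pow_add, sq,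
            Matrix.single_mul_single_of_ne _ _ _ _ h01.symm, zero_mul, add_zero]⟩
        (fun c hc => by
          have h1 := congrFun (congrFun hc i0) i1
          simp [hx, h01, Matrix.one_apply] at h1)
      rcases rank_dichotomy hg with h | h
      · have := h 1 one_ne_zero; rw [hrk] at this; omega
      · have := h 1; rw [hrk] at this; have := Nat.le_of_dvd one_pos this; omega
    by_cases h1 : r ∣ Fintype.card F - 1
    · obtain ⟨u, hu⟩ := exists_prime_orderOf_dvd_card (G := Fˣ) r (by rwa [Fintype.card_units])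
      set ζ : F := (u : F) with hζ
      have hord : orderOf ζ = r := by rw [hζ, orderOf_units, hu]
      have hζr : ζ ^ r = 1 := hord ▸ pow_orderOf_eq_one ζ
      have hζ1 : ζ ≠ 1 := fun e0 => hr.one_lt.ne' (by rw [← hord, e0, orderOf_one])
      have hζi : ζ⁻¹ ≠ 1 := fun e0 => hζ1 (inv_eq_one.mp e0)
      let l : Fin (a * b) → F := fun i => if i = i0 then ζ else if i = i1 then ζ⁻¹ else 1
      rcases diag l (by rw [twoprod, mul_inv_cancel₀ u.ne_zero])
        ⟨1, fun i => by simp only [l]; split_ifs <;> simp [hζr, inv_pow]⟩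
        ⟨i0, ⟨2, by omega⟩, by simp [l, i0, i1, Fin.ext_iff, hζ1]⟩ with h | h
      · have := h 1 one_ne_zero; rw [two _ _ _ hζ1 hζi] at this; omega
      · have h2 := h 1
        rw [two _ _ _ hζ1 hζi] at h2
        obtain rfl : a = 2 := le_antisymm (Nat.le_of_dvd two_pos h2) ha
        by_cases hr2 : r = 2
        · subst hr2
          -- the scalar is a square and the number of negative signs is odd
          by_cases hv : padicValNat 2 (Fintype.card F - 1) ≤ padicValNat 2 (2 * b)
          · have hodd : Odd (Fintype.card F) := by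
              obtain ⟨t, ht⟩ := h1
              exact ⟨t, by have := Fintype.one_lt_card (α := F); omega⟩
            exact hrhs ⟨rfl, rfl, hodd, hv⟩
          push Not at hv
          set v := padicValNat 2 (2 * b)
          obtain ⟨w, hw⟩ := IsCyclic.exists_ofOrder_eq_natCard (α := Fˣ)
          rw [Nat.card_units, Nat.card_eq_fintype_card] at hw
          have hN : Fintype.card F - 1 ≠ 0 := by have := Fintype.one_lt_card (α := F); omega
          obtain ⟨t, ht⟩ : 2 ^ (v + 1) ∣ Fintype.card F - 1 := (padicValNat_dvd_iff_le hN).mpr (by omega)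
          have ht0 : t ≠ 0 := fun e0 => hN (by rw [ht, e0, mul_zero])
          have ho : orderOf (w ^ t) = 2 ^ (v + 1) := by
            rw [orderOf_pow' _ ht0, hw, ht, Nat.gcd_eq_right (dvd_mul_left _ _),
              Nat.mul_div_cancel _ (Nat.pos_of_ne_zero ht0)]
          set μ : F := ((w ^ t : Fˣ) : F) with hμ
          have hμ0 : μ ≠ 0 := Units.ne_zero _
          have hμo : orderOf μ = 2 ^ (v + 1) := by rw [hμ, orderOf_units, ho]
          obtain ⟨m, hm⟩ : 2 ^ v ∣ 2 * b := pow_padicValNat_dvd
          have hmodd : Odd m := Nat.not_even_iff_odd.mp fun ⟨m', hm'⟩ => by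
            have : 2 ^ (v + 1) ∣ 2 * b := ⟨m', by rw [hm, hm', pow_succ]; ring⟩
            have := (padicValNat_dvd_iff_le (by omega : 2 * b ≠ 0)).mp this
            omega
          have hneg : μ ^ 2 ^ v = -1 := by
            have h3 : (μ ^ 2 ^ v) ^ 2 = 1 := by rw [← pow_mul, ← pow_succ, ← hμo, pow_orderOf_eq_one]
            refine (sq_eq_one_iff.mp h3).resolve_left fun e0 => ?_
            have := Nat.le_of_dvd (pow_pos two_pos _) (hμo ▸ orderOf_dvd_of_pow_eq_one e0)
            rw [pow_succ] at this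
            have := pow_pos (two_pos : 0 < 2) v
            omega
          have hpow : μ ^ (2 * b) = -1 := by rw [hm, pow_mul, hneg, hmodd.neg_one_pow]
          have hne : -μ ≠ μ := fun e0 => hζ1 (by
            have h2F : (2 : F) = 0 := by
              have h4 : (2 : F) * μ = 0 := by linear_combination -e0
              exact (mul_eq_zero.mp h4).resolve_right hμ0
            have h5 : (ζ - 1) ^ 2 = 0 := by linear_combination hζr + (1 - ζ) * h2F
            exact sub_eq_zero.mp (pow_eq_zero_iff two_ne_zero |>.mp h5))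
          let l' : Fin (2 * b) → F := fun i => if i = i0 then -μ else μ
          have hone : (Finset.univ.filter fun i => l' i ≠ μ).card = 1 := by
            rw [show (Finset.univ.filter fun i => l' i ≠ μ) = {i0} from ?_, Finset.card_singleton]
            ext i
            by_cases e0 : i = i0 <;> simp [l', e0, hne]
          rcases diag l' (by
              rw [← Finset.mul_prod_erase _ _ (Finset.mem_univ i0),
                Finset.prod_congr rfl (g := fun _ => μ) fun i hi => by simp [l', Finset.ne_of_mem_erase hi]]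
              simp only [l', if_true, Finset.prod_const, Finset.card_erase_of_mem (Finset.mem_univ i0), Finset.card_univ,
                Fintype.card_fin]
              rw [neg_mul, ← pow_succ', Nat.sub_add_cancel (by omega), hpow, neg_neg])
            ⟨μ ^ 2, fun i => by simp only [l']; split <;> simp⟩
            ⟨i0, i1, by simp [l', h01.symm, hne]⟩ with h | h
          · have := h μ hμ0; omega
          · have := h μ; rw [hone] at this; omega
        · have h3 := h ζ
          have hζζ : ζ⁻¹ ≠ ζ := fun e0 => by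
            have h4 : ζ ^ 2 = 1 := by rw [sq]; nth_rw 1 [← e0]; exact inv_mul_cancel₀ u.ne_zero
            exact hr2 ((Nat.prime_dvd_prime_iff_eq hr Nat.prime_two).mp (hord ▸ orderOf_dvd_of_pow_eq_one h4))
          rw [show (Finset.univ.filter fun i => l i ≠ ζ) = Finset.univ.erase i0 from ?_,
            Finset.card_erase_of_mem (Finset.mem_univ _), Finset.card_univ, Fintype.card_fin] at h3
          · omega
          · ext i
            by_cases e0 : i = i0 <;> by_cases e1 : i = i1 <;> simp [l, e0, e1, hζζ, h01.symm, hζ1.symm]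
    · -- one block
      have hi1 : orderOf (Fintype.card F : ZMod r) ≠ 1 := fun h => h1 (dvd_card_sub_one_iff.mpr h)
      have hq0 : (Fintype.card F : ZMod r) ≠ 0 := cast_card_ne_zero (p := p) hrp
      have hipos : 0 < orderOf (Fintype.card F : ZMod r) := orderOf_pos_iff.mpr (isOfFinOrder_iff_pow_eq_one.mpr
        ⟨r - 1, by have := hr.two_le; omega, ZMod.pow_card_sub_one_eq_one hq0⟩)
      have hile : orderOf (Fintype.card F : ZMod r) ≤ a * b := by
        have hd : r ∣ Nat.card (GL (Fin (a * b)) F) :=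
          hΩ.trans ((Subgroup.relIndex_dvd_card _ _).trans (Subgroup.card_subgroup_dvd_card _))
        rw [Matrix.card_GL_field, CfsgLib.Linear.prod_pow_sub_pow] at hd
        rcases hr.prime.dvd_mul.mp hd with h | h
        · exact absurd ((ZMod.natCast_eq_zero_iff _ _).mpr (hr.dvd_of_dvd_pow h)) hq0
        · obtain ⟨j, hj, hjd⟩ := hr.prime.exists_mem_finset_dvd h
          rw [Finset.mem_range] at hj
          rw [← ZMod.natCast_eq_zero_iff, Nat.cast_sub (Nat.one_le_pow _ _ Fintype.card_pos), Nat.cast_pow,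
            Nat.cast_one, sub_eq_zero] at hjd
          exact (Nat.le_of_dvd (by omega) (orderOf_dvd_of_pow_eq_one hjd)).trans (by omega)
      obtain ⟨g0, hg0, hgdet, hfix, hns⟩ := exists_fixed_model (F := F) (V := Fin (a * b) → F) (r := r) (by omega)
        (s := 1) (k := a * b - orderOf (Fintype.card F : ZMod r)) le_rfl (by rw [Module.finrank_fin_fun]; omega)
      let φ : Matrix (Fin (a * b)) (Fin (a * b)) F ≃ₐ[F] Module.End F (Fin (a * b) → F) := Matrix.toLinAlgEquiv'
      have hφ : Matrix.toLin' (φ.symm g0) = g0 := φ.apply_symm_apply g0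
      have hd : (φ.symm g0).det = 1 := by rw [← LinearMap.det_toLin', hφ, hgdet]
      let x : GL (Fin (a * b)) F := Matrix.GeneralLinearGroup.mkOfDetNeZero (φ.symm g0) (by rw [hd]; exact one_ne_zero)
      have hxr : (x : Matrix (Fin (a * b)) (Fin (a * b)) F) ^ r = 1 := by
        show φ.symm g0 ^ r = 1
        rw [← map_pow, hg0, map_one]
      obtain ⟨g, -, hg⟩ := hall x (MonoidHom.mem_ker.mpr (Units.ext hd))
        ⟨1, by rw [one_smul, Units.val_pow_eq_pow_val, hxr]⟩
        (fun c hc => hns c (φ.symm.injective (by rw [map_smul, map_one]; exact hc)))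
      refine no_conj_block ha hlt (by omega) hxr ?_ hg
      have h1 := LinearMap.finrank_range_add_finrank_ker ((x : Matrix (Fin (a * b)) (Fin (a * b)) F) - 1).mulVecLin
      have hker : fixedIn g0 ⊤ = LinearMap.ker ((x : Matrix (Fin (a * b)) (Fin (a * b)) F) - 1).mulVecLin := by
        ext v
        rw [mem_fixedIn, LinearMap.mem_ker, Matrix.mulVecLin_apply, Matrix.sub_mulVec, Matrix.one_mulVec, sub_eq_zero,
          show (x : Matrix (Fin (a * b)) (Fin (a * b)) F) *ᵥ v = g0 v by rw [← Matrix.toLin'_apply]; exact congrArg (fun f => f v) hφ]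
        simp
      rw [← hker, hfix, Module.finrank_fin_fun] at h1
      show Module.finrank F (LinearMap.range ((x : Matrix (Fin (a * b)) (Fin (a * b)) F) - 1).mulVecLin) = _
      omega
  · rintro ⟨rfl, rfl, hodd, hv⟩ x hx ⟨z, hz⟩ -
    haveI : Nonempty (Fin (2 * b)) := ⟨i0⟩
    have hdet : (x : Matrix (Fin (2 * b)) (Fin (2 * b)) F).det = 1 := congrArg Units.val (MonoidHom.mem_ker.mp hx)
    rw [Units.val_pow_eq_pow_val] at hz
    have h2 : (2 : F) ≠ 0 := Ring.two_ne_zero fun hc => by
      have := FiniteField.even_card_of_char_two hc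
      rw [Nat.odd_iff.mp hodd] at this
      omega
    refine fixes_involution h2 rfl (by omega) hv e P x hdet (fun e0 => ?_) hz
    have := congrArg Matrix.det hz
    rw [Matrix.det_pow, hdet, one_pow, e0, zero_smul, Matrix.det_zero] at this
    exact one_ne_zero this

end Cfsg.Agent.S5979
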