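import Cfsg.Statements.S5980
import Cfsg.Agent.LinearElements.SympAtom
import Cfsg.Agent.LinearElements.SympPairs
import Cfsg.Agent.MaxSub.SymplecticBasic
import Cfsg.Agent.Aschbacher.Tensor
import Cfsg.Agent.S5979

set_option autoImplicit false
open scoped MatrixGroups
open Cfsg

open Matrix CfsgLib.LinearElements CfsgLib.Aschbacher
open scoped Kronecker

namespace Cfsg.Agent.S5980

open Cfsg.Agent.S5979 (le_rank_kronecker rank_one_kronecker scalar_kronecker_sub pow_scalar_of_kronecker exists_eigen_rank)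

variable {F : Type*} [Field F]

theorem rank_similar {L : Type*} [Field L] {ι κ : Type*} [Fintype ι] [DecidableEq ι] [Fintype κ] [DecidableEq κ]
    (E : ι ≃ κ) {Y Y' X : Matrix ι ι L} {Z : Matrix κ κ L} (h1 : Y * Y' = 1) (hX : X = Y * Z.submatrix E E * Y')
    (c : L) : (X - c • 1).rank = (Z - c • 1).rank := by
  have e : X - c • 1 = Y * (Z - c • 1).submatrix E E * Y' := by
    rw [show (Z - c • 1).submatrix E E = Z.submatrix E E - c • (1 : Matrix ι ι L) by
      ext i j; simp [Matrix.one_apply, E.injective.eq_iff], Matrix.mul_sub, Matrix.sub_mul, Matrix.mul_smul,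
      Matrix.mul_one, Matrix.smul_mul, h1, ← hX]
  have hd : IsUnit Y.det ∧ IsUnit Y'.det := by
    have := congrArg Matrix.det h1
    rw [Matrix.det_mul, Matrix.det_one] at this
    exact ⟨IsUnit.of_mul_eq_one _ this, IsUnit.of_mul_eq_one _ ((mul_comm _ _).trans this)⟩
  rw [e, Matrix.rank_mul_eq_left_of_isUnit_det _ _ hd.2, Matrix.rank_mul_eq_right_of_isUnit_det _ _ hd.1,
    Matrix.rank_submatrix]

variable {d a b : ℕ}

/-- A conjugate in the stabiliser: a Kronecker product similar to `x` over every larger field. -/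
theorem exists_of_conj {e : (Fin d ⊕ Fin d) ≃ Fin a × Fin b} {P g x : GL (Fin d ⊕ Fin d) F}
    (h : g⁻¹ * x * g ∈ Cfsg.Geo.tensorProductSubgroup a b e P) :
    ∃ (A : GL (Fin a) F) (B : GL (Fin b) F),
      (∀ {L : Type _} [Field L] (φ : F →+* L) (c : L),
        ((x : Matrix (Fin d ⊕ Fin d) (Fin d ⊕ Fin d) F).map φ - c • 1).rank =
          (((A : Matrix (Fin a) (Fin a) F).map φ) ⊗ₖ ((B : Matrix (Fin b) (Fin b) F).map φ) - c • 1).rank) ∧
      ∀ (r : ℕ), (x : Matrix (Fin d ⊕ Fin d) (Fin d ⊕ Fin d) F) ^ r = 1 →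
        ((A : Matrix (Fin a) (Fin a) F) ⊗ₖ (B : Matrix (Fin b) (Fin b) F)) ^ r = 1 := by
  obtain ⟨A, B, hAB⟩ := exists_of_mem_tensorProductSubgroup h
  refine ⟨A, B, fun φ c => ?_, fun r hr => ?_⟩
  · refine rank_similar e (Y := ((g * P : GL (Fin d ⊕ Fin d) F) : Matrix _ _ F).map φ)
      (Y' := (((g * P)⁻¹ : GL (Fin d ⊕ Fin d) F) : Matrix _ _ F).map φ) ?_ ?_ c
    · rw [← Matrix.map_mul, ← Units.val_mul, mul_inv_cancel, Units.val_one, Matrix.map_one _ (map_zero φ) (map_one φ)]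
    · rw [show ((A : Matrix (Fin a) (Fin a) F).map φ) ⊗ₖ ((B : Matrix (Fin b) (Fin b) F).map φ) =
        ((A : Matrix (Fin a) (Fin a) F) ⊗ₖ (B : Matrix (Fin b) (Fin b) F)).map φ from
          Matrix.ext fun i j => by simp [Matrix.kroneckerMap_apply], Matrix.submatrix_map, ← Matrix.map_mul,
        ← Matrix.map_mul]
      congr 1
      have h2 : mat (g⁻¹ * x * g) = mat P * ((A : Matrix (Fin a) (Fin a) F) ⊗ₖ (B : Matrix (Fin b) (Fin b) F)).submatrix e e *
          mat P⁻¹ := hAB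
      simp only [mat, _root_.mul_inv_rev, Units.val_mul] at h2 ⊢
      calc (x : Matrix (Fin d ⊕ Fin d) (Fin d ⊕ Fin d) F) =
          (g : Matrix _ _ F) * (((g⁻¹ : GL (Fin d ⊕ Fin d) F) : Matrix _ _ F) * (x : Matrix _ _ F) * (g : Matrix _ _ F)) *
            ((g⁻¹ : GL (Fin d ⊕ Fin d) F) : Matrix _ _ F) := by simp [mul_assoc]
        _ = _ := by rw [h2]; simp [mul_assoc]
  · refine (tensorEquiv e P).injective ?_
    rw [map_pow, map_one, ← show mat (g⁻¹ * x * g) = _ from hAB]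
    show ((g⁻¹ * x * g : GL (Fin d ⊕ Fin d) F) : Matrix (Fin d ⊕ Fin d) (Fin d ⊕ Fin d) F) ^ r = _
    rw [← Units.val_pow_eq_pow_val, show (g⁻¹ * x * g) ^ r = g⁻¹ * x ^ r * g by
      rw [show g⁻¹ * x * g = MulAut.conj g⁻¹ x by simp, ← map_pow]; simp, Units.val_mul, Units.val_mul,
      Units.val_pow_eq_pow_val, hr, Matrix.mul_one, ← Units.val_mul, inv_mul_cancel, Units.val_one]

/-- Either at least `b` dimensions are moved, or all ranks are multiples of `a`. -/
theorem rank_dichotomy {e : (Fin d ⊕ Fin d) ≃ Fin a × Fin b} {P g x : GL (Fin d ⊕ Fin d) F}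
    (h : g⁻¹ * x * g ∈ Cfsg.Geo.tensorProductSubgroup a b e P) :
    b ≤ ((x : Matrix (Fin d ⊕ Fin d) (Fin d ⊕ Fin d) F) - 1).rank ∨
      a ∣ ((x : Matrix (Fin d ⊕ Fin d) (Fin d ⊕ Fin d) F) - 1).rank := by
  obtain ⟨A, B, hrk, -⟩ := exists_of_conj h
  have h1 := hrk (RingHom.id F) 1
  simp only [RingHom.coe_id, Matrix.map_id, one_smul] at h1
  by_cases hA : ∃ t : F, (A : Matrix (Fin a) (Fin a) F) = t • 1
  · obtain ⟨t, ht⟩ := hA
    refine Or.inr ⟨(t • (B : Matrix (Fin b) (Fin b) F) - 1).rank, h1.trans ?_⟩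
    have h2 := scalar_kronecker_sub ht (B : Matrix (Fin b) (Fin b) F) 1
    rw [one_smul, one_smul] at h2
    rw [h2, rank_one_kronecker]
  · push Not at hA
    refine Or.inl ((le_rank_kronecker hA B one_ne_zero).trans_eq ?_)
    rw [one_smul, h1]

/-- The smallest symplectic block of odd prime order has no conjugate in the stabiliser. -/
theorem no_conj_atom [Fintype F] {p : ℕ} [Fact p.Prime] [CharP F p] {r : ℕ} [Fact r.Prime] (hr2 : r ≠ 2) (hrp : r ≠ p)
    (hab : 2 * d = a * b) (ha : Even a) (ha2 : 2 ≤ a) (hb : 3 ≤ b) {m k : ℕ} (hmk : m + k = d)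
    (hm : 2 * m = (if Even (orderOf (Fintype.card F : ZMod r)) then orderOf (Fintype.card F : ZMod r)
      else 2 * orderOf (Fintype.card F : ZMod r)))
    (h : ↥(Matrix.symplecticGroup (Fin m) F)) (hh : h ^ r = 1) (hh1 : h ≠ 1) (E : Fin m ⊕ Fin k ≃ Fin d)
    {e : (Fin d ⊕ Fin d) ≃ Fin a × Fin b} {P g x : GL (Fin d ⊕ Fin d) F}
    (hx : (x : Matrix (Fin d ⊕ Fin d) (Fin d ⊕ Fin d) F) = (CfsgLib.SpSum.blk E (h, 1)).1) :
    g⁻¹ * x * g ∉ Cfsg.Geo.tensorProductSubgroup a b e P := by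
  classical
  intro hmem
  have hr := (Fact.out : r.Prime)
  have hq0 := cast_card_ne_zero (F := F) hrp
  set i := orderOf (Fintype.card F : ZMod r) with hi
  have hi0 : 0 < i := by
    rw [hi, orderOf_pos_iff, isOfFinOrder_iff_pow_eq_one]
    exact ⟨r - 1, by have := hr.two_le; omega, ZMod.pow_card_sub_one_eq_one hq0⟩
  haveI : NeZero i := ⟨hi0.ne'⟩
  let L := FiniteField.Extension F p i
  haveI : Finite L := Module.finite_of_finite F
  haveI := Fintype.ofFinite L
  haveI : CharP L p := charP_of_injective_algebraMap (algebraMap F L).injective p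
  have hdvd : r ∣ Fintype.card L - 1 := by
    rw [Module.card_eq_pow_finrank (K := F), FiniteField.finrank_extension F p i, ← ZMod.natCast_eq_zero_iff,
      Nat.cast_sub (Nat.one_le_pow _ _ Fintype.card_pos), Nat.cast_pow, Nat.cast_one, hi, pow_orderOf_eq_one, sub_self]
  obtain ⟨u, hu⟩ := exists_prime_orderOf_dvd_card (G := Lˣ) r (by rwa [Fintype.card_units])
  have hζ : IsPrimitiveRoot (u : L) r := by
    rw [← hu, ← orderOf_units]; exact IsPrimitiveRoot.orderOf _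
  have hrL : (r : L) ≠ 0 := fun e0 => by
    rw [CharP.cast_eq_zero_iff L p] at e0
    exact hrp ((Nat.prime_dvd_prime_iff_eq Fact.out hr).mp e0).symm
  set φ := algebraMap F L
  obtain ⟨H, H', l, e1, e2, e3, hinj, hne⟩ := atom_spectrum hr2 hm hh hh1 hrL hζ
  -- the eigenvalues of `x`
  let l' : (Fin m ⊕ Fin m) ⊕ (Fin k ⊕ Fin k) → L := Sum.elim l fun _ => 1
  let N := Fintype.card ((Fin m ⊕ Fin m) ⊕ (Fin k ⊕ Fin k))
  have hN : N = a * b := by simp [N]; omega
  have hrx : ∀ c : L, ((x : Matrix (Fin d ⊕ Fin d) (Fin d ⊕ Fin d) F).map φ - c • 1).rank =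
      N - (Finset.univ.filter fun v => l' v = c).card := fun c => by
    have hX0 : (Matrix.fromBlocks (h : Matrix (Fin m ⊕ Fin m) (Fin m ⊕ Fin m) F) 0 0
        ((1 : ↥(Matrix.symplecticGroup (Fin k) F)) : Matrix (Fin k ⊕ Fin k) (Fin k ⊕ Fin k) F)).map φ *
          Matrix.fromBlocks H 0 0 1 = Matrix.fromBlocks H 0 0 1 * Matrix.diagonal l' := by
      rw [Matrix.fromBlocks_map, OneMemClass.coe_one, Matrix.map_one _ (map_zero φ) (map_one φ),
        Matrix.map_zero _ (map_zero φ), Matrix.map_zero _ (map_zero φ), ← Matrix.fromBlocks_diagonal,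
        Matrix.fromBlocks_multiply, Matrix.fromBlocks_multiply]
      simp
      exact e3
    rw [← rank_frame_sub (H := Matrix.fromBlocks H 0 0 1) (H' := Matrix.fromBlocks H' 0 0 1)
      (by rw [Matrix.fromBlocks_multiply, ← Matrix.fromBlocks_one]; simp [e1])
      (by rw [Matrix.fromBlocks_multiply, ← Matrix.fromBlocks_one]; simp [e2]) hX0 c]
    refine rank_similar (CfsgLib.SpSum.shuffle E).symm (Y := 1) (Y' := 1) (one_mul 1) ?_ c
    rw [one_mul, mul_one, hx]
    rfl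
  have hl1 : ∀ γ : L, γ ≠ 1 → (Finset.univ.filter fun v => l' v = γ).card ≤ 1 := fun γ hγ => by
    refine Finset.card_le_one.mpr fun v hv w hw => ?_
    simp only [Finset.mem_filter, Finset.mem_univ, true_and] at hv hw
    rcases v with v | v <;> rcases w with w | w <;> simp only [l', Sum.elim_inl, Sum.elim_inr] at hv hw
    · exact congrArg Sum.inl (hinj (hv.trans hw.symm))
    all_goals first | exact absurd hv.symm hγ | exact absurd hw.symm hγ
  have hfix : (Finset.univ.filter fun v => l' v = 1).card = 2 * k := by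
    rw [show (Finset.univ.filter fun v => l' v = 1) =
        (Finset.univ : Finset (Fin k ⊕ Fin k)).map Function.Embedding.inr by
      ext v
      rcases v with v | v <;> simp [l', hne], Finset.card_map, Finset.card_univ, Fintype.card_sum, Fintype.card_fin]
    omega
  have hm0 : 0 < m := by split_ifs at hm <;> omega
  set γ0 := l (Sum.inl ⟨0, hm0⟩)
  have hγ0 : (Finset.univ.filter fun v => l' v = γ0).card = 1 :=
    le_antisymm (hl1 _ (hne _)) (Finset.card_pos.mpr ⟨Sum.inl (Sum.inl ⟨0, hm0⟩), by simp [l', γ0]⟩)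
  obtain ⟨A, B, hrk, hpow⟩ := exists_of_conj hmem
  have hxr : (x : Matrix (Fin d ⊕ Fin d) (Fin d ⊕ Fin d) F) ^ r = 1 := by
    rw [hx, ← SubmonoidClass.coe_pow, ← map_pow, Prod.pow_def, one_pow, hh, show ((1 : ↥(Matrix.symplecticGroup (Fin m) F)),
      (1 : ↥(Matrix.symplecticGroup (Fin k) F))) = 1 from rfl, map_one, OneMemClass.coe_one]
  have hAB := hpow r hxr
  have hnE : a ∣ N - 1 → False := fun hdv => by
    have h2 : 2 ∣ N - 1 := (even_iff_two_dvd.mp ha).trans hdv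
    omega
  by_cases hA : ∃ t : F, (A : Matrix (Fin a) (Fin a) F) = t • 1
  · obtain ⟨t, ht⟩ := hA
    have h1 := (hrx γ0).symm.trans (hrk φ γ0)
    have htL : (A : Matrix (Fin a) (Fin a) F).map φ = φ t • 1 := by
      rw [ht]; ext i j; simp [Matrix.one_apply, apply_ite φ]
    rw [hγ0, scalar_kronecker_sub htL, rank_one_kronecker] at h1
    exact hnE ⟨_, h1⟩
  push Not at hA
  have hbc : b ≤ 2 * m := by
    have h1 := (hrx 1).symm.trans (hrk φ 1)
    have h2 := le_rank_kronecker hA B (one_ne_zero (α := F))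
    rw [← CfsgLib.DefectRank.rank_map_eq φ] at h2
    rw [show ((A : Matrix (Fin a) (Fin a) F) ⊗ₖ (B : Matrix (Fin b) (Fin b) F) - (1 : F) • 1).map φ =
        ((A : Matrix (Fin a) (Fin a) F).map φ) ⊗ₖ ((B : Matrix (Fin b) (Fin b) F).map φ) - (1 : L) • 1 by
      ext i j
      simp [Matrix.kroneckerMap_apply, Matrix.one_apply, apply_ite φ], ← h1, hfix] at h2
    simp [N] at h2
    omega
  have hi1 : i ≠ 1 := fun e0 => by
    rw [e0] at hm
    norm_num at hm
    omega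
  -- roots of the scalar powers
  obtain ⟨w, hw⟩ := pow_scalar_of_kronecker (by omega) B (z := 1) (by rw [hAB, one_smul])
  obtain ⟨w', hw'⟩ : ∃ w' : F, (B : Matrix (Fin b) (Fin b) F) ^ r = w' • 1 := by
    have h0 : ((B : Matrix (Fin b) (Fin b) F) ⊗ₖ (A : Matrix (Fin a) (Fin a) F)) ^ r = (1 : F) • 1 := by
      have h1 := congrArg (Matrix.reindexAlgEquiv F F (Equiv.prodComm (Fin a) (Fin b))) hAB
      rw [map_pow, map_one] at h1
      rw [one_smul, ← h1]
      congr 1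
      ext i j
      simp [Matrix.kroneckerMap_apply, mul_comm]
    exact pow_scalar_of_kronecker (by omega) A h0
  obtain ⟨μ, hμ⟩ := exists_root_of_order_ne_one (r := r) hi1 w
  obtain ⟨ν, hν⟩ := exists_root_of_order_ne_one (r := r) hi1 w'
  haveI : Nonempty (Fin a) := ⟨⟨0, by omega⟩⟩
  haveI : Nonempty (Fin b) := ⟨⟨0, by omega⟩⟩
  have hμ0 : μ ≠ 0 := fun e0 => by
    rw [e0, zero_pow hr.ne_zero] at hμ
    rw [← hμ, zero_smul] at hw
    exact (A ^ r).ne_zero (by rw [Units.val_pow_eq_pow_val]; exact hw)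
  have hν0 : ν ≠ 0 := fun e0 => by
    rw [e0, zero_pow hr.ne_zero] at hν
    rw [← hν, zero_smul] at hw'
    exact (B ^ r).ne_zero (by rw [Units.val_pow_eq_pow_val]; exact hw')
  have hscal : ∀ {n : ℕ} (M : Matrix (Fin n) (Fin n) F) (c : F), M ^ r = c • 1 →
      (M.map φ) ^ r = φ c • 1 := fun M c hM => by
    rw [← RingHom.mapMatrix_apply, ← map_pow, hM, RingHom.mapMatrix_apply]
    ext i j; simp [Matrix.one_apply, apply_ite φ]
  obtain ⟨HA, HA', α, a1, a2, a3, -⟩ := CfsgLib.Twist.exists_eigen_frame hr.pos hrL hζ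
    ((map_ne_zero φ).mpr hμ0) (x := (A : Matrix (Fin a) (Fin a) F).map φ)
    (by rw [hscal _ _ hw, ← map_pow, hμ])
  obtain ⟨HB, HB', β, b1, b2, b3, -⟩ := CfsgLib.Twist.exists_eigen_frame hr.pos hrL hζ
    ((map_ne_zero φ).mpr hν0) (x := (B : Matrix (Fin b) (Fin b) F).map φ)
    (by rw [hscal _ _ hw', ← map_pow, hν])
  let fib : L → Finset (Fin a × Fin b) := fun γ => Finset.univ.filter fun p => α p.1 * β p.2 = γ
  have hfib : ∀ γ, (fib γ).card = (Finset.univ.filter fun v => l' v = γ).card := fun γ => by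
    have h1 := (hrx γ).symm.trans (hrk φ γ)
    rw [rank_frame_sub (H := HA ⊗ₖ HB) (H' := HA' ⊗ₖ HB') (by rw [← Matrix.mul_kronecker_mul, a1, b1, Matrix.one_kronecker_one])
      (by rw [← Matrix.mul_kronecker_mul, a2, b2, Matrix.one_kronecker_one])
      (l := fun p => α p.1 * β p.2) (by rw [← Matrix.mul_kronecker_mul, a3, b3, ← Matrix.diagonal_kronecker_diagonal,
        Matrix.mul_kronecker_mul])] at h1
    have h2 := (Finset.univ.filter fun v => l' v = γ).card_le_univ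
    have h3 := (fib γ).card_le_univ
    simp only [Fintype.card_prod, Fintype.card_fin, fib] at h1 h2 h3 ⊢
    simp only [N] at h1 hN h2
    omega
  have hdup : ∀ γ, γ ≠ 1 → ∀ p ∈ fib γ, ∀ p' ∈ fib γ, p = p' := fun γ hγ p hp p' hp' =>
    Finset.card_le_one.mp ((hfib γ).trans_le (hl1 γ hγ)) p hp p' hp'
  obtain ⟨⟨k0, j0⟩, hp0⟩ := Finset.card_pos.mp ((hfib γ0).trans hγ0 |>.ge)
  have hp0' : α k0 * β j0 = γ0 := (Finset.mem_filter.mp hp0).2
  haveI : Nontrivial (Fin a) := Fin.nontrivial_iff_two_le.mpr ha2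
  haveI : Nontrivial (Fin b) := Fin.nontrivial_iff_two_le.mpr (by omega)
  have hmem' : ∀ p γ, α p.1 * β p.2 = γ → p ∈ fib γ := fun p γ e0 => by simp [fib, e0]
  have hα : Function.Injective α := by
    intro k1 k2 e0
    by_contra hk
    have hall : ∀ j, α k1 * β j = 1 := fun j => by
      by_contra hj
      exact hk (congrArg Prod.fst (hdup _ hj (k1, j) (hmem' _ _ rfl) (k2, j) (hmem' (k2, j) _ (by simp [e0]))))
    obtain ⟨j1, hj1⟩ := exists_ne j0
    have hβ : β j1 = β j0 := mul_left_cancel₀ (left_ne_zero_of_mul_eq_one (hall j0)) ((hall j1).trans (hall j0).symm)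
    exact hj1 (congrArg Prod.snd (hdup γ0 (hne _) (k0, j1) (hmem' (k0, j1) _ (by simp [hβ, hp0'])) (k0, j0) hp0))
  have hβ : Function.Injective β := by
    intro j1 j2 e0
    by_contra hj
    have hall : ∀ k1, α k1 * β j1 = 1 := fun k1 => by
      by_contra hk
      exact hj (congrArg Prod.snd (hdup _ hk (k1, j1) (hmem' _ _ rfl) (k1, j2) (hmem' (k1, j2) _ (by simp [e0]))))
    obtain ⟨k1, hk1⟩ := exists_ne k0
    have hα' : α k1 = α k0 := mul_right_cancel₀ (right_ne_zero_of_mul_eq_one (hall k0)) ((hall k1).trans (hall k0).symm)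
    exact hk1 (congrArg Prod.fst (hdup γ0 (hne _) (k1, j0) (hmem' (k1, j0) _ (by simp [hα', hp0'])) (k0, j0) hp0))
  -- bounds
  have hka : 2 * k ≤ a := by
    rw [← hfix, ← hfib]
    refine (Finset.card_le_card_of_injOn Prod.fst (fun p _ => Finset.mem_univ _) fun p hp p' hp' e0 => ?_).trans_eq
      (by rw [Finset.card_univ, Fintype.card_fin])
    simp only [fib, Finset.coe_filter, Finset.mem_univ, true_and, Set.mem_setOf_eq] at hp hp'
    refine Prod.ext e0 (hβ (mul_left_cancel₀ (left_ne_zero_of_mul_eq_one hp) (hp.trans ?_)))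
    rw [e0, hp']
  have hkb : 2 * k ≤ b := by
    rw [← hfix, ← hfib]
    refine (Finset.card_le_card_of_injOn Prod.snd (fun p _ => Finset.mem_univ _) fun p hp p' hp' e0 => ?_).trans_eq
      (by rw [Finset.card_univ, Fintype.card_fin])
    simp only [fib, Finset.coe_filter, Finset.mem_univ, true_and, Set.mem_setOf_eq] at hp hp'
    refine Prod.ext (hα (mul_right_cancel₀ (right_ne_zero_of_mul_eq_one hp) (hp.trans ?_))) e0
    rw [e0, hp']
  have hord : ∀ {n : ℕ} (M : Matrix (Fin n) (Fin n) F) (c : F), c ≠ 0 → M ^ r = c ^ r • 1 → (∀ t : F, M ≠ t • 1) →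
      i ≤ n := fun {n} M c hc0 hM hnon => by
    obtain ⟨j, hj⟩ := exists_eigen_rank (r := r) (M := c⁻¹ • M) (by
      rw [_root_.smul_pow, hM, smul_smul, ← mul_pow, inv_mul_cancel₀ hc0, one_pow, one_smul]) hq0
    rw [← hi] at hj
    have hle := Matrix.rank_le_card_width (c⁻¹ • M - 1)
    rw [hj, Fintype.card_fin] at hle
    rcases Nat.eq_zero_or_pos j with hj0 | hj0
    · rw [hj0, Nat.zero_mul] at hj
      refine absurd ?_ (hnon c)
      have h0 : c⁻¹ • M = 1 := by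
        rw [← sub_eq_zero]
        refine Matrix.toLin'.injective ?_
        rw [map_zero]
        exact LinearMap.range_eq_bot.mp (Submodule.finrank_eq_zero.mp hj)
      rw [← h0, smul_smul, mul_inv_cancel₀ hc0, one_smul]
    · exact (Nat.le_mul_of_pos_left i hj0).trans hle
  have hia : i ≤ a := hord _ μ hμ0 (by rw [hμ, hw]) hA
  have hib : i ≤ b := hord _ ν hν0 (by rw [hν, hw']) fun t ht => by
    obtain ⟨j1, hj1⟩ := exists_ne j0
    have h0 : (B : Matrix (Fin b) (Fin b) F).map φ = φ t • 1 := by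
      rw [ht]; ext i j; simp [Matrix.one_apply, apply_ite φ]
    rw [h0, Matrix.smul_mul, Matrix.one_mul] at b3
    have h1 : Matrix.diagonal β = φ t • (1 : Matrix (Fin b) (Fin b) L) := by
      have := congrArg (HB' * ·) b3
      simpa [← Matrix.mul_assoc, b2] using this.symm
    refine hj1 (hβ ?_)
    have e1' := congrFun (congrFun h1 j1) j1
    have e2' := congrFun (congrFun h1 j0) j0
    simp at e1' e2'
    rw [e1', e2']
  have hc : 2 * m ≤ 2 * i := by split_ifs at hm <;> omega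
  rcases le_or_gt a b with hle | hlt
  · have hb3 : b = 3 ∧ a = 2 := by
      have h5 : a * b ≤ a * 3 := by omega
      have h6 := Nat.le_of_mul_le_mul_left h5 (by omega)
      have h7 : a ≤ 3 := by omega
      obtain ⟨t, rfl⟩ := ha
      omega
    obtain ⟨rfl, rfl⟩ := hb3
    split_ifs at hm with he
    · omega
    · have : i = 1 := by
        obtain ⟨t, ht⟩ := Nat.not_even_iff_odd.mp he
        omega
      exact hi1 this
  · have h5 : a * b ≤ 3 * b := by omega
    have h6 := Nat.le_of_mul_le_mul_right h5 (by omega)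
    omega

/-- With `a = 2` every element of order two lies in a conjugate. -/
theorem fixes_two [Fintype F] (hd : 2 * d = 2 * b) (h2 : (2 : F) ≠ 0) {f₁ : (Fin 2 → F) → (Fin 2 → F) → F}
    {f₂ : (Fin b → F) → (Fin b → F) → F} (hf₁ : Cfsg.Geo.IsSymplecticForm f₁) (hf₂ : Cfsg.Geo.IsSymmetricForm f₂)
    (hb : 0 < b) {e : (Fin d ⊕ Fin d) ≃ Fin 2 × Fin b} {P : GL (Fin d ⊕ Fin d) F}
    (hS : Cfsg.Geo.IsTensorFormStructure id (Cfsg.sympForm d F) f₁ f₂ e P) {x : GL (Fin d ⊕ Fin d) F}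
    (hx : x ∈ Cfsg.spGL d F) {z : F}
    (hz : (x : Matrix (Fin d ⊕ Fin d) (Fin d ⊕ Fin d) F) ^ 2 = z • (1 : Matrix (Fin d ⊕ Fin d) (Fin d ⊕ Fin d) F)) :
    ∃ g ∈ Cfsg.spGL d F, g⁻¹ * x * g ∈ Cfsg.Geo.tensorProductSubgroup 2 b e P := by
  classical
  obtain ⟨c, hc, hS⟩ := hS
  obtain rfl : d = b := by omega
  obtain ⟨b, rfl⟩ : ∃ b', d = b' + 1 := ⟨d - 1, by omega⟩
  set J := Matrix.J (Fin (b + 1)) F
  set G1 := Cfsg.Geo.gramMatrix f₁
  set G2 := Cfsg.Geo.gramMatrix f₂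
  have toB : ∀ {n : ℕ} (f : (Fin n → F) → (Fin n → F) → F), Cfsg.Geo.IsBilinearForm f → ∀ u v,
      f u v = u ⬝ᵥ (Cfsg.Geo.gramMatrix f *ᵥ v) := fun {n} f hf u v => by
    let B := LinearMap.mk₂ F f hf.add_left hf.smul_left hf.add_right hf.smul_right
    rw [show Cfsg.Geo.gramMatrix f = LinearMap.BilinForm.toMatrix' B from
      Matrix.ext fun i j => (LinearMap.BilinForm.toMatrix'_apply B i j).symm, ← Matrix.toBilin'_apply',
      Matrix.toBilin'_toMatrix']
    rfl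
  set γ := G1 0 1
  have hG1 : ∀ k l, G1 k l = ![![0, γ], ![-γ, 0]] k l := by
    simp only [Fin.forall_fin_two]
    exact ⟨⟨hf₁.alternating _, rfl⟩, hf₁.skew _ _, hf₁.alternating _⟩
  have hγ : γ ≠ 0 := fun e0 => by
    have hG : G1 = 0 := Matrix.ext fun k l => by rw [hG1, e0]; fin_cases k <;> fin_cases l <;> simp
    obtain ⟨v, hv⟩ := (hf₁.nondegenerate (Pi.single 0 1) (by simp)).2
    rw [toB f₁ hf₁.bilinear, show Cfsg.Geo.gramMatrix f₁ = G1 from rfl, hG, Matrix.zero_mulVec, dotProduct_zero] at hv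
    exact hv rfl
  -- an orthogonal basis of the symmetric factor
  let B2 : LinearMap.BilinForm F (Fin (b + 1) → F) :=
    LinearMap.mk₂ F f₂ hf₂.bilinear.add_left hf₂.bilinear.smul_left hf₂.bilinear.add_right hf₂.bilinear.smul_right
  obtain ⟨α, hα⟩ := FiniteField.exists_nonsquare (F := F) fun e0 => h2 (by
    haveI := ringChar.eq_iff.1 e0; exact CharTwo.two_eq_zero)
  have hnd2 : ∀ v, (∀ y, B2 v y = 0) → v = 0 := fun v hv => by
    by_contra hne
    obtain ⟨y, hy⟩ := (hf₂.nondegenerate v hne).2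
    exact hy (hv y)
  obtain ⟨bb, horth, hdiag, hlast⟩ := CfsgLib.Forms.exists_diagonal_basis_symm h2 B2 ⟨fun u v => hf₂.symm u v⟩ hnd2 hα
    (Module.finrank_fin_fun F)
  let δ : Fin (b + 1) → F := fun j => f₂ (bb j) (bb j)
  have hδ : ∀ j, δ j ≠ 0 := fun j e0 => by
    by_cases hj : j = Fin.last b
    · subst hj
      rcases hlast with h1 | h1
      · exact one_ne_zero (h1.symm.trans e0)
      · exact hα ⟨0, by rw [← h1, zero_mul]; exact e0⟩
    · exact one_ne_zero ((hdiag j hj).symm.trans e0)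
  set R := (Pi.basisFun F (Fin (b + 1))).toMatrix ⇑bb
  set R' := bb.toMatrix ⇑(Pi.basisFun F (Fin (b + 1)))
  have hR : R * R' = 1 := Module.Basis.toMatrix_mul_toMatrix_flip _ _
  have hR' : R' * R = 1 := Module.Basis.toMatrix_mul_toMatrix_flip _ _
  have hRG : Rᵀ * G2 * R = Matrix.diagonal δ := by
    ext i j
    have h1 : (Rᵀ * G2 * R) i j = f₂ (bb i) (bb j) := by
      rw [toB f₂ hf₂.bilinear, Matrix.mul_assoc]
      simp only [Matrix.mul_apply, Matrix.transpose_apply, dotProduct, Matrix.mulVec]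
      rfl
    rw [h1]
    rcases eq_or_ne i j with rfl | hij
    · rw [Matrix.diagonal_apply_eq]
    · rw [Matrix.diagonal_apply_ne _ hij]; exact horth i j hij
  -- the standard frame
  let Pe : Matrix (Fin (b + 1) ⊕ Fin (b + 1)) (Fin 2 × Fin (b + 1)) F := (P : Matrix (Fin (b + 1) ⊕ Fin (b + 1)) (Fin (b + 1) ⊕ Fin (b + 1)) F).submatrix id e.symm
  let Pe' : Matrix (Fin 2 × Fin (b + 1)) (Fin (b + 1) ⊕ Fin (b + 1)) F := ((P⁻¹ : GL (Fin (b + 1) ⊕ Fin (b + 1)) F) : Matrix (Fin (b + 1) ⊕ Fin (b + 1)) (Fin (b + 1) ⊕ Fin (b + 1)) F).submatrix e.symm id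
  have hPe : Pe * Pe' = 1 := by
    simp only [Pe, Pe', Matrix.submatrix_mul_equiv, ← Units.val_mul, mul_inv_cancel, Units.val_one,
      Matrix.submatrix_id_id]
  have hPe' : Pe' * Pe = 1 := by
    rw [← Matrix.submatrix_mul _ _ _ id _ Function.bijective_id, ← Units.val_mul, inv_mul_cancel, Units.val_one,
      Matrix.submatrix_one_equiv]
  have hPJ : Peᵀ * J * Pe = c • (G1 ⊗ₖ G2) := by
    ext p p'
    have h1 := hS (Pi.single p 1) (Pi.single p' 1)
    have hcol : ∀ p : Fin 2 × Fin (b + 1), (P : Matrix (Fin (b + 1) ⊕ Fin (b + 1)) (Fin (b + 1) ⊕ Fin (b + 1)) F) *ᵥ ((Pi.single p 1 : Fin 2 × Fin (b + 1) → F) ∘ e) =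
        fun v => Pe v p := fun p => by
      rw [show ((Pi.single p 1 : Fin 2 × Fin (b + 1) → F) ∘ e) = Pi.single (e.symm p) 1 by
        ext v; simp [Pi.single_apply, Equiv.eq_symm_apply], Matrix.mulVec_single_one]
      rfl
    replace h1 := (congrArg₂ (Cfsg.sympForm (b + 1) F) (hcol p) (hcol p')).symm.trans h1
    rw [Matrix.smul_apply, smul_eq_mul, Matrix.mul_assoc]
    refine (Eq.trans ?_ h1).trans ?_
    · simp only [Matrix.mul_apply, Matrix.transpose_apply, Cfsg.sympForm, dotProduct, Matrix.mulVec]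
      rfl
    · simp [Cfsg.Geo.formOfGram, Pi.single_apply, G1, G2]
  let RR : Matrix (Fin 2 × Fin (b + 1)) (Fin 2 × Fin (b + 1)) F := (1 : Matrix (Fin 2) (Fin 2) F) ⊗ₖ R
  let RR' : Matrix (Fin 2 × Fin (b + 1)) (Fin 2 × Fin (b + 1)) F := (1 : Matrix (Fin 2) (Fin 2) F) ⊗ₖ R'
  set M0 := Pe * RR
  set M0' := RR' * Pe'
  have hM0 : M0 * M0' = 1 := by
    rw [Matrix.mul_assoc, ← Matrix.mul_assoc RR, ← Matrix.mul_kronecker_mul, one_mul, hR, Matrix.one_kronecker_one,
      Matrix.one_mul, hPe]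
  have hM0' : M0' * M0 = 1 := by
    rw [Matrix.mul_assoc, ← Matrix.mul_assoc Pe', hPe', Matrix.one_mul, ← Matrix.mul_kronecker_mul, one_mul, hR',
      Matrix.one_kronecker_one]
  have hgram0 : M0ᵀ * J * M0 = c • (G1 ⊗ₖ Matrix.diagonal δ) := by
    calc M0ᵀ * J * M0 = RRᵀ * (Peᵀ * J * Pe) * RR := by simp [M0, Matrix.transpose_mul, Matrix.mul_assoc]
      _ = c • ((1ᵀ * G1 * 1) ⊗ₖ (Rᵀ * G2 * R)) := by
        rw [hPJ, Matrix.mul_smul, Matrix.smul_mul, ← Matrix.kroneckerMap_transpose, ← Matrix.mul_kronecker_mul,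
          ← Matrix.mul_kronecker_mul]
      _ = _ := by rw [hRG]; simp
  -- the adapted frame
  let ω := CfsgLib.Forms.sympBilin (b + 1) F
  have hA : ω.IsAlt := CfsgLib.Forms.sympBilin_isAlt
  have hnd : ∀ v, (∀ y, ω v y = 0) → v = 0 := fun v h => CfsgLib.Forms.sympBilin_nondegenerate.1 v h
  have hxω : ∀ u v, ω (Matrix.toLin' (x : Matrix (Fin (b + 1) ⊕ Fin (b + 1)) (Fin (b + 1) ⊕ Fin (b + 1)) F) u) (Matrix.toLin' (x : Matrix (Fin (b + 1) ⊕ Fin (b + 1)) (Fin (b + 1) ⊕ Fin (b + 1)) F) v) = ω u v := fun u v => by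
    simp only [ω, CfsgLib.Forms.sympBilin_apply, Matrix.toLin'_apply]
    exact hx u v
  have hxx : ∀ v, Matrix.toLin' (x : Matrix (Fin (b + 1) ⊕ Fin (b + 1)) (Fin (b + 1) ⊕ Fin (b + 1)) F) (Matrix.toLin' (x : Matrix (Fin (b + 1) ⊕ Fin (b + 1)) (Fin (b + 1) ⊕ Fin (b + 1)) F) v) = z • v := fun v => by
    rw [Matrix.toLin'_apply, Matrix.toLin'_apply, Matrix.mulVec_mulVec, ← pow_two, hz, Matrix.smul_mulVec,
      Matrix.one_mulVec]
  have hfin : Module.finrank F ((Fin (b + 1) ⊕ Fin (b + 1)) → F) = 2 * (b + 1) := CfsgLib.Forms.finrank_sympSpace _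
  have hcγ : ∀ j, c * γ * δ j ≠ 0 := fun j => mul_ne_zero (mul_ne_zero hc hγ) (hδ j)
  have hz1 : z * z = 1 := by
    obtain ⟨u, hu⟩ := (CfsgLib.MaxSub.isSymplecticForm_sympForm (m := b + 1) (F := F)).nondegenerate
      (Pi.single (Sum.inl 0) 1) (by simp) |>.2
    have h1 := hxω (Matrix.toLin' (x : Matrix (Fin (b + 1) ⊕ Fin (b + 1)) (Fin (b + 1) ⊕ Fin (b + 1)) F) (Pi.single (Sum.inl 0) 1)) (Matrix.toLin' (x : Matrix (Fin (b + 1) ⊕ Fin (b + 1)) (Fin (b + 1) ⊕ Fin (b + 1)) F) u)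
    rw [hxx, hxx, hxω, map_smul, map_smul, LinearMap.smul_apply, smul_eq_mul, smul_eq_mul] at h1
    simp only [ω, CfsgLib.Forms.sympBilin_apply] at h1
    exact mul_right_cancel₀ hu (by linear_combination h1)
  obtain ⟨u, v, A, S, huu, hvv, huv, hAdet, hSdet, hcols⟩ : ∃ (u v : Fin (b + 1) → (Fin (b + 1) ⊕ Fin (b + 1)) → F) (A : Matrix (Fin 2) (Fin 2) F)
      (S : Fin (b + 1) → F), (∀ i j, ω (u i) (u j) = 0) ∧ (∀ i j, ω (v i) (v j) = 0) ∧
      (∀ i j, ω (u i) (v j) = if i = j then c * γ * δ i else 0) ∧ A.det ≠ 0 ∧ (∀ j, S j ≠ 0) ∧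
      ∀ l j, Matrix.toLin' (x : Matrix (Fin (b + 1) ⊕ Fin (b + 1)) (Fin (b + 1) ⊕ Fin (b + 1)) F) (![u j, v j] l) = ∑ k, (A k l * S j) • ![u j, v j] k := by
    rcases mul_self_eq_one_iff.mp hz1 with h | h
    · obtain ⟨u, v, s, h1, h2', h3, hs, h4⟩ := exists_pair_frame_involution hA hxω h2
        (fun v => by rw [hxx, h, one_smul]) hnd hfin (fun j => c * γ * δ j) hcγ
      refine ⟨u, v, 1, s, h1, h2', h3, by simp, hs, fun l j => ?_⟩
      fin_cases l <;> simp [Fin.sum_univ_two, (h4 j).1, (h4 j).2, Matrix.one_apply]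
    · obtain ⟨u, v, h1, h2', h3, h4⟩ := exists_pair_frame_quarter hA hxω h2
        (fun v => by rw [hxx, h, neg_one_smul]) hnd hfin (fun j => c * γ * δ j) hcγ
      refine ⟨u, v, !![0, -1; 1, 0], fun _ => 1, h1, h2', h3, by simp [Matrix.det_fin_two],
        fun _ => one_ne_zero, fun l j => ?_⟩
      fin_cases l <;> simp [Fin.sum_univ_two, (h4 j).1, (h4 j).2]
  let M : Matrix (Fin (b + 1) ⊕ Fin (b + 1)) (Fin 2 × Fin (b + 1)) F := Matrix.of fun w p => ![u p.2, v p.2] p.1 w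
  have hgram : Mᵀ * J * M = c • (G1 ⊗ₖ Matrix.diagonal δ) := by
    ext ⟨k, i⟩ ⟨l, j⟩
    have h1 : (Mᵀ * J * M) (k, i) (l, j) = ω (![u i, v i] k) (![u j, v j] l) := by
      rw [Matrix.mul_assoc]
      simp only [ω, CfsgLib.Forms.sympBilin_apply, Cfsg.sympForm, Matrix.mul_apply, Matrix.transpose_apply, dotProduct,
        Matrix.mulVec, M, Matrix.of_apply]
      rfl
    rw [h1, Matrix.smul_apply, Matrix.kroneckerMap_apply, hG1, smul_eq_mul, Matrix.diagonal_apply]
    have hvu : ω (v i) (u j) = -(if i = j then c * γ * δ i else 0) := by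
      rw [CfsgLib.LinearElements.pair_alt hA, huv]
      by_cases hij : i = j
      · subst hij; simp
      · simp [hij, Ne.symm hij]
    fin_cases k <;> fin_cases l <;> simp [huu, hvv, huv, hvu] <;> split_ifs <;> ring
  have hxM : (x : Matrix (Fin (b + 1) ⊕ Fin (b + 1)) (Fin (b + 1) ⊕ Fin (b + 1)) F) * M = M * (A ⊗ₖ Matrix.diagonal S) := by
    ext w ⟨l, j⟩
    have h1 := congrFun (hcols l j) w
    rw [Matrix.toLin'_apply] at h1
    refine (show ((x : Matrix (Fin (b + 1) ⊕ Fin (b + 1)) (Fin (b + 1) ⊕ Fin (b + 1)) F) * M) w (l, j) = ((x : Matrix (Fin (b + 1) ⊕ Fin (b + 1)) (Fin (b + 1) ⊕ Fin (b + 1)) F) *ᵥ ![u j, v j] l) w from rfl).trans (h1.trans ?_)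
    simp [Matrix.mul_apply, M, Matrix.kroneckerMap_apply, Fintype.sum_prod_type, Finset.sum_apply, Matrix.diagonal_apply,
      mul_comm, mul_left_comm]
  set g0 := M * M0'
  have hg0 : g0ᵀ * J * g0 = J := by
    calc g0ᵀ * J * g0 = M0'ᵀ * (Mᵀ * J * M) * M0' := by simp [g0, Matrix.transpose_mul, Matrix.mul_assoc]
      _ = (M0 * M0')ᵀ * J * (M0 * M0') := by
        rw [hgram, ← hgram0]; simp [Matrix.transpose_mul, Matrix.mul_assoc]
      _ = J := by simp [hM0]
  have hg0mem : g0 ∈ Matrix.symplecticGroup (Fin (b + 1)) F := SymplecticGroup.mem_iff'.mpr hg0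
  obtain ⟨g, hg, hgv⟩ := exists_spGL_of_mem ⟨g0, hg0mem⟩
  refine ⟨g, hg, mem_tensorProductSubgroup_of (a := A) (b := R * Matrix.diagonal S * R')
    ((Matrix.isUnit_iff_isUnit_det _).mpr (isUnit_iff_ne_zero.mpr hAdet)) ?_ ?_⟩
  · rw [Matrix.isUnit_iff_isUnit_det, Matrix.det_mul_right_comm, hR, Matrix.one_mul, Matrix.det_diagonal,
      isUnit_iff_ne_zero, Finset.prod_ne_zero_iff]
    exact fun j _ => hSdet j
  · have h1 : A ⊗ₖ (R * Matrix.diagonal S * R') = RR * (A ⊗ₖ Matrix.diagonal S) * RR' := by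
      rw [← Matrix.mul_kronecker_mul, ← Matrix.mul_kronecker_mul, one_mul, mul_one]
    have h2' : tensorEquiv e P (A ⊗ₖ (R * Matrix.diagonal S * R')) = M0 * (A ⊗ₖ Matrix.diagonal S) * M0' := by
      rw [h1, tensorEquiv_apply]
      have h3 : ∀ X : Matrix (Fin 2 × Fin (b + 1)) (Fin 2 × Fin (b + 1)) F,
          mat P * X.submatrix e e * mat P⁻¹ = Pe * X * Pe' := fun X => by
        rw [← Matrix.submatrix_id_id (Pe * X * Pe'), Matrix.submatrix_mul _ _ _ e _ e.bijective,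
          Matrix.submatrix_mul _ _ _ e _ e.bijective]
        simp [Pe, Pe', mat]
      rw [h3]
      simp [M0, M0', Matrix.mul_assoc]
    rw [h2']
    show ((g⁻¹ * x * g : GL (Fin (b + 1) ⊕ Fin (b + 1)) F) : Matrix (Fin (b + 1) ⊕ Fin (b + 1)) (Fin (b + 1) ⊕ Fin (b + 1)) F) = _
    rw [mul_assoc, Units.val_mul, Units.val_mul, hgv]
    show ((g⁻¹ : GL (Fin (b + 1) ⊕ Fin (b + 1)) F) : Matrix (Fin (b + 1) ⊕ Fin (b + 1)) (Fin (b + 1) ⊕ Fin (b + 1)) F) * ((x : Matrix (Fin (b + 1) ⊕ Fin (b + 1)) (Fin (b + 1) ⊕ Fin (b + 1)) F) * (M * M0')) = _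
    rw [← Matrix.mul_assoc (x : Matrix (Fin (b + 1) ⊕ Fin (b + 1)) (Fin (b + 1) ⊕ Fin (b + 1)) F), hxM,
      show M * (A ⊗ₖ Matrix.diagonal S) * M0' = g0 * (M0 * (A ⊗ₖ Matrix.diagonal S) * M0') by
        simp only [g0, Matrix.mul_assoc]; rw [← Matrix.mul_assoc M0' M0, hM0', Matrix.one_mul],
      ← Matrix.mul_assoc, show (g0 : Matrix (Fin (b + 1) ⊕ Fin (b + 1)) (Fin (b + 1) ⊕ Fin (b + 1)) F) = (g : Matrix (Fin (b + 1) ⊕ Fin (b + 1)) (Fin (b + 1) ⊕ Fin (b + 1)) F) from hgv.symm, ← Units.val_mul, inv_mul_cancel,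
      Units.val_one, Matrix.one_mul]


/-- Elements of prime order of PSp_n(q), q odd, and the stabilizers of tensor decompositions Sp_a(q) ⊗ O_b(q). Here `T = PSp_{2d}(F)` for a field `F` with `q` elements, `q` odd, `d ≥ 2`, realised through the matrices preserving the standard alternating form `f`; `2d = a·b` with `a` even, `b ≥ 3`, and the bijection `e` and change of basis `P` exhibit `f` as a non-zero scalar multiple of the tensor product of a non-degenerate alternating form `f₁` on `F^a` and a non-degenerate symmetric bilinear form `f₂` on `F^b`; `H` is the subgroup of `T` stabilizing this tensor decomposition (the elements of `T` in the conjugate by `P` of the group of Kronecker products) — a subgroup of type Sp_a(q) ⊗ O^ε_b(q) (maximality is not assumed). Ω is the set of cosets of `H` in `T`, so an element of `T` of prime order `r` (`x ∈ T` with `x^r` scalar, `x` not scalar) fixes a point of Ω exactly when some `T`-conjugate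 of `x` lies in `H`. Let `r` be a prime dividing the index of `H`. Then every element of `T` of order `r` fixes a point of Ω if and only if `r = 2` and `a = 2`. -/
theorem result {F : Type*} [Field F] [Fintype F] {p : ℕ} [Fact p.Prime] [CharP F p] {q : ℕ} (hq : Fintype.card F = q)
    (hodd : Odd q) (d : ℕ) (hd : 2 ≤ d) (a b : ℕ) (hab : 2 * d = a * b) (ha : Even a) (ha2 : 2 ≤ a) (hb : 3 ≤ b)
    (e : (Fin d ⊕ Fin d) ≃ Fin a × Fin b) (P : GL (Fin d ⊕ Fin d) F)
    (f₁ : (Fin a → F) → (Fin a → F) → F) (f₂ : (Fin b → F) → (Fin b → F) → F)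
    (hf₁ : Cfsg.Geo.IsSymplecticForm f₁) (hf₂ : Cfsg.Geo.IsSymmetricForm f₂)
    (hS : Cfsg.Geo.IsTensorFormStructure id (Cfsg.sympForm d F) f₁ f₂ e P)
    (r : ℕ) [Fact r.Prime]
    (hΩ : r ∣ (Cfsg.Geo.tensorProductSubgroup a b e P).relIndex (Cfsg.spGL d F)) :
    (∀ x ∈ Cfsg.spGL d F, (∃ z : F, ((x ^ r : GL (Fin d ⊕ Fin d) F) : Matrix (Fin d ⊕ Fin d) (Fin d ⊕ Fin d) F) = z • (1 : Matrix (Fin d ⊕ Fin d) (Fin d ⊕ Fin d) F)) →
      (∀ z : F, (x : Matrix (Fin d ⊕ Fin d) (Fin d ⊕ Fin d) F) ≠ z • (1 : Matrix (Fin d ⊕ Fin d) (Fin d ⊕ Fin d) F)) →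
      ∃ g ∈ Cfsg.spGL d F, g⁻¹ * x * g ∈ Cfsg.Geo.tensorProductSubgroup a b e P) ↔ (r = 2 ∧ a = 2) := by
  classical
  have hr := (Fact.out : r.Prime)
  have hp := (Fact.out : p.Prime)
  subst hq
  have hp2 : p ≠ 2 := fun e0 => by
    obtain ⟨f, -, hf⟩ := FiniteField.card F p
    rw [hf, e0] at hodd
    exact (Nat.not_even_iff_odd.mpr hodd) ((even_two.pow_of_ne_zero f.pos.ne'))
  have h2 : (2 : F) ≠ 0 := fun e0 => by
    have : ((2 : ℕ) : F) = 0 := by exact_mod_cast e0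
    rw [CharP.cast_eq_zero_iff F p] at this
    exact hp2 ((Nat.prime_dvd_prime_iff_eq hp Nat.prime_two).mp this)
  have hdvd : r ∣ Nat.card (Matrix.symplecticGroup (Fin d) F) := by
    rw [← card_spGL_eq]
    exact hΩ.trans (Subgroup.index_dvd_card _)
  constructor
  · intro hall
    by_contra hrhs
    suffices hbad : ∃ x ∈ Cfsg.spGL d F, (∃ z : F, (x : Matrix (Fin d ⊕ Fin d) (Fin d ⊕ Fin d) F) ^ r = z • 1) ∧
        (∀ z : F, (x : Matrix (Fin d ⊕ Fin d) (Fin d ⊕ Fin d) F) ≠ z • 1) ∧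
        ∀ g ∈ Cfsg.spGL d F, g⁻¹ * x * g ∉ Cfsg.Geo.tensorProductSubgroup a b e P by
      obtain ⟨x, hx, ⟨z, hz⟩, hns, hno⟩ := hbad
      obtain ⟨g, hg, hgm⟩ := hall x hx ⟨z, by rw [Units.val_pow_eq_pow_val]; exact hz⟩ hns
      exact hno g hg hgm
    -- a small rank rules out a conjugate
    have hsmall : ∀ x : GL (Fin d ⊕ Fin d) F, ((x : Matrix (Fin d ⊕ Fin d) (Fin d ⊕ Fin d) F) - 1).rank < b →
        ¬ a ∣ ((x : Matrix (Fin d ⊕ Fin d) (Fin d ⊕ Fin d) F) - 1).rank →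
        ∀ g : GL (Fin d ⊕ Fin d) F, g⁻¹ * x * g ∉ Cfsg.Geo.tensorProductSubgroup a b e P := fun x h1 h2' g hg => by
      rcases rank_dichotomy hg with h | h
      · omega
      · exact h2' h
    have hns : ∀ x : GL (Fin d ⊕ Fin d) F, ((x : Matrix (Fin d ⊕ Fin d) (Fin d ⊕ Fin d) F) - 1).rank < 2 * d →
        (x : Matrix (Fin d ⊕ Fin d) (Fin d ⊕ Fin d) F) ≠ 1 →
        ∀ z : F, (x : Matrix (Fin d ⊕ Fin d) (Fin d ⊕ Fin d) F) ≠ z • 1 := fun x hx hx1 z hz => by
      have hz1 : z ≠ 1 := fun e0 => hx1 (by rw [hz, e0, one_smul])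
      rw [hz, show z • (1 : Matrix (Fin d ⊕ Fin d) (Fin d ⊕ Fin d) F) - 1 = (z - 1) • 1 by rw [sub_smul, one_smul],
        Matrix.rank_smul_of_mem_nonZeroDivisors _ (mem_nonZeroDivisors_of_ne_zero (sub_ne_zero.mpr hz1)),
        Matrix.rank_one, Fintype.card_sum, Fintype.card_fin] at hx
      omega
    haveI : Nonempty (Fin d) := ⟨⟨0, by omega⟩⟩
    by_cases hrp : r = p
    · obtain ⟨v, hv⟩ : ∃ v : Fin d ⊕ Fin d → F, v ≠ 0 := exists_ne 0
      let x := CfsgLib.MaxSub.spTv v (1 : F)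
      have hxv : (x : Matrix (Fin d ⊕ Fin d) (Fin d ⊕ Fin d) F) - 1 = Matrix.vecMulVec v (CfsgLib.MaxSub.leftVec (Cfsg.sympForm d F) v) := by
        refine Matrix.ext_iff_mulVec.mpr fun w => ?_
        rw [Matrix.sub_mulVec, CfsgLib.MaxSub.spTv_mulVec, Matrix.one_mulVec, add_sub_cancel_left, one_mul,
          Matrix.vecMulVec_mulVec, op_smul_eq_smul, CfsgLib.MaxSub.sesq_sympForm.dot_leftVec]
      have hle : ((x : Matrix (Fin d ⊕ Fin d) (Fin d ⊕ Fin d) F) - 1).rank ≤ 1 := hxv ▸ Matrix.rank_vecMulVec_le _ _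
      obtain ⟨w, hw⟩ := (CfsgLib.MaxSub.isSymplecticForm_sympForm (m := d) (F := F)).nondegenerate v hv |>.1
      have hx1 : (x : Matrix (Fin d ⊕ Fin d) (Fin d ⊕ Fin d) F) ≠ 1 := fun e0 => by
        have h3 := CfsgLib.MaxSub.spTv_mulVec v (1 : F) w
        have e0' : ((CfsgLib.MaxSub.spTv v (1 : F)) : Matrix (Fin d ⊕ Fin d) (Fin d ⊕ Fin d) F) = 1 := e0
        rw [e0', Matrix.one_mulVec, one_mul,
          left_eq_add, smul_eq_zero] at h3
        exact h3.elim hw hv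
      have hne0 : ((x : Matrix (Fin d ⊕ Fin d) (Fin d ⊕ Fin d) F) - 1).rank ≠ 0 := fun e0 => hx1 (by
        rw [← sub_eq_zero]
        exact Matrix.toLin'.injective (by
          rw [map_zero]; exact LinearMap.range_eq_bot.mp (Submodule.finrank_eq_zero.mp e0)))
      refine ⟨x, CfsgLib.MaxSub.spTv_mem _ _, ⟨1, ?_⟩, hns x (by omega) hx1,
        fun g _ => hsmall x (by omega) (fun hdv => by have := Nat.le_of_dvd (by omega) hdv; omega) g⟩
      rw [one_smul, show (x : Matrix (Fin d ⊕ Fin d) (Fin d ⊕ Fin d) F) = 1 + ((x : Matrix (Fin d ⊕ Fin d) (Fin d ⊕ Fin d) F) - 1) by abel, hrp,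
        add_pow_char_of_commute _ (Commute.one_left _), one_pow, hxv, show p = (p - 2) + 2 by have := hp.two_le; omega,
        pow_add, pow_two, Matrix.vecMulVec_mul_vecMulVec, CfsgLib.MaxSub.sesq_sympForm.dot_leftVec,
        CfsgLib.Forms.sympForm_self, zero_smul, Matrix.vecMulVec_zero, mul_zero, add_zero]
    by_cases hr2 : r = 2
    · subst hr2
      have ha4 : 3 ≤ a := by
        have : a ≠ 2 := fun e0 => hrhs ⟨rfl, e0⟩
        omega
      obtain ⟨d', rfl⟩ : ∃ d', d = 1 + d' := ⟨d - 1, by omega⟩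
      obtain ⟨x, hx, hxv⟩ := exists_spGL_of_mem (CfsgLib.SpSum.blk (R := F) (finSumFinEquiv (m := 1) (n := d'))
        (⟨-1, by rw [SymplecticGroup.mem_iff]; simp⟩, 1))
      have hd1 : (x : Matrix (Fin (1 + d') ⊕ Fin (1 + d')) (Fin (1 + d') ⊕ Fin (1 + d')) F) - 1 =
          (Matrix.diagonal (Sum.elim (fun _ => (-2 : F)) fun _ => 0) :
            Matrix ((Fin 1 ⊕ Fin 1) ⊕ (Fin d' ⊕ Fin d')) ((Fin 1 ⊕ Fin 1) ⊕ (Fin d' ⊕ Fin d')) F).submatrix
            (CfsgLib.SpSum.shuffle finSumFinEquiv).symm (CfsgLib.SpSum.shuffle finSumFinEquiv).symm := by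
        ext i j
        obtain ⟨i, rfl⟩ := (CfsgLib.SpSum.shuffle (finSumFinEquiv (m := 1) (n := d'))).surjective i
        obtain ⟨j, rfl⟩ := (CfsgLib.SpSum.shuffle (finSumFinEquiv (m := 1) (n := d'))).surjective j
        rw [hxv, Matrix.sub_apply, Matrix.submatrix_apply, Equiv.symm_apply_apply, Equiv.symm_apply_apply,
          Matrix.one_apply]
        show Matrix.reindexAlgEquiv F F _ _ _ _ - _ = _
        rw [Matrix.coe_reindexAlgEquiv, Matrix.reindex_apply, Matrix.submatrix_apply, Equiv.symm_apply_apply,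
          Equiv.symm_apply_apply]
        rcases i with (i | i) | (i | i) <;> rcases j with (j | j) | (j | j) <;>
          simp [Matrix.diagonal_apply, Matrix.one_apply, eq_iff_true_of_subsingleton] <;> norm_num
      have hrk : ((x : Matrix (Fin (1 + d') ⊕ Fin (1 + d')) (Fin (1 + d') ⊕ Fin (1 + d')) F) - 1).rank = 2 := by
        rw [hd1, Matrix.rank_submatrix, Matrix.rank_diagonal, Fintype.card_subtype,
          show (Finset.univ.filter fun v : (Fin 1 ⊕ Fin 1) ⊕ (Fin d' ⊕ Fin d') =>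
              Sum.elim (fun _ => (-2 : F)) (fun _ => 0) v ≠ 0) = Finset.univ.map Function.Embedding.inl by
            ext v; rcases v with v | v <;> simp [h2],
          Finset.card_map]
        rfl
      refine ⟨x, hx, ⟨1, ?_⟩, hns x (by omega) (fun e0 => by rw [e0, sub_self, Matrix.rank_zero] at hrk; omega),
        fun g _ => hsmall x (by omega) (fun hdv => by have := Nat.le_of_dvd (by omega) hdv; omega) g⟩
      rw [one_smul, hxv, ← SubmonoidClass.coe_pow, ← map_pow, show ((⟨-1, _⟩, 1) :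
        ↥(Matrix.symplecticGroup (Fin 1) F) × ↥(Matrix.symplecticGroup (Fin d') F)) ^ 2 = 1 from
          Prod.ext (Subtype.ext (by simp)) (by simp), map_one, OneMemClass.coe_one]
    obtain ⟨m, hm0, hmd, hm, h, hh, hh1⟩ := exists_symp_atom hrp hdvd
    obtain ⟨k, rfl⟩ : ∃ k, d = m + k := ⟨d - m, by omega⟩
    obtain ⟨x, hx, hxv⟩ := exists_spGL_of_mem (CfsgLib.SpSum.blk (finSumFinEquiv (m := m) (n := k)) (h, 1))
    refine ⟨x, hx, ⟨1, ?_⟩, fun z hz => ?_,
      fun g _ => no_conj_atom hr2 hrp hab ha ha2 hb rfl hm h hh hh1 _ hxv⟩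
    · rw [one_smul, hxv, ← SubmonoidClass.coe_pow, ← map_pow, show (h, (1 : ↥(Matrix.symplecticGroup (Fin k) F))) ^ r = 1 from
        Prod.ext hh (one_pow r), map_one, OneMemClass.coe_one]
    · -- a scalar would be `1` on the second block or the conjugate of a scalar
      by_cases hz1 : z = 1
      · apply hh1
        have h3 : CfsgLib.SpSum.blk (finSumFinEquiv (m := m) (n := k)) (h, 1) = 1 :=
          Subtype.ext (by rw [← hxv, hz, hz1, one_smul]; rfl)
        exact congrArg Prod.fst (CfsgLib.SpSum.blk_injective _ (h3.trans (map_one _).symm))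
      · refine no_conj_atom hr2 hrp hab ha ha2 hb rfl hm h hh hh1 _ hxv (g := 1) (e := e) (P := P) ?_
        have hz0 : z ≠ 0 := fun e0 => x.ne_zero (by rw [hz, e0, zero_smul])
        rw [inv_one, one_mul, mul_one]
        refine mem_tensorProductSubgroup_of (a := z • 1) (b := 1) ?_ isUnit_one ?_
        · rw [Matrix.isUnit_iff_isUnit_det, Matrix.det_smul, Matrix.det_one, mul_one]
          exact (IsUnit.mk0 _ hz0).pow _
        · rw [Matrix.smul_kronecker, Matrix.one_kronecker_one, map_smul, map_one]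
          exact hz
  · rintro ⟨rfl, rfl⟩ x hx ⟨z, hz⟩ -
    exact fixes_two (b := b) hab h2 hf₁ hf₂ (by omega) hS hx (by rw [← Units.val_pow_eq_pow_val]; exact hz)

end Cfsg.Agent.S5980
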