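import Cfsg.Statements.S5981
import Cfsg.Agent.LinearElements.TwistedModels
import Cfsg.Agent.LinearElements.OrthType
import Cfsg.Agent.LinearElements.NonsingularPoints
import Cfsg.Agent.AschbacherQuad.Basic
-- import your own Cfsg.Agent.* helpers here

set_option autoImplicit false
open scoped MatrixGroups
open Cfsg

open Matrix CfsgLib.Twist

namespace Cfsg.Agent.S5981

variable {F : Type*} [Field F] {n : ℕ}

theorem map_id_mat {m : Type*} (A : Matrix m m F) : A.map (RingHom.id F) = A := Matrix.ext fun _ _ => rfl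

/-- Similitudes in terms of the Gram matrix. -/
theorem mem_similarity_iff (h2 : (2 : F) ≠ 0) (Q : QuadraticForm F (Fin n → F)) (y : GL (Fin n) F) :
    y ∈ Cfsg.Geo.quadSimilarityGroup ⇑Q ↔
      Scales (RingHom.id F) (CfsgLib.FormDiscr.gram Q) (y : Matrix (Fin n) (Fin n) F) := by
  classical
  have hb : ∀ c : F, (∀ v, Q ((y : Matrix (Fin n) (Fin n) F) *ᵥ v) = c * Q v) ↔
      (y : Matrix (Fin n) (Fin n) F)ᵀ * CfsgLib.FormDiscr.gram Q * (y : Matrix (Fin n) (Fin n) F) =
        c • CfsgLib.FormDiscr.gram Q := by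
    intro c
    set L := Matrix.toLin' (y : Matrix (Fin n) (Fin n) F) with hL
    have e : LinearMap.toMatrix₂' F (Q.polarBilin.compl₁₂ L L) =
        (y : Matrix (Fin n) (Fin n) F)ᵀ * CfsgLib.FormDiscr.gram Q * (y : Matrix (Fin n) (Fin n) F) := by
      rw [LinearMap.toMatrix₂'_compl₁₂, hL, LinearMap.toMatrix'_toLin', CfsgLib.FormDiscr.gram_eq]
    constructor
    · intro h
      rw [← e, CfsgLib.FormDiscr.gram_eq, ← map_smul]
      congr 1
      refine LinearMap.ext₂ fun u v => ?_
      simp [hL, QuadraticMap.polar, ← Matrix.mulVec_add, h, mul_sub]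
    · intro h v
      have hbl : Q.polarBilin.compl₁₂ L L = c • Q.polarBilin := by
        refine (LinearMap.toMatrix₂' F).injective ?_
        rw [e, h, map_smul, ← CfsgLib.FormDiscr.gram_eq]
      have := LinearMap.congr_fun₂ hbl v v
      simp only [LinearMap.compl₁₂_apply, hL, Matrix.toLin'_apply, QuadraticMap.polarBilin_apply_apply,
        QuadraticMap.polar_self, LinearMap.smul_apply, smul_eq_mul, nsmul_eq_mul, Nat.cast_ofNat] at this
      exact mul_left_cancel₀ h2 (by linear_combination this)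
  constructor
  · rintro ⟨c, hc⟩
    exact ⟨c, c.ne_zero, by rw [map_id_mat]; exact (hb c).mp hc⟩
  · rintro ⟨τ, hτ, h⟩
    rw [map_id_mat] at h
    exact ⟨Units.mk0 τ hτ, (hb τ).mpr h⟩

theorem gram_symm (Q : QuadraticForm F (Fin n → F)) :
    (CfsgLib.FormDiscr.gram Q)ᵀ = CfsgLib.FormDiscr.gram Q := Matrix.ext fun i j => by
  simp [CfsgLib.FormDiscr.gram, QuadraticMap.polar_comm]

theorem mem_sl_iff {g : GL (Fin n) F} :
    g ∈ Cfsg.Geo.specialLinear (Fin n) F ↔ Matrix.GeneralLinearGroup.det g = 1 := MonoidHom.mem_ker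

/-- A normal form with a symmetric scaled matrix of the right square class gives a fixed point. -/
theorem fixes_of_model [Fintype F] (h2 : (2 : F) ≠ 0) (Q : QuadraticForm F (Fin n → F))
    (hQ : Q.polarBilin.Nondegenerate) {κ : Type*} [Fintype κ] [DecidableEq κ] (x : GL (Fin n) F)
    (h : Matrix (Fin n) κ F) (h' : Matrix κ (Fin n) F) (hh' : h * h' = 1) (h'h : h' * h = 1) (D M : Matrix κ κ F)
    (hx : (x : Matrix (Fin n) (Fin n) F) * h = h * D) {τ : F} (hτ : τ ≠ 0) (hD : Dᵀ * M * D = τ • M)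
    (hMs : Mᵀ = M) (hM : M.det ≠ 0) (hsq : IsSquare ((CfsgLib.FormDiscr.gram Q).det * M.det))
    (hC : ∀ δ : F, δ ≠ 0 → ∃ C : Matrix κ κ F, C * D = D * C ∧ C.det = δ) :
    ∃ g ∈ Cfsg.Geo.specialLinear (Fin n) F, g⁻¹ * x * g ∈ Cfsg.Geo.quadSimilarityGroup ⇑Q := by
  obtain ⟨u, hu, hdet⟩ := det_congr_rect (σ := RingHom.id F) h' h hh' h'h M
  obtain ⟨g, hg⟩ := exists_congr_symm h2 (gram_symm Q) (M := h'ᵀ * M * h'.map (RingHom.id F))
    (by
      rw [show h'.map (RingHom.id F) = h' from Matrix.ext fun _ _ => rfl, Matrix.transpose_mul, Matrix.transpose_mul,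
        Matrix.transpose_transpose, hMs, Matrix.mul_assoc])
    (CfsgLib.FormDiscr.gram_det_ne_zero Q hQ)
    (by rw [hdet, RingHom.id_apply]; exact mul_ne_zero (mul_ne_zero hu hu) hM)
    (by
      obtain ⟨s, hs⟩ := hsq
      exact ⟨u * s, by rw [hdet, RingHom.id_apply]; linear_combination u ^ 2 * hs⟩)
  obtain ⟨P, hP, hs⟩ := exists_conj_scales (σ := RingHom.id F) x h h' hh' h'h D M hx hτ
    (by rw [map_id_mat]; exact hD) hM hg hC
  exact ⟨P, mem_sl_iff.mpr hP, (mem_similarity_iff h2 Q _).mpr hs⟩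

/-- Involutions. -/
theorem fixes_involution [Fintype F] (h2 : (2 : F) ≠ 0) (hn : 3 ≤ n) (Q : QuadraticForm F (Fin n → F))
    (hQ : Q.polarBilin.Nondegenerate) (x : GL (Fin n) F) (hx : Matrix.GeneralLinearGroup.det x = 1) {z : F}
    (hz : ((x ^ 2 : GL (Fin n) F) : Matrix (Fin n) (Fin n) F) = z • (1 : Matrix (Fin n) (Fin n) F)) :
    ∃ g ∈ Cfsg.Geo.specialLinear (Fin n) F, g⁻¹ * x * g ∈ Cfsg.Geo.quadSimilarityGroup ⇑Q := by
  classical
  rw [Units.val_pow_eq_pow_val] at hz
  have hx1 : (x : Matrix (Fin n) (Fin n) F).det = 1 := congrArg Units.val hx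
  have hz0 : z ≠ 0 := fun e => by
    haveI : Nonempty (Fin n) := ⟨⟨0, by omega⟩⟩
    have := congrArg Matrix.det hz
    rw [Matrix.det_pow, hx1, one_pow, e, zero_smul, Matrix.det_zero] at this
    exact one_ne_zero this
  set G := (CfsgLib.FormDiscr.gram Q).det with hG
  have hG0 : G ≠ 0 := CfsgLib.FormDiscr.gram_det_ne_zero Q hQ
  by_cases hsq : IsSquare z
  · obtain ⟨μ, rfl⟩ := hsq
    have hμ : μ ≠ 0 := fun e => hz0 (by rw [e, mul_zero])
    have hζ : IsPrimitiveRoot (-1 : F) 2 := IsPrimitiveRoot.mk_of_lt _ two_pos (by norm_num) fun l h0 hl => by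
      obtain rfl : l = 1 := by omega
      rw [pow_one]
      exact fun e => h2 (by linear_combination -e)
    obtain ⟨h, h', l, e1, e2, e3, hl⟩ := exists_eigen_frame (r := 2) two_pos (by exact_mod_cast h2) hζ hμ
      (x := (x : Matrix (Fin n) (Fin n) F)) (by rw [hz, sq])
    let i₀ : Fin n := ⟨0, by omega⟩
    have hll : ∀ i, l i * l i = μ * μ := fun i => by
      obtain ⟨j, -, hj⟩ := hl i
      rw [hj, mul_mul_mul_comm, ← mul_pow]
      simp
    refine fixes_of_model h2 Q hQ x h h' e1 e2 (Matrix.diagonal l) (Matrix.diagonal (Function.update 1 i₀ G)) e3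
      (mul_ne_zero hμ hμ) ?_ (Matrix.diagonal_transpose _) ?_ ?_ (fun δ _ => exists_centralizer_diag i₀ l)
    · rw [Matrix.diagonal_transpose, Matrix.diagonal_mul_diagonal, Matrix.diagonal_mul_diagonal,
        ← Matrix.diagonal_smul]
      congr 1
      funext i
      rw [Pi.smul_apply, smul_eq_mul, ← hll i]
      ring
    · rw [Matrix.det_diagonal, Finset.prod_ne_zero_iff]
      intro i _
      rw [Function.update_apply]
      split <;> simp [hG0]
    · rw [Matrix.det_diagonal, Finset.prod_eq_single i₀ (fun i _ hi => by simp [hi])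
        (fun h => absurd (Finset.mem_univ _) h), Function.update_self]
      exact ⟨G, rfl⟩
  · obtain ⟨b, h, h', hb, e1, e2, e3⟩ := exists_pair_frame hz0 hsq hz
    have hb0 : 0 < b := by omega
    obtain ⟨α, β, hab⟩ := CfsgLib.Forms.exists_diag_binary h2 hz0 (neg_ne_zero.mpr (one_ne_zero (α := F))) (G * z ^ (b - 1))
    let N : Fin b → Matrix (Fin 2) (Fin 2) F := Function.update (fun _ => !![1, 0; 0, z]) ⟨0, hb0⟩ !![α, β; β, z * α]
    have hN : (Matrix.blockDiagonal N).det = (z * α ^ 2 - β ^ 2) * z ^ (b - 1) := by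
      rw [Matrix.det_blockDiagonal, ← Finset.mul_prod_erase _ _ (Finset.mem_univ (⟨0, hb0⟩ : Fin b)),
        Finset.prod_congr rfl (g := fun _ => z) fun i hi => by simp [N, Finset.ne_of_mem_erase hi]]
      simp [N]
      ring_nf
      simp
    refine fixes_of_model h2 Q hQ x h h' e1 e2 _ (Matrix.blockDiagonal N) e3 hz0 ?_ ?_ ?_ ?_
      (fun δ _ => exists_centralizer_pair h2 hb0 hz0 δ)
    · rw [Matrix.blockDiagonal_transpose, ← Matrix.blockDiagonal_mul, ← Matrix.blockDiagonal_mul,
        ← Matrix.blockDiagonal_smul]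
      congr 1
      funext i
      rw [Pi.smul_apply]
      by_cases hi : i = ⟨0, hb0⟩
      · subst hi
        simp only [N, Function.update_self]
        ext a c
        fin_cases a <;> fin_cases c <;> simp [Matrix.mul_apply, Fin.sum_univ_two] <;> ring
      · simp only [N, Function.update_of_ne hi]
        ext a c
        fin_cases a <;> fin_cases c <;> simp [Matrix.mul_apply, Fin.sum_univ_two]
    · rw [Matrix.blockDiagonal_transpose]
      congr 1
      funext i
      by_cases hi : i = ⟨0, hb0⟩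
      · subst hi
        simp only [N, Function.update_self]
        ext a c
        fin_cases a <;> fin_cases c <;> simp
      · simp only [N, Function.update_of_ne hi]
        ext a c
        fin_cases a <;> fin_cases c <;> simp
    · rw [hN]
      refine mul_ne_zero ?_ (pow_ne_zero _ hz0)
      rw [show z * α ^ 2 - β ^ 2 = G * z ^ (b - 1) by linear_combination hab]
      exact mul_ne_zero hG0 (pow_ne_zero _ hz0)
    · rw [hN, show z * α ^ 2 - β ^ 2 = G * z ^ (b - 1) by linear_combination hab]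
      exact ⟨G * z ^ (b - 1), by ring⟩

/-- The exceptional primes. -/
theorem fixes_exceptional [Fintype F] (h2 : (2 : F) ≠ 0) (Q : QuadraticForm F (Fin n → F))
    (hQ : Q.polarBilin.Nondegenerate) {r : ℕ} [Fact r.Prime] (hr : r = 3 ∨ r = 5) (hn : n = r)
    (hv : padicValNat r (Fintype.card F - 1) = 1) (x : GL (Fin n) F) (hx : Matrix.GeneralLinearGroup.det x = 1)
    {z : F} (hz : ((x ^ r : GL (Fin n) F) : Matrix (Fin n) (Fin n) F) = z • (1 : Matrix (Fin n) (Fin n) F)) :
    ∃ g ∈ Cfsg.Geo.specialLinear (Fin n) F, g⁻¹ * x * g ∈ Cfsg.Geo.quadSimilarityGroup ⇑Q := by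
  classical
  obtain ⟨h, h', d, M, τ, e1, e2, e3, hτ, hD, hM, hMs, -⟩ :=
    exists_pairing_model (σ := RingHom.id F) hr hn hv (fun a _ => rfl) x hx hz
  set c := (CfsgLib.FormDiscr.gram Q).det * M.det with hc
  have hc0 : c ≠ 0 := mul_ne_zero (CfsgLib.FormDiscr.gram_det_ne_zero Q hQ) hM
  rw [map_id_mat] at hD
  refine fixes_of_model h2 Q hQ x h h' e1 e2 (Matrix.diagonal d) (c • M) e3 hτ ?_ ?_ ?_ ?_
    (fun δ _ => exists_centralizer_diag ⟨0, by omega⟩ d)
  · rw [Matrix.mul_smul, Matrix.smul_mul, hD, smul_comm]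
  · rw [Matrix.transpose_smul, hMs]
  · rw [Matrix.det_smul]
    exact mul_ne_zero (pow_ne_zero _ hc0) hM
  · rw [Matrix.det_smul, Fintype.card_fin,
      show (CfsgLib.FormDiscr.gram Q).det * (c ^ n * M.det) = c ^ (n + 1) by rw [pow_succ, hc]; ring]
    obtain ⟨k, hk⟩ : Even (n + 1) := by rcases hr with rfl | rfl <;> subst hn <;> decide
    exact ⟨c ^ k, by rw [← pow_add, ← hk]⟩

/-- The transvection. -/
theorem counter_unipotent {p : ℕ} [Fact p.Prime] [CharP F p] (hp : p ≠ 2) (hn : 3 ≤ n) :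
    ∃ x : GL (Fin n) F, Matrix.GeneralLinearGroup.det x = 1 ∧
      (∃ z : F, ((x ^ p : GL (Fin n) F) : Matrix (Fin n) (Fin n) F) = z • (1 : Matrix (Fin n) (Fin n) F)) ∧
      (∀ z : F, (x : Matrix (Fin n) (Fin n) F) ≠ z • (1 : Matrix (Fin n) (Fin n) F)) ∧
      ∀ G : Matrix (Fin n) (Fin n) F, G.det ≠ 0 → Gᵀ = G → ∀ P : GL (Fin n) F,
        ¬ Scales (RingHom.id F) G ((P⁻¹ * x * P : GL (Fin n) F) : Matrix (Fin n) (Fin n) F) := by
  classical
  haveI : Nonempty (Fin n) := ⟨⟨0, by omega⟩⟩
  let i₁ : Fin n := ⟨0, by omega⟩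
  let i₂ : Fin n := ⟨1, by omega⟩
  have h12 : i₁ ≠ i₂ := by simp [i₁, i₂]
  let E : Matrix (Fin n) (Fin n) F := Matrix.single i₂ i₁ 1
  have hEE : E * E = 0 := by simp [E, h12]
  have hdet : (1 + E).det = 1 := Matrix.det_transvection_of_ne i₂ i₁ h12.symm 1
  let x : GL (Fin n) F := Matrix.GeneralLinearGroup.mkOfDetNeZero (1 + E) (by rw [hdet]; exact one_ne_zero)
  have hx : (x : Matrix (Fin n) (Fin n) F) = 1 + E := rfl
  have hp2 : 2 ≤ p := (Fact.out : p.Prime).two_le
  have hpow : (1 + E) ^ p = 1 := by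
    rw [add_pow_char_of_commute _ (Commute.one_left E), one_pow, pow_eq_zero_of_le hp2 (by rw [sq, hEE]), add_zero]
  refine ⟨x, Units.ext hdet, ⟨1, by rw [Units.val_pow_eq_pow_val, hx, hpow, one_smul]⟩, fun z hz => ?_,
    fun G hG hGs P hP => ?_⟩
  · have := congrFun (congrFun hz i₂) i₁
    simp [hx, E, h12.symm] at this
  · obtain ⟨M, τ, hM, hτ, hMx, hMsym⟩ := exists_form_of_conj hG hP
    have hMs : Mᵀ = M := by
      have := hMsym (by rw [map_id_mat]; exact hGs) (fun a => rfl)
      rwa [map_id_mat] at this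
    obtain rfl : τ = 1 := frobenius_inj F p (by
      rw [frobenius_def, frobenius_def, multiplier_pow hM hMx (z := 1) (r := p) (by rw [hx, hpow, one_smul]),
        map_one, one_mul, one_pow])
    rw [map_id_mat, one_smul, hx, Matrix.transpose_add, Matrix.transpose_one] at hMx
    have hrel : ∀ a c, (Eᵀ * M) a c + (M * E) a c + (Eᵀ * M * E) a c = 0 := fun a c => by
      have := congrFun (congrFun hMx a) c
      simp only [Matrix.add_mul, Matrix.mul_add, Matrix.one_mul, Matrix.mul_one, Matrix.add_apply] at this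
      linear_combination this
    have hsymm : ∀ a c, M a c = M c a := fun a c => by
      conv_lhs => rw [← hMs]
      rfl
    have e11 := hrel i₁ i₁
    have e12 := hrel i₁ i₂
    simp [E, Matrix.transpose_single, Matrix.mul_apply, Matrix.single_apply, Ne.symm h12, h12] at e11 e12
    have hrow : ∀ c, M i₂ c = 0 := fun c => by
      by_cases hc : c = i₁
      · subst hc
        have h2 : (2 : F) ≠ 0 := Ring.two_ne_zero (by rw [ringChar.eq F p]; exact hp)
        rw [hsymm i₁ i₂] at e11
        exact (mul_eq_zero.mp (show (2 : F) * M i₂ i₁ = 0 by linear_combination e11 - e12)).resolve_left h2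
      · have e := hrel i₁ c
        simpa [E, Matrix.transpose_single, Matrix.mul_apply, Matrix.single_apply, Ne.symm hc] using e
    exact hM (Matrix.det_eq_zero_of_row_eq_zero i₂ hrow)

/-- A fixed-point-free similitude of odd prime order divides the number of non-zero singular vectors. -/
theorem counter_fixedPointFree [Fintype F] {p : ℕ} [Fact p.Prime] [CharP F p] {r : ℕ} [Fact r.Prime] (hn : 0 < n)
    (hr1 : ¬ r ∣ Fintype.card F - 1) (hr : r ∣ Fintype.card F ^ n - 1) (Q : QuadraticForm F (Fin n → F))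
    (hzero : ¬ r ∣ Nat.card {v // Q v = 0} - 1) :
    ∃ x : GL (Fin n) F, Matrix.GeneralLinearGroup.det x = 1 ∧
      (∃ z : F, ((x ^ r : GL (Fin n) F) : Matrix (Fin n) (Fin n) F) = z • (1 : Matrix (Fin n) (Fin n) F)) ∧
      (∀ z : F, (x : Matrix (Fin n) (Fin n) F) ≠ z • (1 : Matrix (Fin n) (Fin n) F)) ∧
      ∀ P : GL (Fin n) F, P⁻¹ * x * P ∉ Cfsg.Geo.quadSimilarityGroup ⇑Q := by
  classical
  obtain ⟨A, hA, hfix⟩ := CfsgLib.LinearElements.exists_fixedPointFree (p := p) hn hr
  have hroot : ∀ a : F, a ^ r = 1 → a = 1 := by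
    intro a ha
    have hrp' := (Fact.out : r.Prime)
    have ha0 : a ≠ 0 := fun h => by simp [h, hrp'.ne_zero] at ha
    rcases (Nat.dvd_prime hrp').mp (orderOf_dvd_of_pow_eq_one ha) with h | h
    · exact orderOf_eq_one_iff.mp h
    · exact absurd (h ▸ orderOf_dvd_of_pow_eq_one (FiniteField.pow_card_sub_one_eq_one a ha0)) hr1
  have hdet : A.det = 1 := hroot _ (by rw [← Matrix.det_pow, hA, Matrix.det_one])
  let x : GL (Fin n) F := Matrix.GeneralLinearGroup.mkOfDetNeZero A (by rw [hdet]; exact one_ne_zero)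
  have hx : (x : Matrix (Fin n) (Fin n) F) = A := rfl
  haveI : Nonempty (Fin n) := ⟨⟨0, hn⟩⟩
  refine ⟨x, Units.ext hdet, ⟨1, by rw [Units.val_pow_eq_pow_val, hx, hA, one_smul]⟩, fun z hz => ?_, fun P hP => ?_⟩
  · rw [hx] at hz
    have hz1 : z = 1 := hroot z (by
      have := congrArg (fun M : Matrix (Fin n) (Fin n) F => M ^ r) hz
      simp only [hA, smul_pow, one_pow] at this
      have h0 := congrFun (congrFun this ⟨0, hn⟩) ⟨0, hn⟩
      simpa using h0.symm)
    have : Pi.single (⟨0, hn⟩ : Fin n) (1 : F) = 0 := hfix _ (by rw [hz, hz1, one_smul, Matrix.one_mulVec])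
    simpa using congrFun this ⟨0, hn⟩
  · set y := P⁻¹ * x * P with hy
    have hyr : y ^ r = 1 := by
      rw [hy, show P⁻¹ * x * P = P⁻¹ * x * (P⁻¹)⁻¹ by rw [inv_inv], conj_pow,
        show x ^ r = 1 from Units.ext (by rw [Units.val_pow_eq_pow_val, hx, hA, Units.val_one]), mul_one,
        mul_inv_cancel]
    have hyfix : ∀ v, (y : Matrix (Fin n) (Fin n) F) *ᵥ v = v → v = 0 := fun v hv => by
      have e : (x : Matrix (Fin n) (Fin n) F) *ᵥ ((P : Matrix (Fin n) (Fin n) F) *ᵥ v) =
          (P : Matrix (Fin n) (Fin n) F) *ᵥ v := by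
        conv_rhs => rw [← hv]
        rw [Matrix.mulVec_mulVec, Matrix.mulVec_mulVec, ← Units.val_mul, ← Units.val_mul, hy]
        congr 2
        group
      have h0 := congrArg (fun w => ((P⁻¹ : GL (Fin n) F) : Matrix (Fin n) (Fin n) F) *ᵥ w) (hfix _ e)
      simpa [Matrix.mulVec_mulVec, ← Units.val_mul] using h0
    obtain ⟨c, hc⟩ := hP
    have hr' := (Fact.out : r.Prime)
    -- the zero set as a set with a fixed-point-free action away from zero
    let S := {v : Fin n → F // Q v = 0}
    let act : Equiv.Perm S :=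
      { toFun := fun v => ⟨(y : Matrix (Fin n) (Fin n) F) *ᵥ v.1, by rw [hc, v.2, mul_zero]⟩
        invFun := fun v => ⟨((y⁻¹ : GL (Fin n) F) : Matrix (Fin n) (Fin n) F) *ᵥ v.1, by
          have h := hc (((y⁻¹ : GL (Fin n) F) : Matrix (Fin n) (Fin n) F) *ᵥ v.1)
          rw [Matrix.mulVec_mulVec, ← Units.val_mul, mul_inv_cancel, Units.val_one, Matrix.one_mulVec, v.2] at h
          exact (mul_eq_zero.mp h.symm).resolve_left c.ne_zero⟩
        left_inv := fun v => Subtype.ext (by
          show ((y⁻¹ : GL (Fin n) F) : Matrix (Fin n) (Fin n) F) *ᵥ ((y : Matrix (Fin n) (Fin n) F) *ᵥ v.1) = v.1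
          rw [Matrix.mulVec_mulVec, ← Units.val_mul, inv_mul_cancel, Units.val_one, Matrix.one_mulVec])
        right_inv := fun v => Subtype.ext (by
          show (y : Matrix (Fin n) (Fin n) F) *ᵥ (((y⁻¹ : GL (Fin n) F) : Matrix (Fin n) (Fin n) F) *ᵥ v.1) = v.1
          rw [Matrix.mulVec_mulVec, ← Units.val_mul, mul_inv_cancel, Units.val_one, Matrix.one_mulVec]) }
    have hact : act ^ r ^ 1 = 1 := by
      have hk : ∀ (k : ℕ) (v : S), ((act ^ k) v).1 = ((y ^ k : GL (Fin n) F) : Matrix (Fin n) (Fin n) F) *ᵥ v.1 := by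
        intro k
        induction k with
        | zero => intro v; simp
        | succ k ih =>
          intro v
          rw [pow_succ', Equiv.Perm.mul_apply, pow_succ', Units.val_mul, ← Matrix.mulVec_mulVec, ← ih]
          rfl
      rw [pow_one]
      exact Equiv.ext fun v => Subtype.ext (by rw [hk, hyr]; simp)
    haveI := Fintype.ofFinite S
    have hsupp : act.supportᶜ = {⟨0, map_zero Q⟩} := by
      ext v
      simp only [Finset.mem_compl, Equiv.Perm.mem_support, not_not, Finset.mem_singleton]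
      constructor
      · intro h
        exact Subtype.ext (hyfix _ (congrArg Subtype.val h))
      · rintro rfl
        refine Subtype.ext ?_
        show (y : Matrix (Fin n) (Fin n) F) *ᵥ (0 : Fin n → F) = 0
        exact Matrix.mulVec_zero _
    have hmod := Equiv.Perm.card_compl_support_modEq (p := r) (n := 1) hact
    rw [hsupp, Finset.card_singleton] at hmod
    refine hzero ?_
    rw [Nat.card_eq_fintype_card]
    exact (Nat.modEq_iff_dvd' (Fintype.card_pos_iff.mpr ⟨⟨0, map_zero Q⟩⟩)).mp hmod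


/-- Elements of prime order of PSL_n(q), q odd, and the subgroups of orthogonal type. Here `T = PSL_n(F)` for a field `F` with `q` elements, `q` odd, `n ≥ 3`; `Q` is a non-degenerate quadratic form on `F^n` (of either type when `n` is even) and `H` is the subgroup of matrices of determinant 1 that preserve `Q` up to a scalar — a subgroup of type O^ε_n(q) (maximality is not assumed); Ω is the set of cosets of `H` in `T`, so an element of `T` of prime order `r` (a matrix `x` of determinant 1 with `x^r` scalar, `x` not scalar) fixes a point of Ω exactly when some conjugate of `x` by a matrix of determinant 1 preserves `Q` up to a scalar. Let `r` be a prime dividing the index of `H`, with `(n, r) ≠ (6, 3)`. Then every element of `T` of order `r` fixes a point of Ω if and only if `r = 2`, or `r ∈ {3, 5}`, `n = r` and `(q − 1)_r = r` (the `r`-part of `q − 1` is exactly `r`). The case `(n, r) = (6, 3)` is not covered by this statement. -/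
theorem result {F : Type*} [Field F] [Fintype F] {p : ℕ} [Fact p.Prime] [CharP F p] {q : ℕ} (hq : Fintype.card F = q)
    (hodd : Odd q) (n : ℕ) (hn : 3 ≤ n) (Q : (Fin n → F) → F) (hQ : Cfsg.Geo.IsNondegenerateQuadraticForm Q)
    (r : ℕ) [Fact r.Prime] (hgap : ¬ (n = 6 ∧ r = 3))
    (hΩ : r ∣ (Cfsg.Geo.quadSimilarityGroup Q).relIndex (Cfsg.Geo.specialLinear (Fin n) F)) :
    (∀ x ∈ Cfsg.Geo.specialLinear (Fin n) F, (∃ z : F, ((x ^ r : GL (Fin n) F) : Matrix (Fin n) (Fin n) F) = z • (1 : Matrix (Fin n) (Fin n) F)) →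
      (∀ z : F, (x : Matrix (Fin n) (Fin n) F) ≠ z • (1 : Matrix (Fin n) (Fin n) F)) →
      ∃ g ∈ Cfsg.Geo.specialLinear (Fin n) F, g⁻¹ * x * g ∈ Cfsg.Geo.quadSimilarityGroup Q) ↔
    (r = 2 ∨ ((r = 3 ∨ r = 5) ∧ n = r ∧ padicValNat r (q - 1) = 1)) := by
  subst hq
  classical
  let QQ := CfsgLib.AschbacherQuad.quadForm hQ
  have hQQ : ⇑QQ = Q := CfsgLib.AschbacherQuad.coe_quadForm hQ
  have hnd : QQ.polarBilin.Nondegenerate := CfsgLib.AschbacherQuad.quadForm_nondegenerate hQ
  rw [← hQQ] at hΩ ⊢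
  have hp2 : p ≠ 2 := fun e => by
    subst e
    obtain ⟨⟨k, hk⟩, -, hc⟩ := FiniteField.card F 2
    rw [hc] at hodd
    exact (Nat.not_even_iff_odd.mpr hodd) ((Nat.even_pow' (by simp; omega)).mpr even_two)
  have h2 : (2 : F) ≠ 0 := Ring.two_ne_zero (by rw [ringChar.eq F p]; exact hp2)
  have hr := (Fact.out : r.Prime)
  constructor
  · intro h
    by_contra hno
    have hbad : ∃ x : GL (Fin n) F, Matrix.GeneralLinearGroup.det x = 1 ∧
        (∃ z : F, ((x ^ r : GL (Fin n) F) : Matrix (Fin n) (Fin n) F) = z • (1 : Matrix (Fin n) (Fin n) F)) ∧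
        (∀ z : F, (x : Matrix (Fin n) (Fin n) F) ≠ z • (1 : Matrix (Fin n) (Fin n) F)) ∧
        ∀ P : GL (Fin n) F, P⁻¹ * x * P ∉ Cfsg.Geo.quadSimilarityGroup ⇑QQ := by
      rw [not_or] at hno
      obtain ⟨hr2, hexc⟩ := hno
      have hG0 := CfsgLib.FormDiscr.gram_det_ne_zero QQ hnd
      have hrodd : Odd r := hr.odd_of_ne_two hr2
      by_cases hrp : r = p
      · subst hrp
        obtain ⟨x, h1, h2', h3, h4⟩ := counter_unipotent (F := F) hp2 hn
        exact ⟨x, h1, h2', h3, fun P hP => h4 _ hG0 (gram_symm QQ) P ((mem_similarity_iff h2 QQ _).mp hP)⟩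
      by_cases h1 : r ∣ Fintype.card F - 1
      · obtain ⟨u, hu⟩ := exists_prime_orderOf_dvd_card (G := Fˣ) r (by rwa [Fintype.card_units])
        obtain ⟨x, h1', h2', h3, h4⟩ := exists_counter_diag (σ := RingHom.id F) hr2 hn hgap (ζ := (u : F))
          (by rw [orderOf_units, hu]) rfl (fun hnr hr35 => by
            have hN : Fintype.card F - 1 ≠ 0 := by have := Fintype.one_lt_card (α := F); omega
            have hv : 2 ≤ padicValNat r (Fintype.card F - 1) := by
              have := one_le_padicValNat_of_dvd hN h1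
              rcases Nat.lt_or_ge (padicValNat r (Fintype.card F - 1)) 2 with hlt | hge
              · exact absurd ⟨hr35, hnr, by omega⟩ hexc
              · exact hge
            obtain ⟨w, hw⟩ := IsCyclic.exists_ofOrder_eq_natCard (α := Fˣ)
            rw [Nat.card_units, Nat.card_eq_fintype_card] at hw
            obtain ⟨t, ht⟩ := (padicValNat_dvd_iff_le hN).mpr hv
            refine ⟨((w ^ t : Fˣ) : F), ?_, rfl⟩
            have ht0 : t ≠ 0 := fun e => hN (by rw [ht, e, mul_zero])
            rw [orderOf_units, orderOf_pow' _ ht0, hw, ht,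
              Nat.gcd_eq_right (dvd_mul_left t _), Nat.mul_div_cancel _ (Nat.pos_of_ne_zero ht0)])
        exact ⟨x, h1', h2', h3, fun P hP => h4 _ hG0 P ((mem_similarity_iff h2 QQ _).mp hP)⟩
      have hrdq : ¬ r ∣ Fintype.card F := fun hd => by
        obtain ⟨⟨k, hk⟩, -, hc⟩ := FiniteField.card F p
        rw [hc] at hd
        exact hrp ((Nat.prime_dvd_prime_iff_eq hr Fact.out).mp (hr.dvd_of_dvd_pow hd))
      have hq1 : 1 < Fintype.card F := Fintype.one_lt_card
      have hblock : ∀ j, Odd j → j ≤ n → r ∣ Fintype.card F ^ j - 1 →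
          ∃ x : GL (Fin n) F, Matrix.GeneralLinearGroup.det x = 1 ∧
            (∃ z : F, ((x ^ r : GL (Fin n) F) : Matrix (Fin n) (Fin n) F) = z • (1 : Matrix (Fin n) (Fin n) F)) ∧
            (∀ z : F, (x : Matrix (Fin n) (Fin n) F) ≠ z • (1 : Matrix (Fin n) (Fin n) F)) ∧
            ∀ P : GL (Fin n) F, P⁻¹ * x * P ∉ Cfsg.Geo.quadSimilarityGroup ⇑QQ := fun j hj hjn hd => by
        obtain ⟨x, h1', h2', h3, h4⟩ := exists_counter_block (σ := RingHom.id F) (e := 0) (n := n) (p := p)
          (by simp) hrp h1 (i := j) hj.pos hjn hd (fun k hk => by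
            rw [pow_zero, ← ZMod.natCast_eq_zero_iff, Nat.cast_add, Nat.cast_pow, Nat.cast_one,
              add_eq_zero_iff_eq_neg] at hk
            have hqj : (Fintype.card F : ZMod r) ^ j = 1 := by
              rw [← ZMod.natCast_eq_zero_iff, Nat.cast_sub (Nat.one_le_pow _ _ (by omega)), Nat.cast_pow,
                Nat.cast_one, sub_eq_zero] at hd
              exact hd
            have e : ((Fintype.card F : ZMod r) ^ k) ^ j = 1 := by rw [← pow_mul, mul_comm, pow_mul, hqj, one_pow]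
            rw [neg_eq_iff_eq_neg.mp hk.symm, hj.neg_one_pow] at e
            haveI : Fact (2 < r) := ⟨by have := hr.two_le; omega⟩
            exact ZMod.neg_one_ne_one e)
        exact ⟨x, h1', h2', h3, fun P hP => h4 _ hG0 P ((mem_similarity_iff h2 QQ _).mp hP)⟩
      rcases CfsgLib.OrthType.prime_dvd_index rfl hodd hn QQ hnd hr hΩ with hd | ⟨j, hj, -, hjn, hd⟩ |
        ⟨m, hm, rfl, hcase⟩
      · exact absurd hd hrdq
      · exact hblock j hj hjn hd
      · haveI : NeZero r := ⟨hr.ne_zero⟩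
        set q := Fintype.card F with hqdef
        have hne1 : (q : ZMod r) ≠ 1 := fun e => h1 (by
          rw [← ZMod.natCast_eq_zero_iff, Nat.cast_sub (by omega), e, Nat.cast_one, sub_self])
        have hqz : (q : ZMod r) ≠ 0 := fun e => hrdq ((ZMod.natCast_eq_zero_iff _ _).mp e)
        have hpos : ∀ i, 1 ≤ q ^ i := fun i => Nat.one_le_pow _ _ (by omega)
        obtain ⟨m', rfl⟩ : ∃ m', m = m' + 1 := ⟨m - 1, by omega⟩
        have hsq : r ∣ q ^ (2 * (m' + 1)) - 1 := by
          rw [mul_comm 2, pow_mul, ← one_pow 2, Nat.sq_sub_sq, one_pow]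
          rcases hcase with ⟨hd, -⟩ | ⟨hd, -⟩
          · exact hd.mul_right _
          · exact hd.mul_left _
        refine counter_fixedPointFree (p := p) (by omega) h1 hsq QQ fun hz => ?_
        have hle : q ^ (m' + 1) ≤ q ^ (2 * m' + 1) := Nat.pow_le_pow_right (by omega) (by omega)
        have hle2 : q ^ m' ≤ q ^ (m' + 1) := Nat.pow_le_pow_right (by omega) (by omega)
        have hm' : 1 ≤ m' := by omega
        have hle3 : q ^ (m' + 1) < q ^ (2 * m' + 1) := Nat.pow_lt_pow_right hq1 (by omega)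
        rcases hcase with ⟨hd, hcard⟩ | ⟨hd, hcard⟩
        · rw [← ZMod.natCast_eq_zero_iff, Nat.cast_add, Nat.cast_pow, Nat.cast_one, add_eq_zero_iff_eq_neg] at hd
          rw [hcard, show 2 * (m' + 1) - 1 = 2 * m' + 1 by omega, show m' + 1 - 1 = m' by omega,
            ← ZMod.natCast_eq_zero_iff, Nat.cast_sub (by have := hpos (2 * m' + 1); omega),
            Nat.cast_sub (by omega)] at hz
          push_cast at hz
          rw [show 2 * m' + 1 = (m' + 1) + m' by ring, pow_add, hd] at hz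
          have hq' : (q : ZMod r) ^ m' = -1 := by
            have h2r : (2 : ZMod r) ≠ 0 := fun e => hr2 ((Nat.prime_dvd_prime_iff_eq hr Nat.prime_two).mp
              ((ZMod.natCast_eq_zero_iff 2 r).mp (by exact_mod_cast e)))
            exact mul_left_cancel₀ h2r (by linear_combination -hz)
          rw [pow_succ, hq'] at hd
          exact hne1 (by linear_combination -hd)
        · rw [← ZMod.natCast_eq_zero_iff, Nat.cast_sub (hpos _), Nat.cast_pow, Nat.cast_one, sub_eq_zero] at hd
          rw [hcard, show 2 * (m' + 1) - 1 = 2 * m' + 1 by omega, show m' + 1 - 1 = m' by omega,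
            ← ZMod.natCast_eq_zero_iff, Nat.cast_sub (by have := hpos m'; omega),
            Nat.cast_sub (by omega)] at hz
          push_cast at hz
          rw [show 2 * m' + 1 = (m' + 1) + m' by ring, pow_add, hd] at hz
          have hq' : (q : ZMod r) ^ m' = 1 := by
            have h2r : (2 : ZMod r) ≠ 0 := fun e => hr2 ((Nat.prime_dvd_prime_iff_eq hr Nat.prime_two).mp
              ((ZMod.natCast_eq_zero_iff 2 r).mp (by exact_mod_cast e)))
            exact mul_left_cancel₀ h2r (by linear_combination hz)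
          rw [pow_succ, hq', one_mul] at hd
          exact hne1 hd
    obtain ⟨x, hx, hxr, hxns, hno'⟩ := hbad
    obtain ⟨g, -, hgx⟩ := h x (mem_sl_iff.mpr hx) hxr hxns
    exact hno' g hgx
  · rintro hrhs x hx ⟨z, hz⟩ -
    rcases hrhs with rfl | ⟨hr35, hnr, hv⟩
    · exact fixes_involution h2 hn QQ hnd x (mem_sl_iff.mp hx) hz
    · exact fixes_exceptional h2 QQ hnd hr35 hnr hv x (mem_sl_iff.mp hx) hz

end Cfsg.Agent.S5981
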