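import Cfsg.Statements.S5982
import Cfsg.Agent.LinearElements.TwistedModels
import Cfsg.Agent.LinearElements.RClassify
import Cfsg.Agent.AschbacherUnitary.Basic
import Cfsg.Agent.Forms.UnitaryOrder
import Cfsg.Agent.Linear.Basic
-- import your own Cfsg.Agent.* helpers here

set_option autoImplicit false
open scoped MatrixGroups
open Cfsg

open Matrix CfsgLib.Twist CfsgLib.Aschbacher

namespace Cfsg.Agent.S5982

variable {F : Type*} [Field F] {n q₀ : ℕ} {σ : F ≃+* F}

theorem mem_sl_iff {g : GL (Fin n) F} :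
    g ∈ Cfsg.Geo.specialLinear (Fin n) F ↔ Matrix.GeneralLinearGroup.det g = 1 := MonoidHom.mem_ker

/-- Similitudes in terms of the Gram matrix. -/
theorem mem_similarity_iff {f : (Fin n → F) → (Fin n → F) → F} (hs : IsSesq σ f) (y : GL (Fin n) F) :
    y ∈ Cfsg.Geo.similarityGroup f ↔
      Scales (σ : F →+* F) (Cfsg.Geo.gramMatrix f) (y : Matrix (Fin n) (Fin n) F) := by
  constructor
  · rintro ⟨c, hc⟩
    exact ⟨c, c.ne_zero, hs.gram_of_eq hc⟩
  · rintro ⟨τ, hτ, h⟩
    refine ⟨Units.mk0 τ hτ, fun u v => ?_⟩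
    rw [hs.gram_transform, hs.gram_eq u v, Units.val_mk0,
      show (y : Matrix (Fin n) (Fin n) F).map σ = (y : Matrix (Fin n) (Fin n) F).map ((σ : F →+* F) : F → F) from rfl, h,
      Matrix.smul_mulVec, dotProduct_smul, smul_eq_mul]

/-- The Gram matrix is hermitian and invertible. -/
theorem gram_facts {f : (Fin n → F) → (Fin n → F) → F} (hu : Cfsg.Geo.IsUnitaryForm σ f) :
    (Cfsg.Geo.gramMatrix f)ᵀ = (Cfsg.Geo.gramMatrix f).map (σ : F →+* F) ∧ (Cfsg.Geo.gramMatrix f).det ≠ 0 :=
  ⟨Matrix.ext fun _ _ => hu.herm _ _,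
    ((Matrix.isUnit_iff_isUnit_det _).mp (gram_isUnit (isSesq_of_unitary hu) hu.nondegenerate)).ne_zero⟩

/-- A hermitian scaled normal form gives a fixed point. -/
theorem fixes_of_model [Finite F] {f : (Fin n → F) → (Fin n → F) → F} (hu : Cfsg.Geo.IsUnitaryForm σ f)
    {κ : Type*} [Fintype κ] [DecidableEq κ] (x : GL (Fin n) F)
    (h : Matrix (Fin n) κ F) (h' : Matrix κ (Fin n) F) (hh' : h * h' = 1) (h'h : h' * h = 1) (D M : Matrix κ κ F)
    (hx : (x : Matrix (Fin n) (Fin n) F) * h = h * D) {τ : F} (hτ : τ ≠ 0)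
    (hD : Dᵀ * M * D.map (σ : F →+* F) = τ • M)
    (hMs : Mᵀ = M.map (σ : F →+* F)) (hM : M.det ≠ 0)
    (hC : ∀ δ : F, δ ≠ 0 → ∃ C : Matrix κ κ F, C * D = D * C ∧ C.det = δ) :
    ∃ g ∈ Cfsg.Geo.specialLinear (Fin n) F, g⁻¹ * x * g ∈ Cfsg.Geo.similarityGroup f := by
  obtain ⟨hG, hG0⟩ := gram_facts hu
  have hne : (σ : F →+* F) ≠ RingHom.id F := fun e => hu.ne_refl (RingEquiv.ext fun a => congrArg (fun g : F →+* F => g a) e)
  have hσ : ∀ a, (σ : F →+* F) ((σ : F →+* F) a) = a := hu.involutive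
  obtain ⟨u, hu0, hdet⟩ := det_congr_rect (σ := (σ : F →+* F)) h' h hh' h'h M
  obtain ⟨g, hg⟩ := exists_congr_herm hne hσ hG (M := h'ᵀ * M * h'.map (σ : F →+* F))
    (by
      rw [Matrix.transpose_mul, Matrix.transpose_mul, Matrix.transpose_transpose, hMs, Matrix.map_mul, Matrix.map_mul,
        show ((h'.map (σ : F →+* F)).map (σ : F →+* F)) = h' from Matrix.ext fun i j => hσ _,
        ← Matrix.transpose_map, Matrix.mul_assoc])
    hG0 (by rw [hdet]; exact mul_ne_zero (mul_ne_zero hu0 fun e => hu0 ((σ : F →+* F).injective (by rw [e, map_zero]))) hM)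
  obtain ⟨P, hP, hs⟩ := exists_conj_scales (σ := (σ : F →+* F)) x h h' hh' h'h D M hx hτ hD hM hg hC
  exact ⟨P, mem_sl_iff.mpr hP, (mem_similarity_iff (isSesq_of_unitary hu) _).mpr hs⟩

/-- In characteristic two every involution fixes a point. -/
theorem fixes_involution_two [Fintype F] [CharP F 2] (hn : 0 < n) {f : (Fin n → F) → (Fin n → F) → F}
    (hu : Cfsg.Geo.IsUnitaryForm σ f) (x : GL (Fin n) F) {z : F} (hz0 : z ≠ 0)
    (hz : (x : Matrix (Fin n) (Fin n) F) ^ 2 = z • (1 : Matrix (Fin n) (Fin n) F)) :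
    ∃ g ∈ Cfsg.Geo.specialLinear (Fin n) F, g⁻¹ * x * g ∈ Cfsg.Geo.similarityGroup f := by
  classical
  obtain ⟨μ, hμz⟩ := FiniteField.isSquare_of_char_two (ringChar.eq F 2) z
  have hμ : μ ≠ 0 := fun e => hz0 (by rw [hμz, e, mul_zero])
  have hσμ : σ μ ≠ 0 := fun e => hμ (σ.injective (by rw [e, map_zero]))
  have hg : ∀ v, Matrix.toLin' (x : Matrix (Fin n) (Fin n) F) (Matrix.toLin' (x : Matrix (Fin n) (Fin n) F) v) = z • v :=
    fun v => by rw [Matrix.toLin'_apply, Matrix.toLin'_apply, Matrix.mulVec_mulVec, ← sq, hz, Matrix.smul_mulVec,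
      Matrix.one_mulVec]
  obtain ⟨P⟩ := CfsgLib.LinearElements.exists_pairBasis _ hz0 hg
  let B := P.basis.reindex ((Equiv.prodComm _ _).sumCongr (Equiv.refl _))
  have hBl : ∀ s i, B (.inl (s, i)) = P.basis (.inl (i, s)) := fun s i => by simp [B]
  have hBr : ∀ j, B (.inr j) = P.basis (.inr j) := fun j => by simp [B]
  let D : Matrix ((Fin 2 × Fin P.b) ⊕ Fin P.c) ((Fin 2 × Fin P.b) ⊕ Fin P.c) F :=
    Matrix.fromBlocks (Matrix.blockDiagonal fun _ : Fin P.b => !![0, z; 1, 0]) 0 0 (Matrix.diagonal fun _ => μ)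
  obtain ⟨h, h', e1, e2, e3⟩ := exists_frame (x : Matrix (Fin n) (Fin n) F) B D fun t => by
    rcases t with ⟨s, i⟩ | j
    · rw [Fintype.sum_sum_type, Fintype.sum_prod_type]
      simp only [D, Matrix.fromBlocks_apply₁₁, Matrix.fromBlocks_apply₂₁, Matrix.zero_apply, zero_smul,
        Finset.sum_const_zero, add_zero, Fin.sum_univ_two, Matrix.blockDiagonal_apply]
      simp only [ite_smul, zero_smul, Finset.sum_ite_eq', Finset.mem_univ, if_true]
      rw [← Matrix.toLin'_apply, hBl, hBl, hBl]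
      fin_cases s
      · simpa using P.pair i
      · have h2 := hg (P.basis (.inl (i, 0)))
        rw [P.pair i] at h2
        simpa using h2
    · rw [Fintype.sum_sum_type]
      simp only [D, Matrix.fromBlocks_apply₁₂, Matrix.fromBlocks_apply₂₂, Matrix.zero_apply, zero_smul,
        Finset.sum_const_zero, zero_add]
      rw [Finset.sum_eq_single j (fun k _ hk => by rw [Matrix.diagonal_apply_ne _ hk, zero_smul])
        (fun hh => absurd (Finset.mem_univ _) hh), Matrix.diagonal_apply_eq, hBr, ← Matrix.toLin'_apply]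
      obtain ⟨ν, hν⟩ := P.single j
      have h2 := congrArg (Matrix.toLin' (x : Matrix (Fin n) (Fin n) F)) hν
      rw [hg, map_smul, hν, smul_smul] at h2
      have h3 : ν * ν = μ * μ := by rw [← smul_left_injective F (P.basis.ne_zero _) h2, hμz]
      rcases mul_self_eq_mul_self_iff.mp h3 with h4 | h4
      · rw [hν, h4]
      · rw [hν, h4, CharTwo.neg_eq]
  set τ := μ * σ μ with hτ
  have hστ : σ τ = τ := by rw [hτ, map_mul, hu.involutive, mul_comm]
  have hzz : z * σ z = τ * τ := by rw [hμz, map_mul, hτ]; ring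
  refine fixes_of_model hu x h h' e1 e2 D
    (Matrix.fromBlocks (Matrix.blockDiagonal fun _ : Fin P.b => !![1, 0; 0, τ]) 0 0 1) e3
    (mul_ne_zero hμ hσμ) ?_ ?_ ?_ ?_
  · simp only [D, Matrix.fromBlocks_transpose, Matrix.transpose_zero, Matrix.fromBlocks_map, Matrix.map_zero _ (map_zero _),
      Matrix.fromBlocks_multiply, Matrix.mul_zero, Matrix.zero_mul, add_zero, zero_add, Matrix.fromBlocks_smul,
      smul_zero, mul_one, Matrix.diagonal_transpose]
    congr 1
    · rw [Matrix.blockDiagonal_transpose, Matrix.blockDiagonal_map _ _ (map_zero _), ← Matrix.blockDiagonal_mul,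
        ← Matrix.blockDiagonal_mul, ← Matrix.blockDiagonal_smul]
      congr 1
      funext i
      ext a c
      fin_cases a <;> fin_cases c <;> simp [Matrix.mul_apply, Fin.sum_univ_two, hzz] <;>
        first | exact hτ | exact Or.inl hτ
    · rw [Matrix.diagonal_map (map_zero _), Matrix.diagonal_mul_diagonal, Matrix.smul_one_eq_diagonal]
      rfl
  · simp only [Matrix.fromBlocks_transpose, Matrix.transpose_zero, Matrix.fromBlocks_map, Matrix.map_zero _ (map_zero _),
      Matrix.transpose_one, Matrix.map_one _ (map_zero _) (map_one _)]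
    congr 1
    rw [Matrix.blockDiagonal_transpose, Matrix.blockDiagonal_map _ _ (map_zero _)]
    congr 1
    funext i
    ext a c
    fin_cases a <;> fin_cases c <;> simp [hστ]
  · rw [Matrix.det_fromBlocks_zero₂₁, Matrix.det_blockDiagonal, Matrix.det_one, mul_one, Finset.prod_ne_zero_iff]
    intro i _
    rw [Matrix.det_fin_two]
    simpa [hτ] using mul_ne_zero hμ hσμ
  · intro δ _
    rcases Nat.eq_zero_or_pos P.b with hb | hb
    · have hc : 0 < P.c := by
        have := Module.finrank_eq_card_basis B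
        rw [Module.finrank_fin_fun, Fintype.card_sum, Fintype.card_prod, Fintype.card_fin, Fintype.card_fin,
          Fintype.card_fin, hb] at this
        omega
      obtain ⟨C, hC, hCd⟩ := exists_centralizer_diag (F := F) (⟨0, hc⟩ : Fin P.c) (fun _ => μ) (δ := δ)
      refine ⟨Matrix.fromBlocks 1 0 0 C, ?_, ?_⟩
      · simp [D, Matrix.fromBlocks_multiply, hC]
      · rw [Matrix.det_fromBlocks_zero₂₁, Matrix.det_one, one_mul, hCd]
    · obtain ⟨s, hs⟩ := FiniteField.isSquare_of_char_two (ringChar.eq F 2) δ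
      refine ⟨Matrix.fromBlocks (Matrix.blockDiagonal (Function.update (fun _ => 1) (⟨0, hb⟩ : Fin P.b)
        (s • (1 : Matrix (Fin 2) (Fin 2) F)))) 0 0 1, ?_, ?_⟩
      · simp only [D, Matrix.fromBlocks_multiply, Matrix.mul_zero, Matrix.zero_mul, add_zero, zero_add, Matrix.one_mul,
          Matrix.mul_one]
        congr 1
        rw [← Matrix.blockDiagonal_mul, ← Matrix.blockDiagonal_mul]
        congr 1
        funext i
        rw [Function.update_apply]
        split <;> simp
      · rw [Matrix.det_fromBlocks_zero₂₁, Matrix.det_blockDiagonal, Matrix.det_one, mul_one,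
          Finset.prod_eq_single ⟨0, hb⟩ (fun i _ hi => by simp [hi]) (fun hh => absurd (Finset.mem_univ _) hh),
          Function.update_self, Matrix.det_smul, Matrix.det_one, mul_one, Fintype.card_fin, hs, sq]

/-- In odd characteristic an involution with a square root fixes a point. -/
theorem fixes_involution_square [Fintype F] (h2 : (2 : F) ≠ 0) (hn : 0 < n) {f : (Fin n → F) → (Fin n → F) → F}
    (hu : Cfsg.Geo.IsUnitaryForm σ f) (x : GL (Fin n) F) {μ : F} (hμ : μ ≠ 0)
    (hz : (x : Matrix (Fin n) (Fin n) F) ^ 2 = μ ^ 2 • (1 : Matrix (Fin n) (Fin n) F)) :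
    ∃ g ∈ Cfsg.Geo.specialLinear (Fin n) F, g⁻¹ * x * g ∈ Cfsg.Geo.similarityGroup f := by
  classical
  have hσμ : σ μ ≠ 0 := fun e => hμ (σ.injective (by rw [e, map_zero]))
  have hζ : IsPrimitiveRoot (-1 : F) 2 := IsPrimitiveRoot.mk_of_lt _ two_pos (by norm_num) fun l h0 hl => by
    obtain rfl : l = 1 := by omega
    rw [pow_one]
    exact fun e => h2 (by linear_combination -e)
  obtain ⟨h, h', l, e1, e2, e3, hl⟩ := exists_eigen_frame (r := 2) two_pos (by exact_mod_cast h2) hζ hμ
    (x := (x : Matrix (Fin n) (Fin n) F)) hz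
  refine fixes_of_model hu x h h' e1 e2 (Matrix.diagonal l) 1 e3 (mul_ne_zero hμ hσμ) ?_ ?_ ?_
    (fun δ _ => exists_centralizer_diag ⟨0, hn⟩ l)
  · rw [mul_one, Matrix.diagonal_transpose, Matrix.diagonal_map (map_zero _), Matrix.diagonal_mul_diagonal,
      Matrix.smul_one_eq_diagonal]
    congr 1
    funext i
    obtain ⟨j, -, hj⟩ := hl i
    simp only [Function.comp_apply, hj, map_mul, map_pow, map_neg, map_one, RingHom.coe_coe]
    rw [mul_mul_mul_comm, ← mul_pow]
    simp
  · rw [Matrix.transpose_one, Matrix.map_one _ (map_zero _) (map_one _)]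
  · rw [Matrix.det_one]; exact one_ne_zero

/-- An involution without a square root fixes no point. -/
theorem no_fix_of_nonsquare [Fintype F] (hq : Fintype.card F = q₀ ^ 2) (hodd : Odd q₀) (hn : 0 < n)
    (hσ : ∀ a, σ a = a ^ q₀) {f : (Fin n → F) → (Fin n → F) → F} (hu : Cfsg.Geo.IsUnitaryForm σ f)
    {x : GL (Fin n) F} {z : F} (hz0 : z ≠ 0) (hns : ¬ IsSquare z)
    (hz : (x : Matrix (Fin n) (Fin n) F) ^ 2 = z • (1 : Matrix (Fin n) (Fin n) F)) (P : GL (Fin n) F) :
    P⁻¹ * x * P ∉ Cfsg.Geo.similarityGroup f := by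
  classical
  haveI : Nonempty (Fin n) := ⟨⟨0, hn⟩⟩
  intro hP
  obtain ⟨hG, hG0⟩ := gram_facts hu
  obtain ⟨M, τ, hM, hτ, hMx, hsym⟩ := exists_form_of_conj hG0 ((mem_similarity_iff (isSesq_of_unitary hu) _).mp hP)
  have hMs := hsym hG hu.involutive
  have hM0 : M.map (σ : F →+* F) ≠ 0 := fun e => det_map_ne_zero (σ := (σ : F →+* F)) hM (by rw [e, Matrix.det_zero])
  have hστ : σ τ = τ := by
    have h1 := congrArg Matrix.transpose hMx
    have h2 := congrArg (fun A : Matrix (Fin n) (Fin n) F => A.map (σ : F →+* F)) hMx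
    rw [Matrix.transpose_mul, Matrix.transpose_mul, Matrix.transpose_transpose, Matrix.transpose_smul, hMs] at h1
    simp only [Matrix.map_mul] at h2
    rw [show ((x : Matrix (Fin n) (Fin n) F).map (σ : F →+* F)).map (σ : F →+* F) = (x : Matrix (Fin n) (Fin n) F) from
      Matrix.ext fun i j => hu.involutive _, Matrix.transpose_map, Matrix.mul_assoc, h1,
      show (τ • M).map (σ : F →+* F) = σ τ • M.map (σ : F →+* F) from Matrix.ext fun i j => by simp] at h2
    exact (smul_left_injective F hM0 h2).symm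
  have h2 := multiplier_pow hM hMx hz
  rw [RingHom.coe_coe, hσ, ← pow_succ'] at h2
  obtain ⟨t, ht⟩ := hodd
  have hτ1 : τ ^ (2 * t) = 1 := by
    rw [hσ, ht, pow_succ] at hστ
    exact mul_right_cancel₀ hτ (hστ.trans (one_mul τ).symm)
  have hchar : ringChar F ≠ 2 := fun e => by
    have h := FiniteField.even_card_iff_char_two.mp e
    have : Odd (Fintype.card F) := hq ▸ Odd.pow ⟨t, ht⟩
    rw [Nat.odd_iff] at this
    omega
  refine hns ((FiniteField.isSquare_iff hchar hz0).mpr ?_)
  have he : Fintype.card F / 2 = (q₀ + 1) * t := by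
    rw [hq, ht, show (2 * t + 1) ^ 2 = 1 + 2 * ((2 * t + 1 + 1) * t) by ring, Nat.add_mul_div_left _ _ two_pos]
    norm_num
  rw [he, pow_mul, ← h2, ← pow_mul, hτ1]

/-- The primes dividing the index. -/
theorem prime_dvd_index [Fintype F] (hq : Fintype.card F = q₀ ^ 2) (hσ : ∀ a, σ a = a ^ q₀) (hn : 0 < n)
    {f : (Fin n → F) → (Fin n → F) → F} (hu : Cfsg.Geo.IsUnitaryForm σ f) {r : ℕ} (hr : r.Prime)
    (h : r ∣ (Cfsg.Geo.similarityGroup f).relIndex (Cfsg.Geo.specialLinear (Fin n) F)) :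
    r ∣ q₀ ∨ ∃ j, 2 ≤ j ∧ j ≤ n ∧ ((Even j ∧ r ∣ q₀ ^ j + 1) ∨ (Odd j ∧ r ∣ q₀ ^ j - 1)) := by
  classical
  obtain ⟨hG, hG0⟩ := gram_facts hu
  have hne : (σ : F →+* F) ≠ RingHom.id F := fun e => hu.ne_refl (RingEquiv.ext fun a => congrArg (fun g : F →+* F => g a) e)
  obtain ⟨R, hR⟩ := exists_congr_one hne hu.involutive hG hG0
  have hR0 : R.det ≠ 0 := fun e => by
    have := congrArg Matrix.det hR
    rw [det_congr_eq, e, zero_mul, zero_mul, Matrix.det_one] at this
    exact zero_ne_one this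
  let R₀ : GL (Fin n) F := Matrix.GeneralLinearGroup.mkOfDetNeZero R hR0
  have hconj : CfsgLib.AschbacherUnitary.IsConj q₀ σ := ⟨hu.ne_refl, hu.involutive, hσ⟩
  let φ := (Matrix.GeneralLinearGroup.det : GL (Fin n) F →* Fˣ).comp (Cfsg.GU n F q₀).subtype
  let K := (Cfsg.Geo.similarityGroup f).subgroupOf (Cfsg.Geo.specialLinear (Fin n) F)
  have hdet : ∀ g, φ g ^ (q₀ + 1) = 1 := fun g => Units.ext (by
    have hg := congrArg Matrix.det (hconj.mem_GU_iff.mp g.2)
    rw [Matrix.det_mul, Matrix.det_transpose, Matrix.det_one, ← RingEquiv.coe_toRingHom, ← RingHom.mapMatrix_apply,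
      ← RingHom.map_det, RingEquiv.coe_toRingHom, hσ, ← pow_succ'] at hg
    exact hg)
  have hq0 : 1 < q₀ := hconj.one_lt
  have hrange : Nat.card φ.range ∣ q₀ + 1 := by
    have h1 : φ.range ≤ rootsOfUnity (q₀ + 1) F := by
      rintro _ ⟨g, rfl⟩
      exact (mem_rootsOfUnity _ _).mpr (hdet g)
    refine (Subgroup.card_dvd_of_le h1).trans ?_
    haveI : NeZero (q₀ + 1) := ⟨by omega⟩
    rw [← IsCyclic.exponent_eq_card]
    exact Monoid.exponent_dvd_of_forall_pow_eq_one fun a =>
      Subtype.ext (Units.ext (congrArg Units.val ((mem_rootsOfUnity _ _).mp a.2)))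
  have hker : Nat.card φ.ker ∣ Nat.card K := by
    let c : GL (Fin n) F →* GL (Fin n) F := (MulAut.conj R₀).toMonoidHom
    have hmem : ∀ g : φ.ker, c g.1.1 ∈ Cfsg.Geo.specialLinear (Fin n) F := fun g => by
      rw [mem_sl_iff]
      show Matrix.GeneralLinearGroup.det (R₀ * g.1.1 * R₀⁻¹) = 1
      rw [map_mul, map_mul, map_inv, mul_comm (Matrix.GeneralLinearGroup.det R₀), mul_assoc, mul_inv_cancel, mul_one]
      exact g.2
    let ψ : φ.ker →* K :=
      { toFun := fun g => ⟨⟨c g.1.1, hmem g⟩, Subgroup.mem_subgroupOf.mpr ((mem_similarity_iff (isSesq_of_unitary hu) _).mpr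
          ⟨1, one_ne_zero, by
            set gi : Matrix (Fin n) (Fin n) F := ((R₀⁻¹ : GL (Fin n) F) : Matrix (Fin n) (Fin n) F)
            have hgg : R * gi = 1 := by
              show (R₀ : Matrix (Fin n) (Fin n) F) * gi = 1
              rw [← Units.val_mul, mul_inv_cancel, Units.val_one]
            have hgu := hconj.mem_GU_iff.mp g.1.2
            show ((R₀ * g.1.1 * R₀⁻¹ : GL (Fin n) F) : Matrix (Fin n) (Fin n) F)ᵀ * _ * _ = _
            rw [show (c g.1.1 : Matrix (Fin n) (Fin n) F) = R * (g.1.1 : Matrix (Fin n) (Fin n) F) * gi from rfl,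
              show ((R₀ * g.1.1 * R₀⁻¹ : GL (Fin n) F) : Matrix (Fin n) (Fin n) F) =
                R * (g.1.1 : Matrix (Fin n) (Fin n) F) * gi from rfl,
              congr_mul, congr_mul, hR, mul_one,
              show (g.1.1 : Matrix (Fin n) (Fin n) F)ᵀ * (g.1.1 : Matrix (Fin n) (Fin n) F).map (σ : F →+* F) = 1 from hgu,
              ← hR, ← congr_mul, hgg, Matrix.transpose_one, Matrix.map_one _ (map_zero _) (map_one _), one_mul,
              mul_one, one_smul]⟩)⟩
        map_one' := Subtype.ext (Subtype.ext (map_one c))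
        map_mul' := fun _ _ => Subtype.ext (Subtype.ext (map_mul c _ _)) }
    exact Subgroup.card_dvd_of_injective ψ fun g g' e =>
      Subtype.ext (Subtype.ext ((MulAut.conj R₀).injective (congrArg (fun z => z.1.1) e)))
  have hGU : Nat.card (Cfsg.GU n F q₀) ∣ Nat.card K * (q₀ + 1) := by
    rw [← Subgroup.index_mul_card φ.ker, Subgroup.index_ker, mul_comm]
    exact mul_dvd_mul hker hrange
  haveI : Nonempty (Fin n) := ⟨⟨0, hn⟩⟩
  have hSL : (Cfsg.Geo.similarityGroup f).relIndex (Cfsg.Geo.specialLinear (Fin n) F) * Nat.card K *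
      (Fintype.card F - 1) = Fintype.card F ^ (n * (n - 1) / 2) * ∏ i ∈ Finset.range n, (Fintype.card F ^ (i + 1) - 1) := by
    have e := CfsgLib.Linear.card_SL_mul (n := Fin n) (F := F)
    rw [Matrix.card_GL_field, CfsgLib.Linear.prod_pow_sub_pow,
      Nat.card_congr (CfsgLib.Linear.slEquivDetKer (n := Fin n) (F := F)).toEquiv] at e
    rw [show (Cfsg.Geo.similarityGroup f).relIndex (Cfsg.Geo.specialLinear (Fin n) F) = K.index from rfl,
      Subgroup.index_mul_card, mul_comm]
    exact e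
  let v : ℕ → ℕ := fun j => if Even j then q₀ ^ j + 1 else q₀ ^ j - 1
  have huv : ∀ j, q₀ ^ (2 * j) - 1 = CfsgLib.Forms.u q₀ j * v j := fun j => by
    have e : (q₀ ^ j + 1) * (q₀ ^ j - 1) = q₀ ^ (2 * j) - 1 := by
      rw [← Nat.sq_sub_sq, one_pow, mul_comm 2 j, pow_mul]
    simp only [CfsgLib.Forms.u, v]
    split
    · rw [← e, mul_comm]
    · rw [← e]
  obtain ⟨n', rfl⟩ : ∃ n', n = n' + 1 := ⟨n - 1, by omega⟩
  obtain ⟨s, hs⟩ := hGU
  obtain ⟨w, hw⟩ := h
  rw [CfsgLib.Forms.card_GU hq] at hs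
  set U := ∏ i ∈ Finset.range (n' + 1), CfsgLib.Forms.u q₀ (i + 1) with hU
  have hprod : ∏ i ∈ Finset.range (n' + 1), (Fintype.card F ^ (i + 1) - 1) =
      U * ((∏ i ∈ Finset.range n', v (i + 1 + 1)) * (q₀ - 1)) := by
    rw [show ∏ i ∈ Finset.range (n' + 1), (Fintype.card F ^ (i + 1) - 1) =
        ∏ i ∈ Finset.range (n' + 1), CfsgLib.Forms.u q₀ (i + 1) * v (i + 1) from
      Finset.prod_congr rfl fun i _ => by rw [hq, ← pow_mul, huv], Finset.prod_mul_distrib,
      Finset.prod_range_succ' (fun i => v (i + 1)), show v (0 + 1) = q₀ - 1 by simp [v]]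
  have hUpos : 0 < U := Finset.prod_pos fun i _ => by
    have h0 := huv (i + 1)
    have h1 : 1 < q₀ ^ (2 * (i + 1)) := Nat.one_lt_pow (by omega) hq0
    rcases Nat.eq_zero_or_pos (CfsgLib.Forms.u q₀ (i + 1)) with e | e
    · rw [e, zero_mul] at h0; omega
    · exact e
  have hcard : Fintype.card F - 1 = (q₀ - 1) * (q₀ + 1) := by
    rw [hq, mul_comm, ← Nat.sq_sub_sq, one_pow]
  set X := (n' + 1) * (n' + 1 - 1) / 2
  set Y := ∑ i ∈ Finset.range (n' + 1), i
  have key : r * (q₀ ^ Y * (w * s)) = Fintype.card F ^ X * ∏ i ∈ Finset.range n', v (i + 1 + 1) := by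
    refine Nat.eq_of_mul_eq_mul_right (Nat.mul_pos hUpos (show 0 < q₀ - 1 by omega)) ?_
    rw [hprod, hcard, hw] at hSL
    calc r * (q₀ ^ Y * (w * s)) * (U * (q₀ - 1)) = r * w * (q₀ - 1) * (q₀ ^ Y * U * s) := by ring
      _ = r * w * (q₀ - 1) * (Nat.card K * (q₀ + 1)) := by rw [hs]
      _ = r * w * Nat.card K * ((q₀ - 1) * (q₀ + 1)) := by ring
      _ = _ := hSL
      _ = _ := by ring
  rcases hr.prime.dvd_mul.mp (Dvd.intro _ key) with h3 | h3
  · rw [hq, ← pow_mul] at h3
    exact Or.inl (hr.dvd_of_dvd_pow h3)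
  · obtain ⟨i, hi, h4⟩ := hr.prime.exists_mem_finset_dvd h3
    refine Or.inr ⟨i + 1 + 1, by omega, by rw [Finset.mem_range] at hi; omega, ?_⟩
    simp only [v] at h4
    split at h4
    · exact Or.inl ⟨‹_›, h4⟩
    · exact Or.inr ⟨Nat.not_even_iff_odd.mp ‹_›, h4⟩


/-- Elements of prime order of PSL_n(q), q = q₀², and the subgroups of unitary type. Here `T = PSL_n(F)` for a field `F` with `q = q₀²` elements (`n ≥ 3`), `f` is a non-degenerate unitary form on `F^n` for the involutory automorphism `x ↦ x^{q₀}`, and `H` is the subgroup of matrices of determinant 1 that preserve `f` up to a scalar — a subgroup of type GU_n(q₀) (maximality is not assumed); Ω is the set of cosets of `H` in `T`, so an element of `T` of prime order `r` (a matrix `x` of determinant 1 with `x^r` scalar, `x` not scalar) fixes a point of Ω exactly when some conjugate of `x` by a matrix of determinant 1 preserves `f` up to a scalar. Let `r` be a prime dividing the index of `H`, with `r = 2` or `r` different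 from the characteristic `p`, and with `(n, r) ≠ (6, 3)`. Then every element of `T` of order `r` fixes a point of Ω if and only if either `r = 2` and (`p = 2` or `(n)_2 ≤ (q − 1)_2`), or `r ∈ {3, 5}`, `n = r` and `(q₀ − 1)_r = r`. (Odd `r = p` and the case `(n, r) = (6, 3)` are not covered by this statement.) -/
theorem result {F : Type*} [Field F] [Fintype F] {p : ℕ} [Fact p.Prime] [CharP F p] {q : ℕ} (hq : Fintype.card F = q)
    (q₀ : ℕ) (hq₀ : q = q₀ ^ 2) (n : ℕ) (hn : 3 ≤ n) (f : (Fin n → F) → (Fin n → F) → F) (hf : Cfsg.Geo.IsUnitaryFormPow q₀ f)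
    (r : ℕ) [Fact r.Prime] (hr : r = 2 ∨ r ≠ p) (hgap : ¬ (n = 6 ∧ r = 3))
    (hΩ : r ∣ (Cfsg.Geo.similarityGroup f).relIndex (Cfsg.Geo.specialLinear (Fin n) F)) :
    (∀ x ∈ Cfsg.Geo.specialLinear (Fin n) F, (∃ z : F, ((x ^ r : GL (Fin n) F) : Matrix (Fin n) (Fin n) F) = z • (1 : Matrix (Fin n) (Fin n) F)) →
      (∀ z : F, (x : Matrix (Fin n) (Fin n) F) ≠ z • (1 : Matrix (Fin n) (Fin n) F)) →
      ∃ g ∈ Cfsg.Geo.specialLinear (Fin n) F, g⁻¹ * x * g ∈ Cfsg.Geo.similarityGroup f) ↔
    ((r = 2 ∧ (p = 2 ∨ padicValNat 2 n ≤ padicValNat 2 (q - 1))) ∨ ((r = 3 ∨ r = 5) ∧ n = r ∧ padicValNat r (q₀ - 1) = 1)) := by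
  subst hq
  classical
  obtain ⟨σ, hconj⟩ := CfsgLib.AschbacherUnitary.exists_isConj hq₀
  have hu : Cfsg.Geo.IsUnitaryForm σ f :=
    ⟨hconj.ne_refl, hconj.involutive, hf.add_left, hf.smul_left, fun v w => by rw [hconj.eq_pow]; exact hf.herm v w,
      hf.nondegenerate⟩
  have hsesq := isSesq_of_unitary hu
  obtain ⟨hG, hG0⟩ := gram_facts hu
  have hr' := (Fact.out : r.Prime)
  have hp := (Fact.out : p.Prime)
  have hq1 : 1 < q₀ := hconj.one_lt
  obtain ⟨e, he⟩ : ∃ e, q₀ = p ^ e := by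
    obtain ⟨⟨k, hk⟩, -, hc⟩ := FiniteField.card F p
    obtain ⟨e, -, he⟩ := (Nat.dvd_prime_pow hp).1 (show q₀ ∣ p ^ k by
      rw [show p ^ k = q₀ ^ 2 from hc.symm.trans hq₀]
      exact dvd_pow_self q₀ two_ne_zero)
    exact ⟨e, he⟩
  have he0 : 0 < e := Nat.pos_of_ne_zero fun e0 => by rw [he, e0, pow_zero] at hq1; omega
  have hfac : Fintype.card F - 1 = (q₀ + 1) * (q₀ - 1) := by rw [hq₀, ← Nat.sq_sub_sq, one_pow]
  have hqodd : p ≠ 2 → Odd q₀ := fun h => he ▸ (hp.odd_of_ne_two h).pow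
  constructor
  · intro h
    by_contra hno
    have hbad : ∃ x : GL (Fin n) F, Matrix.GeneralLinearGroup.det x = 1 ∧
        (∃ z : F, ((x ^ r : GL (Fin n) F) : Matrix (Fin n) (Fin n) F) = z • (1 : Matrix (Fin n) (Fin n) F)) ∧
        (∀ z : F, (x : Matrix (Fin n) (Fin n) F) ≠ z • (1 : Matrix (Fin n) (Fin n) F)) ∧
        ∀ P : GL (Fin n) F, P⁻¹ * x * P ∉ Cfsg.Geo.similarityGroup f := by
      rw [not_or] at hno
      obtain ⟨hinv, hexc⟩ := hno
      by_cases hr2 : r = 2
      · subst hr2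
        rw [not_and, not_or, not_le] at hinv
        obtain ⟨hp2, hlt⟩ := hinv rfl
        have hodd := hqodd hp2
        have hN : Fintype.card F - 1 ≠ 0 := by have := Fintype.one_lt_card (α := F); omega
        have h2N : 2 ∣ Fintype.card F - 1 := by
          obtain ⟨t, ht⟩ := hodd
          exact ⟨(q₀ + 1) * t, by rw [hfac, show q₀ - 1 = 2 * t by omega]; ring⟩
        obtain ⟨y, hy, hy1⟩ := CfsgLib.LinearElements.exists_nonpower (F := F) (r := 2) h2N
        set a := padicValNat 2 (Fintype.card F - 1)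
        have ha1 : 1 ≤ a := one_le_padicValNat_of_dvd hN h2N
        have hn2 : 2 ∣ n := dvd_of_one_le_padicValNat (by omega)
        obtain ⟨b, rfl⟩ := hn2
        have hb : 2 ^ a ∣ b := by
          have h1 : 2 ^ (a + 1) ∣ 2 * b := (padicValNat_dvd_iff_le (by omega)).mpr (by omega)
          rw [pow_succ'] at h1
          exact Nat.dvd_of_mul_dvd_mul_left two_pos h1
        have hbe : Even b := even_iff_two_dvd.mpr ((dvd_pow_self 2 (by omega)).trans hb)
        obtain ⟨g, hg2, hgd, hgns⟩ := CfsgLib.LinearElements.exists_nonpower_model (V := Fin (2 * b) → F) hy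
          (t := b) (by rw [Module.finrank_fin_fun, mul_comm]) (by
            rw [pow_one, neg_one_mul, hbe.neg_pow]
            obtain ⟨c, hc⟩ := hb
            rw [hc, pow_mul, hy1, one_pow])
        let τ' : Matrix (Fin (2 * b)) (Fin (2 * b)) F ≃ₐ[F] Module.End F (Fin (2 * b) → F) := Matrix.toLinAlgEquiv'
        have hXd : (τ'.symm g).det = 1 := by
          rw [← LinearMap.det_toLin', show Matrix.toLin' (τ'.symm g) = g from τ'.apply_symm_apply g, hgd]
        let x : GL (Fin (2 * b)) F := Matrix.GeneralLinearGroup.mkOfDetNeZero (τ'.symm g) (by rw [hXd]; exact one_ne_zero)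
        have hX2 : (x : Matrix (Fin (2 * b)) (Fin (2 * b)) F) ^ 2 = y • (1 : Matrix (Fin (2 * b)) (Fin (2 * b)) F) := by
          show τ'.symm g ^ 2 = _
          rw [← map_pow, hg2, map_smul, map_one]
        refine ⟨x, Units.ext hXd, ⟨y, by rw [Units.val_pow_eq_pow_val, hX2]⟩, fun c hc => ?_, ?_⟩
        · refine hgns c (by rw [Module.finrank_fin_fun]; omega) ?_
          have := congrArg τ' (show τ'.symm g = c • 1 from hc)
          rwa [τ'.apply_symm_apply, map_smul, map_one] at this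
        · refine no_fix_of_nonsquare hq₀ hodd (by omega) hconj.eq_pow hu (z := y) ?_ ?_ hX2
          · exact fun e => hy 0 (by rw [e, zero_pow two_ne_zero])
          · rintro ⟨s, hs⟩
            exact hy s (by rw [sq, hs])
      · have hrp : r ≠ p := hr.resolve_left hr2
        have hrq0 : ¬ r ∣ q₀ := fun hd => hrp ((Nat.prime_dvd_prime_iff_eq hr' hp).mp (hr'.dvd_of_dvd_pow (he ▸ hd)))
        rcases prime_dvd_index hq₀ hconj.eq_pow (by omega) hu hr' hΩ with hd | ⟨j, hj2, hjn, hcase⟩
        · exact absurd hd hrq0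
        haveI : NeZero r := ⟨hr'.ne_zero⟩
        haveI : Fact (2 < r) := ⟨by have := hr'.two_le; omega⟩
        have hpow : (Even j ∧ (q₀ : ZMod r) ^ j = -1) ∨ (Odd j ∧ (q₀ : ZMod r) ^ j = 1) := by
          rcases hcase with ⟨hje, hd⟩ | ⟨hjo, hd⟩
          · exact Or.inl ⟨hje, eq_neg_of_add_eq_zero_left (by
              rw [← ZMod.natCast_eq_zero_iff, Nat.cast_add, Nat.cast_pow, Nat.cast_one] at hd; exact hd)⟩
          · refine Or.inr ⟨hjo, ?_⟩
            rw [← ZMod.natCast_eq_zero_iff, Nat.cast_sub (Nat.one_le_pow _ _ (by omega)), Nat.cast_pow, Nat.cast_one,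
              sub_eq_zero] at hd
            exact hd
        have hplus : ¬ r ∣ q₀ + 1 := fun hd => by
          rw [← ZMod.natCast_eq_zero_iff, Nat.cast_add, Nat.cast_one] at hd
          rw [eq_neg_of_add_eq_zero_left hd] at hpow
          rcases hpow with ⟨hje, e⟩ | ⟨hjo, e⟩
          · rw [hje.neg_one_pow] at e
            exact ZMod.neg_one_ne_one e.symm
          · rw [hjo.neg_one_pow] at e
            exact ZMod.neg_one_ne_one e
        by_cases h1 : r ∣ Fintype.card F - 1
        · have hd1 : r ∣ q₀ - 1 := (hr'.dvd_mul.mp (hfac ▸ h1)).resolve_left hplus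
          obtain ⟨u, hu'⟩ := exists_prime_orderOf_dvd_card (G := Fˣ) r (by rwa [Fintype.card_units])
          have hfixed : ∀ a : Fˣ, orderOf a ∣ q₀ - 1 → σ (a : F) = a := fun a ha => by
            rw [hconj.eq_pow, show q₀ = q₀ - 1 + 1 by omega, pow_succ, ← Units.val_pow_eq_pow_val,
              orderOf_dvd_iff_pow_eq_one.mp ha, Units.val_one, one_mul]
          obtain ⟨x, h1', h2', h3, h4⟩ := exists_counter_diag (σ := (σ : F →+* F)) hr2 hn hgap (ζ := (u : F))
            (by rw [orderOf_units, hu']) (hfixed u (hu' ▸ hd1)) (fun hnr hr35 => by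
              have hN : q₀ - 1 ≠ 0 := by omega
              have hv : 2 ≤ padicValNat r (q₀ - 1) := by
                have := one_le_padicValNat_of_dvd hN hd1
                rcases Nat.lt_or_ge (padicValNat r (q₀ - 1)) 2 with hlt | hge
                · exact absurd ⟨hr35, hnr, by omega⟩ hexc
                · exact hge
              obtain ⟨w, hw⟩ := IsCyclic.exists_ofOrder_eq_natCard (α := Fˣ)
              rw [Nat.card_units, Nat.card_eq_fintype_card] at hw
              obtain ⟨t, ht⟩ : r ^ 2 ∣ q₀ - 1 := (padicValNat_dvd_iff_le hN).mpr hv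
              have ht' : Fintype.card F - 1 = r ^ 2 * ((q₀ + 1) * t) := by rw [hfac, ht]; ring
              have ht0 : (q₀ + 1) * t ≠ 0 := Nat.mul_ne_zero (by omega) (fun e => hN (by rw [ht, e, mul_zero]))
              have ho : orderOf (w ^ ((q₀ + 1) * t)) = r ^ 2 := by
                rw [orderOf_pow' _ ht0, hw, ht', Nat.gcd_eq_right (dvd_mul_left _ _),
                  Nat.mul_div_cancel _ (Nat.pos_of_ne_zero ht0)]
              exact ⟨_, by rw [orderOf_units, ho], hfixed _ (by rw [ho]; exact ⟨t, ht⟩)⟩)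
          exact ⟨x, h1', h2', h3, fun P hP => h4 _ hG0 P ((mem_similarity_iff hsesq _).mp hP)⟩
        · have hq2 : r ∣ Fintype.card F ^ j - 1 := by
            rw [← ZMod.natCast_eq_zero_iff, Nat.cast_sub (Nat.one_le_pow _ _ Fintype.card_pos), Nat.cast_pow, hq₀,
              Nat.cast_pow, Nat.cast_one, ← pow_mul, mul_comm, pow_mul, sub_eq_zero]
            rcases hpow with ⟨-, e'⟩ | ⟨-, e'⟩ <;> rw [e'] <;> norm_num
          obtain ⟨x, h1', h2', h3, h4⟩ := exists_counter_block (σ := (σ : F →+* F)) (e := e) (n := n) (p := p)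
            (fun a => by rw [RingHom.coe_coe, hconj.eq_pow, he]) hrp h1 (i := j) (by omega) hjn hq2 (fun k hk => by
              rw [← he, ← ZMod.natCast_eq_zero_iff, hq₀, ← pow_mul, Nat.cast_add, Nat.cast_pow] at hk
              have hne : (q₀ : ZMod r) ≠ 0 := fun e0 => hrq0 ((ZMod.natCast_eq_zero_iff _ _).mp e0)
              rcases k with _ | k
              · refine hplus ((ZMod.natCast_eq_zero_iff _ _).mp ?_)
                simpa using hk
              · have hm : (q₀ : ZMod r) ^ (2 * k + 1) = -1 :=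
                  eq_neg_of_add_eq_zero_left (mul_left_cancel₀ hne (by linear_combination hk))
                have hodd : Odd (2 * k + 1) := odd_two_mul_add_one k
                rcases hpow with ⟨hje, e'⟩ | ⟨hjo, e'⟩
                · have h5 : ((q₀ : ZMod r) ^ (2 * k + 1)) ^ j = ((q₀ : ZMod r) ^ j) ^ (2 * k + 1) := pow_right_comm ..
                  rw [hm, e', hje.neg_one_pow, hodd.neg_one_pow] at h5
                  exact ZMod.neg_one_ne_one h5.symm
                · have h5 : ((q₀ : ZMod r) ^ (2 * k + 1)) ^ j = ((q₀ : ZMod r) ^ j) ^ (2 * k + 1) := pow_right_comm ..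
                  rw [hm, e', hjo.neg_one_pow, one_pow] at h5
                  exact ZMod.neg_one_ne_one h5)
          exact ⟨x, h1', h2', h3, fun P hP => h4 _ hG0 P ((mem_similarity_iff hsesq _).mp hP)⟩
    obtain ⟨x, hx, hxr, hxns, hno'⟩ := hbad
    obtain ⟨g, -, hgx⟩ := h x (mem_sl_iff.mpr hx) hxr hxns
    exact hno' g hgx
  · rintro hrhs x hx ⟨z, hz⟩ -
    have hx1 : (x : Matrix (Fin n) (Fin n) F).det = 1 := congrArg Units.val (mem_sl_iff.mp hx)
    rcases hrhs with ⟨rfl, hcase⟩ | ⟨hr35, hnr, hv⟩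
    · rw [Units.val_pow_eq_pow_val] at hz
      haveI : Nonempty (Fin n) := ⟨⟨0, by omega⟩⟩
      have hz0 : z ≠ 0 := fun e0 => by
        have := congrArg Matrix.det hz
        rw [Matrix.det_pow, hx1, one_pow, e0, zero_smul, Matrix.det_zero] at this
        exact one_ne_zero this
      by_cases hp2 : p = 2
      · subst hp2
        exact fixes_involution_two (by omega) hu x hz0 hz
      · have h2 : (2 : F) ≠ 0 := Ring.two_ne_zero (by rw [ringChar.eq F p]; exact hp2)
        obtain ⟨t, ht⟩ := hqodd hp2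
        by_cases hsq : IsSquare z
        · obtain ⟨μ, rfl⟩ := hsq
          exact fixes_involution_square h2 (by omega) hu x (μ := μ) (fun e0 => hz0 (by rw [e0, mul_zero])) (by rw [hz, sq])
        · exfalso
          have hsq' : ∀ μ : F, μ ^ 2 ≠ z := fun μ hμ => hsq ⟨μ, by rw [← hμ, sq]⟩
          have hg : (Matrix.toLin' (x : Matrix (Fin n) (Fin n) F)) ^ 2 = z • 1 := by
            show Matrix.toLinAlgEquiv' (x : Matrix (Fin n) (Fin n) F) ^ 2 = _
            rw [← map_pow, hz, map_smul, map_one]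
          obtain ⟨b, hb, hbd⟩ := CfsgLib.LinearElements.det_of_nonpower hsq' hg
          rw [Module.finrank_fin_fun] at hb
          rw [LinearMap.det_toLin', hx1, pow_one, neg_one_mul] at hbd
          have hneg : ∀ μ : F, μ ^ 2 ≠ -z := fun μ hμ => by
            have hm4 : Fintype.card F % 4 = 1 := by
              have e4 : Fintype.card F = 1 + 4 * (t * t + t) := by rw [hq₀, ht]; ring
              omega
            obtain ⟨i, hi⟩ := CfsgLib.LinearElements.neg_one_eq_sq_of_mod_four (F := F) hm4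
            exact hsq' (i * μ) (by rw [mul_pow, hμ, sq, ← hi]; ring)
          have hle := CfsgLib.LinearElements.padicValNat_le_of_nonpower hneg (t := b) (by omega) hbd.symm
          have hcase' := hcase.resolve_left hp2
          have : padicValNat 2 n = padicValNat 2 b + 1 := by
            rw [hb, mul_comm, padicValNat.mul two_ne_zero (by omega), padicValNat.self (by norm_num)]; ring
          omega
    · have hN : q₀ - 1 ≠ 0 := by omega
      have hd1 : r ∣ q₀ - 1 := dvd_of_one_le_padicValNat (by omega)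
      have hplus : ¬ r ∣ q₀ + 1 := fun hd => by
        have h2r := Nat.dvd_sub hd hd1
        rw [show q₀ + 1 - (q₀ - 1) = 2 by omega] at h2r
        have := Nat.le_of_dvd two_pos h2r
        rcases hr35 with rfl | rfl <;> omega
      have hvq : padicValNat r (Fintype.card F - 1) = 1 := by
        rw [hfac, padicValNat.mul (by omega) hN, padicValNat.eq_zero_of_not_dvd hplus, hv]
      obtain ⟨h, h', d, M, τ, e1, e2, e3, hτ, hD, hM, hMs, hMσ⟩ :=
        exists_pairing_model (σ := (σ : F →+* F)) hr35 hnr hvq (fun a ha => by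
          obtain ⟨s, hs⟩ := hd1
          rw [RingHom.coe_coe, hconj.eq_pow, show q₀ = q₀ - 1 + 1 by omega, pow_succ, hs, pow_mul, ha, one_pow, one_mul])
          x (mem_sl_iff.mp hx) hz
      exact fixes_of_model hu x h h' e1 e2 _ M e3 hτ hD (by rw [hMs, hMσ]) hM
        (fun δ _ => exists_centralizer_diag ⟨0, by omega⟩ d)

end Cfsg.Agent.S5982
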