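import Cfsg.Statements.S5983
import Cfsg.Agent.LinearElements.CharTwoClasses
import Cfsg.Agent.AschbacherQuad.Basic

set_option autoImplicit false
open scoped MatrixGroups
open Cfsg

open CfsgLib.LinearElements CfsgLib.StdForms
open Matrix
open QuadraticMap (polar polarBilin)

namespace Cfsg.Agent.S5983

variable {F : Type*} [Field F] {d : ℕ}

local notation "V" => (Fin d ⊕ Fin d → F)
local notation "MM" => Matrix (Fin d ⊕ Fin d) (Fin d ⊕ Fin d) F

theorem isometry_of_similarity (hd : 0 < d) {Q : QuadraticForm F V} (hQ : ∀ u v, polar Q u v = Cfsg.sympForm d F u v)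
    {y : GL (Fin d ⊕ Fin d) F} (hy : y ∈ Cfsg.Geo.quadSimilarityGroup ⇑Q) (hs : y ∈ Cfsg.spGL d F) (v : V) :
    Q ((y : MM) *ᵥ v) = Q v := by
  obtain ⟨c, hc⟩ := hy
  let i : Fin d := ⟨0, hd⟩
  have hc1 : (c : F) = 1 := by
    have h := hs (Pi.single (.inr i) 1) (Pi.single (.inl i) 1)
    change Cfsg.sympForm d F ((y : MM) *ᵥ _) ((y : MM) *ᵥ _) = _ at h
    rw [← hQ, ← hQ] at h
    simp only [polar, ← Matrix.mulVec_add, hc] at h
    rw [← mul_sub, ← mul_sub] at h
    refine (mul_eq_right₀ ?_).mp h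
    change polar Q (Pi.single (Sum.inr i) 1) (Pi.single (Sum.inl i) 1) ≠ 0
    rw [hQ, CfsgLib.Forms.sympForm_single_inl, Pi.single_eq_same]
    exact one_ne_zero
  rw [hc, hc1, one_mul]

theorem invariant_of_conj (hd : 0 < d) {Q : QuadraticForm F V} (hQ : ∀ u v, polar Q u v = Cfsg.sympForm d F u v)
    {x g : GL (Fin d ⊕ Fin d) F} (hx : x ∈ Cfsg.spGL d F) (hg : g ∈ Cfsg.spGL d F)
    (hy : g⁻¹ * x * g ∈ Cfsg.Geo.quadSimilarityGroup ⇑Q) :
    ∃ Q' : QuadraticForm F V, (∀ u v, polar Q' u v = Cfsg.sympForm d F u v) ∧ Q'.Equivalent Q ∧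
      ∀ v, Q' ((x : MM) *ᵥ v) = Q' v := by
  have hgi := (Cfsg.spGL d F).inv_mem hg
  let L : V ≃ₗ[F] V := LinearEquiv.ofLinearMap (Matrix.toLin' ((g⁻¹ : GL (Fin d ⊕ Fin d) F) : MM)) (Matrix.toLin' (g : MM))
    (by rw [← Matrix.toLin'_mul, ← Units.val_mul, inv_mul_cancel, Units.val_one, Matrix.toLin'_one])
    (by rw [← Matrix.toLin'_mul, ← Units.val_mul, mul_inv_cancel, Units.val_one, Matrix.toLin'_one])
  refine ⟨Q.comp L.toLinearMap, fun u v => ?_, ⟨⟨L, fun v => rfl⟩⟩, fun v => ?_⟩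
  · show Q (L (u + v)) - Q (L u) - Q (L v) = _
    rw [map_add]
    refine (hQ _ _).trans ?_
    exact hgi u v
  · show Q (L ((x : MM) *ᵥ v)) = Q (L v)
    have e : L ((x : MM) *ᵥ v) = ((g⁻¹ * x * g : GL (Fin d ⊕ Fin d) F) : MM) *ᵥ (L v) := by
      show ((g⁻¹ : GL (Fin d ⊕ Fin d) F) : MM) *ᵥ ((x : MM) *ᵥ v) =
        ((g⁻¹ * x * g : GL (Fin d ⊕ Fin d) F) : MM) *ᵥ (((g⁻¹ : GL (Fin d ⊕ Fin d) F) : MM) *ᵥ v)
      rw [Matrix.mulVec_mulVec, Matrix.mulVec_mulVec, ← Units.val_mul, ← Units.val_mul, mul_assoc (g⁻¹ * x),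
        mul_inv_cancel, mul_one]
    rw [e, isometry_of_similarity hd hQ hy (mul_mem (mul_mem hgi hx) hg)]

/-- Odd order: a fixed-point-free isometry of a form of the other class has no conjugate in the group of `Q`. -/
theorem counter_odd [Fintype F] [CharP F 2] (hd : 0 < d) {Q : QuadraticForm F V}
    (hQ : ∀ u v, polar Q u v = Cfsg.sympForm d F u v) {r : ℕ} (hr : 1 < r) {κ : Type} [Fintype κ] [DecidableEq κ]
    (hκ : Fintype.card κ = 2 * d) (Q₁ : QuadraticForm F (κ → F)) (hnd : (polarBilin Q₁).Nondegenerate)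
    (hne : ¬ Q.Equivalent Q₁) {g₁ : GL κ F} (hg₁ : g₁ ^ r = 1)
    (hiso : ∀ v, Q₁ ((g₁ : Matrix κ κ F) *ᵥ v) = Q₁ v) (hfix : ∀ v, (g₁ : Matrix κ κ F) *ᵥ v = v → v = 0) :
    ∃ x ∈ Cfsg.spGL d F, (∃ z : F, ((x ^ r : GL (Fin d ⊕ Fin d) F) : MM) = z • (1 : MM)) ∧
      (∀ z : F, (x : MM) ≠ z • (1 : MM)) ∧
      ∀ g ∈ Cfsg.spGL d F, g⁻¹ * x * g ∉ Cfsg.Geo.quadSimilarityGroup ⇑Q := by
  classical
  have h2 : (2 : F) = 0 := CharTwo.two_eq_zero
  have halt : LinearMap.IsAlt (polarBilin Q₁) := fun v => by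
    show polar Q₁ v v = 0
    rw [QuadraticMap.polar_self, nsmul_eq_mul, Nat.cast_ofNat, h2, zero_mul]
  obtain ⟨k, b, b1, b2, b3⟩ := CfsgLib.Forms.exists_symplectic_basis_nondeg (polarBilin Q₁) halt hnd
  obtain rfl : k = d := by
    have := Module.finrank_eq_card_basis b
    rw [Module.finrank_fintype_fun_eq_card, hκ, Fintype.card_sum, Fintype.card_fin] at this
    omega
  let E : (Fin k ⊕ Fin k → F) ≃ₗ[F] (κ → F) := b.equivFun.symm
  have hform : (polarBilin Q₁).compl₁₂ E.toLinearMap E.toLinearMap = CfsgLib.Forms.sympBilin k F := by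
    refine LinearMap.ext_basis (Pi.basisFun F _) (Pi.basisFun F _) fun p q => ?_
    have hb : ∀ p, E (Pi.single p 1) = b p := fun p => by simp [E]
    rw [LinearMap.compl₁₂_apply, CfsgLib.Forms.sympBilin_apply, Pi.basisFun_apply, Pi.basisFun_apply,
      LinearEquiv.coe_coe, hb, hb]
    rcases q with j | j
    · rw [CfsgLib.Forms.sympForm_single_inl]
      rcases p with i | i
      · simp [b2]
      · show polar Q₁ (b (.inr i)) (b (.inl j)) = _
        rw [QuadraticMap.polar_comm, show polar Q₁ (b (.inl j)) (b (.inr i)) = _ from b1 j i]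
        simp [Pi.single_apply, eq_comm]
    · rw [CfsgLib.Forms.sympForm_single_inr, CharTwo.neg_eq]
      rcases p with i | i
      · rw [b1]
        simp [Pi.single_apply, eq_comm]
      · simp [b3]
  let Q₂ : QuadraticForm F (Fin k ⊕ Fin k → F) := Q₁.comp E.toLinearMap
  have hQ₂ : ∀ u v, polar Q₂ u v = Cfsg.sympForm k F u v := fun u v => by
    rw [← CfsgLib.Forms.sympBilin_apply, ← hform]
    show Q₁ (E (u + v)) - Q₁ (E u) - Q₁ (E v) = polar Q₁ (E u) (E v)
    rw [map_add]; rfl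
  let τ : Matrix (Fin k ⊕ Fin k) (Fin k ⊕ Fin k) F ≃ₐ[F] Module.End F (Fin k ⊕ Fin k → F) := Matrix.toLinAlgEquiv'
  let τ' : Matrix κ κ F ≃ₐ[F] Module.End F (κ → F) := Matrix.toLinAlgEquiv'
  let ψ : Matrix κ κ F →* Matrix (Fin k ⊕ Fin k) (Fin k ⊕ Fin k) F :=
    (τ.symm.toMonoidHom.comp (E.symm.conjAlgEquiv F).toMonoidHom).comp τ'.toMonoidHom
  let x : GL (Fin k ⊕ Fin k) F := Units.map ψ g₁
  have hxv : ∀ v, (x : Matrix (Fin k ⊕ Fin k) (Fin k ⊕ Fin k) F) *ᵥ v = E.symm ((g₁ : Matrix κ κ F) *ᵥ E v) := fun v => by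
    show τ (τ.symm ((E.symm.conjAlgEquiv F) (τ' (g₁ : Matrix κ κ F)))) v = _
    rw [τ.apply_symm_apply]
    rfl
  have hxQ : ∀ v, Q₂ ((x : Matrix (Fin k ⊕ Fin k) (Fin k ⊕ Fin k) F) *ᵥ v) = Q₂ v := fun v => by
    show Q₁ (E _) = Q₁ (E v)
    rw [hxv, E.apply_symm_apply, hiso]
  have hxsp : x ∈ Cfsg.spGL k F := fun u v => by
    show Cfsg.sympForm k F _ _ = _
    rw [← hQ₂, ← hQ₂, polar, polar]
    exact congr_arg₂ (· - ·) (congr_arg₂ (· - ·) ((congrArg Q₂ (Matrix.mulVec_add _ _ _).symm).trans (hxQ _)) (hxQ _)) (hxQ _)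
  have hxfix : ∀ v, (x : Matrix (Fin k ⊕ Fin k) (Fin k ⊕ Fin k) F) *ᵥ v = v → v = 0 := fun v hv => by
    rw [hxv, LinearEquiv.symm_apply_eq] at hv
    exact E.map_eq_zero_iff.mp (hfix _ hv)
  refine ⟨x, hxsp, ⟨1, by rw [← map_pow, hg₁, map_one, Units.val_one, one_smul]⟩, fun z hz => ?_, fun g hg hy => ?_⟩
  · let i : Fin k := ⟨0, hd⟩
    set w : Fin k ⊕ Fin k → F := Pi.single (.inr i) 1 with hw
    set w' : Fin k ⊕ Fin k → F := Pi.single (.inl i) 1 with hw'
    have h1 : Cfsg.sympForm k F ((x : Matrix (Fin k ⊕ Fin k) (Fin k ⊕ Fin k) F) *ᵥ w)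
        ((x : Matrix (Fin k ⊕ Fin k) (Fin k ⊕ Fin k) F) *ᵥ w') = Cfsg.sympForm k F w w' := hxsp w w'
    rw [hz, Matrix.smul_mulVec, Matrix.smul_mulVec, Matrix.one_mulVec, Matrix.one_mulVec,
      ← CfsgLib.Forms.sympBilin_apply, map_smul, map_smul, LinearMap.smul_apply, CfsgLib.Forms.sympBilin_apply,
      hw, hw', CfsgLib.Forms.sympForm_single_inl, Pi.single_eq_same, smul_eq_mul, smul_eq_mul, mul_one] at h1
    have hz1 : z = 1 := by
      rcases mul_self_eq_one_iff.mp h1 with h | h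
      · exact h
      · rw [h, CharTwo.neg_eq]
    have : w = 0 := hxfix w (by rw [hz, hz1, one_smul, Matrix.one_mulVec])
    simp [hw] at this
  · obtain ⟨Q₃, hQ₃, he, hinv⟩ := invariant_of_conj hd hQ hxsp hg hy
    refine hne (he.symm.trans ?_)
    -- the invariant form is unique
    have heq : Q₃ = Q₂ := by
      refine QuadraticMap.ext fun v => ?_
      let f := Matrix.toLin' (x : Matrix (Fin k ⊕ Fin k) (Fin k ⊕ Fin k) F) + LinearMap.id
      have hinj : Function.Injective f := by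
        rw [injective_iff_map_eq_zero]
        intro u hu
        refine hxfix u ?_
        have hu' : (x : Matrix (Fin k ⊕ Fin k) (Fin k ⊕ Fin k) F) *ᵥ u + u = 0 := hu
        rw [add_eq_zero_iff_eq_neg.mp hu', ← neg_one_smul F u, CharTwo.neg_eq (1 : F), one_smul]
      obtain ⟨u, rfl⟩ := LinearMap.injective_iff_surjective.mp hinj v
      have hp := (hQ₃ ((x : Matrix (Fin k ⊕ Fin k) (Fin k ⊕ Fin k) F) *ᵥ u) u).trans (hQ₂ _ u).symm
      simp only [polar, hinv, hxQ] at hp
      show Q₃ ((x : Matrix (Fin k ⊕ Fin k) (Fin k ⊕ Fin k) F) *ᵥ u + u) = Q₂ ((x : Matrix (Fin k ⊕ Fin k) (Fin k ⊕ Fin k) F) *ᵥ u + u)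
      linear_combination hp + (Q₃ u - Q₂ u) * h2
    exact ⟨⟨E, fun v => by rw [heq]; rfl⟩⟩

/-- For even `d` some involution preserves forms of plus type only. -/
theorem exists_involution [Fintype F] [CharP F 2] {e : ℕ} (hd : d = 2 * e) (he : 0 < e) :
    ∃ x ∈ Cfsg.spGL d F, (∃ z : F, ((x ^ 2 : GL (Fin d ⊕ Fin d) F) : MM) = z • (1 : MM)) ∧
      (∀ z : F, (x : MM) ≠ z • (1 : MM)) ∧
      ∀ Q' : QuadraticForm F V, (∀ u v, polar Q' u v = Cfsg.sympForm d F u v) →
        (∀ v, Q' ((x : MM) *ᵥ v) = Q' v) → ∃ U : Submodule F V, (∀ u ∈ U, Q' u = 0) ∧ Module.finrank F U = d := by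
  classical
  have h2 : (2 : F) = 0 := CharTwo.two_eq_zero
  let π : Fin d → Fin d := fun i => ⟨if (i : ℕ) % 2 = 0 then (i : ℕ) + 1 else (i : ℕ) - 1, by split <;> omega⟩
  have hππ : ∀ i, π (π i) = i := fun i => Fin.ext (by simp only [π]; split_ifs <;> omega)
  have hπne : ∀ i, π i ≠ i := fun i h => by
    have := congrArg Fin.val h
    simp only [π] at this
    split_ifs at this <;> omega
  let σ : Equiv.Perm (Fin d) := ⟨π, π, hππ, hππ⟩
  let N : V →ₗ[F] V :=
    { toFun := fun v => Sum.elim (fun i => v (.inr (π i))) 0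
      map_add' := fun u v => funext fun i => by rcases i with i | i <;> simp
      map_smul' := fun c v => funext fun i => by rcases i with i | i <;> simp }
  have hNN : ∀ v, N (N v) = 0 := fun v => funext fun i => by rcases i with i | i <;> simp [N]
  have hf1 : ∀ v, Cfsg.sympForm d F (N v) v = 0 := fun v => by
    rw [CfsgLib.Forms.sympForm_eq_sum]
    refine Finset.sum_involution (fun i _ => π i) (fun i _ => ?_) (fun i _ _ => hπne i) (fun i _ => Finset.mem_univ _)
      (fun i _ => hππ i)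
    simp only [N, LinearMap.coe_mk, AddHom.coe_mk, Sum.elim_inl, Sum.elim_inr, Pi.zero_apply, hππ]
    linear_combination -(v (.inr i) * v (.inr (π i))) * h2
  have hxx : ∀ v, v + N v + N (v + N v) = v := fun v => by
    rw [map_add, hNN, add_zero, add_assoc, ← two_smul F, h2, zero_smul, add_zero]
  let L : V ≃ₗ[F] V := LinearEquiv.ofLinearMap (LinearMap.id + N) (LinearMap.id + N) (LinearMap.ext hxx) (LinearMap.ext hxx)
  have hL : ∀ v, L v = v + N v := fun v => rfl
  have hadj : ∀ u v, Cfsg.sympForm d F (N u) v + Cfsg.sympForm d F u (N v) = 0 := fun u v => by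
    have h := hf1 (u + v)
    rw [← CfsgLib.Forms.sympBilin_apply, map_add, map_add, map_add, LinearMap.add_apply, LinearMap.add_apply,
      CfsgLib.Forms.sympBilin_apply, CfsgLib.Forms.sympBilin_apply, CfsgLib.Forms.sympBilin_apply,
      CfsgLib.Forms.sympBilin_apply, hf1, hf1, CfsgLib.Forms.sympForm_swap u (N v), CharTwo.neg_eq] at h
    linear_combination h
  obtain ⟨A, hA⟩ := CfsgLib.Forms.exists_spGL_of_linearEquiv L fun u v => by
    have h0 : Cfsg.sympForm d F (N u) (N v) = 0 := by simp [CfsgLib.Forms.sympForm_eq_sum, N]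
    rw [hL, hL]
    simp only [← CfsgLib.Forms.sympBilin_apply, map_add, LinearMap.add_apply] at h0 ⊢
    have h1 := hadj u v
    simp only [← CfsgLib.Forms.sympBilin_apply] at h1
    linear_combination h0 + h1
  have hAv : ∀ v, ((A : GL (Fin d ⊕ Fin d) F) : MM) *ᵥ v = v + N v := hA
  refine ⟨A, A.2, ⟨1, ?_⟩, fun z hz => ?_, fun Q' hQ' hinv => ?_⟩
  · rw [one_smul, Units.val_pow_eq_pow_val]
    refine Matrix.toLin'.injective (LinearMap.ext fun v => ?_)
    rw [Matrix.toLin'_apply, sq, ← Matrix.mulVec_mulVec, hAv, hAv, Matrix.toLin'_one, LinearMap.id_apply, hxx]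
  · let i : Fin d := ⟨0, by omega⟩
    have h := congrArg (fun M : MM => (M *ᵥ Pi.single (.inr i) 1) (.inl (π i))) hz
    simp [hAv, N, hππ, Matrix.smul_mulVec] at h
  · let U : Submodule F V := LinearMap.range N
    refine ⟨U, ?_, ?_⟩
    · rintro _ ⟨v, rfl⟩
      have h := hinv v
      rw [hAv, QuadraticMap.map_add (⇑Q'), hQ', CfsgLib.Forms.sympForm_swap, hf1, neg_zero, add_zero] at h
      linear_combination h
    · have hker : LinearMap.ker N = LinearMap.ker (LinearMap.funLeft F F (Sum.inr : Fin d → Fin d ⊕ Fin d)) := by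
        ext v
        simp only [LinearMap.mem_ker]
        constructor
        · intro h; funext i
          have := congrFun h (.inl (π i))
          simpa [N, hππ] using this
        · intro h; funext i
          rcases i with i | i
          · simpa [N] using congrFun h (π i)
          · simp [N]
      have h1 := LinearMap.finrank_range_add_finrank_ker N
      have h3 := LinearMap.finrank_range_add_finrank_ker (LinearMap.funLeft F F (Sum.inr : Fin d → Fin d ⊕ Fin d))
      rw [hker] at h1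
      rw [LinearMap.range_eq_top.mpr (LinearMap.funLeft_surjective_of_injective F F _ Sum.inr_injective), finrank_top,
        Module.finrank_fin_fun] at h3
      show Module.finrank F (LinearMap.range N) = d
      omega


/-- Elements of prime order of PSp_n(q), q even, and the subgroups of orthogonal type. Here `T = Sp_{2d}(F)` for a field `F` of characteristic 2 with `q` elements (`d ≥ 2`, `(d, q) ≠ (2, 2)`), realised as the invertible matrices preserving the standard alternating form; `Q` is a non-degenerate quadratic form on `F^{2d}` whose polar form is that alternating form, and `H` is the subgroup of `T` preserving `Q` up to a scalar (equivalently preserving `Q`) — a subgroup of type O^±_{2d}(q) (maximality is not assumed); `Q` is of plus type when `F^{2d}` contains a `d`-dimensional subspace on which `Q` vanishes, of minus type otherwise. Ω is the set of cosets of `H` in `T`, so an element of `T` of prime order `r` (`x ∈ T` with `x^r` scalar,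 `x` not scalar) fixes a point of Ω exactly when some `T`-conjugate of `x` preserves `Q`. Let `r` be a prime dividing the index of `H`. Then every element of `T` of order `r` fixes a point of Ω if and only if `r = 2` and either `Q` is of plus type or `d` is odd. -/
theorem result {F : Type*} [Field F] [Fintype F] {p : ℕ} [Fact p.Prime] [CharP F p] {q : ℕ} (hq : Fintype.card F = q)
    (hp : p = 2) (d : ℕ) (hd : 2 ≤ d) (hT : (d, q) ≠ (2, 2)) (Q : (Fin d ⊕ Fin d → F) → F) (hQ : Cfsg.Geo.IsNondegenerateQuadraticForm Q)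
    (hQf : ∀ u v, QuadraticMap.polar Q u v = Cfsg.sympForm d F u v)
    (r : ℕ) [Fact r.Prime]
    (hΩ : r ∣ (Cfsg.Geo.quadSimilarityGroup Q).relIndex (Cfsg.spGL d F)) :
    (∀ x ∈ Cfsg.spGL d F, (∃ z : F, ((x ^ r : GL (Fin d ⊕ Fin d) F) : Matrix (Fin d ⊕ Fin d) (Fin d ⊕ Fin d) F) = z • (1 : Matrix (Fin d ⊕ Fin d) (Fin d ⊕ Fin d) F)) →
      (∀ z : F, (x : Matrix (Fin d ⊕ Fin d) (Fin d ⊕ Fin d) F) ≠ z • (1 : Matrix (Fin d ⊕ Fin d) (Fin d ⊕ Fin d) F)) →
      ∃ g ∈ Cfsg.spGL d F, g⁻¹ * x * g ∈ Cfsg.Geo.quadSimilarityGroup Q) ↔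
    (r = 2 ∧ (Cfsg.Geo.IsPlusTypeOn Q ⊤ ∨ Odd d)) := by
  subst hq hp
  classical
  obtain ⟨k, rfl⟩ : ∃ k, d = k + 1 := ⟨d - 1, by omega⟩
  let QQ := CfsgLib.AschbacherQuad.quadForm hQ
  have hQQ : ⇑QQ = Q := CfsgLib.AschbacherQuad.coe_quadForm hQ
  have hQp : ∀ u v, polar QQ u v = Cfsg.sympForm (k + 1) F u v := hQf
  have hnd := nondegenerate_of_polar hQp
  have hcard : Fintype.card (Fin (k + 1) ⊕ Fin (k + 1)) = 2 * (k + 1) := by simp [two_mul]
  have hplus : Cfsg.Geo.IsPlusTypeOn Q ⊤ ↔ QQ.Equivalent (plusQ (k + 1) F) := by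
    constructor
    · rintro ⟨U, -, hU, hd'⟩
      refine plus_of_singular_half QQ hnd hcard (U := U) hU ?_
      rw [finrank_top, Module.finrank_fintype_fun_eq_card, hcard] at hd'
      omega
    · intro h
      obtain ⟨U, hU, hUd⟩ := singular_half_of_equivalent QQ h
      exact ⟨U, le_top, hU, by rw [finrank_top, Module.finrank_fintype_fun_eq_card, hcard, hUd]⟩
  constructor
  · intro h
    by_contra hno
    have hr := (Fact.out : r.Prime)
    have hbad : ∀ x ∈ Cfsg.spGL (k + 1) F,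
        (∃ z : F, ((x ^ r : GL (Fin (k + 1) ⊕ Fin (k + 1)) F) : Matrix (Fin (k + 1) ⊕ Fin (k + 1)) (Fin (k + 1) ⊕ Fin (k + 1)) F) = z • 1) →
        (∀ z : F, (x : Matrix (Fin (k + 1) ⊕ Fin (k + 1)) (Fin (k + 1) ⊕ Fin (k + 1)) F) ≠ z • 1) →
        ∃ g ∈ Cfsg.spGL (k + 1) F, g⁻¹ * x * g ∈ Cfsg.Geo.quadSimilarityGroup ⇑QQ := h
    by_cases hr2 : r = 2
    · subst hr2
      rw [not_and_or, not_or] at hno
      obtain ⟨hnp, hev⟩ := hno.resolve_left (fun h => h rfl)
      obtain ⟨e, he⟩ := Nat.not_odd_iff_even.mp hev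
      obtain ⟨x, hx, hx2, hxns, hQ'⟩ := exists_involution (F := F) (d := k + 1) (e := e) (by omega) (by omega)
      obtain ⟨g, hg, hy⟩ := hbad x hx hx2 hxns
      obtain ⟨Q', hQ'p, heq, hinv⟩ := invariant_of_conj (by omega) hQp hx hg hy
      obtain ⟨U, hU, hUd⟩ := hQ' Q' hQ'p hinv
      exact hnp (hplus.mpr (heq.symm.trans (plus_of_singular_half Q' (nondegenerate_of_polar hQ'p) hcard hU hUd)))
    · have hodd : Odd r := hr.odd_of_ne_two hr2
      have hrq : ¬ r ∣ Fintype.card F ^ (k + 1) := fun h' => hr2 (by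
        obtain ⟨⟨j, hj⟩, -, hc⟩ := FiniteField.card F 2
        rw [hc] at h'
        exact (Nat.prime_dvd_prime_iff_eq hr Nat.prime_two).mp (hr.dvd_of_dvd_pow (hr.dvd_of_dvd_pow h')))
      rw [← hQQ] at hΩ
      rcases index_dvd rfl hQp with ⟨he, hd'⟩ | ⟨⟨a, b, hab, he⟩, hd'⟩
      · have hdvd := (hr.dvd_mul.mp (hΩ.trans hd')).resolve_left hrq
        obtain ⟨μ, hμ⟩ : ∃ μ : F, ∀ t : F, t ^ 2 + t ≠ μ := by
          obtain ⟨S, hS, hSm⟩ := exists_artinSchreier_image (F := F)
          by_contra hall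
          push Not at hall
          have : S = ⊤ := eq_top_iff.mpr fun s _ => (hSm s).mpr (hall s)
          rw [this, AddSubgroup.index_top] at hS
          exact absurd hS (by norm_num)
        have hab : CfsgLib.OrthTwo.Aniso (1 : F) μ := by
          intro z₀ z₁ hz
          by_cases h1 : z₁ = 0
          · subst h1; simpa using hz
          · refine absurd ?_ (hμ (z₀ / z₁))
            field_simp
            linear_combination hz - μ * z₁ ^ 2 * (CharTwo.two_eq_zero (R := F))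
        obtain ⟨g₁, hg₁, hiso, hfix⟩ := exists_minus_singer hdvd hab
        obtain ⟨x, hx, hxr, hxns, hno'⟩ := counter_odd (by omega) hQp hr.one_lt (by simp; omega) (minusQ k F 1 μ)
          (minus_nondegenerate k hab) (fun hh => by
            obtain ⟨U, hU, hUd⟩ := singular_half_of_equivalent QQ he
            exact not_singular_half QQ hnd hcard hab hh hU hUd)
          hg₁ (fun v => by rw [coe_minusQ]; exact hiso v) hfix
        obtain ⟨g, hg, hy⟩ := hbad x hx hxr hxns
        exact hno' g hg hy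
      · have hdvd := (hr.dvd_mul.mp (hΩ.trans hd')).resolve_left hrq
        obtain ⟨A, hA, hAfix⟩ := exists_fixedPointFree (p := 2) (by omega) hdvd
        obtain ⟨g₁, hg₁, hiso, hfix⟩ := exists_plus_levi hr.pos hA hAfix
        obtain ⟨x, hx, hxr, hxns, hno'⟩ := counter_odd (by omega) hQp hr.one_lt hcard (plusQ (k + 1) F)
          (plusQ_nondegenerate _) (fun hh => by
            obtain ⟨U, hU, hUd⟩ := singular_half_of_equivalent QQ hh
            exact not_singular_half QQ hnd hcard hab he hU hUd)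
          hg₁ (fun v => by rw [coe_plusQ]; exact hiso v) hfix
        obtain ⟨g, hg, hy⟩ := hbad x hx hxr hxns
        exact hno' g hg hy
  · rintro ⟨rfl, hcase⟩ x hx ⟨z, hz⟩ -
    rw [Units.val_pow_eq_pow_val] at hz
    set X : Matrix (Fin (k + 1) ⊕ Fin (k + 1)) (Fin (k + 1) ⊕ Fin (k + 1)) F := (x : Matrix (Fin (k + 1) ⊕ Fin (k + 1)) (Fin (k + 1) ⊕ Fin (k + 1)) F) with hX
    let i : Fin (k + 1) := 0
    have hz1 : z = 1 := by
      have h1 : Cfsg.sympForm (k + 1) F ((X * X) *ᵥ Pi.single (.inr i) 1) ((X * X) *ᵥ Pi.single (.inl i) 1) =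
          Cfsg.sympForm (k + 1) F (Pi.single (.inr i) 1) (Pi.single (.inl i) 1) := by
        rw [← Matrix.mulVec_mulVec, ← Matrix.mulVec_mulVec]
        exact (hx _ _).trans (hx _ _)
      rw [← sq, hz, Matrix.smul_mulVec, Matrix.smul_mulVec, Matrix.one_mulVec, Matrix.one_mulVec,
        ← CfsgLib.Forms.sympBilin_apply, map_smul, map_smul, LinearMap.smul_apply, CfsgLib.Forms.sympBilin_apply,
        CfsgLib.Forms.sympForm_single_inl, Pi.single_eq_same, smul_eq_mul, smul_eq_mul, mul_one] at h1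
      rcases mul_self_eq_one_iff.mp h1 with h | h
      · exact h
      · rw [h, CharTwo.neg_eq]
    obtain ⟨a, heq, hinv⟩ := exists_invariant_form (d := k) rfl hQp (hcase.imp hplus.mp id) (x := Matrix.toLin' X)
      (fun v => by rw [Matrix.toLin'_apply, Matrix.toLin'_apply, Matrix.mulVec_mulVec, ← sq, hz, hz1, one_smul,
        Matrix.one_mulVec])
      (fun u v => by rw [Matrix.toLin'_apply, Matrix.toLin'_apply]; exact hx u v)
    obtain ⟨g, hg, hgv⟩ := exists_spGL_of_forms hQp (shiftForm_polar hQp a) heq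
    refine ⟨g, hg, ⟨1, fun v => ?_⟩⟩
    rw [Units.val_one, one_mul, ← hQQ, ← hgv, ← hgv, Units.val_mul, Units.val_mul, ← Matrix.mulVec_mulVec,
      ← Matrix.mulVec_mulVec, Matrix.mulVec_mulVec, ← Units.val_mul, mul_inv_cancel, Units.val_one, Matrix.one_mulVec,
      ← Matrix.toLin'_apply, ← hX, hinv]

end Cfsg.Agent.S5983
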