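import Cfsg.Statements.S5984
import Cfsg.Agent.LinearElements.UnitaryPairs
import Cfsg.Agent.LinearElements.TwistedForms

set_option autoImplicit false
open scoped MatrixGroups
open Cfsg

open Matrix CfsgLib.AschbacherUnitary CfsgLib.UnitaryPairs CfsgLib.Aschbacher

namespace Cfsg.Agent.S5984

variable {F : Type*} [Field F] [Fintype F] {n h q : ℕ} {σ : F ≃+* F}

theorem rank_diagonal_sub [DecidableEq F] (d : Fin n → F) (c : F) :
    (Matrix.diagonal d - c • 1).rank = (Finset.univ.filter fun i => d i ≠ c).card := by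
  rw [Matrix.smul_one_eq_diagonal, Matrix.diagonal_sub, Matrix.rank_diagonal, Fintype.card_subtype]
  congr 1
  ext i
  simp [sub_eq_zero]

theorem rank_fromBlocks_zero {K : Type*} [Field K] {b c : ℕ} (A : Matrix (Fin b) (Fin b) K) :
    (Matrix.fromBlocks A 0 0 (0 : Matrix (Fin c) (Fin c) K)).rank = A.rank := by
  refine le_antisymm ?_ ?_
  · have e : Matrix.fromBlocks A 0 0 (0 : Matrix (Fin c) (Fin c) K) =
        Matrix.fromRows (1 : Matrix (Fin b) (Fin b) K) (0 : Matrix (Fin c) (Fin b) K) *
          (A * Matrix.fromCols (1 : Matrix (Fin b) (Fin b) K) (0 : Matrix (Fin b) (Fin c) K)) := by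
      rw [Matrix.mul_fromCols, Matrix.fromRows_mul_fromCols]
      simp
    rw [e]
    exact (Matrix.rank_mul_le_right _ _).trans (Matrix.rank_mul_le_left _ _)
  · have h := Matrix.rank_submatrix_le (A := Matrix.fromBlocks A 0 0 (0 : Matrix (Fin c) (Fin c) K)) Sum.inl Sum.inl
    rwa [show (Matrix.fromBlocks A 0 0 (0 : Matrix (Fin c) (Fin c) K)).submatrix Sum.inl Sum.inl = A from
      Matrix.ext fun i j => rfl] at h

/-- A counterexample from a rank that is odd at a scalar of norm one. -/
theorem counter_of_rank (hc : IsConj q σ) (hh : 0 < h) {D : Fin 2 → Submodule F (Fin n → F)} (hD : IsPair n h q D)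
    {r : ℕ} {x g : GL (Fin n) F} (hx : x ∈ Cfsg.GU n F q)
    (hg : g ∈ Cfsg.GU n F q) {c : F} (hcn : c * σ c = 1)
    (hodd : Odd ((x : Matrix (Fin n) (Fin n) F) - c • 1).rank)
    (hsmall : ((x : Matrix (Fin n) (Fin n) F) - c • 1).rank < h ∨
      (Odd r ∧ ∃ z : F, z ≠ 0 ∧ (x : Matrix (Fin n) (Fin n) F) ^ r = z • 1)) :
    g⁻¹ * x * g ∉ Cfsg.Geo.decompositionStabilizer D := by
  intro hst
  rcases rank_fixed_or_swapped hc hD (mul_mem (mul_mem (inv_mem hg) hx) hg) hst with h1 | ⟨h1, h2⟩
  · have := h1 c hcn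
    rw [rank_conj_sub] at this
    exact (Nat.not_even_iff_odd.mpr hodd) this
  · rcases hsmall with h3 | ⟨hr, z, hz, hpow⟩
    · have := h1 c
      rw [rank_conj_sub] at this
      omega
    · refine h2 r hr z hz hh ?_
      rw [← Units.val_pow_eq_pow_val, show (g⁻¹ * x * g) ^ r = g⁻¹ * x ^ r * g by
        rw [show g⁻¹ * x * g = MulAut.conj g⁻¹ x by simp, ← map_pow]; simp, Units.val_mul, Units.val_mul,
        Units.val_pow_eq_pow_val, hpow, Matrix.mul_smul, Matrix.mul_one, Matrix.smul_mul, ← Units.val_mul,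
        inv_mul_cancel, Units.val_one]

/-- Elements of prime order of PSU_n(q) and the stabilizers of pairs of complementary totally singular subspaces. Here `T = PSU_n(q)` is realised through `SU_n(q)`, the matrices of determinant 1 over the field `F` with `q²` elements preserving the hermitian form `Σ uᵢ vᵢ^q`, with `n ≥ 4` even; `D` is a pair of complementary subspaces of dimension `n/2` on each of which the form vanishes identically, and `H` is the subgroup of `SU_n(q)` fixing or interchanging the two members — a subgroup of type GL_{n/2}(q²).2 (maximality is not assumed). Ω is the set of cosets of `H`, so an element of `T` of prime order `r` (`x ∈ SU_n(q)` with `x^r` scalar, `x` not scalar) fixes a point of Ω exactly when some `SU_n(q)`-conjugate of `x` lies in `H`. Let `r` be a prime dividing the index of `H`. Then every element of `T` of order `r` fixes a point of Ω if and only if `r = 2`, `q` is odd and `(q + 1)_2 ≤ (n)_2` (2-parts). -/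
theorem result {F : Type*} [Field F] [Fintype F] {p : ℕ} [Fact p.Prime] [CharP F p] {q : ℕ} (hq : Fintype.card F = q ^ 2)
    (n : ℕ) (hn : 4 ≤ n) (he : Even n) (D : Fin 2 → Submodule F (Fin n → F)) (hD : Cfsg.Geo.IsMDecomposition (n / 2) D)
    (hDs : ∀ i, Cfsg.Geo.IsTotallySingularFor (Cfsg.hermForm n F q) (D i))
    (r : ℕ) [Fact r.Prime]
    (hΩ : r ∣ (Cfsg.Geo.decompositionStabilizer D).relIndex (Cfsg.GU n F q ⊓ Cfsg.Geo.specialLinear (Fin n) F)) :
    (∀ x ∈ Cfsg.GU n F q ⊓ Cfsg.Geo.specialLinear (Fin n) F, (∃ z : F, ((x ^ r : GL (Fin n) F) : Matrix (Fin n) (Fin n) F) = z • (1 : Matrix (Fin n) (Fin n) F)) →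
      (∀ z : F, (x : Matrix (Fin n) (Fin n) F) ≠ z • (1 : Matrix (Fin n) (Fin n) F)) →
      ∃ g ∈ Cfsg.GU n F q ⊓ Cfsg.Geo.specialLinear (Fin n) F, g⁻¹ * x * g ∈ Cfsg.Geo.decompositionStabilizer D) ↔
    (r = 2 ∧ Odd q ∧ padicValNat 2 (q + 1) ≤ padicValNat 2 n) := by
  classical
  obtain ⟨σ, hc⟩ := exists_isConj hq
  have hr := (Fact.out : r.Prime)
  have hp := (Fact.out : p.Prime)
  have hq1 : 1 < q := hc.one_lt
  haveI : Fact (Nat.Prime 2) := ⟨Nat.prime_two⟩
  obtain ⟨h, hnh⟩ := he
  have hn2 : n / 2 = h := by omega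
  rw [hn2] at hD
  have hP : IsPair n h q D := isPair_of_decomp hD (by omega) hDs
  have hh : 0 < h := by omega
  have hh2 : 2 ≤ h := by omega
  have hn0 : 0 < n := by omega
  let i0 : Fin n := ⟨0, hn0⟩
  let i1 : Fin n := ⟨1, by omega⟩
  have h01 : i0 ≠ i1 := by simp [i0, i1, Fin.ext_iff]
  haveI : Nonempty (Fin n) := ⟨i0⟩
  obtain ⟨a1, ha1, ha1o⟩ := exists_normOne hq hc
  have hfac : Fintype.card F - 1 = (q + 1) * (q - 1) := by
    have := Nat.sq_sub_sq q 1
    rw [one_pow] at this
    rw [hq, this]
  have hnormpow : ∀ c : F, c ^ (q + 1) = 1 → c * σ c = 1 := fun c hc' => by rw [hc.eq_pow, ← pow_succ', hc']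
  have diagMem : ∀ (l : Fin n → F), (∀ i, l i * σ (l i) = 1) → (∏ i, l i = 1) →
      ∃ x ∈ Cfsg.GU n F q ⊓ Cfsg.Geo.specialLinear (Fin n) F, (x : Matrix (Fin n) (Fin n) F) = Matrix.diagonal l := by
    intro l hl hprod
    refine ⟨diagGL fun i => Units.mk0 (l i) (fun e0 => by simpa [e0] using hl i),
      diagGL_mem hc (fun i => hl i) hprod, rfl⟩
  have hdiagscal : ∀ (l : Fin n → F) (i j : Fin n), l i ≠ l j → ∀ z : F, Matrix.diagonal l ≠ z • (1 : Matrix (Fin n) (Fin n) F) :=
    fun l i j hij z hz => hij (by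
      have ei := congrFun (congrFun hz i) i
      have ej := congrFun (congrFun hz j) j
      simp at ei ej
      exact ei.trans ej.symm)
  have hpq : ∀ m, r ≠ p → ¬ r ∣ q ^ m := fun m hrp hd => by
    obtain ⟨⟨f, hf⟩, -, hcard⟩ := FiniteField.card F p
    have h1 : r ∣ p ^ f := by
      have hc' : Fintype.card F = p ^ f := hcard
      rw [← hc', hq]
      exact dvd_pow (hr.dvd_of_dvd_pow hd) two_ne_zero
    exact hrp ((Nat.prime_dvd_prime_iff_eq hr hp).mp (hr.dvd_of_dvd_pow h1))
  constructor
  · intro hall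
    by_contra hrhs
    suffices hbad : ∃ (x : GL (Fin n) F) (c : F), x ∈ Cfsg.GU n F q ⊓ Cfsg.Geo.specialLinear (Fin n) F ∧ c * σ c = 1 ∧
        (∃ z : F, (x : Matrix (Fin n) (Fin n) F) ^ r = z • (1 : Matrix (Fin n) (Fin n) F)) ∧
        (∀ z : F, (x : Matrix (Fin n) (Fin n) F) ≠ z • (1 : Matrix (Fin n) (Fin n) F)) ∧
        Odd ((x : Matrix (Fin n) (Fin n) F) - c • 1).rank ∧
        (r ≠ 2 ∨ ((x : Matrix (Fin n) (Fin n) F) - c • 1).rank < h) by
      obtain ⟨x, c, hx, hcn, ⟨z, hz⟩, hns, hodd, hsm⟩ := hbad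
      obtain ⟨g, hg, hmem⟩ := hall x hx ⟨z, by rw [Units.val_pow_eq_pow_val, hz]⟩ hns
      refine counter_of_rank (r := r) hc hh hP hx.1 hg.1 hcn hodd ?_ hmem
      rcases hsm with h2 | h2
      · refine Or.inr ⟨hr.odd_of_ne_two h2, z, fun e0 => ?_, hz⟩
        have := congrArg Matrix.det hz
        rw [Matrix.det_pow, show (x : Matrix (Fin n) (Fin n) F).det = 1 from congrArg Units.val (MonoidHom.mem_ker.mp hx.2),
          one_pow, e0, zero_smul, Matrix.det_zero] at this
        exact one_ne_zero this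
      · exact Or.inl h2
    by_cases hrp : r = p
    · -- a transvection
      subst hrp
      have hσ' : σ ≠ RingEquiv.refl F := hc.ne_refl
      obtain ⟨ε, hε⟩ : ∃ ε : F, ε * σ ε = -1 := by
        by_cases h2 : (2 : F) = 0
        · exact ⟨1, by rw [map_one, mul_one]; linear_combination h2⟩
        · obtain ⟨w, hw⟩ := IsCyclic.exists_ofOrder_eq_natCard (α := Fˣ)
          rw [Nat.card_units, Nat.card_eq_fintype_card] at hw
          have hodd : Odd q := by
            rcases Nat.even_or_odd q with he' | ho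
            · exfalso
              obtain ⟨t, ht⟩ := he'
              have hm := FiniteField.odd_card_of_char_ne_two
                (fun e : ringChar F = 2 => h2 (by rw [← Nat.cast_ofNat, ← e, ringChar.Nat.cast_ringChar]))
              rw [hq, ht] at hm
              rw [Nat.pow_mod, show (t + t) % 2 = 0 by omega] at hm
              norm_num at hm
            · exact ho
          obtain ⟨t, ht⟩ := hodd
          refine ⟨((w ^ t : Fˣ) : F), ?_⟩
          have hsq : (((w ^ t : Fˣ) : F) * σ ((w ^ t : Fˣ) : F)) ^ 2 = 1 := by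
            rw [hc.eq_pow, ← pow_succ', ← pow_mul, Units.val_pow_eq_pow_val, ← pow_mul,
              show t * ((q + 1) * 2) = Fintype.card F - 1 by
                rw [hfac, show q - 1 = 2 * t by omega]; ring,
              FiniteField.pow_card_sub_one_eq_one _ w.ne_zero]
          refine (sq_eq_one_iff.mp hsq).resolve_left fun e0 => ?_
          rw [hc.eq_pow, ← pow_succ', Units.val_pow_eq_pow_val, ← pow_mul] at e0
          have h4 := orderOf_dvd_of_pow_eq_one (Units.ext (by simpa using e0) : w ^ (t * (q + 1)) = 1)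
          rw [hw, hfac, show q - 1 = 2 * t by omega] at h4
          have := Nat.le_of_dvd (Nat.mul_pos (by omega) (by omega)) h4
          nlinarith
      obtain ⟨c, hc0, hcs⟩ : ∃ c : F, c ≠ 0 ∧ c + σ c = 0 := by
        obtain ⟨c, hc0, h⟩ := CfsgLib.MaxSub.exists_traceZero hc.ne_refl hc.involutive
        exact ⟨c, hc0, by rw [h, add_neg_cancel]⟩
      let v : Fin n → F := fun i => if i = i0 then 1 else if i = i1 then ε else 0
      have hvv : v ⬝ᵥ (σ ∘ v) = 0 := by
        rw [dotProduct, ← Finset.sum_subset (Finset.subset_univ {i0, i1}) (fun i _ hi => ?_), Finset.sum_pair h01]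
        · simp [v, h01.symm, hε]
        · simp only [Finset.mem_insert, Finset.mem_singleton, not_or] at hi
          simp [v, hi.1, hi.2]
      have hcomm : (σ ∘ v) ⬝ᵥ v = 0 := by rw [dotProduct_comm, hvv]
      set N : Matrix (Fin n) (Fin n) F := Matrix.vecMulVec (c • v) (σ ∘ v) with hN
      have hNN : N * N = 0 := by
        rw [hN, Matrix.vecMulVec_mul_vecMulVec, dotProduct_smul, hcomm, smul_zero, zero_smul, Matrix.vecMulVec_zero]
      have hNt : Nᵀ * N.map σ = 0 := by
        ext i j
        simp only [hN, Matrix.mul_apply, Matrix.transpose_apply, Matrix.map_apply, Matrix.vecMulVec_apply, Pi.smul_apply,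
          smul_eq_mul, Function.comp_apply, map_mul, Matrix.zero_apply]
        have : ∀ k, c * v k * σ (v i) * (σ c * σ (v k) * σ (σ (v j))) =
            (c * σ c * σ (v i) * σ (σ (v j))) * (v k * σ (v k)) := fun k => by ring
        rw [Finset.sum_congr rfl fun k _ => this k, ← Finset.mul_sum]
        rw [show ∑ k, v k * σ (v k) = 0 from hvv, mul_zero]
      have hsum : Nᵀ + N.map σ = 0 := by
        ext i j
        simp only [hN, Matrix.add_apply, Matrix.transpose_apply, Matrix.map_apply, Matrix.vecMulVec_apply, Pi.smul_apply,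
          smul_eq_mul, Function.comp_apply, map_mul, hc.involutive, Matrix.zero_apply]
        linear_combination v j * σ (v i) * hcs
      have hdet : (1 + N).det = 1 := by
        rw [hN, show 1 + Matrix.vecMulVec (c • v) (σ ∘ v) =
            1 + Matrix.replicateCol Unit (c • v) * Matrix.replicateRow Unit (σ ∘ v) by rw [Matrix.vecMulVec_eq Unit],
          Matrix.det_one_add_replicateCol_mul_replicateRow, dotProduct_smul, hcomm, smul_zero, add_zero]
      let x : GL (Fin n) F := Matrix.GeneralLinearGroup.mkOfDetNeZero (1 + N) (by rw [hdet]; exact one_ne_zero)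
      have hrk : ((x : Matrix (Fin n) (Fin n) F) - (1 : F) • 1).rank = 1 := by
        show (1 + N - (1 : F) • 1).rank = 1
        rw [one_smul, add_sub_cancel_left]
        refine le_antisymm (Matrix.rank_vecMulVec_le _ _) (Nat.one_le_iff_ne_zero.mpr fun h0 => ?_)
        have hbot : LinearMap.range N.mulVecLin = ⊥ := Submodule.finrank_eq_zero.mp h0
        have h1 := congrFun (congrArg (fun f : (Fin n → F) →ₗ[F] _ => f (Pi.single i0 1)) (LinearMap.range_eq_bot.mp hbot)) i0
        simp [hN, Matrix.vecMulVec_apply, v] at h1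
        exact hc0 h1
      refine ⟨x, 1, ⟨hc.mem_GU_iff.mpr ?_, MonoidHom.mem_ker.mpr (Units.ext hdet)⟩, by rw [map_one, mul_one], ⟨1, ?_⟩,
        fun z hz => ?_, by rw [hrk]; exact odd_one, Or.inr (by rw [hrk]; omega)⟩
      · show (1 + N)ᵀ * (1 + N).map σ = 1
        rw [Matrix.transpose_add, Matrix.transpose_one, Matrix.map_add _ (map_add σ),
          Matrix.map_one _ (map_zero σ) (map_one σ), Matrix.add_mul, Matrix.one_mul, Matrix.mul_add, Matrix.mul_one, hNt,
          add_zero, add_assoc, add_comm (N.map σ), hsum, add_zero]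
      · show (1 + N) ^ r = _
        rw [one_smul, add_pow_char_of_commute r (Commute.one_left _), one_pow,
          show r = 2 + (r - 2) by have := hr.two_le; omega, pow_add, sq, hNN, zero_mul, add_zero]
      · have hz' : 1 + N = z • 1 := hz
        have hN1 : N = (z - 1) • 1 := by rw [sub_smul, one_smul, ← hz', add_sub_cancel_left]
        rw [hN1, smul_mul_assoc, one_mul, smul_smul, smul_eq_zero, mul_self_eq_zero] at hNN
        rcases hNN with h0 | h0
        · have h3 : ((x : Matrix (Fin n) (Fin n) F) - (1 : F) • 1) = 0 := by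
            show 1 + N - (1 : F) • 1 = 0
            rw [one_smul, add_sub_cancel_left, hN1, h0, zero_smul]
          rw [h3, Matrix.rank_zero] at hrk
          exact zero_ne_one hrk
        · exact one_ne_zero h0
    have twoprod : ∀ α β : F, ∏ i : Fin n, (if i = i0 then α else if i = i1 then β else 1) = α * β := by
      intro α β
      rw [← Finset.mul_prod_erase _ _ (Finset.mem_univ i0), if_pos rfl, Finset.prod_eq_single i1
        (fun j hj hj1 => by rw [if_neg (Finset.ne_of_mem_erase hj), if_neg hj1])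
        (fun h => absurd (Finset.mem_erase.mpr ⟨h01.symm, Finset.mem_univ _⟩) h), if_neg h01.symm, if_pos rfl]
    by_cases hr2 : r = 2
    · -- an involution with one negative sign
      subst hr2
      have hqodd : Odd q := by
        rcases Nat.even_or_odd q with he' | ho
        · exact absurd (dvd_pow (even_iff_two_dvd.mp he') one_ne_zero) (hpq 1 hrp)
        · exact ho
      have hv : padicValNat 2 n < padicValNat 2 (q + 1) := not_le.mp fun hv => hrhs ⟨rfl, hqodd, hv⟩
      obtain ⟨t, ht⟩ : 2 ^ (padicValNat 2 n + 1) ∣ q + 1 := (padicValNat_dvd_iff_le (by omega)).mpr (by omega)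
      have ht0 : t ≠ 0 := fun e0 => by rw [e0, mul_zero] at ht; omega
      set v := padicValNat 2 n
      set μ : F := ((a1 ^ t : Fˣ) : F) with hμdef
      have hμo : orderOf μ = 2 ^ (v + 1) := by
        rw [hμdef, orderOf_units, orderOf_pow' _ ht0, ha1o, ht, Nat.gcd_eq_right (dvd_mul_left _ _),
          Nat.mul_div_cancel _ (Nat.pos_of_ne_zero ht0)]
      have hμn : μ * σ μ = 1 := hnormpow μ (by
        rw [hμdef, ← Units.val_pow_eq_pow_val, ← pow_mul, mul_comm, pow_mul, ← ha1o, pow_orderOf_eq_one, one_pow,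
          Units.val_one])
      obtain ⟨m, hm⟩ : 2 ^ v ∣ n := pow_padicValNat_dvd
      have hmodd : Odd m := Nat.not_even_iff_odd.mp fun ⟨m', hm'⟩ => by
        have h1 : 2 ^ (v + 1) ∣ n := ⟨m', by rw [hm, hm', pow_succ]; ring⟩
        have := (padicValNat_dvd_iff_le (by omega : n ≠ 0)).mp h1
        omega
      have hneg : μ ^ 2 ^ v = -1 := by
        have h3 : (μ ^ 2 ^ v) ^ 2 = 1 := by rw [← pow_mul, ← pow_succ, ← hμo, pow_orderOf_eq_one]
        refine (sq_eq_one_iff.mp h3).resolve_left fun e0 => ?_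
        have := Nat.le_of_dvd (pow_pos two_pos _) (hμo ▸ orderOf_dvd_of_pow_eq_one e0)
        rw [pow_succ] at this
        have := pow_pos (two_pos : 0 < 2) v
        omega
      have hpow : μ ^ n = -1 := by rw [hm, pow_mul, hneg, hmodd.neg_one_pow]
      have hne : -μ ≠ μ := fun e0 => by
        have h2 : (2 : F) * μ = 0 := by linear_combination -e0
        rcases mul_eq_zero.mp h2 with h3 | h3
        · have hcp : ((2 : ℕ) : F) = 0 := by exact_mod_cast h3
          exact hrp ((Nat.prime_dvd_prime_iff_eq hp Nat.prime_two).mp ((CharP.cast_eq_zero_iff F p 2).mp hcp)).symm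
        · rw [h3, zero_mul] at hμn; exact zero_ne_one hμn
      let l : Fin n → F := fun i => if i = i0 then -μ else μ
      obtain ⟨x, hx, hxl⟩ := diagMem l (fun i => by simp only [l]; split <;> simp [hμn]) (by
        rw [← Finset.mul_prod_erase _ _ (Finset.mem_univ i0),
          Finset.prod_congr rfl (g := fun _ => μ) fun i hi => by simp [l, Finset.ne_of_mem_erase hi]]
        simp only [l, if_true, Finset.prod_const, Finset.card_erase_of_mem (Finset.mem_univ i0), Finset.card_univ,
          Fintype.card_fin]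
        rw [neg_mul, ← pow_succ', Nat.sub_add_cancel (by omega), hpow, neg_neg])
      have hrk : ((x : Matrix (Fin n) (Fin n) F) - μ • 1).rank = 1 := by
        rw [hxl, rank_diagonal_sub, show (Finset.univ.filter fun i => l i ≠ μ) = {i0} from ?_, Finset.card_singleton]
        ext i
        by_cases e0 : i = i0 <;> simp [l, e0, hne]
      refine ⟨x, μ, hx, hμn, ⟨μ ^ 2, ?_⟩, fun z => hxl ▸ hdiagscal l i0 i1 (by simp [l, h01.symm, hne]) z,
        by rw [hrk]; exact odd_one, Or.inr (by rw [hrk]; omega)⟩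
      rw [hxl, Matrix.diagonal_pow, Matrix.smul_one_eq_diagonal]
      congr 1
      funext i
      simp only [Pi.pow_apply, l]
      split <;> simp
    by_cases h1 : r ∣ q + 1
    · obtain ⟨t, ht⟩ := h1
      have ht0 : t ≠ 0 := fun e0 => by rw [e0, mul_zero] at ht; omega
      set ζ : F := ((a1 ^ t : Fˣ) : F) with hζdef
      have hord : orderOf ζ = r := by
        rw [hζdef, orderOf_units, orderOf_pow' _ ht0, ha1o, ht, Nat.gcd_eq_right (dvd_mul_left _ _),
          Nat.mul_div_cancel _ (Nat.pos_of_ne_zero ht0)]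
      have hζr : ζ ^ r = 1 := hord ▸ pow_orderOf_eq_one ζ
      have hζn : ζ * σ ζ = 1 := hnormpow ζ (by rw [ht, pow_mul, hζr, one_pow])
      have hζ0 : ζ ≠ 0 := left_ne_zero_of_mul_eq_one hζn
      have hζ1 : ζ ≠ 1 := fun e0 => hr.one_lt.ne' (by rw [← hord, e0, orderOf_one])
      have hζζ : ζ⁻¹ ≠ ζ := fun e0 => hr2 ((Nat.prime_dvd_prime_iff_eq hr Nat.prime_two).mp (hord ▸
        orderOf_dvd_of_pow_eq_one (show ζ ^ 2 = 1 by rw [sq]; nth_rw 1 [← e0]; exact inv_mul_cancel₀ hζ0)))
      let l : Fin n → F := fun i => if i = i0 then ζ else if i = i1 then ζ⁻¹ else 1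
      obtain ⟨x, hx, hxl⟩ := diagMem l (fun i => by
        simp only [l]
        split_ifs
        · exact hζn
        · rw [map_inv₀, ← _root_.mul_inv, hζn, inv_one]
        · rw [map_one, mul_one]) (by rw [twoprod, mul_inv_cancel₀ hζ0])
      refine ⟨x, ζ, hx, hζn, ⟨1, ?_⟩, fun z => hxl ▸ hdiagscal l i0 i1 (by simp [l, h01.symm, Ne.symm hζζ]) z, ?_, Or.inl hr2⟩
      · rw [hxl, Matrix.diagonal_pow, one_smul, ← Matrix.diagonal_one]
        congr 1
        funext i
        simp only [Pi.pow_apply, l]
        split_ifs <;> simp [inv_pow, hζr]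
      · rw [hxl, rank_diagonal_sub, show (Finset.univ.filter fun i => l i ≠ ζ) = Finset.univ.erase i0 from ?_,
          Finset.card_erase_of_mem (Finset.mem_univ _), Finset.card_univ, Fintype.card_fin]
        · exact ⟨h - 1, by omega⟩
        · ext i
          by_cases e0 : i = i0 <;> by_cases e1 : i = i1 <;> simp [l, e0, e1, hζζ, h01.symm, hζ1.symm]
    · -- one non-degenerate block
      obtain ⟨j, hjo, hjn, hjd⟩ := prime_dvd_index hc hq hh hP hr (by simpa using hpq 1 hrp) h1 hΩ
      have hQ : ((q : ZMod r) ^ j) = -1 := eq_neg_of_add_eq_zero_left (by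
        rw [← ZMod.natCast_eq_zero_iff, Nat.cast_add, Nat.cast_pow, Nat.cast_one] at hjd; exact hjd)
      have hcq : (Fintype.card F : ZMod r) = (q : ZMod r) ^ 2 := by rw [hq]; exact Nat.cast_pow _ _
      set b := orderOf (Fintype.card F : ZMod r) with hbdef
      have hbj : b ∣ j := orderOf_dvd_of_pow_eq_one (by rw [hcq, ← pow_mul, mul_comm, pow_mul, hQ]; ring)
      have hbodd : Odd b := by
        obtain ⟨u, hu⟩ := hbj
        exact (Nat.odd_mul.mp (hu ▸ hjo)).1
      obtain ⟨u, hu⟩ := hbj
      have hQb : (q : ZMod r) ^ b = -1 := by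
        have h2 : ((q : ZMod r) ^ b) ^ 2 = 1 := by rw [← pow_mul, mul_comm, pow_mul, ← hcq, hbdef, pow_orderOf_eq_one]
        refine (sq_eq_one_iff.mp h2).resolve_left fun e0 => ?_
        rw [hu, pow_mul, e0, one_pow] at hQ
        have h3 : ((2 : ℕ) : ZMod r) = 0 := by rw [Nat.cast_ofNat, ← one_add_one_eq_two]; nth_rw 1 [hQ]; exact neg_add_cancel _
        exact hr2 ((Nat.prime_dvd_prime_iff_eq hr Nat.prime_two).mp ((ZMod.natCast_eq_zero_iff _ _).mp h3))
      have hbpos : 0 < b := hbodd.pos
      have hbn : b ≤ n := (Nat.le_of_dvd hjo.pos ⟨u, hu⟩).trans hjn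
      have hdvd : r ∣ Nat.card (Cfsg.GU b F q) := by
        rw [CfsgLib.Forms.card_GU hq]
        refine dvd_mul_of_dvd_right (Dvd.dvd.trans ?_ (Finset.dvd_prod_of_mem _ (Finset.mem_range.mpr
          (show b - 1 < b by omega)))) _
        rw [Nat.sub_add_cancel hbpos, CfsgLib.Forms.u, if_neg (Nat.not_even_iff_odd.mpr hbodd),
          ← ZMod.natCast_eq_zero_iff, Nat.cast_add, Nat.cast_pow, hQb, Nat.cast_one, neg_add_cancel]
      obtain ⟨y, hy⟩ := exists_prime_orderOf_dvd_card' r hdvd
      set Y : Matrix (Fin b) (Fin b) F := ((y : GL (Fin b) F) : Matrix (Fin b) (Fin b) F) with hY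
      have hYr : Y ^ r = 1 := by
        rw [hY, ← Units.val_pow_eq_pow_val, ← SubmonoidClass.coe_pow, ← hy, pow_orderOf_eq_one]; rfl
      have hYu : Yᵀ * Y.map σ = 1 := hc.mem_GU_iff.mp y.2
      have hYdet : Y.det = 1 := by
        have h2 := congrArg Matrix.det hYu
        rw [Matrix.det_mul, Matrix.det_transpose, Matrix.det_one, ← RingEquiv.coe_toRingHom, ← RingHom.mapMatrix_apply,
          ← RingHom.map_det, RingEquiv.coe_toRingHom, hc.eq_pow, ← pow_succ'] at h2
        have h3 : Y.det ^ r = 1 := by rw [← Matrix.det_pow, hYr, Matrix.det_one]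
        have hg := pow_gcd_eq_one.mpr ⟨h3, h2⟩
        rwa [(hr.coprime_iff_not_dvd.mpr h1).gcd_eq_one, pow_one] at hg
      have hYrk : (Y - 1).rank = b := by
        set g := Matrix.toLin' Y
        have hg : g ^ r = 1 := by
          show Matrix.toLinAlgEquiv' Y ^ r = 1
          rw [← map_pow, hYr, map_one]
        have hq0 : (Fintype.card F : ZMod r) ≠ 0 := fun e0 => by rw [hbdef, e0, orderOf_zero] at hbpos; omega
        obtain ⟨c0, J, hc0, hd0⟩ := CfsgLib.LinearElements.finrank_invBy_eq hg hq0
          (CfsgLib.LinearElements.invBy_top (g := g))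
        rw [← hbdef, finrank_top, Module.finrank_fin_fun] at hd0
        have hker : CfsgLib.LinearElements.fixedIn g (⊤ : Submodule F (Fin b → F)) = LinearMap.ker (Y - 1).mulVecLin := by
          ext v
          rw [CfsgLib.LinearElements.mem_fixedIn, LinearMap.mem_ker, Matrix.mulVecLin_apply, Matrix.sub_mulVec,
            Matrix.one_mulVec, sub_eq_zero]
          simp [g]
        have h2 := LinearMap.finrank_range_add_finrank_ker (Y - 1).mulVecLin
        rw [← hker, Module.finrank_fin_fun] at h2
        show Module.finrank F (LinearMap.range (Y - 1).mulVecLin) = b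
        rcases J with _ | _ | J
        · exfalso
          rw [Nat.zero_mul, add_zero] at hd0
          have hz : LinearMap.range (Y - 1).mulVecLin = ⊥ := Submodule.finrank_eq_zero.mp (by omega)
          have hY1 : Y = 1 := by
            rw [← sub_eq_zero]
            refine Matrix.toLin'.injective ?_
            rw [map_zero]
            exact LinearMap.range_eq_bot.mp hz
          have hy1 : y = 1 := Subtype.ext (Units.ext hY1)
          rw [hy1, orderOf_one] at hy
          exact hr.one_lt.ne hy
        · omega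
        · exfalso; nlinarith
      let ε : Fin b ⊕ Fin (n - b) ≃ Fin n := finSumFinEquiv.trans (finCongr (by omega))
      let X : Matrix (Fin n) (Fin n) F := (Matrix.fromBlocks Y 0 0 1).submatrix ε.symm ε.symm
      have hXdet : X.det = 1 := by
        rw [Matrix.det_submatrix_equiv_self, Matrix.det_fromBlocks_zero₂₁, hYdet, Matrix.det_one, mul_one]
      let x : GL (Fin n) F := Matrix.GeneralLinearGroup.mkOfDetNeZero X (by rw [hXdet]; exact one_ne_zero)
      have hx : x ∈ Cfsg.GU n F q ⊓ Cfsg.Geo.specialLinear (Fin n) F := by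
        refine ⟨hc.mem_GU_iff.mpr ?_, MonoidHom.mem_ker.mpr (Units.ext hXdet)⟩
        show Xᵀ * X.map σ = 1
        rw [Matrix.transpose_submatrix, ← Matrix.submatrix_map, Matrix.submatrix_mul_equiv, Matrix.fromBlocks_transpose,
          Matrix.fromBlocks_map, Matrix.fromBlocks_multiply]
        simp [hYu]
      have hxr : (x : Matrix (Fin n) (Fin n) F) ^ r = 1 := by
        show X ^ r = 1
        have hk : ∀ k, X ^ k = (Matrix.fromBlocks (Y ^ k) 0 0 1).submatrix ε.symm ε.symm := fun k => by
          induction k with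
          | zero => simp
          | succ k ih => rw [pow_succ, ih, Matrix.submatrix_mul_equiv, Matrix.fromBlocks_multiply]; simp [pow_succ]
        rw [hk, hYr, Matrix.fromBlocks_one, Matrix.submatrix_one_equiv]
      have hrk : ((x : Matrix (Fin n) (Fin n) F) - (1 : F) • 1).rank = b := by
        show (X - (1 : F) • 1).rank = b
        rw [one_smul, show X - 1 = (Matrix.fromBlocks (Y - 1) 0 0 0).submatrix ε.symm ε.symm by
          rw [show (1 : Matrix (Fin n) (Fin n) F) = (1 : Matrix (Fin b ⊕ Fin (n - b)) (Fin b ⊕ Fin (n - b)) F).submatrix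
            ε.symm ε.symm from (Matrix.submatrix_one_equiv _).symm, ← Matrix.fromBlocks_one]
          ext i j
          show Matrix.fromBlocks Y 0 0 1 (ε.symm i) (ε.symm j) - Matrix.fromBlocks 1 0 0 1 (ε.symm i) (ε.symm j) =
            Matrix.fromBlocks (Y - 1) 0 0 0 (ε.symm i) (ε.symm j)
          rcases ε.symm i with a | a <;> rcases ε.symm j with a' | a' <;> simp, Matrix.rank_submatrix]
        rw [rank_fromBlocks_zero, hYrk]
      refine ⟨x, 1, hx, by rw [map_one, mul_one], ⟨1, by rw [hxr, one_smul]⟩, fun z hz => ?_, by rw [hrk]; exact hbodd, Or.inl hr2⟩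
      have hz1 : X = z • 1 := hz
      have hz2 : z • (1 : Matrix (Fin n) (Fin n) F) - (1 : F) • 1 = (z - 1) • 1 := (sub_smul _ _ _).symm
      rw [show (x : Matrix (Fin n) (Fin n) F) = X from rfl, hz1, hz2] at hrk
      rcases eq_or_ne (z - 1) 0 with h0 | h0
      · rw [h0, zero_smul, Matrix.rank_zero] at hrk; omega
      · rw [Matrix.smul_one_eq_diagonal, Matrix.rank_diagonal] at hrk
        simp [h0] at hrk
        rw [← hrk] at hbodd
        rw [hnh] at hbodd
        exact (Nat.not_even_iff_odd.mpr hbodd) ⟨h, rfl⟩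
  · rintro ⟨rfl, hqodd, hv⟩ x hx ⟨z, hz⟩ -
    rw [Units.val_pow_eq_pow_val] at hz
    have hdet : (x : Matrix (Fin n) (Fin n) F).det = 1 := congrArg Units.val (MonoidHom.mem_ker.mp hx.2)
    have hz0 : z ≠ 0 := fun e0 => by
      have := congrArg Matrix.det hz
      rw [Matrix.det_pow, hdet, one_pow, e0, zero_smul, Matrix.det_zero] at this
      exact one_ne_zero this
    have hchar : ringChar F ≠ 2 := fun e0 => by
      have h2 := FiniteField.even_card_of_char_two e0
      rw [hq, Nat.pow_mod, Nat.odd_iff.mp hqodd] at h2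
      norm_num at h2
    have h2 : (2 : F) ≠ 0 := Ring.two_ne_zero hchar
    obtain ⟨t, ht⟩ := hqodd
    have hzn : z ^ (q + 1) = 1 := by
      have hu := hc.mem_GU_iff.mp (pow_mem hx.1 2)
      have hm2 : mat (x ^ 2) = z • (1 : Matrix (Fin n) (Fin n) F) := by
        show ((x ^ 2 : GL (Fin n) F) : Matrix (Fin n) (Fin n) F) = _
        rw [Units.val_pow_eq_pow_val, hz]
      rw [hm2] at hu
      have := congrFun (congrFun hu i0) i0
      rw [Matrix.mul_apply, Finset.sum_eq_single i0 (fun j _ hj => by simp [Matrix.one_apply, hj]) (by simp)] at this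
      simp only [Matrix.transpose_apply, Matrix.smul_apply, Matrix.map_apply, Matrix.one_apply_eq, smul_eq_mul, mul_one]
        at this
      rwa [hc.eq_pow, ← pow_succ'] at this
    obtain ⟨μ, hμz⟩ : IsSquare z := by
      rw [FiniteField.isSquare_iff hchar hz0, show Fintype.card F / 2 = (q + 1) * t by
        rw [hq, ht, show (2 * t + 1) ^ 2 = 1 + 2 * ((2 * t + 1 + 1) * t) by ring, Nat.add_mul_div_left _ _ two_pos]
        norm_num, pow_mul, hzn, one_pow]
    have hμ : μ ≠ 0 := fun e0 => hz0 (by rw [hμz, e0, mul_zero])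
    have hx2 : (x : Matrix (Fin n) (Fin n) F) ^ 2 = μ ^ 2 • (1 : Matrix (Fin n) (Fin n) F) := by rw [hz, hμz, sq μ]
    obtain ⟨ε, hε⟩ : ∃ ε : F, ε * σ ε = -1 := by
      obtain ⟨w, hw⟩ := IsCyclic.exists_ofOrder_eq_natCard (α := Fˣ)
      rw [Nat.card_units, Nat.card_eq_fintype_card] at hw
      refine ⟨((w ^ t : Fˣ) : F), ?_⟩
      have hsq : (((w ^ t : Fˣ) : F) * σ ((w ^ t : Fˣ) : F)) ^ 2 = 1 := by
        rw [hc.eq_pow, ← pow_succ', ← pow_mul, Units.val_pow_eq_pow_val, ← pow_mul,
          show t * ((q + 1) * 2) = Fintype.card F - 1 by rw [hfac, show q - 1 = 2 * t by omega]; ring,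
          FiniteField.pow_card_sub_one_eq_one _ w.ne_zero]
      refine (sq_eq_one_iff.mp hsq).resolve_left fun e0 => ?_
      rw [hc.eq_pow, ← pow_succ', Units.val_pow_eq_pow_val, ← pow_mul] at e0
      have h4 := orderOf_dvd_of_pow_eq_one (Units.ext (by simpa using e0) : w ^ (t * (q + 1)) = 1)
      rw [hw, hfac, show q - 1 = 2 * t by omega] at h4
      have := Nat.le_of_dvd (Nat.mul_pos (by omega) (by omega)) h4
      nlinarith
    obtain ⟨D', π, hD', hπ⟩ := exists_stable_pair hc h2 hP.dim hx.1 hμ hx2 hε (fun hμn => by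
      -- the eigenspace of `-μ` has even dimension
      have hrk : ∃ s, ((x : Matrix (Fin n) (Fin n) F) - μ • 1).rank = s ∧ (-1 : F) ^ s * μ ^ n = 1 := by
        have hζ : IsPrimitiveRoot (-1 : F) 2 := IsPrimitiveRoot.mk_of_lt _ two_pos (by norm_num) fun l h0 hl => by
          obtain rfl : l = 1 := by omega
          rw [pow_one]
          exact fun e0 => h2 (by linear_combination -e0)
        obtain ⟨P, P', l, e1, e2, e3, hl⟩ := CfsgLib.Twist.exists_eigen_frame (r := 2) two_pos
          (by exact_mod_cast h2) hζ hμ hx2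
        have hl' : ∀ i, l i = -μ ∨ l i = μ := fun i => by
          obtain ⟨j, hj, hlj⟩ := hl i
          interval_cases j
          · exact Or.inr (by simpa using hlj)
          · exact Or.inl (by simpa using hlj)
        have hxP : (x : Matrix (Fin n) (Fin n) F) = P * Matrix.diagonal l * P' := by
          rw [← e3, Matrix.mul_assoc, e1, Matrix.mul_one]
        refine ⟨_, rfl, ?_⟩
        have hsub : (x : Matrix (Fin n) (Fin n) F) - μ • 1 = P * (Matrix.diagonal l - μ • 1) * P' := by
          rw [Matrix.mul_sub, Matrix.sub_mul, ← hxP, Matrix.mul_smul, Matrix.mul_one, Matrix.smul_mul, e1]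
        have hPu : IsUnit P.det := IsUnit.of_mul_eq_one _ (by rw [← Matrix.det_mul, e1, Matrix.det_one])
        have hPu' : IsUnit P'.det := IsUnit.of_mul_eq_one _ (by rw [← Matrix.det_mul, e2, Matrix.det_one])
        rw [hsub, Matrix.rank_mul_eq_left_of_isUnit_det _ _ hPu', Matrix.rank_mul_eq_right_of_isUnit_det _ _ hPu,
          rank_diagonal_sub]
        have hd : (x : Matrix (Fin n) (Fin n) F).det = ∏ i, l i := by
          rw [hxP, Matrix.det_conj_of_mul_eq_one e1 e2, Matrix.det_diagonal]
        rw [hdet] at hd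
        set s := (Finset.univ.filter fun i => l i ≠ μ).card
        have hsn : (Finset.univ.filter fun i => ¬ l i ≠ μ).card = n - s := by
          rw [Finset.filter_not, Finset.card_sdiff_of_subset (Finset.filter_subset _ _), Finset.card_univ, Fintype.card_fin]
        have hsle : s ≤ n := (Finset.card_filter_le _ _).trans_eq (by rw [Finset.card_univ, Fintype.card_fin])
        rw [← Finset.prod_filter_mul_prod_filter_not _ (fun i => l i ≠ μ),
          Finset.prod_congr rfl (g := fun _ => -μ) (fun i hi => (hl' i).resolve_right (Finset.mem_filter.mp hi).2),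
          Finset.prod_congr rfl (g := fun _ => μ) (fun i hi => not_not.mp (Finset.mem_filter.mp hi).2),
          Finset.prod_const, Finset.prod_const, hsn] at hd
        calc (-1 : F) ^ s * μ ^ n = (-μ) ^ s * μ ^ (n - s) := by
              rw [neg_pow μ, mul_assoc, ← pow_add, Nat.add_sub_cancel' hsle]
          _ = 1 := hd.symm
      obtain ⟨s, hs, hd⟩ := hrk
      rw [hs]
      rcases Nat.even_or_odd s with hev | hsodd
      · exact hev
      exfalso
      rw [hsodd.neg_one_pow] at hd
      set v := padicValNat 2 n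
      obtain ⟨m, hm⟩ : 2 ^ v ∣ n := pow_padicValNat_dvd
      have hμpow : μ ^ (q + 1) = 1 := by rw [pow_succ', ← hc.eq_pow]; exact hμn
      have ho : orderOf (μ ^ m) = 2 ^ (v + 1) := by
        refine orderOf_eq_prime_pow (fun h0 => ?_) ?_
        · rw [← pow_mul, mul_comm, ← hm] at h0
          rw [h0] at hd
          exact h2 (by linear_combination -hd)
        · rw [← pow_mul, mul_comm, pow_succ, mul_assoc, mul_comm 2 m, ← mul_assoc, ← hm, pow_mul]
          linear_combination (μ ^ n - 1) * (-1 : F) * hd + (0 : F)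
      have h5 : orderOf (μ ^ m) ∣ q + 1 := orderOf_dvd_of_pow_eq_one (by rw [← pow_mul, mul_comm, pow_mul, hμpow, one_pow])
      rw [ho] at h5
      have := (padicValNat_dvd_iff_le (show q + 1 ≠ 0 by omega)).mp h5
      omega)
    exact exists_conj_of_pair hc hh hP hD' π hπ

end Cfsg.Agent.S5984
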