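import Cfsg.Statements.S5985
import Cfsg.Agent.LinearElements.NonsingularPoints
import Cfsg.Agent.AschbacherQuad.Basic

set_option autoImplicit false
open scoped MatrixGroups
open Cfsg

open CfsgLib.LinearElements CfsgLib.StdForms
open Matrix

namespace Cfsg.Agent.S5985

/-- The involution `(u, w) ↦ (u, w + J u)` of `Ω⁺` for even `d`: it moves every vector with non-zero `u`. -/
theorem exists_involution {F : Type*} [Field F] [Fintype F] [CharP F 2] {e : ℕ} (he : 2 ≤ e) :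
    ∃ g : GL (Fin (2 * e) ⊕ Fin (2 * e)) F, g ∈ Cfsg.Geo.omegaGL (Cfsg.quadFormPlus (2 * e) F) ∧ g ^ 2 = 1 ∧ g ≠ 1 ∧
      ∀ v, (g : Matrix (Fin (2 * e) ⊕ Fin (2 * e)) (Fin (2 * e) ⊕ Fin (2 * e)) F) *ᵥ v = v →
        Cfsg.quadFormPlus (2 * e) F v = 0 := by
  classical
  have hQ : Cfsg.Geo.IsNondegenerateQuadraticForm (Cfsg.quadFormPlus (2 * e) F) := by
    rw [← coe_plusQ]; exact isNondegenerateQuadraticForm_coe _ (plusQ_nondegenerate _)
  let i₀ : Fin e → Fin (2 * e) := fun k => ⟨2 * k, by omega⟩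
  let i₁ : Fin e → Fin (2 * e) := fun k => ⟨2 * k + 1, by omega⟩
  let u : Fin e → (Fin (2 * e) ⊕ Fin (2 * e) → F) := fun k => Pi.single (.inr (i₀ k)) 1
  let w : Fin e → (Fin (2 * e) ⊕ Fin (2 * e) → F) := fun k => Pi.single (.inr (i₁ k)) 1
  let D : (Fin (2 * e) ⊕ Fin (2 * e) → F) → Fin e → (Fin (2 * e) ⊕ Fin (2 * e) → F) :=
    fun v k => v (.inl (i₀ k)) • w k - v (.inl (i₁ k)) • u k
  have hDl : ∀ v k i, D v k (.inl i) = 0 := fun v k i => by simp [D, u, w]
  have hpol : ∀ x i, QuadraticMap.polar (Cfsg.quadFormPlus (2 * e) F) x (Pi.single (.inr i) 1) = x (.inl i) :=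
    fun x i => by rw [← coe_plusQ, polar_plus]; simp [Pi.single_apply]
  have hroot : ∀ k, CfsgLib.AschbacherQuad.IsRootPair (Cfsg.quadFormPlus (2 * e) F) (u k) (w k) := fun k =>
    ⟨by simp [u, Cfsg.quadFormPlus], by simp [w, Cfsg.quadFormPlus], by rw [hpol]; simp [w]⟩
  have key : ∀ s : Finset (Fin e), ∃ g ∈ Cfsg.Geo.omegaGL (Cfsg.quadFormPlus (2 * e) F),
      ∀ v, (g : Matrix (Fin (2 * e) ⊕ Fin (2 * e)) (Fin (2 * e) ⊕ Fin (2 * e)) F) *ᵥ v = v + ∑ k ∈ s, D v k := by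
    intro s
    induction s using Finset.induction_on with
    | empty => exact ⟨1, one_mem _, fun v => by simp⟩
    | insert k s hk ih =>
      obtain ⟨g, hg, hgv⟩ := ih
      refine ⟨CfsgLib.AschbacherQuad.root _ (u k) (w k) * g,
        mul_mem (CfsgLib.AschbacherQuad.root_mem hQ (by simp; omega) (hroot k)) hg, fun v => ?_⟩
      rw [Units.val_mul, ← Matrix.mulVec_mulVec, hgv]
      refine (CfsgLib.AschbacherQuad.root_mulVec hQ (hroot k) _).trans ?_
      rw [hpol, hpol]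
      have hl : ∀ i, (v + ∑ k ∈ s, D v k) (.inl i) = v (.inl i) := fun i => by
        rw [Pi.add_apply, Finset.sum_apply, Finset.sum_eq_zero (fun k _ => hDl v k i), add_zero]
      rw [hl, hl, Finset.sum_insert hk]
      simp only [D]
      abel
  obtain ⟨g, hg, hgv⟩ := key Finset.univ
  have hDr : ∀ v k, D v k (.inr (i₁ k)) = v (.inl (i₀ k)) ∧ D v k (.inr (i₀ k)) = - v (.inl (i₁ k)) := fun v k => by
    constructor <;> simp [D, u, w, i₀, i₁, Fin.ext_iff]
  have hother : ∀ v k k', k' ≠ k → D v k' (.inr (i₁ k)) = 0 ∧ D v k' (.inr (i₀ k)) = 0 := fun v k k' h => by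
    have : (k' : ℕ) ≠ k := fun e => h (Fin.ext e)
    constructor <;> simp [D, u, w, i₀, i₁, Fin.ext_iff, Pi.single_apply] <;>
      rw [if_neg (by omega), if_neg (by omega)] <;> simp
  have hfix : ∀ v, (g : Matrix (Fin (2 * e) ⊕ Fin (2 * e)) (Fin (2 * e) ⊕ Fin (2 * e)) F) *ᵥ v = v →
      ∀ i, v (.inl i) = 0 := by
    intro v hv i
    rw [hgv] at hv
    have hs : ∀ c, (∑ k, D v k) c = 0 := fun c => by
      have := congrFun hv c
      rw [Pi.add_apply] at this
      linear_combination this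
    obtain ⟨k, hk⟩ : ∃ k, i = i₀ k ∨ i = i₁ k := by
      refine ⟨⟨(i : ℕ) / 2, by omega⟩, ?_⟩
      simp only [i₀, i₁, Fin.ext_iff]
      omega
    have h1 := hs (.inr (i₁ k))
    have h0 := hs (.inr (i₀ k))
    rw [Finset.sum_apply, Finset.sum_eq_single k (fun k' _ h => (hother v k k' h).1) (by simp), (hDr v k).1] at h1
    rw [Finset.sum_apply, Finset.sum_eq_single k (fun k' _ h => (hother v k k' h).2) (by simp), (hDr v k).2,
      neg_eq_zero] at h0
    rcases hk with rfl | rfl <;> assumption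
  refine ⟨g, hg, ?_, fun h1 => ?_, fun v hv => ?_⟩
  · refine Units.ext (Matrix.toLin'.injective (LinearMap.ext fun v => ?_))
    rw [sq, Units.val_mul, Units.val_one, Matrix.toLin'_apply, Matrix.toLin'_apply, ← Matrix.mulVec_mulVec, hgv, hgv,
      Matrix.one_mulVec]
    have hl : ∀ k, D (v + ∑ k, D v k) k = D v k := fun k => by
      have hl : ∀ i, (v + ∑ k, D v k) (.inl i) = v (.inl i) := fun i => by
        rw [Pi.add_apply, Finset.sum_apply, Finset.sum_eq_zero (fun k _ => hDl v k i), add_zero]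
      simp only [D] at hl ⊢
      rw [hl, hl]
    simp only [hl]
    rw [add_assoc, show (∑ k, D v k) + ∑ k, D v k = (2 : F) • ∑ k, D v k by module, (CharTwo.two_eq_zero : (2 : F) = 0), zero_smul,
      add_zero]
  · have := hfix (Pi.single (.inl ⟨0, by omega⟩) 1) (by rw [h1, Units.val_one, Matrix.one_mulVec]) ⟨0, by omega⟩
    simp at this
  · simp [Cfsg.quadFormPlus, hfix v hv]


/-- Elements of prime order of Ω⁺_n(q), q even, with no fixed nonsingular 1-space. Here `T = PΩ⁺_n(F)`, `n = 2d ≥ 8`, realised through `Ω⁺_n(q)`, the commutator subgroup of the isometry group of `Q = Σ xᵢyᵢ` over the field `F` with `q` elements; an element of `T` of prime order `r` is an element `x` of `Ω⁺_n(q)` with `x^r` scalar and `x` not scalar; `q` is even (so the centre is trivial). Let Ω be the set of 1-dimensional subspaces spanned by a vector `v` with `Q(v) ≠ 0`, and let `r` be a prime dividing their number. Then every element of `T` of order `r`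 fixes some nonsingular 1-space if and only if `r = 2` and `n ≡ 2 (mod 4)` (that is, `d` is odd). -/
theorem result {F : Type*} [Field F] [Fintype F] {p : ℕ} [Fact p.Prime] [CharP F p] {q : ℕ} (hq : Fintype.card F = q)
    (hp : p = 2) (d : ℕ) (hd : 4 ≤ d) (r : ℕ) [Fact r.Prime]
    (hrΩ : r ∣ Nat.card {W : Submodule F (Fin d ⊕ Fin d → F) // Module.finrank F ↥W = 1 ∧ ∃ v ∈ W, Cfsg.quadFormPlus d F v ≠ 0}) :
    (∀ x : GL (Fin d ⊕ Fin d) F, x ∈ Cfsg.Geo.omegaGL (Cfsg.quadFormPlus d F) →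
      (∃ z : F, ((x ^ r : GL (Fin d ⊕ Fin d) F) : Matrix (Fin d ⊕ Fin d) (Fin d ⊕ Fin d) F) = z • (1 : Matrix (Fin d ⊕ Fin d) (Fin d ⊕ Fin d) F)) →
      (∀ z : F, (x : Matrix (Fin d ⊕ Fin d) (Fin d ⊕ Fin d) F) ≠ z • (1 : Matrix (Fin d ⊕ Fin d) (Fin d ⊕ Fin d) F)) →
      ∃ W : Submodule F (Fin d ⊕ Fin d → F), (Module.finrank F ↥W = 1 ∧ ∃ v ∈ W, Cfsg.quadFormPlus d F v ≠ 0) ∧ W.map (Matrix.toLin' (x : Matrix (Fin d ⊕ Fin d) (Fin d ⊕ Fin d) F)) ≤ W) ↔ (r = 2 ∧ Odd d) := by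
  subst hq hp
  classical
  have hr := (Fact.out : r.Prime)
  have h2' : (2 : F) = 0 := CharTwo.two_eq_zero
  have hq1 : 1 < Fintype.card F := Fintype.one_lt_card
  have heven : Even (Fintype.card F) := by
    obtain ⟨⟨k, hk⟩, -, hc⟩ := FiniteField.card F 2
    rw [hc]; exact (Nat.even_pow' (by simpa using hk.ne')).mpr even_two
  have hsq : ∀ {g : GL (Fin d ⊕ Fin d) F} {c : F} {v : Fin d ⊕ Fin d → F},
      g ∈ Cfsg.Geo.omegaGL (Cfsg.quadFormPlus d F) →
      (g : Matrix (Fin d ⊕ Fin d) (Fin d ⊕ Fin d) F) *ᵥ v = c • v → Cfsg.quadFormPlus d F v ≠ 0 → c = 1 := by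
    intro g c v hg he hv
    have := CfsgLib.TensorNonmax.mem_isometryGroup.mp (CfsgLib.TensorNonmax.omegaGL_le _ hg) v
    rw [he, ← coe_plusQ, QuadraticMap.map_smul, coe_plusQ, smul_eq_mul] at this
    rcases mul_self_eq_one_iff.mp ((mul_eq_right₀ hv).mp this) with h | h
    · exact h
    · rw [h, CharTwo.neg_eq]
  constructor
  · intro h
    by_contra hno
    by_cases hr2 : r = 2
    · subst hr2
      have hde : Even d := Nat.not_odd_iff_even.mp fun ho => hno ⟨rfl, ho⟩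
      obtain ⟨e, rfl⟩ : ∃ e, d = 2 * e := ⟨d / 2, by obtain ⟨k, hk⟩ := hde; omega⟩
      obtain ⟨g, hg, hg2, hg1, hfix⟩ := exists_involution (F := F) (e := e) (by omega)
      obtain ⟨W, ⟨hW1, v, hv, hQv⟩, hWg⟩ := h g hg ⟨1, by rw [hg2, Units.val_one, one_smul]⟩ (fun z hz => by
        have hz2 : z * z = 1 := by
          have := congrArg (fun x : GL (Fin (2 * e) ⊕ Fin (2 * e)) F =>
            (x : Matrix (Fin (2 * e) ⊕ Fin (2 * e)) (Fin (2 * e) ⊕ Fin (2 * e)) F) (.inl ⟨0, by omega⟩) (.inl ⟨0, by omega⟩)) hg2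
          simpa [hz, sq] using this
        refine hg1 (Units.ext ?_)
        rcases mul_self_eq_one_iff.mp hz2 with e | e
        · rw [hz, e, one_smul, Units.val_one]
        · rw [hz, e, CharTwo.neg_eq, one_smul, Units.val_one])
      obtain ⟨c, hc⟩ := (finrank_eq_one_iff_of_nonzero' (⟨v, hv⟩ : W) (fun e => hQv (by
        rw [show v = 0 from congrArg Subtype.val e]; simp [Cfsg.quadFormPlus]))).mp hW1
          ⟨_, hWg ⟨v, hv, rfl⟩⟩
      have he : (g : Matrix (Fin (2 * e) ⊕ Fin (2 * e)) (Fin (2 * e) ⊕ Fin (2 * e)) F) *ᵥ v = c • v := by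
        rw [← Matrix.toLin'_apply]; exact (congrArg Subtype.val hc).symm
      rw [hsq hg he hQv, one_smul] at he
      exact hQv (hfix v he)
    · have hodd : Odd r := hr.odd_of_ne_two hr2
      have hdvd : r ∣ Fintype.card F ^ d - 1 := by
        rw [← coe_plusQ, card_nonsingular_points, Nat.card_congr (Equiv.subtypeEquivRight fun v => by rw [coe_plusQ]),
          card_plus_value d one_ne_zero] at hrΩ
        refine (hr.dvd_mul.mp hrΩ).resolve_right fun h' => hr2 ?_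
        obtain ⟨⟨k, hk⟩, -, hcard⟩ := FiniteField.card F 2
        rw [hcard] at h'
        exact (Nat.prime_dvd_prime_iff_eq hr Nat.prime_two).mp (hr.dvd_of_dvd_pow (hr.dvd_of_dvd_pow h'))
      obtain ⟨A, hA, hAfix⟩ := exists_fixedPointFree (p := 2) (by omega) hdvd
      obtain ⟨g, hgr, hiso, hgfix⟩ := exists_plus_levi hr.pos hA hAfix
      have hg : g ∈ Cfsg.Geo.omegaGL (Cfsg.quadFormPlus d F) := by
        rw [← coe_plusQ]
        exact mem_omegaGL_of_odd_order (plusQ d F) (plusQ_nondegenerate d) (by simp; omega) (Or.inr (by simp; omega))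
          (fun v => by rw [coe_plusQ]; exact hiso v) hodd hgr
      let v₀ : Fin d ⊕ Fin d → F := Pi.single (.inl ⟨0, by omega⟩) 1 + Pi.single (.inr ⟨0, by omega⟩) 1
      have hv₀ : Cfsg.quadFormPlus d F v₀ = 1 := by simp [v₀, Cfsg.quadFormPlus, Pi.single_apply]
      have hv₀0 : v₀ ≠ 0 := fun e => by simp [e, Cfsg.quadFormPlus] at hv₀
      obtain ⟨W, ⟨hW1, v, hv, hQv⟩, hWg⟩ := h g hg ⟨1, by rw [hgr, Units.val_one, one_smul]⟩ (fun z hz => by
        have he : (g : Matrix (Fin d ⊕ Fin d) (Fin d ⊕ Fin d) F) *ᵥ v₀ = z • v₀ := by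
          rw [hz, Matrix.smul_mulVec, Matrix.one_mulVec]
        rw [hsq hg he (by rw [hv₀]; exact one_ne_zero), one_smul] at he
        exact hv₀0 (hgfix v₀ he))
      have hv0 : v ≠ 0 := fun e => hQv (by simp [e, Cfsg.quadFormPlus])
      obtain ⟨c, hc⟩ := (finrank_eq_one_iff_of_nonzero' (⟨v, hv⟩ : W)
        (fun e => hv0 (congrArg Subtype.val e))).mp hW1 ⟨_, hWg ⟨v, hv, rfl⟩⟩
      have he : (g : Matrix (Fin d ⊕ Fin d) (Fin d ⊕ Fin d) F) *ᵥ v = c • v := by
        rw [← Matrix.toLin'_apply]; exact (congrArg Subtype.val hc).symm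
      rw [hsq hg he hQv, one_smul] at he
      exact hv0 (hgfix v he)
  · rintro ⟨rfl, hdodd⟩ x hx ⟨z, hz⟩ -
    rw [Units.val_pow_eq_pow_val] at hz
    have hiso : ∀ v, Cfsg.quadFormPlus d F ((x : Matrix (Fin d ⊕ Fin d) (Fin d ⊕ Fin d) F) *ᵥ v) =
        Cfsg.quadFormPlus d F v :=
      CfsgLib.TensorNonmax.mem_isometryGroup.mp (CfsgLib.TensorNonmax.omegaGL_le _ hx)
    let v₀ : Fin d ⊕ Fin d → F := Pi.single (.inl ⟨0, by omega⟩) 1 + Pi.single (.inr ⟨0, by omega⟩) 1
    have hv₀ : Cfsg.quadFormPlus d F v₀ = 1 := by simp [v₀, Cfsg.quadFormPlus, Pi.single_apply]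
    have hz1 : z = 1 := by
      refine hsq (g := x * x) (mul_mem hx hx) (c := z) (v := v₀) ?_ (by rw [hv₀]; exact one_ne_zero)
      rw [Units.val_mul, ← sq, hz, Matrix.smul_mulVec, Matrix.one_mulVec]
    have hxx : ∀ v, Matrix.toLin' (x : Matrix (Fin d ⊕ Fin d) (Fin d ⊕ Fin d) F)
        (Matrix.toLin' (x : Matrix (Fin d ⊕ Fin d) (Fin d ⊕ Fin d) F) v) = v := fun v => by
      rw [Matrix.toLin'_apply, Matrix.toLin'_apply, Matrix.mulVec_mulVec, ← sq, hz, hz1, one_smul, Matrix.one_mulVec]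
    obtain ⟨v, hv, hQv⟩ : ∃ v, (x : Matrix (Fin d ⊕ Fin d) (Fin d ⊕ Fin d) F) *ᵥ v = v ∧
        Cfsg.quadFormPlus d F v ≠ 0 := by
      by_contra hall
      push Not at hall
      refine Nat.not_even_iff_odd.mpr hdodd (even_of_singular_fixed (plusQ d F) (plusQ_nondegenerate d)
        (by simp; omega) hxx (fun v => ?_) fun v hv => ?_)
      · rw [Matrix.toLin'_apply, coe_plusQ]; exact hiso v
      · rw [coe_plusQ]; exact hall v (by simpa [Matrix.toLin'_apply] using hv)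
    refine ⟨Submodule.span F {v}, ⟨finrank_span_singleton fun e => hQv (by simp [e, Cfsg.quadFormPlus]), v,
      Submodule.mem_span_singleton_self v, hQv⟩, ?_⟩
    rw [Submodule.map_span, Set.image_singleton, Submodule.span_singleton_le_iff_mem, Matrix.toLin'_apply, hv]
    exact Submodule.mem_span_singleton_self v

end Cfsg.Agent.S5985
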