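import Cfsg.Statements.S5986
import Cfsg.Agent.LinearElements.MinusModel
import Cfsg.Agent.TensorNonmax.Basic

set_option autoImplicit false
open scoped MatrixGroups
open Cfsg

open CfsgLib.LinearElements CfsgLib.StdForms
open Matrix

namespace Cfsg.Agent.S5986

/-- An eigenvalue of an isometry on a non-singular vector is one (characteristic two). -/
theorem eigen_eq_one {F : Type*} [Field F] [CharP F 2] {ι : Type} [Fintype ι] [DecidableEq ι] (Q : QuadraticForm F (ι → F))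
    {g : GL ι F} (hg : g ∈ Cfsg.Geo.omegaGL ⇑Q) {c : F} {v : ι → F}
    (he : (g : Matrix ι ι F) *ᵥ v = c • v) (hv : Q v ≠ 0) : c = 1 := by
  have := CfsgLib.TensorNonmax.mem_isometryGroup.mp (CfsgLib.TensorNonmax.omegaGL_le _ hg) v
  rw [he, QuadraticMap.map_smul, smul_eq_mul] at this
  rcases mul_self_eq_one_iff.mp ((mul_eq_right₀ hv).mp this) with h | h
  · exact h
  · rw [h, CharTwo.neg_eq]


/-- Elements of prime order of Ω⁻_n(q), q even, with no fixed nonsingular 1-space. Here `T = PΩ⁻_n(F)`, `n = 2d ≥ 8`, realised through `Ω⁻_n(q)`, the commutator subgroup of the isometry group of `Q = Σ_{i<d−1} xᵢyᵢ + z₁² + a z₁z₂ + b z₂²` with `z₁² + a z₁z₂ + b z₂²` anisotropic, over the field `F` with `q` elements; an element of `T` of prime order `r` is an element `x` of `Ω⁻_n(q)` with `x^r` scalar and `x` not scalar; `q` is even (so the centre is trivial). Let Ω be the set of 1-dimensional subspaces spanned by a vector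 `v` with `Q(v) ≠ 0`, and let `r` be a prime dividing their number. Then every element of `T` of order `r` fixes some nonsingular 1-space if and only if `r = 2`. -/
theorem result {F : Type*} [Field F] [Fintype F] {p : ℕ} [Fact p.Prime] [CharP F p] {q : ℕ} (hq : Fintype.card F = q)
    (hp : p = 2) (d : ℕ) (hd : 4 ≤ d) (a b : F) (hab : ∀ x y : F, x ^ 2 + a * x * y + b * y ^ 2 = 0 → x = 0 ∧ y = 0) (r : ℕ) [Fact r.Prime]
    (hrΩ : r ∣ Nat.card {W : Submodule F ((Fin (d - 1) ⊕ Fin (d - 1)) ⊕ Fin 2 → F) // Module.finrank F ↥W = 1 ∧ ∃ v ∈ W, Cfsg.quadFormMinus (d - 1) F a b v ≠ 0}) :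
    (∀ x : GL ((Fin (d - 1) ⊕ Fin (d - 1)) ⊕ Fin 2) F, x ∈ Cfsg.Geo.omegaGL (Cfsg.quadFormMinus (d - 1) F a b) →
      (∃ z : F, ((x ^ r : GL ((Fin (d - 1) ⊕ Fin (d - 1)) ⊕ Fin 2) F) : Matrix ((Fin (d - 1) ⊕ Fin (d - 1)) ⊕ Fin 2) ((Fin (d - 1) ⊕ Fin (d - 1)) ⊕ Fin 2) F) = z • (1 : Matrix ((Fin (d - 1) ⊕ Fin (d - 1)) ⊕ Fin 2) ((Fin (d - 1) ⊕ Fin (d - 1)) ⊕ Fin 2) F)) →
      (∀ z : F, (x : Matrix ((Fin (d - 1) ⊕ Fin (d - 1)) ⊕ Fin 2) ((Fin (d - 1) ⊕ Fin (d - 1)) ⊕ Fin 2) F) ≠ z • (1 : Matrix ((Fin (d - 1) ⊕ Fin (d - 1)) ⊕ Fin 2) ((Fin (d - 1) ⊕ Fin (d - 1)) ⊕ Fin 2) F)) →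
      ∃ W : Submodule F ((Fin (d - 1) ⊕ Fin (d - 1)) ⊕ Fin 2 → F), (Module.finrank F ↥W = 1 ∧ ∃ v ∈ W, Cfsg.quadFormMinus (d - 1) F a b v ≠ 0) ∧ W.map (Matrix.toLin' (x : Matrix ((Fin (d - 1) ⊕ Fin (d - 1)) ⊕ Fin 2) ((Fin (d - 1) ⊕ Fin (d - 1)) ⊕ Fin 2) F)) ≤ W) ↔ r = 2 := by
  subst hq hp
  classical
  generalize hk : d - 1 = k at hrΩ ⊢
  have hr := (Fact.out : r.Prime)
  have hab' : CfsgLib.OrthTwo.Aniso a b := hab
  obtain rfl : d = k + 1 := by omega
  have hQ1 : Cfsg.quadFormMinus k F a b (Pi.single (.inr 0) 1) = 1 := by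
    simp [Cfsg.quadFormMinus, Pi.single_apply]
  constructor
  · intro h
    by_contra hr2
    have hodd : Odd r := hr.odd_of_ne_two hr2
    have hdvd : r ∣ Fintype.card F ^ (k + 1) + 1 := by
      rw [← coe_minusQ, card_nonsingular_points, Nat.card_congr (Equiv.subtypeEquivRight fun v => by rw [coe_minusQ]),
        card_minus_value_one k hab'] at hrΩ
      refine (hr.dvd_mul.mp hrΩ).resolve_left fun h' => hr2 ?_
      obtain ⟨⟨j, hj⟩, -, hcard⟩ := FiniteField.card F 2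
      rw [hcard] at h'
      exact (Nat.prime_dvd_prime_iff_eq hr Nat.prime_two).mp (hr.dvd_of_dvd_pow (hr.dvd_of_dvd_pow h'))
    obtain ⟨g, hgr, hiso, hgfix⟩ := exists_minus_singer hdvd hab'
    have hg : g ∈ Cfsg.Geo.omegaGL (Cfsg.quadFormMinus k F a b) := by
      rw [← coe_minusQ]
      exact mem_omegaGL_of_odd_order (minusQ k F a b) (minus_nondegenerate k hab') (by simp) (Or.inr (by simp; omega))
        (fun v => by rw [coe_minusQ]; exact hiso v) hodd hgr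
    obtain ⟨W, ⟨hW1, v, hv, hQv⟩, hWg⟩ := h g hg ⟨1, by rw [hgr, Units.val_one, one_smul]⟩ (fun z hz => by
      have he : (g : Matrix ((Fin k ⊕ Fin k) ⊕ Fin 2) ((Fin k ⊕ Fin k) ⊕ Fin 2) F) *ᵥ (Pi.single (.inr 0) 1) = z • (Pi.single (.inr 0) 1) := by
        rw [hz, Matrix.smul_mulVec, Matrix.one_mulVec]
      rw [eigen_eq_one (minusQ k F a b) (by rw [coe_minusQ]; exact hg) he (by rw [coe_minusQ, hQ1]; exact one_ne_zero),
        one_smul] at he
      simpa using hgfix _ he)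
    have hv0 : v ≠ 0 := fun e => hQv (by simp [e, Cfsg.quadFormMinus])
    obtain ⟨c, hc⟩ := (finrank_eq_one_iff_of_nonzero' (⟨v, hv⟩ : W)
      (fun e => hv0 (congrArg Subtype.val e))).mp hW1 ⟨_, hWg ⟨v, hv, rfl⟩⟩
    have he : (g : Matrix ((Fin k ⊕ Fin k) ⊕ Fin 2) ((Fin k ⊕ Fin k) ⊕ Fin 2) F) *ᵥ v = c • v := by
      rw [← Matrix.toLin'_apply]; exact (congrArg Subtype.val hc).symm
    rw [eigen_eq_one (minusQ k F a b) (by rw [coe_minusQ]; exact hg) he (by rw [coe_minusQ]; exact hQv), one_smul] at he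
    exact hv0 (hgfix v he)
  · rintro rfl x hx ⟨z, hz⟩ -
    rw [Units.val_pow_eq_pow_val] at hz
    have hz1 : z = 1 := by
      refine eigen_eq_one (minusQ k F a b) (g := x * x) (by rw [coe_minusQ]; exact mul_mem hx hx)
        (v := Pi.single (.inr 0) 1) ?_ (by rw [coe_minusQ, hQ1]; exact one_ne_zero)
      rw [Units.val_mul, ← sq, hz, Matrix.smul_mulVec, Matrix.one_mulVec]
    obtain ⟨v, hv, hQv⟩ : ∃ v, (x : Matrix ((Fin k ⊕ Fin k) ⊕ Fin 2) ((Fin k ⊕ Fin k) ⊕ Fin 2) F) *ᵥ v = v ∧ Cfsg.quadFormMinus k F a b v ≠ 0 := by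
      by_contra hall
      push Not at hall
      refine not_singular_fixed_of_noLagrangian (minusQ k F a b) (minus_nondegenerate k hab')
        (minus_noLagrangian k hab') (g := Matrix.toLin' (x : Matrix ((Fin k ⊕ Fin k) ⊕ Fin 2) ((Fin k ⊕ Fin k) ⊕ Fin 2) F)) (fun v => ?_) fun v hv => ?_
      · rw [Matrix.toLin'_apply, Matrix.toLin'_apply, Matrix.mulVec_mulVec, ← sq, hz, hz1, one_smul, Matrix.one_mulVec]
      · rw [coe_minusQ]; exact hall v (by rw [← Matrix.toLin'_apply]; exact hv)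
    refine ⟨Submodule.span F {v}, ⟨finrank_span_singleton fun e => hQv (by simp [e, Cfsg.quadFormMinus]), v,
      Submodule.mem_span_singleton_self v, hQv⟩, ?_⟩
    rw [Submodule.map_span, Set.image_singleton, Submodule.span_singleton_le_iff_mem, Matrix.toLin'_apply, hv]
    exact Submodule.mem_span_singleton_self v

end Cfsg.Agent.S5986
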