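import Cfsg.Statements.S5988
import Cfsg.Agent.LinearElements.OrthShear

set_option autoImplicit false
open scoped MatrixGroups
open Cfsg

namespace Cfsg.Agent.S5988

/-- Elements of prime order of PΩ⁺_n(q) with no fixed elliptic `m`-space. Here `T = PΩ⁺_n(F)`, `n = 2d ≥ 8`, realised through `Ω⁺_n(q)`, the commutator subgroup of the isometry group of `Q = Σ xᵢyᵢ` over the field `F` with `q` elements; an element of `T` of prime order `r` is an element `x` of `Ω⁺_n(q)` with `x^r` scalar and `x` not scalar; a nondegenerate `m`-space (even `m`) is a subspace on which the polar form of `Q` is nondegenerate; it is hyperbolic if it contains an `m/2`-dimensional subspace on which `Q` vanishes, elliptic otherwise. Let `m` be even with `2 ≤ m < n/2` and let `r` be a prime dividing the number of elliptic `m`-spaces; for `r ≠ p` let `i` be the multiplicative order of `q` modulo `r`, `c = i` for `i` even and `c = 2i` for `i`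 odd, and write `k = n mod c`, `ℓ = m mod i`, `ℓ' = m mod c`, `n' = ⌊n/i⌋`, `m' = ⌊m/i⌋`, `t = (r−1)/i`. Then every element of `T` of order `r` fixes some elliptic `m`-space if and only if one of: (i) `r = 2 ≠ p` and either `n ≡ 0 (mod 4)`, `q ≡ 3 (mod 4)` and `m ≡ 2 (mod 4)`, or `n ≡ 2 (mod 4)` and `q ≢ 1 (mod 8)`; (ii) `r ≠ p` odd, `i` odd, `c ≤ m` and `k > ℓ' > 0`; (iii) `r ≠ p` odd, `i` even, and either `k = 0` and (`n/i` odd, or `ℓ' = 0` and `m/i` odd), or `i ≤ m` and (`k > ℓ' > 0`, or `k = ℓ' > 0` and `(n + m − 2k)/i` odd, or `k > ℓ' = 0` and `m/i` odd). (For `r = p` there is always an element of order `p` fixing no elliptic `m`-space.) -/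
theorem result {F : Type*} [Field F] [Fintype F] {p : ℕ} [Fact p.Prime] [CharP F p] {q : ℕ} (hq : Fintype.card F = q)
    (d m : ℕ) (hd : 4 ≤ d) (hm : 2 ≤ m) (hme : Even m) (hmd : m < d)
    (r : ℕ) [Fact r.Prime]
    (hrΩ : r ∣ Nat.card {W : Submodule F (Fin d ⊕ Fin d → F) // Module.finrank F ↥W = m ∧ Cfsg.Geo.IsNondegenerateOn (QuadraticMap.polar (Cfsg.quadFormPlus d F)) W ∧ ¬ Cfsg.Geo.IsPlusTypeOn (Cfsg.quadFormPlus d F) W})
    (i c : ℕ) (hi : i = orderOf (q : ZMod r)) (hc : c = if Even i then i else 2 * i) :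
    (∀ x : GL (Fin d ⊕ Fin d) F, x ∈ Cfsg.Geo.omegaGL (Cfsg.quadFormPlus d F) →
      (∃ z : F, ((x ^ r : GL (Fin d ⊕ Fin d) F) : Matrix (Fin d ⊕ Fin d) (Fin d ⊕ Fin d) F) = z • (1 : Matrix (Fin d ⊕ Fin d) (Fin d ⊕ Fin d) F)) →
      (∀ z : F, (x : Matrix (Fin d ⊕ Fin d) (Fin d ⊕ Fin d) F) ≠ z • (1 : Matrix (Fin d ⊕ Fin d) (Fin d ⊕ Fin d) F)) →
      ∃ W : Submodule F (Fin d ⊕ Fin d → F), (Module.finrank F ↥W = m ∧ Cfsg.Geo.IsNondegenerateOn (QuadraticMap.polar (Cfsg.quadFormPlus d F)) W ∧ ¬ Cfsg.Geo.IsPlusTypeOn (Cfsg.quadFormPlus d F) W) ∧ W.map (Matrix.toLin' (x : Matrix (Fin d ⊕ Fin d) (Fin d ⊕ Fin d) F)) ≤ W) ↔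
    ((r = 2 ∧ p ≠ 2 ∧ ((Even d ∧ q % 4 = 3 ∧ m % 4 = 2) ∨ (Odd d ∧ q % 8 ≠ 1))) ∨
     (r ≠ p ∧ 2 < r ∧ Odd i ∧ c ≤ m ∧ 0 < m % c ∧ m % c < (2 * d) % c) ∨
     (r ≠ p ∧ 2 < r ∧ Even i ∧
       (((2 * d) % c = 0 ∧ (Odd ((2 * d) / i) ∨ (m % c = 0 ∧ Odd (m / i)))) ∨
        (i ≤ m ∧ ((0 < m % c ∧ m % c < (2 * d) % c) ∨
                  (0 < m % c ∧ m % c = (2 * d) % c ∧ Odd ((2 * d + m - 2 * ((2 * d) % c)) / i)) ∨
                  (m % c = 0 ∧ 0 < (2 * d) % c ∧ Odd (m / i))))))) := by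
  obtain ⟨h, rfl⟩ := hme
  rw [← two_mul] at hm hmd hrΩ ⊢
  have hcoe : ⇑(CfsgLib.StdForms.plusQ d F) = Cfsg.quadFormPlus d F := CfsgLib.StdForms.coe_plusQ d
  have hQ := CfsgLib.StdForms.plusQ_nondegenerate (F := F) d
  have hPV := iff_true_intro (CfsgLib.OrthStandard.plus_top_plusQ (F := F) d)
  set Q := CfsgLib.StdForms.plusQ d F with hQdef
  have hn : Fintype.card (Fin d ⊕ Fin d) = 2 * d := by simp; omega
  rw [← hcoe] at hrΩ ⊢
  have hPr : ∀ W : Submodule F _, (Module.finrank F ↥W = 2 * h ∧ Cfsg.Geo.IsNondegenerateOn (QuadraticMap.polar ⇑Q) W ∧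
      ¬ Cfsg.Geo.IsPlusTypeOn (⇑Q) W) ↔
      (Module.finrank F ↥W = 2 * h ∧ CfsgLib.QuadType.Sep Q W ∧ (CfsgLib.QuadType.Plus Q W ↔ False)) := fun W => by
    rw [CfsgLib.OrthEvenDim.frozen_nondeg, iff_false]
    exact Iff.rfl
  by_cases hrp : r = p
  · subst hrp
    refine iff_of_false (fun hfix => ?_) (by simp; intro h1 h2; exact absurd h1 h2)
    obtain ⟨x, hx, hxp, hns, hplus⟩ := CfsgLib.OrthShear.exists_plus_only (F := F) (d := d) (p := r) (by omega)
    obtain ⟨W, hW, hle⟩ := hfix x hx ⟨1, by rw [hxp, one_smul]; rfl⟩ hns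
    obtain ⟨hWd, hWs, hWt⟩ := (hPr W).mp hW
    exact hWt.mp (hplus W hWs (hWd ▸ even_two_mul h) hle)
  by_cases hr2 : r = 2
  · subst hr2
    have hp2 : p ≠ 2 := Ne.symm hrp
    have hF2 : (2 : F) ≠ 0 := Ring.two_ne_zero (by rw [ringChar.eq F p]; exact hp2)
    rw [CfsgLib.OrthStandard.two_even_iff hQ hn hd hPV hF2 (by omega) (by omega) hPr,
      FiniteField.isSquare_two_iff, FiniteField.isSquare_neg_one_iff, hq]
    simp only [lt_irrefl, false_and, and_false, or_false, true_and, true_iff, false_iff, hp2, ne_eq, not_false_eq_true]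
    have : q % 2 = 1 := by
      rcases (Fact.out : p.Prime).eq_two_or_odd' with h0 | h0
      · exact absurd h0 hp2
      · obtain ⟨n, -, hn'⟩ := FiniteField.card F p
        rw [← hq, hn', ← Nat.odd_iff]
        exact h0.pow
    simp only [Nat.even_iff, Nat.odd_iff]
    omega
  have hr : 2 < r := lt_of_le_of_ne (Fact.out : r.Prime).two_le (Ne.symm hr2)
  rw [CfsgLib.OrthStandard.even_iff hQ hn hd hPV hq hr2 hrp (by omega) (by omega) hPr hrΩ hi hc]
  simp only [CfsgLib.OrthAtoms.sgn, true_iff, iff_false, hr2, hr, hrp, false_and, false_or, ne_eq, not_false_eq_true,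
    true_and]
  rcases Nat.even_or_odd i with he | ho
  · have hci : c = i := by rw [hc, if_pos he]
    subst hci
    simp only [he, Nat.not_odd_iff_even.mpr he, false_and, false_or, true_and, Nat.not_even_iff_odd]
    have key : (2 * h) % c = (2 * d) % c →
        ((2 * d + 2 * h - 2 * ((2 * d) % c)) / c = 2 * d / c + 2 * h / c) := fun e => by
      have h1 := Nat.div_add_mod (2 * d) c
      have h2 := Nat.div_add_mod (2 * h) c
      rcases Nat.eq_zero_or_pos c with hc0 | hc0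
      · simp [hc0]
      · rw [show 2 * d + 2 * h - 2 * ((2 * d) % c) = c * (2 * d / c + 2 * h / c) by rw [mul_add]; omega,
          Nat.mul_div_cancel_left _ hc0]
    constructor
    · rintro (⟨hk, hR⟩ | ⟨hk, hch, ⟨h1, h2⟩ | ⟨h1, h2⟩⟩)
      · refine Or.inl ⟨hk, ?_⟩
        rcases Nat.even_or_odd (2 * d / c) with hJ | hJ
        · exact Or.inr (hR hJ)
        · exact Or.inl hJ
      · refine Or.inr ⟨hch, ?_⟩
        rcases Nat.eq_zero_or_pos ((2 * h) % c) with h0 | h0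
        · exact Or.inr (Or.inr ⟨h0, hk, h2 h0⟩)
        · exact Or.inl ⟨h0, h1⟩
      · refine Or.inr ⟨hch, Or.inr (Or.inl ⟨by omega, h1, ?_⟩)⟩
        rw [key h1, ← Nat.not_even_iff_odd, Nat.even_add]
        exact h2
    · rintro (⟨hk, hJ | ⟨h1, h2⟩⟩ | ⟨hch, ⟨h0, h1⟩ | ⟨h0, h1, h2⟩ | ⟨h1, hk, h2⟩⟩)
      · exact Or.inl ⟨hk, fun hJ' => absurd hJ' (Nat.not_even_iff_odd.mpr hJ)⟩
      · exact Or.inl ⟨hk, fun _ => ⟨h1, h2⟩⟩
      · exact Or.inr ⟨by omega, hch, Or.inl ⟨h1, fun e => absurd e h0.ne'⟩⟩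
      · refine Or.inr ⟨by omega, hch, Or.inr ⟨h1, ?_⟩⟩
        rw [key h1, ← Nat.not_even_iff_odd, Nat.even_add] at h2
        exact h2
      · exact Or.inr ⟨hk, hch, Or.inl ⟨h1.symm ▸ hk, fun _ => h2⟩⟩
  · simp only [ho, Nat.not_even_iff_odd.mpr ho, true_or, true_and, false_and, or_false, not_true_eq_false, and_false,
      iff_true, forall_const, imp_false, false_or]
    constructor
    · rintro ⟨hk, hch, h1, h2⟩
      exact ⟨hch, Nat.pos_of_ne_zero h2, h1⟩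
    · rintro ⟨hch, h0, h1⟩
      exact ⟨by omega, hch, h1, h0.ne'⟩

end Cfsg.Agent.S5988
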