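import Cfsg.Statements.S5989
import Cfsg.Agent.LinearElements.OrthOddBlocks

set_option autoImplicit false
open scoped MatrixGroups
open Cfsg

namespace Cfsg.Agent.S5989

/-- Elements of prime order of PΩ⁺_n(q), q odd, with no fixed nondegenerate `m`-space of odd dimension. Here `T = PΩ⁺_n(F)`, `n = 2d ≥ 8`, realised through `Ω⁺_n(q)`, the commutator subgroup of the isometry group of `Q = Σ xᵢyᵢ` over the field `F` with `q` elements; an element of `T` of prime order `r` is an element `x` of `Ω⁺_n(q)` with `x^r` scalar and `x` not scalar; `q` and `m` are odd, `1 ≤ m < n/2`. The nondegenerate `m`-spaces (subspaces on which the polar form is nondegenerate) fall into two isometry classes, each an orbit of `T`, and the two actions are equivalent; fix one such space `W₀` and let Ω be the set of nondegenerate `m`-spaces isometric to `W₀` (some linear isomorphism preserves `Q`). Let `r` be a prime dividing the size of Ω; for `r ≠ p` let `i`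 be the multiplicative order of `q` modulo `r`, `c = i` for `i` even and `c = 2i` for `i` odd, and write `k = n mod c`, `ℓ = m mod i`, `ℓ' = m mod c`, `n' = ⌊n/i⌋`, `m' = ⌊m/i⌋`, `t = (r−1)/i`. Then every element of `T` of order `r` fixes a member of Ω if and only if one of: (i) `r = 2`, `n ≡ 2 (mod 4)` and `q ≢ 1 (mod 8)`; (ii) `r ≠ p` odd, `i` odd, `c ≤ m` and `k > ℓ' > 0`; (iii) `r ≠ p` odd, `i` even, and either `k = 0` and `n/i` odd, or `i ≤ m` and `k > ℓ' > 0`. (For `r = p` there is always an element of order `p` fixing no member of Ω.) -/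
theorem result {F : Type*} [Field F] [Fintype F] {p : ℕ} [Fact p.Prime] [CharP F p] {q : ℕ} (hq : Fintype.card F = q)
    (hodd : Odd q) (d m : ℕ) (hd : 4 ≤ d) (hm : Odd m) (hmd : m < d)
    (W₀ : Submodule F (Fin d ⊕ Fin d → F)) (hW₀ : Module.finrank F ↥W₀ = m ∧ Cfsg.Geo.IsNondegenerateOn (QuadraticMap.polar (Cfsg.quadFormPlus d F)) W₀)
    (r : ℕ) [Fact r.Prime]
    (hrΩ : r ∣ Nat.card {W : Submodule F (Fin d ⊕ Fin d → F) // Module.finrank F ↥W = m ∧ Cfsg.Geo.IsNondegenerateOn (QuadraticMap.polar (Cfsg.quadFormPlus d F)) W ∧ Cfsg.Geo.AreIsometricFor (Cfsg.quadFormPlus d F) W W₀})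
    (i c : ℕ) (hi : i = orderOf (q : ZMod r)) (hc : c = if Even i then i else 2 * i) :
    (∀ x : GL (Fin d ⊕ Fin d) F, x ∈ Cfsg.Geo.omegaGL (Cfsg.quadFormPlus d F) →
      (∃ z : F, ((x ^ r : GL (Fin d ⊕ Fin d) F) : Matrix (Fin d ⊕ Fin d) (Fin d ⊕ Fin d) F) = z • (1 : Matrix (Fin d ⊕ Fin d) (Fin d ⊕ Fin d) F)) →
      (∀ z : F, (x : Matrix (Fin d ⊕ Fin d) (Fin d ⊕ Fin d) F) ≠ z • (1 : Matrix (Fin d ⊕ Fin d) (Fin d ⊕ Fin d) F)) →
      ∃ W : Submodule F (Fin d ⊕ Fin d → F), (Module.finrank F ↥W = m ∧ Cfsg.Geo.IsNondegenerateOn (QuadraticMap.polar (Cfsg.quadFormPlus d F)) W ∧ Cfsg.Geo.AreIsometricFor (Cfsg.quadFormPlus d F) W W₀) ∧ W.map (Matrix.toLin' (x : Matrix (Fin d ⊕ Fin d) (Fin d ⊕ Fin d) F)) ≤ W) ↔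
    ((r = 2 ∧ Odd d ∧ q % 8 ≠ 1) ∨
     (r ≠ p ∧ 2 < r ∧ Odd i ∧ c ≤ m ∧ 0 < m % c ∧ m % c < (2 * d) % c) ∨
     (r ≠ p ∧ 2 < r ∧ Even i ∧ (((2 * d) % c = 0 ∧ Odd ((2 * d) / i)) ∨ (i ≤ m ∧ 0 < m % c ∧ m % c < (2 * d) % c)))) := by
  have hcoe : ⇑(CfsgLib.StdForms.plusQ d F) = Cfsg.quadFormPlus d F := CfsgLib.StdForms.coe_plusQ d
  have hQ := CfsgLib.StdForms.plusQ_nondegenerate (F := F) d
  have hPV := iff_true_intro (CfsgLib.OrthStandard.plus_top_plusQ (F := F) d)
  set Q := CfsgLib.StdForms.plusQ d F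
  have hn : Fintype.card (Fin d ⊕ Fin d) = 2 * d := by simp; omega
  rw [← hcoe] at hrΩ hW₀ ⊢
  have hp2 : p ≠ 2 := fun e => by
    subst e
    obtain ⟨n, -, hn'⟩ := FiniteField.card F 2
    rw [← hq, hn'] at hodd
    exact absurd hodd (by simp [Nat.not_odd_iff_even, Nat.even_pow])
  have hF2 : (2 : F) ≠ 0 := Ring.two_ne_zero (by rw [ringChar.eq F p]; exact hp2)
  have hW₀s := (CfsgLib.OrthEvenDim.frozen_nondeg Q W₀).mp hW₀.2
  have hPr : ∀ W : Submodule F _, (Module.finrank F ↥W = m ∧ Cfsg.Geo.IsNondegenerateOn (QuadraticMap.polar ⇑Q) W ∧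
      Cfsg.Geo.AreIsometricFor (⇑Q) W W₀) ↔
      (Module.finrank F ↥W = m ∧ CfsgLib.QuadType.Sep Q W ∧ CfsgLib.QuadType.Iso Q Q W W₀) := fun W => by
    rw [CfsgLib.OrthEvenDim.frozen_nondeg]
    exact Iff.rfl
  by_cases hr2 : r = 2
  · subst hr2
    rw [CfsgLib.OrthStandard.two_odd_iff hQ hn hd hPV hF2 hm hmd hW₀s hW₀.1 hPr,
      FiniteField.isSquare_two_iff, FiniteField.isSquare_neg_one_iff, hq]
    simp only [lt_irrefl, false_and, and_false, or_false, true_and, true_iff]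
    have := Nat.odd_iff.mp hodd
    simp only [Nat.even_iff, Nat.odd_iff]
    omega
  by_cases hrp : r = p
  · subst hrp
    refine iff_of_false (CfsgLib.OrthOddBlocks.not_all_fix_odd ((Fact.out : r.Prime).odd_of_ne_two hp2) hQ hn hd hm hmd
      hW₀s hW₀.1 hPr) ?_
    simp [hp2]
  rw [CfsgLib.OrthStandard.odd_iff hQ hn hd hPV hq hr2 hrp hm hmd hW₀s hW₀.1 hPr hrΩ hi hc]
  have hr : 2 < r := lt_of_le_of_ne (Fact.out : r.Prime).two_le (Ne.symm hr2)
  have hl : 0 < m % c := by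
    refine Nat.pos_of_ne_zero fun e => Nat.not_even_iff_odd.mpr hm ?_
    obtain ⟨s, rfl⟩ := Nat.dvd_of_mod_eq_zero e
    refine Even.mul_right ?_ s
    rw [hc]; split_ifs with he
    exacts [he, even_two_mul _]
  simp only [CfsgLib.OrthAtoms.sgn, true_iff, hr2, hr, hrp, false_and, false_or, ne_eq, not_false_eq_true, true_and]
  rcases Nat.even_or_odd i with he | ho
  · have hci : c = i := by rw [hc, if_pos he]
    subst hci
    simp only [he, Nat.not_odd_iff_even.mpr he, false_and, false_or, true_and, hl, Nat.not_even_iff_odd,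
      Nat.not_odd_iff_even]
    constructor
    · rintro (h | ⟨-, h1, h2⟩)
      · exact Or.inl h
      · exact Or.inr ⟨h1, h2⟩
    · rintro (h | ⟨h1, h2⟩)
      · exact Or.inl h
      · exact Or.inr ⟨Nat.lt_of_le_of_lt (Nat.zero_le _) h2, h1, h2⟩
  · simp only [ho, Nat.not_even_iff_odd.mpr ho, true_and, false_and, or_false, true_or, hl]
    constructor
    · rintro (⟨-, h⟩ | ⟨-, h⟩)
      · exact absurd trivial h
      · exact h
    · rintro ⟨h1, h2⟩
      exact Or.inr ⟨by omega, h1, h2⟩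

end Cfsg.Agent.S5989
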