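import Cfsg.Statements.S5990
import Cfsg.Agent.LinearElements.OrthInvolutionCounters

set_option autoImplicit false
open scoped MatrixGroups
open Cfsg

namespace Cfsg.Agent.S5990

/-- Elements of prime order of PΩ⁻_n(q) with no fixed elliptic `m`-space. Here `T = PΩ⁻_n(F)`, `n = 2d ≥ 8`, realised through `Ω⁻_n(q)`, the commutator subgroup of the isometry group of `Q = Σ_{i<d−1} xᵢyᵢ + z₁² + a z₁z₂ + b z₂²` with `z₁² + a z₁z₂ + b z₂²` anisotropic, over the field `F` with `q` elements; an element of `T` of prime order `r` is an element `x` of `Ω⁻_n(q)` with `x^r` scalar and `x` not scalar; a nondegenerate `m`-space (even `m`) is a subspace on which the polar form of `Q` is nondegenerate; it is hyperbolic if it contains an `m/2`-dimensional subspace on which `Q` vanishes, elliptic otherwise. Let `m` be even with `2 ≤ m ≤ n − 2` (no restriction `m < n/2`: fixing an elliptic `m`-space is the same as fixing its hyperbolic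 orthogonal complement) and let `r` be a prime dividing the number of elliptic `m`-spaces, with `r = 2` or `r ≠ p`; for `r ≠ p` let `i` be the multiplicative order of `q` modulo `r`, `c = i` for `i` even and `c = 2i` for `i` odd, and write `k = n mod c`, `ℓ = m mod i`, `ℓ' = m mod c`, `n' = ⌊n/i⌋`, `m' = ⌊m/i⌋`, `t = (r−1)/i`. Then every element of `T` of order `r` fixes some elliptic `m`-space if and only if one of: (i) `r = p = 2` and (`n ≡ 0 (mod 4)` or `m ≡ 2 (mod 4)`); (ii) `r = 2 ≠ p` and (`n ≡ 0 (mod 4)`, or `q ≢ 7 (mod 8)`, or `m ≡ 2 (mod 4)`); (iii) `r ≠ p` odd, `i` odd, and `k = 0` or (`c ≤ m` and `k ≥ ℓ' > 0`); (iv) `r ≠ p` odd, `i` even, and either `k = 0` and (`n/i` even, or `ℓ' = 0` and `m/i` odd), or `k > 0`, `i ≤ m` and (`k > ℓ' > 0`, or `ℓ' = 0` and `m/i` odd, or `k = ℓ'` and `(n + m − 2k)/i` even). (Odd `r = p` is not covered by this statement.) -/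
theorem result {F : Type*} [Field F] [Fintype F] {p : ℕ} [Fact p.Prime] [CharP F p] {q : ℕ} (hq : Fintype.card F = q)
    (d m : ℕ) (hd : 4 ≤ d) (hm : 2 ≤ m) (hme : Even m) (hmn : m + 2 ≤ 2 * d) (a b : F) (hab : ∀ x y : F, x ^ 2 + a * x * y + b * y ^ 2 = 0 → x = 0 ∧ y = 0)
    (r : ℕ) [Fact r.Prime] (hr : r = 2 ∨ r ≠ p)
    (hrΩ : r ∣ Nat.card {W : Submodule F ((Fin (d - 1) ⊕ Fin (d - 1)) ⊕ Fin 2 → F) // Module.finrank F ↥W = m ∧ Cfsg.Geo.IsNondegenerateOn (QuadraticMap.polar (Cfsg.quadFormMinus (d - 1) F a b)) W ∧ ¬ Cfsg.Geo.IsPlusTypeOn (Cfsg.quadFormMinus (d - 1) F a b) W})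
    (i c : ℕ) (hi : i = orderOf (q : ZMod r)) (hc : c = if Even i then i else 2 * i) :
    (∀ x : GL ((Fin (d - 1) ⊕ Fin (d - 1)) ⊕ Fin 2) F, x ∈ Cfsg.Geo.omegaGL (Cfsg.quadFormMinus (d - 1) F a b) →
      (∃ z : F, ((x ^ r : GL ((Fin (d - 1) ⊕ Fin (d - 1)) ⊕ Fin 2) F) : Matrix ((Fin (d - 1) ⊕ Fin (d - 1)) ⊕ Fin 2) ((Fin (d - 1) ⊕ Fin (d - 1)) ⊕ Fin 2) F) = z • (1 : Matrix ((Fin (d - 1) ⊕ Fin (d - 1)) ⊕ Fin 2) ((Fin (d - 1) ⊕ Fin (d - 1)) ⊕ Fin 2) F)) →
      (∀ z : F, (x : Matrix ((Fin (d - 1) ⊕ Fin (d - 1)) ⊕ Fin 2) ((Fin (d - 1) ⊕ Fin (d - 1)) ⊕ Fin 2) F) ≠ z • (1 : Matrix ((Fin (d - 1) ⊕ Fin (d - 1)) ⊕ Fin 2) ((Fin (d - 1) ⊕ Fin (d - 1)) ⊕ Fin 2) F)) →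
      ∃ W : Submodule F ((Fin (d - 1) ⊕ Fin (d - 1)) ⊕ Fin 2 → F), (Module.finrank F ↥W = m ∧ Cfsg.Geo.IsNondegenerateOn (QuadraticMap.polar (Cfsg.quadFormMinus (d - 1) F a b)) W ∧ ¬ Cfsg.Geo.IsPlusTypeOn (Cfsg.quadFormMinus (d - 1) F a b) W) ∧ W.map (Matrix.toLin' (x : Matrix ((Fin (d - 1) ⊕ Fin (d - 1)) ⊕ Fin 2) ((Fin (d - 1) ⊕ Fin (d - 1)) ⊕ Fin 2) F)) ≤ W) ↔
    ((r = 2 ∧ p = 2 ∧ (Even d ∨ m % 4 = 2)) ∨
     (r = 2 ∧ p ≠ 2 ∧ (Even d ∨ q % 8 ≠ 7 ∨ m % 4 = 2)) ∨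
     (r ≠ p ∧ 2 < r ∧ Odd i ∧ ((2 * d) % c = 0 ∨ (c ≤ m ∧ 0 < m % c ∧ m % c ≤ (2 * d) % c))) ∨
     (r ≠ p ∧ 2 < r ∧ Even i ∧
       (((2 * d) % c = 0 ∧ (Even ((2 * d) / i) ∨ (m % c = 0 ∧ Odd (m / i)))) ∨
        (0 < (2 * d) % c ∧ i ≤ m ∧ ((0 < m % c ∧ m % c < (2 * d) % c) ∨ (m % c = 0 ∧ Odd (m / i)) ∨
                                    (m % c = (2 * d) % c ∧ Even ((2 * d + m - 2 * ((2 * d) % c)) / i))))))) := by
  obtain ⟨h, rfl⟩ := hme
  rw [← two_mul] at hm hmn hrΩ ⊢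
  have hcoe : ⇑(CfsgLib.StdForms.minusQ (d - 1) F a b) = Cfsg.quadFormMinus (d - 1) F a b :=
    CfsgLib.StdForms.coe_minusQ (d - 1) a b
  have hQ := CfsgLib.StdForms.minusQ_nondegenerate (d - 1) (CfsgLib.OrthStandard.minus_disc hab)
  have hPV := iff_false_intro (CfsgLib.OrthStandard.not_plus_top_minusQ (d - 1) hab)
  set Q := CfsgLib.StdForms.minusQ (d - 1) F a b with hQdef
  have hn : Fintype.card ((Fin (d - 1) ⊕ Fin (d - 1)) ⊕ Fin 2) = 2 * d := by simp; omega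
  rw [← hcoe] at hrΩ ⊢
  have hPr : ∀ W : Submodule F _, (Module.finrank F ↥W = 2 * h ∧ Cfsg.Geo.IsNondegenerateOn (QuadraticMap.polar ⇑Q) W ∧
      ¬ Cfsg.Geo.IsPlusTypeOn (⇑Q) W) ↔
      (Module.finrank F ↥W = 2 * h ∧ CfsgLib.QuadType.Sep Q W ∧ (CfsgLib.QuadType.Plus Q W ↔ False)) := fun W => by
    rw [CfsgLib.OrthEvenDim.frozen_nondeg, iff_false]
    exact Iff.rfl
  by_cases hr2 : r = 2
  · subst hr2
    by_cases hp2 : p = 2
    · subst hp2
      simp only [lt_irrefl, false_and, and_false, or_false, true_and, ne_eq, not_true_eq_false]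
      constructor
      · intro hfix
        by_contra hcon
        simp only [not_or, Nat.even_iff] at hcon
        obtain ⟨x, hx, hz, hns, hfour⟩ := CfsgLib.OrthInvolutionCounters.exists_minus_two (F := F) (k := d - 1)
          (by omega) (by rw [Nat.even_iff]; omega) (a := a) (b := b)
        obtain ⟨W, hW, hle⟩ := hfix x hx hz hns
        obtain ⟨hWd, hWs, hWt⟩ := (hPr W).mp hW
        refine hfour W hWs (fun e => hWt.mp e) hle ?_
        rw [hWd]
        omega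
      · intro hR x hx hz _
        obtain ⟨W, hW, hle⟩ := CfsgLib.OrthInvolutions.two_two_fix hQ hn hd (h := h) (by omega) (by omega)
          (T := False) hPV (fun s hs hs4 => by
            have hs' : 4 * s < 2 * d := lt_of_le_of_ne hs hs4
            simp only [Nat.even_iff] at hR
            rcases le_total s ((h - 1) / 2) with h1 | h1
            · exact ⟨s, le_rfl, by omega, by omega, fun e => by omega, fun _ => Iff.rfl⟩
            · exact ⟨(h - 1) / 2, h1, by omega, by omega, fun e => by omega, fun _ => Iff.rfl⟩) hx hz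
        exact ⟨W, (hPr W).mpr hW, hle⟩
    · have hF2 : (2 : F) ≠ 0 := Ring.two_ne_zero (by rw [ringChar.eq F p]; exact hp2)
      rw [CfsgLib.OrthStandard.two_even_iff hQ hn hd hPV hF2 (by omega) (by omega) hPr,
        FiniteField.isSquare_two_iff, FiniteField.isSquare_neg_one_iff, hq]
      simp only [lt_irrefl, false_and, and_false, or_false, true_and, false_iff, hp2, ne_eq, not_false_eq_true,
        false_or]
      have : q % 2 = 1 := by
        rcases (Fact.out : p.Prime).eq_two_or_odd' with h0 | h0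
        · exact absurd h0 hp2
        · obtain ⟨n, -, hn'⟩ := FiniteField.card F p
          rw [← hq, hn', ← Nat.odd_iff]
          exact h0.pow
      simp only [Nat.even_iff]
      omega
  have hrp : r ≠ p := hr.resolve_left hr2
  have hr' : 2 < r := lt_of_le_of_ne (Fact.out : r.Prime).two_le (Ne.symm hr2)
  rw [CfsgLib.OrthStandard.even_iff hQ hn hd hPV hq hr2 hrp (by omega) (by omega) hPr hrΩ hi hc]
  simp only [CfsgLib.OrthAtoms.sgn, false_iff, iff_false, hr2, hr', hrp, false_and, false_or, ne_eq, not_false_eq_true,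
    true_and]
  rcases Nat.even_or_odd i with he | ho
  · have hci : c = i := by rw [hc, if_pos he]
    subst hci
    simp only [he, Nat.not_odd_iff_even.mpr he, false_and, false_or, true_and, Nat.not_even_iff_odd]
    have key : (2 * h) % c = (2 * d) % c →
        ((2 * d + 2 * h - 2 * ((2 * d) % c)) / c = 2 * d / c + 2 * h / c) := fun e => by
      have h1 := Nat.div_add_mod (2 * d) c
      have h2 := Nat.div_add_mod (2 * h) c
      rcases Nat.eq_zero_or_pos c with hc0 | hc0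
      · simp [hc0]
      · rw [show 2 * d + 2 * h - 2 * ((2 * d) % c) = c * (2 * d / c + 2 * h / c) by rw [mul_add]; omega,
          Nat.mul_div_cancel_left _ hc0]
    constructor
    · rintro (⟨hk, hR⟩ | ⟨hk, hch, ⟨h1, h2⟩ | ⟨h1, h2⟩⟩)
      · refine Or.inl ⟨hk, ?_⟩
        rcases Nat.even_or_odd (2 * d / c) with hJ | hJ
        · exact Or.inl hJ
        · exact Or.inr (hR hJ)
      · refine Or.inr ⟨hk, hch, ?_⟩
        rcases Nat.eq_zero_or_pos ((2 * h) % c) with h0 | h0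
        · exact Or.inr (Or.inl ⟨h0, h2 h0⟩)
        · exact Or.inl ⟨h0, h1⟩
      · refine Or.inr ⟨hk, hch, Or.inr (Or.inr ⟨h1, ?_⟩)⟩
        rw [key h1, Nat.even_add]
        rw [← Nat.not_even_iff_odd] at h2
        tauto
    · rintro (⟨hk, hJ | ⟨h1, h2⟩⟩ | ⟨hk, hch, ⟨h0, h1⟩ | ⟨h1, h2⟩ | ⟨h1, h2⟩⟩)
      · exact Or.inl ⟨hk, fun hJ' => absurd hJ (Nat.not_even_iff_odd.mpr hJ')⟩
      · exact Or.inl ⟨hk, fun _ => ⟨h1, h2⟩⟩
      · exact Or.inr ⟨hk, hch, Or.inl ⟨h1, fun e => absurd e h0.ne'⟩⟩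
      · exact Or.inr ⟨hk, hch, Or.inl ⟨h1.symm ▸ hk, fun _ => h2⟩⟩
      · refine Or.inr ⟨hk, hch, Or.inr ⟨h1, ?_⟩⟩
        rw [key h1, Nat.even_add] at h2
        rw [← Nat.not_even_iff_odd]
        tauto
  · simp only [ho, Nat.not_even_iff_odd.mpr ho, true_or, true_and, and_true, false_and, or_false, not_true_eq_false,
      and_false, iff_true, forall_const, imp_false, false_or, not_false_eq_true, false_implies]
    constructor
    · rintro (hk | ⟨hk, hch, ⟨h1, h0⟩ | h1⟩)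
      · exact Or.inl hk
      · exact Or.inr ⟨hch, Nat.pos_of_ne_zero h0, h1.le⟩
      · exact Or.inr ⟨hch, h1 ▸ hk, h1.le⟩
    · rintro (hk | ⟨hch, h0, h1⟩)
      · exact Or.inl hk
      · refine Or.inr ⟨by omega, hch, ?_⟩
        rcases h1.lt_or_eq with h3 | h3
        · exact Or.inl ⟨h3, h0.ne'⟩
        · exact Or.inr h3

end Cfsg.Agent.S5990
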