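import Cfsg.Statements.S5991
import Cfsg.Agent.LinearElements.OrthOddBlocks

set_option autoImplicit false
open scoped MatrixGroups
open Cfsg

namespace Cfsg.Agent.S5991

/-- Elements of prime order of PΩ⁻_n(q), q odd, with no fixed nondegenerate `m`-space of odd dimension. Here `T = PΩ⁻_n(F)`, `n = 2d ≥ 8`, realised through `Ω⁻_n(q)`, the commutator subgroup of the isometry group of `Q = Σ_{i<d−1} xᵢyᵢ + z₁² + a z₁z₂ + b z₂²` with `z₁² + a z₁z₂ + b z₂²` anisotropic, over the field `F` with `q` elements; an element of `T` of prime order `r` is an element `x` of `Ω⁻_n(q)` with `x^r` scalar and `x` not scalar; `q` and `m` are odd, `1 ≤ m < n/2`. The nondegenerate `m`-spaces fall into two isometry classes, each an orbit of `T`, with equivalent actions; fix one such space `W₀` and let Ω be the set of nondegenerate `m`-spaces isometric to `W₀`. Let `r` be a prime dividing the size of Ω; for `r ≠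 p` let `i` be the multiplicative order of `q` modulo `r`, `c = i` for `i` even and `c = 2i` for `i` odd, and write `k = n mod c`, `ℓ = m mod i`, `ℓ' = m mod c`, `n' = ⌊n/i⌋`, `m' = ⌊m/i⌋`, `t = (r−1)/i`. Then every element of `T` of order `r` fixes a member of Ω if and only if one of: (i) `r = 2` and (`n ≡ 0 (mod 4)` or `q ≢ 7 (mod 8)`); (ii) `r ≠ p` odd, `i` odd, and `k = 0` or (`c ≤ m` and `k > ℓ' > 0`); (iii) `r ≠ p` odd, `i` even, and either `k = 0` and `n/i` even, or `k > 0`, `i ≤ m` and `k > ℓ' > 0`. (For `r = p` there is always an element of order `p` fixing no member of Ω.) -/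
theorem result {F : Type*} [Field F] [Fintype F] {p : ℕ} [Fact p.Prime] [CharP F p] {q : ℕ} (hq : Fintype.card F = q)
    (hodd : Odd q) (d m : ℕ) (hd : 4 ≤ d) (hm : Odd m) (hmd : m < d) (a b : F) (hab : ∀ x y : F, x ^ 2 + a * x * y + b * y ^ 2 = 0 → x = 0 ∧ y = 0)
    (W₀ : Submodule F ((Fin (d - 1) ⊕ Fin (d - 1)) ⊕ Fin 2 → F)) (hW₀ : Module.finrank F ↥W₀ = m ∧ Cfsg.Geo.IsNondegenerateOn (QuadraticMap.polar (Cfsg.quadFormMinus (d - 1) F a b)) W₀)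
    (r : ℕ) [Fact r.Prime]
    (hrΩ : r ∣ Nat.card {W : Submodule F ((Fin (d - 1) ⊕ Fin (d - 1)) ⊕ Fin 2 → F) // Module.finrank F ↥W = m ∧ Cfsg.Geo.IsNondegenerateOn (QuadraticMap.polar (Cfsg.quadFormMinus (d - 1) F a b)) W ∧ Cfsg.Geo.AreIsometricFor (Cfsg.quadFormMinus (d - 1) F a b) W W₀})
    (i c : ℕ) (hi : i = orderOf (q : ZMod r)) (hc : c = if Even i then i else 2 * i) :
    (∀ x : GL ((Fin (d - 1) ⊕ Fin (d - 1)) ⊕ Fin 2) F, x ∈ Cfsg.Geo.omegaGL (Cfsg.quadFormMinus (d - 1) F a b) →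
      (∃ z : F, ((x ^ r : GL ((Fin (d - 1) ⊕ Fin (d - 1)) ⊕ Fin 2) F) : Matrix ((Fin (d - 1) ⊕ Fin (d - 1)) ⊕ Fin 2) ((Fin (d - 1) ⊕ Fin (d - 1)) ⊕ Fin 2) F) = z • (1 : Matrix ((Fin (d - 1) ⊕ Fin (d - 1)) ⊕ Fin 2) ((Fin (d - 1) ⊕ Fin (d - 1)) ⊕ Fin 2) F)) →
      (∀ z : F, (x : Matrix ((Fin (d - 1) ⊕ Fin (d - 1)) ⊕ Fin 2) ((Fin (d - 1) ⊕ Fin (d - 1)) ⊕ Fin 2) F) ≠ z • (1 : Matrix ((Fin (d - 1) ⊕ Fin (d - 1)) ⊕ Fin 2) ((Fin (d - 1) ⊕ Fin (d - 1)) ⊕ Fin 2) F)) →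
      ∃ W : Submodule F ((Fin (d - 1) ⊕ Fin (d - 1)) ⊕ Fin 2 → F), (Module.finrank F ↥W = m ∧ Cfsg.Geo.IsNondegenerateOn (QuadraticMap.polar (Cfsg.quadFormMinus (d - 1) F a b)) W ∧ Cfsg.Geo.AreIsometricFor (Cfsg.quadFormMinus (d - 1) F a b) W W₀) ∧ W.map (Matrix.toLin' (x : Matrix ((Fin (d - 1) ⊕ Fin (d - 1)) ⊕ Fin 2) ((Fin (d - 1) ⊕ Fin (d - 1)) ⊕ Fin 2) F)) ≤ W) ↔
    ((r = 2 ∧ (Even d ∨ q % 8 ≠ 7)) ∨
     (r ≠ p ∧ 2 < r ∧ Odd i ∧ ((2 * d) % c = 0 ∨ (c ≤ m ∧ 0 < m % c ∧ m % c < (2 * d) % c))) ∨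
     (r ≠ p ∧ 2 < r ∧ Even i ∧ (((2 * d) % c = 0 ∧ Even ((2 * d) / i)) ∨ (0 < (2 * d) % c ∧ i ≤ m ∧ 0 < m % c ∧ m % c < (2 * d) % c)))) := by
  have hcoe : ⇑(CfsgLib.StdForms.minusQ (d - 1) F a b) = Cfsg.quadFormMinus (d - 1) F a b :=
    CfsgLib.StdForms.coe_minusQ (d - 1) a b
  have hQ := CfsgLib.StdForms.minusQ_nondegenerate (d - 1) (CfsgLib.OrthStandard.minus_disc hab)
  have hPV := iff_false_intro (CfsgLib.OrthStandard.not_plus_top_minusQ (d - 1) hab)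
  set Q := CfsgLib.StdForms.minusQ (d - 1) F a b
  have hn : Fintype.card ((Fin (d - 1) ⊕ Fin (d - 1)) ⊕ Fin 2) = 2 * d := by simp; omega
  rw [← hcoe] at hrΩ hW₀ ⊢
  have hp2 : p ≠ 2 := fun e => by
    subst e
    obtain ⟨n, -, hn'⟩ := FiniteField.card F 2
    rw [← hq, hn'] at hodd
    exact absurd hodd (by simp [Nat.not_odd_iff_even, Nat.even_pow])
  have hF2 : (2 : F) ≠ 0 := Ring.two_ne_zero (by rw [ringChar.eq F p]; exact hp2)
  have hW₀s := (CfsgLib.OrthEvenDim.frozen_nondeg Q W₀).mp hW₀.2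
  have hPr : ∀ W : Submodule F _, (Module.finrank F ↥W = m ∧ Cfsg.Geo.IsNondegenerateOn (QuadraticMap.polar ⇑Q) W ∧
      Cfsg.Geo.AreIsometricFor (⇑Q) W W₀) ↔
      (Module.finrank F ↥W = m ∧ CfsgLib.QuadType.Sep Q W ∧ CfsgLib.QuadType.Iso Q Q W W₀) := fun W => by
    rw [CfsgLib.OrthEvenDim.frozen_nondeg]
    exact Iff.rfl
  by_cases hr2 : r = 2
  · subst hr2
    rw [CfsgLib.OrthStandard.two_odd_iff hQ hn hd hPV hF2 hm hmd hW₀s hW₀.1 hPr,
      FiniteField.isSquare_two_iff, FiniteField.isSquare_neg_one_iff, hq]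
    simp only [lt_irrefl, false_and, and_false, or_false, true_and, false_iff, not_not]
    have := Nat.odd_iff.mp hodd
    simp only [Nat.even_iff, Nat.odd_iff]
    omega
  by_cases hrp : r = p
  · subst hrp
    refine iff_of_false (CfsgLib.OrthOddBlocks.not_all_fix_odd ((Fact.out : r.Prime).odd_of_ne_two hp2) hQ hn hd hm hmd
      hW₀s hW₀.1 hPr) ?_
    simp [hp2]
  rw [CfsgLib.OrthStandard.odd_iff hQ hn hd hPV hq hr2 hrp hm hmd hW₀s hW₀.1 hPr hrΩ hi hc]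
  have hr : 2 < r := lt_of_le_of_ne (Fact.out : r.Prime).two_le (Ne.symm hr2)
  have hl : 0 < m % c := by
    refine Nat.pos_of_ne_zero fun e => Nat.not_even_iff_odd.mpr hm ?_
    obtain ⟨s, rfl⟩ := Nat.dvd_of_mod_eq_zero e
    refine Even.mul_right ?_ s
    rw [hc]; split_ifs with he
    exacts [he, even_two_mul _]
  simp only [CfsgLib.OrthAtoms.sgn, false_iff, not_not, hr2, hr, hrp, false_and, false_or, ne_eq, not_false_eq_true, true_and]
  rcases Nat.even_or_odd i with he | ho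
  · have hci : c = i := by rw [hc, if_pos he]
    subst hci
    simp only [he, Nat.not_odd_iff_even.mpr he, false_and, false_or, true_and, hl, Nat.not_even_iff_odd,
      Nat.not_odd_iff_even]
  · simp only [ho, Nat.not_even_iff_odd.mpr ho, true_and, and_true, false_and, or_false, true_or, hl]
    constructor
    · rintro (h | ⟨-, h1, h2⟩)
      · exact Or.inl h
      · exact Or.inr ⟨h1, h2⟩
    · rintro (h | ⟨h1, h2⟩)
      · exact Or.inl h
      · exact Or.inr ⟨Nat.lt_of_le_of_lt (Nat.zero_le _) h2, h1, h2⟩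

end Cfsg.Agent.S5991
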