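import Cfsg.Statements.S5992
import Cfsg.Agent.LinearElements.OrthOddDim

set_option autoImplicit false
open scoped MatrixGroups
open Cfsg

namespace Cfsg.Agent.S5992

/-- Elements of prime order r ≠ p of Ω_n(q), nq odd, with no fixed hyperbolic `m`-space. Here `T = Ω_n(F)`, `n = 2d+1 ≥ 7`, `q` odd, realised as the commutator subgroup of the isometry group of `Q = x₀² + Σ xᵢyᵢ` over the field `F` with `q` elements (trivial centre, so its elements of prime order `r` are used directly); a nondegenerate `m`-space (even `m`) is a subspace on which the polar form of `Q` is nondegenerate; it is hyperbolic if it contains an `m/2`-dimensional subspace on which `Q` vanishes, elliptic otherwise. Let `m` be even with `2 ≤ m ≤ n − 1` (no restriction `m < n/2`) and let `r ≠ p` be a prime dividing the number of hyperbolic `m`-spaces; for `r ≠ p` let `i` be the multiplicative order of `q` modulo `r`, `c = i` for `i` even and `c = 2i` for `i` odd, and write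 `k = n mod c`, `ℓ' = m mod c`. Then every element of `T` of order `r` fixes some hyperbolic `m`-space if and only if `r = 2`, or `r` is odd and one of: (i) `i` odd, `c ≤ m` and either `k > ℓ' > 0` or `ℓ' = 0`; (ii) `i` even, `i ≤ m`, `k > ℓ'`, and `m/i` even whenever `ℓ' = 0`. (`r = p` is not covered by this statement.) -/
theorem result {F : Type*} [Field F] [Fintype F] {p : ℕ} [Fact p.Prime] [CharP F p] {q : ℕ} (hq : Fintype.card F = q) (hqodd : Odd q)
    (d m : ℕ) (hd : 3 ≤ d) (hm : 2 ≤ m) (hme : Even m) (hmn : m ≤ 2 * d)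
    (r : ℕ) [Fact r.Prime] (hrp : r ≠ p)
    (hrΩ : r ∣ Nat.card {W : Submodule F (Unit ⊕ (Fin d ⊕ Fin d) → F) // Module.finrank F ↥W = m ∧ Cfsg.Geo.IsNondegenerateOn (QuadraticMap.polar (Cfsg.quadFormOdd d F)) W ∧ Cfsg.Geo.IsPlusTypeOn (Cfsg.quadFormOdd d F) W})
    (i c : ℕ) (hi : i = orderOf (q : ZMod r)) (hc : c = if Even i then i else 2 * i) :
    (∀ x : GL (Unit ⊕ (Fin d ⊕ Fin d)) F, x ∈ Cfsg.Geo.omegaGL (Cfsg.quadFormOdd d F) → orderOf x = r →
      ∃ W : Submodule F (Unit ⊕ (Fin d ⊕ Fin d) → F), (Module.finrank F ↥W = m ∧ Cfsg.Geo.IsNondegenerateOn (QuadraticMap.polar (Cfsg.quadFormOdd d F)) W ∧ Cfsg.Geo.IsPlusTypeOn (Cfsg.quadFormOdd d F) W) ∧ W.map (Matrix.toLin' (x : Matrix (Unit ⊕ (Fin d ⊕ Fin d)) (Unit ⊕ (Fin d ⊕ Fin d)) F)) ≤ W) ↔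
    (r = 2 ∨
     (2 < r ∧ Odd i ∧ c ≤ m ∧ (m % c = 0 ∨ (0 < m % c ∧ m % c < (2 * d + 1) % c))) ∨
     (2 < r ∧ Even i ∧ i ≤ m ∧ m % c < (2 * d + 1) % c ∧ (0 < m % c ∨ Even (m / i)))) := by
  rw [CfsgLib.OrthOddDim.odd_nondeg_iff (T := True) (Pr := fun W => Module.finrank F ↥W = m ∧
      Cfsg.Geo.IsNondegenerateOn (QuadraticMap.polar (Cfsg.quadFormOdd d F)) W ∧
      Cfsg.Geo.IsPlusTypeOn (Cfsg.quadFormOdd d F) W)
    hq hqodd hd hm hme hmn hrp (fun W => by
      rw [CfsgLib.OrthOddDim.frozen_iff.1, CfsgLib.OrthOddDim.frozen_iff.2, iff_true]) hrΩ hi hc]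
  refine or_congr Iff.rfl ?_
  have hk : 0 < (2 * d + 1) % c := by
    obtain ⟨t, ht⟩ : Even c := by
      rw [hc]; split_ifs with he
      exacts [he, even_two_mul _]
    refine Nat.pos_of_ne_zero fun e => ?_
    obtain ⟨s, hs⟩ := Nat.dvd_of_mod_eq_zero e
    rw [ht, ← two_mul, mul_assoc] at hs
    omega
  simp only [CfsgLib.OrthAtoms.sgn, iff_true]
  rcases Nat.even_or_odd i with he | ho
  · rw [if_pos he] at hc
    subst hc
    constructor
    · rintro ⟨h1, h2, h3, h4⟩
      refine Or.inr ⟨h1, he, h2, h3, ?_⟩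
      rcases Nat.eq_zero_or_pos (m % c) with h5 | h5
      · exact Or.inr ((h4 h5).resolve_left (Nat.not_odd_iff_even.mpr he))
      · exact Or.inl h5
    · rintro (⟨-, h, -⟩ | ⟨h1, -, h2, h3, h4⟩)
      · exact absurd h (Nat.not_odd_iff_even.mpr he)
      · exact ⟨h1, h2, h3, fun e => Or.inr (h4.resolve_left (by omega))⟩
  · constructor
    · rintro ⟨h1, h2, h3, -⟩
      refine Or.inl ⟨h1, ho, h2, ?_⟩
      omega
    · rintro (⟨h1, -, h2, h3⟩ | ⟨-, h, -⟩)
      · exact ⟨h1, h2, by rcases h3 with h3 | h3 <;> omega, fun _ => Or.inl ho⟩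
      · exact absurd h (Nat.not_even_iff_odd.mpr ho)

end Cfsg.Agent.S5992
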