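import Cfsg.Statements.S5993
import Cfsg.Agent.LinearElements.OrthOddDim
import Cfsg.Agent.OrthPartition.Fix

set_option autoImplicit false
open scoped MatrixGroups
open Cfsg

namespace Cfsg.Agent.S5993

/-- Elements of prime order of Ω_n(q), nq odd, with no fixed elliptic `m`-space. Here `T = Ω_n(F)`, `n = 2d+1 ≥ 7`, `q` odd, realised as the commutator subgroup of the isometry group of `Q = x₀² + Σ xᵢyᵢ` over the field `F` with `q` elements (trivial centre, so its elements of prime order `r` are used directly); a nondegenerate `m`-space (even `m`) is a subspace on which the polar form of `Q` is nondegenerate; it is hyperbolic if it contains an `m/2`-dimensional subspace on which `Q` vanishes, elliptic otherwise. Let `m` be even with `2 ≤ m ≤ n − 1` (no restriction `m < n/2`) and let `r` be a prime dividing the number of elliptic `m`-spaces; for `r ≠ p` let `i` be the multiplicative order of `q` modulo `r`, `c = i` for `i` even and `c = 2i` for `i`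 odd, and write `k = n mod c`, `ℓ' = m mod c`. Then every element of `T` of order `r` fixes some elliptic `m`-space if and only if `r = 2`, or `r ≠ p` is odd and one of: (i) `i` odd, `c ≤ m` and `k > ℓ' > 0`; (ii) `i` even, `i ≤ m`, `k > ℓ'`, and `m/i` odd whenever `ℓ' = 0`. (For `r = p` there is always an element of order `p` fixing no elliptic `m`-space.) -/
theorem result {F : Type*} [Field F] [Fintype F] {p : ℕ} [Fact p.Prime] [CharP F p] {q : ℕ} (hq : Fintype.card F = q) (hqodd : Odd q)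
    (d m : ℕ) (hd : 3 ≤ d) (hm : 2 ≤ m) (hme : Even m) (hmn : m ≤ 2 * d)
    (r : ℕ) [Fact r.Prime]
    (hrΩ : r ∣ Nat.card {W : Submodule F (Unit ⊕ (Fin d ⊕ Fin d) → F) // Module.finrank F ↥W = m ∧ Cfsg.Geo.IsNondegenerateOn (QuadraticMap.polar (Cfsg.quadFormOdd d F)) W ∧ ¬ Cfsg.Geo.IsPlusTypeOn (Cfsg.quadFormOdd d F) W})
    (i c : ℕ) (hi : i = orderOf (q : ZMod r)) (hc : c = if Even i then i else 2 * i) :
    (∀ x : GL (Unit ⊕ (Fin d ⊕ Fin d)) F, x ∈ Cfsg.Geo.omegaGL (Cfsg.quadFormOdd d F) → orderOf x = r →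
      ∃ W : Submodule F (Unit ⊕ (Fin d ⊕ Fin d) → F), (Module.finrank F ↥W = m ∧ Cfsg.Geo.IsNondegenerateOn (QuadraticMap.polar (Cfsg.quadFormOdd d F)) W ∧ ¬ Cfsg.Geo.IsPlusTypeOn (Cfsg.quadFormOdd d F) W) ∧ W.map (Matrix.toLin' (x : Matrix (Unit ⊕ (Fin d ⊕ Fin d)) (Unit ⊕ (Fin d ⊕ Fin d)) F)) ≤ W) ↔
    (r = 2 ∨
     (r ≠ p ∧ 2 < r ∧ Odd i ∧ c ≤ m ∧ 0 < m % c ∧ m % c < (2 * d + 1) % c) ∨
     (r ≠ p ∧ 2 < r ∧ Even i ∧ i ≤ m ∧ m % c < (2 * d + 1) % c ∧ (0 < m % c ∨ Odd (m / i)))) := by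
  have hp2 : p ≠ 2 := fun e => by
    subst e
    obtain ⟨n, -, hn⟩ := FiniteField.card F 2
    rw [← hq, hn] at hqodd
    exact absurd hqodd (by simp [Nat.not_odd_iff_even, Nat.even_pow])
  by_cases hrp : r = p
  · subst hrp
    refine iff_of_false (fun hfix => ?_) (by simp [hp2])
    have hp : Odd r := (Fact.out : r.Prime).odd_of_ne_two hp2
    have hr3 : 3 ≤ r := by
      have := (Fact.out : r.Prime).two_le; omega
    have hF2 : (2 : F) ≠ 0 := Ring.two_ne_zero (by rw [ringChar.eq F r]; exact hp2)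
    have hQ := CfsgLib.StdForms.oddQ_nondegenerate (F := F) hF2 d
    have hcoe : ⇑(CfsgLib.StdForms.oddQ d F) = Cfsg.quadFormOdd d F := CfsgLib.StdForms.coe_oddQ d
    have hcard : Fintype.card (Unit ⊕ (Fin d ⊕ Fin d)) = 2 * d + 1 := by simp; omega
    obtain ⟨k, s, hks, hsc⟩ : ∃ k s, (Even k ∧ 2 * k + s = 2 * d + 1) ∧ (s = 1 ∨ s = 3) := by
      rcases Nat.even_or_odd d with he | ⟨t, rfl⟩
      · exact ⟨d, 1, ⟨he, rfl⟩, Or.inl rfl⟩
      · exact ⟨2 * t, 3, ⟨even_two_mul t, by omega⟩, Or.inr rfl⟩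
    have hs : Odd s := by rcases hsc with rfl | rfl <;> decide
    obtain ⟨W, hW, ν, hν, hνs, -, hplus⟩ := CfsgLib.OrthPartition.exists_part_of_fix
      (μ := Multiset.replicate k 2 + {s}) (m := m)
      (P := fun W => Module.finrank F ↥W = m ∧
        Cfsg.Geo.IsNondegenerateOn (QuadraticMap.polar (Cfsg.quadFormOdd d F)) W ∧
        ¬ Cfsg.Geo.IsPlusTypeOn (Cfsg.quadFormOdd d F) W)
      hp hQ (by omega) (fun W hW => ⟨hW.1, hcoe ▸ hW.2.1⟩) (fun x hx hxp _ => hfix x (hcoe ▸ hx) hxp)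
      (fun e he => by
        rcases Multiset.mem_add.1 he with h | h
        · rw [Multiset.eq_of_mem_replicate h]; omega
        · rw [Multiset.mem_singleton] at h; omega)
      (fun e he => by
        have hes : e ≠ s := fun h => Nat.not_even_iff_odd.mpr hs (h ▸ he)
        rw [Multiset.count_add, Multiset.count_replicate, Multiset.count_singleton, if_neg hes, Nat.add_zero]
        split_ifs
        exacts [hks.1, Even.zero])
      (by rw [Multiset.sum_add, Multiset.sum_replicate, Multiset.sum_singleton, hcard, smul_eq_mul]; omega)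
      ⟨s, by simp, hs⟩
      ⟨2, Multiset.mem_add.2 (Or.inl (Multiset.mem_replicate.2 ⟨by omega, rfl⟩)), le_rfl⟩
    obtain ⟨ν₀, hν₀, hsum, htwo⟩ := CfsgLib.OrthPartition.sum_of_le_twos hν
    have h0 : ν₀ = 0 := by
      rcases Multiset.le_singleton.1 hν₀ with h | h
      · exact h
      · exfalso
        rw [hνs, h, Multiset.sum_singleton] at hsum
        obtain ⟨t, ht⟩ := hs
        obtain ⟨u, hu⟩ := hme
        omega
    refine hW.2.2 (hcoe ▸ hplus fun j hj => htwo j ?_)
    rw [h0, tsub_zero]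
    exact hj
  rw [CfsgLib.OrthOddDim.odd_nondeg_iff (T := False) (Pr := fun W => Module.finrank F ↥W = m ∧
      Cfsg.Geo.IsNondegenerateOn (QuadraticMap.polar (Cfsg.quadFormOdd d F)) W ∧
      ¬ Cfsg.Geo.IsPlusTypeOn (Cfsg.quadFormOdd d F) W)
    hq hqodd hd hm hme hmn hrp (fun W => by
      rw [CfsgLib.OrthOddDim.frozen_iff.1, CfsgLib.OrthOddDim.frozen_iff.2, iff_false]) hrΩ hi hc]
  refine or_congr Iff.rfl ?_
  simp only [CfsgLib.OrthAtoms.sgn, iff_false]
  rcases Nat.even_or_odd i with he | ho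
  · rw [if_pos he] at hc
    subst hc
    constructor
    · rintro ⟨h1, h2, h3, h4⟩
      refine Or.inr ⟨hrp, h1, he, h2, h3, ?_⟩
      rcases Nat.eq_zero_or_pos (m % c) with h5 | h5
      · exact Or.inr (Nat.not_even_iff_odd.mp fun h => h4 h5 (Or.inr h))
      · exact Or.inl h5
    · rintro (⟨-, -, h, -⟩ | ⟨-, h1, -, h2, h3, h4⟩)
      · exact absurd h (Nat.not_odd_iff_even.mpr he)
      · refine ⟨h1, h2, h3, fun e h => ?_⟩
        exact Nat.not_even_iff_odd.mpr (h4.resolve_left (by omega)) (h.resolve_left (Nat.not_odd_iff_even.mpr he))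
  · constructor
    · rintro ⟨h1, h2, h3, h4⟩
      exact Or.inl ⟨hrp, h1, ho, h2, Nat.pos_of_ne_zero fun e => h4 e (Or.inl ho), h3⟩
    · rintro (⟨-, h1, -, h2, h3, h4⟩ | ⟨-, -, h, -⟩)
      · exact ⟨h1, h2, h4, fun e => by omega⟩
      · exact absurd h (Nat.not_even_iff_odd.mpr ho)

end Cfsg.Agent.S5993
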