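import Cfsg.Statements.S5994
import Cfsg.Agent.OrthPartition.Fix
-- import your own Cfsg.Agent.* helpers here

set_option autoImplicit false
open scoped MatrixGroups
open Cfsg

namespace Cfsg.Agent.S5994

/-- A necessary condition for every element of order p of PΩ⁻_n(q), q odd, to fix an elliptic `m`-space. Here `T = PΩ⁻_n(F)`, `n = 2d ≥ 8`, realised through `Ω⁻_n(q)`, the commutator subgroup of the isometry group of `Q = Σ_{i<d−1} xᵢyᵢ + z₁² + a z₁z₂ + b z₂²` with `z₁² + a z₁z₂ + b z₂²` anisotropic, over the field `F` with `q` elements; an element of `T` of prime order `r` is an element `x` of `Ω⁻_n(q)` with `x^r` scalar and `x` not scalar; `q` is odd; a nondegenerate `m`-space (even `m`) is a subspace on which the polar form of `Q` is nondegenerate; it is hyperbolic if it contains an `m/2`-dimensional subspace on which `Q` vanishes, elliptic otherwise. Let `m` be even with `2 ≤ m ≤ n − 2` and suppose `p` divides the number of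 elliptic `m`-spaces. If every element of `T` of order `p` fixes some elliptic `m`-space, then `n ≡ m (mod 4)` and every partition of `n` into parts of size at most `p` in which every even part has even multiplicity contains (as a sub-multiset) a partition of `m` in which every even part has even multiplicity. -/
theorem result {F : Type*} [Field F] [Fintype F] {p : ℕ} [Fact p.Prime] [CharP F p] {q : ℕ} (hq : Fintype.card F = q) (hqodd : Odd q)
    (d m : ℕ) (hd : 4 ≤ d) (hm : 2 ≤ m) (hme : Even m) (hmn : m + 2 ≤ 2 * d) (a b : F) (hab : ∀ x y : F, x ^ 2 + a * x * y + b * y ^ 2 = 0 → x = 0 ∧ y = 0)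
    (hpΩ : p ∣ Nat.card {W : Submodule F ((Fin (d - 1) ⊕ Fin (d - 1)) ⊕ Fin 2 → F) // Module.finrank F ↥W = m ∧ Cfsg.Geo.IsNondegenerateOn (QuadraticMap.polar (Cfsg.quadFormMinus (d - 1) F a b)) W ∧ ¬ Cfsg.Geo.IsPlusTypeOn (Cfsg.quadFormMinus (d - 1) F a b) W}) :
    (∀ x : GL ((Fin (d - 1) ⊕ Fin (d - 1)) ⊕ Fin 2) F, x ∈ Cfsg.Geo.omegaGL (Cfsg.quadFormMinus (d - 1) F a b) →
      (∃ z : F, ((x ^ p : GL ((Fin (d - 1) ⊕ Fin (d - 1)) ⊕ Fin 2) F) : Matrix ((Fin (d - 1) ⊕ Fin (d - 1)) ⊕ Fin 2) ((Fin (d - 1) ⊕ Fin (d - 1)) ⊕ Fin 2) F) = z • (1 : Matrix ((Fin (d - 1) ⊕ Fin (d - 1)) ⊕ Fin 2) ((Fin (d - 1) ⊕ Fin (d - 1)) ⊕ Fin 2) F)) →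
      (∀ z : F, (x : Matrix ((Fin (d - 1) ⊕ Fin (d - 1)) ⊕ Fin 2) ((Fin (d - 1) ⊕ Fin (d - 1)) ⊕ Fin 2) F) ≠ z • (1 : Matrix ((Fin (d - 1) ⊕ Fin (d - 1)) ⊕ Fin 2) ((Fin (d - 1) ⊕ Fin (d - 1)) ⊕ Fin 2) F)) →
      ∃ W : Submodule F ((Fin (d - 1) ⊕ Fin (d - 1)) ⊕ Fin 2 → F), (Module.finrank F ↥W = m ∧ Cfsg.Geo.IsNondegenerateOn (QuadraticMap.polar (Cfsg.quadFormMinus (d - 1) F a b)) W ∧ ¬ Cfsg.Geo.IsPlusTypeOn (Cfsg.quadFormMinus (d - 1) F a b) W) ∧ W.map (Matrix.toLin' (x : Matrix ((Fin (d - 1) ⊕ Fin (d - 1)) ⊕ Fin 2) ((Fin (d - 1) ⊕ Fin (d - 1)) ⊕ Fin 2) F)) ≤ W) →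
    ((2 * d) % 4 = m % 4 ∧ (∀ μ : Multiset ℕ, (∀ e ∈ μ, 0 < e ∧ e ≤ p) → (∀ e : ℕ, Even e → Even (μ.count e)) → μ.sum = 2 * d →
        ∃ ν : Multiset ℕ, ν ≤ μ ∧ ν.sum = m ∧ ∀ e : ℕ, Even e → Even (ν.count e))) := by
  intro hfix
  have hp : Odd p := by
    rcases (Fact.out : p.Prime).eq_two_or_odd' with rfl | h
    · obtain ⟨n, -, hn⟩ := FiniteField.card F 2
      rw [← hq, hn] at hqodd
      exact absurd hqodd (by simp [Nat.not_odd_iff_even, Nat.even_pow])
    · exact h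
  have hp3 : 3 ≤ p := by
    have := (Fact.out : p.Prime).two_le
    obtain ⟨i, rfl⟩ := hp; omega
  have h2 : (2 : F) ≠ 0 := Ring.two_ne_zero (by rw [ringChar.eq F p]; omega)
  set Q := CfsgLib.StdForms.minusQ (d - 1) F a b with hQdef
  have hQ := CfsgLib.StdForms.minusQ_nondegenerate (d - 1) (CfsgLib.StdForms.disc_ne_zero_of_anisotropic h2 hab)
  have hcoe : ⇑Q = Cfsg.quadFormMinus (d - 1) F a b := CfsgLib.StdForms.coe_minusQ (d - 1) a b
  have hcard : Fintype.card ((Fin (d - 1) ⊕ Fin (d - 1)) ⊕ Fin 2) = 2 * d := by simp; omega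
  have key := fun (μ : Multiset ℕ) h1 h3 h4 h5 h6 => CfsgLib.OrthPartition.exists_part_of_fix (m := m) (μ := μ)
    (P := fun W => Module.finrank F ↥W = m ∧
      Cfsg.Geo.IsNondegenerateOn (QuadraticMap.polar (Cfsg.quadFormMinus (d - 1) F a b)) W ∧
      ¬ Cfsg.Geo.IsPlusTypeOn (Cfsg.quadFormMinus (d - 1) F a b) W)
    hp hQ (by omega) (fun W hW => ⟨hW.1, hcoe ▸ hW.2.1⟩)
    (fun x hx hxp hne => hfix x (hcoe ▸ hx) ⟨1, by rw [← hxp, pow_orderOf_eq_one, one_smul]; rfl⟩ hne) h1 h3 h4 h5 h6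
  refine ⟨?_, CfsgLib.OrthPartition.exists_part_of_odd_case hp hme (by omega) fun μ h1 h3 h4 h5 h6 => ?_⟩
  swap
  · obtain ⟨W, -, ν, h⟩ := key μ h1 h3 (h4.trans hcard.symm) h5 h6
    exact ⟨ν, h.1, h.2.1, h.2.2.1⟩
  obtain ⟨i, hi⟩ := hme
  by_contra hne
  rcases Nat.even_or_odd d with ⟨k, hk⟩ | ⟨k, hk⟩
  · -- parts `2, …, 2, 3, 1`
    obtain ⟨W, hW, ν, hν, hνs, hνe, -⟩ := key (Multiset.replicate (2 * (k - 1)) 2 + {3, 1})
      (fun e he => by
        rcases Multiset.mem_add.1 he with h | h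
        · rw [Multiset.eq_of_mem_replicate h]; omega
        · simp at h; omega)
      (fun e he => by
        have h3' : e ≠ 3 := by rintro rfl; exact absurd he (by decide)
        have h1' : e ≠ 1 := by rintro rfl; exact absurd he (by decide)
        simp [Multiset.count_replicate, h3', h1']
        split_ifs <;> simp)
      (by simp [hcard]; omega) ⟨1, by simp, odd_one⟩ ⟨3, by simp, by omega⟩
    obtain ⟨ν₀, hν₀, hs, htwo⟩ := CfsgLib.OrthPartition.sum_of_le_twos hν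
    have h2e := hνe 2 even_two
    have hc : ν.count 2 = (ν - ν₀).card := by
      have hn0 : ν₀.count 2 = 0 := Nat.le_zero.1 ((Multiset.count_le_of_le 2 hν₀).trans (by simp))
      have := Multiset.count_sub 2 ν ν₀
      rw [hn0, Nat.sub_zero, Multiset.count_eq_card.2 fun j hj => (htwo j hj).symm] at this
      exact this.symm
    have hsum0 : ν₀.sum = 0 ∨ ν₀.sum = 1 ∨ ν₀.sum = 3 ∨ ν₀.sum = 4 := by
      have hmem := Multiset.mem_powerset.2 hν₀
      revert hmem
      generalize ν₀ = S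
      revert S
      decide
    rw [hc] at h2e
    obtain ⟨c, hc'⟩ := h2e
    omega
  · -- parts `2, …, 2, 1, 1`
    obtain ⟨W, hW, ν, hν, hνs, hνe, hplus⟩ := key (Multiset.replicate (2 * k) 2 + {1, 1})
      (fun e he => by
        rcases Multiset.mem_add.1 he with h | h
        · rw [Multiset.eq_of_mem_replicate h]; omega
        · simp at h; omega)
      (fun e he => by
        have h1' : e ≠ 1 := by rintro rfl; exact absurd he (by decide)
        simp [Multiset.count_replicate, h1']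
        split_ifs <;> simp)
      (by simp [hcard]; omega) ⟨1, by simp, odd_one⟩
      ⟨2, Multiset.mem_add.2 (Or.inl (Multiset.mem_replicate.2 ⟨by omega, rfl⟩)), le_rfl⟩
    obtain ⟨ν₀, hν₀, hs, htwo⟩ := CfsgLib.OrthPartition.sum_of_le_twos hν
    have h2e := hνe 2 even_two
    have hc : ν.count 2 = (ν - ν₀).card := by
      have hn0 : ν₀.count 2 = 0 := Nat.le_zero.1 ((Multiset.count_le_of_le 2 hν₀).trans (by simp))
      have := Multiset.count_sub 2 ν ν₀
      rw [hn0, Nat.sub_zero, Multiset.count_eq_card.2 fun j hj => (htwo j hj).symm] at this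
      exact this.symm
    have hsum0 : (ν₀.sum = 0 → ν₀ = 0) ∧ (ν₀.sum = 0 ∨ ν₀.sum = 1 ∨ ν₀.sum = 2) := by
      have hmem := Multiset.mem_powerset.2 hν₀
      revert hmem
      generalize ν₀ = S
      revert S
      decide
    rw [hc] at h2e
    obtain ⟨c, hc'⟩ := h2e
    have h0 : ν₀ = 0 := hsum0.1 (by omega)
    refine hW.2.2 (hcoe ▸ hplus fun j hj => htwo j ?_)
    rw [h0, tsub_zero]
    exact hj

end Cfsg.Agent.S5994
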