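import Cfsg.Statements.S5995
import Cfsg.Agent.OrthPartition.Fix
-- import your own Cfsg.Agent.* helpers here

set_option autoImplicit false
open scoped MatrixGroups
open Cfsg

namespace Cfsg.Agent.S5995

/-- A necessary condition for every element of order p of Ω_n(q), nq odd, to fix a hyperbolic `m`-space. Here `T = Ω_n(F)`, `n = 2d+1 ≥ 7`, `q` odd, realised as the commutator subgroup of the isometry group of `Q = x₀² + Σ xᵢyᵢ` over the field `F` with `q` elements (trivial centre, so its elements of prime order `r` are used directly); a nondegenerate `m`-space (even `m`) is a subspace on which the polar form of `Q` is nondegenerate; it is hyperbolic if it contains an `m/2`-dimensional subspace on which `Q` vanishes, elliptic otherwise. Let `m` be even with `2 ≤ m ≤ n − 1` and suppose `p` divides the number of hyperbolic `m`-spaces. If every element of `T` of order `p` fixes some hyperbolic `m`-space, then `m ≡ 0 (mod 4)` and every partition of `n`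 into parts of size at most `p` in which every even part has even multiplicity contains (as a sub-multiset) a partition of `m` in which every even part has even multiplicity. -/
theorem result {F : Type*} [Field F] [Fintype F] {p : ℕ} [Fact p.Prime] [CharP F p] {q : ℕ} (hq : Fintype.card F = q) (hqodd : Odd q)
    (d m : ℕ) (hd : 3 ≤ d) (hm : 2 ≤ m) (hme : Even m) (hmn : m ≤ 2 * d)
    (hpΩ : p ∣ Nat.card {W : Submodule F (Unit ⊕ (Fin d ⊕ Fin d) → F) // Module.finrank F ↥W = m ∧ Cfsg.Geo.IsNondegenerateOn (QuadraticMap.polar (Cfsg.quadFormOdd d F)) W ∧ Cfsg.Geo.IsPlusTypeOn (Cfsg.quadFormOdd d F) W}) :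
    (∀ x : GL (Unit ⊕ (Fin d ⊕ Fin d)) F, x ∈ Cfsg.Geo.omegaGL (Cfsg.quadFormOdd d F) → orderOf x = p →
      ∃ W : Submodule F (Unit ⊕ (Fin d ⊕ Fin d) → F), (Module.finrank F ↥W = m ∧ Cfsg.Geo.IsNondegenerateOn (QuadraticMap.polar (Cfsg.quadFormOdd d F)) W ∧ Cfsg.Geo.IsPlusTypeOn (Cfsg.quadFormOdd d F) W) ∧ W.map (Matrix.toLin' (x : Matrix (Unit ⊕ (Fin d ⊕ Fin d)) (Unit ⊕ (Fin d ⊕ Fin d)) F)) ≤ W) →
    (m % 4 = 0 ∧ (∀ μ : Multiset ℕ, (∀ e ∈ μ, 0 < e ∧ e ≤ p) → (∀ e : ℕ, Even e → Even (μ.count e)) → μ.sum = 2 * d + 1 →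
        ∃ ν : Multiset ℕ, ν ≤ μ ∧ ν.sum = m ∧ ∀ e : ℕ, Even e → Even (ν.count e))) := by
  intro hfix
  have hp : Odd p := by
    rcases (Fact.out : p.Prime).eq_two_or_odd' with rfl | h
    · obtain ⟨n, -, hn⟩ := FiniteField.card F 2
      rw [← hq, hn] at hqodd
      exact absurd hqodd (by simp [Nat.not_odd_iff_even, Nat.even_pow])
    · exact h
  have hp3 : 3 ≤ p := by
    have := (Fact.out : p.Prime).two_le
    obtain ⟨i, rfl⟩ := hp; omega
  have h2 : (2 : F) ≠ 0 := Ring.two_ne_zero (by rw [ringChar.eq F p]; omega)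
  set Q := CfsgLib.StdForms.oddQ d F with hQdef
  have hQ := CfsgLib.StdForms.oddQ_nondegenerate h2 d
  have hcoe : ⇑Q = Cfsg.quadFormOdd d F := CfsgLib.StdForms.coe_oddQ d
  have hcard : Fintype.card (Unit ⊕ (Fin d ⊕ Fin d)) = 2 * d + 1 := by simp; omega
  have key := fun (μ : Multiset ℕ) h1 h3 h4 h5 h6 => CfsgLib.OrthPartition.exists_part_of_fix (m := m) (μ := μ)
    (P := fun W => Module.finrank F ↥W = m ∧
      Cfsg.Geo.IsNondegenerateOn (QuadraticMap.polar (Cfsg.quadFormOdd d F)) W ∧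
      Cfsg.Geo.IsPlusTypeOn (Cfsg.quadFormOdd d F) W)
    hp hQ (by omega) (fun W hW => ⟨hW.1, hcoe ▸ hW.2.1⟩) (fun x hx hxp _ => hfix x (hcoe ▸ hx) hxp) h1 h3 h4 h5 h6
  refine ⟨?_, CfsgLib.OrthPartition.exists_part_of_odd_case hp hme (by omega) fun μ h1 h3 h4 h5 h6 => ?_⟩
  swap
  · obtain ⟨W, -, ν, h⟩ := key μ h1 h3 (h4.trans hcard.symm) h5 h6
    exact ⟨ν, h.1, h.2.1, h.2.2.1⟩
  obtain ⟨i, hi⟩ := hme
  obtain ⟨k, s, hs13, hds⟩ : ∃ k s, (s = 1 ∨ s = 3) ∧ 2 * d + 1 = 4 * k + s :=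
    ⟨(2 * d + 1) / 4, (2 * d + 1) % 4, by omega, by omega⟩
  obtain ⟨W, hW, ν, hν, hνs, hνe, -⟩ := key (Multiset.replicate (2 * k) 2 + {s})
    (fun e he => by
      rcases Multiset.mem_add.1 he with h | h
      · rw [Multiset.eq_of_mem_replicate h]; omega
      · rw [Multiset.mem_singleton] at h; omega)
    (fun e he => by
      have h1' : e ≠ s := by rintro rfl; rcases hs13 with rfl | rfl <;> exact absurd he (by decide)
      simp [Multiset.count_replicate, h1']
      split_ifs <;> simp)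
    (by simp [hcard]; omega) ⟨s, by simp, by rcases hs13 with rfl | rfl <;> decide⟩
    ⟨2, Multiset.mem_add.2 (Or.inl (Multiset.mem_replicate.2 ⟨by omega, rfl⟩)), le_rfl⟩
  obtain ⟨ν₀, hν₀, hs, htwo⟩ := CfsgLib.OrthPartition.sum_of_le_twos hν
  have h2e := hνe 2 even_two
  have hc : ν.count 2 = (ν - ν₀).card := by
    have hn0 : ν₀.count 2 = 0 := Nat.le_zero.1 ((Multiset.count_le_of_le 2 hν₀).trans (by simp; omega))
    have := Multiset.count_sub 2 ν ν₀
    rw [hn0, Nat.sub_zero, Multiset.count_eq_card.2 fun j hj => (htwo j hj).symm] at this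
    exact this.symm
  have hsum0 : ν₀.sum = 0 ∨ ν₀.sum = s := by
    rcases Multiset.le_singleton.1 hν₀ with rfl | rfl <;> simp
  rw [hc] at h2e
  obtain ⟨c, hc'⟩ := h2e
  omega

end Cfsg.Agent.S5995
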