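import Cfsg.Statements.S5996
import Cfsg.Agent.OrthPartition.Fix
-- import your own Cfsg.Agent.* helpers here

set_option autoImplicit false
open scoped MatrixGroups
open Cfsg

namespace Cfsg.Agent.S5996

/-- A necessary condition for every element of order p of PΩ⁺_n(q), q odd, to fix a hyperbolic `m`-space. Here `T = PΩ⁺_n(F)`, `n = 2d ≥ 8`, realised through `Ω⁺_n(q)`, the commutator subgroup of the isometry group of `Q = Σ xᵢyᵢ` over the field `F` with `q` elements; an element of `T` of prime order `r` is an element `x` of `Ω⁺_n(q)` with `x^r` scalar and `x` not scalar; `q` is odd; a nondegenerate `m`-space (even `m`) is a subspace on which the polar form of `Q` is nondegenerate; it is hyperbolic if it contains an `m/2`-dimensional subspace on which `Q` vanishes, elliptic otherwise. Let `m` be even with `2 ≤ m < n/2` and suppose `p` divides the number of hyperbolic `m`-spaces. If every element of `T` of order `p` fixes some hyperbolic `m`-space, then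 every partition of `n` into parts of size at most `p` in which every even part has even multiplicity contains (as a sub-multiset) a partition of `m` in which every even part has even multiplicity. -/
theorem result {F : Type*} [Field F] [Fintype F] {p : ℕ} [Fact p.Prime] [CharP F p] {q : ℕ} (hq : Fintype.card F = q) (hqodd : Odd q)
    (d m : ℕ) (hd : 4 ≤ d) (hm : 2 ≤ m) (hme : Even m) (hmd : m < d)
    (hpΩ : p ∣ Nat.card {W : Submodule F (Fin d ⊕ Fin d → F) // Module.finrank F ↥W = m ∧ Cfsg.Geo.IsNondegenerateOn (QuadraticMap.polar (Cfsg.quadFormPlus d F)) W ∧ Cfsg.Geo.IsPlusTypeOn (Cfsg.quadFormPlus d F) W}) :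
    (∀ x : GL (Fin d ⊕ Fin d) F, x ∈ Cfsg.Geo.omegaGL (Cfsg.quadFormPlus d F) →
      (∃ z : F, ((x ^ p : GL (Fin d ⊕ Fin d) F) : Matrix (Fin d ⊕ Fin d) (Fin d ⊕ Fin d) F) = z • (1 : Matrix (Fin d ⊕ Fin d) (Fin d ⊕ Fin d) F)) →
      (∀ z : F, (x : Matrix (Fin d ⊕ Fin d) (Fin d ⊕ Fin d) F) ≠ z • (1 : Matrix (Fin d ⊕ Fin d) (Fin d ⊕ Fin d) F)) →
      ∃ W : Submodule F (Fin d ⊕ Fin d → F), (Module.finrank F ↥W = m ∧ Cfsg.Geo.IsNondegenerateOn (QuadraticMap.polar (Cfsg.quadFormPlus d F)) W ∧ Cfsg.Geo.IsPlusTypeOn (Cfsg.quadFormPlus d F) W) ∧ W.map (Matrix.toLin' (x : Matrix (Fin d ⊕ Fin d) (Fin d ⊕ Fin d) F)) ≤ W) →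
    (∀ μ : Multiset ℕ, (∀ e ∈ μ, 0 < e ∧ e ≤ p) → (∀ e : ℕ, Even e → Even (μ.count e)) → μ.sum = 2 * d →
        ∃ ν : Multiset ℕ, ν ≤ μ ∧ ν.sum = m ∧ ∀ e : ℕ, Even e → Even (ν.count e)) := by
  intro hfix
  have hp : Odd p := by
    rcases (Fact.out : p.Prime).eq_two_or_odd' with rfl | h
    · obtain ⟨n, -, hn⟩ := FiniteField.card F 2
      rw [← hq, hn] at hqodd
      exact absurd hqodd (by simp [Nat.not_odd_iff_even, Nat.even_pow])
    · exact h
  set Q := CfsgLib.StdForms.plusQ d F with hQdef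
  have hQ := CfsgLib.StdForms.plusQ_nondegenerate (F := F) d
  have hcoe : ⇑Q = Cfsg.quadFormPlus d F := CfsgLib.StdForms.coe_plusQ d
  have hcard : Fintype.card (Fin d ⊕ Fin d) = 2 * d := by simp; omega
  refine CfsgLib.OrthPartition.exists_part_of_odd_case hp hme (by omega) fun μ h1 h3 h4 h5 h6 => ?_
  obtain ⟨W, -, ν, h⟩ := CfsgLib.OrthPartition.exists_part_of_fix (m := m) (μ := μ)
    (P := fun W => Module.finrank F ↥W = m ∧
      Cfsg.Geo.IsNondegenerateOn (QuadraticMap.polar (Cfsg.quadFormPlus d F)) W ∧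
      Cfsg.Geo.IsPlusTypeOn (Cfsg.quadFormPlus d F) W)
    hp hQ (by omega) (fun W hW => ⟨hW.1, hcoe ▸ hW.2.1⟩)
    (fun x hx hxp hne => hfix x (hcoe ▸ hx) ⟨1, by rw [← hxp, pow_orderOf_eq_one, one_smul]; rfl⟩ hne)
    h1 h3 (h4.trans hcard.symm) h5 h6
  exact ⟨ν, h.1, h.2.1, h.2.2.1⟩

end Cfsg.Agent.S5996
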