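import Cfsg.Statements.S5997
import Cfsg.Agent.LinearElements.TwoByTwo

set_option autoImplicit false
open scoped MatrixGroups
open Cfsg

namespace Cfsg.Agent.S5997

open Matrix CfsgLib.LinearElements

section

variable {F : Type*} [Field F]

theorem central_two : ∀ g : QuaternionGroup 2, (QuaternionGroup.a 1) ^ 2 * g = g * (QuaternionGroup.a 1) ^ 2 := by
  decide +kernel

theorem rels : (QuaternionGroup.a 1 : QuaternionGroup 2) ^ 2 ≠ 1 ∧
    ((QuaternionGroup.a 1 : QuaternionGroup 2) ^ 2) ^ 2 = 1 ∧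
    (QuaternionGroup.xa 0 : QuaternionGroup 2) ^ 2 = QuaternionGroup.a 1 ^ 2 ∧
    (QuaternionGroup.xa 0 : QuaternionGroup 2) * QuaternionGroup.a 1 =
      QuaternionGroup.a 1 ^ 2 * (QuaternionGroup.a 1 * QuaternionGroup.xa 0) ∧
    ∀ g : QuaternionGroup 2, ∃ (k : Fin 4) (l : Fin 2),
      (QuaternionGroup.xa 0) ^ l.val * (QuaternionGroup.a 1) ^ k.val = g := by
  decide +kernel

/-- The data extracted from a quaternion subgroup of `GL₂`. -/
structure Quat (R : Subgroup (GL (Fin 2) F)) where
  i : GL (Fin 2) F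
  j : GL (Fin 2) F
  i_mem : i ∈ R
  j_mem : j ∈ R
  ii : (i : Matrix (Fin 2) (Fin 2) F) * i = -1
  jj : (j : Matrix (Fin 2) (Fin 2) F) * j = -1
  ji : (j : Matrix (Fin 2) (Fin 2) F) * i = -((i : Matrix (Fin 2) (Fin 2) F) * j)
  gen : ∀ g ∈ R, ∃ (k l : ℕ), g = j ^ l * i ^ k

theorem nonScalar_of_anticomm {I J : Matrix (Fin 2) (Fin 2) F} (h2 : (2 : F) ≠ 0) (hI : I * I = -1) (hJ : J * J = -1)
    (h : J * I = -(I * J)) : NonScalar I ∧ NonScalar J := by
  have key : ∀ {A B : Matrix (Fin 2) (Fin 2) F}, A * A = -1 → B * B = -1 → B * A = -(A * B) → NonScalar A := by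
    intro A B hA hB hBA c hc
    have e : A * B = -(A * B) := by rw [← hBA, hc]; simp
    have e2 : (2 : F) • (A * B) = 0 := by rw [two_smul]; exact add_eq_zero_iff_eq_neg.mpr e
    have hAB : A * B = 0 := (smul_eq_zero.mp e2).resolve_left h2
    have e3 : (A * A) * (B * B) = 0 := by
      calc (A * A) * (B * B) = A * (A * B) * B := by simp only [mul_assoc]
        _ = 0 := by rw [hAB]; simp
    rw [hA, hB] at e3
    simpa using e3
  exact ⟨key hI hJ h, key hJ hI (by rw [h, neg_neg])⟩

theorem exists_quat (h2 : (2 : F) ≠ 0) {R : Subgroup (GL (Fin 2) F)} (hR : Nonempty (↥R ≃* QuaternionGroup 2)) :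
    Nonempty (Quat R) := by
  obtain ⟨e⟩ := hR
  obtain ⟨hz1, hz2, hj2, hji, hgen⟩ := rels
  let val : QuaternionGroup 2 →* GL (Fin 2) F := R.subtype.comp e.symm.toMonoidHom
  have hval : Function.Injective val := R.subtype_injective.comp e.symm.injective
  set z := val ((QuaternionGroup.a 1) ^ 2) with hzdef
  set I := val (QuaternionGroup.a 1) with hIdef
  set J := val (QuaternionGroup.xa 0) with hJdef
  have hzI : z * I = I * z := by rw [hzdef, hIdef, ← map_mul, ← map_mul, central_two]
  have hzJ : z * J = J * z := by rw [hzdef, hJdef, ← map_mul, ← map_mul, central_two]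
  have hIJ : J * I = z * (I * J) := by rw [hzdef, hIdef, hJdef, ← map_mul, ← map_mul, ← map_mul, hji]
  have hzne : z ≠ 1 := fun h => hz1 (hval (h.trans (map_one val).symm))
  have hzz : z * z = 1 := by rw [hzdef, ← map_mul, ← pow_two, hz2, map_one]
  have hzm : (z : Matrix (Fin 2) (Fin 2) F) = -1 := by
    by_cases hs : NonScalar (z : Matrix (Fin 2) (Fin 2) F)
    · exfalso
      have hci : (I : Matrix (Fin 2) (Fin 2) F) * z = z * I := by rw [← Units.val_mul, ← Units.val_mul, hzI]
      have hcj : (J : Matrix (Fin 2) (Fin 2) F) * z = z * J := by rw [← Units.val_mul, ← Units.val_mul, hzJ]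
      obtain ⟨a, b, hab⟩ := exists_eq_of_commute hs hci
      obtain ⟨c, d, hcd⟩ := exists_eq_of_commute hs hcj
      have hIJc : J * I = I * J := by
        apply Units.ext
        rw [Units.val_mul, Units.val_mul, hab, hcd]
        simp only [mul_add, add_mul, Matrix.smul_mul, Matrix.mul_smul, smul_smul, mul_one, one_mul]
        module
      rw [hIJc] at hIJ
      exact hzne (by simpa using hIJ.symm)
    · unfold CfsgLib.LinearElements.NonScalar at hs
      simp only [not_forall, not_not] at hs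
      obtain ⟨c, hc⟩ := hs
      have h := congrArg (fun u : GL (Fin 2) F => (u : Matrix (Fin 2) (Fin 2) F) 0 0) hzz
      simp [hc] at h
      rcases mul_self_eq_one_iff.mp h with h | h
      · exact absurd (Units.ext (by rw [hc, h, one_smul]; rfl)) hzne
      · rw [hc, h, neg_one_smul]
  refine ⟨⟨I, J, (e.symm _).2, (e.symm _).2, ?_, ?_, ?_, ?_⟩⟩
  · rw [← Units.val_mul, ← pow_two, hIdef, ← map_pow, ← hzdef, hzm]
  · rw [← Units.val_mul, ← pow_two, hJdef, ← map_pow, hj2, ← hzdef, hzm]
  · rw [← Units.val_mul, hIJ, Units.val_mul, Units.val_mul, hzm, neg_one_mul]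
  · intro g hg
    obtain ⟨k, l, hkl⟩ := hgen (e ⟨g, hg⟩)
    refine ⟨k.val, l.val, ?_⟩
    rw [hIdef, hJdef, ← map_pow, ← map_pow, ← map_mul, hkl]
    simp [val]

variable {R : Subgroup (GL (Fin 2) F)}

theorem Quat.trace_det (Q : Quat R) (h2 : (2 : F) ≠ 0) :
    NonScalar (Q.i : Matrix (Fin 2) (Fin 2) F) ∧
      (Q.i : Matrix (Fin 2) (Fin 2) F).trace = 0 ∧ (Q.i : Matrix (Fin 2) (Fin 2) F).det = 1 := by
  have hn := (nonScalar_of_anticomm h2 Q.ii Q.jj Q.ji).1
  exact ⟨hn, trace_det_of_sq_eq hn (t := 0) (d := 1) (by rw [Q.ii]; simp)⟩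

/-- An element of order three normalising `R`. -/
theorem Quat.exists_three [Finite F] (Q : Quat R) (h2 : (2 : F) ≠ 0) :
    ∃ w : GL (Fin 2) F, NonScalar (w : Matrix (Fin 2) (Fin 2) F) ∧ (w : Matrix (Fin 2) (Fin 2) F).trace = -1 ∧
      (w : Matrix (Fin 2) (Fin 2) F).det = 1 ∧ w ∈ Cfsg.Geo.subgroupNormalizer R := by
  set I := (Q.i : Matrix (Fin 2) (Fin 2) F) with hI
  set J := (Q.j : Matrix (Fin 2) (Fin 2) F) with hJ
  have hII : I * I = -1 := Q.ii
  have hJJ : J * J = -1 := Q.jj
  have hJI : J * I = -(I * J) := Q.ji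
  obtain ⟨hnI, hnJ⟩ := nonScalar_of_anticomm h2 hII hJJ hJI
  set K := I * J with hK
  have hIK : I * K = -J := by rw [hK, ← mul_assoc, hII, neg_one_mul]
  have hKJ : K * J = -I := by rw [hK, mul_assoc, hJJ, mul_neg_one]
  have hKI : K * I = J := by rw [hK, mul_assoc, hJI, mul_neg, hIK, neg_neg]
  have hJK : J * K = I := by rw [hK, ← mul_assoc, hJI, neg_mul, hKJ, neg_neg]
  have hKK : K * K = -1 := by
    calc K * K = K * (I * J) := by rw [hK]
      _ = J * J := by rw [← mul_assoc, hKI]
      _ = -1 := hJJ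
  set W : Matrix (Fin 2) (Fin 2) F := (2 : F)⁻¹ • (-1 + I + J + K) with hW
  have hh : (2 : F) * 2⁻¹ = 1 := mul_inv_cancel₀ h2
  have hWW : W * W = (-1 : F) • W - (1 : F) • (1 : Matrix (Fin 2) (Fin 2) F) := by
    rw [hW]
    simp only [Matrix.smul_mul, Matrix.mul_smul, mul_add, add_mul, smul_smul, neg_mul, mul_neg, one_mul, mul_one,
      hII, hJJ, hKK, hJI, ← hK, hIK, hKJ, hKI, hJK]
    match_scalars <;> field_simp <;> ring
  have hWI : W * I = K * W := by
    rw [hW]
    simp only [Matrix.smul_mul, Matrix.mul_smul, mul_add, add_mul, neg_mul, mul_neg, one_mul, mul_one,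
      hII, hKK, hJI, hKI, hKJ]
    module
  have hWJ : W * J = I * W := by
    rw [hW]
    simp only [Matrix.smul_mul, Matrix.mul_smul, mul_add, add_mul, neg_mul, mul_neg, one_mul, mul_one,
      hJJ, hII, ← hK, hIK, hKJ]
    module
  have hWn : NonScalar W := by
    intro c hc
    have hIJ : J = I := by
      have := hWJ
      rw [hc] at this
      simp only [Matrix.smul_mul, Matrix.mul_smul, one_mul, mul_one] at this
      by_cases hc0 : c = 0
      · exfalso
        rw [hc, hc0] at hWW
        simp at hWW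
      · exact (smul_right_injective _ hc0) this
    have e : I * I = -(I * I) := by
      calc I * I = J * I := by rw [hIJ]
        _ = -(I * J) := hJI
        _ = -(I * I) := by rw [hIJ]
    rw [hII, neg_neg] at e
    have h00 := congrFun (congrFun e 0) 0
    simp at h00
    exact h2 (by linear_combination -h00)
  obtain ⟨htr, hdet⟩ := trace_det_of_sq_eq hWn hWW
  let w : GL (Fin 2) F := Matrix.GeneralLinearGroup.mkOfDetNeZero W (by rw [hdet]; exact one_ne_zero)
  refine ⟨w, hWn, htr, hdet, ?_⟩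
  have hwi : w * Q.i * w⁻¹ = Q.i * Q.j := by rw [mul_inv_eq_iff_eq_mul]; exact Units.ext hWI
  have hwj : w * Q.j * w⁻¹ = Q.i := by rw [mul_inv_eq_iff_eq_mul]; exact Units.ext hWJ
  haveI : Finite R := inferInstance
  have hle : R.map (MulAut.conj w).toMonoidHom ≤ R := by
    rintro _ ⟨g, hg, rfl⟩
    obtain ⟨k, l, rfl⟩ := Q.gen g hg
    rw [map_mul, map_pow, map_pow]
    show (w * Q.j * w⁻¹) ^ l * (w * Q.i * w⁻¹) ^ k ∈ R
    rw [hwi, hwj]
    exact R.mul_mem (R.pow_mem Q.i_mem _) (R.pow_mem (R.mul_mem Q.i_mem Q.j_mem) _)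
  have heq := Subgroup.eq_of_le_of_card_ge hle
    (Subgroup.card_map_of_injective (MulAut.conj w).injective).ge
  rw [Cfsg.Geo.subgroupNormalizer, Subgroup.mem_normalizer_iff]
  intro g
  have : w * g * w⁻¹ ∈ R.map (MulAut.conj w).toMonoidHom ↔ g ∈ R :=
    Subgroup.mem_map_iff_mem (MulAut.conj w).injective
  rw [heq] at this
  exact this.symm

/-- An element of prime order at least five normalising `R` is scalar. -/
theorem Quat.scalar_of_normalizes (Q : Quat R) (h2 : (2 : F) ≠ 0) (e : ↥R ≃* QuaternionGroup 2) {h : GL (Fin 2) F}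
    (hn : h ∈ Cfsg.Geo.subgroupNormalizer R) {r : ℕ} [Fact r.Prime] (hr5 : 5 ≤ r) (hhr : h ^ r = 1) :
    ∃ c : F, (h : Matrix (Fin 2) (Fin 2) F) = c • (1 : Matrix (Fin 2) (Fin 2) F) := by
  haveI : Finite R := Finite.of_equiv _ e.toEquiv.symm
  have hfix : ∀ u ∈ R, (u : Matrix (Fin 2) (Fin 2) F) * u = -1 → h * u = u * h := by
    intro u hu huu
    by_contra hne
    have hsq : u * u = u⁻¹ * u⁻¹ := by
      apply Units.ext
      have h4 : u * u * (u * u) = 1 := Units.ext (by
        simp only [Units.val_mul, huu, mul_neg, mul_one, neg_neg, Units.val_one])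
      rw [← _root_.mul_inv_rev, inv_eq_of_mul_eq_one_right h4]
    have hmem : ∀ k : ℕ, h ^ k * u * (h ^ k)⁻¹ ∈ R := fun k =>
      ((Subgroup.mem_normalizer_iff.mp ((Cfsg.Geo.subgroupNormalizer R).pow_mem hn k)) u).mp hu
    -- the conjugates of `u` and of `u⁻¹` are `2 r` distinct elements
    have hper : ∀ k : ℕ, h ^ k * u * (h ^ k)⁻¹ = u → r ∣ k := by
      intro k hk
      by_contra hndvd
      have hcop : Nat.Coprime r k := ((Fact.out : r.Prime).coprime_iff_not_dvd).mpr hndvd
      have hc : Commute (h ^ k) u := mul_inv_eq_iff_eq_mul.mp hk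
      obtain ⟨m, hm⟩ := Nat.exists_mul_mod_eq_one_of_coprime hcop.symm (by omega)
      have hh : h = (h ^ k) ^ m := by
        rw [← pow_mul, ← Nat.mod_add_div (k * m) r, pow_add, pow_mul, hhr, one_pow, mul_one, hm.2, pow_one]
      exact hne (by rw [hh]; exact hc.pow_left m)
    have hanti : ∀ k : ℕ, h ^ k * u * (h ^ k)⁻¹ ≠ u⁻¹ := by
      intro k hk
      have h2k : h ^ (2 * k) * u * (h ^ (2 * k))⁻¹ = u := by
        rw [two_mul, pow_add]
        calc h ^ k * h ^ k * u * (h ^ k * h ^ k)⁻¹ = h ^ k * (h ^ k * u * (h ^ k)⁻¹) * (h ^ k)⁻¹ := by group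
          _ = h ^ k * u⁻¹ * (h ^ k)⁻¹ := by rw [hk]
          _ = (h ^ k * u * (h ^ k)⁻¹)⁻¹ := by group
          _ = u := by rw [hk, inv_inv]
      have hdvd := hper _ h2k
      have hk' : r ∣ k := ((Fact.out : r.Prime).dvd_mul.mp hdvd).resolve_left (fun h => by
        have := Nat.le_of_dvd (by norm_num) h; omega)
      obtain ⟨m, rfl⟩ := hk'
      rw [pow_mul, hhr, one_pow, one_mul, inv_one, mul_one] at hk
      have h1 : u * u = 1 := by
        calc u * u = u * u⁻¹ := by rw [← hk]
          _ = 1 := mul_inv_cancel u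
      have h2' : (u : Matrix (Fin 2) (Fin 2) F) * u = 1 := by rw [← Units.val_mul, h1, Units.val_one]
      rw [huu] at h2'
      have h00 := congrFun (congrFun h2' 0) 0
      simp at h00
      exact h2 (by linear_combination -h00)
    let f : Fin r × Bool → R := fun x => if x.2 then ⟨h ^ x.1.val * u * (h ^ x.1.val)⁻¹, hmem _⟩
      else ⟨h ^ x.1.val * u * (h ^ x.1.val)⁻¹, hmem _⟩⁻¹
    have hf : Function.Injective f := by
      have key : ∀ a b : Fin r, (h ^ a.val * u * (h ^ a.val)⁻¹ = h ^ b.val * u * (h ^ b.val)⁻¹ → a = b) ∧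
          h ^ a.val * u * (h ^ a.val)⁻¹ ≠ (h ^ b.val * u * (h ^ b.val)⁻¹)⁻¹ := by
        intro a b
        set m := a.val + (r - b.val) with hm
        have hb : (h ^ b.val)⁻¹ = h ^ (r - b.val) := inv_eq_of_mul_eq_one_right (by
          rw [← pow_add, Nat.add_sub_cancel' (le_of_lt b.2), hhr])
        have heq : h ^ m * u * (h ^ m)⁻¹ = (h ^ b.val)⁻¹ * (h ^ a.val * u * (h ^ a.val)⁻¹) * h ^ b.val := by
          rw [hm, Nat.add_comm, pow_add, ← hb]; group
        refine ⟨fun e => ?_, fun e => hanti m ?_⟩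
        · have := hper m (by rw [heq, e]; group)
          have h1 : m = r := by
            obtain ⟨c, hc⟩ := this
            have : m < 2 * r := by omega
            have : 0 < m := by omega
            have : c < 2 := by
              by_contra hc2
              have : r * 2 ≤ r * c := Nat.mul_le_mul_left r (not_lt.mp hc2)
              omega
            interval_cases c <;> omega
          exact Fin.ext (by omega)
        · rw [heq, e]; group
      rintro ⟨a, _ | _⟩ ⟨b, _ | _⟩ hab <;> simp only [f, if_true, Bool.false_eq_true, if_false] at hab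
      · have := congrArg Subtype.val (inv_injective hab)
        exact Prod.ext ((key a b).1 this) rfl
      · exact absurd (congrArg Subtype.val hab).symm (key b a).2
      · exact absurd (congrArg Subtype.val hab) (key a b).2
      · exact Prod.ext ((key a b).1 (congrArg Subtype.val hab)) rfl
    have := Nat.card_le_card_of_injective f hf
    rw [Nat.card_congr e.toEquiv, Nat.card_prod, Nat.card_fin] at this
    simp [Nat.card_eq_fintype_card, QuaternionGroup.card] at this
    omega
  have hi := congrArg Units.val (hfix _ Q.i_mem Q.ii)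
  have hj := congrArg Units.val (hfix _ Q.j_mem Q.jj)
  rw [Units.val_mul, Units.val_mul] at hi hj
  obtain ⟨hnI, hnJ⟩ := nonScalar_of_anticomm h2 Q.ii Q.jj Q.ji
  obtain ⟨a, b, hab⟩ := exists_eq_of_commute hnI hi
  refine ⟨a, ?_⟩
  have hb : b = 0 := by
    rw [hab] at hj
    simp only [add_mul, mul_add, Matrix.smul_mul, Matrix.mul_smul, one_mul, mul_one, Q.ji] at hj
    by_contra hb
    have e2 : b • ((Q.i : Matrix (Fin 2) (Fin 2) F) * Q.j) = b • -((Q.i : Matrix (Fin 2) (Fin 2) F) * Q.j) :=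
      add_left_cancel hj
    have e3 := smul_right_injective _ hb e2
    have e4 : (2 : F) • ((Q.i : Matrix (Fin 2) (Fin 2) F) * Q.j) = 0 := by
      rw [two_smul]; exact add_eq_zero_iff_eq_neg.mpr e3
    have e5 := (smul_eq_zero.mp e4).resolve_left h2
    rw [← Units.val_mul] at e5
    exact Units.ne_zero _ e5
  rw [hab, hb, zero_smul, add_zero]

end

/-- Elements of prime order of PSL_2(p) and the normalizer of a quaternion subgroup. Here `T = PSL_2(F)` for the field `F` with `p` elements, `p ≥ 5` prime; `R` is a subgroup of GL_2(F) isomorphic to the quaternion group of order 8 (an absolutely irreducible 2-group of symplectic type), and `H` is the subgroup of matrices of determinant 1 normalizing `R` — a subgroup of type 2^{1+2}.O₂⁻(2), isomorphic modulo scalars to A₄ or S₄ (maximality is not assumed). Ω is the set of cosets of `H` in `T`, so an element of `T` of prime order `r` (a matrix `x` of determinant 1 with `x^r` scalar, `x` not scalar) fixes a point of Ω exactly when some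 conjugate of `x` by a matrix of determinant 1 normalizes `R`. Let `r` be a prime dividing the index of `H`. Then every element of `T` of order `r` fixes a point of Ω if and only if `r = 2` or `r = 3`. -/
theorem result {F : Type*} [Field F] [Fintype F] {p : ℕ} [Fact p.Prime] [CharP F p] (hF : Fintype.card F = p) (hp : 5 ≤ p)
    (R : Subgroup (GL (Fin 2) F)) (hR : Nonempty (↥R ≃* QuaternionGroup 2))
    (r : ℕ) [Fact r.Prime]
    (hΩ : r ∣ (Cfsg.Geo.subgroupNormalizer R).relIndex (Cfsg.Geo.specialLinear (Fin 2) F)) :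
    (∀ x ∈ Cfsg.Geo.specialLinear (Fin 2) F, (∃ z : F, ((x ^ r : GL (Fin 2) F) : Matrix (Fin 2) (Fin 2) F) = z • (1 : Matrix (Fin 2) (Fin 2) F)) →
      (∀ z : F, (x : Matrix (Fin 2) (Fin 2) F) ≠ z • (1 : Matrix (Fin 2) (Fin 2) F)) →
      ∃ g ∈ Cfsg.Geo.specialLinear (Fin 2) F, g⁻¹ * x * g ∈ Cfsg.Geo.subgroupNormalizer R) ↔ (r = 2 ∨ r = 3) := by
  have h2 : (2 : F) ≠ 0 := by
    intro h
    have : ((2 : ℕ) : F) = 0 := by exact_mod_cast h
    have := Nat.le_of_dvd (by norm_num) ((CharP.cast_eq_zero_iff F p 2).mp this)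
    omega
  have h3 : (3 : F) ≠ 0 := by
    intro h
    have : ((3 : ℕ) : F) = 0 := by exact_mod_cast h
    have := Nat.le_of_dvd (by norm_num) ((CharP.cast_eq_zero_iff F p 3).mp this)
    omega
  obtain ⟨Q⟩ := exists_quat h2 hR
  obtain ⟨e⟩ := hR
  have hsl : ∀ x : GL (Fin 2) F, x ∈ Cfsg.Geo.specialLinear (Fin 2) F ↔ (x : Matrix (Fin 2) (Fin 2) F).det = 1 :=
    fun x => by
      rw [Cfsg.Geo.specialLinear, MonoidHom.mem_ker, Units.ext_iff]
      rfl
  constructor
  · intro H
    by_contra hne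
    push Not at hne
    have hr5 : 5 ≤ r := by
      have h2' := (Fact.out : r.Prime).two_le
      by_contra h5
      interval_cases r
      · exact hne.1 rfl
      · exact hne.2 rfl
      · exact absurd (Fact.out : Nat.Prime 4) (by norm_num)
    have hdvd : r ∣ Nat.card (Cfsg.Geo.specialLinear (Fin 2) F) := hΩ.trans (Subgroup.index_dvd_card _)
    obtain ⟨x, hx⟩ := exists_prime_orderOf_dvd_card' r hdvd
    have hxr : (x : GL (Fin 2) F) ^ r = 1 := by
      rw [← SubmonoidClass.coe_pow, ← hx, pow_orderOf_eq_one]; rfl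
    have hxns : ∀ c : F, ((x : GL (Fin 2) F) : Matrix (Fin 2) (Fin 2) F) ≠ c • (1 : Matrix (Fin 2) (Fin 2) F) := by
      intro c hc
      have hd := (hsl _).mp x.2
      rw [hc] at hd
      rw [Matrix.det_smul, Matrix.det_one, mul_one, Fintype.card_fin, pow_two] at hd
      have hx2 : x ^ 2 = 1 := Subtype.ext (Units.ext (by
        simp [pow_two, hc, smul_smul]
        rw [hd, one_smul]))
      have := Nat.le_of_dvd (by norm_num) (orderOf_dvd_of_pow_eq_one hx2)
      omega
    obtain ⟨g, hg, hgn⟩ := H x x.2 ⟨1, by rw [hxr, one_smul]; rfl⟩ hxns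
    obtain ⟨c, hc⟩ := Q.scalar_of_normalizes h2 e hgn hr5 (by
      have : (g⁻¹ * (x : GL (Fin 2) F) * (g⁻¹)⁻¹) ^ r = g⁻¹ * (x : GL (Fin 2) F) ^ r * (g⁻¹)⁻¹ := conj_pow
      simpa [hxr] using this)
    refine hxns c ?_
    have hx' : (x : GL (Fin 2) F) = g * (g⁻¹ * (x : GL (Fin 2) F) * g) * g⁻¹ := by group
    rw [hx', Units.val_mul, Units.val_mul _ (g⁻¹ * (x : GL (Fin 2) F) * g), hc, mul_smul_comm, mul_one, smul_mul_assoc,
      ← Units.val_mul, mul_inv_cancel, Units.val_one]
  · intro hr x hx hxr hxns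
    set X := (x : Matrix (Fin 2) (Fin 2) F) with hX
    have hdX : X.det = 1 := (hsl x).mp hx
    have hn : NonScalar X := hxns
    obtain ⟨z, hz⟩ := hxr
    rw [Units.val_pow_eq_pow_val] at hz
    have hch := two_sq_eq X
    rw [hdX, one_smul] at hch
    -- conjugation by an element of `SL₂` into the normaliser
    have finish : ∀ Y : GL (Fin 2) F, Y ∈ Cfsg.Geo.subgroupNormalizer R →
        NonScalar (Y : Matrix (Fin 2) (Fin 2) F) → (Y : Matrix (Fin 2) (Fin 2) F).det = 1 →
        ∀ x' : GL (Fin 2) F, NonScalar (x' : Matrix (Fin 2) (Fin 2) F) → (x' : Matrix (Fin 2) (Fin 2) F).det = 1 →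
        (x' : Matrix (Fin 2) (Fin 2) F).trace = (Y : Matrix (Fin 2) (Fin 2) F).trace →
        (x' : Matrix (Fin 2) (Fin 2) F).trace ^ 2 ≠ 4 →
        ∃ g ∈ Cfsg.Geo.specialLinear (Fin 2) F, g⁻¹ * x' * g ∈ Cfsg.Geo.subgroupNormalizer R := by
      intro Y hY hYn hYd x' hx'n hx'd htr ht
      obtain ⟨g, hg, hgY⟩ := exists_conj_of_trace h2 hx'n hYn hx'd hYd htr ht
      refine ⟨g, hg, ?_⟩
      have he : x' * g = g * Y := Units.ext (by rw [Units.val_mul, Units.val_mul]; exact hgY)
      rwa [mul_assoc, he, inv_mul_cancel_left]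
    rcases hr with rfl | rfl
    · rw [pow_two, hch] at hz
      have := coeff_zero_of_nonScalar hn (a := -1 - z) (b := X.trace) (by
        linear_combination (norm := module) hz)
      obtain ⟨hnI, htI, hdI⟩ := Q.trace_det h2
      refine finish Q.i (Subgroup.le_normalizer Q.i_mem) hnI hdI x hn hdX (by rw [this.2, htI]) ?_
      rw [this.2]
      intro h
      have h4 : (2 : F) * 2 = 0 := by linear_combination -h
      exact h2 ((mul_self_eq_zero).mp h4)
    · rw [pow_succ, pow_two, hch, sub_mul, smul_mul_assoc, hch, one_mul] at hz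
      have := coeff_zero_of_nonScalar hn (a := -X.trace - z) (b := X.trace ^ 2 - 1) (by
        linear_combination (norm := module) hz)
      obtain ⟨w, hwn, hwt, hwd, hwN⟩ := Q.exists_three h2
      have ht1 : X.trace ^ 2 = 1 := sub_eq_zero.mp this.2
      have hne4 : X.trace ^ 2 ≠ 4 := by
        rw [ht1]; intro h; exact h3 (by linear_combination -h)
      rcases sq_eq_one_iff.mp ht1 with ht | ht
      · have hneg : ((-w : GL (Fin 2) F) : Matrix (Fin 2) (Fin 2) F) = -(w : Matrix (Fin 2) (Fin 2) F) := rfl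
        refine finish (-w) ?_ ?_ ?_ x hn hdX ?_ hne4
        · have : (-1 : GL (Fin 2) F) ∈ Cfsg.Geo.subgroupNormalizer R := by
            rw [Cfsg.Geo.subgroupNormalizer, Subgroup.mem_normalizer_iff]; intro h; simp
          simpa using (Cfsg.Geo.subgroupNormalizer R).mul_mem this hwN
        · intro c hc
          rw [hneg] at hc
          exact hwn (-c) (by rw [neg_smul, ← hc, neg_neg])
        · rw [hneg, Matrix.det_neg, hwd]; simp
        · rw [hneg, Matrix.trace_neg, hwt, ht, neg_neg]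
      · exact finish w hwN hwn hwd x hn hdX (by rw [hwt]; exact ht) hne4

end Cfsg.Agent.S5997
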