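import Cfsg.Statements.S5998
import Cfsg.Agent.LinearElements.Heisenberg
import Cfsg.Agent.SL3Pres.Concrete

set_option autoImplicit false
open scoped MatrixGroups
open Cfsg

open CfsgLib.LinearElements.Heisenberg
open Module (Basis finrank)

namespace Cfsg.Agent.S5998

variable {F : Type*} [Field F]

/-- An eigenbasis from a spanning set of eigenvectors. -/
theorem exists_eigenbasis (g : Module.End F (Fin 3 → F)) (S : Set F)
    (h : ∀ v, v ∈ Submodule.span F {w | ∃ μ ∈ S, g w = μ • w}) :
    ∃ (B : Basis (Fin 3) F (Fin 3 → F)) (l : Fin 3 → F), (∀ i, l i ∈ S) ∧ ∀ i, g (B i) = l i • B i := by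
  obtain ⟨s, hs, hspan, hli⟩ := exists_linearIndependent F {w : Fin 3 → F | ∃ μ ∈ S, g w = μ • w}
  rw [show Submodule.span F {w : Fin 3 → F | ∃ μ ∈ S, g w = μ • w} = ⊤ from eq_top_iff.mpr fun v _ => h v] at hspan
  let B₀ : Basis s F (Fin 3 → F) := Basis.mk hli (by rw [Subtype.range_coe, hspan])
  haveI : Fintype s := FiniteDimensional.fintypeBasisIndex B₀
  have hc : Fintype.card s = 3 := by rw [← Module.finrank_eq_card_basis B₀, Module.finrank_fin_fun]
  let B := B₀.reindex (Fintype.equivFinOfCardEq hc)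
  have hm : ∀ i, ∃ μ ∈ S, g (B i) = μ • B i := fun i => by
    have := hs ((Fintype.equivFinOfCardEq hc).symm i).2
    simpa [B, B₀] using this
  choose l hl hl' using hm
  exact ⟨B, l, hl, hl'⟩

theorem scalar_of_eigen {x : GL (Fin 3) F} (B : Basis (Fin 3) F (Fin 3 → F)) {l : Fin 3 → F}
    (h : ∀ i, Matrix.toLin' (x : Matrix (Fin 3) (Fin 3) F) (B i) = l i • B i) {c : F} (hl : ∀ i, l i = c) :
    (x : Matrix (Fin 3) (Fin 3) F) = c • 1 :=
  Matrix.toLin'.injective (B.ext fun i => by rw [h, hl]; simp)

theorem prod_eigen {x : GL (Fin 3) F} (B : Basis (Fin 3) F (Fin 3 → F)) {l : Fin 3 → F}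
    (h : ∀ i, Matrix.toLin' (x : Matrix (Fin 3) (Fin 3) F) (B i) = l i • B i) :
    (x : Matrix (Fin 3) (Fin 3) F).det = l 0 * l 1 * l 2 := by
  rw [← LinearMap.det_toLin', ← LinearMap.det_toMatrix B,
    show LinearMap.toMatrix B B (Matrix.toLin' (x : Matrix (Fin 3) (Fin 3) F)) = Matrix.diagonal l from ?_,
    Matrix.det_diagonal, Fin.prod_univ_three]
  ext i j
  rw [LinearMap.toMatrix_apply, h, map_smul, B.repr_self, Finsupp.smul_single, smul_eq_mul, mul_one,
    Finsupp.single_apply, Matrix.diagonal_apply]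
  rcases eq_or_ne i j with rfl | hij
  · simp
  · simp [hij, Ne.symm hij]

theorem pattern_three : ∀ k : Fin 3 → Fin 3, (∀ i j, k i = k j) ∨ (∃ π : Equiv.Perm (Fin 3), ∀ i, k (π i) = i) ∨
    ∃ π : Equiv.Perm (Fin 3), k (π 0) = k (π 1) ∧ k (π 2) ≠ k (π 0) := by
  decide

/-- Conjugation in `SL` to an element that is given in a frame by a diagonal matrix. -/
theorem conj_of_target {R : Subgroup (GL (Fin 3) F)} {x y δ : GL (Fin 3) F} (Bx : Basis (Fin 3) F (Fin 3 → F))
    {l d : Fin 3 → F} (hx : ∀ i, Matrix.toLin' (x : Matrix (Fin 3) (Fin 3) F) (Bx i) = l i • Bx i)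
    (π : Equiv.Perm (Fin 3)) (hπ : ∀ i, l (π i) = d i)
    (hy : (y : Matrix (Fin 3) (Fin 3) F) * (δ : Matrix (Fin 3) (Fin 3) F) = (δ : Matrix (Fin 3) (Fin 3) F) * Matrix.diagonal d)
    (hN : y ∈ Subgroup.normalizer (R : Set (GL (Fin 3) F))) :
    ∃ g ∈ Cfsg.Geo.specialLinear (Fin 3) F, g⁻¹ * x * g ∈ Cfsg.Geo.subgroupNormalizer R := by
  obtain ⟨By, hBy⟩ := exists_eigenbasis_of_frame hy
  obtain ⟨g, hg, e⟩ := exists_sl_conj (x := x) (y := y) (Bx.reindex π.symm) By d (fun i => by
    rw [Basis.reindex_apply, Equiv.symm_symm, hx, hπ]) hBy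
  exact ⟨g, hg, by rw [e]; exact hN⟩

theorem three_ne_zero_of_card [Fintype F] {p : ℕ} [Fact p.Prime] [CharP F p] (hp3 : p % 3 = 1) : (3 : F) ≠ 0 :=
  fun h => by
    have : p ∣ 3 := (CharP.cast_eq_zero_iff F p 3).mp (by exact_mod_cast h)
    have := (Nat.prime_dvd_prime_iff_eq Fact.out Nat.prime_three).mp this
    omega


/-- Elements of prime order of PSL_3(p), p ≡ 1 (mod 3), and the normalizer of an extraspecial subgroup of order 27. Here `T = PSL_3(F)` for the field `F` with `p` elements, `p` a prime with `p ≡ 1 (mod 3)`; `R` is a non-abelian subgroup of GL_3(F) of order 27 and exponent 3 (an extraspecial group 3^{1+2}, acting absolutely irreducibly), and `H` is the subgroup of matrices of determinant 1 normalizing `R` — a subgroup of type 3^{1+2}.Sp₂(3) (maximality is not assumed). Ω is the set of cosets of `H` in `T`, so an element of `T` of prime order `r` (a matrix `x` of determinant 1 with `x^r` scalar, `x` not scalar) fixes a point of Ω exactly when some conjugate of `x` by a matrix of determinant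 1 normalizes `R`. Let `r` be a prime dividing the index of `H`. Then every element of `T` of order `r` fixes a point of Ω if and only if `r = 2`, or `r = 3` and `p ≡ 1 (mod 9)`. -/
theorem result {F : Type*} [Field F] [Fintype F] {p : ℕ} [Fact p.Prime] [CharP F p] (hF : Fintype.card F = p) (hp3 : p % 3 = 1)
    (R : Subgroup (GL (Fin 3) F)) (hR : Nat.card R = 27) (hRe : Monoid.exponent R = 3) (hRna : ¬ IsMulCommutative R)
    (r : ℕ) [Fact r.Prime]
    (hΩ : r ∣ (Cfsg.Geo.subgroupNormalizer R).relIndex (Cfsg.Geo.specialLinear (Fin 3) F)) :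
    (∀ x ∈ Cfsg.Geo.specialLinear (Fin 3) F, (∃ z : F, ((x ^ r : GL (Fin 3) F) : Matrix (Fin 3) (Fin 3) F) = z • (1 : Matrix (Fin 3) (Fin 3) F)) →
      (∀ z : F, (x : Matrix (Fin 3) (Fin 3) F) ≠ z • (1 : Matrix (Fin 3) (Fin 3) F)) →
      ∃ g ∈ Cfsg.Geo.specialLinear (Fin 3) F, g⁻¹ * x * g ∈ Cfsg.Geo.subgroupNormalizer R) ↔ (r = 2 ∨ (r = 3 ∧ p % 9 = 1)) := by
  classical
  haveI : Fact (Nat.Prime 3) := ⟨Nat.prime_three⟩
  have hp := (Fact.out : p.Prime)
  have h3 : (3 : F) ≠ 0 := three_ne_zero_of_card hp3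
  have hp5 : 5 ≤ p := by
    have := hp.two_le
    rcases (show p = 4 ∨ 5 ≤ p by omega) with rfl | h
    · norm_num at hp
    · exact h
  obtain ⟨u, hu⟩ := exists_prime_orderOf_dvd_card (G := Fˣ) 3 (by rw [Fintype.card_units, hF]; omega)
  have hω : IsPrimitiveRoot (u : F) 3 := by
    have : orderOf (u : F) = 3 := by rw [orderOf_units, hu]
    exact this ▸ IsPrimitiveRoot.orderOf _
  haveI : Finite R := Nat.finite_of_card_ne_zero (by omega)
  obtain ⟨γ, a, b, η, haR, hbR, hcl, hη, ha, hb, c, hcR, hc⟩ := exists_standard h3 hω R hR hRe hRna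
  have hη3 : η ^ 3 = 1 := hη.pow_eq_one
  have hdetg : ∀ g ∈ Cfsg.Geo.specialLinear (Fin 3) F, (g : Matrix (Fin 3) (Fin 3) F).det = 1 := fun g hg =>
    congrArg Units.val (MonoidHom.mem_ker.mp hg)
  -- order bookkeeping
  have hcard : (Cfsg.Geo.subgroupNormalizer R).relIndex (Cfsg.Geo.specialLinear (Fin 3) F) *
      Nat.card ((Cfsg.Geo.subgroupNormalizer R).subgroupOf (Cfsg.Geo.specialLinear (Fin 3) F)) =
      p ^ 3 * ((p ^ 2 - 1) * (p ^ 3 - 1)) := by
    rw [Subgroup.relIndex, Subgroup.index_mul_card, Cfsg.Geo.specialLinear,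
      ← Nat.card_congr (CfsgLib.Linear.slEquivDetKer (n := Fin 3) (F := F)).toEquiv, CfsgLib.SL3Pres.card_SL_three, hF]
  constructor
  · intro h
    by_contra hno
    rw [not_or] at hno
    obtain ⟨hr2, hr39⟩ := hno
    by_cases hr3 : r = 3
    · subst hr3
      have hp9 : p % 9 ≠ 1 := fun e => hr39 ⟨rfl, e⟩
      -- `R` lies in the special linear group, so 3 does not divide the index
      have hsub : R ≤ Cfsg.Geo.specialLinear (Fin 3) F := by
        rw [← hcl, Subgroup.closure_le]
        have hdet : ∀ (s : GL (Fin 3) F) (S : Matrix (Fin 3) (Fin 3) F),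
            (s : Matrix (Fin 3) (Fin 3) F) * (γ : Matrix (Fin 3) (Fin 3) F) = (γ : Matrix (Fin 3) (Fin 3) F) * S →
            S.det = 1 → s ∈ Cfsg.Geo.specialLinear (Fin 3) F := by
          intro s S hs hS
          have := congrArg Matrix.det hs
          rw [Matrix.det_mul, Matrix.det_mul, hS, mul_one] at this
          refine MonoidHom.mem_ker.mpr (Units.ext ?_)
          exact (mul_eq_right₀ ((Matrix.isUnit_iff_isUnit_det _).mp (Units.isUnit γ)).ne_zero).mp this
        rintro s (rfl | rfl)
        · refine hdet s _ ha ?_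
          simp [dMat, Fin.prod_univ_three, ← pow_succ', hη3]
        · refine hdet s _ hb ?_
          simp [tMat, Matrix.det_fin_three]
      have h27 : 27 ∣ Nat.card ((Cfsg.Geo.subgroupNormalizer R).subgroupOf (Cfsg.Geo.specialLinear (Fin 3) F)) := by
        rw [← hR, ← Nat.card_congr (Subgroup.subgroupOfEquivOfLe hsub).toEquiv]
        exact Subgroup.card_dvd_of_le (Subgroup.comap_mono (Subgroup.le_normalizer (H := R)))
      have h81 : 81 ∣ p ^ 3 * ((p ^ 2 - 1) * (p ^ 3 - 1)) := hcard ▸ Nat.mul_dvd_mul hΩ h27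
      have hp1 : 1 ≤ p ^ 2 := Nat.one_le_pow _ _ hp.pos
      have hp2 : 1 ≤ p ^ 3 := Nat.one_le_pow _ _ hp.pos
      rw [← ZMod.natCast_eq_zero_iff] at h81
      push_cast [Nat.cast_sub hp1, Nat.cast_sub hp2] at h81
      have key : ∀ a : ZMod 81, a.val % 3 = 1 → a.val % 9 ≠ 1 → a ^ 3 * ((a ^ 2 - 1) * (a ^ 3 - 1)) ≠ 0 := by decide +kernel
      exact key (p : ZMod 81) (by rw [ZMod.val_natCast]; omega) (by rw [ZMod.val_natCast]; omega) h81
    · have hr5 : 5 ≤ r := by
        have := (Fact.out : r.Prime).two_le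
        rcases (show r = 4 ∨ 5 ≤ r by omega) with rfl | h
        · exact absurd (Fact.out : Nat.Prime 4) (by norm_num)
        · exact h
      have hrdvd : r ∣ Nat.card (Cfsg.Geo.specialLinear (Fin 3) F) :=
        hΩ.trans (Subgroup.relIndex_dvd_card _ _)
      obtain ⟨⟨x, hx⟩, hxo⟩ := exists_prime_orderOf_dvd_card' r hrdvd
      rw [Subgroup.orderOf_mk] at hxo
      have hxr : x ^ r = 1 := hxo ▸ pow_orderOf_eq_one x
      have hns : ∀ z : F, (x : Matrix (Fin 3) (Fin 3) F) ≠ z • 1 := by
        intro z hz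
        have hz3 : z ^ 3 = 1 := by
          have := hdetg x hx
          rwa [hz, Matrix.det_smul, Matrix.det_one, mul_one, Fintype.card_fin] at this
        have hzr : z ^ r = 1 := by
          have := congrArg (fun g : GL (Fin 3) F => (g : Matrix (Fin 3) (Fin 3) F) 0 0) hxr
          simpa [hz, smul_pow, Matrix.smul_apply] using this
        have hz1 : z = 1 := by
          have := Nat.dvd_gcd (orderOf_dvd_of_pow_eq_one hz3) (orderOf_dvd_of_pow_eq_one hzr)
          rw [(Nat.coprime_primes Nat.prime_three Fact.out).mpr (Ne.symm hr3), Nat.dvd_one, orderOf_eq_one_iff] at this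
          exact this
        have : x = 1 := Units.ext (by rw [hz, hz1, one_smul, Units.val_one])
        rw [this, orderOf_one] at hxo
        omega
      obtain ⟨g, hg, hN⟩ := h x hx ⟨1, by rw [hxr, Units.val_one, one_smul]⟩ hns
      set y := g⁻¹ * x * g with hy
      have hyr : y ^ r = 1 := by
        rw [hy, show g⁻¹ * x * g = g⁻¹ * x * (g⁻¹)⁻¹ by rw [inv_inv], conj_pow, hxr, mul_one, mul_inv_cancel]
      -- conjugation by `y` fixes `R` pointwise
      let φ : R → R := fun s => ⟨y * s * y⁻¹, (Subgroup.mem_normalizer_iff.mp hN _).mp s.2⟩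
      have hφ : ∀ (k : ℕ) (s : R), ((φ^[k] s : R) : GL (Fin 3) F) = y ^ k * s * (y ^ k)⁻¹ := by
        intro k
        induction k with
        | zero => intro s; simp
        | succ k ih =>
          intro s
          rw [Function.iterate_succ_apply', show ((φ (φ^[k] s) : R) : GL (Fin 3) F) = y * (φ^[k] s : R) * y⁻¹ from rfl,
            ih, pow_succ']
          group
      haveI := Fintype.ofFinite R
      have hφr : (show Function.End R from φ) ^ r ^ 1 = 1 := by
        funext s
        refine Subtype.ext ?_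
        rw [pow_one, hom_coe_pow (fun g : Function.End R => (g : R → R)) rfl (fun _ _ => rfl)]
        rw [show ((φ^[r]) s : GL (Fin 3) F) = y ^ r * s * (y ^ r)⁻¹ from hφ r s, hyr]
        simp
        rfl
      have hmod := Equiv.Perm.card_fixedPoints_modEq hφr
      let C : Subgroup R := (Subgroup.centralizer ({y} : Set (GL (Fin 3) F))).subgroupOf R
      have hC : ∀ s : R, s ∈ C ↔ φ s = s := fun s => by
        simp only [C, Subgroup.mem_subgroupOf, Subgroup.mem_centralizer_singleton_iff, Subtype.ext_iff, φ,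
          mul_inv_eq_iff_eq_mul]
        exact eq_comm
      have hcardC : Fintype.card (Function.fixedPoints φ) = Nat.card C := by
        rw [← Nat.card_eq_fintype_card]
        exact Nat.card_congr (Equiv.subtypeEquivRight fun s => (hC s).symm)
      rw [← Nat.card_eq_fintype_card (α := R), hR, show Fintype.card (Function.fixedPoints (show Function.End R from φ))
        = Nat.card C from (Fintype.card_congr (Equiv.refl _)).trans hcardC] at hmod
      have hCd : Nat.card C ∈ Nat.divisors 27 := by
        rw [Nat.mem_divisors, ← hR]; exact ⟨Subgroup.card_subgroup_dvd_card C, by omega⟩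
      have hC1 : 1 < Nat.card C := by
        refine Finite.one_lt_card_iff_nontrivial.mpr ((Subgroup.nontrivial_iff_ne_bot C).mpr fun e => ?_)
        have hm : (⟨c, hcR⟩ : R) ∈ C := (hC _).mpr (Subtype.ext (by
          show y * c * y⁻¹ = c
          rw [mul_inv_eq_iff_eq_mul]
          exact Units.ext (by simp [hc])))
        rw [e, Subgroup.mem_bot] at hm
        have := congrArg (fun s : R => ((s : GL (Fin 3) F) : Matrix (Fin 3) (Fin 3) F) 0 0) hm
        simp [hc] at this
        exact hη.ne_one (by norm_num) this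
      have hCtop : C = ⊤ := by
        refine Subgroup.eq_top_of_card_eq C ?_
        rw [show Nat.divisors 27 = {1, 3, 9, 27} by decide] at hCd
        simp only [Finset.mem_insert, Finset.mem_singleton] at hCd
        have hd := (Nat.modEq_iff_dvd' (show Nat.card C ≤ 27 by omega)).mp hmod.symm
        rcases hCd with e | e | e | e <;> rw [e] at hd hC1 ⊢
        · omega
        · have := Nat.le_of_dvd (by norm_num) hd
          have hr' := (Fact.out : r.Prime)
          interval_cases r <;> first | omega | norm_num at hr'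
        · have := Nat.le_of_dvd (by norm_num) hd
          have hr' := (Fact.out : r.Prime)
          interval_cases r <;> first | omega | norm_num at hr'
        · exact hR.symm
      have hcom : ∀ s ∈ R, y * s = s * y := fun s hs => by
        have := congrArg Subtype.val ((hC ⟨s, hs⟩).mp (by rw [hCtop]; trivial))
        exact mul_inv_eq_iff_eq_mul.mp this
      obtain ⟨z, hz⟩ := scalar_of_commute_frame hη ha hb (hcom a haR) (hcom b hbR)
      refine hns z ?_
      have : x = g * y * g⁻¹ := by rw [hy]; group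
      rw [this, Units.val_mul, Units.val_mul, hz, Matrix.mul_smul, Matrix.mul_one, Matrix.smul_mul, Units.mul_inv]
  · intro hr x hx ⟨z, hz⟩ hns
    rw [Units.val_pow_eq_pow_val] at hz
    have hz3 : z ^ 3 = 1 := by
      have := congrArg Matrix.det hz
      rwa [Matrix.det_pow, hdetg x hx, one_pow, Matrix.det_smul, Matrix.det_one, mul_one, Fintype.card_fin, eq_comm] at this
    have hz0 : z ≠ 0 := fun e => by simp [e] at hz3
    set g : Module.End F (Fin 3 → F) := Matrix.toLin' (x : Matrix (Fin 3) (Fin 3) F) with hg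
    rcases hr with rfl | ⟨rfl, hp9⟩
    · -- involutions
      have h2 : (2 : F) ≠ 0 := fun h => by
        have := (CharP.cast_eq_zero_iff F p 2).mp (by exact_mod_cast h)
        have := Nat.le_of_dvd (by norm_num) this
        omega
      set μ := z ^ 2 with hμ
      have hμ0 : μ ≠ 0 := pow_ne_zero _ hz0
      have hμ2 : μ * μ = z := by rw [hμ]; linear_combination z * hz3
      have hμ3 : μ ^ 3 = 1 := by rw [hμ, ← pow_mul, mul_comm, pow_mul, hz3, one_pow]
      have hgg : ∀ v, g (g v) = z • v := fun v => by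
        rw [hg, ← LinearMap.comp_apply, ← Matrix.toLin'_mul, ← sq, hz, map_smul, Matrix.toLin'_one]; rfl
      obtain ⟨B, l, hl, hB⟩ := exists_eigenbasis g {μ, -μ} fun v => by
        rw [show v = (2 * μ)⁻¹ • ((μ • v + g v) + (μ • v - g v)) by
          rw [show μ • v + g v + (μ • v - g v) = (2 * μ) • v by module, smul_smul,
            inv_mul_cancel₀ (mul_ne_zero h2 hμ0), one_smul]]
        refine Submodule.smul_mem _ _ (Submodule.add_mem _ (Submodule.subset_span ⟨μ, by simp, ?_⟩)
          (Submodule.subset_span ⟨-μ, by simp, ?_⟩))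
        · rw [map_add, map_smul, hgg, ← hμ2]; module
        · rw [map_sub, map_smul, hgg, ← hμ2]; module
      have hprod := (prod_eigen B hB).symm.trans (hdetg x hx)
      obtain ⟨π, hπ⟩ : ∃ π : Equiv.Perm (Fin 3), ∀ i, l (π i) = ![-μ, -μ, μ] i := by
        have hbad : ∀ e : F, e = -1 → e ≠ 1 := fun e he h => h2 (by linear_combination he.symm.trans h |>.symm)
        simp only [Set.mem_insert_iff, Set.mem_singleton_iff] at hl
        rcases hl 0 with h0 | h0 <;> rcases hl 1 with h1 | h1 <;> rcases hl 2 with h2' | h2'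
        · exact absurd (scalar_of_eigen B hB (c := μ) fun i => by fin_cases i <;> assumption) (hns μ)
        · exact absurd hprod (hbad _ (by rw [h0, h1, h2']; linear_combination -hμ3))
        · exact absurd hprod (hbad _ (by rw [h0, h1, h2']; linear_combination -hμ3))
        · exact ⟨Equiv.swap 0 2, fun i => by fin_cases i <;> simp [Equiv.swap_apply_of_ne_of_ne, h0, h1, h2']⟩
        · exact absurd hprod (hbad _ (by rw [h0, h1, h2']; linear_combination -hμ3))
        · exact ⟨Equiv.swap 1 2, fun i => by fin_cases i <;> simp [Equiv.swap_apply_of_ne_of_ne, h0, h1, h2']⟩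
        · exact ⟨1, fun i => by fin_cases i <;> simp [h0, h1, h2']⟩
        · exact absurd hprod (hbad _ (by rw [h0, h1, h2']; linear_combination -hμ3))
      let Y : Matrix (Fin 3) (Fin 3) F := !![-μ, 0, 0; 0, 0, -μ; 0, -μ, 0]
      let Q : Matrix (Fin 3) (Fin 3) F := !![1, 0, 0; 0, 1, 1; 0, 1, -1]
      let YU : GL (Fin 3) F := Matrix.GeneralLinearGroup.mkOfDetNeZero Y (by simp [Y, Matrix.det_fin_three, hμ0])
      let QU : GL (Fin 3) F := Matrix.GeneralLinearGroup.mkOfDetNeZero Q (by
        rw [show Q.det = -2 by simp [Q, Matrix.det_fin_three]; norm_num]; exact neg_ne_zero.mpr h2)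
      refine conj_of_target (y := γ * YU * γ⁻¹) (δ := γ * QU) B hB π hπ ?_ ?_
      · rw [← Units.val_mul, show γ * YU * γ⁻¹ * (γ * QU) = γ * (YU * QU) by group, Units.val_mul, Units.val_mul,
          Units.val_mul, Matrix.mul_assoc]
        congr 1
        show Y * Q = Q * _
        ext i j; fin_cases i <;> fin_cases j <;> simp [Y, Q, Matrix.mul_apply, Fin.sum_univ_three]
      · refine mem_normalizer_of_frame hcl ha hb _ (a * a) (b * b) Y ?_ (R.mul_mem haR haR) (R.mul_mem hbR hbR)
          (A' := dMat η * dMat η) (B' := tMat * tMat) ?_ ?_ ?_ ?_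
        · rw [← Units.val_mul, show γ * YU * γ⁻¹ * γ = γ * YU by group]; rfl
        · rw [Units.val_mul, Matrix.mul_assoc, ha, ← Matrix.mul_assoc, ha, Matrix.mul_assoc]
        · rw [Units.val_mul, Matrix.mul_assoc, hb, ← Matrix.mul_assoc, hb, Matrix.mul_assoc]
        · ext i j; fin_cases i <;> fin_cases j <;>
            simp [Y, dMat, Matrix.mul_apply, Fin.sum_univ_three] <;> first | ring1 | linear_combination μ * η * hη3 | linear_combination -μ * η * hη3
        · ext i j; fin_cases i <;> fin_cases j <;> simp [Y, tMat, Matrix.mul_apply, Fin.sum_univ_three]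
    · -- elements of order three
      obtain ⟨μ, hμ⟩ : ∃ μ : F, μ ^ 3 = z := by
        obtain ⟨w, hw⟩ := IsCyclic.exists_generator (α := Fˣ)
        have hord : orderOf w = p - 1 := by
          rw [orderOf_eq_card_of_forall_mem_zpowers hw, Nat.card_eq_fintype_card, Fintype.card_units, hF]
        have hη' : IsPrimitiveRoot ((w : F) ^ ((p - 1) / 9)) 9 := by
          have : IsPrimitiveRoot (w : F) (p - 1) := by
            rw [← hord, ← orderOf_units]; exact IsPrimitiveRoot.orderOf _
          exact this.pow (by omega) (by omega)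
        obtain ⟨k, -, hk⟩ := (hη'.pow (by norm_num) (show 9 = 3 * 3 by rfl)).eq_pow_of_pow_eq_one hz3
        exact ⟨((w : F) ^ ((p - 1) / 9)) ^ k, by rw [← hk, ← pow_mul, ← pow_mul, ← pow_mul, ← pow_mul]; ring_nf⟩
      have hμ0 : μ ≠ 0 := fun e => hz0 (by rw [← hμ, e]; simp)
      have hggg : ∀ v, g (g (g v)) = z • v := fun v => by
        rw [hg, ← LinearMap.comp_apply, ← Matrix.toLin'_mul, ← LinearMap.comp_apply, ← Matrix.toLin'_mul, ← sq,
          ← pow_succ, hz, map_smul, Matrix.toLin'_one]
        rfl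
      obtain ⟨B, l, hl, hB⟩ := exists_eigenbasis g (Set.range fun j : Fin 3 => μ * η ^ (j : ℕ)) fun v => by
        obtain ⟨w, hw, hwe⟩ := exists_eigenvector h3 hη (N := μ⁻¹ • g) (fun v => by
          simp only [LinearMap.smul_apply, map_smul, hggg, smul_smul, ← hμ]
          rw [show μ⁻¹ * μ⁻¹ * (μ⁻¹ * μ ^ 3) = 1 by field_simp, one_smul]) v
        have hj : ∀ j, w j ∈ Submodule.span F {u | ∃ c ∈ Set.range (fun j : Fin 3 => μ * η ^ (j : ℕ)), g u = c • u} :=
          fun j => Submodule.subset_span ⟨_, ⟨j, rfl⟩, by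
            rw [mul_smul, ← hwe, LinearMap.smul_apply, smul_smul, mul_inv_cancel₀ hμ0, one_smul]⟩
        rw [hw]
        exact Submodule.add_mem _ (Submodule.add_mem _ (hj 0) (hj 1)) (hj 2)
      choose k hk using hl
      simp only at hk
      rcases pattern_three k with hall | ⟨π, hπ⟩ | ⟨π, h01, h02⟩
      · exact absurd (scalar_of_eigen B hB (c := l 0) fun i => by rw [← hk, ← hk, hall i 0]) (hns _)
      · -- a multiple of the first generator
        obtain ⟨s, hs, hsc⟩ := exists_scalarGL hμ0
        refine conj_of_target (y := s * a) (δ := γ) B hB π (d := fun i => μ * η ^ (i : ℕ))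
          (fun i => by rw [← hk, hπ]) ?_ ?_
        · rw [Units.val_mul, hs, Matrix.smul_mul, Matrix.one_mul, Matrix.smul_mul, ha, ← Matrix.mul_smul]
          congr 1
          ext i j; fin_cases i <;> fin_cases j <;> simp [dMat]
        · refine mul_mem (Subgroup.mem_normalizer_iff.mpr fun h => ?_) (Subgroup.le_normalizer haR)
          rw [hsc, mul_assoc, mul_inv_cancel, mul_one]
      · -- two equal eigenvalues
        set c₁ := l (π 0) with hc₁
        obtain ⟨e, he, d, hd, hl2⟩ : ∃ e ∈ ({1, 2} : Set ℕ), ∃ d : F, d = η ^ e ∧ l (π 2) = c₁ * d := by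
          rw [hc₁, ← hk, ← hk]
          generalize k (π 2) = u, k (π 0) = v at h02 ⊢
          refine ⟨((u : ℕ) + 3 - v) % 3, ?_, _, rfl, ?_⟩
          · have : (u : ℕ) ≠ v := fun e => h02 (Fin.ext e)
            simp only [Set.mem_insert_iff, Set.mem_singleton_iff]
            omega
          · rw [mul_assoc, ← pow_add]
            conv_rhs => rw [← Nat.mod_add_div ((v : ℕ) + ((u : ℕ) + 3 - v) % 3) 3, pow_add, pow_mul, hη3, one_pow, mul_one]
            congr 2
            omega
        have hd3 : d ^ 3 = 1 := by rw [hd, ← pow_mul, mul_comm, pow_mul, hη3, one_pow]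
        have hc0 : c₁ ≠ 0 := by
          rw [hc₁, ← hk]; exact mul_ne_zero hμ0 (pow_ne_zero _ (hη.ne_zero (by norm_num)))
        have hd0 : d ≠ 0 := fun e => by simp [e] at hd3
        let Y : Matrix (Fin 3) (Fin 3) F := Matrix.diagonal ![c₁, c₁, c₁ * d]
        let YU : GL (Fin 3) F := Matrix.GeneralLinearGroup.mkOfDetNeZero Y (by
          simp [Y, Matrix.det_diagonal, Fin.prod_univ_three, hc0, hd0])
        have hyY : ((γ * YU * γ⁻¹ : GL (Fin 3) F) : Matrix (Fin 3) (Fin 3) F) * (γ : Matrix (Fin 3) (Fin 3) F) =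
            (γ : Matrix (Fin 3) (Fin 3) F) * Y := by
          rw [← Units.val_mul, show γ * YU * γ⁻¹ * γ = γ * YU by group]; rfl
        have hae : ((a ^ e : GL (Fin 3) F) : Matrix (Fin 3) (Fin 3) F) * (γ : Matrix (Fin 3) (Fin 3) F) =
            (γ : Matrix (Fin 3) (Fin 3) F) * Matrix.diagonal ![1, d, d ^ 2] := by
          have hD : dMat η * dMat η = Matrix.diagonal ![1, η ^ 2, (η ^ 2) ^ 2] := by
            rw [dMat, Matrix.diagonal_mul_diagonal]
            congr 1
            funext i; fin_cases i <;> simp <;> ring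
          rcases he with rfl | rfl
          · rw [pow_one] at hd ⊢; rw [ha, hd]; rfl
          · rw [pow_two, Units.val_mul, Matrix.mul_assoc, ha, ← Matrix.mul_assoc, ha, Matrix.mul_assoc, hD, hd]
        refine conj_of_target (y := γ * YU * γ⁻¹) (δ := γ) B hB π (d := ![c₁, c₁, c₁ * d]) (fun i => ?_) hyY
          (mem_normalizer_of_frame hcl ha hb _ a (b * a ^ e) Y hyY haR (R.mul_mem hbR (R.pow_mem haR _))
            (A' := dMat η) (B' := tMat * Matrix.diagonal ![1, d, d ^ 2]) ha ?_ ?_ ?_)
        · fin_cases i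
          · rfl
          · show l (π 1) = c₁
            rw [hc₁, ← hk, ← hk, h01]
          · exact hl2
        · rw [Units.val_mul, Matrix.mul_assoc, hae, ← Matrix.mul_assoc, hb, Matrix.mul_assoc]
        · simp only [Y, dMat, Matrix.diagonal_mul_diagonal, mul_comm]
        · ext i j; fin_cases i <;> fin_cases j <;>
            simp [Y, tMat, Matrix.mul_apply, Matrix.vecMul_diagonal, Fin.sum_univ_three] <;> first | ring1 | linear_combination c₁ * hd3 | linear_combination -c₁ * hd3

end Cfsg.Agent.S5998
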