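import Cfsg.Statements.S6000
import Cfsg.Agent.SympFour.Common
import Cfsg.Agent.Linear.Basic

set_option autoImplicit false
open scoped MatrixGroups
open Cfsg

namespace Cfsg.Agent.S6000

variable {F : Type*} [Field F]

open CfsgLib.SympFour Matrix

local notation "M₄" => Matrix (Fin 4) (Fin 4) F

theorem det_one {g : GL (Fin 4) F} (hg : g ∈ Cfsg.Geo.specialLinear (Fin 4) F) : (g : M₄).det = 1 :=
  congrArg Units.val (MonoidHom.mem_ker.mp hg)

theorem mem_sl {g : GL (Fin 4) F} (hg : (g : M₄).det = 1) : g ∈ Cfsg.Geo.specialLinear (Fin 4) F :=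
  MonoidHom.mem_ker.mpr (Units.ext hg)

theorem exists_sl_conj [Fintype F] {p : ℕ} [Fact p.Prime] [CharP F p] {x y : GL (Fin 4) F} (hx : (x : M₄).det = 1)
    (hy : (y : M₄).det = 1) {N : ℕ} (hN : N.Coprime p) (hxN : x ^ N = 1) (hyN : y ^ N = 1)
    (hc : (x : M₄).charpoly = (y : M₄).charpoly) :
    ∃ g ∈ Cfsg.Geo.specialLinear (Fin 4) F, g⁻¹ * x * g = y := by
  let X : Matrix.SpecialLinearGroup (Fin 4) F := ⟨x, hx⟩
  let Y : Matrix.SpecialLinearGroup (Fin 4) F := ⟨y, hy⟩
  have hX : Matrix.SpecialLinearGroup.toGL X = x := Units.ext rfl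
  have hY : Matrix.SpecialLinearGroup.toGL Y = y := Units.ext rfl
  obtain ⟨P, hP⟩ := isConj_iff.mp (CfsgLib.CharpolySS.isConj_SL_of_charpoly_eq (p := p) X Y
    (orderOf_coprime (Matrix.SpecialLinearGroup.toGL_injective (by rw [map_pow, map_one, hX, hxN])) hN)
    (orderOf_coprime (Matrix.SpecialLinearGroup.toGL_injective (by rw [map_pow, map_one, hY, hyN])) hN) hc)
  refine ⟨(Matrix.SpecialLinearGroup.toGL P)⁻¹, inv_mem (mem_sl P.2), ?_⟩
  rw [inv_inv, ← hX, ← hY, ← map_inv, ← map_mul, ← map_mul, hP]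

theorem det_of_val {g : GL (Fin 4) F} {A : M₄} (hA : (g : M₄) = A) (h : A.det = 1) : (g : M₄).det = 1 := hA ▸ h

/-- Transvections of determinant one. -/
theorem exists_transvection : ∃ x : GL (Fin 4) F, IsTransv x ∧ (x : M₄).det = 1 ∧
    (∀ c : F, (x : M₄) ≠ c • 1) ∧ ∀ k : ℕ, ((x ^ k : GL (Fin 4) F) : M₄) = !![1, (k : F), 0, 0; 0, 1, 0, 0; 0, 0, 1, 0; 0, 0, 0, 1] := by
  let A : M₄ := !![1, 1, 0, 0; 0, 1, 0, 0; 0, 0, 1, 0; 0, 0, 0, 1]
  let B : M₄ := !![1, -1, 0, 0; 0, 1, 0, 0; 0, 0, 1, 0; 0, 0, 0, 1]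
  have h1 : A * B = 1 := by ext i j; fin_cases i <;> fin_cases j <;> simp [A, B, Matrix.mul_apply, Fin.sum_univ_four]
  let x : GL (Fin 4) F := ⟨A, B, h1, mul_eq_one_comm.mp h1⟩
  refine ⟨x, ⟨![1, 0, 0, 0], ![0, 1, 0, 0], by simp [dotProduct, Fin.sum_univ_four], ?_⟩, ?_, fun c hc => ?_, fun k => ?_⟩
  · ext i j; fin_cases i <;> fin_cases j <;> simp [x, A, Matrix.vecMulVec_apply]
  · simp [x, A, Matrix.det_succ_row_zero, Fin.sum_univ_succ, Fin.succAbove]
  · have := congrFun (congrFun hc 0) 1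
    simp [x, A] at this
  · induction k with
    | zero => ext i j; fin_cases i <;> fin_cases j <;> simp
    | succ k ih =>
      rw [pow_succ, Units.val_mul, ih]
      ext i j; fin_cases i <;> fin_cases j <;> simp [x, A, Matrix.mul_apply, Fin.sum_univ_four, add_comm]

/-- Elements of prime order of PSL_4(p), p ≡ 1 (mod 4), and the normalizer of a 2-group of symplectic type of order 2⁶. Here `T = PSL_4(F)` for the field `F` with `p` elements, `p` a prime with `p ≡ 1 (mod 4)`; `R` is an absolutely irreducible subgroup of GL_4(F) of order 2⁶ that is a 2-group of symplectic type of exponent 4 with centre of order 4 (the central product of the scalars of order 4 with an extraspecial group 2^{1+4}), and `H` is the subgroup of matrices of determinant 1 normalizing `R` — a subgroup of type 2⁴.Sp₄(2) (maximality is not assumed). Ω is the set of cosets of `H` in `T`, so an element of `T` of prime order `r` (a matrix `x` of determinant 1 with `x^r` scalar, `x` not scalar) fixes a point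 of Ω exactly when some conjugate of `x` by a matrix of determinant 1 normalizes `R`. Let `r` be a prime dividing the index of `H`. Then every element of `T` of order `r` fixes a point of Ω if and only if `r = 2`, or `r = 3` and `p ≡ 2 (mod 3)`, or `r = 5` and `p ≡ ±2 (mod 5)` (`p` has multiplicative order 4 modulo 5). -/
theorem result {F : Type*} [Field F] [Fintype F] {p : ℕ} [Fact p.Prime] [CharP F p] (hF : Fintype.card F = p) (hp4 : p % 4 = 1)
    (R : Subgroup (GL (Fin 4) F)) (hR : Cfsg.Geo.IsLinearSymplecticTypeData 2 R) (hR6 : Nat.card R = 2 ^ 6)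
    (r : ℕ) [Fact r.Prime]
    (hΩ : r ∣ (Cfsg.Geo.subgroupNormalizer R).relIndex (Cfsg.Geo.specialLinear (Fin 4) F)) :
    (∀ x ∈ Cfsg.Geo.specialLinear (Fin 4) F, (∃ z : F, ((x ^ r : GL (Fin 4) F) : Matrix (Fin 4) (Fin 4) F) = z • (1 : Matrix (Fin 4) (Fin 4) F)) →
      (∀ z : F, (x : Matrix (Fin 4) (Fin 4) F) ≠ z • (1 : Matrix (Fin 4) (Fin 4) F)) →
      ∃ g ∈ Cfsg.Geo.specialLinear (Fin 4) F, g⁻¹ * x * g ∈ Cfsg.Geo.subgroupNormalizer R) ↔ (r = 2 ∨ (r = 3 ∧ p % 3 = 2) ∨ (r = 5 ∧ orderOf (p : ZMod 5) = 4)) := by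
  classical
  haveI : Finite R := Nat.finite_of_card_ne_zero (by omega)
  have hp := (Fact.out : p.Prime)
  have hp5 : 5 ≤ p := by
    have := hp.two_le
    omega
  have hcast : ∀ n : ℕ, (n : F) = 0 ↔ p ∣ n := fun n => CharP.cast_eq_zero_iff F p n
  have h2 : (2 : F) ≠ 0 := fun h => by
    have := Nat.le_of_dvd (by norm_num) ((hcast 2).mp (by exact_mod_cast h))
    omega
  have h3 : (3 : F) ≠ 0 := fun h => by
    have := Nat.le_of_dvd (by norm_num) ((hcast 3).mp (by exact_mod_cast h))
    omega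
  have hcen : Nat.card (Subgroup.center R) = 4 := by
    obtain ⟨q, e, -, -, h | h | h⟩ := hR.field
    · exact absurd h.1 (by decide)
    · exact h.2.2.1
    · simp at h
  have h : Ctx R := ctx_of_symplecticType h2 (Fintype.card_fin 4) hR.symplecticType hR.absIrred (by omega) (by omega)
    (by omega)
  have hz : Nat.card (Subgroup.center R) = 2 ∨ Nat.card (Subgroup.center R) = 4 := Or.inr hcen
  obtain ⟨D⟩ := exists_five_center_four h hcen
  obtain ⟨I, hI, hII, hIc⟩ := center_four_scalar h hcen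
  constructor
  · intro hall
    by_contra hno
    rw [not_or, not_or] at hno
    obtain ⟨hr2, hr3, hr5⟩ := hno
    -- it suffices to give one element of order `r`
    suffices ∃ x : GL (Fin 4) F, (x : Matrix (Fin 4) (Fin 4) F).det = 1 ∧ x ^ r = 1 ∧ (∀ c : F, (x : Matrix (Fin 4) (Fin 4) F) ≠ c • 1) ∧
        ∀ g : GL (Fin 4) F, g⁻¹ * x * g ∉ Cfsg.Geo.subgroupNormalizer R by
      obtain ⟨x, hxd, hxr, hns, hno⟩ := this
      obtain ⟨g, -, hg⟩ := hall x (mem_sl hxd) ⟨1, by rw [hxr, Units.val_one, one_smul]⟩ hns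
      exact hno g hg
    have hrP := (Fact.out : r.Prime)
    rcases (show r = 3 ∨ r = 5 ∨ 7 ≤ r by
      have := hrP.two_le
      rcases (show r = 3 ∨ r = 4 ∨ r = 5 ∨ r = 6 ∨ 7 ≤ r by omega) with h' | rfl | h' | rfl | h'
      · exact Or.inl h'
      · norm_num at hrP
      · exact Or.inr (Or.inl h')
      · norm_num at hrP
      · exact Or.inr (Or.inr h')) with rfl | rfl | hr7
    · -- a homology
      have hp3 : p % 3 = 1 := by
        have : p % 3 ≠ 2 := fun e => hr3 ⟨rfl, e⟩
        have : p % 3 ≠ 0 := fun e => by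
          have := (Nat.prime_dvd_prime_iff_eq Nat.prime_three hp).mp (Nat.dvd_of_mod_eq_zero e)
          omega
        omega
      haveI : Fact (Nat.Prime 3) := ⟨Nat.prime_three⟩
      obtain ⟨u, hu⟩ := exists_prime_orderOf_dvd_card (G := Fˣ) 3 (by rw [Fintype.card_units, hF]; omega)
      have hu3 : (u : F) ^ 3 = 1 := by rw [← Units.val_pow_eq_pow_val, ← hu, pow_orderOf_eq_one, Units.val_one]
      have hu1 : (u : F) ≠ 1 := fun e => by rw [show u = 1 from Units.ext e, orderOf_one] at hu; omega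
      let d : Fin 4 → F := ![(u : F), (u : F), (u : F), 1]
      let d' : Fin 4 → F := ![(u : F) ^ 2, (u : F) ^ 2, (u : F) ^ 2, 1]
      have hdd : Matrix.diagonal d * Matrix.diagonal d' = 1 := by
        rw [Matrix.diagonal_mul_diagonal, ← Matrix.diagonal_one]
        congr 1; funext i; fin_cases i <;> simp [d, d', ← pow_succ', hu3]
      let x : GL (Fin 4) F := ⟨Matrix.diagonal d, Matrix.diagonal d', hdd, mul_eq_one_comm.mp hdd⟩
      have hxv : (x : Matrix (Fin 4) (Fin 4) F) = Matrix.diagonal d := rfl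
      have hns : ∀ c : F, (x : Matrix (Fin 4) (Fin 4) F) ≠ c • 1 := fun c hc => hu1 (by
        have e0 := congrFun (congrFun hc 0) 0
        have e3 := congrFun (congrFun hc 3) 3
        simp [hxv, d] at e0 e3
        rw [e0, e3])
      have hxr : x ^ 3 = 1 := Units.ext (by
        rw [Units.val_pow_eq_pow_val, hxv, Matrix.diagonal_pow, Units.val_one, ← Matrix.diagonal_one]
        congr 1; funext i; fin_cases i <;> simp [d, hu3])
      refine ⟨x, ?_, hxr, hns, h.no_conj hz (r := 3) (by norm_num) hxr hns fun j hj hmod => ?_⟩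
      · simp [hxv, d, Matrix.det_diagonal, Fin.prod_univ_four, ← pow_three, hu3, mul_assoc]
      · have hw : (u : F) ^ 2 + (u : F) + 1 = 0 :=
          (mul_eq_zero.mp (show ((u : F) - 1) * ((u : F) ^ 2 + u + 1) = 0 by linear_combination hu3)).resolve_left
            (sub_ne_zero.mpr hu1)
        have htr : (x : Matrix (Fin 4) (Fin 4) F).trace * ((x⁻¹ : GL (Fin 4) F) : Matrix (Fin 4) (Fin 4) F).trace = 7 := by
          rw [hxv, show ((x⁻¹ : GL (Fin 4) F) : Matrix (Fin 4) (Fin 4) F) = Matrix.diagonal d' from rfl, Matrix.trace_diagonal,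
            Matrix.trace_diagonal]
          simp [d, d', Fin.sum_univ_four]
          linear_combination 3 * hw + 9 * hu3
        rw [htr]
        interval_cases j <;> first | (norm_num [Nat.ModEq] at hmod; done) | norm_num
        all_goals first
          | (intro e; exact mul_ne_zero h2 h3 (by linear_combination e))
          | (intro e; exact h3 (by linear_combination e))
    · -- a rotation in a plane
      have h5 : orderOf (p : ZMod 5) ≠ 4 := fun e => hr5 ⟨rfl, e⟩
      by_cases hp' : p = 5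
      · subst hp'
        obtain ⟨x, ht, hd, hns, hpow⟩ := exists_transvection (F := F)
        refine ⟨x, hd, Units.ext ?_, hns, h.no_conj_transvection ht hns⟩
        rw [hpow, Units.val_one]
        ext i j
        fin_cases i <;> fin_cases j <;>
          simp [show (5 : F) = 0 from by exact_mod_cast CharP.cast_eq_zero F 5]
      have h5F : (5 : F) ≠ 0 := fun h' => hp'
        ((Nat.prime_dvd_prime_iff_eq hp Nat.prime_five).mp ((hcast 5).mp (by exact_mod_cast h')))
      obtain ⟨θ, hθ, -⟩ := exists_theta h2 h5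
      let A : Matrix (Fin 4) (Fin 4) F := !![θ, -1, 0, 0; 1, 0, 0, 0; 0, 0, 1, 0; 0, 0, 0, 1]
      let B : Matrix (Fin 4) (Fin 4) F := !![0, 1, 0, 0; -1, θ, 0, 0; 0, 0, 1, 0; 0, 0, 0, 1]
      have hAB : A * B = 1 := by ext i j; fin_cases i <;> fin_cases j <;> simp [A, B, Matrix.mul_apply, Fin.sum_univ_four]
      let x : GL (Fin 4) F := ⟨A, B, hAB, mul_eq_one_comm.mp hAB⟩
      have hns : ∀ c : F, (x : Matrix (Fin 4) (Fin 4) F) ≠ c • 1 := fun c hc => by
        have := congrFun (congrFun hc 1) 0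
        simp [x, A] at this
      have hA5 : A ^ 5 = 1 := by
        ext i j
        simp only [pow_succ, pow_zero, one_mul]
        fin_cases i <;> fin_cases j <;> simp [A, Matrix.mul_apply, Fin.sum_univ_four] <;>
          first
          | linear_combination (θ ^ 3 - θ ^ 2 - 2 * θ + 1) * hθ
          | linear_combination (θ ^ 2 - θ - 1) * hθ
          | linear_combination (-(θ ^ 2) + θ + 1) * hθ
          | linear_combination (θ - 1) * hθ
          | linear_combination (-θ + 1) * hθ
      have hxr : x ^ 5 = 1 := Units.ext (by rw [Units.val_pow_eq_pow_val, Units.val_one]; exact hA5)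
      refine ⟨x, ?_, hxr, hns, h.no_conj hz (r := 5) (by norm_num) hxr hns fun j hj hmod => ?_⟩
      · show A.det = 1
        simp [A, Matrix.det_succ_row_zero, Fin.sum_univ_succ, Fin.succAbove]
      · rw [show (x : Matrix (Fin 4) (Fin 4) F).trace = θ + 2 by simp [x, A, Matrix.trace, Fin.sum_univ_four]; ring,
          show ((x⁻¹ : GL (Fin 4) F) : Matrix (Fin 4) (Fin 4) F).trace = θ + 2 by
            show B.trace = θ + 2
            simp [B, Matrix.trace, Fin.sum_univ_four]; ring]
        exact theta_bad hθ h5F j hj hmod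
    · obtain ⟨x, hx, hxr, hns, hno⟩ := h.counter_seven hz (G := Cfsg.Geo.specialLinear (Fin 4) F)
        (fun g hg => det_one hg) hr7 (hΩ.trans (Subgroup.relIndex_dvd_card _ _))
      exact ⟨x, det_one hx, hxr, hns, hno⟩
  · intro hr x hx ⟨z, hzx⟩ hns
    rw [Units.val_pow_eq_pow_val] at hzx
    have hxd := det_one hx
    have hz4 : z ^ 4 = 1 := by
      have := congrArg Matrix.det hzx
      rwa [Matrix.det_pow, hxd, one_pow, Matrix.det_smul, Matrix.det_one, mul_one, Fintype.card_fin, eq_comm] at this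
    have hz0 : z ≠ 0 := fun e => by simp [e] at hz4
    -- finish with a model having the same characteristic polynomial
    have fin : ∀ (x y : GL (Fin 4) F) (N : ℕ), N.Coprime p → (x : Matrix (Fin 4) (Fin 4) F).det = 1 → (y : Matrix (Fin 4) (Fin 4) F).det = 1 →
        x ^ N = 1 → y ^ N = 1 → (x : Matrix (Fin 4) (Fin 4) F).charpoly = (y : Matrix (Fin 4) (Fin 4) F).charpoly → y ∈ Cfsg.Geo.subgroupNormalizer R →
        ∃ g ∈ Cfsg.Geo.specialLinear (Fin 4) F, g⁻¹ * x * g ∈ Cfsg.Geo.subgroupNormalizer R := by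
      intro x y N hN hx hy hxN hyN hc hyR
      obtain ⟨g, hg, e⟩ := exists_sl_conj (p := p) hx hy hN hxN hyN hc
      exact ⟨g, hg, e ▸ hyR⟩
    -- odd orders reduce to elements of order `r`
    have red : ∀ {r : ℕ}, Odd r → (x : Matrix (Fin 4) (Fin 4) F) ^ r = z • 1 →
        (∀ x' : GL (Fin 4) F, (x' : Matrix (Fin 4) (Fin 4) F).det = 1 → x' ^ r = 1 → (∀ c : F, (x' : Matrix (Fin 4) (Fin 4) F) ≠ c • 1) →
          ∃ g ∈ Cfsg.Geo.specialLinear (Fin 4) F, g⁻¹ * x' * g ∈ Cfsg.Geo.subgroupNormalizer R) →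
        ∃ g ∈ Cfsg.Geo.specialLinear (Fin 4) F, g⁻¹ * x * g ∈ Cfsg.Geo.subgroupNormalizer R := by
      intro r hodd hzx hk
      obtain ⟨c, hc4, -, hcr⟩ := exists_scaled hodd hz4 hzx
      obtain ⟨g, hg, hgN⟩ := hk _ (by
        rw [smul_val_mul (scalarGL_val c), Matrix.det_smul, hxd, Fintype.card_fin, hc4, mul_one]) hcr (fun d hd => by
          rw [smul_val_mul (scalarGL_val c)] at hd
          refine hns ((c : F)⁻¹ * d) ?_
          rw [← smul_smul, ← hd, smul_smul, inv_mul_cancel₀ c.ne_zero, one_smul])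
      exact ⟨g, hg, conj_of_scaled hgN⟩
    rcases hr with rfl | ⟨rfl, hp3⟩ | ⟨rfl, hp5'⟩
    · -- involutions
      have h24 : (8 : ℕ).Coprime p := by
        rw [show (8 : ℕ) = 2 ^ 3 by norm_num]
        exact Nat.Coprime.pow_left 3 ((Nat.coprime_primes Nat.prime_two hp).mpr (by omega))
      have hx8 : x ^ 8 = 1 := Units.ext (by
        rw [Units.val_pow_eq_pow_val, show (8 : ℕ) = 2 * 4 by norm_num, pow_mul, hzx, smul_pow, one_pow, hz4,
          one_smul, Units.val_one])
      rw [pow_two] at hzx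
      have nsc : ∀ {y : GL (Fin 4) F} {s : GL (Fin 4) F}, s * y = -(y * s) → ∀ c : F, (y : Matrix (Fin 4) (Fin 4) F) ≠ c • 1 :=
        fun {y s} hs c hc => h.ne_neg _ ((h.mem_centralizer_of_scalar hc s).symm.trans hs)
      rcases two_spec h2 (Fintype.card_fin 4) hz0 hzx hns with ⟨ht, hd, -⟩ | ⟨μ, hμ, hμ0, ht, hd, -⟩
      · rw [hxd] at hd
        have hsgn := mul_self_eq_one_iff.mp hd.symm
        obtain ⟨y, hyR, hyy, s, hs⟩ : ∃ y ∈ R, (y : Matrix (Fin 4) (Fin 4) F) * y = z • 1 ∧ ∃ s, s * y = -(y * s) := by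
          rcases hsgn with rfl | rfl
          · exact ⟨D.g 0, D.mem 0, by rw [← Units.val_mul, D.sq, Units.val_one, one_smul], D.g 1, D.anti 1 0 (by decide)⟩
          · refine ⟨D.g 0 * D.g 1, R.mul_mem (D.mem 0) (D.mem 1), ?_, D.g 0, ?_⟩
            · rw [← Units.val_mul, neg_one_smul]
              have : D.g 0 * D.g 1 * (D.g 0 * D.g 1) = -1 := by
                rw [mul_assoc, ← mul_assoc (D.g 1), D.anti 1 0 (by decide), neg_mul, mul_assoc, D.sq, mul_one,
                  mul_neg, D.sq]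
              rw [this]; rfl
            · conv_rhs => rw [mul_assoc, D.anti 1 0 (by decide), mul_neg, neg_neg]
        have hty := trace_zero_of_anti h.two hs
        have hdy : (y : Matrix (Fin 4) (Fin 4) F).det = 1 := by
          rcases two_spec h2 (Fintype.card_fin 4) hz0 hyy (nsc hs) with ⟨-, e, -⟩ | ⟨μ, -, hμ0, e, -, -⟩
          · rw [e, hd]
          · exact absurd (e.symm.trans hty) (mul_ne_zero h2 hμ0)
        have hy8 : y ^ 8 = 1 := Units.ext (by
          rw [Units.val_pow_eq_pow_val, show (8 : ℕ) = 2 * 4 by norm_num, pow_mul, pow_two, hyy, smul_pow, one_pow,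
            hz4, one_smul, Units.val_one])
        exact fin x y 8 h24 hxd hdy hx8 hy8
          (charpoly_eq_two h2 (Fintype.card_fin 4) hz0 hzx hyy hns (nsc hs) (ht.trans hty.symm))
          (Subgroup.le_normalizer hyR)
      · obtain ⟨y₀, hy₀N, hy₀, hy₀t, hy₀ns, -⟩ := exists_reflection h D hI hII hIc
        set y := scalarGL (Units.mk0 μ hμ0) * y₀ with hy
        have hyv : (y : Matrix (Fin 4) (Fin 4) F) = μ • (y₀ : Matrix (Fin 4) (Fin 4) F) := smul_val_mul (scalarGL_val _)
        have hyy : (y : Matrix (Fin 4) (Fin 4) F) * y = z • 1 := by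
          rw [hyv, Matrix.smul_mul, Matrix.mul_smul, smul_smul, hμ,
            show (y₀ : Matrix (Fin 4) (Fin 4) F) * y₀ = 1 from congrArg Units.val hy₀]
        have hyt : (y : Matrix (Fin 4) (Fin 4) F).trace = 2 * μ := by rw [hyv, Matrix.trace_smul, hy₀t, smul_eq_mul, mul_comm]
        have hyns : ∀ c : F, (y : Matrix (Fin 4) (Fin 4) F) ≠ c • 1 := fun c hc => hy₀ns (μ⁻¹ * c) (by
          rw [← smul_smul, ← hc, hyv, smul_smul, inv_mul_cancel₀ hμ0, one_smul])
        have hdy : (y : Matrix (Fin 4) (Fin 4) F).det = 1 := by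
          rcases two_spec h2 (Fintype.card_fin 4) hz0 hyy hyns with ⟨e, -, -⟩ | ⟨μ', -, -, -, e, -⟩
          · exact absurd (hyt.symm.trans e) (mul_ne_zero h2 hμ0)
          · rw [e, ← hd, hxd]
        have hy8 : y ^ 8 = 1 := Units.ext (by
          rw [Units.val_pow_eq_pow_val, show (8 : ℕ) = 2 * 4 by norm_num, pow_mul, pow_two, hyy, smul_pow, one_pow,
            hz4, one_smul, Units.val_one])
        exact fin x y 8 h24 hxd hdy hx8 hy8
          (charpoly_eq_two h2 (Fintype.card_fin 4) hz0 hzx hyy hns hyns (ht.trans hyt.symm))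
          (mul_mem (mem_normalizer_of_comm (scalarGL_comm _)) hy₀N)
    · -- order three
      refine red (by decide) hzx fun x hxd hx3 hns => ?_
      have hx3' : (x : Matrix (Fin 4) (Fin 4) F) ^ 3 = 1 := by rw [← Units.val_pow_eq_pow_val, hx3, Units.val_one]
      have hcl : ∀ (y : Matrix (Fin 4) (Fin 4) F), y ^ 3 = 1 → ∀ a ∈ eigs y, a ^ 2 ∈ eigs y := by
        intro y hy a ha
        have := eigs_pow_card ha
        have ha3 : a ^ 3 = 1 := by rw [eigs_pow_eq (hy.trans (one_smul F _).symm) ha, map_one]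
        rwa [hF, ← Nat.div_add_mod p 3, pow_add, pow_mul, ha3, one_pow, one_mul, hp3] at this
      have h3p : (3 : ℕ).Coprime p := (Nat.coprime_primes Nat.prime_three hp).mpr (by omega)
      obtain ⟨w, -, ⟨ht, -⟩ | ⟨ht, -⟩⟩ := three_spec h3 (Fintype.card_fin 4) hx3' hxd hns (hcl _ hx3')
      · obtain ⟨y, hyN, hyd, hy3, hyt, hyns, -⟩ := exists_three' h D hI hII hIc
        have hy3' : (y : Matrix (Fin 4) (Fin 4) F) ^ 3 = 1 := by rw [← Units.val_pow_eq_pow_val, hy3, Units.val_one]
        exact fin x y 3 h3p hxd hyd hx3 hy3 (charpoly_eq_three h3 (Fintype.card_fin 4) hx3' hy3' hxd hyd hns hyns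
          (hcl _ hx3') (hcl _ hy3') (ht.trans hyt.symm)) hyN
      · obtain ⟨y, hyN, hyd, hy3, hyt, hyns, -⟩ := exists_three h D
        have hy3' : (y : Matrix (Fin 4) (Fin 4) F) ^ 3 = 1 := by rw [← Units.val_pow_eq_pow_val, hy3, Units.val_one]
        exact fin x y 3 h3p hxd hyd hx3 hy3 (charpoly_eq_three h3 (Fintype.card_fin 4) hx3' hy3' hxd hyd hns hyns
          (hcl _ hx3') (hcl _ hy3') (ht.trans hyt.symm)) hyN
    · -- order five
      refine red (by decide) hzx fun x hxd hx5 hns => ?_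
      have hp2 : p % 5 = 2 ∨ p % 5 = 3 := by
        have key : ∀ a : ZMod 5, a ^ 4 = 1 → a ^ 2 ≠ 1 → a.val = 2 ∨ a.val = 3 := by decide +revert
        have := key (p : ZMod 5) (hp5' ▸ pow_orderOf_eq_one _)
          (pow_ne_one_of_lt_orderOf (by norm_num) (by omega))
        rwa [ZMod.val_natCast] at this
      have h5F : (5 : F) ≠ 0 := fun h' => by
        have e : p = 5 := (Nat.prime_dvd_prime_iff_eq hp Nat.prime_five).mp ((hcast 5).mp (by exact_mod_cast h'))
        omega
      have hcl : ∀ (y : Matrix (Fin 4) (Fin 4) F), y ^ 5 = 1 → ∀ a ∈ eigs y, a ^ 2 ∈ eigs y := by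
        intro y hy a ha
        have ha5 : ∀ a ∈ eigs y, a ^ 5 = 1 := fun a ha => by
          rw [eigs_pow_eq (hy.trans (one_smul F _).symm) ha, map_one]
        have step : ∀ a ∈ eigs y, a ^ (p % 5) ∈ eigs y := fun a ha => by
          have := eigs_pow_card ha
          rwa [hF, ← Nat.div_add_mod p 5, pow_add, pow_mul, ha5 a ha, one_pow, one_mul] at this
        rcases hp2 with e | e <;> rw [e] at step
        · exact step a ha
        · have := step _ (step _ (step a ha))
          rwa [← pow_mul, ← pow_mul, show 3 * 3 * 3 = 5 * 5 + 2 by norm_num, pow_add, pow_mul, ha5 a ha, one_pow,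
            one_mul] at this
      obtain ⟨y, hyN, hyd, hy5, hyns, -⟩ := exists_order_five h D
      have hx5' : (x : Matrix (Fin 4) (Fin 4) F) ^ 5 = 1 := by rw [← Units.val_pow_eq_pow_val, hx5, Units.val_one]
      have hy5' : (y : Matrix (Fin 4) (Fin 4) F) ^ 5 = 1 := by rw [← Units.val_pow_eq_pow_val, hy5, Units.val_one]
      exact fin x y 5 ((Nat.coprime_primes Nat.prime_five hp).mpr (by omega)) hxd hyd hx5 hy5
        (charpoly_eq_five h5F (Fintype.card_fin 4) hx5' hy5' hns hyns (hcl _ hx5') (hcl _ hy5')) hyN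

end Cfsg.Agent.S6000
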