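import Cfsg.Statements.S6001
import Cfsg.Agent.SympFour.Common
import Cfsg.Agent.SemisimpleSU.Conj
import Cfsg.Agent.FieldEmb.QuadExt

set_option autoImplicit false
open scoped MatrixGroups
open Cfsg

namespace Cfsg.Agent.S6001

open CfsgLib.SympFour Matrix

variable {K : Type*} [Field K]

theorem exists_su_conj [Fintype K] {p : ℕ} [Fact p.Prime] [CharP K p] (hK : Fintype.card K = p ^ 2) {x y : GL (Fin 4) K}
    (hxU : x ∈ Cfsg.GU 4 K p) (hyU : y ∈ Cfsg.GU 4 K p)
    (hx : (x : Matrix (Fin 4) (Fin 4) K).det = 1) (hy : (y : Matrix (Fin 4) (Fin 4) K).det = 1)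
    {N : ℕ} (hN : N.Coprime p) (hxN : x ^ N = 1) (hyN : y ^ N = 1)
    (hc : (x : Matrix (Fin 4) (Fin 4) K).charpoly = (y : Matrix (Fin 4) (Fin 4) K).charpoly) :
    ∃ g ∈ Cfsg.GU 4 K p ⊓ Cfsg.Geo.specialLinear (Fin 4) K, g⁻¹ * x * g = y := by
  let X : Cfsg.SU 4 K p := ⟨⟨x, hx⟩, hxU⟩
  let Y : Cfsg.SU 4 K p := ⟨⟨y, hy⟩, hyU⟩
  let ι : Cfsg.SU 4 K p →* GL (Fin 4) K := Matrix.SpecialLinearGroup.toGL.comp (Cfsg.SU 4 K p).subtype
  have hι : Function.Injective ι := Matrix.SpecialLinearGroup.toGL_injective.comp Subtype.val_injective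
  have hX : ι X = x := Units.ext rfl
  have hY : ι Y = y := Units.ext rfl
  obtain ⟨P, hP⟩ := isConj_iff.mp (CfsgLib.SemisimpleSU.isConj_SU (p := p) hK X Y
    (orderOf_coprime (hι (by rw [map_pow, map_one, hX, hxN])) hN)
    (orderOf_coprime (hι (by rw [map_pow, map_one, hY, hyN])) hN) hc)
  refine ⟨(ι P)⁻¹, inv_mem ⟨P.2, MonoidHom.mem_ker.mpr (Units.ext P.1.2)⟩, ?_⟩
  rw [inv_inv, ← hX, ← hY, ← map_inv, ← map_mul, ← map_mul, hP]

theorem scalarGL_mem {p : ℕ} {c : Kˣ} (hc : (c : K) ^ (p + 1) = 1) :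
    (CfsgLib.SympFour.scalarGL c : GL (Fin 4) K) ∈ Cfsg.GU 4 K p := by
  intro u v
  show Cfsg.hermForm 4 K p (((c : K) • (1 : Matrix (Fin 4) (Fin 4) K)) *ᵥ u)
    (((c : K) • (1 : Matrix (Fin 4) (Fin 4) K)) *ᵥ v) = _
  simp only [Cfsg.hermForm, Matrix.smul_mulVec, Matrix.one_mulVec, Pi.smul_apply, smul_eq_mul, mul_pow]
  refine Finset.sum_congr rfl fun i _ => ?_
  rw [pow_succ'] at hc
  linear_combination (u i * v i ^ p) * hc

/-- A two by two block extended by the identity. -/
def emb (A : Matrix (Fin 2) (Fin 2) K) : Matrix (Fin 4) (Fin 4) K :=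
  !![A 0 0, A 0 1, 0, 0; A 1 0, A 1 1, 0, 0; 0, 0, 1, 0; 0, 0, 0, 1]

theorem emb_mul (A B : Matrix (Fin 2) (Fin 2) K) : emb (A * B) = emb A * emb B := by
  ext i j; fin_cases i <;> fin_cases j <;> simp [emb, Matrix.mul_apply, Fin.sum_univ_four, Fin.sum_univ_two]

theorem emb_one : emb (1 : Matrix (Fin 2) (Fin 2) K) = 1 := by
  ext i j; fin_cases i <;> fin_cases j <;> simp [emb]

theorem emb_pow (A : Matrix (Fin 2) (Fin 2) K) (n : ℕ) : emb A ^ n = emb (A ^ n) := by
  induction n with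
  | zero => simp [emb_one]
  | succ n ih => rw [pow_succ, pow_succ, ih, emb_mul]

theorem det_emb (A : Matrix (Fin 2) (Fin 2) K) : (emb A).det = A 0 0 * A 1 1 - A 0 1 * A 1 0 := by
  simp [emb, Matrix.det_succ_row_zero, Fin.sum_univ_succ, Fin.succAbove]
  ring

/-- A unitary transvection of order three in characteristic three. -/
theorem exists_transvection_three [Fintype K] [CharP K 3] (hK : Fintype.card K = 3 ^ 2) :
    ∃ x : GL (Fin 4) K, x ∈ Cfsg.GU 4 K 3 ∧ (x : Matrix (Fin 4) (Fin 4) K).det = 1 ∧ x ^ 3 = 1 ∧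
      IsTransv x ∧ ∀ d : K, (x : Matrix (Fin 4) (Fin 4) K) ≠ d • 1 := by
  haveI : Fact (Nat.Prime 3) := ⟨Nat.prime_three⟩
  obtain ⟨σ, hσ, hσσ⟩ := CfsgLib.FieldEmb.exists_conj hK
  letI := ZMod.algebra K 3
  obtain ⟨ε, hε⟩ := CfsgLib.FieldEmb.exists_norm_eq (F := ZMod 3) (K := K) (ZMod.card 3) hK (-1)
  rw [map_neg, map_one] at hε
  have hεσ : ε * σ ε = -1 := by rw [hσ]; exact hε
  have hσc : σ (ε ^ 2) = -ε ^ 2 := by
    rw [map_pow, hσ]
    linear_combination ε ^ 2 * hε
  have hc0 : ε ^ 2 ≠ 0 := pow_ne_zero _ fun e => by rw [e, zero_mul] at hεσ; simp at hεσ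
  generalize ε ^ 2 = c at hσc hc0
  let u : Fin 4 → K := ![c, c * ε, 0, 0]
  let φ : Fin 4 → K := ![1, σ ε, 0, 0]
  have h0 : φ ⬝ᵥ u = 0 := by
    simp [u, φ, dotProduct, Fin.sum_univ_four]
    linear_combination c * hεσ
  let E := Matrix.vecMulVec u φ
  have hEE : E * E = 0 := by
    simp only [E]
    rw [Matrix.vecMulVec_mul_vecMulVec, h0, zero_smul]
    simp
  have h1 : (1 + E) * (1 - E) = 1 := by rw [add_mul, one_mul, mul_sub, mul_one, hEE]; abel
  let x : GL (Fin 4) K := ⟨1 + E, 1 - E, h1, mul_eq_one_comm.mp h1⟩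
  have htauE : CfsgLib.InvNorm.tau σ E = -E := by
    ext i j
    fin_cases i <;> fin_cases j <;>
      simp [E, u, φ, CfsgLib.InvNorm.tau, Matrix.vecMulVec_apply, hσc, hσσ] <;> ring
  refine ⟨x, ?_, ?_, Units.ext ?_, ⟨u, φ, h0, rfl⟩, fun d hd => ?_⟩
  · rw [CfsgLib.InvNorm.mem_GU_iff hσ hσσ]
    show CfsgLib.InvNorm.tau σ (1 + E) * (1 + E) = 1
    rw [CfsgLib.InvNorm.tau_add, CfsgLib.InvNorm.tau_one, htauE, add_mul, one_mul, neg_mul, mul_add, mul_one, hEE]
    abel
  · show (1 + E).det = 1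
    simp only [E]
    rw [Matrix.vecMulVec_eq (ι := Unit), Matrix.det_one_add_replicateCol_mul_replicateRow, h0, add_zero]
  · rw [Units.val_pow_eq_pow_val, Units.val_one]
    show (1 + E) ^ 3 = 1
    have h30 : (3 : K) = 0 := by exact_mod_cast CharP.cast_eq_zero K 3
    rw [pow_succ, pow_two, show (1 + E) * (1 + E) = 1 + (E + E) by
      rw [add_mul, one_mul, mul_add, mul_one, hEE]; abel, add_mul, one_mul, mul_add, mul_one, add_mul, hEE]
    simp only [add_zero]
    linear_combination (norm := module) h30 • E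
  · have e0 := congrFun (congrFun hd 1) 0
    simp [x, E, u, φ, Matrix.vecMulVec_apply] at e0
    rcases e0 with e | e
    · exact hc0 e
    · rw [e, zero_mul] at hεσ; simp at hεσ

/-- Elements of prime order of PSU_4(p), p ≡ 3 (mod 4), and the normalizer of a 2-group of symplectic type of order 2⁶. Here `T = PSU_4(p)` for a prime `p ≡ 3 (mod 4)`, realised through `SU_4(p)`, the matrices of determinant 1 over the field `F` with `p²` elements preserving the hermitian form `f = Σ uᵢvᵢ^p`; `R` is an absolutely irreducible subgroup of the full unitary group of `f` of order 2⁶ that is a 2-group of symplectic type of exponent 4 with centre of order 4, and `H` is the subgroup of `SU_4(p)` normalizing `R` — a subgroup of type 2⁴.Sp₄(2) (maximality is not assumed). Ω is the set of cosets of `H`, so an element of `T` of prime order `r` (`x ∈ SU_4(p)` with `x^r` scalar, `x` not scalar) fixes a point of Ω exactly when some `SU_4(p)`-conjugate of `x` normalizes `R`. Let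 `r` be a prime dividing the index of `H`. Then every element of `T` of order `r` fixes a point of Ω if and only if `r = 2`, or `r = 3` and `p ≡ 1 (mod 3)`, or `r = 5` and `p ≡ ±2 (mod 5)` (`p` has multiplicative order 4 modulo 5). -/
theorem result {F : Type*} [Field F] [Fintype F] {p : ℕ} [Fact p.Prime] [CharP F p] (hF : Fintype.card F = p ^ 2) (hp4 : p % 4 = 3)
    (R : Subgroup (GL (Fin 4) F)) (hRs : Cfsg.Geo.IsSymplecticTypeGroup 2 R) (hRi : Cfsg.Geo.ActsAbsolutelyIrreducibly (Cfsg.Geo.matrixSet R))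
    (hRU : R ≤ Cfsg.GU 4 F p) (hR6 : Nat.card R = 2 ^ 6) (hRZ : Nat.card (Subgroup.center R) = 4)
    (r : ℕ) [Fact r.Prime]
    (hΩ : r ∣ (Cfsg.Geo.subgroupNormalizer R).relIndex (Cfsg.GU 4 F p ⊓ Cfsg.Geo.specialLinear (Fin 4) F)) :
    (∀ x ∈ Cfsg.GU 4 F p ⊓ Cfsg.Geo.specialLinear (Fin 4) F, (∃ z : F, ((x ^ r : GL (Fin 4) F) : Matrix (Fin 4) (Fin 4) F) = z • (1 : Matrix (Fin 4) (Fin 4) F)) →
      (∀ z : F, (x : Matrix (Fin 4) (Fin 4) F) ≠ z • (1 : Matrix (Fin 4) (Fin 4) F)) →
      ∃ g ∈ Cfsg.GU 4 F p ⊓ Cfsg.Geo.specialLinear (Fin 4) F, g⁻¹ * x * g ∈ Cfsg.Geo.subgroupNormalizer R) ↔ (r = 2 ∨ (r = 3 ∧ p % 3 = 1) ∨ (r = 5 ∧ orderOf (p : ZMod 5) = 4)) := by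
  classical
  haveI : Finite R := Nat.finite_of_card_ne_zero (by omega)
  have hp := (Fact.out : p.Prime)
  have hcast : ∀ n : ℕ, (n : F) = 0 ↔ p ∣ n := fun n => CharP.cast_eq_zero_iff F p n
  obtain ⟨σ, hσ, hσσ⟩ := CfsgLib.FieldEmb.exists_conj hF
  have h2 : (2 : F) ≠ 0 := fun h => by
    have := Nat.le_of_dvd (by norm_num) ((hcast 2).mp (by exact_mod_cast h))
    have := hp.two_le
    omega
  have h3 : p ≠ 3 → (3 : F) ≠ 0 := fun hne h =>
    hne ((Nat.prime_dvd_prime_iff_eq hp Nat.prime_three).mp ((hcast 3).mp (by exact_mod_cast h)))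
  have hp5 : p ≠ 5 := fun e => by omega
  have h5F : (5 : F) ≠ 0 := fun h' =>
    hp5 ((Nat.prime_dvd_prime_iff_eq hp Nat.prime_five).mp ((hcast 5).mp (by exact_mod_cast h')))
  have h : Ctx R := ctx_of_symplecticType h2 (Fintype.card_fin 4) hRs hRi (by omega) (by omega) (by omega)
  have hz : Nat.card (Subgroup.center R) = 2 ∨ Nat.card (Subgroup.center R) = 4 := Or.inr hRZ
  obtain ⟨D⟩ := exists_five_center_four h hRZ
  obtain ⟨I, hI, hII, hIc⟩ := center_four_scalar h hRZ
  have hsf := sform_herm (n := 4) hF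
  have hRiso : ∀ t ∈ R, IsIso (Cfsg.hermForm 4 F p) t := fun t ht => hRU ht
  constructor
  · intro hall
    by_contra hno
    rw [not_or, not_or] at hno
    obtain ⟨hr2, hr3, hr5⟩ := hno
    suffices ∃ x : GL (Fin 4) F, x ∈ Cfsg.GU 4 F p ∧ (x : Matrix (Fin 4) (Fin 4) F).det = 1 ∧ x ^ r = 1 ∧
        (∀ c : F, (x : Matrix (Fin 4) (Fin 4) F) ≠ c • 1) ∧
        ∀ g : GL (Fin 4) F, g⁻¹ * x * g ∉ Cfsg.Geo.subgroupNormalizer R by
      obtain ⟨x, hxU, hxd, hxr, hns, hno⟩ := this
      obtain ⟨g, -, hg⟩ := hall x ⟨hxU, MonoidHom.mem_ker.mpr (Units.ext hxd)⟩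
        ⟨1, by rw [hxr, Units.val_one, one_smul]⟩ hns
      exact hno g hg
    have hrP := (Fact.out : r.Prime)
    rcases (show r = 3 ∨ r = 5 ∨ 7 ≤ r by
      have := hrP.two_le
      rcases (show r = 3 ∨ r = 4 ∨ r = 5 ∨ r = 6 ∨ 7 ≤ r by omega) with h' | rfl | h' | rfl | h'
      · exact Or.inl h'
      · norm_num at hrP
      · exact Or.inr (Or.inl h')
      · norm_num at hrP
      · exact Or.inr (Or.inr h')) with rfl | rfl | hr7
    · by_cases hp' : p = 3
      · subst hp'
        obtain ⟨x, hxU, hxd, hx3, ht, hns⟩ := exists_transvection_three hF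
        exact ⟨x, hxU, hxd, hx3, hns, h.no_conj_transvection ht hns⟩
      -- a homology
      have h3 := h3 hp'
      have hp3 : p % 3 = 2 := by
        have : p % 3 ≠ 1 := fun e => hr3 ⟨rfl, e⟩
        have : p % 3 ≠ 0 := fun e => hp'
          ((Nat.prime_dvd_prime_iff_eq Nat.prime_three hp).mp (Nat.dvd_of_mod_eq_zero e)).symm
        omega
      haveI : Fact (Nat.Prime 3) := ⟨Nat.prime_three⟩
      obtain ⟨u, hu⟩ := exists_prime_orderOf_dvd_card (G := Fˣ) 3 (by
        rw [Fintype.card_units, hF]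
        refine (Nat.modEq_iff_dvd' (Nat.one_le_pow _ _ hp.pos)).mp ?_
        rw [Nat.ModEq, Nat.pow_mod, hp3])
      have hu3 : (u : F) ^ 3 = 1 := by rw [← Units.val_pow_eq_pow_val, ← hu, pow_orderOf_eq_one, Units.val_one]
      have hu1 : (u : F) ≠ 1 := fun e => by rw [show u = 1 from Units.ext e, orderOf_one] at hu; omega
      have hσu : σ (u : F) * u = 1 := by
        rw [hσ, ← pow_succ, ← Nat.div_add_mod (p + 1) 3, pow_add, pow_mul, hu3, one_pow, one_mul,
          show (p + 1) % 3 = 0 by omega, pow_zero]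
      let d : Fin 4 → F := ![(u : F), (u : F), (u : F), 1]
      let d' : Fin 4 → F := ![(u : F) ^ 2, (u : F) ^ 2, (u : F) ^ 2, 1]
      have hdd : Matrix.diagonal d * Matrix.diagonal d' = 1 := by
        rw [Matrix.diagonal_mul_diagonal, ← Matrix.diagonal_one]
        congr 1; funext i; fin_cases i <;> simp [d, d', ← pow_succ', hu3]
      let x : GL (Fin 4) F := ⟨Matrix.diagonal d, Matrix.diagonal d', hdd, mul_eq_one_comm.mp hdd⟩
      have hxv : (x : Matrix (Fin 4) (Fin 4) F) = Matrix.diagonal d := rfl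
      have hns : ∀ c : F, (x : Matrix (Fin 4) (Fin 4) F) ≠ c • 1 := fun c hc => hu1 (by
        have e0 := congrFun (congrFun hc 0) 0
        have e3 := congrFun (congrFun hc 3) 3
        simp [hxv, d] at e0 e3
        rw [e0, e3])
      have hxr : x ^ 3 = 1 := Units.ext (by
        rw [Units.val_pow_eq_pow_val, hxv, Matrix.diagonal_pow, Units.val_one, ← Matrix.diagonal_one]
        congr 1; funext i; fin_cases i <;> simp [d, hu3])
      refine ⟨x, ?_, ?_, hxr, hns, h.no_conj hz (r := 3) (by norm_num) hxr hns fun j hj hmod => ?_⟩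
      · rw [CfsgLib.InvNorm.mem_GU_iff hσ hσσ, hxv, CfsgLib.InvNorm.tau, Matrix.diagonal_map (map_zero σ),
          Matrix.diagonal_transpose, Matrix.diagonal_mul_diagonal, ← Matrix.diagonal_one]
        congr 1; funext i; fin_cases i <;> simp [d, hσu]
      · simp [hxv, d, Matrix.det_diagonal, Fin.prod_univ_four, ← pow_three, hu3, mul_assoc]
      · have hw : (u : F) ^ 2 + (u : F) + 1 = 0 :=
          (mul_eq_zero.mp (show ((u : F) - 1) * ((u : F) ^ 2 + u + 1) = 0 by linear_combination hu3)).resolve_left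
            (sub_ne_zero.mpr hu1)
        have htr : (x : Matrix (Fin 4) (Fin 4) F).trace * ((x⁻¹ : GL (Fin 4) F) : Matrix (Fin 4) (Fin 4) F).trace = 7 := by
          rw [hxv, show ((x⁻¹ : GL (Fin 4) F) : Matrix (Fin 4) (Fin 4) F) = Matrix.diagonal d' from rfl,
            Matrix.trace_diagonal, Matrix.trace_diagonal]
          simp [d, d', Fin.sum_univ_four]
          linear_combination 3 * hw + 9 * hu3
        rw [htr]
        interval_cases j <;> first | (norm_num [Nat.ModEq] at hmod; done) | norm_num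
        all_goals first
          | (intro e; exact mul_ne_zero h2 h3 (by linear_combination e))
          | (intro e; exact h3 (by linear_combination e))
    · -- a rotation in a plane
      have h5 : orderOf (p : ZMod 5) ≠ 4 := fun e => hr5 ⟨rfl, e⟩
      obtain ⟨θ, hθ, n, hn⟩ := exists_theta h2 h5
      letI := ZMod.algebra F p
      set a : F := θ / 2 with ha
      obtain ⟨b, hb⟩ := CfsgLib.FieldEmb.exists_norm_eq (F := ZMod p) (K := F) (ZMod.card p) hF (1 - (n / 2) * (n / 2))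
      have hσn : ∀ k : ZMod p, σ (ZMod.castHom dvd_rfl F k) = ZMod.castHom dvd_rfl F k := fun k =>
        congrFun (congrArg DFunLike.coe
          (Subsingleton.elim (σ.comp (ZMod.castHom dvd_rfl F)) (ZMod.castHom dvd_rfl F))) k
      have ha' : a = ZMod.castHom dvd_rfl F (n / 2) := by rw [ha, hn, map_div₀, map_ofNat]
      have hσa : σ a = a := by rw [ha', hσn]
      rw [← hσ, map_sub, map_one, map_mul] at hb
      replace hb : b * σ b = 1 - a * a := by rw [hb, ha']; rfl
      let A : Matrix (Fin 2) (Fin 2) F := !![a, b; -σ b, a]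
      let A' : Matrix (Fin 2) (Fin 2) F := !![a, -b; σ b, a]
      have hAA' : A * A' = 1 := by
        ext i j; fin_cases i <;> fin_cases j <;> simp [A, A', Matrix.mul_apply, Fin.sum_univ_two] <;>
          first | ring1 | linear_combination hb
      have hθa : θ = 2 * a := by rw [ha]; field_simp
      have hA2 : A * A = θ • A - 1 := by
        ext i j; fin_cases i <;> fin_cases j <;> simp [A, Matrix.mul_apply, Fin.sum_univ_two, hθa] <;>
          first | ring1 | linear_combination (-1 : F) * hb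
      have h4 : emb A * emb A' = 1 := by rw [← emb_mul, hAA', emb_one]
      let x : GL (Fin 4) F := ⟨emb A, emb A', h4, mul_eq_one_comm.mp h4⟩
      have hxr : x ^ 5 = 1 := Units.ext (by
        rw [Units.val_pow_eq_pow_val, Units.val_one]
        show emb A ^ 5 = 1
        rw [emb_pow, theta_pow_five hθ hA2, emb_one])
      have hns : ∀ c : F, (x : Matrix (Fin 4) (Fin 4) F) ≠ c • 1 := fun c hc => by
        have e0 := congrFun (congrFun hc 0) 0
        have e2 := congrFun (congrFun hc 2) 2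
        simp [x, emb, A] at e0 e2
        have : θ = 2 := by rw [hθa, e0, ← e2, mul_one]
        exact h5F (by linear_combination hθ - (θ + 3) * this)
      refine ⟨x, ?_, ?_, hxr, hns, h.no_conj hz (r := 5) (by norm_num) hxr hns fun j hj hmod => ?_⟩
      · rw [CfsgLib.InvNorm.mem_GU_iff hσ hσσ]
        ext i j
        fin_cases i <;> fin_cases j <;>
          simp [x, emb, A, CfsgLib.InvNorm.tau, Matrix.mul_apply, Fin.sum_univ_four, hσa, hσσ] <;>
          first | ring1 | linear_combination hb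
      · show (emb A).det = 1
        rw [det_emb]
        simp [A]
        linear_combination hb
      · rw [show (x : Matrix (Fin 4) (Fin 4) F).trace = θ + 2 by
            simp [x, emb, A, Matrix.trace, Fin.sum_univ_four, hθa]; ring,
          show ((x⁻¹ : GL (Fin 4) F) : Matrix (Fin 4) (Fin 4) F).trace = θ + 2 by
            show (emb A').trace = θ + 2
            simp [emb, A', Matrix.trace, Fin.sum_univ_four, hθa]; ring]
        exact theta_bad hθ h5F j hj hmod
    · obtain ⟨x, hx, hxr, hns, hno⟩ := h.counter_seven hz (G := Cfsg.GU 4 F p ⊓ Cfsg.Geo.specialLinear (Fin 4) F)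
        (fun g hg => congrArg Units.val (MonoidHom.mem_ker.mp hg.2)) hr7 (hΩ.trans (Subgroup.relIndex_dvd_card _ _))
      exact ⟨x, hx.1, congrArg Units.val (MonoidHom.mem_ker.mp hx.2), hxr, hns, hno⟩
  · intro hr x hx ⟨z, hzx⟩ hns
    rw [Units.val_pow_eq_pow_val] at hzx
    obtain ⟨hxU, hxd'⟩ := hx
    have hxd : (x : Matrix (Fin 4) (Fin 4) F).det = 1 := congrArg Units.val (MonoidHom.mem_ker.mp hxd')
    have hz4 : z ^ 4 = 1 := by
      have := congrArg Matrix.det hzx
      rwa [Matrix.det_pow, hxd, one_pow, Matrix.det_smul, Matrix.det_one, mul_one, Fintype.card_fin, eq_comm] at this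
    have hz0 : z ≠ 0 := fun e => by simp [e] at hz4
    have fin : ∀ (x y : GL (Fin 4) F) (N : ℕ), N.Coprime p → x ∈ Cfsg.GU 4 F p → y ∈ Cfsg.GU 4 F p →
        (x : Matrix (Fin 4) (Fin 4) F).det = 1 → (y : Matrix (Fin 4) (Fin 4) F).det = 1 →
        x ^ N = 1 → y ^ N = 1 →
        (x : Matrix (Fin 4) (Fin 4) F).charpoly = (y : Matrix (Fin 4) (Fin 4) F).charpoly →
        y ∈ Cfsg.Geo.subgroupNormalizer R →
        ∃ g ∈ Cfsg.GU 4 F p ⊓ Cfsg.Geo.specialLinear (Fin 4) F, g⁻¹ * x * g ∈ Cfsg.Geo.subgroupNormalizer R := by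
      intro x y N hN hxU hyU hx hy hxN hyN hc hyR
      obtain ⟨g, hg, e⟩ := exists_su_conj hF hxU hyU hx hy hN hxN hyN hc
      exact ⟨g, hg, e ▸ hyR⟩
    have red : ∀ {r : ℕ}, Odd r → (x : Matrix (Fin 4) (Fin 4) F) ^ r = z • 1 →
        (∀ x' : GL (Fin 4) F, x' ∈ Cfsg.GU 4 F p → (x' : Matrix (Fin 4) (Fin 4) F).det = 1 → x' ^ r = 1 →
          (∀ c : F, (x' : Matrix (Fin 4) (Fin 4) F) ≠ c • 1) →
          ∃ g ∈ Cfsg.GU 4 F p ⊓ Cfsg.Geo.specialLinear (Fin 4) F, g⁻¹ * x' * g ∈ Cfsg.Geo.subgroupNormalizer R) →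
        ∃ g ∈ Cfsg.GU 4 F p ⊓ Cfsg.Geo.specialLinear (Fin 4) F, g⁻¹ * x * g ∈ Cfsg.Geo.subgroupNormalizer R := by
      intro r hodd hzx hk
      obtain ⟨c, hc4, -, hcr⟩ := exists_scaled hodd hz4 hzx
      have hcU : (c : F) ^ (p + 1) = 1 := by
        rw [← Nat.div_add_mod (p + 1) 4, pow_add, pow_mul, hc4, one_pow, one_mul, show (p + 1) % 4 = 0 by omega,
          pow_zero]
      obtain ⟨g, hg, hgN⟩ := hk _ (mul_mem (scalarGL_mem hcU) hxU) (by
        rw [smul_val_mul (scalarGL_val c), Matrix.det_smul, hxd, Fintype.card_fin, hc4, mul_one]) hcr (fun d hd => by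
          rw [smul_val_mul (scalarGL_val c)] at hd
          refine hns ((c : F)⁻¹ * d) ?_
          rw [← smul_smul, ← hd, smul_smul, inv_mul_cancel₀ c.ne_zero, one_smul])
      exact ⟨g, hg, conj_of_scaled hgN⟩
    rcases hr with rfl | ⟨rfl, hp3⟩ | ⟨rfl, hp5'⟩
    · -- involutions
      have h24 : (8 : ℕ).Coprime p := by
        rw [show (8 : ℕ) = 2 ^ 3 by norm_num]
        exact Nat.Coprime.pow_left 3 ((Nat.coprime_primes Nat.prime_two hp).mpr (by omega))
      have hx8 : x ^ 8 = 1 := Units.ext (by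
        rw [Units.val_pow_eq_pow_val, show (8 : ℕ) = 2 * 4 by norm_num, pow_mul, hzx, smul_pow, one_pow, hz4,
          one_smul, Units.val_one])
      rw [pow_two] at hzx
      have nsc : ∀ {y : GL (Fin 4) F} {s : GL (Fin 4) F}, s * y = -(y * s) →
          ∀ c : F, (y : Matrix (Fin 4) (Fin 4) F) ≠ c • 1 :=
        fun {y s} hs c hc => h.ne_neg _ ((h.mem_centralizer_of_scalar hc s).symm.trans hs)
      rcases two_spec h2 (Fintype.card_fin 4) hz0 hzx hns with ⟨ht, hd, -⟩ | ⟨μ, hμ, hμ0, ht, hd, -⟩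
      · rw [hxd] at hd
        have hsgn := mul_self_eq_one_iff.mp hd.symm
        obtain ⟨y, hyR, hyy, s, hs⟩ : ∃ y ∈ R, (y : Matrix (Fin 4) (Fin 4) F) * y = z • 1 ∧
            ∃ s, s * y = -(y * s) := by
          rcases hsgn with rfl | rfl
          · exact ⟨D.g 0, D.mem 0, by rw [← Units.val_mul, D.sq, Units.val_one, one_smul], D.g 1,
              D.anti 1 0 (by decide)⟩
          · refine ⟨D.g 0 * D.g 1, R.mul_mem (D.mem 0) (D.mem 1), ?_, D.g 0, ?_⟩
            · rw [← Units.val_mul, neg_one_smul]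
              have : D.g 0 * D.g 1 * (D.g 0 * D.g 1) = -1 := by
                rw [mul_assoc, ← mul_assoc (D.g 1), D.anti 1 0 (by decide), neg_mul, mul_assoc, D.sq, mul_one,
                  mul_neg, D.sq]
              rw [this]; rfl
            · conv_rhs => rw [mul_assoc, D.anti 1 0 (by decide), mul_neg, neg_neg]
        have hty := trace_zero_of_anti h.two hs
        have hdy : (y : Matrix (Fin 4) (Fin 4) F).det = 1 := by
          rcases two_spec h2 (Fintype.card_fin 4) hz0 hyy (nsc hs) with ⟨-, e, -⟩ | ⟨μ, -, hμ0, e, -, -⟩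
          · rw [e, hd]
          · exact absurd (e.symm.trans hty) (mul_ne_zero h2 hμ0)
        have hy8 : y ^ 8 = 1 := Units.ext (by
          rw [Units.val_pow_eq_pow_val, show (8 : ℕ) = 2 * 4 by norm_num, pow_mul, pow_two, hyy, smul_pow, one_pow,
            hz4, one_smul, Units.val_one])
        exact fin x y 8 h24 hxU (hRU hyR) hxd hdy hx8 hy8
          (charpoly_eq_two h2 (Fintype.card_fin 4) hz0 hzx hyy hns (nsc hs) (ht.trans hty.symm))
          (Subgroup.le_normalizer hyR)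
      · have hμU : μ ^ (p + 1) = 1 := by
          have e := (CfsgLib.InvNorm.mem_GU_iff hσ hσσ x).1 hxU
          have e2 : z • CfsgLib.InvNorm.tau σ (x : Matrix (Fin 4) (Fin 4) F) = (x : Matrix (Fin 4) (Fin 4) F) := by
            have := congrArg (fun M => M * (x : Matrix (Fin 4) (Fin 4) F)) e
            simp only [mul_assoc, hzx, Matrix.mul_smul, mul_one, one_mul] at this
            exact this
          have e3 := congrArg Matrix.trace e2
          rw [Matrix.trace_smul, CfsgLib.InvNorm.tau, Matrix.trace_transpose, ← AddMonoidHom.map_trace, ht, map_mul,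
            map_ofNat, hσ, smul_eq_mul, ← hμ] at e3
          rw [pow_succ]
          exact mul_left_cancel₀ (mul_ne_zero h2 hμ0) (by linear_combination e3)
        obtain ⟨y₀, hy₀N, hy₀, hy₀t, hy₀ns, hy₀iso⟩ := exists_reflection h D hI hII hIc
        set y := scalarGL (Units.mk0 μ hμ0) * y₀ with hy
        have hyv : (y : Matrix (Fin 4) (Fin 4) F) = μ • (y₀ : Matrix (Fin 4) (Fin 4) F) := smul_val_mul (scalarGL_val _)
        have hyy : (y : Matrix (Fin 4) (Fin 4) F) * y = z • 1 := by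
          rw [hyv, Matrix.smul_mul, Matrix.mul_smul, smul_smul, hμ,
            show (y₀ : Matrix (Fin 4) (Fin 4) F) * y₀ = 1 from congrArg Units.val hy₀]
        have hyt : (y : Matrix (Fin 4) (Fin 4) F).trace = 2 * μ := by
          rw [hyv, Matrix.trace_smul, hy₀t, smul_eq_mul, mul_comm]
        have hyns : ∀ c : F, (y : Matrix (Fin 4) (Fin 4) F) ≠ c • 1 := fun c hc => hy₀ns (μ⁻¹ * c) (by
          rw [← smul_smul, ← hc, hyv, smul_smul, inv_mul_cancel₀ hμ0, one_smul])
        have hdy : (y : Matrix (Fin 4) (Fin 4) F).det = 1 := by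
          rcases two_spec h2 (Fintype.card_fin 4) hz0 hyy hyns with ⟨e, -, -⟩ | ⟨μ', -, -, -, e, -⟩
          · exact absurd (hyt.symm.trans e) (mul_ne_zero h2 hμ0)
          · rw [e, ← hd, hxd]
        have hy8 : y ^ 8 = 1 := Units.ext (by
          rw [Units.val_pow_eq_pow_val, show (8 : ℕ) = 2 * 4 by norm_num, pow_mul, pow_two, hyy, smul_pow, one_pow,
            hz4, one_smul, Units.val_one])
        exact fin x y 8 h24 hxU (mul_mem (scalarGL_mem hμU) (hy₀iso _ hsf hRiso)) hxd hdy hx8 hy8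
          (charpoly_eq_two h2 (Fintype.card_fin 4) hz0 hzx hyy hns hyns (ht.trans hyt.symm))
          (mul_mem (mem_normalizer_of_comm (scalarGL_comm _)) hy₀N)
    · -- order three
      refine red (by decide) hzx fun x hxU hxd hx3 hns => ?_
      have h3 := h3 (fun e => by omega)
      have hx3' : (x : Matrix (Fin 4) (Fin 4) F) ^ 3 = 1 := by rw [← Units.val_pow_eq_pow_val, hx3, Units.val_one]
      have hcl : ∀ (y : GL (Fin 4) F), y ∈ Cfsg.GU 4 F p → (y : Matrix (Fin 4) (Fin 4) F) ^ 3 = 1 →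
          ∀ a ∈ eigs (y : Matrix (Fin 4) (Fin 4) F), a ^ 2 ∈ eigs (y : Matrix (Fin 4) (Fin 4) F) := by
        intro y hyU hy a ha
        have ha3 : a ^ 3 = 1 := by rw [eigs_pow_eq (hy.trans (one_smul F _).symm) ha, map_one]
        have := eigs_pow_inv hF hyU ha
        rwa [show a⁻¹ = a ^ 2 from inv_eq_of_mul_eq_one_right (by rw [← pow_succ', ha3]), ← pow_mul,
          ← Nat.div_add_mod (2 * p) 3, pow_add, pow_mul, ha3, one_pow, one_mul,
          show 2 * p % 3 = 2 by omega] at this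
      have h3p : (3 : ℕ).Coprime p := (Nat.coprime_primes Nat.prime_three hp).mpr (by omega)
      obtain ⟨w, -, ⟨ht, -⟩ | ⟨ht, -⟩⟩ := three_spec h3 (Fintype.card_fin 4) hx3' hxd hns (hcl x hxU hx3')
      · obtain ⟨y, hyN, hyd, hy3, hyt, hyns, hyiso⟩ := exists_three' h D hI hII hIc
        have hy3' : (y : Matrix (Fin 4) (Fin 4) F) ^ 3 = 1 := by rw [← Units.val_pow_eq_pow_val, hy3, Units.val_one]
        exact fin x y 3 h3p hxU (hyiso _ hsf hRiso) hxd hyd hx3 hy3 (charpoly_eq_three h3 (Fintype.card_fin 4) hx3'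
          hy3' hxd hyd hns hyns (hcl x hxU hx3') (hcl y (hyiso _ hsf hRiso) hy3') (ht.trans hyt.symm)) hyN
      · obtain ⟨y, hyN, hyd, hy3, hyt, hyns, hyiso⟩ := exists_three h D
        have hy3' : (y : Matrix (Fin 4) (Fin 4) F) ^ 3 = 1 := by rw [← Units.val_pow_eq_pow_val, hy3, Units.val_one]
        exact fin x y 3 h3p hxU (hyiso _ hsf hRiso) hxd hyd hx3 hy3 (charpoly_eq_three h3 (Fintype.card_fin 4) hx3'
          hy3' hxd hyd hns hyns (hcl x hxU hx3') (hcl y (hyiso _ hsf hRiso) hy3') (ht.trans hyt.symm)) hyN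
    · -- order five
      refine red (by decide) hzx fun x hxU hxd hx5 hns => ?_
      have hp2 : p % 5 = 2 ∨ p % 5 = 3 := by
        have key : ∀ a : ZMod 5, a ^ 4 = 1 → a ^ 2 ≠ 1 → a.val = 2 ∨ a.val = 3 := by decide +revert
        have := key (p : ZMod 5) (hp5' ▸ pow_orderOf_eq_one _)
          (pow_ne_one_of_lt_orderOf (by norm_num) (by omega))
        rwa [ZMod.val_natCast] at this
      have hcl : ∀ (y : GL (Fin 4) F), y ∈ Cfsg.GU 4 F p → (y : Matrix (Fin 4) (Fin 4) F) ^ 5 = 1 →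
          ∀ a ∈ eigs (y : Matrix (Fin 4) (Fin 4) F), a ^ 2 ∈ eigs (y : Matrix (Fin 4) (Fin 4) F) := by
        intro y hyU hy a ha
        have ha5 : ∀ a ∈ eigs (y : Matrix (Fin 4) (Fin 4) F), a ^ 5 = 1 := fun a ha => by
          rw [eigs_pow_eq (hy.trans (one_smul F _).symm) ha, map_one]
        have step : ∀ a ∈ eigs (y : Matrix (Fin 4) (Fin 4) F), a ^ (4 * p % 5) ∈ eigs (y : Matrix (Fin 4) (Fin 4) F) :=
          fun a ha => by
            have := eigs_pow_inv hF hyU ha
            rwa [show a⁻¹ = a ^ 4 from inv_eq_of_mul_eq_one_right (by rw [← pow_succ', ha5 a ha]), ← pow_mul,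
              ← Nat.div_add_mod (4 * p) 5, pow_add, pow_mul, ha5 a ha, one_pow, one_mul] at this
        rcases hp2 with e | e
        · rw [show 4 * p % 5 = 3 by omega] at step
          have := step _ (step _ (step a ha))
          rwa [← pow_mul, ← pow_mul, show 3 * 3 * 3 = 5 * 5 + 2 by norm_num, pow_add, pow_mul, ha5 a ha, one_pow,
            one_mul] at this
        · rw [show 4 * p % 5 = 2 by omega] at step
          exact step a ha
      obtain ⟨y, hyN, hyd, hy5, hyns, hyiso⟩ := exists_order_five h D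
      have hx5' : (x : Matrix (Fin 4) (Fin 4) F) ^ 5 = 1 := by rw [← Units.val_pow_eq_pow_val, hx5, Units.val_one]
      have hy5' : (y : Matrix (Fin 4) (Fin 4) F) ^ 5 = 1 := by rw [← Units.val_pow_eq_pow_val, hy5, Units.val_one]
      exact fin x y 5 ((Nat.coprime_primes Nat.prime_five hp).mpr (by omega)) hxU (hyiso _ hsf hRiso) hxd hyd hx5 hy5
        (charpoly_eq_five h5F (Fintype.card_fin 4) hx5' hy5' hns hyns (hcl x hxU hx5') (hcl y (hyiso _ hsf hRiso) hy5'))
        hyN

end Cfsg.Agent.S6001
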