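import Cfsg.Statements.S6002
import Cfsg.Agent.SympFour.Common
import Cfsg.Agent.S2589
import Cfsg.Agent.Forms.Symplectic

set_option autoImplicit false
open scoped MatrixGroups
open Cfsg

namespace Cfsg.Agent.S6002

open CfsgLib.SympFour Matrix

variable {K : Type*} [Field K]

local notation "ι₄" => Fin 2 ⊕ Fin 2

theorem mem_spGL_iff {x : GL (Fin 2 ⊕ Fin 2) K} :
    x ∈ Cfsg.spGL 2 K ↔ (x : Matrix (Fin 2 ⊕ Fin 2) (Fin 2 ⊕ Fin 2) K) ∈ Matrix.symplecticGroup (Fin 2) K :=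
  CfsgLib.Forms.mem_symplecticGroup_iff_form.symm

theorem spGL_det {x : GL (Fin 2 ⊕ Fin 2) K} (hx : x ∈ Cfsg.spGL 2 K) :
    (x : Matrix (Fin 2 ⊕ Fin 2) (Fin 2 ⊕ Fin 2) K).det = 1 := SymplecticGroup.det_eq_one (mem_spGL_iff.mp hx)

theorem exists_sp_conj [Fintype K] {p : ℕ} [Fact p.Prime] [CharP K p] {x y : GL (Fin 2 ⊕ Fin 2) K}
    (hx : x ∈ Cfsg.spGL 2 K) (hy : y ∈ Cfsg.spGL 2 K)
    {N : ℕ} (hN : N.Coprime p) (hxN : x ^ N = 1) (hyN : y ^ N = 1)
    (hc : (x : Matrix (Fin 2 ⊕ Fin 2) (Fin 2 ⊕ Fin 2) K).charpoly =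
      (y : Matrix (Fin 2 ⊕ Fin 2) (Fin 2 ⊕ Fin 2) K).charpoly) :
    ∃ g ∈ Cfsg.spGL 2 K, g⁻¹ * x * g = y := by
  let X : Matrix.symplecticGroup (Fin 2) K := ⟨(x : Matrix (Fin 2 ⊕ Fin 2) (Fin 2 ⊕ Fin 2) K), mem_spGL_iff.mp hx⟩
  let Y : Matrix.symplecticGroup (Fin 2) K := ⟨(y : Matrix (Fin 2 ⊕ Fin 2) (Fin 2 ⊕ Fin 2) K), mem_spGL_iff.mp hy⟩
  let ψ : Matrix.symplecticGroup (Fin 2) K →* GL (Fin 2 ⊕ Fin 2) K :=
    (Matrix.symplecticGroup (Fin 2) K).subtype.toHomUnits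
  have hψ : Function.Injective ψ := fun a b e => Subtype.ext (congrArg Units.val e :)
  have hX : ψ X = x := Units.ext rfl
  have hY : ψ Y = y := Units.ext rfl
  have hgl := CfsgLib.CharpolySS.isConj_GL_of_charpoly_eq (p := p) x y (orderOf_coprime hxN hN)
    (orderOf_coprime hyN hN) hc
  obtain ⟨P, hP⟩ := isConj_iff.mp ((Cfsg.Agent.S2589.result X Y
    (orderOf_coprime (hψ (by rw [map_pow, map_one, hX, hxN])) hN)).mpr ((Units.coeHom _).map_isConj hgl))
  refine ⟨(ψ P)⁻¹, inv_mem (mem_spGL_iff.mpr P.2), ?_⟩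
  rw [inv_inv, ← hX, ← hY, ← map_inv, ← map_mul, ← map_mul, hP]

theorem scalarGL_mem {c : Kˣ} (hc : (c : K) * c = 1) :
    (CfsgLib.SympFour.scalarGL c : GL (Fin 2 ⊕ Fin 2) K) ∈ Cfsg.spGL 2 K := by
  intro u v
  show Cfsg.sympForm 2 K (((c : K) • (1 : Matrix (Fin 2 ⊕ Fin 2) (Fin 2 ⊕ Fin 2) K)) *ᵥ u)
    (((c : K) • (1 : Matrix (Fin 2 ⊕ Fin 2) (Fin 2 ⊕ Fin 2) K)) *ᵥ v) = _
  simp [Cfsg.sympForm, Matrix.smul_mulVec, Matrix.mulVec_smul, smul_smul, hc, smul_dotProduct, dotProduct_smul,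
    ← mul_assoc]

theorem scalar_sq_one {x : GL (Fin 2 ⊕ Fin 2) K} (hx : x ∈ Cfsg.spGL 2 K) {z : K}
    (hz : (x : Matrix (Fin 2 ⊕ Fin 2) (Fin 2 ⊕ Fin 2) K) = z • 1) : z * z = 1 := by
  have e : Cfsg.sympForm 2 K ((x : Matrix (Fin 2 ⊕ Fin 2) (Fin 2 ⊕ Fin 2) K) *ᵥ Pi.single (Sum.inl 0) 1)
      ((x : Matrix (Fin 2 ⊕ Fin 2) (Fin 2 ⊕ Fin 2) K) *ᵥ Pi.single (Sum.inr 0) 1) =
      Cfsg.sympForm 2 K (Pi.single (Sum.inl 0) 1) (Pi.single (Sum.inr 0) 1) := hx _ _
  rw [hz, Matrix.smul_mulVec, Matrix.smul_mulVec, Matrix.one_mulVec, Matrix.one_mulVec] at e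
  simp [Cfsg.sympForm, Matrix.J, Matrix.mulVec_smul, smul_dotProduct, dotProduct_smul] at e
  exact e

/-- A two by two block on the first hyperbolic pair. -/
def emb (A : Matrix (Fin 2) (Fin 2) K) : Matrix (Fin 2 ⊕ Fin 2) (Fin 2 ⊕ Fin 2) K :=
  Matrix.fromBlocks !![A 0 0, 0; 0, 1] !![A 0 1, 0; 0, 0] !![A 1 0, 0; 0, 0] !![A 1 1, 0; 0, 1]

theorem emb_mul (A B : Matrix (Fin 2) (Fin 2) K) : emb (A * B) = emb A * emb B := by
  rw [emb, emb, emb, Matrix.fromBlocks_multiply]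
  congr 1 <;> ext i j <;> fin_cases i <;> fin_cases j <;> simp [Matrix.mul_apply, Fin.sum_univ_two]

theorem emb_one : emb (1 : Matrix (Fin 2) (Fin 2) K) = 1 := by
  rw [emb, ← Matrix.fromBlocks_one]
  congr 1 <;> ext i j <;> fin_cases i <;> fin_cases j <;> simp

theorem emb_pow (A : Matrix (Fin 2) (Fin 2) K) (n : ℕ) : emb A ^ n = emb (A ^ n) := by
  induction n with
  | zero => simp [emb_one]
  | succ n ih => rw [pow_succ, pow_succ, ih, emb_mul]

theorem emb_trace (A : Matrix (Fin 2) (Fin 2) K) : (emb A).trace = A 0 0 + A 1 1 + 2 := by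
  simp [emb, Matrix.trace, Fintype.sum_sum_type, Fin.sum_univ_two]
  ring

theorem exists_emb {A A' : Matrix (Fin 2) (Fin 2) K} (hA : A * A' = 1) (hdet : A.det = 1) :
    ∃ x : GL (Fin 2 ⊕ Fin 2) K, x ∈ Cfsg.spGL 2 K ∧
      (x : Matrix (Fin 2 ⊕ Fin 2) (Fin 2 ⊕ Fin 2) K) = emb A ∧
      ((x⁻¹ : GL (Fin 2 ⊕ Fin 2) K) : Matrix (Fin 2 ⊕ Fin 2) (Fin 2 ⊕ Fin 2) K) = emb A' := by
  have h4 : emb A * emb A' = 1 := by rw [← emb_mul, hA, emb_one]
  refine ⟨⟨emb A, emb A', h4, mul_eq_one_comm.mp h4⟩, mem_spGL_iff.mpr ?_, rfl, rfl⟩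
  rw [Matrix.det_fin_two] at hdet
  show emb A ∈ _
  rw [SymplecticGroup.mem_iff]
  ext i j
  rcases i with i | i <;> rcases j with j | j <;> fin_cases i <;> fin_cases j <;>
    simp [emb, Matrix.J, Matrix.mul_apply, Fintype.sum_sum_type, Fin.sum_univ_two] <;>
    first | ring1 | linear_combination hdet | linear_combination -hdet

/-- A symplectic transvection. -/
theorem exists_transvection {p : ℕ} [CharP K p] :
    ∃ x : GL (Fin 2 ⊕ Fin 2) K, x ∈ Cfsg.spGL 2 K ∧ x ^ p = 1 ∧ IsTransv x ∧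
      ∀ d : K, (x : Matrix (Fin 2 ⊕ Fin 2) (Fin 2 ⊕ Fin 2) K) ≠ d • 1 := by
  obtain ⟨x, hx, hv, -⟩ := exists_emb (A := !![(1 : K), 1; 0, 1]) (A' := !![1, -1; 0, 1])
    (by ext i j; fin_cases i <;> fin_cases j <;> simp [Matrix.mul_apply, Fin.sum_univ_two])
    (by simp [Matrix.det_fin_two])
  refine ⟨x, hx, Units.ext ?_, ⟨Pi.single (Sum.inl 0) 1, Pi.single (Sum.inr 0) 1, by simp, ?_⟩, fun d hd => ?_⟩
  · have key : ∀ n : ℕ, !![(1 : K), 1; 0, 1] ^ n = !![1, (n : K); 0, 1] := by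
      intro n
      induction n with
      | zero => ext i j; fin_cases i <;> fin_cases j <;> simp
      | succ n ih =>
        rw [pow_succ, ih]
        ext i j; fin_cases i <;> fin_cases j <;> simp [Matrix.mul_apply, Fin.sum_univ_two, add_comm]
    rw [Units.val_pow_eq_pow_val, hv, emb_pow, key, CharP.cast_eq_zero, Units.val_one, ← emb_one]
    congr 1
    ext i j; fin_cases i <;> fin_cases j <;> simp
  · rw [hv]
    ext i j
    rcases i with i | i <;> rcases j with j | j <;> fin_cases i <;> fin_cases j <;>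
      simp [emb, Matrix.vecMulVec_apply]
  · have e0 := congrFun (congrFun hd (Sum.inl 0)) (Sum.inr 0)
    simp [hv, emb] at e0

/-- Elements of prime order of PSp_4(p), p odd, and the normalizer of an extraspecial 2-group of order 2⁵ of minus type. Here `T = PSp_4(F)` for the field `F` with `p` elements, `p` an odd prime, realised through the matrices preserving the standard alternating form `f`; `R` is an absolutely irreducible subgroup of `T` (it preserves `f`) that is a 2-group of symplectic type of exponent 4, order 2⁵ and centre of order 2, of minus type (no elementary abelian subgroup of order 2³), and `H` is the subgroup of `T` normalizing `R` — a subgroup of type 2^{1+4}.O₄⁻(2) (maximality is not assumed). Ω is the set of cosets of `H` in `T`, so an element of `T` of prime order `r` (`x ∈ T` with `x^r` scalar, `x` not scalar) fixes a point of Ω exactly when some `T`-conjugate of `x` normalizes `R`. Let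 `r` be a prime dividing the index of `H`. Then every element of `T` of order `r` fixes a point of Ω if and only if `r = 2`, or `r = 5` and `p` has multiplicative order 4 modulo 5. -/
theorem result {F : Type*} [Field F] [Fintype F] {p : ℕ} [Fact p.Prime] [CharP F p] (hF : Fintype.card F = p) (hodd : Odd p)
    (R : Subgroup (GL (Fin 2 ⊕ Fin 2) F)) (hRs : Cfsg.Geo.IsSymplecticTypeGroup 2 R) (hRi : Cfsg.Geo.ActsAbsolutelyIrreducibly (Cfsg.Geo.matrixSet R))
    (hRf : R ≤ Cfsg.spGL 2 F) (hR5 : Nat.card R = 2 ^ 5) (hRZ : Nat.card (Subgroup.center R) = 2) (hRm : Cfsg.Geo.IsOfMinusType 2 R)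
    (r : ℕ) [Fact r.Prime]
    (hΩ : r ∣ (Cfsg.Geo.subgroupNormalizer R).relIndex (Cfsg.spGL 2 F)) :
    (∀ x ∈ Cfsg.spGL 2 F, (∃ z : F, ((x ^ r : GL (Fin 2 ⊕ Fin 2) F) : Matrix (Fin 2 ⊕ Fin 2) (Fin 2 ⊕ Fin 2) F) = z • (1 : Matrix (Fin 2 ⊕ Fin 2) (Fin 2 ⊕ Fin 2) F)) →
      (∀ z : F, (x : Matrix (Fin 2 ⊕ Fin 2) (Fin 2 ⊕ Fin 2) F) ≠ z • (1 : Matrix (Fin 2 ⊕ Fin 2) (Fin 2 ⊕ Fin 2) F)) →
      ∃ g ∈ Cfsg.spGL 2 F, g⁻¹ * x * g ∈ Cfsg.Geo.subgroupNormalizer R) ↔ (r = 2 ∨ (r = 5 ∧ orderOf (p : ZMod 5) = 4)) := by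
  classical
  haveI : Finite R := Nat.finite_of_card_ne_zero (by omega)
  have hp := (Fact.out : p.Prime)
  have hcast : ∀ n : ℕ, (n : F) = 0 ↔ p ∣ n := fun n => CharP.cast_eq_zero_iff F p n
  have h2p : p ≠ 2 := fun e => by subst e; exact absurd hodd (by decide)
  have h2 : (2 : F) ≠ 0 := fun h => by
    have := Nat.le_of_dvd (by norm_num) ((hcast 2).mp (by exact_mod_cast h))
    have := hp.two_le
    omega
  have h3F : p ≠ 3 → (3 : F) ≠ 0 := fun hne h =>
    hne ((Nat.prime_dvd_prime_iff_eq hp Nat.prime_three).mp ((hcast 3).mp (by exact_mod_cast h)))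
  have h5F : p ≠ 5 → (5 : F) ≠ 0 := fun hne h' =>
    hne ((Nat.prime_dvd_prime_iff_eq hp Nat.prime_five).mp ((hcast 5).mp (by exact_mod_cast h')))
  have hcard : Fintype.card (Fin 2 ⊕ Fin 2) = 4 := rfl
  have h : Ctx R := ctx_of_symplecticType h2 hcard hRs hRi (by omega) (by omega) (by omega)
  have hz : Nat.card (Subgroup.center R) = 2 ∨ Nat.card (Subgroup.center R) = 4 := Or.inl hRZ
  obtain ⟨D⟩ := exists_five_minus h hRm
  constructor
  · intro hall
    by_contra hno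
    rw [not_or] at hno
    obtain ⟨hr2, hr5⟩ := hno
    suffices ∃ x : GL (Fin 2 ⊕ Fin 2) F, x ∈ Cfsg.spGL 2 F ∧ x ^ r = 1 ∧
        (∀ c : F, (x : Matrix (Fin 2 ⊕ Fin 2) (Fin 2 ⊕ Fin 2) F) ≠ c • 1) ∧
        ∀ g : GL (Fin 2 ⊕ Fin 2) F, g⁻¹ * x * g ∉ Cfsg.Geo.subgroupNormalizer R by
      obtain ⟨x, hxS, hxr, hns, hno⟩ := this
      obtain ⟨g, -, hg⟩ := hall x hxS ⟨1, by rw [hxr, Units.val_one, one_smul]⟩ hns
      exact hno g hg
    have hrP := (Fact.out : r.Prime)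
    rcases (show r = 3 ∨ r = 5 ∨ 7 ≤ r by
      have := hrP.two_le
      rcases (show r = 3 ∨ r = 4 ∨ r = 5 ∨ r = 6 ∨ 7 ≤ r by omega) with h' | rfl | h' | rfl | h'
      · exact Or.inl h'
      · norm_num at hrP
      · exact Or.inr (Or.inl h')
      · norm_num at hrP
      · exact Or.inr (Or.inr h')) with rfl | rfl | hr7
    · by_cases hp' : p = 3
      · subst hp'
        obtain ⟨x, hxS, hx3, ht, hns⟩ := exists_transvection (K := F) (p := 3)
        exact ⟨x, hxS, hx3, hns, h.no_conj_transvection ht hns⟩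
      -- order three on one hyperbolic pair
      have h3 := h3F hp'
      obtain ⟨x, hxS, hxv, hxi⟩ := exists_emb (A := !![(-1 : F), -1; 1, 0]) (A' := !![0, 1; -1, -1])
        (by ext i j; fin_cases i <;> fin_cases j <;> simp [Matrix.mul_apply, Fin.sum_univ_two])
        (by simp [Matrix.det_fin_two])
      have hns : ∀ c : F, (x : Matrix (Fin 2 ⊕ Fin 2) (Fin 2 ⊕ Fin 2) F) ≠ c • 1 := fun c hc => by
        have e0 := congrFun (congrFun hc (Sum.inr 0)) (Sum.inl 0)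
        simp [hxv, emb] at e0
      have hxr : x ^ 3 = 1 := Units.ext (by
        rw [Units.val_pow_eq_pow_val, hxv, emb_pow, Units.val_one, ← emb_one]
        congr 1
        rw [pow_succ, pow_two]
        ext i j; fin_cases i <;> fin_cases j <;> simp [Matrix.mul_apply, Fin.sum_univ_two])
      refine ⟨x, hxS, hxr, hns, fun g hN => ?_⟩
      have hyr : (g⁻¹ * x * g) ^ 3 = 1 := by
        rw [show g⁻¹ * x * g = g⁻¹ * x * (g⁻¹)⁻¹ by rw [inv_inv], conj_pow, hxr, mul_one, mul_inv_cancel]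
      obtain ⟨j, hj, hc, hmod, htr, hsc⟩ := h.fixedIndex hz hN (r := 3) (by norm_num) hyr
      have hpos := h.fixedIndex_pos D hRZ hN hyr
      rw [_root_.mul_inv_rev, _root_.mul_inv_rev, inv_inv, ← mul_assoc g⁻¹ x⁻¹ g] at htr
      simp only [Units.val_mul] at htr
      rw [Matrix.trace_units_conj', Matrix.trace_units_conj', hxv, hxi, emb_trace, emb_trace] at htr
      interval_cases j
      · rw [hc, pow_zero, one_mul] at hpos; exact lt_irrefl _ hpos
      all_goals first | (norm_num [Nat.ModEq] at hmod; done) | skip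
      · norm_num at htr
        exact h3 (by linear_combination -htr)
      · obtain ⟨c, hc'⟩ := hsc rfl
        exact nonscalar_conj hns c hc'
    · have h5 : orderOf (p : ZMod 5) ≠ 4 := fun e => hr5 ⟨rfl, e⟩
      by_cases hp' : p = 5
      · subst hp'
        obtain ⟨x, hxS, hx5, ht, hns⟩ := exists_transvection (K := F) (p := 5)
        exact ⟨x, hxS, hx5, hns, h.no_conj_transvection ht hns⟩
      have h5F := h5F hp'
      obtain ⟨θ, hθ, -⟩ := exists_theta h2 h5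
      have hA2 : !![θ, -1; 1, 0] * !![θ, -1; 1, 0] = θ • !![θ, -1; 1, 0] - (1 : Matrix (Fin 2) (Fin 2) F) := by
        ext i j; fin_cases i <;> fin_cases j <;> simp [Matrix.mul_apply, Fin.sum_univ_two] <;> ring
      obtain ⟨x, hxS, hxv, hxi⟩ := exists_emb (A := !![θ, -1; 1, 0]) (A' := !![0, 1; -1, θ])
        (by ext i j; fin_cases i <;> fin_cases j <;> simp [Matrix.mul_apply, Fin.sum_univ_two])
        (by simp [Matrix.det_fin_two])
      have hns : ∀ c : F, (x : Matrix (Fin 2 ⊕ Fin 2) (Fin 2 ⊕ Fin 2) F) ≠ c • 1 := fun c hc => by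
        have e0 := congrFun (congrFun hc (Sum.inr 0)) (Sum.inl 0)
        simp [hxv, emb] at e0
      have hxr : x ^ 5 = 1 := Units.ext (by
        rw [Units.val_pow_eq_pow_val, hxv, emb_pow, theta_pow_five hθ hA2, emb_one, Units.val_one])
      refine ⟨x, hxS, hxr, hns, h.no_conj hz (r := 5) (by norm_num) hxr hns fun j hj hmod => ?_⟩
      rw [hxv, hxi, emb_trace, emb_trace]
      simpa using theta_bad hθ h5F j hj hmod
    · obtain ⟨x, hx, hxr, hns, hno⟩ := h.counter_seven hz (G := Cfsg.spGL 2 F) (fun g hg => spGL_det hg) hr7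
        (hΩ.trans (Subgroup.relIndex_dvd_card _ _))
      exact ⟨x, hx, hxr, hns, hno⟩
  · intro hr x hxS ⟨z, hzx⟩ hns
    have hz2 : z * z = 1 := scalar_sq_one (pow_mem hxS r) hzx
    rw [Units.val_pow_eq_pow_val] at hzx
    have hxd := spGL_det hxS
    rcases hr with rfl | ⟨rfl, hp5⟩
    · -- involutions
      have h4p : (4 : ℕ).Coprime p := by
        rw [show (4 : ℕ) = 2 ^ 2 by norm_num]
        exact Nat.Coprime.pow_left 2 ((Nat.coprime_primes Nat.prime_two hp).mpr (Ne.symm h2p))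
      have hz0 : z ≠ 0 := fun e => by simp [e] at hz2
      rw [pow_two] at hzx
      have four : ∀ w : GL (Fin 2 ⊕ Fin 2) F,
          (w : Matrix (Fin 2 ⊕ Fin 2) (Fin 2 ⊕ Fin 2) F) * (w : Matrix (Fin 2 ⊕ Fin 2) (Fin 2 ⊕ Fin 2) F) = z • 1 →
          w ^ 4 = 1 := fun w hw => Units.ext (by
        rw [Units.val_pow_eq_pow_val, show (4 : ℕ) = 2 * 2 by norm_num, pow_mul, pow_two, pow_two, hw, Matrix.smul_mul,
          Matrix.mul_smul, smul_smul, hz2, one_smul, one_mul, Units.val_one])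
      have t0 : ∀ w : GL (Fin 2 ⊕ Fin 2) F, (w : Matrix (Fin 2 ⊕ Fin 2) (Fin 2 ⊕ Fin 2) F).det = 1 →
          (w : Matrix (Fin 2 ⊕ Fin 2) (Fin 2 ⊕ Fin 2) F) * (w : Matrix (Fin 2 ⊕ Fin 2) (Fin 2 ⊕ Fin 2) F) = z • 1 →
          (∀ c : F, (w : Matrix (Fin 2 ⊕ Fin 2) (Fin 2 ⊕ Fin 2) F) ≠ c • 1) →
          (w : Matrix (Fin 2 ⊕ Fin 2) (Fin 2 ⊕ Fin 2) F).trace = 0 := by
        intro w hwd hw hwn
        rcases two_spec h2 hcard hz0 hw hwn with ⟨e, -, -⟩ | ⟨μ, -, -, -, e, -⟩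
        · exact e
        · rw [hwd, hz2] at e
          exact absurd (by linear_combination e) h2
      obtain ⟨y, hyR, hyy, s, hs⟩ : ∃ y ∈ R,
          (y : Matrix (Fin 2 ⊕ Fin 2) (Fin 2 ⊕ Fin 2) F) * y = z • 1 ∧ ∃ s, s * y = -(y * s) := by
        rcases mul_self_eq_one_iff.mp hz2 with rfl | rfl
        · exact ⟨D.g 0, D.mem 0, by rw [← Units.val_mul, D.sq, Units.val_one, one_smul], D.g 1,
            D.anti 1 0 (by decide)⟩
        · refine ⟨D.g 0 * D.g 1, R.mul_mem (D.mem 0) (D.mem 1), ?_, D.g 0, ?_⟩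
          · rw [← Units.val_mul, neg_one_smul]
            have : D.g 0 * D.g 1 * (D.g 0 * D.g 1) = -1 := by
              rw [mul_assoc, ← mul_assoc (D.g 1), D.anti 1 0 (by decide), neg_mul, mul_assoc, D.sq, mul_one,
                mul_neg, D.sq]
            rw [this]; rfl
          · conv_rhs => rw [mul_assoc, D.anti 1 0 (by decide), mul_neg, neg_neg]
      have hyns : ∀ c : F, (y : Matrix (Fin 2 ⊕ Fin 2) (Fin 2 ⊕ Fin 2) F) ≠ c • 1 := fun c hc =>
        h.ne_neg _ ((h.mem_centralizer_of_scalar hc s).symm.trans hs)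
      obtain ⟨g, hg, e⟩ := exists_sp_conj hxS (hRf hyR) h4p (four x hzx) (four y hyy)
        (charpoly_eq_two h2 hcard hz0 hzx hyy hns hyns
          ((t0 x hxd hzx hns).trans (t0 y (spGL_det (hRf hyR)) hyy hyns).symm))
      exact ⟨g, hg, e ▸ Subgroup.le_normalizer hyR⟩
    · -- order five
      have hp2 : p % 5 = 2 ∨ p % 5 = 3 := by
        have key : ∀ a : ZMod 5, a ^ 4 = 1 → a ^ 2 ≠ 1 → a.val = 2 ∨ a.val = 3 := by decide +revert
        have := key (p : ZMod 5) (hp5 ▸ pow_orderOf_eq_one _)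
          (pow_ne_one_of_lt_orderOf (by norm_num) (by omega))
        rwa [ZMod.val_natCast] at this
      have hp5' : p ≠ 5 := fun e => by omega
      have h5F := h5F hp5'
      have hcl : ∀ (w : GL (Fin 2 ⊕ Fin 2) F), (w : Matrix (Fin 2 ⊕ Fin 2) (Fin 2 ⊕ Fin 2) F) ^ 5 = 1 →
          ∀ a ∈ eigs (w : Matrix (Fin 2 ⊕ Fin 2) (Fin 2 ⊕ Fin 2) F),
            a ^ 2 ∈ eigs (w : Matrix (Fin 2 ⊕ Fin 2) (Fin 2 ⊕ Fin 2) F) := by
        intro w hw a ha
        have ha5 : ∀ a ∈ eigs (w : Matrix (Fin 2 ⊕ Fin 2) (Fin 2 ⊕ Fin 2) F), a ^ 5 = 1 := fun a ha => by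
          rw [eigs_pow_eq (hw.trans (one_smul F _).symm) ha, map_one]
        have step : ∀ a ∈ eigs (w : Matrix (Fin 2 ⊕ Fin 2) (Fin 2 ⊕ Fin 2) F),
            a ^ (p % 5) ∈ eigs (w : Matrix (Fin 2 ⊕ Fin 2) (Fin 2 ⊕ Fin 2) F) := fun a ha => by
          have := eigs_pow_card ha
          rwa [hF, ← Nat.div_add_mod p 5, pow_add, pow_mul, ha5 a ha, one_pow, one_mul] at this
        rcases hp2 with e | e <;> rw [e] at step
        · exact step a ha
        · have := step _ (step _ (step a ha))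
          rwa [← pow_mul, ← pow_mul, show 3 * 3 * 3 = 5 * 5 + 2 by norm_num, pow_add, pow_mul, ha5 a ha, one_pow,
            one_mul] at this
      obtain ⟨c, -, hcv, hcr⟩ := exists_scaled (r := 5) (by decide)
        (show z ^ 4 = 1 by linear_combination (z * z + 1) * hz2) hzx
      have hcc : (c : F) * c = 1 := by rw [hcv, ← mul_pow, hz2, one_pow]
      have hx'S : scalarGL c * x ∈ Cfsg.spGL 2 F := mul_mem (scalarGL_mem hcc) hxS
      have hx'ns : ∀ d : F, ((scalarGL c * x : GL (Fin 2 ⊕ Fin 2) F) : Matrix (Fin 2 ⊕ Fin 2) (Fin 2 ⊕ Fin 2) F) ≠ d • 1 :=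
        fun d hd => by
          rw [smul_val_mul (scalarGL_val c)] at hd
          refine hns ((c : F)⁻¹ * d) ?_
          rw [← smul_smul, ← hd, smul_smul, inv_mul_cancel₀ c.ne_zero, one_smul]
      obtain ⟨y, hyN, -, hy5, hyns, hyiso⟩ := exists_order_five h D
      have hyS : y ∈ Cfsg.spGL 2 F := hyiso _ (sform_symp 2) fun t ht => hRf ht
      have e1 : ((scalarGL c * x : GL (Fin 2 ⊕ Fin 2) F) : Matrix (Fin 2 ⊕ Fin 2) (Fin 2 ⊕ Fin 2) F) ^ 5 = 1 := by
        rw [← Units.val_pow_eq_pow_val, hcr, Units.val_one]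
      have e2 : (y : Matrix (Fin 2 ⊕ Fin 2) (Fin 2 ⊕ Fin 2) F) ^ 5 = 1 := by
        rw [← Units.val_pow_eq_pow_val, hy5, Units.val_one]
      obtain ⟨g, hg, e⟩ := exists_sp_conj hx'S hyS ((Nat.coprime_primes Nat.prime_five hp).mpr (Ne.symm hp5')) hcr hy5
        (charpoly_eq_five h5F hcard e1 e2 hx'ns hyns (hcl _ e1) (hcl _ e2))
      exact ⟨g, hg, conj_of_scaled (e ▸ hyN)⟩

end Cfsg.Agent.S6002
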